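import Groth.Agent.CAlgH3.CMRing
import Mathlib.RingTheory.TensorProduct.Quotient
import Mathlib.RingTheory.Flat.Basic

/-! Depth and Cohen-Macaulayness along flat local homomorphisms. -/

universe u

open IsLocalRing TensorProduct
open scoped Pointwise

namespace Groth.Agent.CAlgH3

section aux

variable {B : Type u} [CommRing B] [IsLocalRing B] [IsNoetherianRing B]
  {M : Type u} [AddCommGroup M] [Module B M] [Module.Finite B M]
  {Q : Type u} [AddCommGroup Q] [Module B Q]

/-- `Q = M/xM` with `x` regular on `M` has depth one less. -/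
theorem depth_eq_add_one_of_exact {x : B} (hx : x ∈ maximalIdeal B) (hreg : IsSMulRegular M x)
    (g : M →ₗ[B] Q) (hg : Function.Surjective g) (hexact : ∀ z, g z = 0 ↔ ∃ w, x • w = z) :
    _root_.LocCoh.depth B M = _root_.LocCoh.depth B Q + 1 := by
  have hk : LinearMap.ker g = x • (⊤ : Submodule B M) := by
    ext z
    rw [LinearMap.mem_ker, hexact, Submodule.mem_smul_pointwise_iff_exists]
    simp
  rw [← depth_congr ((Submodule.quotEquivOfEq _ _ hk.symm).trans (g.quotKerEquivOfSurjective hg)),
    depth_quotSMulTop_add_one hx hreg]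

end aux

variable {A B : Type u} [CommRing A] [CommRing B] [IsLocalRing A] [IsLocalRing B]
  [IsNoetherianRing A] [IsNoetherianRing B] [Algebra A B] [IsLocalHom (algebraMap A B)] [Module.Flat A B]

omit [IsNoetherianRing A] [IsNoetherianRing B] in
theorem algebraMap_mem_maximalIdeal {x : A} (hx : x ∈ maximalIdeal A) :
    algebraMap A B x ∈ maximalIdeal B :=
  map_nonunit _ x hx

theorem depth_tensor_quot {N : Type u} [AddCommGroup N] [Module A N] [Module.Finite A N] {x : A}
    (hx : x ∈ maximalIdeal A) (hreg : IsSMulRegular N x) :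
    _root_.LocCoh.depth B (B ⊗[A] N) = _root_.LocCoh.depth B (B ⊗[A] QuotSMulTop x N) + 1 := by
  let μ : N →ₗ[A] N := x • LinearMap.id
  have hμ : ∀ z : B ⊗[A] N, μ.lTensor B z = algebraMap A B x • z := by
    intro z
    rw [LinearMap.lTensor_smul, LinearMap.smul_apply, LinearMap.lTensor_id, LinearMap.id_apply,
      algebraMap_smul]
  have hex : Function.Exact μ (Submodule.mkQ (x • (⊤ : Submodule A N))) := by
    intro z
    rw [Submodule.mkQ_apply, Submodule.Quotient.mk_eq_zero, Submodule.mem_smul_pointwise_iff_exists]
    simp [μ]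
  have hex' := Module.Flat.lTensor_exact B hex
  refine depth_eq_add_one_of_exact (algebraMap_mem_maximalIdeal hx) ?_
    (AlgebraTensorModule.lTensor B B (Submodule.mkQ (x • (⊤ : Submodule A N)))) ?_ ?_
  · have hinj : Function.Injective μ := fun a b h => hreg h
    intro a b h
    refine Module.Flat.lTensor_preserves_injective_linearMap (M := B) μ hinj ?_
    rw [hμ, hμ]; exact h
  · exact LinearMap.lTensor_surjective B (Submodule.mkQ_surjective _)
  · intro z
    refine (hex' z).trans ?_
    simp only [Set.mem_range, hμ]

/-- The closed fibre bounds from below the depth of every `B ⊗ N`. -/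
theorem depth_fibre_le_depth_tensor (N : Type u) [AddCommGroup N] [Module A N] [Module.Finite A N] :
    _root_.LocCoh.depth B (B ⧸ (maximalIdeal A).map (algebraMap A B)) ≤
      _root_.LocCoh.depth B (B ⊗[A] N) := by
  suffices ∀ (I : Ideal A) (N : Type u) [AddCommGroup N] [Module A N] [Module.Finite A N],
      I ≤ Module.annihilator A N → _root_.LocCoh.depth B (B ⧸ (maximalIdeal A).map (algebraMap A B)) ≤
        _root_.LocCoh.depth B (B ⊗[A] N) from this ⊥ N bot_le
  intro I
  induction I using WellFoundedGT.induction with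
  | ind I ih =>
    intro N _ _ hN
    induction hN using IsNoetherianRing.induction_on_isQuotientEquivQuotientPrime A with
    | subsingleton N =>
      intro _
      have : Subsingleton (B ⊗[A] N) := inferInstance
      rw [depth_eq_top_of_subsingleton (M := B ⊗[A] N)]; exact le_top
    | quotient N p e =>
      intro hI
      have hI' : I ≤ p.asIdeal := by
        rwa [e.annihilator_eq, Ideal.annihilator_quotient] at hI
      by_cases hp : p.asIdeal = maximalIdeal A
      · let e₁ : B ⊗[A] N ≃ₗ[B] B ⊗[A] (A ⧸ p.asIdeal) := AlgebraTensorModule.congr (LinearEquiv.refl B B) e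
        rw [depth_congr (e₁.trans (Algebra.TensorProduct.quotIdealMapEquivTensorQuot B p.asIdeal).symm.toLinearEquiv), hp]
      obtain ⟨x, hxm, hxp⟩ := SetLike.exists_of_lt (lt_of_le_of_ne (le_maximalIdeal p.isPrime.ne_top) hp)
      have hreg : IsSMulRegular N x := by
        intro a b hab
        apply e.injective
        have h : x • e a = x • e b := by simpa using congrArg e hab
        obtain ⟨a', ha'⟩ := Ideal.Quotient.mk_surjective (e a)
        obtain ⟨b', hb'⟩ := Ideal.Quotient.mk_surjective (e b)
        rw [← ha', ← hb'] at h ⊢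
        rw [Algebra.smul_def, Algebra.smul_def, Ideal.Quotient.algebraMap_eq, ← map_mul, ← map_mul,
          Ideal.Quotient.mk_eq_mk_iff_sub_mem, ← mul_sub] at h
        rw [Ideal.Quotient.mk_eq_mk_iff_sub_mem]
        exact (p.isPrime.mem_or_mem h).resolve_left hxp
      rw [depth_tensor_quot hxm hreg]
      refine (ih (p.asIdeal ⊔ Ideal.span {x}) (lt_of_le_of_lt hI' ?_) _ ?_).trans le_self_add
      · exact lt_of_le_of_ne le_sup_left fun h => hxp (h ▸ Ideal.mem_sup_right (Ideal.mem_span_singleton_self x))
      · refine sup_le ?_ ((Ideal.span_singleton_le_iff_mem _).2 (Module.mem_annihilator.2 fun z => ?_))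
        · refine le_trans ?_ (LinearMap.annihilator_le_of_surjective _ (Submodule.mkQ_surjective (x • (⊤ : Submodule A N))))
          rw [e.annihilator_eq, Ideal.annihilator_quotient]
        · obtain ⟨z, rfl⟩ := Submodule.Quotient.mk_surjective _ z
          rw [← Submodule.Quotient.mk_smul, Submodule.Quotient.mk_eq_zero]
          exact Submodule.smul_mem_pointwise_smul _ _ _ trivial
    | exact N₁ N₂ N₃ f g hf hg hfg h₁ h₃ =>
      intro hI
      refine le_trans ?_ (LocCoh.idealDepth_shortExact (maximalIdeal B) _ _ _ (AlgebraTensorModule.lTensor B B f)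
        (AlgebraTensorModule.lTensor B B g) (Module.Flat.lTensor_preserves_injective_linearMap (M := B) f hf)
        (LinearMap.lTensor_surjective B hg) (Module.Flat.lTensor_exact B hfg)).1
      exact le_min (h₁ (hI.trans (f.annihilator_le_of_injective hf))) (h₃ (hI.trans (g.annihilator_le_of_surjective hg)))

/-- `depth (B ⊗ N) ≥ depth N + depth (B/mB)`. -/
theorem depth_add_depth_fibre_le : ∀ (n : ℕ) (N : Type u) [AddCommGroup N] [Module A N] [Module.Finite A N],
    (n : ℕ∞) ≤ _root_.LocCoh.depth A N →
    n + _root_.LocCoh.depth B (B ⧸ (maximalIdeal A).map (algebraMap A B)) ≤ _root_.LocCoh.depth B (B ⊗[A] N) := by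
  intro n
  induction n with
  | zero =>
    intro N _ _ _ _
    simpa using depth_fibre_le_depth_tensor N
  | succ n ih =>
    intro N _ _ _ h
    rcases subsingleton_or_nontrivial N with hN | hN
    · have : Subsingleton (B ⊗[A] N) := inferInstance
      rw [depth_eq_top_of_subsingleton (M := B ⊗[A] N)]; exact le_top
    obtain ⟨x, hx, hreg⟩ := exists_regular_of_one_le_depth (M := N) (le_trans (by simp) h)
    have : Nontrivial (QuotSMulTop x N) := nontrivial_quotSMulTop (M := N) hx
    rw [← depth_quotSMulTop_add_one hx hreg, natCast_add_one_le_iff] at h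
    rw [depth_tensor_quot hx hreg, Nat.cast_add, Nat.cast_one, add_right_comm]
    exact add_le_add (ih _ h) le_rfl

/-- `depth B ≥ depth A + depth (B/mB)`. -/
theorem depth_add_depth_fibre_le_self :
    _root_.LocCoh.depth A A + _root_.LocCoh.depth B (B ⧸ (maximalIdeal A).map (algebraMap A B)) ≤
      _root_.LocCoh.depth B B := by
  obtain ⟨n, hn⟩ := exists_depth_eq_natCast (R := A) (M := A)
  rw [hn, ← depth_congr (AlgebraTensorModule.rid A B B)]
  exact depth_add_depth_fibre_le n A hn.ge

/-- Flat local extension of a CM ring with CM fibre, given the dimension bound. -/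
theorem isCohenMacaulayLocalRing_of_flat [_root_.LocCoh.IsCohenMacaulayLocalRing A]
    (hdim : ringKrullDim B ≤ ringKrullDim A +
      ((_root_.LocCoh.depth B (B ⧸ (maximalIdeal A).map (algebraMap A B)) : ℕ∞) : WithBot ℕ∞)) :
    _root_.LocCoh.IsCohenMacaulayLocalRing B := by
  rw [isCohenMacaulayLocalRing_iff_depth]
  refine le_antisymm (hdim.trans ?_) ?_
  · rw [(isCohenMacaulayLocalRing_iff_depth A).1 inferInstance, ← WithBot.coe_add, WithBot.coe_le_coe]
    exact depth_add_depth_fibre_le_self
  · refine le_trans (depth_le_supportDim (M := B)) ?_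
    rw [Module.supportDim_self_eq_ringKrullDim]

end Groth.Agent.CAlgH3
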