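import Groth.Agent.FlatCrit.Tor
import Mathlib.CategoryTheory.Monoidal.Tor
import Mathlib.Algebra.Category.ModuleCat.Projective
import Mathlib.Algebra.Category.ModuleCat.EnoughInjectives
import Mathlib.Algebra.Category.ModuleCat.Monoidal.Symmetric
import Mathlib.Algebra.Category.ModuleCat.Abelian
import Mathlib.Algebra.Homology.ShortComplex.ModuleCat

/-! `Tor₁ N M = 0` in the derived-functor sense and in the injectivity sense. -/

universe u

namespace Groth.Agent.CAlgH3

open TensorProduct CategoryTheory CategoryTheory.Limits Function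

variable {R : Type u} [CommRing R]

/-- Balance: for presentations `A → B → N` and `K → F → M` with `B ⊗ K → B ⊗ F` injective,
injectivity of `A ⊗ M → B ⊗ M` gives injectivity of `N ⊗ K → N ⊗ F`. -/
theorem lTensor_injective_of_rTensor_injective {A B N K F M : Type u}
    [AddCommGroup A] [AddCommGroup B] [AddCommGroup N] [AddCommGroup K] [AddCommGroup F] [AddCommGroup M]
    [Module R A] [Module R B] [Module R N] [Module R K] [Module R F] [Module R M]
    {i : A →ₗ[R] B} {p : B →ₗ[R] N} {j : K →ₗ[R] F} {q : F →ₗ[R] M}
    (hip : Exact i p) (hp : Surjective p) (hjq : Exact j q) (hq : Surjective q)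
    (hB : Injective (j.lTensor B)) (h : Injective (i.rTensor M)) : Injective (j.lTensor N) := by
  rw [injective_iff_map_eq_zero]
  intro x hx
  obtain ⟨y, rfl⟩ := LinearMap.rTensor_surjective K hp x
  have h1 : p.rTensor F (j.lTensor B y) = 0 := by
    rw [← LinearMap.comp_apply, LinearMap.rTensor_comp_lTensor, ← LinearMap.lTensor_comp_rTensor,
      LinearMap.comp_apply, hx]
  obtain ⟨z, hz⟩ := (rTensor_exact F hip hp _).1 h1
  have h2 : i.rTensor M (q.lTensor A z) = i.rTensor M 0 := by
    rw [map_zero, ← LinearMap.comp_apply, LinearMap.rTensor_comp_lTensor, ← LinearMap.lTensor_comp_rTensor,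
      LinearMap.comp_apply, hz, ← LinearMap.comp_apply, ← LinearMap.lTensor_comp,
      hjq.linearMap_comp_eq_zero, LinearMap.lTensor_zero, LinearMap.zero_apply]
  obtain ⟨w, rfl⟩ := (lTensor_exact A hjq hq z).1 (h h2)
  have h3 : j.lTensor B (i.rTensor K w) = j.lTensor B y := by
    rw [← hz, ← LinearMap.comp_apply, LinearMap.lTensor_comp_rTensor, ← LinearMap.rTensor_comp_lTensor,
      LinearMap.comp_apply]
  rw [← hB h3, ← LinearMap.comp_apply, ← LinearMap.rTensor_comp, hip.linearMap_comp_eq_zero,
    LinearMap.rTensor_zero, LinearMap.zero_apply]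

theorem rTensor_injective_of_lTensor_injective {A B N K F M : Type u}
    [AddCommGroup A] [AddCommGroup B] [AddCommGroup N] [AddCommGroup K] [AddCommGroup F] [AddCommGroup M]
    [Module R A] [Module R B] [Module R N] [Module R K] [Module R F] [Module R M]
    {i : A →ₗ[R] B} {p : B →ₗ[R] N} {j : K →ₗ[R] F} {q : F →ₗ[R] M}
    (hip : Exact i p) (hp : Surjective p) (hjq : Exact j q) (hq : Surjective q)
    (hF : Injective (i.rTensor F)) (h : Injective (j.lTensor N)) : Injective (i.rTensor M) := by
  rw [← LinearMap.lTensor_inj_iff_rTensor_inj] at hF ⊢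
  exact lTensor_injective_of_rTensor_injective hjq hq hip hp hF ((LinearMap.lTensor_inj_iff_rTensor_inj N j).1 h)

theorem isZero_tor_one_iff (N M : Type u) [AddCommGroup N] [Module R N] [AddCommGroup M] [Module R M] :
    IsZero (((Tor (ModuleCat.{u} R) 1).obj (ModuleCat.of R N)).obj (ModuleCat.of R M)) ↔
      FlatCrit.TorVanish R M N := by
  let P := projectiveResolution (ModuleCat.of R M)
  let F₁ := (MonoidalCategory.tensoringLeft (ModuleCat.{u} R)).obj (ModuleCat.of R N)
  have e := P.isoLeftDerivedObj F₁ 1
  rw [show ((Tor (ModuleCat.{u} R) 1).obj (ModuleCat.of R N)).obj (ModuleCat.of R M) =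
      (F₁.leftDerived 1).obj (ModuleCat.of R M) from rfl, Iso.isZero_iff e,
    HomologicalComplex.homologyFunctor_obj, ← HomologicalComplex.exactAt_iff_isZero_homology,
    HomologicalComplex.exactAt_iff' _ 2 1 0 (by simp) (by simp), ShortComplex.moduleCat_exact_iff_range_eq_ker]
  change LinearMap.range ((P.complex.d 2 1).hom.lTensor N) = LinearMap.ker ((P.complex.d 1 0).hom.lTensor N) ↔ _
  set d₂ := (P.complex.d 2 1).hom
  set d₁ := (P.complex.d 1 0).hom
  let q : P.complex.X 0 →ₗ[R] M := (P.π.f 0).hom
  have hq : Surjective q := (ModuleCat.epi_iff_surjective (P.π.f 0)).1 inferInstance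
  have hd : LinearMap.range d₁ = LinearMap.ker q :=
    (ShortComplex.exact_of_g_is_cokernel (ShortComplex.mk _ _ P.complex_d_comp_π_f_zero)
      P.isColimitCokernelCofork).moduleCat_range_eq_ker
  have hd' : LinearMap.range d₂ = LinearMap.ker d₁ := (P.exact_succ 0).moduleCat_range_eq_ker
  let j := (LinearMap.range d₁).subtype
  have hjq : Exact j q := by rw [LinearMap.exact_iff, Submodule.range_subtype, hd]
  have hex : Exact d₂ d₁.rangeRestrict := by rw [LinearMap.exact_iff, LinearMap.ker_rangeRestrict, hd']
  have hd1 : d₁ = j ∘ₗ d₁.rangeRestrict := rfl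
  have hker : LinearMap.range (d₂.lTensor N) = LinearMap.ker (d₁.rangeRestrict.lTensor N) :=
    ((lTensor_exact N hex d₁.surjective_rangeRestrict).linearMap_ker_eq).symm
  have hproj : ∀ n, Module.Projective R (P.complex.X n) := fun n => by
    have := P.projective n
    exact (IsProjective.iff_projective (P.complex.X n)).2 this
  have := hproj 0
  have key : Injective (j.lTensor N) ↔ LinearMap.range (d₂.lTensor N) = LinearMap.ker (d₁.lTensor N) := by
    rw [hker, show d₁.lTensor N = j.lTensor N ∘ₗ d₁.rangeRestrict.lTensor N from by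
      rw [← LinearMap.lTensor_comp, ← hd1], LinearMap.ker_comp]
    constructor
    · intro h
      rw [LinearMap.ker_eq_bot.2 h, Submodule.comap_bot]
    · intro h
      rw [← LinearMap.ker_eq_bot, eq_bot_iff]
      intro x hx
      obtain ⟨y, rfl⟩ := LinearMap.lTensor_surjective N d₁.surjective_rangeRestrict x
      exact h.ge hx
  rw [← key]
  constructor
  · intro h A B _ _ _ _ i p hip hp hi
    exact rTensor_injective_of_lTensor_injective hip hp hjq hq
      (Module.Flat.rTensor_preserves_injective_linearMap i hi) h
  · intro h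
    have gen : ∀ (B : Type u) [AddCommGroup B] [Module R B] [Module.Flat R B] (p : B →ₗ[R] N),
        Surjective p → Injective (j.lTensor N) := by
      intro B _ _ _ p hp
      have hip : Exact (LinearMap.ker p).subtype p := LinearMap.exact_subtype_ker_map p
      exact lTensor_injective_of_rTensor_injective hip hp hjq hq
        (Module.Flat.lTensor_preserves_injective_linearMap j Subtype.val_injective)
        (h (LinearMap.ker p).subtype p hip hp Subtype.val_injective)
    exact gen (N →₀ R) (Finsupp.linearCombination R (id : N → N)) fun n => ⟨Finsupp.single n 1, by simp⟩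

end Groth.Agent.CAlgH3
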