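import Groth.Agent.CAlgH3.ProjDim
import Groth.Agent.CAlgH3.TorBridge
import Mathlib.RingTheory.LocalProperties.ProjectiveDimension
import Mathlib.RingTheory.Flat.FaithfullyFlat.Algebra
import Mathlib.LinearAlgebra.Dual.Lemmas
import Mathlib.RingTheory.TensorProduct.Quotient
import Mathlib.RingTheory.Localization.BaseChange
import Mathlib.RingTheory.Ideal.Cotangent
import Mathlib.RingTheory.Flat.EquationalCriterion

/-! Serre's criterion for regularity and its consequences. -/

universe u

open IsLocalRing CategoryTheory Function TensorProduct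
open scoped Pointwise

namespace Groth.Agent.CAlgH3

variable {R : Type u} [CommRing R]

/-- Reduction modulo a regular element preserves finite projective dimension. -/
theorem pd_baseChange_quotient [IsNoetherianRing R] {x : R} (hxR : IsSMulRegular R x) :
    ∀ (n : ℕ) (M : Type u) [AddCommGroup M] [Module R M] [Module.Finite R M],
      IsSMulRegular M x → PD R (n + 1) M → PD (R ⧸ Ideal.span {x}) (n + 1) ((R ⧸ Ideal.span {x}) ⊗[R] M) := by
  intro n
  induction n with
  | zero =>
    intro M _ _ _ _ h
    have := pd_one_iff.1 h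
    exact pd_one_iff.2 inferInstance
  | succ n ih =>
    intro M _ _ _ hreg h
    obtain ⟨m, f, hf⟩ := Module.Finite.exists_fin' R M
    let R' := R ⧸ Ideal.span {x}
    have hF : IsSMulRegular (Fin m → R) x := IsSMulRegular.pi fun _ => hxR
    have hK := ih (LinearMap.ker f) (hF.submodule _ x) ((pd_ker_iff hf n).1 h)
    have hex : Exact (LinearMap.ker f).subtype f := LinearMap.exact_subtype_ker_map f
    let i : R →ₗ[R] R := x • LinearMap.id
    have hip : Exact i (Submodule.mkQ (Ideal.span {x})) := by
      intro y
      rw [Submodule.mkQ_apply, Submodule.Quotient.mk_eq_zero, Ideal.mem_span_singleton']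
      exact ⟨fun ⟨a, ha⟩ => ⟨a, by simp [i, ← ha, mul_comm]⟩, fun ⟨a, ha⟩ => ⟨a, by simp [i] at ha; rw [← ha, mul_comm]⟩⟩
    have hinj : Injective ((LinearMap.ker f).subtype.lTensor R') := by
      refine lTensor_injective_of_rTensor_injective hip (Submodule.mkQ_surjective _) hex hf
        (Module.Flat.lTensor_preserves_injective_linearMap _ Subtype.val_injective) ?_
      have hc : ∀ z, TensorProduct.lid R M (i.rTensor M z) = x • TensorProduct.lid R M z := by
        intro z
        induction z with
        | zero => simp
        | add a b ha hb => simp [ha, hb]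
        | tmul a b => simp [i, smul_smul]
      intro a b hab
      apply (TensorProduct.lid R M).injective
      apply hreg
      simp only [← hc, hab]
    have hexR := lTensor_exact R' hex hf
    exact (pd_of_ses ((LinearMap.ker f).subtype.baseChange R') (f.baseChange R') hinj
      (LinearMap.lTensor_surjective R' hf) hexR).2.2 hK (pd_mono (by omega) (pd_one_iff.2 inferInstance))

theorem exists_notMem_sq_regular [IsLocalRing R] [IsNoetherianRing R] {M : Type u} [AddCommGroup M] [Module R M]
    [Module.Finite R M] (hm : maximalIdeal R ≠ ⊥) (hass : maximalIdeal R ∉ associatedPrimes R M) :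
    ∃ x ∈ maximalIdeal R, x ∉ maximalIdeal R ^ 2 ∧ IsSMulRegular M x := by
  classical
  by_contra! hcon
  have hsub : (maximalIdeal R : Set R) ⊆
      ⋃ i ∈ (↑(insert (maximalIdeal R ^ 2) (associatedPrimes.finite R M).toFinset) : Set (Ideal R)), ((id i : Ideal R) : Set R) := by
    intro y hy
    simp only [Set.mem_iUnion, id_eq, SetLike.mem_coe, exists_prop]
    by_cases hy2 : y ∈ maximalIdeal R ^ 2
    · exact ⟨_, Finset.mem_insert_self _ _, hy2⟩
    · have hnot := hcon y hy hy2
      rw [isSMulRegular_iff_right_eq_zero_of_smul] at hnot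
      push Not at hnot
      obtain ⟨m, hm1, hm2⟩ := hnot
      have : y ∈ ⋃ q ∈ associatedPrimes R M, (q : Set R) := by
        rw [biUnion_associatedPrimes_eq_zero_divisors]; exact ⟨m, hm2, hm1⟩
      simp only [Set.mem_iUnion, SetLike.mem_coe] at this
      obtain ⟨q, hq, hyq⟩ := this
      exact ⟨q, Finset.mem_insert_of_mem ((associatedPrimes.finite R M).mem_toFinset.2 hq), hyq⟩
  obtain ⟨i, hi, hmi⟩ := (Ideal.subset_union_prime (maximalIdeal R ^ 2) (maximalIdeal R ^ 2) (fun i hi hne _ =>
    IsAssociatedPrime.isPrime ((associatedPrimes.finite R M).mem_toFinset.1 ((Finset.mem_insert.1 hi).resolve_left hne)))).1 hsub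
  rcases Finset.mem_insert.1 hi with rfl | hi
  · refine hm (Submodule.eq_bot_of_le_smul_of_le_jacobson_bot (maximalIdeal R) (maximalIdeal R)
      (IsNoetherian.noetherian _) ?_ (maximalIdeal_le_jacobson _))
    rw [smul_eq_mul, ← pow_two]; exact hmi
  · have hq := (associatedPrimes.finite R M).mem_toFinset.1 hi
    exact hass ((maximalIdeal.isMaximal R).eq_of_le (IsAssociatedPrime.isPrime hq).ne_top hmi ▸ hq)

theorem regular_of_pd_aux : ∀ (d : ℕ) (R : Type u) [CommRing R] [IsLocalRing R] [IsNoetherianRing R],
    (maximalIdeal R).spanFinrank = d → (∃ n, PD R n (R ⧸ maximalIdeal R)) → IsRegularLocalRing R := by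
  intro d
  induction d using Nat.strong_induction_on with
  | _ d ih =>
    intro R _ _ _ hd ⟨n, hn⟩
    classical
    by_cases hm : maximalIdeal R = ⊥
    · let := (IsLocalRing.isField_iff_maximalIdeal_eq.2 hm).toField
      infer_instance
    have : Nontrivial (R ⧸ maximalIdeal R) := Ideal.Quotient.nontrivial_iff.2 (maximalIdeal.isMaximal R).ne_top
    have hass : maximalIdeal R ∉ associatedPrimes R R := by
      intro hass
      have h0 := depth_eq_zero_iff.2 hass
      have hex : ∃ e, PD R e (R ⧸ maximalIdeal R) := ⟨n, hn⟩
      obtain ⟨e, he⟩ : ∃ e, Nat.find hex = e + 1 := ⟨Nat.find hex - 1, by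
        have : Nat.find hex ≠ 0 := fun h => by
          have h1 := Nat.find_spec hex
          rw [h, pd_zero_iff] at h1
          exact not_subsingleton _ h1
        omega⟩
      have hAB := depth_add_of_pd e (R ⧸ maximalIdeal R) (he ▸ Nat.find_spec hex) (Nat.find_min hex (by omega))
      rw [h0, eq_comm, add_eq_zero] at hAB
      have he0 : e = 0 := by exact_mod_cast hAB.1
      subst he0
      have := pd_one_iff.1 (by simpa [he] using Nat.find_spec hex : PD R 1 (R ⧸ maximalIdeal R))
      have : Module.Free R (R ⧸ maximalIdeal R) := Module.free_of_flat_of_isLocalRing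
      apply hm
      rw [← Ideal.annihilator_quotient (I := maximalIdeal R)]
      let b := Module.Free.chooseBasis R (R ⧸ maximalIdeal R)
      obtain ⟨i⟩ := b.index_nonempty
      rw [eq_bot_iff]
      intro r hr
      have := congrArg (fun z => b.repr z i) (Module.mem_annihilator.1 hr (b i))
      simpa using this
    obtain ⟨x, hxm, hx2, hreg⟩ := exists_notMem_sq_regular (M := R) hm hass
    let R' := R ⧸ Ideal.span {x}
    have : IsLocalRing R' := isLocalRing_quotient (span_singleton_le_maximal hxm)
    have hpm : PD R (n + 1) (maximalIdeal R) :=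
      (pd_of_ses (maximalIdeal R).subtype (maximalIdeal R).mkQ Subtype.val_injective (Submodule.mkQ_surjective _)
        (LinearMap.exact_subtype_mkQ _)).2.1 (pd_mono (by omega) (pd_one_iff.2 inferInstance)) (pd_mono (by omega) hn)
    have hpm' := pd_baseChange_quotient hreg n (maximalIdeal R) (hreg.submodule _ x) hpm
    -- the residue field is a retract of `R' ⊗ m`
    obtain ⟨g, hg⟩ : ∃ g : maximalIdeal R →ₗ[R] ResidueField R, g ⟨x, hxm⟩ = 1 := by
      have hne : (maximalIdeal R).toCotangent ⟨x, hxm⟩ ≠ 0 := by
        rwa [Ne, Ideal.toCotangent_eq_zero]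
      obtain ⟨φ, hφ⟩ := Module.Projective.exists_dual_eq_one (ResidueField R) (V := CotangentSpace R) hne
      exact ⟨φ.restrictScalars R ∘ₗ (maximalIdeal R).toCotangent, hφ⟩
    have hle : Ideal.span {x} ≤ maximalIdeal R := span_singleton_le_maximal hxm
    have hmap : maximalIdeal R' = (maximalIdeal R).map (Ideal.Quotient.mk (Ideal.span {x})) :=
      (IsLocalRing.map_maximalIdeal_of_surjective _ Ideal.Quotient.mk_surjective).symm
    let j : R →ₗ[R] R' ⧸ maximalIdeal R' :=
      ((maximalIdeal R').mkQ.restrictScalars R) ∘ₗ Algebra.linearMap R R'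
    have hj : maximalIdeal R ≤ LinearMap.ker j := by
      intro r hr
      simp only [j, LinearMap.mem_ker, LinearMap.comp_apply, LinearMap.restrictScalars_apply, Submodule.mkQ_apply,
        Submodule.Quotient.mk_eq_zero]
      exact hmap ▸ Ideal.mem_map_of_mem _ hr
    let g' : maximalIdeal R →ₗ[R] R' ⧸ maximalIdeal R' := Submodule.liftQ _ j hj ∘ₗ g
    let β : R' ⊗[R] maximalIdeal R →ₗ[R'] R' ⧸ maximalIdeal R' := LinearMap.liftBaseChange R' g'
    let α₀ : R' →ₗ[R'] R' ⊗[R] maximalIdeal R := LinearMap.toSpanSingleton R' _ (1 ⊗ₜ ⟨x, hxm⟩)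
    have hα : maximalIdeal R' ≤ LinearMap.ker α₀ := by
      intro r hr
      rw [hmap, Ideal.mem_map_iff_of_surjective _ Ideal.Quotient.mk_surjective] at hr
      obtain ⟨r, hr, rfl⟩ := hr
      rw [LinearMap.mem_ker, LinearMap.toSpanSingleton_apply]
      rw [← Ideal.Quotient.algebraMap_eq, algebraMap_smul, ← tmul_smul,
        show r • (⟨x, hxm⟩ : maximalIdeal R) = x • ⟨r, hr⟩ from Subtype.ext (mul_comm r x), tmul_smul,
        ← algebraMap_smul R' x, Ideal.Quotient.algebraMap_eq,
        Ideal.Quotient.eq_zero_iff_mem.2 (Ideal.mem_span_singleton_self x), zero_smul]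
    have hret : β ∘ₗ Submodule.liftQ _ α₀ hα = LinearMap.id := by
      refine Submodule.linearMap_qext _ (LinearMap.ext_ring ?_)
      simp only [LinearMap.comp_apply, Submodule.mkQ_apply, Submodule.liftQ_apply, LinearMap.id_apply, α₀,
        LinearMap.toSpanSingleton_apply, one_smul, β, LinearMap.liftBaseChange_tmul]
      change Submodule.liftQ _ j hj (g ⟨x, hxm⟩) = _
      rw [hg]
      rfl
    have hk := pd_retract (Submodule.liftQ _ α₀ hα) β hret hpm'
    have hlt : (maximalIdeal R').spanFinrank < d := by
      obtain ⟨s, hscard, hs⟩ := (IsNoetherian.noetherian (maximalIdeal R)).exists_span_finset_card_eq_spanFinrank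
      obtain ⟨c, hc⟩ := Submodule.mem_span_finset.1 (hs ▸ hxm : x ∈ Submodule.span R (s : Set R))
      obtain ⟨e, he, heu⟩ : ∃ e ∈ s, IsUnit (c e) := by
        by_contra! h
        apply hx2
        rw [← hc.2, pow_two]
        exact sum_mem fun e he => by
          rw [smul_eq_mul]
          exact Ideal.mul_mem_mul ((mem_maximalIdeal _).2 (h e he)) (hs ▸ Submodule.subset_span he)
      have hle' : maximalIdeal R ≤ Ideal.span ↑(insert x (s.erase e)) := by
        rw [← hs]
        refine Submodule.span_le.2 fun z hz => ?_
        by_cases hze : z = e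
        · subst hze
          obtain ⟨u, hu⟩ := heu
          have hz' : c z * z = x - ∑ i ∈ s.erase z, c i • i := by
            rw [← hc.2, ← Finset.add_sum_erase _ _ hz]; simp
          have hmem : ↑u⁻¹ * (x - ∑ i ∈ s.erase z, c i • i) ∈ Ideal.span ↑(insert x (s.erase z)) := by
            refine Ideal.mul_mem_left _ _ (sub_mem (Ideal.subset_span (by simp)) (sum_mem fun i hi => ?_))
            exact Submodule.smul_mem _ _ (Ideal.subset_span (by simp [Finset.mem_of_mem_erase hi, Finset.ne_of_mem_erase hi]))
          rw [← hz', ← hu, Units.inv_mul_cancel_left] at hmem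
          exact hmem
        · exact Ideal.subset_span (by simp [hze, Finset.mem_coe.1 hz])
      have hm' : maximalIdeal R' = Ideal.ofList ((s.erase e).toList.map (Ideal.Quotient.mk (Ideal.span {x}))) := by
        rw [hmap, ← Ideal.map_ofList]
        apply le_antisymm
        · refine (Ideal.map_mono hle').trans ?_
          rw [Finset.coe_insert, Ideal.span_insert, Ideal.map_sup, Ideal.map_quotient_self, bot_sup_eq, Ideal.ofList]
          refine le_of_eq ?_
          congr 2
          ext z
          simp [and_comm]
        · refine Ideal.map_mono ?_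
          rw [Ideal.ofList, ← hs]
          exact Submodule.span_mono fun z hz => Finset.mem_of_mem_erase (Finset.mem_toList.1 hz)
      have hl := spanFinrank_le_length _ hm'.symm
      rw [List.length_map, Finset.length_toList, Finset.card_erase_of_mem he, hscard, hd] at hl
      have : d ≠ 0 := by rw [← hd, ← hscard]; exact Finset.card_ne_zero_of_mem he
      omega
    have := ih _ hlt R' rfl ⟨n + 1, hk⟩
    exact isRegularLocalRing_of_quotient hxm hreg

theorem isRegularLocalRing_of_pd [IsLocalRing R] [IsNoetherianRing R] {n : ℕ}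
    (h : PD R n (R ⧸ maximalIdeal R)) : IsRegularLocalRing R :=
  regular_of_pd_aux _ R rfl ⟨n, h⟩

theorem isRegularLocalRing_localization [IsRegularLocalRing R] (p : Ideal R) [p.IsPrime] :
    IsRegularLocalRing (Localization.AtPrime p) := by
  have hp : HasProjectiveDimensionLE (ModuleCat.of R (R ⧸ p)) (maximalIdeal R).spanFinrank := pd_finite (R ⧸ p)
  have h := ModuleCat.localizedModule_hasProjectiveDimensionLE (maximalIdeal R).spanFinrank p.primeCompl (ModuleCat.of R (R ⧸ p))
  have : IsNoetherianRing (Localization.AtPrime p) := IsLocalization.isNoetherianRing p.primeCompl _ inferInstance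
  refine isRegularLocalRing_of_pd (n := (maximalIdeal R).spanFinrank + 1) ?_
  let e : (ModuleCat.of R (R ⧸ p)).localizedModule p.primeCompl ≃ₗ[Localization.AtPrime p]
      (Localization.AtPrime p ⧸ maximalIdeal (Localization.AtPrime p)) :=
    (Shrink.linearEquiv (Localization.AtPrime p) (LocalizedModule p.primeCompl (R ⧸ p))).trans
      ((LocalizedModule.equivTensorProduct p.primeCompl (R ⧸ p)).trans
        ((Algebra.TensorProduct.quotIdealMapEquivTensorQuot (Localization.AtPrime p) p).toLinearEquiv.symm.trans
          (Submodule.quotEquivOfEq _ _ Localization.AtPrime.map_eq_maximalIdeal)))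
  exact (pd_congr (M := ((ModuleCat.of R (R ⧸ p)).localizedModule p.primeCompl : Type u)) e).1 h

theorem isRegularRing_of_isRegularLocalRing [IsRegularLocalRing R] : IsRegularRing R :=
  isRegularRing_iff.2 fun p _ => isRegularLocalRing_localization p

theorem pd_descent [IsNoetherianRing R] {S : Type u} [CommRing S] [Algebra R S] [Module.FaithfullyFlat R S] :
    ∀ (n : ℕ) (M : Type u) [AddCommGroup M] [Module R M] [Module.Finite R M],
      PD S (n + 1) (S ⊗[R] M) → PD R (n + 1) M := by
  intro n
  induction n with
  | zero =>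
    intro M _ _ _ h
    have := pd_one_iff.1 h
    have : Module.Flat R M := Module.Flat.of_flat_tensorProduct R M S
    have : Module.FinitePresentation R M := Module.finitePresentation_of_finite R M
    exact pd_one_iff.2 (Module.Flat.projective_of_finitePresentation (R := R) (M := M))
  | succ n ih =>
    intro M _ _ _ h
    obtain ⟨m, f, hf⟩ := Module.Finite.exists_fin' R M
    rw [pd_ker_iff hf]
    apply ih
    exact (pd_of_ses ((LinearMap.ker f).subtype.baseChange S) (f.baseChange S)
      (Module.Flat.lTensor_preserves_injective_linearMap _ Subtype.val_injective)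
      (LinearMap.lTensor_surjective S hf) (lTensor_exact S (LinearMap.exact_subtype_ker_map f) hf)).2.1
      (pd_mono (by omega) (pd_one_iff.2 inferInstance)) h

theorem isRegularLocalRing_of_flat [IsLocalRing R] [IsNoetherianRing R] (S : Type u) [CommRing S]
    [IsRegularLocalRing S] [Algebra R S] [IsLocalHom (algebraMap R S)] [Module.Flat R S] :
    IsRegularLocalRing R := by
  have : Module.FaithfullyFlat R S := Module.FaithfullyFlat.of_flat_of_isLocalHom
  exact isRegularLocalRing_of_pd (pd_descent (S := S) _ (R ⧸ maximalIdeal R) (pd_all _))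

end Groth.Agent.CAlgH3
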