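import Mathlib.RingTheory.RegularLocalRing.Defs
import Mathlib.RingTheory.Ideal.MinimalPrime.Noetherian
import Mathlib.RingTheory.IntegralClosure.IntegrallyClosed
import Mathlib.RingTheory.Filtration
import Mathlib.RingTheory.Localization.FractionRing
import Mathlib.RingTheory.Multiplicity

/-! Regular local rings: quotient by a regular parameter, domain, normality. -/

namespace Groth.Agent.CAlgH3

open IsLocalRing

universe u

variable {A : Type u} [CommRing A]

lemma exists_nat_eq_of_le_spanFinrank {B : Type*} [CommRing B] [Nontrivial B] {N : ℕ}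
    (h : ringKrullDim B ≤ N) : ∃ n : ℕ, ringKrullDim B = n := by
  have h0 := ringKrullDim_nonneg_of_nontrivial (R := B)
  obtain ⟨v, hv⟩ : ∃ v : ℕ∞, ringKrullDim B = (v : WithBot ℕ∞) := by
    cases hb : ringKrullDim B with
    | bot => rw [hb] at h0; simp at h0
    | coe v => exact ⟨v, rfl⟩
  rw [hv] at h ⊢
  cases v with
  | top => exact absurd (WithBot.coe_le_coe.1 h) (not_le.2 (ENat.coe_lt_top N))
  | coe n => exact ⟨n, rfl⟩

/-- In a regular local ring of dimension `d`, killing `x ∈ m ∖ m²` gives a regular local ring of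
dimension `d - 1`. -/
theorem regular_quotient_of_notMem_sq [IsRegularLocalRing A] {x : A} (hx : x ∈ maximalIdeal A)
    (hx2 : x ∉ maximalIdeal A ^ 2) :
    IsRegularLocalRing (A ⧸ Ideal.span {x}) ∧
      (maximalIdeal A).spanFinrank = ringKrullDim (A ⧸ Ideal.span {x}) + 1 := by
  classical
  have hne : Ideal.span {x} ≠ ⊤ := fun h =>
    (maximalIdeal.isMaximal A).ne_top (eq_top_iff.2 (h ▸ (Ideal.span_le.2 (Set.singleton_subset_iff.2 hx))))
  have : Nontrivial (A ⧸ Ideal.span {x}) := Ideal.Quotient.nontrivial_iff.2 hne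
  have : IsLocalRing (A ⧸ Ideal.span {x}) := IsLocalRing.of_surjective' (Ideal.Quotient.mk _) Ideal.Quotient.mk_surjective
  obtain ⟨s, hscard, hs⟩ := (IsNoetherian.noetherian (maximalIdeal A)).exists_span_finset_card_eq_spanFinrank
  obtain ⟨c, hc⟩ := Submodule.mem_span_finset.1 (hs ▸ hx : x ∈ Submodule.span A (s : Set A))
  obtain ⟨g, hg, hgu⟩ : ∃ g ∈ s, IsUnit (c g) := by
    by_contra! h
    apply hx2
    rw [← hc.2, pow_two]
    refine sum_mem fun g hg => ?_
    rw [smul_eq_mul]
    exact Ideal.mul_mem_mul ((mem_maximalIdeal _).2 (h g hg)) (hs ▸ Submodule.subset_span hg)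
  have hle : maximalIdeal (A ⧸ Ideal.span {x}) ≤ Ideal.span ↑((s.erase g).image (Ideal.Quotient.mk (Ideal.span {x}))) := by
    have hm : maximalIdeal A ≤ Ideal.span {x} ⊔ Ideal.span ↑(s.erase g) := by
      rw [← hs]
      refine Submodule.span_le.2 fun h hh => ?_
      by_cases hhg : h = g
      · subst hhg
        have e : c h * h = x - ∑ i ∈ s.erase h, c i • i := by
          rw [← hc.2, ← Finset.add_sum_erase _ _ hg]; simp
        obtain ⟨u, hu⟩ := hgu
        have hmem : ↑u⁻¹ * (x - ∑ i ∈ s.erase h, c i • i) ∈ Ideal.span {x} ⊔ Ideal.span ↑(s.erase h) := by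
          refine Ideal.mul_mem_left _ _ (sub_mem (Ideal.mem_sup_left (Ideal.mem_span_singleton_self x)) (sum_mem fun i hi => ?_))
          exact Submodule.smul_mem _ _ (Ideal.mem_sup_right (Ideal.subset_span hi))
        rw [← e, ← hu, Units.inv_mul_cancel_left] at hmem
        exact hmem
      · exact Ideal.mem_sup_right (Ideal.subset_span (Finset.mem_coe.2 (Finset.mem_erase.2 ⟨hhg, hh⟩)))
    intro y hy
    obtain ⟨y, rfl⟩ := Ideal.Quotient.mk_surjective y
    have hy' : y ∈ maximalIdeal A := by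
      rw [mem_maximalIdeal, mem_nonunits_iff] at hy ⊢
      exact fun h => hy (h.map _)
    obtain ⟨a, ha, b, hb, rfl⟩ := Submodule.mem_sup.1 (hm hy')
    rw [map_add, Ideal.Quotient.eq_zero_iff_mem.2 ha, zero_add, Finset.coe_image, ← Ideal.map_span]
    exact Ideal.mem_map_of_mem _ hb
  have hmax : maximalIdeal (A ⧸ Ideal.span {x}) = Ideal.span ↑((s.erase g).image (Ideal.Quotient.mk (Ideal.span {x}))) := by
    refine le_antisymm hle (Ideal.span_le.2 fun y hy => ?_)
    obtain ⟨z, hz, rfl⟩ := Finset.mem_image.1 hy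
    rw [SetLike.mem_coe, mem_maximalIdeal, mem_nonunits_iff]
    intro hu
    have : IsLocalHom (Ideal.Quotient.mk (Ideal.span {x})) :=
      IsLocalHom.of_surjective _ Ideal.Quotient.mk_surjective
    exact (mem_maximalIdeal z).1 (hs ▸ Submodule.subset_span (Finset.mem_of_mem_erase hz)) (IsUnit.of_map (Ideal.Quotient.mk _) z hu)
  have hcard : (maximalIdeal (A ⧸ Ideal.span {x})).spanFinrank + 1 ≤ (maximalIdeal A).spanFinrank := by
    rw [hmax, ← hscard]
    refine le_trans (Nat.add_le_add_right ((Submodule.spanFinrank_span_le_ncard_of_finite (Finset.finite_toSet _)).trans ?_) 1)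
      (le_of_eq (Finset.card_erase_add_one hg))
    rw [Set.ncard_coe_finset]
    exact Finset.card_image_le
  have hdim : ringKrullDim A ≤ ringKrullDim (A ⧸ Ideal.span {x}) + 1 := by
    refine (ringKrullDim_le_ringKrullDim_quotient_add_encard {x} ?_).trans ?_
    · rw [Set.singleton_subset_iff, IsLocalRing.ringJacobson_eq_maximalIdeal]; exact hx
    · simp
  rw [← IsRegularLocalRing.spanFinrank_maximalIdeal] at hdim
  have hle' := ringKrullDim_le_spanFinrank_maximalIdeal (A ⧸ Ideal.span {x})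
  have h1 : ((maximalIdeal (A ⧸ Ideal.span {x})).spanFinrank : WithBot ℕ∞) + 1 ≤ ringKrullDim (A ⧸ Ideal.span {x}) + 1 := by
    exact le_trans (by exact_mod_cast hcard) hdim
  have hreg : ((maximalIdeal (A ⧸ Ideal.span {x})).spanFinrank : WithBot ℕ∞) ≤ ringKrullDim (A ⧸ Ideal.span {x}) := by
    obtain ⟨n, hn⟩ : ∃ n : ℕ, ringKrullDim (A ⧸ Ideal.span {x}) = n := exists_nat_eq_of_le_spanFinrank hle'
    rw [hn] at h1 ⊢
    exact_mod_cast Nat.le_of_succ_le_succ (by exact_mod_cast h1)
  refine ⟨IsRegularLocalRing.of_spanFinrank_maximalIdeal_le _ hreg, le_antisymm hdim ?_⟩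
  rw [le_antisymm hle' hreg]
  exact_mod_cast hcard

/-- Complete integral closedness, phrased by divisibility. -/
def DivClosed (A : Type u) [CommRing A] : Prop :=
  ∀ a b : A, b ≠ 0 → (∃ c : A, c ≠ 0 ∧ ∀ n : ℕ, b ^ n ∣ c * a ^ n) → b ∣ a

/-- Nagata-type lemma: lift `DivClosed` along a prime element. -/
theorem divClosed_of_prime [IsDomain A] [IsNoetherianRing A] [IsLocalRing A] {x : A} (hx : Prime x)
    (h : DivClosed (A ⧸ Ideal.span {x})) : DivClosed A := by
  classical
  have hxm : Ideal.span {x} ≤ maximalIdeal A :=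
    le_maximalIdeal (by simp [Ideal.span_singleton_eq_top, hx.not_unit])
  have hprime : (Ideal.span {x}).IsPrime := (Ideal.span_singleton_prime hx.ne_zero).2 hx
  have hfin : ∀ a : A, a ≠ 0 → ∃ i a', ¬ x ∣ a' ∧ a = x ^ i * a' := fun a ha => by
    have hf : FiniteMultiplicity x a := FiniteMultiplicity.of_prime_left hx ha
    obtain ⟨a', h1, h2⟩ := hf.exists_eq_pow_mul_and_not_dvd
    exact ⟨_, a', h2, h1⟩
  -- the case of a denominator prime to `x`
  have main : ∀ b : A, ¬ x ∣ b → ∀ a : A, (∃ c : A, c ≠ 0 ∧ ∀ n : ℕ, b ^ n ∣ c * a ^ n) → b ∣ a := by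
    intro b hb
    have hbn : ∀ n, ¬ x ∣ b ^ n := fun n hh => hb (hx.dvd_of_dvd_pow hh)
    have key : ∀ a : A, (∃ c : A, c ≠ 0 ∧ ∀ n : ℕ, b ^ n ∣ c * a ^ n) →
        ∃ q a1 : A, a = b * q + x * a1 ∧ ∃ c : A, c ≠ 0 ∧ ∀ n : ℕ, b ^ n ∣ c * a1 ^ n := by
      rintro a ⟨c, hc, hn⟩
      obtain ⟨k, c', hc', rfl⟩ := hfin c hc
      have hn' : ∀ n, b ^ n ∣ c' * a ^ n := fun n => by
        obtain ⟨r, hr⟩ := hn n
        have : x ^ k ∣ b ^ n * r := ⟨c' * a ^ n, by rw [← hr]; ring⟩
        obtain ⟨r', rfl⟩ := hx.pow_dvd_of_dvd_mul_left k (hbn n) this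
        exact ⟨r', mul_left_cancel₀ (pow_ne_zero k hx.ne_zero) (by linear_combination hr)⟩
      obtain ⟨q, hq⟩ := h (Ideal.Quotient.mk _ a) (Ideal.Quotient.mk _ b)
        (by rwa [Ne, Ideal.Quotient.eq_zero_iff_mem, Ideal.mem_span_singleton])
        ⟨Ideal.Quotient.mk _ c', by rwa [Ne, Ideal.Quotient.eq_zero_iff_mem, Ideal.mem_span_singleton],
          fun n => by simpa only [map_mul, map_pow] using map_dvd (Ideal.Quotient.mk (Ideal.span {x})) (hn' n)⟩
      obtain ⟨q, rfl⟩ := Ideal.Quotient.mk_surjective q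
      rw [← map_mul, Ideal.Quotient.eq, Ideal.mem_span_singleton] at hq
      obtain ⟨a1, ha1⟩ := hq
      refine ⟨q, a1, by linear_combination ha1, c', fun h0 => hc' (h0 ▸ dvd_zero x), fun n => ?_⟩
      have h2 : b ^ n ∣ c' * (x * a1) ^ n := by
        rw [← ha1, sub_eq_add_neg, add_pow, Finset.mul_sum]
        refine Finset.dvd_sum fun m hm => ?_
        have : b ^ m * b ^ (n - m) ∣ (c' * a ^ m) * (-(b * q)) ^ (n - m) :=
          mul_dvd_mul (hn' m) (pow_dvd_pow_of_dvd ((dvd_mul_right b q).neg_right) _)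
        rw [← pow_add, Nat.add_sub_cancel' (Nat.lt_succ_iff.1 (Finset.mem_range.1 hm))] at this
        exact this.trans ⟨(n.choose m : A), by ring⟩
      obtain ⟨r, hr⟩ := h2
      have : x ^ n ∣ b ^ n * r := ⟨c' * a1 ^ n, by rw [← hr]; ring⟩
      obtain ⟨r', rfl⟩ := hx.pow_dvd_of_dvd_mul_left n (hbn n) this
      exact ⟨r', mul_left_cancel₀ (pow_ne_zero n hx.ne_zero) (by linear_combination hr)⟩
    intro a ha
    have hmem : ∀ N (a : A), (∃ c : A, c ≠ 0 ∧ ∀ n : ℕ, b ^ n ∣ c * a ^ n) →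
        a ∈ Ideal.span {b} ⊔ (Ideal.span {x}) ^ N := by
      intro N
      induction N with
      | zero => intro a _; simp
      | succ N ih =>
        intro a ha
        obtain ⟨q, a1, rfl, h1⟩ := key a ha
        obtain ⟨y, hy, z, hz, rfl⟩ := Submodule.mem_sup.1 (ih a1 h1)
        rw [mul_add, ← add_assoc]
        refine Submodule.add_mem_sup (add_mem (Ideal.mul_mem_right _ _ (Ideal.mem_span_singleton_self b)) (Ideal.mul_mem_left _ _ hy)) ?_
        rw [pow_succ']
        exact Ideal.mul_mem_mul (Ideal.mem_span_singleton_self x) hz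
    by_cases hbu : IsUnit b
    · exact hbu.dvd
    let B := A ⧸ Ideal.span {b}
    have : Nontrivial B := Ideal.Quotient.nontrivial_iff.2 (by simp [Ideal.span_singleton_eq_top, hbu])
    have : IsLocalRing B := IsLocalRing.of_surjective' (Ideal.Quotient.mk _) Ideal.Quotient.mk_surjective
    have hI : (Ideal.span {x}).map (Ideal.Quotient.mk (Ideal.span {b})) ≠ ⊤ := by
      intro ht
      rw [← (Ideal.comap_injective_of_surjective _ Ideal.Quotient.mk_surjective).eq_iff,
        Ideal.comap_map_of_surjective' _ Ideal.Quotient.mk_surjective, Ideal.comap_top, Ideal.mk_ker] at ht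
      exact (maximalIdeal.isMaximal A).ne_top (eq_top_iff.2 (ht ▸ sup_le hxm
        (le_maximalIdeal (by simp [Ideal.span_singleton_eq_top, hbu]))))
    have hbot := Ideal.iInf_pow_eq_bot_of_isLocalRing _ hI
    have hz : Ideal.Quotient.mk (Ideal.span {b}) a ∈ (⊥ : Ideal B) := by
      rw [← hbot, Submodule.mem_iInf]
      intro N
      obtain ⟨y, hy, z, hz, rfl⟩ := Submodule.mem_sup.1 (hmem N a ha)
      rw [map_add, Ideal.Quotient.eq_zero_iff_mem.2 hy, zero_add, ← Ideal.map_pow]
      exact Ideal.mem_map_of_mem _ hz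
    rwa [Ideal.mem_bot, Ideal.Quotient.eq_zero_iff_mem, Ideal.mem_span_singleton] at hz
  rintro a b hb ⟨c, hc, hn⟩
  obtain ⟨j, b', hb', rfl⟩ := hfin b hb
  obtain ⟨q, rfl⟩ := main b' hb' a ⟨c, hc, fun n => (dvd_trans (by rw [mul_pow]; exact dvd_mul_left _ _) (hn n))⟩
  suffices x ^ j ∣ q by obtain ⟨t, rfl⟩ := this; exact ⟨t, by ring⟩
  by_cases hq : q = 0
  · simp [hq]
  obtain ⟨i, q', hq', rfl⟩ := hfin q hq
  obtain ⟨k, c', hc', rfl⟩ := hfin c hc
  by_contra hcon
  have hij : i < j := lt_of_not_ge fun hji => hcon ((pow_dvd_pow x hji).trans (dvd_mul_right _ _))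
  obtain ⟨r, hr⟩ := hn (k + 1)
  have hb0 : b' ^ (k + 1) ≠ 0 := pow_ne_zero _ fun h => hb' (h ▸ dvd_zero x)
  have e : x ^ (k + i * (k + 1)) * (c' * q' ^ (k + 1)) = x ^ (j * (k + 1)) * r := by
    apply mul_left_cancel₀ hb0
    linear_combination hr
  have hle : k + i * (k + 1) < j * (k + 1) := by
    calc k + i * (k + 1) < (i + 1) * (k + 1) := by rw [add_mul, one_mul]; omega
      _ ≤ j * (k + 1) := Nat.mul_le_mul_right _ hij
  obtain ⟨d, hd⟩ := Nat.exists_eq_add_of_lt hle
  have e2 : x ^ (k + i * (k + 1)) * (c' * q' ^ (k + 1)) = x ^ (k + i * (k + 1)) * (x ^ (d + 1) * r) := by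
    rw [e, hd]; ring
  have e' := mul_left_cancel₀ (pow_ne_zero _ hx.ne_zero) e2
  rcases hx.dvd_or_dvd (show x ∣ c' * q' ^ (k + 1) from ⟨x ^ d * r, by rw [e']; ring⟩) with h' | h'
  · exact hc' h'
  · exact hq' (hx.dvd_of_dvd_pow h')

theorem isIntegrallyClosed_of_divClosed [IsDomain A] (h : DivClosed A) : IsIntegrallyClosed A := by
  classical
  rw [isIntegrallyClosed_iff (FractionRing A)]
  intro z hz
  obtain ⟨a, b, hb, rfl⟩ := IsFractionRing.div_surjective (A := A) z
  have hb0 : b ≠ 0 := nonZeroDivisors.ne_zero hb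
  have hbK : algebraMap A (FractionRing A) b ≠ 0 := (map_ne_zero_iff _ (IsFractionRing.injective A _)).2 hb0
  obtain ⟨S, hS⟩ := hz.fg_adjoin_singleton
  set z := algebraMap A (FractionRing A) a / algebraMap A (FractionRing A) b
  obtain ⟨⟨c, hc⟩, hcS⟩ := IsLocalization.exist_integer_multiples (nonZeroDivisors A) S id
  have hmem : ∀ y ∈ Submodule.span A (S : Set (FractionRing A)), ∃ t, algebraMap A (FractionRing A) t = c • y := by
    intro y hy
    induction hy using Submodule.span_induction with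
    | mem y hy => exact hcS y hy
    | zero => exact ⟨0, by simp⟩
    | add y w _ _ hy hw =>
      obtain ⟨t, ht⟩ := hy; obtain ⟨t', ht'⟩ := hw
      exact ⟨t + t', by rw [map_add, ht, ht', smul_add]⟩
    | smul s y _ hy =>
      obtain ⟨t, ht⟩ := hy
      exact ⟨s * t, by rw [map_mul, ht, smul_comm, ← Algebra.smul_def]⟩
  obtain ⟨q, hq⟩ := h a b hb0 ⟨c, nonZeroDivisors.ne_zero hc, fun n => by
    obtain ⟨t, ht⟩ := hmem (z ^ n) (hS ▸ (Subalgebra.pow_mem _ (Algebra.self_mem_adjoin_singleton A z) n))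
    refine ⟨t, IsFractionRing.injective A (FractionRing A) ?_⟩
    simp only [map_mul, map_pow, ht, Algebra.smul_def, z, div_pow]
    field_simp⟩
  refine ⟨q, ?_⟩
  rw [eq_div_iff hbK, hq, map_mul, mul_comm]

theorem regular_isDomain_and_divClosed :
    ∀ (d : ℕ) (A : Type u) [CommRing A] [IsRegularLocalRing A],
      (maximalIdeal A).spanFinrank = d → IsDomain A ∧ DivClosed A := by
  intro d
  induction d with
  | zero =>
    intro A _ _ hd
    have hm : maximalIdeal A = ⊥ :=
      (Submodule.spanFinrank_eq_zero_iff_eq_bot (IsNoetherian.noetherian (maximalIdeal A))).1 hd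
    have hf : IsField A := IsLocalRing.isField_iff_maximalIdeal_eq.2 hm
    let := hf.toField
    exact ⟨inferInstance, fun a b hb _ => ⟨a / b, by field_simp⟩⟩
  | succ d ih =>
    intro A _ _ hd
    classical
    set m := maximalIdeal A
    have hmin : ∀ q ∈ minimalPrimes A, q ≠ m := by
      intro q hq hqm
      have h0 : ringKrullDim A = (0 : ℕ) := by
        have : (maximalIdeal A).height = 0 := Ideal.height_eq_zero_iff.2 (by rw [show maximalIdeal A = q from hqm.symm]; exact hq)
        rw [← IsLocalRing.maximalIdeal_height_eq_ringKrullDim, this]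
        rfl
      rw [← IsRegularLocalRing.spanFinrank_maximalIdeal, hd] at h0
      exact absurd (by exact_mod_cast h0 : d + 1 = 0) (Nat.succ_ne_zero d)
    obtain ⟨x, hx, hx2, hxmin⟩ : ∃ x ∈ m, x ∉ m ^ 2 ∧ ∀ q ∈ minimalPrimes A, x ∉ q := by
      by_contra! hcon
      let T := insert (m ^ 2) (minimalPrimes.finite_of_isNoetherianRing A).toFinset
      have hsub : (m : Set A) ⊆ ⋃ i ∈ (↑T : Set (Ideal A)), ((id i : Ideal A) : Set A) := by
        intro y hy
        simp only [Set.mem_iUnion, id_eq, SetLike.mem_coe, exists_prop]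
        by_cases hy2 : y ∈ m ^ 2
        · exact ⟨m ^ 2, Finset.mem_insert_self _ _, hy2⟩
        · obtain ⟨q, hq, hyq⟩ := hcon y hy hy2
          exact ⟨q, Finset.mem_insert_of_mem ((minimalPrimes.finite_of_isNoetherianRing A).mem_toFinset.2 hq), hyq⟩
      obtain ⟨i, hi, hmi⟩ := (Ideal.subset_union_prime (m ^ 2) (m ^ 2) (fun i hi hne _ =>
        ((minimalPrimes.finite_of_isNoetherianRing A).mem_toFinset.1 ((Finset.mem_insert.1 hi).resolve_left hne)).1.1)).1 hsub
      rcases Finset.mem_insert.1 hi with rfl | hi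
      · have hb : m = ⊥ := by
          refine Submodule.eq_bot_of_le_smul_of_le_jacobson_bot m m (IsNoetherian.noetherian m) ?_
            (maximalIdeal_le_jacobson _)
          rw [smul_eq_mul, ← pow_two]; exact hmi
        rw [hb] at hd
        simp at hd
      · have hq := (minimalPrimes.finite_of_isNoetherianRing A).mem_toFinset.1 hi
        exact hmin i hq (le_antisymm (le_maximalIdeal hq.1.1.ne_top) hmi)
    obtain ⟨hreg, hdim⟩ := regular_quotient_of_notMem_sq hx hx2
    have hd' : (maximalIdeal (A ⧸ Ideal.span {x})).spanFinrank = d := by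
      rw [hd, ← IsRegularLocalRing.spanFinrank_maximalIdeal (R := A ⧸ Ideal.span {x})] at hdim
      have : d + 1 = (maximalIdeal (A ⧸ Ideal.span {x})).spanFinrank + 1 := by exact_mod_cast hdim
      omega
    obtain ⟨hdom, hdiv⟩ := ih (A ⧸ Ideal.span {x}) hd'
    have hP : (Ideal.span {x}).IsPrime := (Ideal.Quotient.isDomain_iff_prime _).1 hdom
    obtain ⟨q, hq, hqP⟩ := Ideal.exists_minimalPrimes_le (bot_le : (⊥ : Ideal A) ≤ Ideal.span {x})
    have hq0 : q = ⊥ := by
      refine Submodule.eq_bot_of_le_smul_of_le_jacobson_bot m q (IsNoetherian.noetherian q) (fun y hy => ?_)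
        (maximalIdeal_le_jacobson _)
      obtain ⟨a, ha⟩ := Ideal.mem_span_singleton'.1 (hqP hy)
      have haq : a ∈ q := (hq.1.1.mem_or_mem (ha ▸ hy)).resolve_right (hxmin q hq)
      rw [← ha, mul_comm, smul_eq_mul]
      exact Ideal.mul_mem_mul hx haq
    have hbot : (⊥ : Ideal A).IsPrime := hq0 ▸ hq.1.1
    have : IsDomain A := (MulEquiv.isDomain _ (RingEquiv.quotientBot A).symm.toMulEquiv)
    have hx0 : x ≠ 0 := fun h => hx2 (h ▸ zero_mem _)
    exact ⟨this, divClosed_of_prime ((Ideal.span_singleton_prime hx0).1 hP) hdiv⟩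

theorem isDomain_of_isRegularLocalRing (A : Type u) [CommRing A] [IsRegularLocalRing A] : IsDomain A :=
  (regular_isDomain_and_divClosed _ A rfl).1

theorem isIntegrallyClosed_of_regular (A : Type u) [CommRing A] [IsRegularLocalRing A] :
    IsIntegrallyClosed A :=
  have := isDomain_of_isRegularLocalRing A
  isIntegrallyClosed_of_divClosed (regular_isDomain_and_divClosed _ A rfl).2

end Groth.Agent.CAlgH3
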