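import Groth.Agent.CAlgH3.Depth
import Groth.Agent.CAlgH3.RegularLocal

/-! Regular local rings: regular systems of parameters, regular sequences, Cohen–Macaulayness. -/

universe u

open IsLocalRing RingTheory.Sequence
open scoped Pointwise

namespace Groth.Agent.CAlgH3

variable {R : Type u} [CommRing R]

theorem isLocalRing_quotient [IsLocalRing R] {I : Ideal R} (hI : I ≤ maximalIdeal R) :
    IsLocalRing (R ⧸ I) :=
  have : Nontrivial (R ⧸ I) := Ideal.Quotient.nontrivial_iff.2
    fun h => (maximalIdeal.isMaximal R).ne_top (top_le_iff.1 (h ▸ hI))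
  .of_surjective' (Ideal.Quotient.mk I) Ideal.Quotient.mk_surjective

theorem span_singleton_le_maximal [IsLocalRing R] {x : R} (hx : x ∈ maximalIdeal R) :
    Ideal.span {x} ≤ maximalIdeal R := (Ideal.span_singleton_le_iff_mem _).2 hx

/-- The canonical identification `R/xR = QuotSMulTop x R`. -/
noncomputable def quotSMulTopSelf (x : R) : QuotSMulTop x R ≃ₗ[R] R ⧸ Ideal.span {x} :=
  Submodule.quotEquivOfEq _ _ (by rw [← Submodule.ideal_span_singleton_smul]; simp)

theorem isRegularLocalRing_of_quotient [IsLocalRing R] [IsNoetherianRing R] {x : R}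
    (hx : x ∈ maximalIdeal R) (hreg : IsSMulRegular R x) [IsRegularLocalRing (R ⧸ Ideal.span {x})] :
    IsRegularLocalRing R := by
  classical
  apply IsRegularLocalRing.of_spanFinrank_maximalIdeal_le
  rw [← ringKrullDim_quotient_span_singleton_succ_eq_ringKrullDim hreg hx,
    ← IsRegularLocalRing.spanFinrank_maximalIdeal (R := R ⧸ Ideal.span {x})]
  obtain ⟨s, hcard, hs⟩ :=
    (IsNoetherian.noetherian (maximalIdeal (R ⧸ Ideal.span {x}))).exists_span_finset_card_eq_spanFinrank
  replace hs : Ideal.span (↑s : Set (R ⧸ Ideal.span {x})) = maximalIdeal (R ⧸ Ideal.span {x}) := hs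
  choose g hg using Ideal.Quotient.mk_surjective (I := Ideal.span {x})
  have hm : maximalIdeal R = Ideal.span ↑(insert x (s.image g)) := by
    apply le_antisymm
    · intro y hy
      have hy' : Ideal.Quotient.mk (Ideal.span {x}) y ∈ Ideal.span (↑s : Set _) := by
        rw [hs, ← IsLocalRing.map_maximalIdeal_of_surjective _ Ideal.Quotient.mk_surjective]
        exact Ideal.mem_map_of_mem _ hy
      rw [show (↑s : Set (R ⧸ Ideal.span {x})) = Ideal.Quotient.mk (Ideal.span {x}) '' ↑(s.image g) by
        rw [Finset.coe_image, ← Set.image_comp, show Ideal.Quotient.mk (Ideal.span {x}) ∘ g = id from funext hg, Set.image_id],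
        ← Ideal.map_span, ← Ideal.mem_comap, Ideal.comap_map_of_surjective' _ Ideal.Quotient.mk_surjective, Ideal.mk_ker] at hy'
      rw [Finset.coe_insert, Ideal.span_insert, sup_comm]
      exact hy'
    · rw [Ideal.span_le, Finset.coe_insert, Set.insert_subset_iff, Finset.coe_image]
      refine ⟨hx, ?_⟩
      rintro _ ⟨y, hy, rfl⟩
      have : y ∈ maximalIdeal (R ⧸ Ideal.span {x}) := by
        rw [← hs]; exact Ideal.subset_span hy
      rw [mem_maximalIdeal, mem_nonunits_iff] at this
      rw [SetLike.mem_coe, mem_maximalIdeal, mem_nonunits_iff]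
      intro hu
      exact this (hg y ▸ hu.map _)
  have : (maximalIdeal R).spanFinrank ≤ (maximalIdeal (R ⧸ Ideal.span {x})).spanFinrank + 1 := by
    rw [hm, ← hcard]
    refine (Submodule.spanFinrank_span_le_ncard_of_finite (Finset.finite_toSet _)).trans ?_
    rw [Set.ncard_coe_finset]
    exact (Finset.card_insert_le _ _).trans (Nat.add_le_add_right Finset.card_image_le 1)
  exact_mod_cast this

theorem spanFinrank_quotient_add_one [IsRegularLocalRing R] {x : R} (hx : x ∈ maximalIdeal R)
    (hx2 : x ∉ maximalIdeal R ^ 2) [IsLocalRing (R ⧸ Ideal.span {x})] :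
    (maximalIdeal (R ⧸ Ideal.span {x})).spanFinrank + 1 = (maximalIdeal R).spanFinrank := by
  obtain ⟨h1, h2⟩ := regular_quotient_of_notMem_sq hx hx2
  rw [← IsRegularLocalRing.spanFinrank_maximalIdeal (R := R ⧸ Ideal.span {x})] at h2
  exact_mod_cast h2.symm

theorem isSMulRegular_of_notMem_sq [IsRegularLocalRing R] {x : R}
    (hx2 : x ∉ maximalIdeal R ^ 2) : IsSMulRegular R x := by
  have := isDomain_of_isRegularLocalRing R
  have hx0 : x ≠ 0 := fun h => hx2 (h ▸ zero_mem _)
  exact fun a b hab => mul_left_cancel₀ hx0 hab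

theorem spanFinrank_le_length {I : Ideal R} (rs : List R) (h : Ideal.ofList rs = I) :
    I.spanFinrank ≤ rs.length := by
  classical
  rw [← h, Ideal.ofList, show {r | r ∈ rs} = (rs.toFinset : Set R) by ext; simp]
  refine (Submodule.spanFinrank_span_le_ncard_of_finite (Finset.finite_toSet _)).trans ?_
  rw [Set.ncard_coe_finset]
  exact rs.toFinset_card_le

/-- A regular system of parameters is a regular sequence. -/
theorem isRegular_of_ofList_eq_maximalIdeal :
    ∀ (rs : List R) [IsRegularLocalRing R], Ideal.ofList rs = maximalIdeal R →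
      rs.length = (maximalIdeal R).spanFinrank → IsRegular R rs := by
  intro rs
  induction hn : rs.length generalizing R rs with
  | zero =>
    intro _ _ _
    rw [List.length_eq_zero_iff.1 hn]
    exact IsRegular.nil R R
  | succ n ih =>
    intro _ hspan hd
    obtain ⟨x, rs', rfl⟩ := List.exists_cons_of_length_eq_add_one hn
    rw [List.length_cons, Nat.add_right_cancel_iff] at hn
    have hxm : x ∈ maximalIdeal R := hspan ▸ Ideal.subset_span (by simp)
    have hx2 : x ∉ maximalIdeal R ^ 2 := by
      intro hx2
      have hle : maximalIdeal R ≤ Ideal.ofList rs' ⊔ maximalIdeal R • maximalIdeal R := by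
        conv_lhs => rw [← hspan, Ideal.ofList_cons]
        refine sup_le ?_ le_sup_left
        rw [Ideal.span_singleton_le_iff_mem]
        exact Ideal.mem_sup_right (by rwa [smul_eq_mul, ← pow_two])
      have h := Submodule.le_of_le_smul_of_le_jacobson_bot (IsNoetherian.noetherian (maximalIdeal R))
        (maximalIdeal_le_jacobson _) hle
      have heq : Ideal.ofList rs' = maximalIdeal R :=
        le_antisymm (hspan ▸ (Ideal.ofList_cons x rs').symm ▸ le_sup_right) h
      have := spanFinrank_le_length rs' heq
      omega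
    obtain ⟨hq, -⟩ := regular_quotient_of_notMem_sq hxm hx2
    refine ⟨?_, fun h => (maximalIdeal.isMaximal R).ne_top ?_⟩
    · refine (isWeaklyRegular_cons_iff R x rs').2 ⟨isSMulRegular_of_notMem_sq hx2, ?_⟩
      rw [(quotSMulTopSelf x).isWeaklyRegular_congr,
        ← isWeaklyRegular_map_algebraMap_iff (S := R ⧸ Ideal.span {x})]
      refine (ih (R := R ⧸ Ideal.span {x}) (rs'.map (algebraMap R _)) (by simp [hn]) ?_ ?_).toIsWeaklyRegular
      · rw [← Ideal.map_ofList, ← IsLocalRing.map_maximalIdeal_of_surjective _ (Ideal.Quotient.mk_surjective (I := Ideal.span {x})),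
          ← hspan, Ideal.ofList_cons, Ideal.map_sup, Ideal.Quotient.algebraMap_eq, Ideal.map_quotient_self, bot_sup_eq]
      · have := spanFinrank_quotient_add_one hxm hx2
        omega
    · rw [← hspan]; simpa using h.symm

theorem exists_isRegular_ofList_eq_maximalIdeal [IsRegularLocalRing R] :
    ∃ rs : List R, rs.length = (maximalIdeal R).spanFinrank ∧ Ideal.ofList rs = maximalIdeal R ∧ IsRegular R rs := by
  classical
  obtain ⟨s, hcard, hs⟩ := (IsNoetherian.noetherian (maximalIdeal R)).exists_span_finset_card_eq_spanFinrank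
  have h1 : Ideal.ofList s.toList = maximalIdeal R := by
    rw [Ideal.ofList]; simp only [Finset.mem_toList]; exact hs
  exact ⟨s.toList, by simp [hcard], h1, isRegular_of_ofList_eq_maximalIdeal _ h1 (by simp [hcard])⟩

theorem depth_eq_spanFinrank [IsRegularLocalRing R] :
    _root_.LocCoh.depth R R = (maximalIdeal R).spanFinrank := by
  apply le_antisymm
  · have := depth_le_supportDim (R := R) (M := R)
    rw [Module.supportDim_self_eq_ringKrullDim, ← IsRegularLocalRing.spanFinrank_maximalIdeal] at this
    exact WithBot.coe_le_coe.1 this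
  · obtain ⟨rs, hlen, hspan, hreg⟩ := exists_isRegular_ofList_eq_maximalIdeal (R := R)
    rw [_root_.LocCoh.depth, LocCoh.natCast_le_idealDepth_iff_exists _ R maximal_smul_top_ne_top]
    exact ⟨rs, hlen.ge, fun r hr => hspan ▸ Ideal.subset_span hr, hreg⟩

theorem depth_eq_ringKrullDim [IsRegularLocalRing R] :
    ((_root_.LocCoh.depth R R : ℕ∞) : WithBot ℕ∞) = ringKrullDim R := by
  rw [depth_eq_spanFinrank, ← IsRegularLocalRing.spanFinrank_maximalIdeal]
  rfl

theorem isCohenMacaulayLocalRing_of_regular (R : Type u) [CommRing R] [IsRegularLocalRing R] :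
    _root_.LocCoh.IsCohenMacaulayLocalRing R where
  supportDim_eq_depth := by rw [depth_eq_ringKrullDim, Module.supportDim_self_eq_ringKrullDim]

/-- A regular quotient of a regular local ring is cut out by part of a regular system of parameters. -/
theorem exists_sop_of_regular_quotient :
    ∀ (d : ℕ) (R : Type u) [CommRing R] [IsRegularLocalRing R], (maximalIdeal R).spanFinrank = d →
      ∀ (I : Ideal R) [IsRegularLocalRing (R ⧸ I)], ∃ rs : List R, rs.length = d ∧
        Ideal.ofList rs = maximalIdeal R ∧ ∃ c ≤ d, I = Ideal.ofList (rs.take c) := by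
  intro d
  induction d with
  | zero =>
    intro R _ _ hd I _
    have hm : maximalIdeal R = ⊥ :=
      (Submodule.spanFinrank_eq_zero_iff_eq_bot (IsNoetherian.noetherian (maximalIdeal R))).1 hd
    have hI : I ≤ maximalIdeal R := le_maximalIdeal fun h => not_subsingleton (R ⧸ I) (Ideal.Quotient.subsingleton_iff.2 h)
    exact ⟨[], rfl, by simp [hm], 0, le_rfl, by simpa [hm] using hI⟩
  | succ d ih =>
    intro R _ _ hd I _
    by_cases hI : I = ⊥
    · obtain ⟨rs, hlen, hspan, -⟩ := exists_isRegular_ofList_eq_maximalIdeal (R := R)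
      exact ⟨rs, hlen.trans hd, hspan, 0, Nat.zero_le _, by simp [hI]⟩
    have := isDomain_of_isRegularLocalRing R
    have hIm : I ≤ maximalIdeal R := le_maximalIdeal fun h => not_subsingleton (R ⧸ I) (Ideal.Quotient.subsingleton_iff.2 h)
    obtain ⟨x, hxI, hx2⟩ : ∃ x ∈ I, x ∉ maximalIdeal R ^ 2 := by
      by_contra! hcon
      obtain ⟨y, hyI, hy0⟩ := Submodule.exists_mem_ne_zero_of_ne_bot hI
      have hlt : ringKrullDim (R ⧸ I) + 1 ≤ ringKrullDim R :=
        ringKrullDim_succ_le_of_surjective (Ideal.Quotient.mk I) Ideal.Quotient.mk_surjective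
          (mem_nonZeroDivisors_of_ne_zero hy0) (Ideal.Quotient.eq_zero_iff_mem.2 hyI)
      rw [← IsRegularLocalRing.spanFinrank_maximalIdeal, ← IsRegularLocalRing.spanFinrank_maximalIdeal] at hlt
      have hle : (maximalIdeal R).spanFinrank ≤ (maximalIdeal (R ⧸ I)).spanFinrank := by
        classical
        obtain ⟨s, hcard, hs⟩ := (IsNoetherian.noetherian (maximalIdeal (R ⧸ I))).exists_span_finset_card_eq_spanFinrank
        replace hs : Ideal.span (↑s : Set (R ⧸ I)) = maximalIdeal (R ⧸ I) := hs
        choose g hg using Ideal.Quotient.mk_surjective (I := I)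
        have hgm : Ideal.span ↑(s.image g) ≤ maximalIdeal R := by
          rw [Ideal.span_le, Finset.coe_image]
          rintro _ ⟨y, hy, rfl⟩
          have : y ∈ maximalIdeal (R ⧸ I) := hs ▸ Ideal.subset_span hy
          rw [mem_maximalIdeal, mem_nonunits_iff] at this
          rw [SetLike.mem_coe, mem_maximalIdeal, mem_nonunits_iff]
          exact fun hu => this (hg y ▸ hu.map _)
        have hle : maximalIdeal R ≤ Ideal.span ↑(s.image g) ⊔ maximalIdeal R • maximalIdeal R := by
          intro y hy
          have hy' : Ideal.Quotient.mk I y ∈ Ideal.span (↑s : Set _) := by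
            rw [hs, ← IsLocalRing.map_maximalIdeal_of_surjective _ Ideal.Quotient.mk_surjective]
            exact Ideal.mem_map_of_mem _ hy
          rw [show (↑s : Set (R ⧸ I)) = Ideal.Quotient.mk I '' ↑(s.image g) by
            rw [Finset.coe_image, ← Set.image_comp, show Ideal.Quotient.mk I ∘ g = id from funext hg, Set.image_id],
            ← Ideal.map_span, ← Ideal.mem_comap, Ideal.comap_map_of_surjective' _ Ideal.Quotient.mk_surjective, Ideal.mk_ker] at hy'
          have h1 : Ideal.span ↑(s.image g) ⊔ I ≤ Ideal.span ↑(s.image g) ⊔ maximalIdeal R • maximalIdeal R :=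
            sup_le_sup_left (fun z hz => by rw [smul_eq_mul, ← pow_two]; exact hcon z hz) _
          exact h1 hy'
        have h := Submodule.le_of_le_smul_of_le_jacobson_bot (IsNoetherian.noetherian (maximalIdeal R))
          (maximalIdeal_le_jacobson _) hle
        rw [le_antisymm h hgm, ← hcard]
        refine (Submodule.spanFinrank_span_le_ncard_of_finite (Finset.finite_toSet _)).trans ?_
        rw [Set.ncard_coe_finset]
        exact Finset.card_image_le
      have : (maximalIdeal (R ⧸ I)).spanFinrank + 1 ≤ (maximalIdeal R).spanFinrank := by exact_mod_cast hlt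
      omega
    obtain ⟨hq, -⟩ := regular_quotient_of_notMem_sq (hIm hxI) hx2
    have hd' : (maximalIdeal (R ⧸ Ideal.span {x})).spanFinrank = d := by
      have := spanFinrank_quotient_add_one (hIm hxI) hx2
      omega
    have hxle : Ideal.span {x} ≤ I := (Ideal.span_singleton_le_iff_mem _).2 hxI
    have : IsRegularLocalRing ((R ⧸ Ideal.span {x}) ⧸ I.map (Ideal.Quotient.mk (Ideal.span {x}))) :=
      IsRegularLocalRing.of_ringEquiv (DoubleQuot.quotQuotEquivQuotOfLE hxle).symm
    obtain ⟨rs, hlen, hspan, c, hc, hIc⟩ := ih (R ⧸ Ideal.span {x}) hd' (I.map (Ideal.Quotient.mk (Ideal.span {x})))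
    choose g hg using Ideal.Quotient.mk_surjective (I := Ideal.span {x})
    have hrs : (rs.map g).map (Ideal.Quotient.mk (Ideal.span {x})) = rs := by
      rw [List.map_map, show Ideal.Quotient.mk (Ideal.span {x}) ∘ g = id from funext hg, List.map_id]
    have hcomap : ∀ l : List R, Ideal.ofList (x :: l) =
        (Ideal.ofList (l.map (Ideal.Quotient.mk (Ideal.span {x})))).comap (Ideal.Quotient.mk (Ideal.span {x})) := by
      intro l
      rw [← Ideal.map_ofList, Ideal.comap_map_of_surjective' _ Ideal.Quotient.mk_surjective, Ideal.mk_ker,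
        Ideal.ofList_cons, sup_comm]
    refine ⟨x :: rs.map g, by simp [hlen], ?_, c + 1, by omega, ?_⟩
    · rw [hcomap, hrs, hspan, ← IsLocalRing.map_maximalIdeal_of_surjective _ (Ideal.Quotient.mk_surjective (I := Ideal.span {x})),
        Ideal.comap_map_of_surjective' _ Ideal.Quotient.mk_surjective, Ideal.mk_ker,
        sup_eq_left.2 (span_singleton_le_maximal (hIm hxI))]
    · rw [List.take_succ_cons, hcomap, List.map_take, hrs, ← hIc,
        Ideal.comap_map_of_surjective' _ Ideal.Quotient.mk_surjective, Ideal.mk_ker, sup_eq_left.2 hxle]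

end Groth.Agent.CAlgH3
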