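import Groth.Agent.CAlgH3.CohenMacaulay
import Groth.Agent.CAlgH3.RegularCore
import Mathlib.LinearAlgebra.TensorProduct.Tower

/-! Cohen–Macaulay rings. -/

universe u

open IsLocalRing TensorProduct
open scoped Pointwise

namespace Groth.Agent.CAlgH3

local notation "CM" => _root_.LocCoh.IsCohenMacaulayModule
local notation "CMLocal" => _root_.LocCoh.IsCohenMacaulayLocalRing

theorem isCohenMacaulayLocalRing_iff (R : Type u) [CommRing R] [IsLocalRing R] [IsNoetherianRing R] :
    CMLocal R ↔ CM R R :=
  ⟨fun h => h.supportDim_eq_depth, fun h => ⟨h⟩⟩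

theorem isCohenMacaulayLocalRing_iff_depth (R : Type u) [CommRing R] [IsLocalRing R] [IsNoetherianRing R] :
    CMLocal R ↔ ringKrullDim R = ((_root_.LocCoh.depth R R : ℕ∞) : WithBot ℕ∞) := by
  rw [isCohenMacaulayLocalRing_iff, _root_.LocCoh.IsCohenMacaulayModule, Module.supportDim_self_eq_ringKrullDim]

theorem isCohenMacaulayLocalRing_of_ringEquiv {R S : Type u} [CommRing R] [CommRing S] (e : R ≃+* S)
    [h : CMLocal R] : CMLocal S := by
  have := e.isLocalRing
  have := isNoetherianRing_of_ringEquiv R e
  rw [isCohenMacaulayLocalRing_iff_depth] at h ⊢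
  rw [← ringKrullDim_eq_of_ringEquiv e, ← depth_ringEquiv e, h]

theorem isCohenMacaulayLocalRing_quotient_iff {R : Type u} [CommRing R] [IsLocalRing R] [IsNoetherianRing R]
    (I : Ideal R) [IsLocalRing (R ⧸ I)] : CMLocal (R ⧸ I) ↔ CM R (R ⧸ I) := by
  rw [isCohenMacaulayLocalRing_iff_depth, _root_.LocCoh.IsCohenMacaulayModule,
    Module.supportDim_quotient_eq_ringKrullDim, depth_quotient_ring]

theorem isCohenMacaulayLocalRing_quotient_span_iff {R : Type u} [CommRing R] [IsLocalRing R] [IsNoetherianRing R]
    {x : R} (hx : x ∈ maximalIdeal R) (hreg : IsSMulRegular R x) [IsLocalRing (R ⧸ Ideal.span {x})] :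
    CMLocal (R ⧸ Ideal.span {x}) ↔ CMLocal R := by
  rw [isCohenMacaulayLocalRing_quotient_iff, isCohenMacaulayLocalRing_iff,
    ← isCohenMacaulayModule_congr (quotSMulTopSelf x), isCohenMacaulayModule_quotSMulTop_iff hx hreg]

/-- `LocalizedModule p R = R_p`. -/
noncomputable def localizedModuleSelf {R : Type u} [CommRing R] (p : Ideal R) [p.IsPrime] :
    LocalizedModule p.primeCompl R ≃ₗ[Localization.AtPrime p] Localization.AtPrime p :=
  (LocalizedModule.equivTensorProduct p.primeCompl R).trans
    (AlgebraTensorModule.rid R (Localization.AtPrime p) (Localization.AtPrime p))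

variable {R : Type u} [CommRing R] [CMLocal R]

theorem mem_support_self (p : PrimeSpectrum R) : p ∈ Module.support R R := by
  rw [Module.mem_support_iff]; infer_instance

theorem cm_localization_aux (p : Ideal R) [p.IsPrime] :
    CM (Localization.AtPrime p) (Localization.AtPrime p) ∧
      ringKrullDim (Localization.AtPrime p) + ringKrullDim (R ⧸ p) = ringKrullDim R := by
  obtain ⟨n, hn⟩ := exists_depth_eq_natCast (R := R) (M := R)
  obtain ⟨h1, h2⟩ := localization_isCohenMacaulayModule n R hn
    ((isCohenMacaulayLocalRing_iff R).1 inferInstance) p (mem_support_self _)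
  rw [isCohenMacaulayModule_congr (localizedModuleSelf p)] at h1
  rw [Module.supportDim_eq_of_equiv (localizedModuleSelf p), Module.supportDim_self_eq_ringKrullDim,
    Module.supportDim_self_eq_ringKrullDim] at h2
  exact ⟨h1, h2⟩

theorem isCohenMacaulayLocalRing_localization (p : Ideal R) [p.IsPrime] : CMLocal (Localization.AtPrime p) :=
  (isCohenMacaulayLocalRing_iff _).2 (cm_localization_aux p).1

/-- In a Cohen–Macaulay local ring `ht p + dim R/p = dim R`. -/
theorem height_add_ringKrullDim_quotient (p : Ideal R) [p.IsPrime] :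
    (p.height : WithBot ℕ∞) + ringKrullDim (R ⧸ p) = ringKrullDim R := by
  rw [← IsLocalization.AtPrime.ringKrullDim_eq_height p (Localization.AtPrime p)]
  exact (cm_localization_aux p).2

variable (R) in
theorem isCohenMacaulayRing_of_local : _root_.LocCoh.IsCohenMacaulayRing R where
  isCohenMacaulayLocalRing_localization p _ := isCohenMacaulayLocalRing_localization p

omit [CMLocal R] in
theorem isCohenMacaulayRing_of_isMaximal [IsNoetherianRing R]
    (h : ∀ (m : Ideal R) [m.IsMaximal], CMLocal (Localization.AtPrime m)) :
    _root_.LocCoh.IsCohenMacaulayRing R where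
  isCohenMacaulayLocalRing_localization p hp := by
    obtain ⟨m, hm, hpm⟩ := p.exists_le_maximal hp.ne_top
    have := h m
    let A := Localization.AtPrime m
    have disj : Disjoint (m.primeCompl : Set R) p :=
      Set.disjoint_compl_left_iff_subset.2 hpm
    let q := p.map (algebraMap R A)
    have : q.IsPrime := IsLocalization.isPrime_of_isPrime_disjoint m.primeCompl _ _ hp disj
    have : IsLocalization.AtPrime (Localization.AtPrime q) p := by
      convert IsLocalization.isLocalization_isLocalization_atPrime_isLocalization m.primeCompl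
        (Localization.AtPrime q) q
      exact (IsLocalization.under_map_of_isPrime_disjoint m.primeCompl _ hp disj).symm
    have := isCohenMacaulayLocalRing_localization q
    exact isCohenMacaulayLocalRing_of_ringEquiv (IsLocalization.algEquiv p.primeCompl
      (Localization.AtPrime q) (Localization.AtPrime p)).toRingEquiv

omit [CMLocal R] in
theorem isCohenMacaulayRing_of_isRegularRing [IsRegularRing R] : _root_.LocCoh.IsCohenMacaulayRing R where
  isCohenMacaulayLocalRing_localization p _ := isCohenMacaulayLocalRing_of_regular (Localization.AtPrime p)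

end Groth.Agent.CAlgH3
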