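import Groth.Agent.CAlgH3.RegularHom
import Groth.Agent.CAlgH3.CMRing
import Mathlib.RingTheory.DiscreteValuationRing.TFAE
import Mathlib.RingTheory.IntegralClosure.IntegrallyClosed
import Mathlib.RingTheory.Ideal.MinimalPrime.Localization
import Mathlib.RingTheory.KrullDimension.Zero
import Mathlib.RingTheory.LocalProperties.Reduced

/-! Serre's criteria for reducedness and normality. -/

universe u

open IsLocalRing
open scoped Pointwise nonZeroDivisors

namespace Groth.Agent.CAlgH3

variable {R : Type u} [CommRing R]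

theorem hasSk_self_iff (k : ℕ) :
    _root_.LocCoh.HasSk k R R ↔ ∀ (p : Ideal R) [p.IsPrime],
      min (k : WithBot ℕ∞) (ringKrullDim (Localization.AtPrime p)) ≤
        ((_root_.LocCoh.depth (Localization.AtPrime p) (Localization.AtPrime p) : ℕ∞) : WithBot ℕ∞) := by
  refine forall_congr' fun p => forall_congr' fun _ => ?_
  rw [Module.supportDim_eq_of_equiv (localizedModuleSelf p), depth_congr (localizedModuleSelf p),
    Module.supportDim_self_eq_ringKrullDim]

theorem hasSk_mono {j k : ℕ} (h : j ≤ k) (hk : _root_.LocCoh.HasSk k R R) : _root_.LocCoh.HasSk j R R :=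
  fun p _ => (min_le_min_right _ (Nat.cast_le.2 h)).trans (hk p)

theorem hasRk_mono {j k : ℕ} (h : j ≤ k) (hk : _root_.LocCoh.HasRk k R) : _root_.LocCoh.HasRk j R :=
  fun p _ hp => hk p (hp.trans (Nat.cast_le.2 h))

section localisation

variable {S : Type u} [CommRing S] [Algebra R S] (W : Submonoid R) [IsLocalization W S]

include W in
theorem isLocalization_atPrime_under (q : Ideal S) [q.IsPrime] :
    ∃ e : Localization.AtPrime (q.comap (algebraMap R S)) ≃+* Localization.AtPrime q, True := by
  have : IsLocalization.AtPrime (Localization.AtPrime q) (q.comap (algebraMap R S)) :=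
    IsLocalization.isLocalization_isLocalization_atPrime_isLocalization W (Localization.AtPrime q) q
  exact ⟨(IsLocalization.algEquiv (q.comap (algebraMap R S)).primeCompl _ _).toRingEquiv, trivial⟩

include W in
theorem hasRk_localization {k : ℕ} (h : _root_.LocCoh.HasRk k R) : _root_.LocCoh.HasRk k S := by
  intro q _ hq
  obtain ⟨e, -⟩ := isLocalization_atPrime_under W q
  have := h (q.comap (algebraMap R S)) (by
    rw [← WithBot.coe_le_coe, ← IsLocalization.AtPrime.ringKrullDim_eq_height _ (Localization.AtPrime (q.comap (algebraMap R S))),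
      ringKrullDim_eq_of_ringEquiv e, IsLocalization.AtPrime.ringKrullDim_eq_height q (Localization.AtPrime q), WithBot.coe_le_coe]
    exact hq)
  exact IsRegularLocalRing.of_ringEquiv e

include W in
theorem hasSk_localization {k : ℕ} (h : _root_.LocCoh.HasSk k R R) : _root_.LocCoh.HasSk k S S := by
  rw [hasSk_self_iff] at h ⊢
  intro q _
  obtain ⟨e, -⟩ := isLocalization_atPrime_under W q
  rw [← ringKrullDim_eq_of_ringEquiv e, ← depth_ringEquiv e]
  exact h _

end localisation

theorem depth_eq_zero_of_killed [IsLocalRing R] [IsNoetherianRing R] {c : R} (hc : c ≠ 0)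
    (h : ∀ z ∈ maximalIdeal R, z * c = 0) : _root_.LocCoh.depth R R = 0 := by
  by_contra hne
  obtain ⟨z, hz, hreg⟩ := exists_regular_of_one_le_depth (M := R) (Order.one_le_iff_pos.2 (pos_iff_ne_zero.2 hne))
  exact hc (hreg.right_eq_zero_of_smul (h z hz))

/-- The colon prime of `c` modulo `J` becomes an associated maximal ideal. -/
theorem killed_localization {p : Ideal R} [p.IsPrime] {c : R} {J : Ideal R} (hp : ∀ z, z ∈ p ↔ z * c ∈ J) :
    algebraMap R (Localization.AtPrime p) c ∉ J.map (algebraMap R (Localization.AtPrime p)) ∧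
      ∀ z ∈ maximalIdeal (Localization.AtPrime p),
        z * algebraMap R (Localization.AtPrime p) c ∈ J.map (algebraMap R (Localization.AtPrime p)) := by
  constructor
  · intro h
    obtain ⟨s, hs, hsc⟩ := (IsLocalization.algebraMap_mem_map_algebraMap_iff p.primeCompl _ J c).1 h
    exact hs ((hp s).2 hsc)
  · intro z hz
    obtain ⟨a, s, rfl⟩ := IsLocalization.exists_mk'_eq p.primeCompl z
    have ha : a ∈ p := (IsLocalization.AtPrime.mk'_mem_maximal_iff _ p a s).1 hz
    rw [IsLocalization.mk'_eq_mul_mk'_one, mul_right_comm, ← map_mul]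
    exact Ideal.mul_mem_right _ _ (Ideal.mem_map_of_mem _ ((hp a).1 ha))

variable [IsNoetherianRing R]

theorem isReduced_of_R0_S1 (h0 : _root_.LocCoh.HasRk 0 R) (h1 : _root_.LocCoh.HasSk 1 R R) : IsReduced R := by
  refine ⟨fun a ha => ?_⟩
  by_contra ha0
  obtain ⟨p, hp, -⟩ := exists_le_isAssociatedPrime_of_isNoetherianRing R (⟨a, Ideal.mem_span_singleton_self a⟩ : Ideal.span {a})
    (fun h => ha0 (congrArg Subtype.val h))
  obtain ⟨hprime, ⟨x, hxs⟩, hx⟩ := isAssociatedPrime_iff.1 hp
  obtain ⟨r, rfl⟩ := Ideal.mem_span_singleton'.1 hxs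
  have hmem : ∀ z, z ∈ p ↔ z * (r * a) ∈ (⊥ : Ideal R) := by
    intro z
    rw [hx, Submodule.mem_colon_singleton, Submodule.mem_bot, Ideal.mem_bot]
    exact ⟨fun h => congrArg Subtype.val h, fun h => Subtype.ext h⟩
  obtain ⟨hc, hkill⟩ := killed_localization hmem
  simp only [Ideal.map_bot, Ideal.mem_bot] at hc hkill
  have hd := (hasSk_self_iff 1).1 h1 p
  rw [depth_eq_zero_of_killed hc hkill] at hd
  have hh : p.height ≤ (0 : ℕ) := by
    rw [IsLocalization.AtPrime.ringKrullDim_eq_height p (Localization.AtPrime p), Nat.cast_one, WithBot.coe_zero] at hd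
    have : (p.height : WithBot ℕ∞) ≤ 0 := by
      rcases min_le_iff.1 hd with h | h
      · exact absurd h (by decide)
      · exact h
    exact WithBot.coe_le_coe.1 (by simpa using this)
  have := h0 p hh
  have := isDomain_of_isRegularLocalRing (Localization.AtPrime p)
  apply hc
  rw [map_mul, (ha.map (algebraMap R (Localization.AtPrime p))).eq_zero, mul_zero]

theorem hasR0_of_isReduced [IsReduced R] : _root_.LocCoh.HasRk 0 R := by
  intro p _ hp
  have : IsReduced (Localization.AtPrime p) := isReduced_localizationPreserves p.primeCompl (Localization.AtPrime p) inferInstance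
  have : Ring.KrullDimLE 0 (Localization.AtPrime p) := by
    rw [Ring.krullDimLE_iff, IsLocalization.AtPrime.ringKrullDim_eq_height p (Localization.AtPrime p)]
    exact WithBot.coe_le_coe.2 hp
  have hf : IsField (Localization.AtPrime p) := by
    rw [isField_iff_maximalIdeal_eq, eq_bot_iff]
    intro z hz
    have : z ∈ nilradical (Localization.AtPrime p) := by
      rw [nilradical_eq_sInf, Submodule.mem_sInf]
      intro q hq
      have := (Ring.krullDimLE_zero_iff.1 inferInstance q hq)
      rwa [IsLocalRing.eq_maximalIdeal this]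
    rwa [nilradical_eq_zero, Ideal.zero_eq_bot] at this
  let := hf.toField
  infer_instance

theorem hasS1_of_isReduced [IsReduced R] : _root_.LocCoh.HasSk 1 R R := by
  rw [hasSk_self_iff]
  intro p _
  have : IsReduced (Localization.AtPrime p) := isReduced_localizationPreserves p.primeCompl (Localization.AtPrime p) inferInstance
  by_cases h : _root_.LocCoh.depth (Localization.AtPrime p) (Localization.AtPrime p) = 0
  · rw [h]
    refine min_le_of_right_le ?_
    obtain ⟨hprime, c, hc⟩ := isAssociatedPrime_iff.1 (depth_eq_zero_iff.1 h)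
    have hmem : ∀ z, z ∈ maximalIdeal (Localization.AtPrime p) → z * c = 0 := fun z hz => by
      rw [hc, Submodule.mem_colon_singleton, Submodule.mem_bot] at hz
      exact hz
    have hc0 : c ≠ 0 := by
      rintro rfl
      exact (maximalIdeal.isMaximal _).ne_top (eq_top_iff.2 (fun z _ => hc ▸ Submodule.mem_colon_singleton.2 (by simp)))
    by_cases hcu : IsUnit c
    · have hm : maximalIdeal (Localization.AtPrime p) = ⊥ := eq_bot_iff.2 fun z hz => hcu.mul_left_eq_zero.1 (hmem z hz)
      have := (IsLocalRing.isField_iff_maximalIdeal_eq.2 hm)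
      rw [ringKrullDim_eq_zero_of_isField this]
      simp
    · exact absurd (IsReduced.eq_zero c ⟨2, by rw [pow_two]; exact hmem c hcu⟩) hc0
  · refine min_le_of_left_le ?_
    rw [Nat.cast_one, ← WithBot.coe_one, WithBot.coe_le_coe, Order.one_le_iff_pos, pos_iff_ne_zero]
    exact h

section normal

/-- Normal ⇒ depth ≥ 2 in dimension ≥ 2. -/
theorem two_le_depth_of_normal [IsLocalRing R] [IsDomain R] [IsIntegrallyClosed R]
    (hdim : 2 ≤ ringKrullDim R) : 2 ≤ _root_.LocCoh.depth R R := by
  have hnf : maximalIdeal R ≠ ⊥ := fun h => by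
    have := ringKrullDim_eq_zero_of_isField (isField_iff_maximalIdeal_eq.2 h)
    rw [this] at hdim
    exact absurd hdim (by decide)
  obtain ⟨x, hx, hx0⟩ := Submodule.exists_mem_ne_zero_of_ne_bot hnf
  have hreg : IsSMulRegular R x := fun a b hab => mul_left_cancel₀ hx0 hab
  have hnt := nontrivial_quotSMulTop (M := R) hx
  rw [← depth_quotSMulTop_add_one hx hreg, show (2 : ℕ∞) = ((1 + 1 : ℕ) : ℕ∞) from rfl,
    natCast_add_one_le_iff, Nat.cast_one, one_le_depth_iff,
    LinearEquiv.AssociatedPrimes.eq (quotSMulTopSelf x)]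
  intro hass
  obtain ⟨-, cbar, hcb⟩ := isAssociatedPrime_iff.1 hass
  obtain ⟨a, rfl⟩ := Submodule.Quotient.mk_surjective _ cbar
  have hmem : ∀ y, y ∈ maximalIdeal R ↔ y * a ∈ Ideal.span {x} := fun y => by
    rw [hcb, Submodule.mem_colon_singleton, Submodule.mem_bot, ← Submodule.Quotient.mk_smul,
      Submodule.Quotient.mk_eq_zero, smul_eq_mul]
  have hax : a ∉ Ideal.span {x} := fun h =>
    (maximalIdeal.isMaximal R).ne_top ((Ideal.eq_top_iff_one _).2 ((hmem 1).2 (by rwa [one_mul])))
  by_cases hu : ∃ t c, t ∈ maximalIdeal R ∧ IsUnit c ∧ t * a = c * x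
  · obtain ⟨t, c, ht, hc, htc⟩ := hu
    have hmt : maximalIdeal R = Ideal.span {t} := by
      refine le_antisymm (fun y hy => ?_) (span_singleton_le_maximal ht)
      obtain ⟨d, hd⟩ := Ideal.mem_span_singleton'.1 ((hmem y).1 hy)
      have ha0 : a ≠ 0 := fun h => hax (h ▸ zero_mem _)
      have h2 : y * (c * x) = t * (d * x) := by rw [← htc, hd]; ring
      have h3 : y * c = t * d := mul_right_cancel₀ hx0 (by linear_combination h2)
      obtain ⟨u, rfl⟩ := hc
      rw [show y = t * d * ↑u⁻¹ by rw [← h3, mul_assoc, u.mul_inv, mul_one], mul_assoc]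
      exact Ideal.mul_mem_right _ _ (Ideal.mem_span_singleton_self t)
    have := ringKrullDim_le_spanFinrank_maximalIdeal R
    rw [hmt] at this
    have h1 : (Ideal.span {t}).spanFinrank ≤ 1 := by
      simpa using Submodule.spanFinrank_span_le_ncard_of_finite (R := R) (Set.finite_singleton t)
    have := hdim.trans (this.trans (Nat.cast_le.2 h1))
    exact absurd this (by decide)
  · push Not at hu
    let K := FractionRing R
    have hxK : algebraMap R K x ≠ 0 := (map_ne_zero_iff _ (IsFractionRing.injective R K)).2 hx0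
    have hint : IsIntegral R (algebraMap R K a / algebraMap R K x) := by
      refine isIntegral_of_smul_mem_submodule (R := R) (M := K) (Submodule.map (Algebra.linearMap R K) (maximalIdeal R)) ?_
        ((IsNoetherian.noetherian _).map _) _ ?_
      · intro h
        have h1 : Algebra.linearMap R K x ∈ (⊥ : Submodule R K) := h ▸ Submodule.mem_map_of_mem hx
        exact hx0 ((map_eq_zero_iff _ (IsFractionRing.injective R K)).1 ((Submodule.mem_bot R).1 h1))
      · rintro _ ⟨y, hy, rfl⟩
        obtain ⟨d, hd⟩ := Ideal.mem_span_singleton'.1 ((hmem y).1 hy)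
        refine ⟨d, ?_, ?_⟩
        · by_contra hdm
          exact hu y d hy (not_not.1 hdm) hd.symm
        · rw [Algebra.linearMap_apply, Algebra.linearMap_apply, smul_eq_mul, div_mul_eq_mul_div, eq_div_iff hxK,
            ← map_mul, ← map_mul, hd, mul_comm]
    obtain ⟨q, hq⟩ := IsIntegrallyClosed.isIntegral_iff.1 hint
    rw [eq_div_iff hxK, ← map_mul] at hq
    exact hax (Ideal.mem_span_singleton'.2 ⟨q, IsFractionRing.injective R K hq⟩)

theorem isRegularLocalRing_of_normal_dim_le_one [IsLocalRing R] [IsDomain R] [IsIntegrallyClosed R]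
    (hdim : ringKrullDim R ≤ 1) : IsRegularLocalRing R := by
  have : Ring.KrullDimLE 1 R := Ring.krullDimLE_iff.2 hdim
  have h4 : IsIntegrallyClosed R ∧ ∀ P : Ideal R, P ≠ ⊥ → P.IsPrime → P = maximalIdeal R :=
    ⟨inferInstance, fun P hP hP' => by
      by_contra hne
      have h1 := ringKrullDim_quotient_add_one_le (lt_of_le_of_ne (le_maximalIdeal hP'.ne_top) hne)
      have h2 := ringKrullDim_quotient_add_one_le (p := (⊥ : Ideal R)) (q := P) (bot_lt_iff_ne_bot.2 hP)
      rw [ringKrullDim_eq_of_ringEquiv (RingEquiv.quotientBot R)] at h2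
      have h3 := ((add_le_add h1 le_rfl).trans h2).trans hdim
      rw [ringKrullDim_eq_zero_of_isField ((Ideal.Quotient.maximal_ideal_iff_isField_quotient _).1 (maximalIdeal.isMaximal R))] at h3
      exact absurd h3 (by decide)⟩
  have : IsPrincipalIdealRing R := ((tfae_of_isNoetherianRing_of_isLocalRing_of_isDomain R).out 3 0 rfl rfl).1 h4
  infer_instance

theorem exists_mul_eq_of_isIntegral_aux {R A L K : Type u} [CommRing R] [CommRing A] [CommRing L] [Field K]
    [IsDomain A] [IsIntegrallyClosed A] [Algebra R L] [IsLocalization R⁰ L] [Algebra A K] [IsFractionRing A K]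
    (f : R →+* A) (hne : ∀ y : R⁰, f y ≠ 0) {a : R} (b : R⁰)
    (hint : IsIntegral R (IsLocalization.mk' L a b)) : ∃ q, q * f b = f a := by
  have hunit : ∀ y : R⁰, IsUnit (((algebraMap A K).comp f) y) := fun y =>
    isUnit_iff_ne_zero.2 ((map_ne_zero_iff _ (IsFractionRing.injective A K)).2 (hne y))
  obtain ⟨ψ, hcomp⟩ : ∃ ψ : L →+* K, ψ.comp (algebraMap R L) = (algebraMap A K).comp f :=
    ⟨IsLocalization.lift hunit, IsLocalization.lift_comp hunit⟩
  obtain ⟨P, hP, h0⟩ := hint
  have hψ : IsIntegral A (ψ (IsLocalization.mk' L a b)) :=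
    ⟨P.map f, hP.map f, by rw [Polynomial.eval₂_map, ← hcomp, ← Polynomial.hom_eval₂, h0, map_zero]⟩
  obtain ⟨q, hq⟩ := IsIntegrallyClosed.isIntegral_iff.1 hψ
  refine ⟨q, IsFractionRing.injective A K ?_⟩
  rw [map_mul, hq]
  have h2 := congrArg ψ (IsLocalization.mk'_spec L a b)
  have hl : ∀ y, ψ (algebraMap R L y) = algebraMap A K (f y) := fun y =>
    RingHom.congr_fun hcomp y
  rw [map_mul, hl, hl] at h2
  exact h2

/-- Transfer an integral fraction along a map into an integrally closed domain. -/
theorem exists_mul_eq_of_isIntegral {R A : Type u} [CommRing R] [CommRing A] [IsDomain A] [IsIntegrallyClosed A]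
    (f : R →+* A) (hne : ∀ y : R⁰, f y ≠ 0) {a : R} (b : R⁰)
    (hint : IsIntegral R (IsLocalization.mk' (Localization R⁰) a b)) : ∃ q, q * f b = f a :=
  exists_mul_eq_of_isIntegral_aux (K := FractionRing A) f hne b hint

set_option maxHeartbeats 1000000 in
/-- `R₁ + S₂` implies integrally closed in the total ring of fractions. -/
theorem dvd_of_isIntegral_of_R1_S2 (hR : _root_.LocCoh.HasRk 1 R) (hS : _root_.LocCoh.HasSk 2 R R) {a : R} (b : R⁰)
    (hint : IsIntegral R (IsLocalization.mk' (Localization R⁰) a b)) : (b : R) ∣ a := by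
  by_contra hab
  have hne : (Submodule.Quotient.mk a : R ⧸ Ideal.span {(b : R)}) ≠ 0 := by
    rwa [Ne, Submodule.Quotient.mk_eq_zero, Ideal.mem_span_singleton]
  let W := Submodule.span R {(Submodule.Quotient.mk a : R ⧸ Ideal.span {(b : R)})}
  obtain ⟨p, hp, -⟩ := exists_le_isAssociatedPrime_of_isNoetherianRing R (⟨_, Submodule.mem_span_singleton_self _⟩ : W)
    (fun h => hne (congrArg Subtype.val h))
  obtain ⟨hprime, ⟨z, hz⟩, hpz⟩ := isAssociatedPrime_iff.1 hp
  obtain ⟨r, rfl⟩ := Submodule.mem_span_singleton.1 hz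
  have hmem : ∀ y, y ∈ p ↔ y * (r * a) ∈ Ideal.span {(b : R)} := by
    intro y
    rw [hpz, Submodule.mem_colon_singleton, Submodule.mem_bot]
    constructor
    · intro h
      have := congrArg Subtype.val h
      change y • r • (Submodule.Quotient.mk a : R ⧸ Ideal.span {(b : R)}) = 0 at this
      rwa [smul_smul, ← Submodule.Quotient.mk_smul, Submodule.Quotient.mk_eq_zero, smul_eq_mul, mul_assoc] at this
    · intro h
      refine Subtype.ext ?_
      change y • r • (Submodule.Quotient.mk a : R ⧸ Ideal.span {(b : R)}) = 0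
      rwa [smul_smul, ← Submodule.Quotient.mk_smul, Submodule.Quotient.mk_eq_zero, smul_eq_mul, mul_assoc]
  obtain ⟨hc, hkill⟩ := killed_localization hmem
  rw [Ideal.map_span, Set.image_singleton] at hc hkill
  let A := Localization.AtPrime p
  have hbA : algebraMap R A b ∈ A⁰ := by
    rw [mem_nonZeroDivisors_iff_right]
    intro z hz
    obtain ⟨c, s, rfl⟩ := IsLocalization.exists_mk'_eq p.primeCompl z
    rw [IsLocalization.mk'_eq_mul_mk'_one, mul_right_comm, ← map_mul,
      ((isUnit_iff_exists_inv.2 ⟨algebraMap R A s, by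
        rw [IsLocalization.mk'_spec, map_one]⟩).mul_left_eq_zero), IsLocalization.map_eq_zero_iff p.primeCompl] at hz
    obtain ⟨t, ht⟩ := hz
    rw [IsLocalization.mk'_eq_zero_iff]
    exact ⟨t, (mul_right_mem_nonZeroDivisors_eq_zero_iff b.2).1 (by rw [mul_assoc]; exact ht)⟩
  have hbp : (b : R) ∈ p := (hmem b).2 (Ideal.mul_mem_right _ _ (Ideal.mem_span_singleton_self _))
  have hbm : algebraMap R A b ∈ maximalIdeal A := by
    rw [← Localization.AtPrime.map_eq_maximalIdeal]; exact Ideal.mem_map_of_mem _ hbp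
  have hreg : IsSMulRegular A (algebraMap R A b) := Module.Flat.isSMulRegular_of_nonZeroDivisors hbA
  have hd1 : _root_.LocCoh.depth A A = 1 := by
    have hnt := nontrivial_quotSMulTop (M := A) hbm
    have h0 : _root_.LocCoh.depth A (QuotSMulTop (algebraMap R A b) A) = 0 := by
      rw [depth_congr (quotSMulTopSelf (algebraMap R A b))]
      by_contra hne
      have : Nontrivial (A ⧸ Ideal.span {algebraMap R A (b : R)}) := (quotSMulTopSelf (algebraMap R A (b : R))).symm.toEquiv.nontrivial
      obtain ⟨w, hw, hwreg⟩ := exists_regular_of_one_le_depth (M := A ⧸ Ideal.span {algebraMap R A (b : R)})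
        (Order.one_le_iff_pos.2 (pos_iff_ne_zero.2 hne))
      refine hc ((Submodule.Quotient.mk_eq_zero _).1 (hwreg.right_eq_zero_of_smul ?_))
      rw [← Submodule.Quotient.mk_smul, Submodule.Quotient.mk_eq_zero]
      exact hkill w hw
    rw [← depth_quotSMulTop_add_one hbm hreg, h0, zero_add]
  have hd := (hasSk_self_iff 2).1 hS p
  rw [hd1] at hd
  have hh : p.height ≤ (1 : ℕ) := by
    rw [IsLocalization.AtPrime.ringKrullDim_eq_height p (Localization.AtPrime p)] at hd
    rcases min_le_iff.1 hd with h | h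
    · exact absurd h (by decide)
    · exact WithBot.coe_le_coe.1 (by simpa using h)
  have := hR p hh
  have := isDomain_of_isRegularLocalRing A
  have := isIntegrallyClosed_of_regular A
  have hne0 : ∀ y : R⁰, algebraMap R A y ≠ 0 := by
    intro y h
    obtain ⟨t, ht⟩ := (IsLocalization.map_eq_zero_iff p.primeCompl A _).1 h
    exact t.2 ((mul_right_mem_nonZeroDivisors_eq_zero_iff y.2).1 ht ▸ zero_mem p)
  obtain ⟨q, h1⟩ := exists_mul_eq_of_isIntegral (algebraMap R A) hne0 b hint
  apply hc
  rw [map_mul, ← h1]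
  exact Ideal.mul_mem_left _ _ (Ideal.mul_mem_left _ _ (Ideal.mem_span_singleton_self _))

/-- A local ring with `R₁` and `S₂` is a normal domain. -/
theorem normal_of_R1_S2 [IsLocalRing R] (hR : _root_.LocCoh.HasRk 1 R) (hS : _root_.LocCoh.HasSk 2 R R) :
    IsDomain R ∧ IsIntegrallyClosed R := by
  have := isReduced_of_R0_S1 (hasRk_mono zero_le_one hR) (hasSk_mono one_le_two hS)
  classical
  have hfin := minimalPrimes.finite_of_isNoetherianRing R
  obtain ⟨P, hP⟩ := Ideal.nonempty_minimalPrimes (I := (⊥ : Ideal R)) bot_ne_top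
  have hnil : ∀ y : R, (∀ q ∈ minimalPrimes R, y ∈ q) → y = 0 := by
    intro y hy
    have h1 : y ∈ sInf (minimalPrimes R) := Submodule.mem_sInf.2 hy
    rw [minimalPrimes, Ideal.sInf_minimalPrimes] at h1
    exact IsReduced.eq_zero y (by obtain ⟨n, hn⟩ := h1; exact ⟨n, by simpa using hn⟩)
  have hdom : IsDomain R := by
    by_cases hone : ∀ q ∈ minimalPrimes R, q = P
    · have hP0 : P = ⊥ := eq_bot_iff.2 fun y hy => (Submodule.mem_bot R).2 (hnil y fun q hq => hone q hq ▸ hy)
      have : (⊥ : Ideal R).IsPrime := hP0 ▸ hP.1.1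
      exact MulEquiv.isDomain _ (RingEquiv.quotientBot R).symm.toMulEquiv
    exfalso
    let J : Ideal R := ((hfin.toFinset).erase P).inf id
    have hJ : ∀ {y}, y ∈ J ↔ ∀ q ∈ minimalPrimes R, q ≠ P → y ∈ q := by
      intro y
      simp only [J, Submodule.mem_finsetInf, Finset.mem_erase, id_eq, Set.Finite.mem_toFinset]
      exact ⟨fun h q hq hne => h q ⟨hne, hq⟩, fun h q hq => h q hq.2 hq.1⟩
    obtain ⟨w, hw, hwq⟩ : ∃ w ∈ P ⊔ J, ∀ q ∈ minimalPrimes R, w ∉ q := by
      by_contra! hcon
      have hle : ((P ⊔ J : Ideal R) : Set R) ⊆ ⋃ q ∈ (hfin.toFinset : Set (Ideal R)), id q := by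
        intro y hy
        obtain ⟨q, hq, hyq⟩ := hcon y hy
        simp only [Set.Finite.coe_toFinset, Set.mem_iUnion, id_eq, SetLike.mem_coe]
        exact ⟨q, hq, hyq⟩
      obtain ⟨q, hq, hle'⟩ := (Ideal.subset_union_prime ⊥ ⊥ (fun q hq _ _ => (hfin.mem_toFinset.1 hq).1.1)).1 hle
      have hq' := hfin.mem_toFinset.1 hq
      have hPq : P = q := le_antisymm (le_sup_left.trans hle') (hq'.2 hP.1 (le_sup_left.trans hle'))
      subst hPq
      obtain ⟨q', hq'', hle''⟩ := hq'.1.1.inf_le'.1 (le_sup_right.trans hle' : J ≤ P)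
      rw [Finset.mem_erase, Set.Finite.mem_toFinset] at hq''
      exact hq''.1 (le_antisymm hle'' (hq'.2 hq''.2.1 hle''))
    obtain ⟨u, hu, v, hv, rfl⟩ := Submodule.mem_sup.1 hw
    have huv : u * v = 0 := hnil _ fun q hq => by
      by_cases hqP : q = P
      · exact hqP ▸ P.mul_mem_right _ hu
      · exact q.mul_mem_left _ (hJ.1 hv q hq hqP)
    have hb : u + v ∈ R⁰ := by
      rw [mem_nonZeroDivisors_iff_right]
      exact fun z hz => hnil z fun q hq => (hq.1.1.mem_or_mem (hz ▸ zero_mem q)).resolve_right (hwq q hq)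
    have hint : IsIntegral R (IsLocalization.mk' (Localization R⁰) u ⟨u + v, hb⟩) := by
      refine ⟨Polynomial.X ^ 2 - Polynomial.X, Polynomial.monic_X_pow_sub (by simp), ?_⟩
      simp only [Polynomial.eval₂_sub, Polynomial.eval₂_X_pow, Polynomial.eval₂_X]
      rw [sub_eq_zero, pow_two, ← IsLocalization.mk'_mul, IsLocalization.mk'_eq_iff_eq]
      congr 1
      simp only [Submonoid.coe_mul]
      linear_combination (-(u + v)) * huv
    obtain ⟨e, he⟩ := dvd_of_isIntegral_of_R1_S2 hR hS ⟨u + v, hb⟩ hint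
    change u = (u + v) * e at he
    have hidem : IsIdempotentElem e := by
      refine (mul_cancel_left_mem_nonZeroDivisors (pow_mem hb 2)).1 ?_
      linear_combination ((u + v) - (u + v) * e - u) * he - huv
    obtain ⟨q₁, hq₁, hne⟩ : ∃ q ∈ minimalPrimes R, q ≠ P := by
      push Not at hone; exact hone
    rcases IsLocalRing.isUnit_or_isUnit_one_sub_self e with h | h
    · have he1 : e = 1 := h.mul_left_cancel (by rw [hidem.eq, mul_one])
      have hv0 : v = 0 := by subst he1; linear_combination -he
      exact hwq P hP (by rw [hv0, add_zero]; exact hu)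
    · have he0 : e = 0 := by
        have h2 : (1 - e) * e = 0 := by rw [sub_mul, hidem.eq]; ring
        exact h.mul_right_eq_zero.1 h2
      have hu0 : u = 0 := by rw [he, he0, mul_zero]
      exact hwq q₁ hq₁ (by rw [hu0, zero_add]; exact hJ.1 hv q₁ hq₁ hne)
  refine ⟨hdom, (isIntegrallyClosed_iff (Localization R⁰)).2 fun {z} hz => ?_⟩
  obtain ⟨a, b, rfl⟩ := IsLocalization.exists_mk'_eq R⁰ z
  obtain ⟨q, hq⟩ := dvd_of_isIntegral_of_R1_S2 hR hS b hz
  exact ⟨q, (IsLocalization.mk'_eq_iff_eq_mul.2 (by rw [← map_mul, hq, mul_comm])).symm⟩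

theorem normal_localization_iff :
    (∀ (p : Ideal R) [p.IsPrime], IsDomain (Localization.AtPrime p) ∧ IsIntegrallyClosed (Localization.AtPrime p)) ↔
      (_root_.LocCoh.HasRk 1 R ∧ _root_.LocCoh.HasSk 2 R R) := by
  constructor
  · intro h
    refine ⟨fun p _ hp => ?_, (hasSk_self_iff 2).2 fun p _ => ?_⟩
    · obtain ⟨_, _⟩ := h p
      refine isRegularLocalRing_of_normal_dim_le_one ?_
      rw [IsLocalization.AtPrime.ringKrullDim_eq_height p (Localization.AtPrime p)]
      exact WithBot.coe_le_coe.2 hp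
    · obtain ⟨_, _⟩ := h p
      by_cases h2 : 2 ≤ ringKrullDim (Localization.AtPrime p)
      · exact min_le_of_left_le (WithBot.coe_le_coe.2 (two_le_depth_of_normal h2))
      · have hreg : IsRegularLocalRing (Localization.AtPrime p) := by
          refine isRegularLocalRing_of_normal_dim_le_one ?_
          rw [IsLocalization.AtPrime.ringKrullDim_eq_height p (Localization.AtPrime p)] at h2 ⊢
          rw [show (2 : WithBot ℕ∞) = ((2 : ℕ∞) : WithBot ℕ∞) from rfl, WithBot.coe_le_coe, not_le] at h2
          exact WithBot.coe_le_coe.2 ((ENat.lt_add_one_iff ENat.one_ne_top).1 (by rwa [one_add_one_eq_two]))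
        rw [depth_eq_ringKrullDim]
        exact min_le_right _ _
  · rintro ⟨hR, hS⟩ p _
    exact normal_of_R1_S2 (hasRk_localization p.primeCompl hR) (hasSk_localization p.primeCompl hS)

end normal

end Groth.Agent.CAlgH3
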