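import Groth.Agent.CAlgH3.RegularCore
import Mathlib.RingTheory.Ideal.Height
import Mathlib.RingTheory.KrullDimension.NonZeroDivisors

/-! `ht p + dim R/p ≤ dim R`. -/

universe u

namespace Groth.Agent.CAlgH3

theorem height_add_ringKrullDim_quotient_le {R : Type u} [CommRing R] (p : Ideal R) [hp : p.IsPrime] :
    (p.height : WithBot ℕ∞) + ringKrullDim (R ⧸ p) ≤ ringKrullDim R := by
  let P : PrimeSpectrum R := ⟨p, hp⟩
  have : Nonempty (PrimeSpectrum R) := ⟨P⟩
  have hq : ringKrullDim (R ⧸ p) = (Order.coheight P : WithBot ℕ∞) := by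
    rw [ringKrullDim_quotient, Order.coheight_eq_krullDim_Ici]
    rfl
  rw [hq, show p.height = Order.height P from PrimeSpectrum.height_eq_orderHeight P, ringKrullDim,
    Order.krullDim_eq_iSup_height_add_coheight_of_nonempty, ← WithBot.coe_add, WithBot.coe_le_coe]
  exact le_iSup (fun a => Order.height a + Order.coheight a) P

open IsLocalRing in
/-- Generators of `m/I` together with generators of `I` generate `m`. -/
theorem spanFinrank_maximalIdeal_le_add {R : Type u} [CommRing R] [IsLocalRing R] [IsNoetherianRing R]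
    (I : Ideal R) [IsLocalRing (R ⧸ I)] :
    (maximalIdeal R).spanFinrank ≤ Submodule.spanFinrank I + (maximalIdeal (R ⧸ I)).spanFinrank := by
  classical
  obtain ⟨s, hs1, hs2⟩ := (IsNoetherian.noetherian I).exists_span_finset_card_eq_spanFinrank
  obtain ⟨t, ht1, ht2⟩ := (IsNoetherian.noetherian (maximalIdeal (R ⧸ I))).exists_span_finset_card_eq_spanFinrank
  choose g hg using Ideal.Quotient.mk_surjective (I := I)
  have hsI : Ideal.span (s : Set R) = I := hs2
  have hIm : I ≤ maximalIdeal R :=
    le_maximalIdeal (Ideal.Quotient.nontrivial_iff.1 inferInstance)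
  have hgen : maximalIdeal R = Ideal.span ((s : Set R) ∪ g '' (t : Set (R ⧸ I))) := by
    have hmap : (Ideal.span (g '' (t : Set (R ⧸ I)))).map (Ideal.Quotient.mk I) = maximalIdeal (R ⧸ I) := by
      rw [Ideal.map_span, ← Set.image_comp]
      refine Eq.trans ?_ ht2
      congr 1
      ext z; simp [Function.comp, hg]
    rw [Ideal.span_union, hsI]
    have h := congrArg (Ideal.comap (Ideal.Quotient.mk I)) hmap
    rw [Ideal.comap_map_of_surjective _ Ideal.Quotient.mk_surjective, ← RingHom.ker_eq_comap_bot, Ideal.mk_ker] at h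
    rw [sup_comm, h]
    exact (((IsLocalRing.local_hom_TFAE (Ideal.Quotient.mk I)).out 0 4 rfl rfl).1
      (IsLocalHom.of_surjective _ Ideal.Quotient.mk_surjective)).symm
  rw [hgen, ← hs1, ← ht1]
  refine (Submodule.spanFinrank_span_le_ncard_of_finite (s.finite_toSet.union (t.finite_toSet.image g))).trans ?_
  refine (Set.ncard_union_le _ _).trans ?_
  rw [Set.ncard_coe_finset]
  exact Nat.add_le_add_left ((Set.ncard_image_le t.finite_toSet).trans (Set.ncard_coe_finset t).le) _

end Groth.Agent.CAlgH3
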