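import Mathlib.RingTheory.Spectrum.Prime.Topology
import Mathlib.RingTheory.Idempotents

namespace Groth.Agent.CAlgH3

universe u

variable {R : Type u} [CommRing R]

open PrimeSpectrum

lemma exists_idem_mul_eq {E : Set R} (hE : ∀ e ∈ E, IsIdempotentElem e)
    (hjoin : ∀ a ∈ E, ∀ b ∈ E, a + b - a * b ∈ E) (h0 : (0 : R) ∈ E) {j : R} (hj : j ∈ Ideal.span E) :
    ∃ f ∈ E, f * j = j := by
  induction hj using Submodule.span_induction with
  | mem x hx => exact ⟨x, hx, hE x hx⟩
  | zero => exact ⟨0, h0, mul_zero _⟩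
  | add x y _ _ hx hy =>
    obtain ⟨a, ha, hax⟩ := hx
    obtain ⟨b, hb, hby⟩ := hy
    refine ⟨_, hjoin a ha b hb, ?_⟩
    calc (a + b - a * b) * (x + y) = a * x + b * (x - a * x) + (b * y + a * (y - b * y)) := by ring
      _ = x + y := by rw [hax, hby, sub_self, sub_self, mul_zero, mul_zero, add_zero, add_zero]
  | smul c x _ hx =>
    obtain ⟨a, ha, hax⟩ := hx
    exact ⟨a, ha, by rw [smul_eq_mul, mul_left_comm, hax]⟩

/-- The idempotents lying in a prime. -/
def idemIn (p : PrimeSpectrum R) : Set R := {e : R | IsIdempotentElem e ∧ e ∈ p.asIdeal}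

lemma idemIn_mem_or (p : PrimeSpectrum R) {e : R} (he : IsIdempotentElem e) :
    e ∈ idemIn p ∨ 1 - e ∈ idemIn p := by
  have : e * (1 - e) ∈ p.asIdeal := by rw [mul_sub, mul_one, he.eq, sub_self]; exact p.asIdeal.zero_mem
  rcases p.isPrime.mem_or_mem this with h | h
  · exact Or.inl ⟨he, h⟩
  · exact Or.inr ⟨he.one_sub, h⟩

lemma isClopen_zeroLocus_idem {e : R} (he : IsIdempotentElem e) : IsClopen (zeroLocus ({e} : Set R)) :=
  isClopen_iff_mul_add_zeroLocus.2 ⟨e, 1 - e, by rw [mul_sub, mul_one, he.eq, sub_self], by ring, rfl⟩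

lemma preconnectedSpace_of_idempotents {A : Type u} [CommRing A]
    (h : ∀ e : A, IsIdempotentElem e → e = 0 ∨ e = 1) : PreconnectedSpace (PrimeSpectrum A) := by
  rw [preconnectedSpace_iff_clopen]
  intro s hs
  obtain ⟨e, he, rfl⟩ := exists_idempotent_basicOpen_eq_of_isClopen hs
  rcases h e he with rfl | rfl
  · left; simp
  · right; simp

theorem connectedComponent_eq_zeroLocus (p : PrimeSpectrum R) :
    connectedComponent p = zeroLocus (idemIn p) := by
  apply le_antisymm
  · intro x hx e he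
    have h : connectedComponent p ⊆ zeroLocus ({e} : Set R) :=
      (isClopen_zeroLocus_idem he.1).connectedComponent_subset (by simpa [mem_zeroLocus] using he.2)
    simpa [mem_zeroLocus] using h hx
  · let J := Ideal.span (idemIn p)
    have hJ : ∀ e : R ⧸ J, IsIdempotentElem e → e = 0 ∨ e = 1 := by
      intro x hx
      obtain ⟨e, rfl⟩ := Ideal.Quotient.mk_surjective x
      have h1 : e * e - e ∈ J := by
        rw [← Ideal.Quotient.eq_zero_iff_mem, map_sub, map_mul, hx.eq, sub_self]
      obtain ⟨f, hf, hfe⟩ := exists_idem_mul_eq (E := idemIn p) (fun e he => he.1) (fun a ha b hb =>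
        ⟨ha.1.add_sub_mul hb.1, p.asIdeal.sub_mem (p.asIdeal.add_mem ha.2 hb.2) (p.asIdeal.mul_mem_left _ hb.2)⟩)
        ⟨IsIdempotentElem.zero, p.asIdeal.zero_mem⟩ h1
      have hi : IsIdempotentElem (e * (1 - f)) := by
        change e * (1 - f) * (e * (1 - f)) = e * (1 - f)
        calc e * (1 - f) * (e * (1 - f)) = e * (1 - f) + (e * e - e - f * (e * e - e))
              + e * e * (f * f - f) := by ring
          _ = e * (1 - f) := by rw [hfe, sub_self, hf.1.eq, sub_self, mul_zero, add_zero, add_zero]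
      have hmk : Ideal.Quotient.mk J (e * (1 - f)) = Ideal.Quotient.mk J e := by
        rw [map_mul, map_sub, Ideal.Quotient.eq_zero_iff_mem.2 (Ideal.subset_span hf), sub_zero, map_one, mul_one]
      rcases idemIn_mem_or p hi with h | h
      · left; rw [← hmk]; exact Ideal.Quotient.eq_zero_iff_mem.2 (Ideal.subset_span h)
      · right; rw [← hmk]
        have := Ideal.Quotient.eq_zero_iff_mem.2 (Ideal.subset_span h : _ ∈ J)
        rw [map_sub, map_one, sub_eq_zero] at this
        exact this.symm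
    have := preconnectedSpace_of_idempotents hJ
    have hr : Set.range (comap (Ideal.Quotient.mk J)) = zeroLocus (idemIn p) := by
      rw [range_comap_of_surjective _ _ Ideal.Quotient.mk_surjective, Ideal.mk_ker, zeroLocus_span]
    rw [← hr]
    refine (isPreconnected_range (continuous_comap _)).subset_connectedComponent ?_
    rw [hr]
    exact fun e he => he.2

theorem closed_union_components_eq (T : Set (PrimeSpectrum R)) (hT : IsClosed T)
    (hc : ∀ x ∈ T, connectedComponent x ⊆ T) :
    T = zeroLocus {e : R | IsIdempotentElem e ∧ ∀ x ∈ T, e ∈ x.asIdeal} := by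
  refine le_antisymm (fun x hx e he => he.2 x hx) fun x hx => ?_
  by_contra hxT
  obtain ⟨I, rfl⟩ := (isClosed_iff_zeroLocus_ideal T).1 hT
  have htop : I ⊔ Ideal.span (idemIn x) = ⊤ := by
    by_contra hne
    obtain ⟨m, hm, hle⟩ := Ideal.exists_le_maximal _ hne
    let y : PrimeSpectrum R := ⟨m, hm.isPrime⟩
    have hy : y ∈ zeroLocus (I : Set R) := fun a ha => hle (Ideal.mem_sup_left ha)
    have hyx : y ∈ connectedComponent x := by
      rw [connectedComponent_eq_zeroLocus]
      exact fun a ha => hle (Ideal.mem_sup_right (Ideal.subset_span ha))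
    exact hxT (hc y hy (connectedComponent_eq hyx ▸ mem_connectedComponent))
  obtain ⟨i, hi, j, hj, hij⟩ := Submodule.mem_sup.1 ((Ideal.eq_top_iff_one _).1 htop)
  obtain ⟨f, hf, hfj⟩ := exists_idem_mul_eq (E := idemIn x) (fun e he => he.1) (fun a ha b hb =>
    ⟨ha.1.add_sub_mul hb.1, x.asIdeal.sub_mem (x.asIdeal.add_mem ha.2 hb.2) (x.asIdeal.mul_mem_left _ hb.2)⟩)
    ⟨IsIdempotentElem.zero, x.asIdeal.zero_mem⟩ hj
  have hmem : 1 - f ∈ {e : R | IsIdempotentElem e ∧ ∀ x ∈ zeroLocus (I : Set R), e ∈ x.asIdeal} := by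
    refine ⟨hf.1.one_sub, fun z hz => ?_⟩
    have : (1 - f) * (i + j) ∈ z.asIdeal := by
      rw [mul_add, show (1 - f) * j = j - f * j by ring, hfj, sub_self, add_zero]
      exact z.asIdeal.mul_mem_left _ (hz hi)
    rwa [hij, mul_one] at this
  have h1 : (1 : R) - f ∈ x.asIdeal := hx hmem
  exact x.isPrime.ne_top ((Ideal.eq_top_iff_one _).2 (by simpa using x.asIdeal.add_mem h1 hf.2))

end Groth.Agent.CAlgH3
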