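import Groth.Agent.VarietyLib.GeomComponents
import Groth.Agent.VarietyLib.GeomField
import Groth.Agent.Desc19.Topology
import Groth.Agent.CAlgH3.Components

/-! Commutative algebra forms of geometric irreducibility and connectedness over a field. -/

set_option autoImplicit false
set_option backward.isDefEq.respectTransparency.types false

universe u

open CategoryTheory Limits AlgebraicGeometry TensorProduct Groth.Agent.VarietyLib

namespace Groth.Agent.CAlgH3.GeomBridge

variable (k : Type u) [Field k] (R : Type u) [CommRing R] [Algebra k R]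

/-- The structure morphism of an affine scheme over a field. -/
noncomputable abbrev str : Spec (CommRingCat.of R) ⟶ Spec (CommRingCat.of k) :=
  Spec.map (CommRingCat.ofHom (algebraMap k R))

/-- The base change of an affine scheme is the spectrum of the tensor product. -/
noncomputable def homeo (K : Type u) [Field K] [Algebra k K] :
    PrimeSpectrum (K ⊗[k] R) ≃ₜ ↥(pullback (str k R) (Spec.map (CommRingCat.ofHom (algebraMap k K)))) :=
  (PrimeSpectrum.homeomorphOfRingEquiv (Algebra.TensorProduct.comm k K R).toRingEquiv).trans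
    (pullbackSpecIso k R K).inv.homeomorph

theorem irreducible_iff : GeometricallyIrreducible (str k R) ↔
    ∀ (K : Type u) [Field K] [Algebra k K], IrreducibleSpace (PrimeSpectrum (K ⊗[k] R)) := by
  rw [AlgebraicGeometry.geometricallyIrreducible_iff, geometrically_iff_of_commRing_of_isClosedUnderIsomorphisms]
  exact forall_congr' fun K => forall₂_congr fun _ _ => ((homeo k R K).irreducibleSpace_iff).symm

theorem connected_iff : GeometricallyConnected (str k R) ↔
    ∀ (K : Type u) [Field K] [Algebra k K], ConnectedSpace (PrimeSpectrum (K ⊗[k] R)) := by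
  rw [AlgebraicGeometry.geometricallyConnected_iff, geometrically_iff_of_commRing_of_isClosedUnderIsomorphisms]
  exact forall_congr' fun K => forall₂_congr fun _ _ =>
    ⟨fun _ => (homeo k R K).symm.surjective.connectedSpace (homeo k R K).symm.continuous,
      fun _ => (homeo k R K).surjective.connectedSpace (homeo k R K).continuous⟩

instance universallyOpen_str : UniversallyOpen (str k R) :=
  Groth.Agent.Desc19.universallyOpen_of_subsingleton _

variable {k R}

theorem surjective_comap_of_field (K L : Type u) [Field K] [Field L] [Algebra k K] [Algebra k L] (φ : K →ₐ[k] L)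
    (R : Type u) [CommRing R] [Algebra k R] :
    Function.Surjective (PrimeSpectrum.comap (Algebra.TensorProduct.map φ (AlgHom.id k R)).toRingHom) := by
  letI := φ.toRingHom.toAlgebra
  have : IsScalarTower k K L := .of_algebraMap_eq fun c => (φ.commutes c).symm
  let e : L ⊗[K] (K ⊗[k] R) ≃ₐ[L] L ⊗[k] R := Algebra.TensorProduct.cancelBaseChange k K L L R
  intro p
  obtain ⟨q, hq⟩ := (PrimeSpectrum.comap_surjective_of_faithfullyFlat (A := K ⊗[k] R) (B := (K ⊗[k] R) ⊗[K] L)) p
  let θ : (K ⊗[k] R) ⊗[K] L →+* L ⊗[k] R :=
    e.toRingHom.comp (Algebra.TensorProduct.comm K (K ⊗[k] R) L).toRingHom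
  have hθ : Function.Bijective θ := e.bijective.comp (Algebra.TensorProduct.comm K (K ⊗[k] R) L).bijective
  refine ⟨PrimeSpectrum.comap (RingEquiv.ofBijective θ hθ).symm.toRingHom q, ?_⟩
  rw [← hq, ← PrimeSpectrum.comap_comp_apply]
  congr 1
  refine RingHom.ext fun x => ?_
  change (RingEquiv.ofBijective θ hθ).symm (Algebra.TensorProduct.map φ (AlgHom.id k R) x) = algebraMap (K ⊗[k] R) _ x
  rw [RingEquiv.symm_apply_eq]
  induction x using TensorProduct.induction_on with
  | zero => simp
  | add a b ha hb => rw [map_add, map_add, map_add, ha, hb]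
  | tmul a r =>
    rw [Algebra.TensorProduct.map_tmul, AlgHom.id_apply, RingEquiv.ofBijective_apply]
    change φ a ⊗ₜ[k] r = e ((1 : L) ⊗ₜ[K] (a ⊗ₜ[k] r))
    rw [Algebra.TensorProduct.cancelBaseChange_tmul, Algebra.smul_def, mul_one]
    rfl

theorem isIdempotentElem_trivial_of_connected (A : Type u) [CommRing A] [ConnectedSpace (PrimeSpectrum A)] {e : A}
    (he : IsIdempotentElem e) : e = 0 ∨ e = 1 := by
  rcases isClopen_iff.1 (PrimeSpectrum.isClopen_iff_mul_add.2 ⟨e, 1 - e, by rw [mul_sub, mul_one, he.eq, sub_self], by ring, rfl⟩ :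
    IsClopen (PrimeSpectrum.basicOpen e : Set (PrimeSpectrum A))) with h | h
  · left
    have h1 : IsNilpotent e := (PrimeSpectrum.basicOpen_eq_bot_iff e).1 (by ext1; exact h)
    obtain ⟨n, hn⟩ := h1
    rcases n with _ | n
    · rw [← mul_one e, ← pow_zero e, hn, mul_zero]
    · rwa [he.pow_succ_eq] at hn
  · right
    have h1 : IsUnit e := by
      by_contra hne
      obtain ⟨M, hM, heM⟩ := exists_max_ideal_of_mem_nonunits hne
      exact (Set.eq_univ_iff_forall.1 h ⟨M, hM.isPrime⟩) heM
    exact h1.mul_left_cancel (by rw [he.eq, mul_one])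

end Groth.Agent.CAlgH3.GeomBridge
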