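import Groth.Agent.LocCoh.Depth
import Groth.Prelude.Def_CAlg
import Mathlib.RingTheory.Ideal.AssociatedPrime.Finiteness
import Mathlib.RingTheory.KrullDimension.Regular

/-! API for `LocCoh.depth` over Noetherian local rings: invariance, regular elements, bounds. -/

universe u v w

open IsLocalRing RingTheory.Sequence CategoryTheory Abelian
open scoped Pointwise

namespace Groth.Agent.CAlgH3

section general

variable {R : Type u} [CommRing R]

theorem idealDepth_congr (I : Ideal R) {M : Type v} [AddCommGroup M] [Module R M] {N : Type w}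
    [AddCommGroup N] [Module R N] (e : M ≃ₗ[R] N) :
    _root_.LocCoh.idealDepth I M = _root_.LocCoh.idealDepth I N := by
  have h : (I • ⊤ : Submodule R M) = ⊤ ↔ (I • ⊤ : Submodule R N) = ⊤ := by
    rw [← (Submodule.map_injective_of_injective (f := e.toLinearMap) e.injective).eq_iff,
      Submodule.map_smul'', Submodule.map_top, LinearMap.range_eq_top.2 e.surjective]
  rw [_root_.LocCoh.idealDepth, _root_.LocCoh.idealDepth]
  simp only [h, e.isWeaklyRegular_congr]

theorem depth_congr [IsLocalRing R] {M : Type v} [AddCommGroup M] [Module R M] {N : Type w}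
    [AddCommGroup N] [Module R N] (e : M ≃ₗ[R] N) :
    _root_.LocCoh.depth R M = _root_.LocCoh.depth R N :=
  idealDepth_congr _ e

/-- Ideal depth along a surjective ring map. -/
theorem idealDepth_of_surjective {S : Type w} [CommRing S] [Algebra R S]
    (hf : Function.Surjective (algebraMap R S)) (I : Ideal R) (M : Type v) [AddCommGroup M] [Module R M]
    [Module S M] [IsScalarTower R S M] :
    _root_.LocCoh.idealDepth (I.map (algebraMap R S)) M = _root_.LocCoh.idealDepth I M := by
  have h : (I.map (algebraMap R S) • ⊤ : Submodule S M) = ⊤ ↔ (I • ⊤ : Submodule R M) = ⊤ := by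
    rw [← Submodule.restrictScalars_eq_top_iff R S M, Ideal.smul_restrictScalars, Submodule.restrictScalars_top]
  rw [_root_.LocCoh.idealDepth, _root_.LocCoh.idealDepth]
  simp only [h]
  split_ifs
  · rfl
  apply le_antisymm
  · refine iSup₂_le fun rs hrs => ?_
    choose pre hpre using fun r : {r // r ∈ rs} =>
      (Ideal.mem_map_iff_of_surjective _ hf).1 (hrs.2 r.1 r.2)
    let rs' := rs.attach.map pre
    have he : rs'.map (algebraMap R S) = rs := by
      rw [List.map_map]
      conv_rhs => rw [← rs.attach_map_subtype_val]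
      exact List.map_congr_left fun r _ => (hpre r).2
    refine le_iSup₂_of_le rs' ⟨(isWeaklyRegular_map_algebraMap_iff S M rs').1 (he ▸ hrs.1), fun r hr => ?_⟩ ?_
    · obtain ⟨a, -, rfl⟩ := List.mem_map.1 hr
      exact (hpre a).1
    · simp [rs']
  · refine iSup₂_le fun rs hrs => ?_
    refine le_iSup₂_of_le (rs.map (algebraMap R S))
      ⟨(isWeaklyRegular_map_algebraMap_iff S M rs).2 hrs.1, fun r hr => ?_⟩ (by simp)
    obtain ⟨a, ha, rfl⟩ := List.mem_map.1 hr
    exact Ideal.mem_map_of_mem _ (hrs.2 a ha)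

/-- Depth does not change along a surjective map of local rings. -/
theorem depth_of_surjective [IsLocalRing R] {S : Type w} [CommRing S] [IsLocalRing S] [Algebra R S]
    (hf : Function.Surjective (algebraMap R S)) (M : Type v) [AddCommGroup M] [Module R M]
    [Module S M] [IsScalarTower R S M] :
    _root_.LocCoh.depth S M = _root_.LocCoh.depth R M := by
  rw [_root_.LocCoh.depth, _root_.LocCoh.depth,
    ← IsLocalRing.map_maximalIdeal_of_surjective _ hf, idealDepth_of_surjective hf]

theorem depth_quotient_ring [IsLocalRing R] (I : Ideal R) [IsLocalRing (R ⧸ I)] :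
    _root_.LocCoh.depth (R ⧸ I) (R ⧸ I) = _root_.LocCoh.depth R (R ⧸ I) :=
  depth_of_surjective (R := R) Ideal.Quotient.mk_surjective _

theorem depth_ringEquiv {S : Type w} [CommRing S] [IsLocalRing R] [IsLocalRing S] (e : R ≃+* S) :
    _root_.LocCoh.depth R R = _root_.LocCoh.depth S S := by
  let := e.toRingHom.toAlgebra
  let e' : R ≃ₗ[R] S := { e.toAddEquiv with map_smul' := fun r x => map_mul e r x }
  rw [depth_of_surjective (R := R) (S := S) e.surjective S, depth_congr e']

theorem natCast_add_one_le_iff {n : ℕ} {a : ℕ∞} : ((n + 1 : ℕ) : ℕ∞) ≤ a + 1 ↔ (n : ℕ∞) ≤ a := by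
  push_cast
  exact WithTop.add_le_add_iff_right ENat.one_ne_top

end general

section noetherian

variable {R : Type u} [CommRing R] [IsLocalRing R] [IsNoetherianRing R]
variable {M : Type u} [AddCommGroup M] [Module R M] [Module.Finite R M]

theorem maximal_smul_top_ne_top [Nontrivial M] : maximalIdeal R • (⊤ : Submodule R M) ≠ ⊤ :=
  LocCoh.smul_top_ne_top_of_nontrivial M (IsLocalRing.maximalIdeal.isMaximal R).ne_top

theorem depth_quotSMulTop_add_one {x : R} (hx : x ∈ maximalIdeal R) (hreg : IsSMulRegular M x) :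
    _root_.LocCoh.depth R (QuotSMulTop x M) + 1 = _root_.LocCoh.depth R M :=
  LocCoh.idealDepth_quotSMulTop_add_one _ M hx hreg

theorem depth_eq_top_of_subsingleton [Subsingleton M] : _root_.LocCoh.depth R M = ⊤ :=
  LocCoh.idealDepth_eq_top _ M (Subsingleton.elim _ _)

theorem exists_regular_iff_notMem_associatedPrimes :
    (∃ x ∈ maximalIdeal R, IsSMulRegular M x) ↔ maximalIdeal R ∉ associatedPrimes R M := by
  constructor
  · rintro ⟨x, hx, hreg⟩ hm
    have : x ∈ ⋃ p ∈ associatedPrimes R M, (p : Set R) := Set.mem_biUnion hm hx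
    rw [biUnion_associatedPrimes_eq_zero_divisors] at this
    obtain ⟨m, hm0, hxm⟩ := this
    exact hm0 (hreg.right_eq_zero_of_smul hxm)
  · intro hm
    by_contra h
    push_neg at h
    have hle : (maximalIdeal R : Set R) ⊆ ⋃ p ∈ ((associatedPrimes.finite R M).toFinset : Set (Ideal R)), id p := by
      intro x hx
      rw [Set.Finite.coe_toFinset]
      have hnot := h x hx
      simp only [id_eq]
      rw [biUnion_associatedPrimes_eq_zero_divisors]
      rw [isSMulRegular_iff_right_eq_zero_of_smul] at hnot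
      push_neg at hnot
      obtain ⟨m, hm1, hm2⟩ := hnot
      exact ⟨m, hm2, hm1⟩
    obtain ⟨p, hp, hle'⟩ := (Ideal.subset_union_prime ⊥ ⊥ (fun p hp _ _ =>
      IsAssociatedPrime.isPrime ((associatedPrimes.finite R M).mem_toFinset.1 hp))).1 hle
    rw [Set.Finite.mem_toFinset] at hp
    exact hm ((IsLocalRing.maximalIdeal.isMaximal R).eq_of_le (IsAssociatedPrime.isPrime hp).ne_top hle' ▸ hp)

theorem one_le_depth_iff [Nontrivial M] :
    1 ≤ _root_.LocCoh.depth R M ↔ maximalIdeal R ∉ associatedPrimes R M := by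
  rw [← exists_regular_iff_notMem_associatedPrimes, ← Nat.cast_one, _root_.LocCoh.depth,
    LocCoh.natCast_le_idealDepth_iff_exists _ M maximal_smul_top_ne_top]
  constructor
  · rintro ⟨_ | ⟨x, rs⟩, hlen, hmem, hreg⟩
    · simp at hlen
    · exact ⟨x, hmem x (by simp), ((isRegular_cons_iff M x rs).1 hreg).1⟩
  · rintro ⟨x, hx, hreg⟩
    refine ⟨[x], le_rfl, by simpa using hx, ⟨(isWeaklyRegular_singleton_iff M x).2 hreg, ?_⟩⟩
    intro h
    exact maximal_smul_top_ne_top (M := M) (eq_top_iff.2 (h.le.trans (Submodule.smul_mono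
      (Ideal.span_le.2 fun r hr => by simp only [List.mem_singleton, Set.mem_setOf_eq] at hr; exact hr ▸ hx) le_rfl)))

theorem depth_eq_zero_iff [Nontrivial M] :
    _root_.LocCoh.depth R M = 0 ↔ maximalIdeal R ∈ associatedPrimes R M := by
  rw [← not_iff_not, ← one_le_depth_iff, Order.one_le_iff_pos, pos_iff_ne_zero]

theorem exists_regular_of_one_le_depth [Nontrivial M] (h : 1 ≤ _root_.LocCoh.depth R M) :
    ∃ x ∈ maximalIdeal R, IsSMulRegular M x :=
  exists_regular_iff_notMem_associatedPrimes.2 (one_le_depth_iff.1 h)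

theorem depth_le_ringKrullDim_quotient {p : Ideal R} (hp : p ∈ associatedPrimes R M) :
    ((_root_.LocCoh.depth R M : ℕ∞) : WithBot ℕ∞) ≤ ringKrullDim (R ⧸ p) := by
  have hprime : p.IsPrime := IsAssociatedPrime.isPrime hp
  obtain ⟨f, hf⟩ := ((isAssociatedPrime_iff_exists_injective_linearMap p M).1 hp).2
  have : Nontrivial (R ⧸ p) := Ideal.Quotient.nontrivial_iff.2 hprime.ne_top
  generalize hk : ringKrullDim (R ⧸ p) = k
  induction k using WithBot.recBotCoe with
  | bot => exact absurd hk (ne_of_gt (lt_of_lt_of_le (WithBot.bot_lt_coe _) ringKrullDim_nonneg_of_nontrivial))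
  | coe k =>
    rw [WithBot.coe_le_coe]
    induction k using ENat.recTopCoe with
    | top => exact le_top
    | coe r =>
      by_contra hlt
      have hd : ((r + 1 : ℕ) : ℕ∞) ≤ _root_.LocCoh.depth R M := by
        rw [not_le] at hlt
        exact_mod_cast Order.add_one_le_of_lt hlt
      have hs : Subsingleton (Ext (ModuleCat.of R (R ⧸ p)) (ModuleCat.of R M) 0) :=
        LocCoh.subsingleton_ext_of_supportDim_add_lt M hd r (R ⧸ p)
          (by rw [Module.supportDim_quotient_eq_ringKrullDim, hk]; rfl) 0 (by omega)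
      have : Subsingleton ((R ⧸ p) →ₗ[R] M) :=
        ((Ext.addEquiv₀.trans ModuleCat.homAddEquiv).toEquiv.subsingleton_congr).1 hs
      have h0 : f = 0 := Subsingleton.elim _ _
      obtain ⟨a, b, hab⟩ := exists_pair_ne (R ⧸ p)
      exact hab (hf (by simp [h0]))

theorem depth_le_supportDim [Nontrivial M] :
    ((_root_.LocCoh.depth R M : ℕ∞) : WithBot ℕ∞) ≤ Module.supportDim R M := by
  obtain ⟨p, hp⟩ := associatedPrimes.nonempty R M
  refine (depth_le_ringKrullDim_quotient hp).trans ?_
  rw [Module.supportDim_eq_ringKrullDim_quotient_annihilator]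
  exact ringKrullDim_le_of_surjective (Ideal.Quotient.factor (Submodule.annihilator_top (R := R) (M := M) ▸ IsAssociatedPrime.annihilator_le hp))
    (Ideal.Quotient.factor_surjective _)

theorem depth_lt_top [Nontrivial M] : _root_.LocCoh.depth R M < ⊤ := by
  rw [lt_top_iff_ne_top]
  intro h
  have h1 := (depth_le_supportDim (R := R) (M := M)).trans (Module.supportDim_le_ringKrullDim R M)
  rw [h] at h1
  exact absurd (h1.trans_lt (ringKrullDim_lt_top (R := R))) (lt_irrefl _)

theorem exists_depth_eq_natCast [Nontrivial M] : ∃ n : ℕ, _root_.LocCoh.depth R M = n :=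
  ⟨_, (ENat.coe_toNat (depth_lt_top (M := M)).ne).symm⟩

/-- The depth of a retract is at least the depth of the module. -/
theorem depth_le_of_retract {N : Type u} [AddCommGroup N] [Module R N] [Module.Finite R N]
    (i : N →ₗ[R] M) (p : M →ₗ[R] N) (h : p ∘ₗ i = LinearMap.id) :
    _root_.LocCoh.depth R M ≤ _root_.LocCoh.depth R N := by
  refine ENat.forall_natCast_le_iff_le.1 fun n hn => ?_
  rw [_root_.LocCoh.depth, LocCoh.natCast_le_idealDepth_iff_ext] at hn ⊢
  intro j hj
  have := hn j hj
  refine subsingleton_of_forall_eq 0 fun e => ?_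
  have h1 : (e.comp (Ext.mk₀ (ModuleCat.ofHom i)) (add_zero j)).comp (Ext.mk₀ (ModuleCat.ofHom p)) (add_zero j) = e := by
    rw [Ext.comp_assoc_of_second_deg_zero, Ext.mk₀_comp_mk₀, ← ModuleCat.ofHom_comp, h, ModuleCat.ofHom_id,
      Ext.comp_mk₀_id]
  rw [← h1, Subsingleton.elim (e.comp (Ext.mk₀ (ModuleCat.ofHom i)) (add_zero j)) 0, Ext.zero_comp]

theorem depth_prod {N : Type u} [AddCommGroup N] [Module R N] [Module.Finite R N] :
    _root_.LocCoh.depth R (M × N) = min (_root_.LocCoh.depth R M) (_root_.LocCoh.depth R N) := by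
  refine le_antisymm (le_min (depth_le_of_retract (LinearMap.inl R M N) (LinearMap.fst R M N) (LinearMap.fst_comp_inl _ _ _))
    (depth_le_of_retract (LinearMap.inr R M N) (LinearMap.snd R M N) (LinearMap.snd_comp_inr _ _ _))) ?_
  exact (LocCoh.idealDepth_shortExact (maximalIdeal R) M (M × N) N (LinearMap.inl R M N) (LinearMap.snd R M N)
    LinearMap.inl_injective LinearMap.snd_surjective Function.Exact.inl_snd).1

variable (M) in
theorem depth_free [Module.Free R M] [Nontrivial M] :
    _root_.LocCoh.depth R M = _root_.LocCoh.depth R R := by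
  classical
  let b := Module.Free.chooseBasis R M
  obtain ⟨i⟩ := b.index_nonempty
  apply le_antisymm
  · refine depth_le_of_retract (LinearMap.toSpanSingleton R M (b i)) (b.coord i) ?_
    ext
    simp
  · rw [depth_congr b.equivFun]
    have key : ∀ n, _root_.LocCoh.depth R R ≤ _root_.LocCoh.depth R (Fin n → R) := by
      intro n
      induction n with
      | zero => rw [depth_eq_top_of_subsingleton (M := Fin 0 → R)]; exact le_top
      | succ n ih =>
        rw [← depth_congr (Fin.consLinearEquiv R (fun _ : Fin (n + 1) => R)), depth_prod]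
        exact le_min le_rfl ih
    rw [depth_congr (LinearEquiv.funCongrLeft R R (Fintype.equivFin _).symm)]
    exact key _

end noetherian

end Groth.Agent.CAlgH3
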