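import Groth.Agent.DimLib.Algebra
import Groth.Agent.HenselLib.Local
import Groth.Agent.Matlis6.CompletionNoetherian
import Groth.Agent.CAlgH3.Depth
import Mathlib.RingTheory.AdicCompletion.LocalRing
import Mathlib.RingTheory.Flat.FaithfullyFlat.Algebra
import Mathlib.RingTheory.Ideal.AssociatedPrime.Localization
import Mathlib.RingTheory.Localization.Integer

/-! Branches of a one-dimensional local ring and minimal primes of the completion. -/

universe u

open IsLocalRing TensorProduct

namespace Groth.Agent.CAlgH3.Branches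

/-- A domain finite over a henselian local ring is local. -/
theorem maximal_unique (R D : Type u) [CommRing R] [IsLocalRing R] [HenselianRing R (maximalIdeal R)] [CommRing D]
    [IsDomain D] [Algebra R D] [Module.Finite R D] (M M' : Ideal D) [hM : M.IsMaximal] [hM' : M'.IsMaximal] : M = M' := by
  have := HenselLib.isArtinianRing_closedFibre R D
  obtain ⟨-, he⟩ := HenselLib.exists_idempotents_maximalSpectrum ((maximalIdeal R).map (algebraMap R D))
    (HenselLib.map_maximalIdeal_le_jacobson R D) (fun b hb => HenselLib.exists_idempotent (maximalIdeal R) b hb)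
  by_contra hne
  obtain ⟨e, hei, heM, heo⟩ := he ⟨M, hM⟩
  rcases IsIdempotentElem.iff_eq_zero_or_one.1 hei with rfl | rfl
  · exact heM M.zero_mem
  · exact hM'.ne_top ((Ideal.eq_top_iff_one M').2 (heo ⟨M', hM'⟩ fun h => hne (congrArg MaximalSpectrum.asIdeal h).symm))

/-- A Noetherian local ring whose maximal ideal is generated by a regular element is a domain. -/
theorem isDomain_of_regular_generator {R : Type u} [CommRing R] [IsLocalRing R] [IsNoetherianRing R] {π : R}
    (hπ : maximalIdeal R ≤ Ideal.span {π}) (hπm : π ∈ maximalIdeal R) (hreg : IsSMulRegular R π) : IsDomain R := by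
  classical
  have hfac : ∀ x : R, x ≠ 0 → ∃ n, ∃ u, IsUnit u ∧ x = π ^ n * u := by
    intro x hx
    have hbot := Ideal.iInf_pow_eq_bot_of_isLocalRing (Ideal.span {π}) (fun h => (maximalIdeal.isMaximal R).ne_top (top_le_iff.1 (h ▸ Ideal.span_le.2 (by simpa using hπm))))
    have hex : ∃ n, ¬ π ^ n ∣ x := by
      by_contra! hall
      refine hx ((Submodule.mem_bot R).1 (hbot ▸ ?_))
      rw [Submodule.mem_iInf]
      intro n
      rw [Ideal.span_singleton_pow, Ideal.mem_span_singleton]
      exact hall n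
    obtain ⟨n, hn⟩ : ∃ n, Nat.find hex = n + 1 := Nat.exists_eq_succ_of_ne_zero (fun h => Nat.find_spec hex (by rw [h, pow_zero]; exact one_dvd x))
    obtain ⟨u, hu⟩ : π ^ n ∣ x := by
      by_contra h
      exact absurd (Nat.find_min' hex h) (by omega)
    refine ⟨n, u, ?_, hu⟩
    by_contra hnu
    obtain ⟨v, rfl⟩ := Ideal.mem_span_singleton.1 (hπ ((mem_maximalIdeal u).2 hnu))
    exact Nat.find_spec hex (by rw [hn, hu]; exact ⟨v, by ring⟩)
  have : NoZeroDivisors R := by
    refine ⟨fun {a b} hab => ?_⟩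
    by_contra! hh
    obtain ⟨i, u, hu, rfl⟩ := hfac a hh.1
    obtain ⟨j, v, hv, rfl⟩ := hfac b hh.2
    have : u * v = 0 := (hreg.pow (i + j)).right_eq_zero_of_smul (by
      rw [smul_eq_mul, pow_add, ← hab]; ring)
    exact (hu.mul hv).ne_zero this
  exact NoZeroDivisors.to_isDomain R

theorem isSMulRegular_of_mul {L : Type u} [CommRing L] {a : L} (h : ∀ v, a * v = 0 → v = 0) : IsSMulRegular L a :=
  fun v1 v2 he => sub_eq_zero.1 (h _ (by rw [mul_sub]; exact sub_eq_zero.2 he))

variable (A : Type u) [CommRing A] [IsNoetherianRing A] [IsLocalRing A] [IsReduced A]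

theorem exists_regular_mem (hdim : ringKrullDim A = 1) : ∃ t ∈ maximalIdeal A, t ∈ nonZeroDivisors A := by
  classical
  by_contra! hall
  have hsub : (maximalIdeal A : Set A) ⊆ ⋃ p ∈ ((minimalPrimes.finite_of_isNoetherianRing A).toFinset : Set (Ideal A)), (p : Set A) := by
    intro x hx
    have hnd := hall x hx
    rw [mem_nonZeroDivisors_iff_right] at hnd
    push Not at hnd
    obtain ⟨y, hyx, hy⟩ := hnd
    have : x ∈ ⋃ p ∈ (⊥ : Ideal A).minimalPrimes, (p : Set A) := by
      rw [Ideal.iUnion_minimalPrimes]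
      refine ⟨y, fun h => hy ?_, ?_⟩
      · rwa [show (⊥ : Ideal A).radical = ⊥ from nilradical_eq_zero A, Ideal.mem_bot] at h
      · rw [mul_comm, hyx]; exact Submodule.zero_mem _
    simpa [minimalPrimes] using this
  obtain ⟨q, hq, hle⟩ := (Ideal.subset_union_prime ⊥ ⊥ fun p hp _ _ =>
    ((minimalPrimes.finite_of_isNoetherianRing A).mem_toFinset.1 hp).1.1).1 hsub
  have hq' := (minimalPrimes.finite_of_isNoetherianRing A).mem_toFinset.1 hq
  have := hq'.1.1
  have h0 : (maximalIdeal A).height = 0 := Ideal.height_eq_zero_iff.2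
    (by rwa [← le_antisymm (le_maximalIdeal hq'.1.1.ne_top) hle])
  rw [← IsLocalRing.maximalIdeal_height_eq_ringKrullDim, h0] at hdim
  exact absurd hdim (by simp)

/-- The branches of `A` at a finite normalisation are the minimal primes of the completion. -/
theorem ncard_maximal_eq (hdim : ringKrullDim A = 1) (hfin : Module.Finite A (integralClosure A (FractionRing A))) :
    {P : Ideal (integralClosure A (FractionRing A)) | P.IsMaximal}.ncard =
      (minimalPrimes (AdicCompletion (maximalIdeal A) A)).ncard := by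
  classical
  let K := FractionRing A
  let A' := integralClosure A K
  let Ah := AdicCompletion (maximalIdeal A) A
  have : IsNoetherianRing Ah := Groth.Agent.Matlis6.isNoetherianRing_adicCompletion (maximalIdeal A)
  have : Module.FaithfullyFlat A Ah := Module.FaithfullyFlat.of_flat_of_isLocalHom
  have hAinj : Function.Injective (algebraMap A A') := fun a b h =>
    IsFractionRing.injective A K (congrArg (fun z : A' => (z : K)) h)
  have : IsNoetherianRing A' := IsNoetherianRing.of_finite A A'
  -- a regular element in the conductor and the maximal ideal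
  obtain ⟨t0, ht0m, ht0⟩ := exists_regular_mem A hdim
  obtain ⟨s, hs⟩ := hfin.1
  obtain ⟨⟨c0, hc0⟩, hc0s⟩ := IsLocalization.exist_integer_multiples (nonZeroDivisors A) s (fun x : A' => (x : K))
  let t := t0 * c0
  have htm : t ∈ maximalIdeal A := Ideal.mul_mem_right _ _ ht0m
  have ht : t ∈ nonZeroDivisors A := mul_mem ht0 hc0
  have htcond : ∀ x : A', ∃ a : A, algebraMap A A' a = t • x := by
    intro x
    have hx : x ∈ Submodule.span A (s : Set A') := hs ▸ Submodule.mem_top
    induction hx using Submodule.span_induction with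
    | mem x hx =>
      obtain ⟨a, ha⟩ := hc0s x hx
      refine ⟨t0 * a, Subtype.ext ?_⟩
      change algebraMap A K (t0 * a) = (t0 * c0) • (x : K)
      rw [map_mul, ha, mul_smul, Algebra.smul_def t0]
    | zero => exact ⟨0, by simp⟩
    | add x y _ _ hx hy =>
      obtain ⟨a, ha⟩ := hx; obtain ⟨b, hb⟩ := hy
      exact ⟨a + b, by rw [map_add, ha, hb, smul_add]⟩
    | smul r x _ hx =>
      obtain ⟨a, ha⟩ := hx
      exact ⟨r * a, by rw [map_mul, ha, ← Algebra.smul_def, smul_comm]⟩
  have htK : IsUnit (algebraMap A K t) := IsLocalization.map_units K (⟨t, ht⟩ : nonZeroDivisors A)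
  have htA' : IsSMulRegular A' t := fun x y h => Subtype.ext (htK.mul_left_cancel (by
    rw [← Algebra.smul_def, ← Algebra.smul_def]; exact congrArg (fun z : A' => (z : K)) h))
  have hMA : ∀ (M : Ideal A'), M.IsMaximal → M.comap (algebraMap A A') = maximalIdeal A := fun M hM =>
    IsLocalRing.eq_maximalIdeal (Ideal.isMaximal_comap_of_isIntegral_of_isMaximal M)
  -- uniformisers
  have hunif : ∀ (M : Ideal A'), M.IsMaximal → ∃ π ∈ M, ∃ e ∉ M, (∀ z ∈ M, π ∣ e * z) := by
    intro M hM
    have htM : algebraMap A A' t ∈ M := ((hMA M hM).ge htm : _)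
    have hdim' : ringKrullDim A' = 1 := by rw [← Groth.Agent.DimLib.ringKrullDim_eq_of_isIntegral hAinj, hdim]
    have hass : M ∈ associatedPrimes A' (A' ⧸ Ideal.span {algebraMap A A' t}) := by
      refine Module.associatedPrimes.minimalPrimes_annihilator_subset_associatedPrimes A' _ ?_
      rw [Ideal.annihilator_quotient]
      refine ⟨⟨hM.isPrime, (Ideal.span_singleton_le_iff_mem _).2 htM⟩, fun Q hQ hQM => ?_⟩
      by_contra hne
      have := hQ.1
      have hlt : Q < M := lt_of_le_of_ne hQM fun e => hne e.ge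
      obtain ⟨q0, hq0, hq0Q⟩ := Ideal.exists_minimalPrimes_le (bot_le : (⊥ : Ideal A') ≤ Q)
      have hlt0 : q0 < Q := lt_of_le_of_ne hq0Q fun e => by
        have h1 := notMem_nonZeroDivisors_of_mem_mem_minimalPrimes (e ▸ hQ.2 (Ideal.mem_span_singleton_self _)) hq0
        refine h1 ((mem_nonZeroDivisors_iff_right).2 fun w hw => htA'.right_eq_zero_of_smul ?_)
        rw [Algebra.smul_def, mul_comm]; exact hw
      have := hq0.1.1
      have h2 : q0.height + 1 + 1 ≤ M.height :=
        (add_le_add (Ideal.height_add_one_le_of_lt_of_isPrime hlt0) le_rfl).trans (Ideal.height_add_one_le_of_lt_of_isPrime hlt)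
      have h3 : (M.height : WithBot ℕ∞) ≤ 1 := hdim' ▸ Ideal.height_le_ringKrullDim_of_ne_top hM.ne_top
      have h4 : (1 + 1 : ℕ∞) ≤ 1 := (add_le_add (le_add_self (a := (1 : ℕ∞)) (b := q0.height)) le_rfl).trans (h2.trans (WithBot.coe_le_coe.1 h3))
      exact absurd h4 (by decide)
    obtain ⟨-, u, hu⟩ := isAssociatedPrime_iff.1 hass
    obtain ⟨u, rfl⟩ := Ideal.Quotient.mk_surjective u
    have hkill : ∀ z, z ∈ M ↔ algebraMap A A' t ∣ z * u := fun z => by
      rw [hu, Submodule.mem_colon_singleton, Submodule.mem_bot]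
      change Ideal.Quotient.mk _ (z * u) = 0 ↔ _
      rw [Ideal.Quotient.eq_zero_iff_mem, Ideal.mem_span_singleton]
    choose q hq using fun z : M => (hkill z).1 z.2
    by_contra hcon
    push Not at hcon
    have hqM : ∀ z, q z ∈ M := by
      intro z
      by_contra hz
      obtain ⟨z', hz', hz''⟩ := hcon z z.2 (q z) hz
      refine hz'' ⟨q ⟨z', hz'⟩, ?_⟩
      apply htA'
      change t • (q z * z') = t • ((z : A') * q ⟨z', hz'⟩)
      rw [Algebra.smul_def, Algebra.smul_def, ← mul_assoc, ← hq z, mul_left_comm, ← hq ⟨z', hz'⟩]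
      ring
    -- then `u / t` would be integral
    have hK : ∀ z : M, algebraMap A K t * ((q z : A') : K) = ((z : A') : K) * (u : K) := fun z => by
      have := congrArg (fun w : A' => (w : K)) (hq z)
      simpa using this.symm
    let x : K := (u : K) * ↑(htK.unit⁻¹)
    have htx : algebraMap A K t * x = u := by
      rw [mul_left_comm, IsUnit.mul_val_inv, mul_one]
    have hint : IsIntegral A x := by
      let N : Submodule A K := (M.restrictScalars A).map (IsScalarTower.toAlgHom A A' K).toLinearMap
      have htN : algebraMap A K t ∈ N := ⟨algebraMap A A' t, htM, rfl⟩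
      have : Module.Finite A N := Module.Finite.iff_fg.2 (Submodule.FG.map _ (IsNoetherian.noetherian _))
      let S : Subalgebra A K :=
        { carrier := {y | ∀ n ∈ N, y * n ∈ N}
          one_mem' := fun n hn => by simpa using hn
          mul_mem' := fun {a b} ha hb n hn => by rw [mul_assoc]; exact ha _ (hb _ hn)
          zero_mem' := fun n _ => by simp
          add_mem' := fun {a b} ha hb n hn => by rw [add_mul]; exact N.add_mem (ha _ hn) (hb _ hn)
          algebraMap_mem' := fun r n hn => by rw [← Algebra.smul_def]; exact N.smul_mem r hn }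
      have hxS : x ∈ S := by
        rintro _ ⟨z, hz, rfl⟩
        refine ⟨q ⟨z, hz⟩, hqM ⟨z, hz⟩, htK.mul_left_cancel ?_⟩
        change algebraMap A K t * ((q ⟨z, hz⟩ : A') : K) = algebraMap A K t * (x * (z : K))
        rw [hK, ← mul_assoc, htx, mul_comm]
      let f : S →ₐ[A] Module.End A N :=
        AlgHom.ofLinearMap
          { toFun := fun y => (LinearMap.mulLeft A (y : K)).restrict fun n hn => y.2 n hn
            map_add' := fun a b => by ext n; simp [add_mul]
            map_smul' := fun a b => by ext n; simp }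
          (by ext n; simp) (fun a b => by ext n; simp [mul_assoc])
      have hf : Function.Injective f := fun a b h => Subtype.ext (htK.mul_right_cancel
        (congrArg (fun g : Module.End A N => ((g ⟨_, htN⟩ : N) : K)) h))
      have h0 : IsIntegral A (f ⟨x, hxS⟩) := Algebra.IsIntegral.isIntegral _
      obtain ⟨p, hp, hp0⟩ := h0
      have h1 : Polynomial.aeval (⟨x, hxS⟩ : S) p = 0 := hf (by
        rw [← Polynomial.aeval_algHom_apply, map_zero]; exact hp0)
      have h2 := congrArg S.val h1
      rw [← Polynomial.aeval_algHom_apply, map_zero] at h2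
      exact ⟨p, hp, h2⟩
    have hd : algebraMap A A' t ∣ 1 * u := ⟨⟨x, hint⟩, Subtype.ext (by
      rw [one_mul]
      exact htx.symm)⟩
    exact hM.ne_top ((Ideal.eq_top_iff_one M).2 ((hkill 1).2 hd))
  -- the completed normalisation
  let B := Ah ⊗[A] A'
  let ιr : A' →ₐ[A] B := Algebra.TensorProduct.includeRight
  let J : Ideal A' → Ideal B := fun M => M.map ιr.toRingHom
  have : IsNoetherianRing B := IsNoetherianRing.of_finite Ah B
  have hmod : ∀ (M : Ideal A'), M.IsMaximal → ∀ b : B, ∃ r : A', b - (1 : Ah) ⊗ₜ r ∈ J M := by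
    intro M hM b
    have hz : ∀ (r : A') (z : Ah), z ∈ (maximalIdeal A).map (algebraMap A Ah) → z ⊗ₜ[A] r ∈ J M := by
      intro r z hz
      rw [Ideal.map] at hz
      induction hz using Submodule.span_induction generalizing r with
      | mem z hz =>
        obtain ⟨a, ha, rfl⟩ := hz
        rw [Algebra.algebraMap_eq_smul_one, TensorProduct.smul_tmul]
        refine Ideal.mem_map_of_mem ιr.toRingHom (?_ : a • r ∈ M)
        rw [Algebra.smul_def]
        exact M.mul_mem_right _ ((hMA M hM).ge ha)
      | zero => rw [TensorProduct.zero_tmul]; exact zero_mem _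
      | add x y _ _ hx hy => rw [TensorProduct.add_tmul]; exact add_mem (hx r) (hy r)
      | smul c x _ hx =>
        rw [show (c • x) ⊗ₜ[A] r = (c ⊗ₜ[A] (1 : A')) * (x ⊗ₜ[A] r) by rw [Algebra.TensorProduct.tmul_mul_tmul, one_mul]; rfl]
        exact Ideal.mul_mem_left _ _ (hx r)
    induction b using TensorProduct.induction_on with
    | zero => exact ⟨0, by simp⟩
    | tmul y r =>
      obtain ⟨a, ha⟩ := Ideal.Quotient.mk_surjective (AdicCompletion.evalₐ (maximalIdeal A) 1 y)
      have hy : y - algebraMap A Ah a ∈ (maximalIdeal A).map (algebraMap A Ah) := by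
        rw [← AdicCompletion.maximalIdeal_eq_map, AdicCompletion.mem_maximalIdeal_iff_eval_one_eq_zero]
        have h0 : AdicCompletion.evalₐ (maximalIdeal A) 1 (y - algebraMap A Ah a) = 0 := by
          rw [map_sub, AlgHom.commutes, Ideal.Quotient.algebraMap_eq, ha, sub_self]
        have h1 := AdicCompletion.factor_evalₐ_eq_eval (maximalIdeal A) (y - algebraMap A Ah a) (n := 1) (by simp)
        rw [h0, map_zero] at h1
        exact h1.symm
      refine ⟨a • r, ?_⟩
      rw [← TensorProduct.smul_tmul, ← Algebra.algebraMap_eq_smul_one, ← TensorProduct.sub_tmul]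
      exact hz r _ hy
    | add u v hu hv =>
      obtain ⟨r, hr⟩ := hu; obtain ⟨r', hr'⟩ := hv
      exact ⟨r + r', by rw [TensorProduct.tmul_add, add_sub_add_comm]; exact add_mem hr hr'⟩
  have hJ : ∀ (M : Ideal A'), M.IsMaximal → (J M).IsMaximal ∧ (J M).comap ιr.toRingHom = M := by
    intro M hM
    let e : (A ⧸ maximalIdeal A ^ 1) →ₐ[A] A' ⧸ M := Ideal.Quotient.liftₐ _ (Algebra.ofId A (A' ⧸ M)) fun a ha => by
      change Ideal.Quotient.mk M (algebraMap A A' a) = 0
      rw [pow_one] at ha
      exact Ideal.Quotient.eq_zero_iff_mem.2 ((hMA M hM).ge ha)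
    let χ : B →ₐ[A] A' ⧸ M := Algebra.TensorProduct.lift (e.comp (AdicCompletion.evalₐ (maximalIdeal A) 1))
      (Ideal.Quotient.mkₐ A M) (fun x y => Commute.all (S := A' ⧸ M) _ _)
    have hχ : ∀ r, χ (ιr r) = Ideal.Quotient.mk M r := fun r => by
      change χ ((1 : Ah) ⊗ₜ[A] r) = _
      refine (Algebra.TensorProduct.lift_tmul _ _ _ _ _).trans ?_
      rw [map_one, one_mul]; rfl
    have hker : J M = RingHom.ker χ.toRingHom := by
      refine le_antisymm (Ideal.map_le_iff_le_comap.2 fun r hr => ?_) fun b hb => ?_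
      · change χ (ιr r) = 0
        rw [hχ, Ideal.Quotient.eq_zero_iff_mem.2 hr]
      · obtain ⟨r, hr⟩ := hmod M hM b
        have hle : J M ≤ RingHom.ker χ.toRingHom := Ideal.map_le_iff_le_comap.2 fun r hr => by
          change χ (ιr r) = 0
          rw [hχ, Ideal.Quotient.eq_zero_iff_mem.2 hr]
        have h1 : χ (b - ιr r) = 0 := hle hr
        rw [map_sub, hχ, show χ b = 0 from hb, zero_sub, neg_eq_zero, Ideal.Quotient.eq_zero_iff_mem] at h1
        exact sub_add_cancel b (ιr r) ▸ add_mem hr (Ideal.mem_map_of_mem ιr.toRingHom h1)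
    constructor
    · letI := Ideal.Quotient.field M
      rw [hker]
      exact RingHom.ker_isMaximal_of_surjective χ.toRingHom fun z => by
        obtain ⟨r, rfl⟩ := Ideal.Quotient.mk_surjective z
        exact ⟨ιr r, hχ r⟩
    · ext r
      rw [hker, Ideal.mem_comap, RingHom.mem_ker]
      change χ (ιr r) = 0 ↔ _
      rw [hχ, Ideal.Quotient.eq_zero_iff_mem]
  have hJall : ∀ N : Ideal B, N.IsMaximal → ∃ M : Ideal A', M.IsMaximal ∧ J M = N := by
    intro N hN
    have : (N.comap (algebraMap Ah B)).IsMaximal := Ideal.isMaximal_comap_of_isIntegral_of_isMaximal N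
    have hA : (N.comap ιr.toRingHom).comap (algebraMap A A') = maximalIdeal A := by
      have h1 : N.comap (algebraMap Ah B) = maximalIdeal Ah := IsLocalRing.eq_maximalIdeal this
      rw [Ideal.comap_comap, show ιr.toRingHom.comp (algebraMap A A') = (algebraMap Ah B).comp (algebraMap A Ah) from
        RingHom.ext fun a => by
          rw [RingHom.comp_apply, RingHom.comp_apply, ← IsScalarTower.algebraMap_apply A Ah B]
          exact ιr.commutes a,
        ← Ideal.comap_comap, h1]
      exact (IsLocalRing.local_hom_TFAE (algebraMap A Ah)).out 0 4 rfl rfl |>.1 inferInstance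
    have hM : (N.comap ιr.toRingHom).IsMaximal :=
      Ideal.isMaximal_of_isIntegral_of_isMaximal_comap _ (hA ▸ maximalIdeal.isMaximal A)
    exact ⟨_, hM, (hJ _ hM).1.eq_of_le hN.ne_top Ideal.map_comap_le⟩
  have htB : ∀ b : B, t • b = 0 → b = 0 := by
    intro b hb
    have hinj : Function.Injective (LinearMap.lTensor Ah (LinearMap.lsmul A A' t)) :=
      Module.Flat.lTensor_preserves_injective_linearMap _ htA'
    have key : ∀ c : B, LinearMap.lTensor Ah (LinearMap.lsmul A A' t) c = t • c := fun c => by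
      induction c using TensorProduct.induction_on with
      | zero => simp
      | tmul y r => simp [TensorProduct.tmul_smul]
      | add u v hu hv => rw [map_add, hu, hv, smul_add]
    exact hinj ((key b).trans (hb.trans (map_zero _).symm))
  have hsm : ∀ b : B, t • b = algebraMap A B t * b := fun b => Algebra.smul_def t b
  have hloc : ∀ (M : Ideal A') (hM : M.IsMaximal), ∀ [(J M).IsPrime],
      IsDomain (Localization.AtPrime (J M)) := by
    intro M hM _
    obtain ⟨π, hπM, e, he, hdvd⟩ := hunif M hM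
    have heu : IsUnit (algebraMap B (Localization.AtPrime (J M)) (ιr e)) := by
      refine IsLocalization.map_units (Localization.AtPrime (J M)) (⟨ιr e, fun h => he ?_⟩ : (J M).primeCompl)
      rw [← (hJ M hM).2]; exact h
    refine isDomain_of_regular_generator (π := algebraMap B (Localization.AtPrime (J M)) (ιr π)) ?_ ?_ ?_
    · rw [← Localization.AtPrime.map_eq_maximalIdeal, Ideal.map_map, Ideal.map_le_iff_le_comap]
      intro z hz
      obtain ⟨w, hw⟩ := hdvd z hz
      rw [Ideal.mem_comap, Ideal.mem_span_singleton]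
      obtain ⟨v, hv⟩ := heu
      refine ⟨algebraMap B (Localization.AtPrime (J M)) (ιr w) * ↑v⁻¹, ?_⟩
      have h1 := congrArg (fun r => algebraMap B (Localization.AtPrime (J M)) (ιr r)) hw
      simp only [map_mul, ← hv] at h1
      change algebraMap B (Localization.AtPrime (J M)) (ιr z) = _
      rw [← mul_assoc, ← h1, mul_comm (v : (Localization.AtPrime (J M))), mul_assoc, Units.mul_inv, mul_one]
    · rw [← Localization.AtPrime.map_eq_maximalIdeal]
      exact Ideal.mem_map_of_mem _ (Ideal.mem_map_of_mem _ hπM)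
    · refine isSMulRegular_of_mul fun v hv => ?_
      obtain ⟨w, hw⟩ := hdvd (algebraMap A A' t) ((hMA M hM).ge htm)
      have h1 : algebraMap B (Localization.AtPrime (J M)) (ιr e) * (algebraMap B (Localization.AtPrime (J M)) (algebraMap A B t) * v) = 0 := by
        rw [← ιr.commutes t, ← mul_assoc, ← map_mul, ← map_mul, hw, map_mul, map_mul, mul_right_comm,
          hv, zero_mul]
      have h2 := (IsUnit.mul_right_eq_zero heu).1 h1
      obtain ⟨b, s, rfl⟩ := IsLocalization.exists_mk'_eq (J M).primeCompl v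
      rw [IsLocalization.mul_mk'_eq_mk'_of_mul, IsLocalization.mk'_eq_zero_iff] at h2
      obtain ⟨m, hm⟩ := h2
      rw [IsLocalization.mk'_eq_zero_iff]
      exact ⟨m, htB _ (by rw [hsm, mul_left_comm]; exact hm)⟩
  let Kof : Ideal A' → Ideal B := fun M =>
    if h : M.IsMaximal then RingHom.ker (algebraMap B (@Localization.AtPrime B _ (J M) (hJ M h).1.isPrime)) else ⊥
  have hK : ∀ M : Ideal A', M.IsMaximal → Kof M ∈ minimalPrimes B ∧ Kof M ≤ J M ∧
      ∀ q : Ideal B, q.IsPrime → q ≤ J M → Kof M ≤ q := by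
    intro M hM
    have := (hJ M hM).1.isPrime
    have := hloc M hM
    have hKdef : Kof M = RingHom.ker (algebraMap B (Localization.AtPrime (J M))) := dif_pos hM
    have hKle : ∀ q : Ideal B, q.IsPrime → q ≤ J M → Kof M ≤ q := by
      intro q hq hqJ b hb
      rw [hKdef, RingHom.mem_ker, IsLocalization.map_eq_zero_iff (J M).primeCompl] at hb
      obtain ⟨⟨s, hs⟩, hsb⟩ := hb
      exact (hq.mem_or_mem (hsb ▸ q.zero_mem)).resolve_left fun h => hs (hqJ h)
    have hKJ : Kof M ≤ J M := by
      rw [hKdef]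
      intro b hb
      rw [RingHom.mem_ker, IsLocalization.map_eq_zero_iff (J M).primeCompl] at hb
      obtain ⟨⟨s, hs⟩, hsb⟩ := hb
      exact (‹(J M).IsPrime›.mem_or_mem (hsb ▸ (J M).zero_mem)).resolve_left hs
    refine ⟨⟨⟨hKdef ▸ RingHom.ker_isPrime _, bot_le⟩, fun q hq hle => ?_⟩, hKJ, hKle⟩
    exact hKle q hq.1 (hle.trans hKJ)
  have hlift : ∀ b : B, ∃ y : Ah, t • b = algebraMap Ah B y := by
    intro b
    induction b using TensorProduct.induction_on with
    | zero => exact ⟨0, by simp⟩
    | tmul y r =>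
      obtain ⟨a, ha⟩ := htcond r
      refine ⟨a • y, ?_⟩
      rw [← TensorProduct.tmul_smul, ← ha, Algebra.TensorProduct.algebraMap_apply, Algebra.algebraMap_eq_smul_one,
        ← TensorProduct.smul_tmul]
      rfl
    | add u v hu hv =>
      obtain ⟨x, hx⟩ := hu; obtain ⟨y, hy⟩ := hv
      exact ⟨x + y, by rw [smul_add, hx, hy, map_add]⟩
  have hmono : ∀ q q' : Ideal B, q'.IsPrime → algebraMap A B t ∉ q' →
      q.comap (algebraMap Ah B) ≤ q'.comap (algebraMap Ah B) → q ≤ q' := by
    intro q q' hq' htq' hle b hb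
    obtain ⟨y, hy⟩ := hlift b
    have h1 : t • b ∈ q := Submodule.smul_of_tower_mem q t hb
    rw [hy] at h1
    have h2 : algebraMap Ah B y ∈ q' := hle h1
    rw [← hy, hsm] at h2
    exact (hq'.mem_or_mem h2).resolve_left htq'
  have htmin : ∀ q ∈ minimalPrimes B, algebraMap A B t ∉ q := fun q hq h =>
    notMem_nonZeroDivisors_of_mem_mem_minimalPrimes h hq ((mem_nonZeroDivisors_iff_right).2 fun w hw => htB w (by
      rw [hsm, mul_comm]; exact hw))
  have htAh : ∀ P ∈ minimalPrimes Ah, algebraMap A Ah t ∉ P := fun P hP h =>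
    notMem_nonZeroDivisors_of_mem_mem_minimalPrimes h hP ((mem_nonZeroDivisors_iff_right).2 fun w hw =>
      (Module.Flat.isSMulRegular_of_nonZeroDivisors ht).right_eq_zero_of_smul (by rw [Algebra.smul_def, mul_comm]; exact hw))
  have hBinj : Function.Injective (algebraMap Ah B) := by
    rw [Algebra.TensorProduct.algebraMap_def]
    exact (Algebra.TensorProduct.includeLeft_injective (S := A) (A := Ah) hAinj : _)
  -- the bijection
  refine Set.ncard_congr (fun M _ => (Kof M).comap (algebraMap Ah B)) ?_ ?_ ?_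
  · intro M hM
    obtain ⟨hmin, -, -⟩ := hK M hM
    have := hmin.1.1
    refine ⟨⟨inferInstance, bot_le⟩, fun P hP hle => ?_⟩
    have := hP.1
    obtain ⟨P0, hP0, hP0P⟩ := Ideal.exists_minimalPrimes_le (bot_le : (⊥ : Ideal Ah) ≤ P)
    have := hP0.1.1
    obtain ⟨q, -, hq, hqP⟩ := Ideal.exists_ideal_over_prime_of_isIntegral P0 (⊥ : Ideal B)
      (by rw [Ideal.comap_bot_of_injective _ hBinj]; exact bot_le)
    have hqK : q ≤ Kof M := hmono q (Kof M) hmin.1.1 (htmin _ hmin) (hqP ▸ hP0P.trans hle)
    refine le_trans ?_ hP0P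
    rw [← hqP]
    exact Ideal.comap_mono (hmin.2 ⟨hq, bot_le⟩ hqK)
  · intro M M' hM hM' h
    obtain ⟨hmin, hKJ, -⟩ := hK M hM
    obtain ⟨hmin', hKJ', -⟩ := hK M' hM'
    have heq : Kof M = Kof M' := le_antisymm (hmono _ _ hmin'.1.1 (htmin _ hmin') h.le) (hmono _ _ hmin.1.1 (htmin _ hmin) h.ge)
    have := hmin.1.1
    have : HenselianRing Ah (maximalIdeal Ah) := inferInstance
    have := (hJ M hM).1
    have := (hJ M' hM').1
    have hmax : ∀ N : Ideal B, N.IsMaximal → Kof M ≤ N → (N.map (Ideal.Quotient.mk (Kof M))).IsMaximal := fun N hN hle =>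
      Ideal.IsMaximal.map_of_surjective_of_ker_le Ideal.Quotient.mk_surjective (by rwa [Ideal.mk_ker])
    have := hmax _ (hJ M hM).1 hKJ
    have := hmax _ (hJ M' hM').1 (heq ▸ hKJ')
    have h1 := maximal_unique Ah (B ⧸ Kof M) ((J M).map (Ideal.Quotient.mk (Kof M))) ((J M').map (Ideal.Quotient.mk (Kof M)))
    have h2 := congrArg (Ideal.comap (Ideal.Quotient.mk (Kof M))) h1
    rw [Ideal.comap_map_of_surjective _ Ideal.Quotient.mk_surjective, Ideal.comap_map_of_surjective _ Ideal.Quotient.mk_surjective,
      ← RingHom.ker_eq_comap_bot, Ideal.mk_ker, sup_eq_left.2 hKJ, sup_eq_left.2 (heq ▸ hKJ')] at h2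
    rw [← (hJ M hM).2, h2, (hJ M' hM').2]
  · intro P hP
    have := hP.1.1
    obtain ⟨q, -, hq, hqP⟩ := Ideal.exists_ideal_over_prime_of_isIntegral P (⊥ : Ideal B)
      (by rw [Ideal.comap_bot_of_injective _ hBinj]; exact bot_le)
    obtain ⟨N, hN, hqN⟩ := Ideal.exists_le_maximal q hq.ne_top
    obtain ⟨M, hM, rfl⟩ := hJall N hN
    obtain ⟨hmin, -, hKle⟩ := hK M hM
    have := hmin.1.1
    have hle := Ideal.comap_mono (f := algebraMap Ah B) (hKle q hq hqN)
    rw [hqP] at hle
    exact ⟨M, hM, le_antisymm hle (hP.2 ⟨inferInstance, bot_le⟩ hle)⟩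

end Groth.Agent.CAlgH3.Branches
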