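import Groth.Agent.CAlgH3.GeomBridge

/-! Connectedness of tensor products of algebras over a field. -/

set_option autoImplicit false

universe u

open CategoryTheory Limits AlgebraicGeometry TensorProduct Groth.Agent.VarietyLib Groth.Agent.CAlgH3.GeomBridge

namespace Groth.Agent.CAlgH3.GeomTests

variable {k : Type u} [Field k]

theorem connectedSpace_of_bijective (K : Type u) [CommRing K] [Algebra k K] (h : Function.Bijective (Algebra.ofId k K))
    (S : Type u) [CommRing S] [Algebra k S] [ConnectedSpace (PrimeSpectrum S)] :
    ConnectedSpace (PrimeSpectrum (K ⊗[k] S)) := by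
  let e : K ⊗[k] S ≃ₐ[k] S :=
    (Algebra.TensorProduct.congr (AlgEquiv.ofBijective _ h).symm AlgEquiv.refl).trans (Algebra.TensorProduct.lid k S)
  exact (PrimeSpectrum.homeomorphOfRingEquiv e.toRingEquiv).symm.surjective.connectedSpace
    (PrimeSpectrum.homeomorphOfRingEquiv e.toRingEquiv).symm.continuous

theorem connectedSpace_tensor {R S : Type u} [CommRing R] [CommRing S] [Algebra k R] [Algebra k S]
    [IsSepClosed k] [ConnectedSpace (PrimeSpectrum R)] [ConnectedSpace (PrimeSpectrum S)] :
    ConnectedSpace (PrimeSpectrum (R ⊗[k] S)) := by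
  have hbij : Function.Bijective (Algebra.ofId k (SeparableClosure k)) :=
    ⟨(algebraMap k (SeparableClosure k)).injective, IsSepClosed.algebraMap_surjective k (SeparableClosure k)⟩
  have h1 : ConnectedSpace (PrimeSpectrum (SeparableClosure k ⊗[k] S)) := connectedSpace_of_bijective _ hbij S
  have : ConnectedSpace ↥(pullback (str k S) (sK k (SeparableClosure k))) :=
    (homeo k S (SeparableClosure k)).surjective.connectedSpace (homeo k S (SeparableClosure k)).continuous
  have := geometricallyConnected_of_connectedSpace k (str k S)
  have : ConnectedSpace ↥(Spec (CommRingCat.of R)) := ‹ConnectedSpace (PrimeSpectrum R)›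
  have h2 : ConnectedSpace ↥(pullback (str k R) (str k S)) := inferInstance
  exact (pullbackSpecIso k R S).hom.homeomorph.surjective.connectedSpace (pullbackSpecIso k R S).hom.continuous

end Groth.Agent.CAlgH3.GeomTests
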