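import Groth.Agent.CAlgH3.FlatDepth
import Groth.Agent.S9125
import Mathlib.RingTheory.KrullDimension.Polynomial
import Mathlib.RingTheory.RegularLocalRing.Polynomial

/-! Polynomial rings over Cohen-Macaulay rings; Cohen-Macaulay rings are universally catenary. -/

universe u

open IsLocalRing Polynomial

namespace Groth.Agent.CAlgH3

local notation "CMLocal" => _root_.LocCoh.IsCohenMacaulayLocalRing
local notation "CMRing" => _root_.LocCoh.IsCohenMacaulayRing

variable {R : Type u} [CommRing R]

theorem isCohenMacaulayLocalRing_polynomial [CMLocal R] (p : Ideal R[X]) [p.IsPrime]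
    (hp : p.comap C = maximalIdeal R) : CMLocal (Localization.AtPrime p) := by
  let B := Localization.AtPrime p
  let q := (maximalIdeal R).map C
  have hq : q ≤ p := Ideal.map_le_iff_le_comap.2 hp.ge
  have hmap : (maximalIdeal R).map (algebraMap R B) = q.map (algebraMap R[X] B) := by
    rw [IsScalarTower.algebraMap_eq R R[X] B, ← Ideal.map_map, Polynomial.algebraMap_eq]
  have hloc : IsLocalHom (algebraMap R B) := by
    refine ⟨fun a ha => ?_⟩
    by_contra hau
    rw [IsScalarTower.algebraMap_apply R R[X] B, IsLocalization.AtPrime.isUnit_to_map_iff B p] at ha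
    exact ha (hp.ge hau : C a ∈ p)
  have : Module.Flat R[X] B := IsLocalization.flat B p.primeCompl
  have : Module.Flat R B := Module.Flat.trans R R[X] B
  refine isCohenMacaulayLocalRing_of_flat (A := R) (B := B) ?_
  have htA : ((maximalIdeal R).height : WithBot ℕ∞) = ringKrullDim R := maximalIdeal_height_eq_ringKrullDim
  rw [IsLocalization.AtPrime.ringKrullDim_eq_height p B, ← htA, ← WithBot.coe_add, WithBot.coe_le_coe]
  by_cases h : p = q
  · rw [show p.height = q.height from by rw [h], Polynomial.height_map_C]
    exact le_self_add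
  have h1 : p.height ≤ (maximalIdeal R).height + 1 := by
    obtain ⟨M, hM, hpM⟩ := p.exists_le_maximal ‹p.IsPrime›.ne_top
    have : M.LiesOver (maximalIdeal R) := ⟨(maximalIdeal.isMaximal R).eq_of_le
      (Ideal.comap_ne_top _ hM.ne_top) (hp.ge.trans (Ideal.comap_mono hpM))⟩
    exact (Ideal.height_mono hpM).trans_eq (Polynomial.height_eq_height_add_one _ M)
  refine h1.trans (add_le_add le_rfl ?_)
  have : Nontrivial (B ⧸ (maximalIdeal R).map (algebraMap R B)) :=
    Ideal.Quotient.nontrivial_iff.2 (ne_top_of_le_ne_top (maximalIdeal.isMaximal B).ne_top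
      (Ideal.map_le_iff_le_comap.2 fun a ha => map_nonunit _ a ha))
  rw [Order.one_le_iff_pos, pos_iff_ne_zero, Ne, depth_eq_zero_iff]
  intro hass
  obtain ⟨g, hgp, hgq⟩ := SetLike.exists_of_lt (lt_of_le_of_ne hq (Ne.symm h))
  obtain ⟨-, c, hc⟩ := isAssociatedPrime_iff.1 hass
  obtain ⟨c, rfl⟩ := Ideal.Quotient.mk_surjective c
  have hgm : algebraMap R[X] B g ∈ maximalIdeal B := by
    rw [← Localization.AtPrime.map_eq_maximalIdeal]; exact Ideal.mem_map_of_mem _ hgp
  rw [hc, Submodule.mem_colon_singleton, Submodule.mem_bot, Algebra.smul_def,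
    Ideal.Quotient.algebraMap_eq, ← map_mul, Ideal.Quotient.eq_zero_iff_mem, hmap] at hgm
  obtain ⟨a, s, rfl⟩ := IsLocalization.exists_mk'_eq p.primeCompl c
  rw [IsLocalization.mul_mk'_eq_mk'_of_mul, IsLocalization.mk'_mem_map_algebraMap_iff] at hgm
  obtain ⟨t, ht, htg⟩ := hgm
  have : q.IsPrime := Ideal.isPrime_map_C_of_isPrime
  have ha : t * a ∈ q := ((‹q.IsPrime›).mem_or_mem
    (by rwa [← mul_assoc, mul_comm t g, mul_assoc] at htg : g * (t * a) ∈ q)).resolve_left hgq
  refine (maximalIdeal.isMaximal B).ne_top (hc.trans ?_)
  rw [eq_top_iff]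
  intro z _
  rw [Submodule.mem_colon_singleton, Submodule.mem_bot]
  have : Ideal.Quotient.mk ((maximalIdeal R).map (algebraMap R B)) (IsLocalization.mk' B a s) = 0 := by
    rw [Ideal.Quotient.eq_zero_iff_mem, hmap, IsLocalization.mk'_mem_map_algebraMap_iff]
    exact ⟨t, ht, ha⟩
  rw [this, smul_zero]

theorem isCohenMacaulayRing_polynomial [CMRing R] : CMRing R[X] where
  isCohenMacaulayLocalRing_localization p hp := by
    let q := p.comap C
    let S := (Localization.AtPrime q)[X]
    let pc := Submonoid.map Polynomial.C.toMonoidHom q.primeCompl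
    let : Algebra R[X] S := algebra R (Localization.AtPrime q)
    have : IsLocalization pc S := Polynomial.isLocalization _ _
    let pS := p.map (algebraMap R[X] S)
    have disj : Disjoint (pc : Set R[X]) (p : Set R[X]) := by
      simpa [pc, q] using! Set.disjoint_image_left.mpr
        (Set.disjoint_compl_left_iff_subset.mpr (fun _ a ↦ a))
    have : pS.IsPrime := IsLocalization.isPrime_of_isPrime_disjoint pc _ _ hp disj
    have : IsLocalization.AtPrime (Localization.AtPrime pS) p := by
      convert IsLocalization.isLocalization_isLocalization_atPrime_isLocalization pc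
        (Localization.AtPrime pS) pS
      exact (IsLocalization.under_map_of_isPrime_disjoint pc _ hp disj).symm
    have := _root_.LocCoh.IsCohenMacaulayRing.isCohenMacaulayLocalRing_localization (R := R) q
    have eq : Ideal.comap C pS = maximalIdeal (Localization.AtPrime q) := by
      rw [← IsLocalization.map_under q.primeCompl _ (Ideal.comap C pS),
        ← IsLocalization.map_under q.primeCompl _ (maximalIdeal (Localization.AtPrime q))]
      simp only [Ideal.comap_comap, S, pS]
      rw [← Polynomial.algebraMap_eq (R := Localization.AtPrime q),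
        ← IsScalarTower.algebraMap_eq R (Localization.AtPrime q) (Localization.AtPrime q)[X],
        IsScalarTower.algebraMap_eq R R[X] (Localization.AtPrime q)[X], ← Ideal.comap_comap,
        ← Ideal.under_def R[X], IsLocalization.under_map_of_isPrime_disjoint pc _ hp disj]
      simp [q, IsLocalization.AtPrime.under_maximalIdeal (Localization.AtPrime q) q]
    have := isCohenMacaulayLocalRing_polynomial pS eq
    exact isCohenMacaulayLocalRing_of_ringEquiv (R := Localization.AtPrime pS) (S := Localization.AtPrime p)
      (IsLocalization.algEquiv p.primeCompl (Localization.AtPrime pS) (Localization.AtPrime p)).toRingEquiv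

theorem isCohenMacaulayRing_of_isLocalization {S : Type u} [CommRing S] [Algebra R S] (W : Submonoid R)
    [IsLocalization W S] [CMRing R] : CMRing S :=
  { IsLocalization.isNoetherianRing W S inferInstance with
    isCohenMacaulayLocalRing_localization := fun q _ => by
      have : IsLocalization.AtPrime (Localization.AtPrime q) (q.comap (algebraMap R S)) :=
        IsLocalization.isLocalization_isLocalization_atPrime_isLocalization W (Localization.AtPrime q) q
      have := _root_.LocCoh.IsCohenMacaulayRing.isCohenMacaulayLocalRing_localization (R := R) (q.comap (algebraMap R S))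
      exact isCohenMacaulayLocalRing_of_ringEquiv
        (IsLocalization.algEquiv (q.comap (algebraMap R S)).primeCompl
          (Localization.AtPrime (q.comap (algebraMap R S))) (Localization.AtPrime q)).toRingEquiv }

theorem isCohenMacaulayRing_of_ringEquiv {S : Type u} [CommRing S] (e : R ≃+* S) [CMRing R] : CMRing S := by
  let : Algebra R S := e.toRingHom.toAlgebra
  have : IsLocalization (⊥ : Submonoid R) R := IsLocalization.self bot_le
  have : IsLocalization (⊥ : Submonoid R) S :=
    IsLocalization.isLocalization_of_algEquiv _ (S := R) (AlgEquiv.ofRingEquiv (f := e) fun _ => rfl)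
  exact isCohenMacaulayRing_of_isLocalization (R := R) (S := S) ⊥

theorem isCohenMacaulayRing_mvPolynomial [CMRing R] (ι : Type u) [Finite ι] : CMRing (MvPolynomial ι R) := by
  induction ι using Finite.induction_empty_option with
  | of_equiv e H => exact isCohenMacaulayRing_of_ringEquiv (MvPolynomial.renameEquiv R e).toRingEquiv
  | h_empty => exact isCohenMacaulayRing_of_ringEquiv (MvPolynomial.isEmptyRingEquiv R _).symm
  | h_option IH =>
    rename_i α _
    have := isCohenMacaulayRing_polynomial (R := MvPolynomial α R)
    exact isCohenMacaulayRing_of_ringEquiv (MvPolynomial.optionEquivLeft R α).toRingEquiv.symm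

/-- Heights go up by one along covering primes of a CM ring. -/
theorem height_eq_add_one_of_covBy [CMRing R] {p q : PrimeSpectrum R} (h : p ⋖ q) :
    q.asIdeal.height = p.asIdeal.height + 1 := by
  refine le_antisymm ?_ (Ideal.height_add_one_le_of_lt_of_isPrime h.lt)
  let A := Localization.AtPrime q.asIdeal
  have := _root_.LocCoh.IsCohenMacaulayRing.isCohenMacaulayLocalRing_localization (R := R) q.asIdeal
  have disj : Disjoint (q.asIdeal.primeCompl : Set R) p.asIdeal :=
    Set.disjoint_compl_left_iff_subset.2 h.le
  let p' := p.asIdeal.map (algebraMap R A)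
  have hp' : p'.IsPrime := IsLocalization.isPrime_of_isPrime_disjoint q.asIdeal.primeCompl _ _ p.isPrime disj
  have hcp : p'.comap (algebraMap R A) = p.asIdeal :=
    IsLocalization.under_map_of_isPrime_disjoint q.asIdeal.primeCompl _ p.isPrime disj
  have hdim : ringKrullDim (A ⧸ p') ≤ 1 := by
    refine Ring.krullDimLE_iff.1 ((Ring.krullDimLE_one_iff_of_noZeroDivisors).2 fun I hI hIp => ?_)
    have hJ : p' < I.comap (Ideal.Quotient.mk p') := by
      refine lt_of_le_of_ne (fun z hz => by simp [Ideal.Quotient.eq_zero_iff_mem.2 hz]) fun he => hI ?_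
      rw [← Ideal.map_comap_of_surjective _ Ideal.Quotient.mk_surjective I, ← he, Ideal.map_quotient_self]
    let J := I.comap (Ideal.Quotient.mk p')
    have hJle : J.comap (algebraMap R A) ≤ q.asIdeal :=
      (Ideal.comap_mono (le_maximalIdeal (Ideal.IsPrime.ne_top inferInstance))).trans_eq
        (IsLocalization.AtPrime.under_maximalIdeal A q.asIdeal)
    have hlt : p < ⟨J.comap (algebraMap R A), inferInstance⟩ := by
      refine lt_of_le_of_ne (show p.asIdeal ≤ J.comap (algebraMap R A) from hcp.ge.trans (Ideal.comap_mono hJ.le)) fun he => hJ.ne ?_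
      change Ideal.map (algebraMap R A) p.asIdeal = J
      rw [congrArg PrimeSpectrum.asIdeal he]
      exact IsLocalization.map_under q.asIdeal.primeCompl A J
    have hJq : J.comap (algebraMap R A) = q.asIdeal := by
      by_contra hne
      exact h.2 hlt (lt_of_le_of_ne (show (⟨J.comap (algebraMap R A), inferInstance⟩ : PrimeSpectrum R) ≤ q from hJle)
        fun he => hne (congrArg PrimeSpectrum.asIdeal he))
    have : J = maximalIdeal A := by
      rw [← Localization.AtPrime.map_eq_maximalIdeal]
      refine Eq.trans ?_ (congrArg (Ideal.map (algebraMap R A)) hJq)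
      exact (IsLocalization.map_under q.asIdeal.primeCompl A J).symm
    refine (Ideal.map_comap_of_surjective _ Ideal.Quotient.mk_surjective I) ▸ ?_
    have : J.IsMaximal := this ▸ maximalIdeal.isMaximal A
    refine Ideal.IsMaximal.map_of_surjective_of_ker_le Ideal.Quotient.mk_surjective ?_
    rw [Ideal.mk_ker]; exact hJ.le
  have := height_add_ringKrullDim_quotient p'
  rw [IsLocalization.AtPrime.ringKrullDim_eq_height q.asIdeal A,
    show p'.height = p.asIdeal.height from IsLocalization.height_map_of_disjoint q.asIdeal.primeCompl _ disj] at this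
  rw [← WithBot.coe_le_coe, ← this, WithBot.coe_add, WithBot.coe_one]
  exact add_le_add le_rfl hdim

theorem isCatenary_of_cm [CMRing R] : CAlg.IsCatenary R := by
  have key : ∀ s : LTSeries (PrimeSpectrum R), s.head.asIdeal.height + s.length ≤ s.last.asIdeal.height := by
    intro s
    suffices ∀ (i : ℕ) (hi : i < s.length + 1), s.head.asIdeal.height + i ≤ (s ⟨i, hi⟩).asIdeal.height from
      this s.length s.length.lt_succ_self
    intro i
    induction i with
    | zero => intro hi; simp [RelSeries.head]
    | succ i ih =>
      intro hi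
      rw [Nat.cast_add, Nat.cast_one, ← add_assoc]
      exact (add_le_add (ih (by omega)) le_rfl).trans (Ideal.height_add_one_le_of_lt_of_isPrime (s.step ⟨i, by omega⟩))
  have key' : ∀ s : LTSeries (PrimeSpectrum R), (∀ i : Fin s.length, s (Fin.castSucc i) ⋖ s (Fin.succ i)) →
      s.head.asIdeal.height + s.length = s.last.asIdeal.height := by
    intro s hs
    suffices ∀ (i : ℕ) (hi : i < s.length + 1), s.head.asIdeal.height + i = (s ⟨i, hi⟩).asIdeal.height from
      this s.length s.length.lt_succ_self
    intro i
    induction i with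
    | zero => intro hi; simp [RelSeries.head]
    | succ i ih =>
      intro hi
      rw [Nat.cast_add, Nat.cast_one, ← add_assoc, ih (by omega)]
      exact (height_eq_add_one_of_covBy (hs ⟨i, by omega⟩)).symm
  refine ⟨fun p q _ => ⟨q.asIdeal.height.toNat, fun s _ h2 => ?_⟩, fun s t hh hl hs ht => ?_⟩
  · have h := le_trans le_add_self (key s)
    rw [h2] at h
    rw [← Nat.cast_le (α := ℕ∞), ENat.coe_toNat q.asIdeal.height_ne_top_of_isPrime]
    exact h
  · have h := (key' s hs).trans ((congrArg (fun p => p.asIdeal.height) hl).trans (key' t ht).symm)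
    rw [hh] at h
    exact Nat.cast_injective (R := ℕ∞) ((WithTop.add_left_inj t.head.asIdeal.height_ne_top_of_isPrime).1 h)

theorem isUniversallyCatenary_of_cm [CMRing R] : CAlg.IsUniversallyCatenary R := by
  refine ⟨inferInstance, fun S _ _ hS => ?_⟩
  obtain ⟨n, f, hf⟩ := Algebra.FiniteType.iff_quotient_mvPolynomial''.1 hS
  have := isCohenMacaulayRing_mvPolynomial (R := R) (ULift.{u} (Fin n))
  let g : MvPolynomial (ULift.{u} (Fin n)) R →+* S :=
    f.toRingHom.comp (MvPolynomial.renameEquiv R Equiv.ulift).toRingEquiv.toRingHom
  have hg : Function.Surjective g := hf.comp (MvPolynomial.renameEquiv R Equiv.ulift).surjective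
  have h := Groth.Agent.S9125.result _ (RingHom.ker g) (isCatenary_of_cm (R := MvPolynomial (ULift.{u} (Fin n)) R))
  let e := RingHom.quotientKerEquivOfSurjective hg
  exact Groth.Agent.CAlgH.isCatenary_of_embedding (PrimeSpectrum.comapEquiv e.symm).toOrderEmbedding
    (fun a b x _ _ => (PrimeSpectrum.comapEquiv e.symm).surjective x) h

end Groth.Agent.CAlgH3
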