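import Groth.Agent.CAlgH3.MoriCompletion
import Groth.Agent.CAlgH.AnalyticallyUnramified
import Groth.Agent.Matlis6.CompletionNoetherian

/-! The family of discrete valuation rings cutting out the integral closure of a Noetherian local domain. -/

universe u

open IsLocalRing

namespace Groth.Agent.CAlgH3.Mori

open KrullFamily

/-- The centre of a valuation subring containing `R`. -/
def centre {K : Type u} [Field K] {A : Type u} [CommRing A] [Algebra A K] (R : Subalgebra A K) (W : ValuationSubring K)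
    (h : ∀ r ∈ R, W.valuation r ≤ 1) : Ideal R where
  carrier := {r | W.valuation (r : K) < 1}
  zero_mem' := by
    change W.valuation ((0 : R) : K) < 1
    rw [ZeroMemClass.coe_zero, map_zero]
    exact zero_lt_one
  add_mem' := fun ha hb => lt_of_le_of_lt (W.valuation.map_add _ _) (max_lt ha hb)
  smul_mem' := fun c r hr => by
    change W.valuation ((c : K) * (r : K)) < 1
    rw [map_mul]
    exact lt_of_le_of_lt (mul_le_of_le_one_left' (h c c.2)) hr

theorem centre_isPrime {K : Type u} [Field K] {A : Type u} [CommRing A] [Algebra A K] (R : Subalgebra A K)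
    (W : ValuationSubring K) (h : ∀ r ∈ R, W.valuation r ≤ 1) : (centre R W h).IsPrime := by
  refine ⟨fun e => ?_, fun {x y} hxy => ?_⟩
  · have : (1 : R) ∈ centre R W h := e ▸ Submodule.mem_top
    change W.valuation ((1 : R) : K) < 1 at this
    rw [OneMemClass.coe_one, map_one] at this
    exact lt_irrefl _ this
  · by_contra! hh
    obtain ⟨hx, hy⟩ := hh
    have hx' : W.valuation (x : K) = 1 := le_antisymm (h x x.2) (not_lt.1 hx)
    have hy' : W.valuation (y : K) = 1 := le_antisymm (h y y.2) (not_lt.1 hy)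
    exact absurd (show W.valuation ((x : K) * (y : K)) < 1 from hxy) (by rw [map_mul, hx', hy', mul_one]; exact lt_irrefl _)

section val

variable {D L : Type u} [CommRing D] [IsDomain D] [IsNoetherianRing D] [IsIntegrallyClosed D] [Field L]
  [Algebra D L] [IsFractionRing D L]

/-- The discrete valuation subring of a height-one prime of a normal Noetherian domain. -/
theorem exists_valuationSubring (q : Ideal D) [hq : q.IsPrime] (hh : q.height = 1) :
    ∃ V : ValuationSubring L, IsDiscreteValuationRing V ∧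
      (∀ x, x ∈ V ↔ ∃ a s : D, s ∉ q ∧ x * algebraMap D L s = algebraMap D L a) ∧
      ∀ d : D, V.valuation (algebraMap D L d) < 1 ↔ d ∈ q := by
  let Dq := Localization.AtPrime q
  have hq0 : q ≠ ⊥ := Ideal.ne_bot_of_height_eq_one hh
  have : IsDomain Dq := IsLocalization.isDomain_localization q.primeCompl_le_nonZeroDivisors
  have : IsIntegrallyClosed Dq := isIntegrallyClosed_of_isLocalization Dq q.primeCompl q.primeCompl_le_nonZeroDivisors
  have hmax : maximalIdeal Dq ≠ ⊥ := by
    rw [← Localization.AtPrime.map_eq_maximalIdeal, Ne, Ideal.map_eq_bot_iff_of_injective (IsLocalization.injective Dq q.primeCompl_le_nonZeroDivisors)]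
    exact hq0
  have hdvr : IsDiscreteValuationRing Dq := by
    refine ((IsDiscreteValuationRing.TFAE Dq (fun hf => hmax (IsLocalRing.isField_iff_maximalIdeal_eq.1 hf))).out 0 3 rfl rfl).2
      ⟨inferInstance, maximalIdeal Dq, ⟨hmax, inferInstance⟩, ?_⟩
    rintro J ⟨hJ0, hJ⟩
    obtain ⟨hJp, hdisj⟩ := (IsLocalization.isPrime_iff_isPrime_disjoint q.primeCompl _ J).1 hJ
    have hJq : J.comap (algebraMap D Dq) ≤ q := fun z hz => by
      by_contra hzq
      exact Set.disjoint_left.1 hdisj hzq hz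
    have heq : J.comap (algebraMap D Dq) = q := by
      by_contra hne
      have h2 := Ideal.height_strict_mono_of_isPrime (J := q) (lt_of_le_of_ne hJq hne)
      rw [hh, ENat.lt_one_iff_eq_zero, Ideal.height_eq_zero_iff, IsDomain.minimalPrimes_eq_singleton_bot,
        Set.mem_singleton_iff] at h2
      apply hJ0
      rw [← IsLocalization.map_under q.primeCompl Dq J, Ideal.under_def, h2, Ideal.map_bot]
    rw [← IsLocalization.map_under q.primeCompl Dq J, Ideal.under_def, heq, Localization.AtPrime.map_eq_maximalIdeal]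
  have hu : ∀ s : q.primeCompl, IsUnit (algebraMap D L s) := fun s =>
    IsUnit.mk0 _ (IsFractionRing.to_map_ne_zero_of_mem_nonZeroDivisors (q.primeCompl_le_nonZeroDivisors s.2))
  let ι : Dq →+* L := IsLocalization.lift hu
  have hιinj : Function.Injective ι := by
    rw [IsLocalization.lift_injective_iff]
    exact fun x y => ⟨fun h => congrArg _ (IsLocalization.injective Dq q.primeCompl_le_nonZeroDivisors h),
      fun h => congrArg _ (IsFractionRing.injective D L h)⟩
  have hι : ∀ d, ι (algebraMap D Dq d) = algebraMap D L d := fun d => IsLocalization.lift_eq hu d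
  have hor : ∀ x : L, x ∈ ι.range ∨ x⁻¹ ∈ ι.range := fun x => by
    obtain ⟨a, b, hb, rfl⟩ := IsFractionRing.div_surjective D x
    have hb0 : algebraMap D L b ≠ 0 := IsFractionRing.to_map_ne_zero_of_mem_nonZeroDivisors hb
    rcases ValuationRing.dvd_total (algebraMap D Dq a) (algebraMap D Dq b) with ⟨c, hc⟩ | ⟨c, hc⟩
    · refine Or.inr ⟨c, ?_⟩
      have h1 := congrArg ι hc
      rw [map_mul, hι, hι] at h1
      rw [inv_div, h1, mul_div_cancel_left₀]
      intro h0
      rw [h0, zero_mul] at h1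
      exact hb0 h1
    · refine Or.inl ⟨c, ?_⟩
      have h1 := congrArg ι hc
      rw [map_mul, hι, hι] at h1
      rw [h1, mul_div_cancel_left₀ _ hb0]
  let V := ValuationSubring.ofSubring ι.range hor
  have hmem : ∀ x, x ∈ V ↔ ∃ a s : D, s ∉ q ∧ x * algebraMap D L s = algebraMap D L a := by
    intro x
    constructor
    · rintro ⟨c, rfl⟩
      obtain ⟨a, s, rfl⟩ := IsLocalization.exists_mk'_eq q.primeCompl c
      exact ⟨a, s, s.2, by rw [← hι, ← map_mul, IsLocalization.mk'_spec, hι]⟩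
    · rintro ⟨a, s, hs, hx⟩
      refine ⟨IsLocalization.mk' Dq a (⟨s, hs⟩ : q.primeCompl), ?_⟩
      apply (hu (⟨s, hs⟩ : q.primeCompl)).mul_right_cancel
      rw [hx, ← hι s, ← map_mul, IsLocalization.mk'_spec Dq a (⟨s, hs⟩ : q.primeCompl), hι]
  refine ⟨V, ?_, hmem, fun d => ?_⟩
  · let e : Dq ≃+* V := RingEquiv.ofBijective
      (ι.rangeRestrict : Dq →+* ι.range) ⟨fun a b h => hιinj (congrArg Subtype.val h), ι.rangeRestrict_surjective⟩
    exact IsDiscreteValuationRing.RingEquivClass.isDiscreteValuationRing e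
  · have hdV : algebraMap D L d ∈ V := (hmem _).2 ⟨d, 1, fun h => hq.ne_top (q.eq_top_of_isUnit_mem h isUnit_one), by simp⟩
    by_cases hd : d = 0
    · simp [hd]
    have hd0 : algebraMap D L d ≠ 0 := (map_ne_zero_iff _ (IsFractionRing.injective D L)).2 hd
    constructor
    · intro hlt
      by_contra hdq
      have : (algebraMap D L d)⁻¹ ∈ V := (hmem _).2 ⟨1, d, hdq, by rw [inv_mul_cancel₀ hd0, map_one]⟩
      rw [← V.valuation_le_one_iff, map_inv₀, inv_le_one₀ (zero_lt_iff.2 ((Valuation.ne_zero_iff _).2 hd0))] at this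
      exact absurd hlt (not_lt.2 this)
    · intro hdq
      refine lt_of_le_of_ne ((V.valuation_le_one_iff _).2 hdV) fun h1 => ?_
      have : (algebraMap D L d)⁻¹ ∈ V := (V.valuation_le_one_iff _).1 (by rw [map_inv₀, h1, inv_one])
      obtain ⟨a, s, hs, has⟩ := (hmem _).1 this
      refine hs ?_
      have : s = d * a := IsFractionRing.injective D L (by rw [map_mul, ← has, ← mul_assoc, mul_inv_cancel₀ hd0, one_mul])
      rw [this]
      exact q.mul_mem_right _ hdq

end val

variable (A K : Type u) [CommRing A] [IsDomain A] [IsLocalRing A] [IsNoetherianRing A] [Field K] [Algebra A K] [IsFractionRing A K]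

/-- `Â`. -/
abbrev Ahat := AdicCompletion (maximalIdeal A) A

instance : IsNoetherianRing (Ahat A) := Groth.Agent.Matlis6.isNoetherianRing_adicCompletion (maximalIdeal A)
instance : Module.FaithfullyFlat A (Ahat A) := Module.FaithfullyFlat.of_flat_of_isLocalHom

omit [IsDomain A] in
theorem finite_D (P : Ideal (Ahat A)) [P.IsPrime] : Module.Finite (Ahat A ⧸ P) (D (Ahat A) P) := by
  have : IsLocalRing (Ahat A ⧸ P) := IsLocalRing.of_surjective' (Ideal.Quotient.mk P) Ideal.Quotient.mk_surjective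
  have := CAlgH.isAdicComplete_quotient P
  exact CAlgH.isN2_apply (CAlgH.isN2_of_complete_local_domain (Ahat A ⧸ P)) (L (Ahat A) P) (L (Ahat A) P)

theorem finite_maximal_ideals : {M : Ideal (integralClosure A K) | M.IsMaximal}.Finite :=
  finite_maximal A K (Ah := Ahat A) fun P _ _ => finite_D A P

/-- The family of discrete valuation rings of `A'`, all but finitely many with a centre alone in its fibre. -/
theorem exists_family :
    ∃ 𝒲 𝓔 : Set (ValuationSubring K), IsFamily (integralClosure A K).toSubring 𝒲 ∧ 𝓔.Finite ∧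
      ∀ W ∈ 𝒲, W ∉ 𝓔 → ∀ (P₁ P₂ : Ideal (integralClosure A K)) [P₁.IsPrime] [P₂.IsPrime],
        (∀ a : A, algebraMap A (integralClosure A K) a ∈ P₁ ↔ W.valuation (algebraMap A K a) < 1) →
        (∀ a : A, algebraMap A (integralClosure A K) a ∈ P₂ ↔ W.valuation (algebraMap A K a) < 1) → P₁ ≤ P₂ := by
  classical
  let Ah := Ahat A
  let ι := minimalPrimes Ah
  have : Finite ι := (minimalPrimes.finite_of_isNoetherianRing Ah).to_subtype
  have hp : ∀ P : ι, P.1.IsPrime := fun P => P.2.1.1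
  have hfin : ∀ P : ι, Module.Finite (Ah ⧸ P.1) (D Ah P.1) := fun P => finite_D A P.1
  have hnoeth : ∀ P : ι, IsNoetherianRing (D Ah P.1) := fun P => IsNoetherianRing.of_finite (Ah ⧸ P.1) _
  have hic : ∀ P : ι, IsIntegrallyClosed (D Ah P.1) := fun P => integralClosure.isIntegrallyClosedOfFiniteExtension (L Ah P.1)
  have hfr : ∀ P : ι, IsFractionRing (D Ah P.1) (L Ah P.1) := fun P => integralClosure.isFractionRing_of_finite_extension (L Ah P.1) (L Ah P.1)
  let Q1 := fun P : ι => {q : Ideal (D Ah P.1) // q.IsPrime ∧ q.height = 1}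
  have hV : ∀ (P : ι) (q : Q1 P), ∃ V : ValuationSubring (L Ah P.1), IsDiscreteValuationRing V ∧
      (∀ x, x ∈ V ↔ ∃ a s : D Ah P.1, s ∉ q.1 ∧ x * algebraMap (D Ah P.1) (L Ah P.1) s = algebraMap (D Ah P.1) (L Ah P.1) a) ∧
      ∀ d : D Ah P.1, V.valuation (algebraMap (D Ah P.1) (L Ah P.1) d) < 1 ↔ d ∈ q.1 := fun P q =>
    have := q.2.1; exists_valuationSubring q.1 q.2.2
  choose V hVd hVmem hVlt using hV
  let Wof : ∀ P : ι, Q1 P → ValuationSubring K := fun P q => (V P q).comap (φ A K P.2).toRingHom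
  -- conductors and separators
  have hc : ∀ P : ι, ∃ c : Ah, c ∉ P.1 ∧ ∀ d : D Ah P.1, ∃ u : Ah,
      algebraMap Ah (L Ah P.1) c * (d : L Ah P.1) = algebraMap Ah (L Ah P.1) u := by
    intro P
    obtain ⟨s, hs⟩ := (hfin P).1
    obtain ⟨⟨c, hc0⟩, hcs⟩ := IsLocalization.exist_integer_multiples (nonZeroDivisors (Ah ⧸ P.1)) s (fun d => (d : L Ah P.1))
    obtain ⟨c, rfl⟩ := Ideal.Quotient.mk_surjective c
    refine ⟨c, fun h => nonZeroDivisors.ne_zero hc0 (Ideal.Quotient.eq_zero_iff_mem.2 h), fun d => ?_⟩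
    have hd : d ∈ Submodule.span (Ah ⧸ P.1) (s : Set (D Ah P.1)) := hs ▸ Submodule.mem_top
    induction hd using Submodule.span_induction with
    | mem x hx =>
      obtain ⟨u, hu⟩ := hcs x hx
      obtain ⟨u, rfl⟩ := Ideal.Quotient.mk_surjective u
      refine ⟨u, ?_⟩
      rw [Algebra.smul_def] at hu
      exact hu.symm
    | zero => exact ⟨0, by simp⟩
    | add x y _ _ hx hy =>
      obtain ⟨u, hu⟩ := hx; obtain ⟨w, hw⟩ := hy
      exact ⟨u + w, by rw [AddMemClass.coe_add, mul_add, hu, hw, map_add]⟩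
    | smul e x _ hx =>
      obtain ⟨u, hu⟩ := hx
      obtain ⟨e, rfl⟩ := Ideal.Quotient.mk_surjective e
      refine ⟨e * u, ?_⟩
      rw [map_mul, ← hu, SetLike.val_smul, Algebra.smul_def]
      change _ * (algebraMap Ah (L Ah P.1) e * _) = _
      ring
  choose c hcP hcond using hc
  have hg : ∀ P P' : ι, ∃ g : Ah, g ∉ P.1 ∧ (P' ≠ P → g ∈ P'.1) := by
    intro P P'
    by_cases h : P' = P
    · exact ⟨1, fun h1 => (hp P).ne_top (P.1.eq_top_of_isUnit_mem h1 isUnit_one), fun hh => absurd h hh⟩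
    · obtain ⟨g, hg, hg'⟩ := SetLike.not_le_iff_exists.1 (fun hle : P'.1 ≤ P.1 =>
        h (Subtype.ext (le_antisymm hle (P.2.2 ⟨hp P', bot_le⟩ hle))))
      exact ⟨g, hg', fun _ => hg⟩
  choose g hgP hgP' using hg
  have : Fintype ι := Fintype.ofFinite ι
  let G : ι → Ah := fun P => c P * ∏ P', g P P'
  have hGP : ∀ P, G P ∉ P.1 := fun P h => by
    rcases (hp P).mem_or_mem h with h | h
    · exact hcP P h
    · obtain ⟨P', -, h'⟩ := (hp P).prod_mem_iff.1 h
      exact hgP P P' h'
  have hfin1 : ∀ (P : ι) (b : Ah), b ∉ P.1 → {q : Q1 P | algebraMap Ah (D Ah P.1) b ∈ q.1}.Finite := by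
    intro P b hb
    have hb0 : algebraMap Ah (D Ah P.1) b ≠ 0 := fun h => hb (by
      have h2 : algebraMap (Ah ⧸ P.1) (L Ah P.1) (Ideal.Quotient.mk P.1 b) = 0 := congrArg Subtype.val h
      exact Ideal.Quotient.eq_zero_iff_mem.1 ((map_eq_zero_iff _ (IsFractionRing.injective (Ah ⧸ P.1) _)).1 h2))
    refine ((finite_height_one hb0).preimage (f := fun q : Q1 P => q.1) Subtype.val_injective.injOn).subset ?_
    intro q hq
    exact ⟨q.2.1, q.2.2, hq⟩
  let 𝒲 : Set (ValuationSubring K) := {W | W ≠ ⊤ ∧ ∃ P q, W = Wof P q}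
  let 𝓔 : Set (ValuationSubring K) := ⋃ P : ι, Wof P '' {q | algebraMap Ah (D Ah P.1) (G P) ∈ q.1}
  have hφa : ∀ (P : ι) (a : A), φ A K P.2 (algebraMap A K a) = algebraMap (D Ah P.1) (L Ah P.1) (algebraMap Ah (D Ah P.1) (algebraMap A Ah a)) := by
    intro P a
    rw [AlgHom.commutes, IsScalarTower.algebraMap_apply A (Ah ⧸ P.1) (L Ah P.1)]
    rfl
  refine ⟨𝒲, 𝓔, ⟨?_, ?_, ?_, ?_⟩, Set.finite_iUnion fun P => (hfin1 P (G P) (hGP P)).image _, ?_⟩
  · intro x
    constructor
    · rintro hx W ⟨-, P, q, rfl⟩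
      change φ A K P.2 x ∈ V P q
      exact (hVmem P q _).2 ⟨ψ A K P.2 ⟨x, hx⟩, 1, fun h => q.2.1.ne_top (q.1.eq_top_of_isUnit_mem h isUnit_one),
        by rw [map_one, mul_one]; rfl⟩
    · intro hx
      refine isIntegral_of_forall A K (Ah := Ah) fun P hPp hP => ?_
      let P' : ι := ⟨P, hP⟩
      let e := FractionRing.algEquiv (D Ah P) (L Ah P)
      have : IsNoetherianRing (D Ah P) := hnoeth P'
      have : IsIntegrallyClosed (D Ah P) := hic P'
      have : IsFractionRing (D Ah P) (L Ah P) := hfr P'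
      obtain ⟨d, hd⟩ := CAlgMisc2.mem_range_of_forall_height_one (e.symm (φ A K hP x)) fun q _ hq => by
        have hmem : φ A K hP x ∈ V P' ⟨q, inferInstance, hq⟩ := by
          by_cases htop : Wof P' ⟨q, inferInstance, hq⟩ = ⊤
          · have : x ∈ Wof P' ⟨q, inferInstance, hq⟩ := htop ▸ ValuationSubring.mem_top x
            exact this
          · exact hx _ ⟨htop, P', _, rfl⟩
        obtain ⟨a, s, hs, has⟩ := (hVmem P' _ _).1 hmem
        refine ⟨a, s, hs, ?_⟩
        rw [← e.symm.commutes, ← map_mul, has, e.symm.commutes]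
      have hd' : algebraMap (D Ah P) (L Ah P) d = φ A K hP x := by
        have := congrArg e hd
        rwa [e.commutes, e.apply_symm_apply] at this
      rw [← hd']
      exact d.2
  · intro x
    by_cases hx0 : x = 0
    · exact Set.Finite.subset Set.finite_empty fun W hW => absurd (hx0 ▸ zero_mem W) hW.2
    obtain ⟨a, b, hb, hab⟩ := IsFractionRing.div_surjective A x
    have hbP : ∀ P : ι, algebraMap A Ah b ∉ P.1 := fun P h => by
      have h1 : algebraMap A (L Ah P.1) b = 0 := by
        rw [IsScalarTower.algebraMap_apply A (Ah ⧸ P.1) (L Ah P.1), IsScalarTower.algebraMap_apply A Ah (Ah ⧸ P.1),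
          Ideal.Quotient.algebraMap_eq, Ideal.Quotient.eq_zero_iff_mem.2 h, map_zero]
      exact nonZeroDivisors.ne_zero hb (injective_component P.2 (by rw [h1, map_zero]))
    refine (Set.finite_iUnion fun P : ι => (hfin1 P _ (hbP P)).image (Wof P)).subset ?_
    rintro W ⟨⟨-, P, q, rfl⟩, hxW⟩
    refine Set.mem_iUnion.2 ⟨P, q, ?_, rfl⟩
    by_contra hbq
    refine hxW ?_
    change φ A K P.2 x ∈ V P q
    refine (hVmem P q _).2 ⟨algebraMap Ah _ (algebraMap A Ah a), algebraMap Ah _ (algebraMap A Ah b), hbq, ?_⟩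
    rw [← hφa, ← hφa, ← map_mul, ← hab, div_mul_cancel₀ _ (IsFractionRing.to_map_ne_zero_of_mem_nonZeroDivisors hb)]
  · rintro W ⟨hW, P, q, rfl⟩
    have := hVd P q
    exact isDVR_comap _ _ hW
  · rintro W ⟨hW, P, q, hWq⟩
    have hle : ∀ a : A, W.valuation (algebraMap A K a) ≤ 1 := fun a => (W.valuation_le_one_iff _).2 (by
      rw [hWq]
      change φ A K P.2 (algebraMap A K a) ∈ V P q
      rw [hφa]
      exact (hVmem P q _).2 ⟨algebraMap Ah _ (algebraMap A Ah a), 1, fun h => q.2.1.ne_top (q.1.eq_top_of_isUnit_mem h isUnit_one), by rw [map_one, mul_one]⟩)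
    by_contra! hh
    refine hW (SetLike.ext fun x => ⟨fun _ => ValuationSubring.mem_top x, fun _ => ?_⟩)
    obtain ⟨a, b, hb, rfl⟩ := IsFractionRing.div_surjective A x
    have hb0 : algebraMap A K b ≠ 0 := IsFractionRing.to_map_ne_zero_of_mem_nonZeroDivisors hb
    have hb1 : W.valuation (algebraMap A K b) = 1 :=
      le_antisymm (hle b) (hh _ ((integralClosure A K).algebraMap_mem b) hb0)
    rw [← W.valuation_le_one_iff, map_div₀, hb1, div_one]
    exact hle a
  · rintro W ⟨hW, P, q, rfl⟩ hWE P₁ P₂ _ _ h₁ h₂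
    have hGq : algebraMap Ah (D Ah P.1) (G P) ∉ q.1 := fun h => hWE (Set.mem_iUnion.2 ⟨P, q, h, rfl⟩)
    have hqp := q.2.1
    let Q : Ideal Ah := q.1.comap (algebraMap Ah (D Ah P.1))
    have : Q.IsPrime := inferInstanceAs (q.1.comap (algebraMap Ah (D Ah P.1))).IsPrime
    have hval : ∀ a : A, (Wof P q).valuation (algebraMap A K a) < 1 ↔ a ∈ Q.comap (algebraMap A Ah) := by
      intro a
      change _ ↔ algebraMap Ah (D Ah P.1) (algebraMap A Ah a) ∈ q.1
      rw [← hVlt P q, ← hφa]
      have hle1 : algebraMap A K a ∈ Wof P q := by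
        change φ A K P.2 (algebraMap A K a) ∈ V P q
        rw [hφa]
        exact (hVmem P q _).2 ⟨algebraMap Ah _ (algebraMap A Ah a), 1, fun h => q.2.1.ne_top (q.1.eq_top_of_isUnit_mem h isUnit_one), by rw [map_one, mul_one]⟩
      by_cases ha : algebraMap A K a = 0
      · simp [ha]
      rw [← not_le, ← not_le, not_iff_not, ← one_le_inv₀_iff_aux (Wof P q) ha, ← one_le_inv₀_iff_aux (V P q) (x := φ A K P.2 (algebraMap A K a)) ((map_ne_zero (φ A K P.2).toRingHom).2 ha)]
      change (algebraMap A K a)⁻¹ ∈ Wof P q ↔ _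
      change φ A K P.2 (algebraMap A K a)⁻¹ ∈ V P q ↔ _
      rw [map_inv₀]
    refine le_of_good A K P.2 (Q := Q) (fun P' hP' hle => ?_) (c := c P) (fun h => ?_) (hcond P) P₁ P₂ ?_ ?_
    · by_contra hne
      refine hGq (?_ : G P ∈ Q)
      exact Q.mul_mem_left _ (Ideal.prod_mem Q (i := (⟨P', hP'⟩ : ι)) (Finset.mem_univ _)
        (hle (hgP' P ⟨P', hP'⟩ fun e => hne (congrArg Subtype.val e))))
    · exact hGq (Q.mul_mem_right _ h : G P ∈ Q)
    · ext a; rw [Ideal.mem_comap, h₁, hval]
    · ext a; rw [Ideal.mem_comap, h₂, hval]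
where
  one_le_inv₀_iff_aux {F : Type u} [Field F] (W : ValuationSubring F) {x : F} (hx : x ≠ 0) :
      x⁻¹ ∈ W ↔ 1 ≤ W.valuation x := by
    rw [← W.valuation_le_one_iff, map_inv₀, inv_le_one₀ (zero_lt_iff.2 ((Valuation.ne_zero_iff _).2 hx))]

end Groth.Agent.CAlgH3.Mori
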