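import Groth.Agent.Coherent.InternalHom
import Groth.Agent.Coherent.QcohOps
import Groth.Prelude.Def_Canon

/-! Powers of functions with free locus factor the identity of a finite locally free module through free modules. -/

set_option autoImplicit false
set_option backward.isDefEq.respectTransparency false

universe u

open CategoryTheory CategoryTheory.Limits AlgebraicGeometry Opposite TopologicalSpace
open Groth.Agent.Coherent Groth.Agent.PicLib

namespace Groth.Agent.CAlgH3.LocFreeFactor

variable {X : Scheme.{u}}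

theorem IsBasisOn.mono {I : Type u} [Fintype I] {L : X.Modules} {U V : X.Opens} {e : I → Γ(L, U)}
    (hb : IsBasisOn L U e) (h : V ≤ U) : IsBasisOn L V fun i => resM L h (e i) := fun W hW => by
  have := hb (hW.trans h)
  simpa only [resM_resM] using this

theorem localizesOn_of_basis {I : Type u} [Fintype I] {L : X.Modules} {U : X.Opens} (hU : IsAffineOpen U)
    {e : I → Γ(L, U)} (hb : IsBasisOn L U e) : LocalizesOn L U := by
  classical
  have := isQCoh_structureModule (X := X)
  refine ⟨fun f s => ?_, fun f t ht => ?_⟩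
  · choose n t ht using fun i => qcoh_exists_pow_smul hU (Coh.structureModule X) f
      (hb.coef (X.basicOpen_le f) s i)
    let t' : I → Γ(X, U) := t
    refine ⟨Finset.univ.sup n, ∑ i, (f ^ (Finset.univ.sup n - n i) * t' i) • e i, ?_⟩
    rw [map_sum]
    conv_rhs => rw [← hb.coef_spec (X.basicOpen_le f) s, Finset.smul_sum]
    refine Finset.sum_congr rfl fun i _ => ?_
    rw [resM_smul, smul_smul]
    congr 1
    rw [map_mul]
    refine (congrArg (X.presheaf.map (homOfLE (X.basicOpen_le f)).op
      (f ^ (Finset.univ.sup n - n i)) * ·) (ht i)).trans ?_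
    refine (mul_assoc (G := Γ(X, X.basicOpen f)) _ _ (hb.coef (X.basicOpen_le f) s i)).symm.trans ?_
    rw [← map_mul, ← pow_add, Nat.sub_add_cancel (Finset.le_sup (f := n) (Finset.mem_univ i))]
  · choose n hn using fun i => qcoh_exists_pow_smul_eq_zero hU (Coh.structureModule X) f
      (hb.coef le_rfl t i) (by
        have h0 : hb.coef (X.basicOpen_le f) (resM L (X.basicOpen_le f) t) = fun i =>
            X.presheaf.map (homOfLE (X.basicOpen_le f)).op (hb.coef le_rfl t i) := hb.coef_res le_rfl _ t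
        have hz : hb.coef (X.basicOpen_le f) (resM L (X.basicOpen_le f) t) = 0 :=
          hb.coef_eq _ (by rw [ht]; simp)
        exact (congrFun h0 i).symm.trans (congrFun hz i))
    refine ⟨Finset.univ.sup n, ?_⟩
    conv_lhs => rw [← hb.coef_spec le_rfl t, Finset.smul_sum]
    refine Finset.sum_eq_zero fun i _ => ?_
    rw [smul_smul]
    obtain ⟨k, hk⟩ := Nat.exists_eq_add_of_le (Finset.le_sup (f := n) (Finset.mem_univ i))
    have h' : f ^ n i * (hb.coef le_rfl t i) = 0 := hn i
    rw [hk, add_comm (n i) k, pow_add, mul_assoc, h', mul_zero, zero_smul]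

theorem exists_affine_basis {E : X.Modules} (hE : FlatMod.IsFinLocFree E) (x : X) :
    ∃ (U : X.Opens) (n : ℕ) (e : ULift.{u} (Fin n) → Γ(E, U)), x ∈ U ∧ IsAffineOpen U ∧ IsBasisOn E U e := by
  obtain ⟨U, n, e, hx, hb⟩ := exists_isBasisOn hE x
  obtain ⟨V, hV, hxV, hVU⟩ := Opens.isBasis_iff_nbhd.mp X.isBasis_affineOpens hx
  exact ⟨V, n, fun i => resM E hVU (e i), hxV, hV, IsBasisOn.mono hb hVU⟩

theorem isQCoh_of_finLocFree {E : X.Modules} (hE : FlatMod.IsFinLocFree E) : Coh.IsQCoh E := by
  choose U n e hx hU hb using exists_affine_basis hE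
  exact isQCoh_of_localizesOn E U hU (fun x => ⟨x, hx x⟩) fun x => localizesOn_of_basis (hU x) (hb x)

theorem isQCoh_dual {E : X.Modules} (hE : FlatMod.IsFinLocFree E) :
    Coh.IsQCoh (internalHom E (Coh.structureModule X)) := by
  choose U n e hx hU hb using exists_affine_basis hE
  exact isQCoh_of_localizesOn _ U hU (fun x => ⟨x, hx x⟩)
    fun x => localizesOn_of_basis (hU x) (isBasisOn_coordHom (hb x))

/-- A global section of the dual as a morphism. -/
noncomputable def dualHom {E : X.Modules} (ξ : Γ(internalHom E (Coh.structureModule X), ⊤)) :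
    E ⟶ Coh.structureModule X :=
  ⟨PresheafOfModules.homMk
    { app := fun W => AddCommGrpCat.ofHom ((secHom ξ).1 W.unop le_top)
      naturality := fun W W' g => ConcreteCategory.hom_ext _ _ fun a => by
        rw [show g = (homOfLE (leOfHom g.unop)).op from Subsingleton.elim _ _]
        exact ((secHom ξ).2.2 W.unop W'.unop le_top (leOfHom g.unop) a).symm }
    fun W r a => (secHom ξ).2.1 W.unop le_top r a⟩

theorem dualHom_app {E : X.Modules} (ξ : Γ(internalHom E (Coh.structureModule X), ⊤)) (W : X.Opens)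
    (a : Γ(E, W)) : (dualHom ξ).app W a = ev (secHom ξ) W le_top a := rfl

variable [CompactSpace X] [QuasiSeparatedSpace X]

/-- Restriction of a global function. -/
noncomputable abbrev rf (f : Γ(X, ⊤)) (W : X.Opens) : Γ(X, W) :=
  X.presheaf.map (homOfLE (le_top (a := W))).op f

theorem res_rf (f : Γ(X, ⊤)) {W W' : X.Opens} (h : W' ≤ W) :
    X.presheaf.map (homOfLE h).op (rf f W) = rf f W' := by
  show (X.presheaf.map _ ≫ X.presheaf.map _) f = _
  rw [← Functor.map_comp]
  rfl

theorem exists_uniform {M : X.Modules} [Coh.IsQCoh M] (f : Γ(X, ⊤)) {I : Type u} [Fintype I]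
    (s : I → Γ(M, X.basicOpen f)) :
    ∃ (N : ℕ) (t : I → Γ(M, ⊤)), ∀ i, resM M le_top (t i) = rf (f ^ N) (X.basicOpen f) • s i := by
  choose n t ht using fun i =>
    qcqs_exists_pow_smul M (U := (⊤ : X.Opens)) (by exact isCompact_univ)
      (by exact isQuasiSeparated_univ) f (s i)
  refine ⟨Finset.univ.sup n, fun i => f ^ (Finset.univ.sup n - n i) • t i, fun i => ?_⟩
  rw [resM_smul]
  refine (congrArg (_ • ·) (ht i)).trans ?_
  rw [smul_smul]
  congr 1
  rw [← map_mul, ← pow_add, Nat.sub_add_cancel (Finset.le_sup (f := n) (Finset.mem_univ i))]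

/-- The identity times a power of `f` factors through a free module when `E` is free on `X_f`. -/
theorem exists_factor {E : X.Modules} (hE : FlatMod.IsFinLocFree E) (f : Γ(X, ⊤)) {I : Type u} [Fintype I]
    {e : I → Γ(E, X.basicOpen f)} (hb : IsBasisOn E (X.basicOpen f) e) :
    ∃ (N : ℕ) (φ : I → (E ⟶ Coh.structureModule X)) (ψ : I → (Coh.structureModule X ⟶ E)),
      ∀ (W : X.Opens) (a : Γ(E, W)), ∑ i, (ψ i).app W ((φ i).app W a) = rf (f ^ N) W • a := by
  classical
  have := isQCoh_of_finLocFree hE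
  have := isQCoh_dual hE
  obtain ⟨p, t, ht⟩ := exists_uniform f e
  obtain ⟨q, ξ, hξ⟩ := exists_uniform f (coordHom hb)
  let φ : I → (E ⟶ Coh.structureModule X) := fun i => dualHom (ξ i)
  let ψ : I → (Coh.structureModule X ⟶ E) := fun i => unitDesc E (t i)
  let θ : E ⟶ E := ∑ i, φ i ≫ ψ i
  have hθ : ∀ (W : X.Opens) (a : Γ(E, W)), θ.app W a = ∑ i, (ψ i).app W ((φ i).app W a) :=
    fun W a => app_sum _ _ W a
  have hf : ∀ (W : X.Opens) (hW : W ≤ X.basicOpen f) (a : Γ(E, W)),
      θ.app W a = rf (f ^ (q + p)) W • a := fun W hW a => by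
    rw [hθ]
    conv_rhs => rw [← hb.coef_spec hW a, Finset.smul_sum]
    refine Finset.sum_congr rfl fun i _ => ?_
    refine (app_unit (ψ i) _).trans ?_
    rw [unitVal_unitDesc, show resM E (le_top (a := W)) (t i) =
      resM E hW (resM E le_top (t i)) from (resM_resM E le_top hW (t i)).symm, ht, resM_smul, res_rf,
      smul_smul, smul_smul]
    congr 1
    have h1 : (show Γ(X, W) from (φ i).app W a) = rf (f ^ q) W * hb.coef hW a i := by
      show (show Γ(X, W) from ev (secHom (ξ i)) W (hW.trans le_top) a) = _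
      rw [← resM_internalHom (le_top : X.basicOpen f ≤ ⊤) (ξ i) W hW a, hξ i]
      refine (ev_smul _ _ W hW a).trans ?_
      rw [res_rf]
      rfl
    refine (congrArg (fun z : Γ(X, W) => z * rf (f ^ p) W) h1).trans ?_
    rw [pow_add f q p]
    simp only [rf, map_mul]
    ring
  choose U n b hx hU hbU using exists_affine_basis hE
  obtain ⟨S, hS⟩ := CompactSpace.elim_nhds_subcover (fun x => (U x : Set X))
    (fun x => (U x).isOpen.mem_nhds (hx x))
  have hk : ∀ (x : X) (j : ULift.{u} (Fin (n x))), ∃ m : ℕ,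
      rf f (U x) ^ m • (θ.app (U x) (b x j) - rf (f ^ (q + p)) (U x) • b x j) = 0 := fun x j => by
    refine qcoh_exists_pow_smul_eq_zero (hU x) E _ _ ?_
    have hle : X.basicOpen (rf f (U x)) ≤ X.basicOpen f := by
      rw [X.basicOpen_res]; exact inf_le_right
    rw [map_sub, resM_smul, res_rf, ← app_resM, hf _ hle, sub_self]
  choose m hm using hk
  let M := S.sup fun x => Finset.univ.sup (m x)
  refine ⟨M + (q + p), φ, fun i => unitDesc E (f ^ M • t i), fun W a => ?_⟩
  have key : ∀ (V : X.Opens) (a : Γ(E, V)), ∑ i, (unitDesc E (f ^ M • t i)).app V ((φ i).app V a) =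
      rf (f ^ M) V • θ.app V a := fun V a => by
    rw [hθ, Finset.smul_sum]
    refine Finset.sum_congr rfl fun i _ => ?_
    refine (app_unit _ _).trans ?_
    rw [unitVal_unitDesc, resM_smul, smul_comm]
    refine congrArg (_ • ·) ?_
    refine (((app_unit (ψ i) _).trans ?_)).symm
    rw [unitVal_unitDesc]
  rw [key]
  refine TopCat.Sheaf.eq_of_locally_eq' (X := X.toTopCat) (Coh.toAb E) (fun x : S => W ⊓ U x.1) W
    (fun x => homOfLE inf_le_left) ?_ _ _ fun x => ?_
  · intro y hy
    have := hS.ge (Set.mem_univ y)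
    obtain ⟨x, hxS, hyx⟩ := Set.mem_iUnion₂.1 this
    exact Opens.mem_iSup.2 ⟨⟨x, hxS⟩, hy, hyx⟩
  · show resM E inf_le_left _ = resM E inf_le_left _
    rw [resM_smul, resM_smul, ← app_resM, res_rf, res_rf]
    generalize resM E (inf_le_left : W ⊓ U x.1 ≤ W) a = a'
    rw [← (hbU x.1).coef_spec inf_le_right a', map_sum, Finset.smul_sum, Finset.smul_sum]
    refine Finset.sum_congr rfl fun j _ => ?_
    rw [Scheme.Modules.Hom.app_smul, smul_comm, smul_comm (rf (f ^ (M + (q + p))) _), app_resM]
    refine congrArg (_ • ·) ?_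
    obtain ⟨k, hk⟩ := Nat.exists_eq_add_of_le
      ((Finset.le_sup (f := m x.1) (Finset.mem_univ j)).trans (Finset.le_sup (f := fun x => Finset.univ.sup (m x)) x.2))
    have h1 : rf (f ^ M) (U x.1) • θ.app (U x.1) (b x.1 j) = rf (f ^ (M + (q + p))) (U x.1) • b x.1 j := by
      have h2 := congrArg ((rf f (U x.1)) ^ k • ·) (hm x.1 j)
      simp only [smul_zero, smul_smul, ← pow_add] at h2
      rw [show k + m x.1 j = M from by omega, smul_sub, sub_eq_zero, smul_smul] at h2
      simp only [rf, map_mul, map_pow, pow_add] at h2 ⊢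
      exact h2
    have h3 := congrArg (resM E (inf_le_right : W ⊓ U x.1 ≤ U x.1)) h1
    rw [resM_smul, resM_smul, res_rf, res_rf] at h3
    exact h3

end Groth.Agent.CAlgH3.LocFreeFactor
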