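import Mathlib.FieldTheory.SeparablyGenerated
import Mathlib.FieldTheory.PurelyInseparable.PerfectClosure
import Mathlib.RingTheory.Localization.Integer

/-! Mac Lane: separably generated extensions preserve linear independence under `p`-th powers. -/

universe u

namespace Groth.Agent.CAlgH3

variable (k : Type u) [Field k] (p : ℕ)

/-- `p`-th powers preserve the linear independence over `k` of tuples. -/
def PowIndep (P : Type u) [CommRing P] [Algebra k P] : Prop :=
  ∀ (I : Type u) [Fintype I] (J : Type u) (g : I → J → P),
    (∀ c : I → k, (∀ j, ∑ i, c i • g i j = 0) → c = 0) →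
      ∀ c : I → k, (∀ j, ∑ i, c i • g i j ^ p = 0) → c = 0

variable [ExpChar k p]

theorem powIndep_self : PowIndep k p k := by
  classical
  intro I _ J g hg c hc
  let col : J → I → k := fun j i => g i j
  have hspan : Submodule.span k (Set.range col) = ⊤ := by
    by_contra h
    obtain ⟨φ, hφ0, hφ⟩ := Submodule.exists_dual_map_eq_bot_of_lt_top (lt_top_iff_ne_top.2 h) inferInstance
    refine hφ0 (LinearMap.pi_ext' fun i => LinearMap.ext_ring ?_)
    have hlin : ∀ w : I → k, φ w = ∑ i, φ (Pi.single i 1) • w i := fun w => by
      conv_lhs => rw [← Finset.univ_sum_single w]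
      rw [map_sum]
      refine Finset.sum_congr rfl fun i _ => ?_
      rw [show Pi.single i (w i) = w i • Pi.single i (1 : k) from by rw [← Pi.single_smul, smul_eq_mul, mul_one],
        map_smul, smul_eq_mul, smul_eq_mul, mul_comm]
    have := hg (fun i => φ (Pi.single i 1)) fun j => by
      rw [← hlin (col j)]
      have := Submodule.mem_map_of_mem (f := φ) (Submodule.subset_span ⟨j, rfl⟩ : col j ∈ Submodule.span k (Set.range col))
      rwa [hφ, Submodule.mem_bot] at this
    simpa using congrFun this i
  have key : ∀ w ∈ Submodule.span k (Set.range col), ∑ i, c i * w i ^ p = 0 := by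
    intro w hw
    induction hw using Submodule.span_induction with
    | mem x hx => obtain ⟨j, rfl⟩ := hx; simpa using hc j
    | zero => simp [(expChar_pos k p).ne']
    | add x y _ _ hx hy => simp [add_pow_expChar, mul_add, Finset.sum_add_distrib, hx, hy]
    | smul a x _ hx =>
      simp only [Pi.smul_apply, smul_eq_mul, mul_pow, mul_left_comm (c _) (a ^ p) _, ← Finset.mul_sum, hx, mul_zero]
  funext i
  have := key (Pi.single i 1) (hspan ▸ Submodule.mem_top)
  rwa [Finset.sum_eq_single i (fun b _ hb => by simp [Pi.single_eq_of_ne hb, (expChar_pos k p).ne']) (by simp),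
    Pi.single_eq_same, one_pow, mul_one] at this

theorem powIndep_mvPolynomial (σ : Type u) : PowIndep k p (MvPolynomial σ k) := by
  classical
  intro I _ J g hg c hc
  refine powIndep_self k p I (J × (σ →₀ ℕ)) (fun i jm => MvPolynomial.coeff jm.2 (g i jm.1)) (fun d hd => hg d fun j => ?_)
    c fun jm => ?_
  · ext m
    simpa [MvPolynomial.coeff_sum] using hd (j, m)
  · have hcoeff : ∀ (f : MvPolynomial σ k) (m : σ →₀ ℕ), MvPolynomial.coeff (p • m) (f ^ p) = MvPolynomial.coeff m f ^ p := by
      intro f m
      induction f using MvPolynomial.induction_on' with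
      | monomial e a =>
        rw [MvPolynomial.monomial_pow, MvPolynomial.coeff_monomial, MvPolynomial.coeff_monomial]
        have hp := (expChar_pos k p).ne'
        by_cases h : e = m
        · subst h; simp
        · rw [if_neg h, if_neg, zero_pow hp]
          exact fun h2 => h (Finsupp.ext fun i => Nat.eq_of_mul_eq_mul_left (Nat.pos_of_ne_zero hp) (by simpa using DFunLike.congr_fun h2 i))
      | add f f' hf hf' =>
        rw [add_pow_expChar, MvPolynomial.coeff_add, hf, hf', MvPolynomial.coeff_add, add_pow_expChar]
    have := congrArg (MvPolynomial.coeff (p • jm.2)) (hc jm.1)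
    simpa [MvPolynomial.coeff_sum, hcoeff] using this

omit [ExpChar k p] in
theorem powIndep_congr {P Q : Type u} [CommRing P] [Algebra k P] [CommRing Q] [Algebra k Q]
    (e : P ≃ₐ[k] Q) (h : PowIndep k p P) : PowIndep k p Q := by
  intro I _ J g hg c hc
  refine h I J (fun i j => e.symm (g i j)) (fun d hd => hg d fun j => ?_) c fun j => ?_
  · apply e.symm.injective
    rw [map_sum, map_zero]
    simpa [map_smul] using hd j
  · apply e.injective
    rw [map_sum, map_zero]
    simpa [map_smul] using hc j

omit [ExpChar k p] in
theorem powIndep_fractionRing (P : Type u) [CommRing P] [IsDomain P] [Algebra k P] (E : Type u) [Field E]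
    [Algebra k E] [Algebra P E] [IsScalarTower k P E] [IsFractionRing P E] (h : PowIndep k p P) :
    PowIndep k p E := by
  classical
  intro I _ J g hg c hc
  have hden : ∀ j, ∃ d : nonZeroDivisors P, ∀ i, IsLocalization.IsInteger P ((d : P) • g i j) := fun j =>
    IsLocalization.exist_integer_multiples_of_finite (nonZeroDivisors P) (fun i => g i j)
  choose d hd using hden
  choose f hf using hd
  have hinj := IsFractionRing.injective P E
  have hsm : ∀ (a : k) (y : P), algebraMap P E (a • y) = a • algebraMap P E y := fun a y => by
    rw [Algebra.smul_def, map_mul, ← IsScalarTower.algebraMap_apply, ← Algebra.smul_def]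
  refine h I J (fun i j => f j i) (fun a ha => hg a fun j => ?_) c fun j => hinj ?_
  · have := congrArg (algebraMap P E) (ha j)
    simp only [map_sum, map_zero, hsm, hf, Algebra.smul_def (d j : P)] at this
    rw [Finset.sum_congr rfl (fun i _ => (mul_smul_comm (a i) (algebraMap P E (d j : P)) (g i j)).symm)] at this
    rw [← Finset.mul_sum, mul_eq_zero] at this
    exact this.resolve_left ((map_ne_zero_iff _ hinj).2 (nonZeroDivisors.ne_zero (d j).2))
  · simp only [map_sum, map_zero, hsm, map_pow, hf, Algebra.smul_def (d j : P), mul_pow]
    rw [Finset.sum_congr rfl (fun i _ => (mul_smul_comm (c i) ((algebraMap P E (d j : P)) ^ p) (g i j ^ p)).symm),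
      ← Finset.mul_sum, hc j, mul_zero]

theorem powIndep_of_isSeparable (E K : Type u) [Field E] [Field K] [Algebra k E] [Algebra k K] [Algebra E K]
    [IsScalarTower k E K] [Algebra.IsSeparable E K] (h : PowIndep k p E) : PowIndep k p K := by
  classical
  intro I _ J g hg c hc
  have : ExpChar E p := expChar_of_injective_algebraMap (algebraMap k E).injective p
  have : ExpChar K p := expChar_of_injective_algebraMap (algebraMap k K).injective p
  let b := Module.Free.chooseBasis E K
  have hb : LinearIndependent E (b · ^ p) := by
    simpa using b.linearIndependent.map_pow_expChar_pow_of_isSeparable p 1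
  refine h I (J × Module.Free.ChooseBasisIndex E K) (fun i jb => b.repr (g i jb.1) jb.2) (fun d hd => hg d fun j => ?_)
    c fun jb => ?_
  · apply b.repr.injective
    ext l
    rw [map_zero, Finsupp.zero_apply, ← hd (j, l), map_sum, Finsupp.finsetSum_apply]
    refine Finset.sum_congr rfl fun i _ => ?_
    rw [← algebraMap_smul E (d i) (g i j), map_smul, Finsupp.smul_apply, algebraMap_smul]
  · obtain ⟨j, l⟩ := jb
    let S : Finset (Module.Free.ChooseBasisIndex E K) := Finset.univ.biUnion fun i => (b.repr (g i j)).support
    have hsum : ∀ i, g i j ^ p = ∑ l ∈ S, (b.repr (g i j) l) ^ p • b l ^ p := fun i => by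
      conv_lhs => rw [← b.linearCombination_repr (g i j), Finsupp.linearCombination_apply,
        Finsupp.sum_of_support_subset _ (Finset.subset_biUnion_of_mem (fun i => (b.repr (g i j)).support) (Finset.mem_univ i)) _ (by simp)]
      rw [sum_pow_char p]
      simp [smul_pow, S]
    have h0 := hc j
    simp only [hsum, Finset.smul_sum] at h0
    rw [Finset.sum_comm] at h0
    simp_rw [← smul_assoc, ← Finset.sum_smul] at h0
    by_cases hl : l ∈ S
    · exact linearIndependent_iff'.1 hb S _ h0 l hl
    · refine Finset.sum_eq_zero fun i _ => ?_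
      have : b.repr (g i j) l = 0 := Finsupp.notMem_support_iff.1 fun h => hl (Finset.mem_biUnion.2 ⟨i, Finset.mem_univ i, h⟩)
      simp [this, (expChar_pos k p).ne']

theorem powIndep_of_separablyGenerated (K : Type u) [Field K] [Algebra k K] {ι : Type u} {x : ι → K}
    (hx : IsTranscendenceBasis k x) [Algebra.IsSeparable (IntermediateField.adjoin k (Set.range x)) K] :
    PowIndep k p K := by
  open scoped IntermediateField.algebraAdjoinAdjoin in
  have h1 : PowIndep k p (IntermediateField.adjoin k (Set.range x)) :=
    powIndep_fractionRing k p (Algebra.adjoin k (Set.range x)) _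
      (powIndep_congr k p hx.1.aevalEquiv (powIndep_mvPolynomial k p ι))
  exact powIndep_of_isSeparable k p (IntermediateField.adjoin k (Set.range x)) K h1

end Groth.Agent.CAlgH3
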