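import Groth.Agent.CAlgH3.CMRing
import Mathlib.RingTheory.Localization.Ideal
import Mathlib.RingTheory.Flat.Basic
import Mathlib.RingTheory.Flat.Localization

/-! Localisations of quotient rings at primes. -/

universe u

open IsLocalRing

namespace Groth.Agent.CAlgH3

variable {R : Type u} [CommRing R] (I : Ideal R) (q : Ideal (R ⧸ I)) [q.IsPrime]

/-- `R_p / I R_p` is the localization of `R / I` at the image `q` of `p`. -/
theorem isLocalization_atPrime_quotient :
    IsLocalization.AtPrime
      (Localization.AtPrime (q.comap (Ideal.Quotient.mk I)) ⧸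
        I.map (algebraMap R (Localization.AtPrime (q.comap (Ideal.Quotient.mk I))))) q := by
  have h : Algebra.algebraMapSubmonoid (R ⧸ I) (q.comap (Ideal.Quotient.mk I)).primeCompl = q.primeCompl := by
    ext z
    obtain ⟨z, rfl⟩ := Ideal.Quotient.mk_surjective z
    constructor
    · rintro ⟨y, hy, hyz⟩
      change Ideal.Quotient.mk I y = Ideal.Quotient.mk I z at hyz
      exact fun hz => hy (Ideal.mem_comap.2 (hyz ▸ hz))
    · exact fun hz => ⟨z, hz, rfl⟩
  change IsLocalization q.primeCompl _
  rw [← h]
  infer_instance

/-- The ring isomorphism `R_p / I R_p = (R/I)_q`. -/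
theorem exists_quotientLocalEquiv :
    ∃ _ : (Localization.AtPrime (q.comap (Ideal.Quotient.mk I)) ⧸
        I.map (algebraMap R (Localization.AtPrime (q.comap (Ideal.Quotient.mk I))))) ≃+* Localization.AtPrime q, True := by
  have := isLocalization_atPrime_quotient I q
  exact ⟨(IsLocalization.algEquiv q.primeCompl _ (Localization.AtPrime q)).toRingEquiv, trivial⟩

/-- A hypersurface in a ring whose local rings are regular is Cohen-Macaulay. -/
theorem isCohenMacaulayRing_quotient_span [IsRegularRing R] (f : R) :
    _root_.LocCoh.IsCohenMacaulayRing (R ⧸ Ideal.span {f}) where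
  isCohenMacaulayLocalRing_localization q hq := by
    let p := q.comap (Ideal.Quotient.mk (Ideal.span {f}))
    let A := Localization.AtPrime p
    have := isDomain_of_isRegularLocalRing A
    have := isCohenMacaulayLocalRing_of_regular A
    obtain ⟨e, -⟩ := exists_quotientLocalEquiv (Ideal.span {f}) q
    have hmap : (Ideal.span {f}).map (algebraMap R A) = Ideal.span {algebraMap R A f} := by
      rw [Ideal.map_span, Set.image_singleton]
    have hfp : f ∈ p := by
      change Ideal.Quotient.mk _ f ∈ q
      rw [Ideal.Quotient.eq_zero_iff_mem.2 (Ideal.mem_span_singleton_self f)]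
      exact zero_mem q
    have hfm : algebraMap R A f ∈ maximalIdeal A := by
      rw [← Localization.AtPrime.map_eq_maximalIdeal]; exact Ideal.mem_map_of_mem _ hfp
    have : IsLocalRing (A ⧸ Ideal.span {algebraMap R A f}) :=
      isLocalRing_quotient (span_singleton_le_maximal hfm)
    have : _root_.LocCoh.IsCohenMacaulayLocalRing (A ⧸ Ideal.span {algebraMap R A f}) := by
      by_cases h0 : algebraMap R A f = 0
      · exact isCohenMacaulayLocalRing_of_ringEquiv
          ((RingEquiv.quotientBot A).symm.trans (Ideal.quotEquivOfEq (by rw [h0, Ideal.span_singleton_zero])))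
      · exact (isCohenMacaulayLocalRing_quotient_span_iff hfm fun a b h => mul_left_cancel₀ h0 h).2 inferInstance
    exact isCohenMacaulayLocalRing_of_ringEquiv (R := A ⧸ Ideal.span {algebraMap R A f})
      ((Ideal.quotEquivOfEq hmap.symm).trans e)

end Groth.Agent.CAlgH3
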