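import Mathlib.RingTheory.Artinian.Module
import Mathlib.RingTheory.Nilpotent.Basic
import Mathlib.RingTheory.LocalRing.Module
import Mathlib.RingTheory.Flat.Basic
import Mathlib.RingTheory.HopkinsLevitzki

/-! Flat modules over Artinian local rings and non-zero-divisors modulo an ideal. -/

universe u v w

namespace Groth.Agent.CAlgH3

open IsLocalRing TensorProduct

variable {A : Type u} [CommRing A] [IsLocalRing A] [IsArtinianRing A]

lemma eq_top_of_sup_maximalIdeal {M : Type v} [AddCommGroup M] [Module A M] (N : Submodule A M)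
    (h : N ⊔ maximalIdeal A • ⊤ = ⊤) : N = ⊤ := by
  obtain ⟨n, hn⟩ := IsArtinianRing.isNilpotent_jacobson_bot (R := A)
  rw [IsLocalRing.jacobson_eq_maximalIdeal ⊥ bot_ne_top] at hn
  have key : ∀ n, N ⊔ maximalIdeal A ^ n • ⊤ = ⊤ := by
    intro n
    induction n with
    | zero => simp
    | succ n ih =>
      rw [eq_top_iff]
      conv_lhs => rw [← h]
      refine sup_le le_sup_left ?_
      conv_lhs => rw [← ih]
      rw [Submodule.smul_sup, ← Submodule.mul_smul, ← pow_succ']
      exact sup_le (le_sup_of_le_left Submodule.smul_le_right) le_sup_right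
  simpa [hn] using key n

/-- A family lifting a residual basis of a flat module is a basis. -/
noncomputable def basisOfResidual {M : Type v} [AddCommGroup M] [Module A M] [Module.Flat A M]
    {ι : Type w} (b : ι → M)
    (hli : LinearIndependent (ResidueField A) fun i => (1 : ResidueField A) ⊗ₜ[A] b i)
    (hsp : Submodule.span (ResidueField A) (Set.range fun i => (1 : ResidueField A) ⊗ₜ[A] b i) = ⊤) :
    Module.Basis ι A M :=
  .mk (Module.IsLocalRing.linearIndependent_of_flat b hli) (eq_top_of_sup_maximalIdeal _ (by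
    rw [eq_top_iff]
    intro m _
    have hm : TensorProduct.mk A (ResidueField A) M 1 m ∈
        Submodule.span (ResidueField A) (Set.range fun i => (1 : ResidueField A) ⊗ₜ[A] b i) := hsp ▸ Submodule.mem_top
    rw [← Submodule.restrictScalars_mem A,
      Submodule.restrictScalars_span A (ResidueField A) (Ideal.Quotient.mk_surjective (I := maximalIdeal A))] at hm
    rw [show (fun i => (1 : ResidueField A) ⊗ₜ[A] b i) = TensorProduct.mk A (ResidueField A) M 1 ∘ b from rfl,
      Set.range_comp, ← Submodule.map_span] at hm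
    obtain ⟨n, hn, hn'⟩ := hm
    have : m - n ∈ (maximalIdeal A • ⊤ : Submodule A M) := by
      rw [← LinearMap.ker_tensorProductMk, LinearMap.mem_ker, map_sub]
      exact sub_eq_zero.mpr hn'.symm
    rw [← add_sub_cancel n m]
    exact Submodule.add_mem_sup hn this)).ge

lemma free_of_flat_artinian (M : Type v) [AddCommGroup M] [Module A M] [Module.Flat A M] :
    Module.Free A M := by
  let w := Module.Free.chooseBasis (ResidueField A) (ResidueField A ⊗[A] M)
  obtain ⟨b, hb⟩ := (TensorProduct.mk_surjective A M (ResidueField A) Ideal.Quotient.mk_surjective).comp_left w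
  have hb' : (fun i => (1 : ResidueField A) ⊗ₜ[A] b i) = w := hb
  exact .of_basis (basisOfResidual b (hb' ▸ w.linearIndependent) (hb' ▸ w.span_eq))

lemma mem_smul_top_iff_repr {M : Type v} [AddCommGroup M] [Module A M] {ι : Type w}
    (B : Module.Basis ι A M) (I : Ideal A) (x : M) :
    x ∈ (I • ⊤ : Submodule A M) ↔ ∀ i, B.repr x i ∈ I := by
  classical
  constructor
  · intro hx i
    refine Submodule.smul_induction_on hx (fun a ha y _ => ?_) fun y z hy hz => ?_
    · simp only [map_smul, Finsupp.smul_apply, smul_eq_mul]; exact I.mul_mem_right _ ha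
    · simp only [map_add, Finsupp.add_apply]; exact I.add_mem hy hz
  · intro h
    rw [← B.linearCombination_repr x, Finsupp.linearCombination_apply]
    exact Submodule.sum_mem _ fun i _ => Submodule.smul_mem_smul (h i) Submodule.mem_top

omit [IsArtinianRing A] in
lemma exists_colon_eq_maximal [IsNoetherianRing A] {I : Ideal A} (hI : I ≠ ⊤)
    (hnil : ∃ n, maximalIdeal A ^ n ≤ I) : ∃ s ∉ I, ∀ a ∈ maximalIdeal A, a * s ∈ I := by
  classical
  have h0 : Nat.find hnil ≠ 0 := fun h => hI (top_le_iff.1 (by simpa [h] using Nat.find_spec hnil))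
  obtain ⟨k, hk⟩ := Nat.exists_eq_succ_of_ne_zero h0
  obtain ⟨s, hs, hsI⟩ := SetLike.not_le_iff_exists.1 (Nat.find_min hnil (m := k) (by omega))
  exact ⟨s, hsI, fun a ha => Nat.find_spec hnil (by rw [hk, pow_succ']; exact Ideal.mul_mem_mul ha hs)⟩

variable {N : Type v} [AddCommGroup N] [Module A N] {M : Type w} [AddCommGroup M] [Module A M]
  [Module.Flat A M]

/-- Injectivity modulo `I` descends to injectivity modulo the maximal ideal. -/
theorem injMod_max_of_injMod [Module.Flat A N] (u : N →ₗ[A] M) {I : Ideal A} (hI : I ≠ ⊤)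
    (h : ∀ z, u z ∈ (I • ⊤ : Submodule A M) → z ∈ (I • ⊤ : Submodule A N)) :
    ∀ z, u z ∈ (maximalIdeal A • ⊤ : Submodule A M) → z ∈ (maximalIdeal A • ⊤ : Submodule A N) := by
  obtain ⟨n, hn⟩ := IsArtinianRing.isNilpotent_jacobson_bot (R := A)
  rw [IsLocalRing.jacobson_eq_maximalIdeal ⊥ bot_ne_top] at hn
  obtain ⟨s, hs, hsm⟩ := exists_colon_eq_maximal hI ⟨n, hn.le.trans bot_le⟩
  intro z hz
  have := free_of_flat_artinian (A := A) N
  let B := Module.Free.chooseBasis A N
  have h1 : u (s • z) ∈ (I • ⊤ : Submodule A M) := by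
    rw [map_smul]
    refine Submodule.smul_induction_on hz (fun a ha y _ => ?_) fun y y' hy hy' => ?_
    · rw [smul_smul, mul_comm]; exact Submodule.smul_mem_smul (hsm a ha) Submodule.mem_top
    · rw [smul_add]; exact add_mem hy hy'
  rw [mem_smul_top_iff_repr B]
  intro i
  have h2 := (mem_smul_top_iff_repr B I _).1 (h _ h1) i
  rw [map_smul, Finsupp.smul_apply, smul_eq_mul] at h2
  rw [mem_maximalIdeal, mem_nonunits_iff]
  exact fun hu => hs ((Ideal.mul_unit_mem_iff_mem I hu).1 h2)

/-- A map injective modulo the maximal ideal is split injective with free cokernel. -/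
theorem of_injMod_max [Module.Flat A N] (u : N →ₗ[A] M)
    (h : ∀ z, u z ∈ (maximalIdeal A • ⊤ : Submodule A M) → z ∈ (maximalIdeal A • ⊤ : Submodule A N)) :
    Function.Injective u ∧ Module.Free A (M ⧸ LinearMap.range u) ∧
      ∀ (I : Ideal A) (z : N), u z ∈ (I • ⊤ : Submodule A M) → z ∈ (I • ⊤ : Submodule A N) := by
  classical
  have := free_of_flat_artinian (A := A) N
  let BN := Module.Free.chooseBasis A N
  have hli : LinearIndependent (ResidueField A) fun i => (1 : ResidueField A) ⊗ₜ[A] u (BN i) := by
    rw [linearIndependent_iff']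
    intro t g hg i hi
    choose c hc using fun i => residue_surjective (R := A) (g i)
    have h0 : (1 : ResidueField A) ⊗ₜ[A] u (∑ i ∈ t, c i • BN i) = 0 := by
      rw [map_sum, TensorProduct.tmul_sum, ← hg]
      refine Finset.sum_congr rfl fun i _ => ?_
      rw [map_smul, TensorProduct.tmul_smul, ← hc i, ← ResidueField.algebraMap_eq, algebraMap_smul]
    have h1 : ∑ i ∈ t, c i • BN i ∈ (maximalIdeal A • ⊤ : Submodule A N) := by
      apply h
      rw [← LinearMap.ker_tensorProductMk]
      exact h0
    have h2 := (mem_smul_top_iff_repr BN _ _).1 h1 i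
    simp only [map_sum, map_smul, Module.Basis.repr_self, Finsupp.coe_finset_sum, Finset.sum_apply,
      Finsupp.smul_single, smul_eq_mul, mul_one, Finsupp.single_apply] at h2
    rw [Finset.sum_ite_eq', if_pos hi] at h2
    rw [← hc i]
    exact (residue_eq_zero_iff _).2 h2
  let S0 := Set.range fun i => (1 : ResidueField A) ⊗ₜ[A] u (BN i)
  have hS0 : LinearIndepOn (ResidueField A) id S0 := hli.linearIndepOn_id
  let E := hS0.extend (Set.subset_univ S0)
  choose pre hpre using TensorProduct.mk_surjective A M (ResidueField A) Ideal.Quotient.mk_surjective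
  let bb : E → M := fun e => if hx : (e : ResidueField A ⊗[A] M) ∈ S0 then u (BN hx.choose) else pre e
  have hres : (fun e : E => (1 : ResidueField A) ⊗ₜ[A] bb e) = Subtype.val := by
    funext e
    simp only [bb]
    split_ifs with hx
    · exact hx.choose_spec
    · exact hpre _
  have hE : LinearIndepOn (ResidueField A) id E := hS0.linearIndepOn_extend _
  have hbli : LinearIndependent (ResidueField A) fun i => (1 : ResidueField A) ⊗ₜ[A] bb i := by
    rw [hres]; exact hE
  have hbsp : Submodule.span (ResidueField A) (Set.range fun i => (1 : ResidueField A) ⊗ₜ[A] bb i) = ⊤ := by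
    rw [hres, Subtype.range_coe_subtype, Set.setOf_mem_eq, eq_top_iff]
    intro x _
    exact hS0.subset_span_extend (Set.subset_univ _) (Set.mem_univ x)
  let BM := basisOfResidual bb hbli hbsp
  have hBM : ∀ i, BM i = bb i := fun i => Module.Basis.mk_apply _ _ i
  let p : M →ₗ[A] N := BM.constr A fun e => if hx : (e : ResidueField A ⊗[A] M) ∈ S0 then BN hx.choose else 0
  have hp : p ∘ₗ u = LinearMap.id := BN.ext fun i => by
    have hmem : (1 : ResidueField A) ⊗ₜ[A] u (BN i) ∈ S0 := ⟨i, rfl⟩
    let e : E := ⟨_, hS0.subset_extend (Set.subset_univ _) hmem⟩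
    have hch : hmem.choose = i := hli.injective hmem.choose_spec
    have he : BM e = u (BN i) := by
      rw [hBM]; simp only [bb, e]; rw [dif_pos hmem, hch]
    simp only [LinearMap.comp_apply, LinearMap.id_apply]
    rw [← he, Module.Basis.constr_basis]
    simp only [e]
    rw [dif_pos hmem, hch]
  refine ⟨Function.LeftInverse.injective (g := p) fun x => LinearMap.congr_fun hp x, ?_, fun I z hz => ?_⟩
  · have : Module.Flat A (M ⧸ LinearMap.range u) := by
      refine Module.Flat.of_retract ((LinearMap.range u).liftQ (LinearMap.id - u ∘ₗ p) ?_) (LinearMap.range u).mkQ ?_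
      · rintro _ ⟨x, rfl⟩
        have := LinearMap.congr_fun hp x
        simp only [LinearMap.comp_apply, LinearMap.id_apply] at this
        simp [this]
      · refine Submodule.linearMap_qext _ (LinearMap.ext fun x => ?_)
        simp only [LinearMap.comp_apply, Submodule.mkQ_apply, Submodule.liftQ_apply, LinearMap.id_apply, LinearMap.sub_apply]
        rw [Submodule.Quotient.eq]
        exact ⟨-(p x), by simp⟩
    exact free_of_flat_artinian _
  · have := Submodule.mem_map_of_mem (f := p) hz
    rw [Submodule.map_smul'', show p (u z) = z from LinearMap.congr_fun hp z] at this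
    exact Submodule.smul_mono le_rfl le_top this

end Groth.Agent.CAlgH3
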