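import Groth.Agent.CAlgH.CompleteLocal
import Mathlib.RingTheory.Ideal.Cotangent

/-! Maps of complete local rings. -/

universe u

open IsLocalRing

namespace Groth.Agent.CAlgH3

/-- A map of complete local rings, surjective on residue fields and with `m_S ≤ m_R S + m_S²`, is surjective. -/
theorem surjective_of_maximalIdeal_le {R S : Type u} [CommRing R] [CommRing S] [IsLocalRing R] [IsLocalRing S]
    [IsNoetherianRing S] [IsAdicComplete (maximalIdeal R) R] (φ : R →+* S)
    (hφ : (maximalIdeal R).map φ ≤ maximalIdeal S)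
    (hres : Function.Surjective ((residue S).comp φ))
    (h : maximalIdeal S ≤ (maximalIdeal R).map φ ⊔ maximalIdeal S ^ 2) : Function.Surjective φ := by
  have hm : maximalIdeal S ≤ (maximalIdeal R).map φ := by
    refine Submodule.le_of_le_smul_of_le_jacobson_bot (IsNoetherian.noetherian (maximalIdeal S))
      (maximalIdeal_le_jacobson _) ?_
    rwa [smul_eq_mul, ← pow_two]
  letI := φ.toAlgebra
  have hH : IsHausdorff (maximalIdeal R) S := by
    rw [← IsHausdorff.map_algebraMap_iff (S := S)]
    exact ⟨fun x hx => IsHausdorff.haus (I := maximalIdeal S) inferInstance x fun n => by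
      have h1 := hx n
      rw [SModEq.zero, smul_eq_mul, Ideal.mul_top] at h1 ⊢
      exact Ideal.pow_right_mono hφ n h1⟩
  refine Groth.Agent.AdicRing.surjective_of_sup_smul_top (I := maximalIdeal R) (Algebra.linearMap R S) ?_
  rw [eq_top_iff]
  rintro y -
  obtain ⟨c, hc⟩ := hres (residue S y)
  rw [Submodule.mem_sup]
  refine ⟨algebraMap R S c, ⟨_, rfl⟩, y - algebraMap R S c, ?_, add_sub_cancel _ _⟩
  rw [Ideal.smul_top_eq_map, Submodule.restrictScalars_mem]
  exact hm (Ideal.Quotient.eq.1 hc.symm)

theorem residue_surjective_comp {k R : Type u} [CommRing k] [CommRing R] [IsLocalRing R] [Algebra k R]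
    (hR : Function.Surjective ((residue R).comp (algebraMap k R))) {A : Type u} [CommRing A] [Algebra k A]
    (ψ : A →ₐ[k] R) : Function.Surjective ((residue R).comp ψ.toRingHom) := by
  intro y
  obtain ⟨c, hc⟩ := hR y
  exact ⟨algebraMap k A c, by rw [← hc]; simp⟩

theorem exists_eq_sum_X {k : Type u} [Field k] {d : ℕ} (z : MvPowerSeries (Fin d) k) (hz : ¬ IsUnit z) :
    ∃ c : Fin d → MvPowerSeries (Fin d) k, ∑ i, c i * MvPowerSeries.X i = z := by
  have h0 : MvPowerSeries.constantCoeff z = 0 := by
    by_contra hne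
    exact hz (MvPowerSeries.isUnit_iff_constantCoeff.2 (isUnit_iff_ne_zero.2 hne))
  classical
  let c : Fin d → MvPowerSeries (Fin d) k := fun i e =>
    if ∀ j < i, e j = 0 then MvPowerSeries.coeff (e + Finsupp.single i 1) z else 0
  refine ⟨c, MvPowerSeries.ext fun e => ?_⟩
  have hterm : ∀ i, MvPowerSeries.coeff e (c i * MvPowerSeries.X i) =
      if Finsupp.single i 1 ≤ e then MvPowerSeries.coeff (e - Finsupp.single i 1) (c i) else 0 := fun i => by
    rw [MvPowerSeries.X_def, MvPowerSeries.coeff_mul_monomial, mul_one]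
  rw [map_sum]
  simp only [hterm]
  by_cases he : e = 0
  · subst he
    rw [Finset.sum_eq_zero fun i _ => if_neg fun hle => by simpa using hle i,
      MvPowerSeries.coeff_zero_eq_constantCoeff_apply, h0]
  have hex : ∃ i, e i ≠ 0 := by
    by_contra! hall
    exact he (Finsupp.ext hall)
  let S := Finset.univ.filter fun i => e i ≠ 0
  have hS : S.Nonempty := hex.elim fun i hi => ⟨i, by simp [S, hi]⟩
  set i₀ := S.min' hS with hi₀
  have hi : e i₀ ≠ 0 := (Finset.mem_filter.1 (S.min'_mem hS)).2
  have hlow : ∀ j < i₀, e j = 0 := fun j hj => by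
    by_contra hne
    exact not_lt.2 (S.min'_le j (by simp [S, hne])) hj
  have hle : Finsupp.single i₀ 1 ≤ e := Finsupp.single_le_iff.2 (Nat.one_le_iff_ne_zero.2 hi)
  rw [Finset.sum_eq_single i₀]
  · rw [if_pos hle]
    change (if ∀ j < i₀, (e - Finsupp.single i₀ 1 : Fin d →₀ ℕ) j = 0 then
      MvPowerSeries.coeff (e - Finsupp.single i₀ 1 + Finsupp.single i₀ 1) z else 0) = _
    rw [if_pos fun j hj => by simp [hlow j hj], tsub_add_cancel_of_le hle]
  · intro j _ hj
    split_ifs with h1
    · change (if ∀ l < j, (e - Finsupp.single j 1 : Fin d →₀ ℕ) l = 0 then _ else 0) = 0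
      refine if_neg fun hall => ?_
      have h2 : i₀ < j := by
        rcases lt_trichotomy i₀ j with h | h | h
        · exact h
        · exact absurd h.symm hj
        · exact absurd (Finsupp.single_le_iff.1 h1) (by simp [hlow j h])
      have h3 := hall i₀ h2
      rw [Finsupp.tsub_apply, Finsupp.single_eq_of_ne h2.ne] at h3
      exact hi (by simpa using h3)
    · rfl
  · exact fun h => absurd (Finset.mem_univ _) h

/-- The variables generate the maximal ideal. -/
theorem maximalIdeal_mvPowerSeries_eq {k : Type u} [Field k] {d : ℕ} :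
    maximalIdeal (MvPowerSeries (Fin d) k) = Ideal.span (Set.range MvPowerSeries.X) := by
  refine le_antisymm (fun z hz => ?_) (Ideal.span_le.2 ?_)
  · exact Ideal.mem_span_range_iff_exists_fun.2 (exists_eq_sum_X z hz)
  · rintro _ ⟨i, rfl⟩ hu
    rw [MvPowerSeries.isUnit_iff_constantCoeff, MvPowerSeries.constantCoeff_X] at hu
    exact not_isUnit_zero hu

end Groth.Agent.CAlgH3
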