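import Groth.Agent.CAlgH3.CMRing
import Groth.Agent.FlatCrit.Tor
import Mathlib.RingTheory.TensorProduct.Quotient

/-! Miracle flatness. -/

universe u

open IsLocalRing TensorProduct Function
open scoped Pointwise

namespace Groth.Agent.CAlgH3

/-- The fibre of `R/I → S/IS` is the fibre of `R → S`. -/
noncomputable def fibreQuotientEquiv {R S : Type u} [CommRing R] [CommRing S] [Algebra R S] (I J : Ideal R) (h : I ≤ J) :
    ((S ⧸ I.map (algebraMap R S)) ⧸ (J.map (Ideal.Quotient.mk I)).map (algebraMap (R ⧸ I) (S ⧸ I.map (algebraMap R S))))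
      ≃+* S ⧸ J.map (algebraMap R S) :=
  (Ideal.quotEquivOfEq (by rw [Ideal.map_map, Ideal.map_map]; rfl)).trans
    (DoubleQuot.quotQuotEquivQuotOfLE (Ideal.map_mono (f := algebraMap R S) h))

theorem flat_of_dim_eq : ∀ (d : ℕ) (R : Type u) [CommRing R] [IsRegularLocalRing R],
    (maximalIdeal R).spanFinrank = d → ∀ (S : Type u) [CommRing S] [_root_.LocCoh.IsCohenMacaulayLocalRing S]
      [Algebra R S] [IsLocalHom (algebraMap R S)],
      ringKrullDim S = ringKrullDim R + ringKrullDim (S ⧸ (maximalIdeal R).map (algebraMap R S)) →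
      Module.Flat R S := by
  intro d
  induction d with
  | zero =>
    intro R _ _ hd S _ _ _ _ _
    have hm : maximalIdeal R = ⊥ :=
      (Submodule.spanFinrank_eq_zero_iff_eq_bot (IsNoetherian.noetherian (maximalIdeal R))).1 hd
    let := (IsLocalRing.isField_iff_maximalIdeal_eq.2 hm).toField
    infer_instance
  | succ d ih =>
    intro R _ _ hd S _ _ _ _ hdim
    classical
    have hm : maximalIdeal R ≠ ⊥ := fun h => by rw [h] at hd; simp at hd
    obtain ⟨x, hxm, hx2⟩ : ∃ x ∈ maximalIdeal R, x ∉ maximalIdeal R ^ 2 := by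
      by_contra! hcon
      refine hm (Submodule.eq_bot_of_le_smul_of_le_jacobson_bot (maximalIdeal R) (maximalIdeal R)
        (IsNoetherian.noetherian _) ?_ (maximalIdeal_le_jacobson _))
      rw [smul_eq_mul, ← pow_two]; exact fun y hy => hcon y hy
    let y := algebraMap R S x
    have hym : y ∈ maximalIdeal S := by
      rw [mem_maximalIdeal, mem_nonunits_iff]; exact fun hu => hxm (hu.of_map (algebraMap R S) x)
    obtain ⟨hq, -⟩ := regular_quotient_of_notMem_sq hxm hx2
    have hd' : (maximalIdeal (R ⧸ Ideal.span {x})).spanFinrank = d := by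
      have := spanFinrank_quotient_add_one hxm hx2; omega
    let I := Ideal.span {x}
    have hmapI : I.map (algebraMap R S) = Ideal.span {y} := by rw [Ideal.map_span, Set.image_singleton]
    let S' := S ⧸ I.map (algebraMap R S)
    have : IsLocalRing S' := isLocalRing_quotient (hmapI ▸ span_singleton_le_maximal hym)
    -- the fibre does not change
    have hmap : (maximalIdeal R).map (Ideal.Quotient.mk I) = maximalIdeal (R ⧸ I) :=
      IsLocalRing.map_maximalIdeal_of_surjective _ Ideal.Quotient.mk_surjective
    have hfib : ringKrullDim (S' ⧸ (maximalIdeal (R ⧸ I)).map (algebraMap (R ⧸ I) S')) =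
        ringKrullDim (S ⧸ (maximalIdeal R).map (algebraMap R S)) := by
      rw [← hmap]
      exact ringKrullDim_eq_of_ringEquiv (fibreQuotientEquiv I (maximalIdeal R) (span_singleton_le_maximal hxm))
    have hRdim : ringKrullDim R = ((d + 1 : ℕ) : WithBot ℕ∞) := by
      rw [← IsRegularLocalRing.spanFinrank_maximalIdeal, hd]
    have hR'dim : ringKrullDim (R ⧸ I) = (d : WithBot ℕ∞) := by
      rw [← IsRegularLocalRing.spanFinrank_maximalIdeal, hd']
    have : IsLocalHom (algebraMap (R ⧸ I) S') := by
      constructor
      intro a ha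
      obtain ⟨a, rfl⟩ := Ideal.Quotient.mk_surjective a
      have hsurj : IsLocalHom (Ideal.Quotient.mk (I.map (algebraMap R S))) :=
        IsLocalHom.of_surjective _ Ideal.Quotient.mk_surjective
      exact ((hsurj.map_nonunit (algebraMap R S a) ha).of_map (algebraMap R S) a).map _
    -- upper bound `dim S' ≤ d + dim fibre`
    have hle : ringKrullDim S' ≤ ringKrullDim (S ⧸ (maximalIdeal R).map (algebraMap R S)) + (d : WithBot ℕ∞) := by
      have hmne : (maximalIdeal (R ⧸ I)).map (algebraMap (R ⧸ I) S') ≠ ⊤ := fun h =>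
        (maximalIdeal.isMaximal S').ne_top (top_le_iff.1 (h ▸ Ideal.map_le_iff_le_comap.2 (fun a ha => map_nonunit _ a ha)))
      refine (ringKrullDim_le_ringKrullDim_quotient_add_spanFinrank _ ?_).trans (add_le_add hfib.le ?_)
      · rw [IsLocalRing.ringJacobson_eq_maximalIdeal]; exact le_maximalIdeal hmne
      · obtain ⟨s, hs1, hs2⟩ := (IsNoetherian.noetherian (maximalIdeal (R ⧸ I))).exists_span_finset_card_eq_spanFinrank
        refine Nat.cast_le.2 ?_
        have e : (maximalIdeal (R ⧸ I)).map (algebraMap (R ⧸ I) S') = Ideal.span ((algebraMap (R ⧸ I) S') '' ↑s) :=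
          Eq.trans (congrArg (Ideal.map (algebraMap (R ⧸ I) S')) hs2.symm) (Ideal.map_span _ _)
        rw [← hd', ← hs1, e]
        refine (Submodule.spanFinrank_span_le_ncard_of_finite ((Finset.finite_toSet _).image _)).trans ?_
        exact (Set.ncard_image_le (Finset.finite_toSet _)).trans (le_of_eq (Set.ncard_coe_finset _))
    have hSS' : ringKrullDim S ≤ ringKrullDim S' + 1 := by
      refine (ringKrullDim_le_ringKrullDim_quotient_add_encard {y} ?_).trans ?_
      · rw [Set.singleton_subset_iff, IsLocalRing.ringJacobson_eq_maximalIdeal]; exact hym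
      · rw [Set.encard_singleton, ringKrullDim_eq_of_ringEquiv (Ideal.quotEquivOfEq hmapI.symm)]
        rfl
    have hS' : ringKrullDim S' + 1 ≤ ringKrullDim S := by
      refine (add_le_add hle le_rfl).trans ?_
      rw [hdim, hRdim, add_assoc, add_comm (ringKrullDim (S ⧸ (maximalIdeal R).map (algebraMap R S))),
        Nat.cast_add, Nat.cast_one]
    have hreg : IsSMulRegular S y := by
      refine isSMulRegular_of_supportDim_quot ((isCohenMacaulayLocalRing_iff S).1 inferInstance) ?_
      rw [Module.supportDim_eq_of_equiv (quotSMulTopSelf y), Module.supportDim_quotient_eq_ringKrullDim,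
        Module.supportDim_self_eq_ringKrullDim, ringKrullDim_eq_of_ringEquiv (Ideal.quotEquivOfEq hmapI.symm)]
      exact hS'
    have : _root_.LocCoh.IsCohenMacaulayLocalRing S' := by
      have : IsLocalRing (S ⧸ Ideal.span {y}) := isLocalRing_quotient (span_singleton_le_maximal hym)
      have := (isCohenMacaulayLocalRing_quotient_span_iff hym hreg).2 inferInstance
      exact isCohenMacaulayLocalRing_of_ringEquiv (Ideal.quotEquivOfEq hmapI.symm)
    have hflat := ih (R ⧸ I) hd' S' (by
      refine withBot_add_one_cancel ?_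
      rw [le_antisymm hS' hSS', hdim, hfib, hRdim, hR'dim, Nat.cast_add, Nat.cast_one, add_right_comm])
    refine FlatCrit.flat_of_rTensor_injective (S := S) I ?_ ?_ (FlatCrit.quotFlat_of_flat I ?_)
    · rw [IsLocalRing.jacobson_eq_maximalIdeal ⊥ bot_ne_top, hmapI]
      exact span_singleton_le_maximal hym
    · have hx := isSMulRegular_of_notMem_sq hx2
      let g : R →ₗ[R] I := (LinearMap.toSpanSingleton R R x).codRestrict I fun r =>
        Ideal.mul_mem_left _ r (Ideal.mem_span_singleton_self x)
      have hg : Surjective g := by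
        rintro ⟨z, hz⟩
        obtain ⟨a, rfl⟩ := Ideal.mem_span_singleton'.1 hz
        exact ⟨a, rfl⟩
      rw [injective_iff_map_eq_zero]
      intro z hz
      obtain ⟨w, rfl⟩ := LinearMap.rTensor_surjective S hg z
      obtain ⟨s, rfl⟩ := (TensorProduct.lid R S).symm.surjective w
      have h0 : algebraMap R S x * s = 0 := by
        have := congrArg (TensorProduct.lid R S) hz
        have hg1 : ((g 1 : I) : R) = x := one_mul x
        simpa [hg1, Algebra.smul_def, -LinearMap.codRestrict_apply] using this
      have : s = 0 := hreg.right_eq_zero_of_smul h0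
      simp [this]
    · exact Module.Flat.of_linearEquiv ((Algebra.TensorProduct.quotIdealMapEquivQuotTensor S I).toLinearEquiv).symm

end Groth.Agent.CAlgH3
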