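import Groth.Agent.CAlgH3.CMRing
import Mathlib.RingTheory.KrullDimension.Regular

/-! Systems of parameters in Cohen–Macaulay local rings are regular sequences (in any order). -/

universe u

open IsLocalRing

namespace Groth.Agent.CAlgH3

local notation "CMLocal" => _root_.LocCoh.IsCohenMacaulayLocalRing
local notation "CM" => _root_.LocCoh.IsCohenMacaulayModule

variable {R : Type u} [CommRing R]

/-- `(R/I)/x(R/I) = R/(I + (x))`. -/
noncomputable def quotSMulTopQuotient (I : Ideal R) (x : R) :
    QuotSMulTop x (R ⧸ I) ≃ₗ[R] R ⧸ (I ⊔ Ideal.span {x}) :=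
  (Submodule.quotEquivOfEq _ (Submodule.map I.mkQ (I ⊔ Ideal.span {x})) (by
    ext y
    obtain ⟨y, rfl⟩ := Submodule.mkQ_surjective I y
    rw [Submodule.mem_smul_pointwise_iff_exists]
    constructor
    · rintro ⟨z, -, hz⟩
      obtain ⟨z, rfl⟩ := Submodule.mkQ_surjective I z
      exact ⟨x * z, Ideal.mem_sup_right (Ideal.mem_span_singleton.2 (dvd_mul_right x z)), hz⟩
    · rintro ⟨w, hw, hwy⟩
      obtain ⟨a, ha, b, hb, rfl⟩ := Submodule.mem_sup.1 hw
      obtain ⟨c, rfl⟩ := Ideal.mem_span_singleton.1 hb
      refine ⟨I.mkQ c, trivial, ?_⟩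
      rw [← hwy, map_add, Submodule.mkQ_apply I a, (Submodule.Quotient.mk_eq_zero I).2 ha, zero_add,
        ← smul_eq_mul, map_smul])).trans
    (Submodule.quotientQuotientEquivQuotient I (I ⊔ Ideal.span {x}) le_sup_left)

/-- In a Cohen–Macaulay local ring of dimension `n`, given `n` elements generating an ideal of
dimension zero, each of them is regular modulo any subset of the others. -/
theorem isSMulRegular_of_isSystemOfParameters [CMLocal R] {ι : Type*} [Fintype ι] [DecidableEq ι]
    (g : ι → R) (hg : ∀ i, g i ∈ maximalIdeal R) (hn : ringKrullDim R = Fintype.card ι)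
    (hdim : ringKrullDim (R ⧸ Ideal.span (Set.range g)) = 0) (s : Finset ι) (j : ι) (hj : j ∉ s) :
    IsSMulRegular (R ⧸ Ideal.span (g '' s)) (g j) := by
  classical
  let d : Finset ι → WithBot ℕ∞ := fun s => Module.supportDim R (R ⧸ Ideal.span (g '' (s : Set ι)))
  have e : ∀ (s : Finset ι) (i : ι),
      Nonempty (QuotSMulTop (g i) (R ⧸ Ideal.span (g '' (s : Set ι))) ≃ₗ[R] R ⧸ Ideal.span (g '' (insert i s : Finset ι))) :=
    fun s i => ⟨(quotSMulTopQuotient _ _).trans (Submodule.quotEquivOfEq _ _ (by
      rw [Finset.coe_insert, Set.image_insert_eq, Ideal.span_insert, sup_comm]))⟩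
  have step : ∀ (s : Finset ι) (i : ι), d s ≤ d (insert i s) + 1 := fun s i => by
    obtain ⟨e⟩ := e s i
    change _ ≤ Module.supportDim R (R ⧸ Ideal.span (g '' (insert i s : Finset ι))) + 1
    rw [← Module.supportDim_eq_of_equiv e]
    refine Module.supportDim_le_supportDim_quotSMulTop_succ_of_mem_jacobson ?_
    exact (maximalIdeal_le_jacobson _) (hg i)
  have tel : ∀ (u t : Finset ι), d t ≤ d (t ∪ u) + (u.card : ℕ) := by
    intro u
    induction u using Finset.induction with
    | empty => simp
    | insert a u ha ih =>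
      intro t
      refine (ih t).trans ((add_le_add (step (t ∪ u) a) le_rfl).trans ?_)
      rw [Finset.card_insert_of_notMem ha, Finset.union_insert, Nat.cast_add, Nat.cast_one, add_assoc, add_comm (1 : WithBot ℕ∞)]
  have hempty : d ∅ = (Fintype.card ι : ℕ) := by
    change Module.supportDim R _ = _
    rw [Module.supportDim_quotient_eq_ringKrullDim, Finset.coe_empty, Set.image_empty, Ideal.span_empty,
      ringKrullDim_eq_of_ringEquiv (RingEquiv.quotientBot R), hn]
  have huniv : d Finset.univ = 0 := by
    change Module.supportDim R _ = _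
    rw [Module.supportDim_quotient_eq_ringKrullDim, Finset.coe_univ, Set.image_univ, hdim]
  have heq : ∀ t : Finset ι, d t = ((Fintype.card ι - t.card : ℕ) : WithBot ℕ∞) := by
    intro t
    have hu : d t ≤ ((Fintype.card ι - t.card : ℕ) : WithBot ℕ∞) := by
      have := tel tᶜ t
      rwa [Finset.union_compl, huniv, zero_add, Finset.card_compl] at this
    refine le_antisymm hu ?_
    have hl := tel t ∅
    rw [Finset.empty_union, hempty] at hl
    revert hu hl
    generalize d t = a
    intro hu hl
    induction a using WithBot.recBotCoe with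
    | bot => simp at hl
    | coe a =>
      obtain ⟨b, rfl⟩ := ENat.ne_top_iff_exists.1 (ne_top_of_le_ne_top (ENat.natCast_ne_top _)
        (WithBot.coe_le_coe.1 hu))
      change ((Fintype.card ι : ℕ) : WithBot ℕ∞) ≤ ((b : ℕ) : WithBot ℕ∞) + ((t.card : ℕ) : WithBot ℕ∞) at hl
      change ((Fintype.card ι - t.card : ℕ) : WithBot ℕ∞) ≤ ((b : ℕ) : WithBot ℕ∞)
      rw [← Nat.cast_add, Nat.cast_le] at hl
      rw [Nat.cast_le]
      omega
  have main : ∀ s : Finset ι, CM R (R ⧸ Ideal.span (g '' (s : Set ι))) ∧
      ∀ i, i ∉ s → IsSMulRegular (R ⧸ Ideal.span (g '' (s : Set ι))) (g i) := by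
    intro s
    have reg : ∀ s : Finset ι, CM R (R ⧸ Ideal.span (g '' (s : Set ι))) →
        ∀ i, i ∉ s → IsSMulRegular (R ⧸ Ideal.span (g '' (s : Set ι))) (g i) := by
      intro s h i hi
      refine isSMulRegular_of_supportDim_quot h ?_
      obtain ⟨e⟩ := e s i
      rw [Module.supportDim_eq_of_equiv e]
      change d (insert i s) + 1 ≤ d s
      rw [heq, heq, Finset.card_insert_of_notMem hi]
      have := s.card_lt_iff_ne_univ.2 (fun h => hi (h ▸ Finset.mem_univ i))
      norm_cast
      omega
    suffices h : CM R (R ⧸ Ideal.span (g '' (s : Set ι))) from ⟨h, reg s h⟩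
    induction s using Finset.induction with
    | empty =>
      rw [Finset.coe_empty, Set.image_empty, Ideal.span_empty]
      exact (isCohenMacaulayModule_congr (Submodule.quotEquivOfEqBot ⊥ rfl)).2 ((isCohenMacaulayLocalRing_iff R).1 ‹_›)
    | insert a s ha ih =>
      obtain ⟨e⟩ := e s a
      exact (isCohenMacaulayModule_congr e).1 ((isCohenMacaulayModule_quotSMulTop_iff (hg a) (reg s ih a ha)).2 ih)
  exact (main s).2 j hj

end Groth.Agent.CAlgH3
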