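import Groth.Agent.CAlgH3.RegularCore
import Mathlib.RingTheory.LocalRing.Module
import Mathlib.Algebra.Category.ModuleCat.Projective
import Mathlib.Algebra.Category.ModuleCat.EnoughInjectives
import Mathlib.CategoryTheory.Abelian.Injective.Dimension
import Mathlib.CategoryTheory.Abelian.Projective.Dimension
import Mathlib.Algebra.Module.Injective

/-! Projective dimension: maximal Cohen–Macaulay modules over regular local rings are free, regular
local rings have global dimension `dim R`, Auslander–Buchsbaum. -/

universe u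

open IsLocalRing CategoryTheory Abelian RingTheory.Sequence
open scoped Pointwise

namespace Groth.Agent.CAlgH3

variable {R : Type u} [CommRing R]

/-- `pd M < n`. -/
abbrev PD (R : Type u) [CommRing R] (n : ℕ) (M : Type u) [AddCommGroup M] [Module R M] : Prop :=
  HasProjectiveDimensionLT (ModuleCat.of R M) n

section basic

variable {M : Type u} [AddCommGroup M] [Module R M]

theorem pd_mono {m n : ℕ} (h : m ≤ n) (hM : PD R m M) : PD R n M :=
  hasProjectiveDimensionLT_of_ge _ m n h

theorem pd_one_iff : PD R 1 M ↔ Module.Projective R M := by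
  rw [PD, ← projective_iff_hasProjectiveDimensionLT_one, ← IsProjective.iff_projective]

theorem pd_zero_iff : PD R 0 M ↔ Subsingleton M := by
  rw [PD, hasProjectiveDimensionLT_zero_iff_isZero, ModuleCat.isZero_iff_subsingleton]

theorem pd_congr {n : ℕ} {N : Type u} [AddCommGroup N] [Module R N] (e : M ≃ₗ[R] N) :
    PD R n M ↔ PD R n N :=
  ⟨fun h => have := h; hasProjectiveDimensionLT_of_iso e.toModuleIso n,
    fun h => have := h; hasProjectiveDimensionLT_of_iso e.symm.toModuleIso n⟩

theorem pd_retract {n : ℕ} {N : Type u} [AddCommGroup N] [Module R N] (i : M →ₗ[R] N) (p : N →ₗ[R] M)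
    (h : p ∘ₗ i = LinearMap.id) (hN : PD R n N) : PD R n M :=
  (Retract.mk (X := ModuleCat.of R M) (Y := ModuleCat.of R N) (ModuleCat.ofHom i)
    (ModuleCat.ofHom p) (by rw [← ModuleCat.ofHom_comp, h]; rfl)).hasProjectiveDimensionLT n

theorem pd_ker_iff {F : Type u} [AddCommGroup F] [Module R F] [Module.Projective R F] {f : F →ₗ[R] M}
    (hf : Function.Surjective f) (n : ℕ) : PD R (n + 2) M ↔ PD R (n + 1) (LinearMap.ker f) :=
  (LinearMap.shortExact_shortComplexKer hf).hasProjectiveDimensionLT_X₃_iff n inferInstance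

theorem pd_of_ses {n : ℕ} {N P : Type u} [AddCommGroup N] [Module R N] [AddCommGroup P] [Module R P]
    (f : M →ₗ[R] N) (g : N →ₗ[R] P) (hf : Function.Injective f) (hg : Function.Surjective g)
    (hfg : Function.Exact f g) :
    (PD R n M → PD R n P → PD R n N) ∧ (PD R n N → PD R (n + 1) P → PD R n M) ∧
      (PD R n M → PD R (n + 1) N → PD R (n + 1) P) :=
  have hS := LocCoh.shortExact_of hf hg hfg
  ⟨hS.hasProjectiveDimensionLT_X₂ n, hS.hasProjectiveDimensionLT_X₁ n, hS.hasProjectiveDimensionLT_X₃ n⟩

end basic

section presentation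

variable [IsLocalRing R] (M : Type u) [AddCommGroup M] [Module R M] [Module.Finite R M]

/-- Minimal presentations. -/
theorem exists_minimal_presentation :
    ∃ (n : ℕ) (f : (Fin n → R) →ₗ[R] M), Function.Surjective f ∧
      LinearMap.ker f ≤ maximalIdeal R • (⊤ : Submodule R (Fin n → R)) := by
  classical
  have hex : ∃ n, ∃ v : Fin n → M, Submodule.span R (Set.range v) = ⊤ := Module.Finite.exists_fin
  obtain ⟨v, hv⟩ := Nat.find_spec hex
  refine ⟨Nat.find hex, Fintype.linearCombination R v, ?_, ?_⟩
  · rw [← LinearMap.range_eq_top, Fintype.range_linearCombination, hv]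
  intro c hc
  rw [← (Pi.basisFun R (Fin (Nat.find hex))).sum_repr c]
  refine Submodule.sum_mem _ fun j _ => Submodule.smul_mem_smul ?_ trivial
  rw [Pi.basisFun_repr, mem_maximalIdeal, mem_nonunits_iff]
  intro hu
  obtain ⟨u, hu⟩ := hu
  have hj : v j ∈ Submodule.span R (v '' {j}ᶜ) := by
    rw [LinearMap.mem_ker, Fintype.linearCombination_apply, ← Finset.add_sum_erase _ _ (Finset.mem_univ j), ← hu] at hc
    have h : v j = (↑u⁻¹ : R) • -∑ i ∈ Finset.univ.erase j, c i • v i := by
      rw [← eq_neg_of_add_eq_zero_left hc, smul_smul, u.inv_mul, one_smul]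
    rw [h]
    refine Submodule.smul_mem _ _ (neg_mem (Submodule.sum_mem _ fun i hi => Submodule.smul_mem _ _ ?_))
    exact Submodule.subset_span ⟨i, Finset.ne_of_mem_erase hi, rfl⟩
  have hspan : Submodule.span R (v '' {j}ᶜ) = ⊤ := by
    refine eq_top_iff.2 (hv.ge.trans (Submodule.span_le.2 ?_))
    rintro _ ⟨i, rfl⟩
    by_cases hi : i = j
    · subst hi; exact hj
    · exact Submodule.subset_span ⟨i, hi, rfl⟩
  obtain ⟨m, hm⟩ : ∃ m, m + 1 = Nat.find hex := ⟨Nat.find hex - 1, by have := j.pos; omega⟩
  refine Nat.find_min hex (m := m) (by omega) ⟨fun i => v (Fin.cast hm ((Fin.cast hm.symm j).succAbove i)), ?_⟩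
  refine Eq.trans ?_ hspan
  congr 1
  ext x
  simp only [Set.mem_range, Set.mem_image, Set.mem_compl_iff, Set.mem_singleton_iff]
  constructor
  · rintro ⟨i, rfl⟩
    refine ⟨_, fun h => ?_, rfl⟩
    exact Fin.succAbove_ne (Fin.cast hm.symm j) i (Fin.ext (by simpa [Fin.ext_iff] using h))
  · rintro ⟨i, hi, rfl⟩
    obtain ⟨i', hi'⟩ := Fin.exists_succAbove_eq (x := Fin.cast hm.symm i) (y := Fin.cast hm.symm j)
      (fun h => hi (Fin.ext (by simpa [Fin.ext_iff] using h)))
    exact ⟨i', by rw [hi']; rfl⟩

end presentation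

section regular

theorem free_of_le_depth :
    ∀ (d : ℕ) (R : Type u) [CommRing R] [IsRegularLocalRing R], (maximalIdeal R).spanFinrank = d →
      ∀ (M : Type u) [AddCommGroup M] [Module R M] [Module.Finite R M],
        (d : ℕ∞) ≤ _root_.LocCoh.depth R M → Module.Free R M := by
  intro d
  induction d with
  | zero =>
    intro R _ _ hd M _ _ _ _
    have hm : maximalIdeal R = ⊥ :=
      (Submodule.spanFinrank_eq_zero_iff_eq_bot (IsNoetherian.noetherian (maximalIdeal R))).1 hd
    let := (IsLocalRing.isField_iff_maximalIdeal_eq.2 hm).toField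
    infer_instance
  | succ d ih =>
    intro R _ _ hd M _ _ _ hdepth
    classical
    by_cases hM : Subsingleton M
    · exact Module.Free.of_subsingleton R M
    rw [not_subsingleton_iff_nontrivial] at hM
    have h1 : 1 ≤ _root_.LocCoh.depth R M := le_trans (by exact_mod_cast Nat.succ_pos d) hdepth
    have hmass := one_le_depth_iff.1 h1
    obtain ⟨x, hxm, hx2, hreg⟩ : ∃ x ∈ maximalIdeal R, x ∉ maximalIdeal R ^ 2 ∧ IsSMulRegular M x := by
      by_contra! hcon
      let T := insert (maximalIdeal R ^ 2) (associatedPrimes.finite R M).toFinset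
      have hsub : (maximalIdeal R : Set R) ⊆ ⋃ i ∈ (↑T : Set (Ideal R)), ((id i : Ideal R) : Set R) := by
        intro y hy
        simp only [Set.mem_iUnion, id_eq, SetLike.mem_coe, exists_prop]
        by_cases hy2 : y ∈ maximalIdeal R ^ 2
        · exact ⟨_, Finset.mem_insert_self _ _, hy2⟩
        · have hnot := hcon y hy hy2
          rw [isSMulRegular_iff_right_eq_zero_of_smul] at hnot
          push Not at hnot
          obtain ⟨m, hm1, hm2⟩ := hnot
          have : y ∈ ⋃ q ∈ associatedPrimes R M, (q : Set R) := by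
            rw [biUnion_associatedPrimes_eq_zero_divisors]; exact ⟨m, hm2, hm1⟩
          simp only [Set.mem_iUnion, SetLike.mem_coe] at this
          obtain ⟨q, hq, hyq⟩ := this
          exact ⟨q, Finset.mem_insert_of_mem ((associatedPrimes.finite R M).mem_toFinset.2 hq), hyq⟩
      obtain ⟨i, hi, hmi⟩ := (Ideal.subset_union_prime (maximalIdeal R ^ 2) (maximalIdeal R ^ 2) (fun i hi hne _ =>
        IsAssociatedPrime.isPrime ((associatedPrimes.finite R M).mem_toFinset.1 ((Finset.mem_insert.1 hi).resolve_left hne)))).1 hsub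
      rcases Finset.mem_insert.1 hi with rfl | hi
      · have hb : maximalIdeal R = ⊥ := by
          refine Submodule.eq_bot_of_le_smul_of_le_jacobson_bot (maximalIdeal R) (maximalIdeal R)
            (IsNoetherian.noetherian _) ?_ (maximalIdeal_le_jacobson _)
          rw [smul_eq_mul, ← pow_two]; exact hmi
        rw [hb] at hd
        simp at hd
      · have hq := (associatedPrimes.finite R M).mem_toFinset.1 hi
        exact hmass ((maximalIdeal.isMaximal R).eq_of_le (IsAssociatedPrime.isPrime hq).ne_top hmi ▸ hq)
    obtain ⟨hq, -⟩ := regular_quotient_of_notMem_sq hxm hx2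
    have hd' : (maximalIdeal (R ⧸ Ideal.span {x})).spanFinrank = d := by
      have := spanFinrank_quotient_add_one hxm hx2
      omega
    have hkill : Module.IsTorsionBySet R (QuotSMulTop x M) (Ideal.span {x} : Set R) := by
      intro m r
      obtain ⟨a, ha⟩ := Ideal.mem_span_singleton'.1 r.2
      rw [← ha, mul_smul, Module.mem_annihilator.1 (QuotSMulTop.mem_annihilator M x) m, smul_zero]
    let := hkill.module
    have : IsScalarTower R (R ⧸ Ideal.span {x}) (QuotSMulTop x M) := hkill.isScalarTower
    have : Module.Finite (R ⧸ Ideal.span {x}) (QuotSMulTop x M) := Module.Finite.of_restrictScalars_finite R _ _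
    have hdepth' : (d : ℕ∞) ≤ _root_.LocCoh.depth (R ⧸ Ideal.span {x}) (QuotSMulTop x M) := by
      rw [depth_of_surjective (R := R) Ideal.Quotient.mk_surjective]
      rw [← depth_quotSMulTop_add_one hxm hreg] at hdepth
      exact natCast_add_one_le_iff.1 hdepth
    have := ih (R ⧸ Ideal.span {x}) hd' (QuotSMulTop x M) hdepth'
    let b := Module.Free.chooseBasis (R ⧸ Ideal.span {x}) (QuotSMulTop x M)
    choose v hv using fun i => Submodule.Quotient.mk_surjective _ (b i)
    let f := Fintype.linearCombination R v
    have hfsurj : Function.Surjective f := by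
      rw [← LinearMap.range_eq_top, Fintype.range_linearCombination, eq_top_iff]
      refine Submodule.le_of_le_smul_of_le_jacobson_bot Module.Finite.fg_top
        ((span_singleton_le_maximal hxm).trans (maximalIdeal_le_jacobson _)) ?_
      intro m _
      have hm : Submodule.Quotient.mk m ∈ (Submodule.span R (Set.range v)).map (x • ⊤ : Submodule R M).mkQ := by
        rw [Submodule.map_span, ← Set.range_comp, show (x • ⊤ : Submodule R M).mkQ ∘ v = b from funext hv]
        have := b.mem_span (Submodule.Quotient.mk m)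
        rwa [← Submodule.restrictScalars_mem R, Submodule.restrictScalars_span R (R ⧸ Ideal.span {x}) Ideal.Quotient.mk_surjective] at this
      obtain ⟨w, hw, hwm⟩ := hm
      rw [← add_sub_cancel w m]
      refine Submodule.add_mem_sup hw ?_
      rw [Submodule.ideal_span_singleton_smul, ← Submodule.Quotient.mk_eq_zero, Submodule.Quotient.mk_sub]
      rw [sub_eq_zero]
      exact hwm.symm
    have hker : LinearMap.ker f = ⊥ := by
      refine Submodule.eq_bot_of_le_smul_of_le_jacobson_bot (Ideal.span {x}) _ (IsNoetherian.noetherian _) ?_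
        ((span_singleton_le_maximal hxm).trans (maximalIdeal_le_jacobson _))
      intro c hc
      have hc' : ∀ i, c i ∈ Ideal.span {x} := by
        have h0 : ∑ i, Ideal.Quotient.mk (Ideal.span {x}) (c i) • b i = 0 := by
          have := congrArg (x • ⊤ : Submodule R M).mkQ (LinearMap.mem_ker.1 hc)
          rw [map_zero, Fintype.linearCombination_apply, map_sum] at this
          rw [← this]
          refine Finset.sum_congr rfl fun i _ => ?_
          rw [map_smul, Submodule.mkQ_apply, hv]
          rfl
        intro i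
        rw [← Ideal.Quotient.eq_zero_iff_mem]
        exact Fintype.linearIndependent_iff.1 b.linearIndependent _ h0 i
      choose a ha using fun i => Ideal.mem_span_singleton'.1 (hc' i)
      have hca : c = x • a := funext fun i => by rw [Pi.smul_apply, smul_eq_mul, mul_comm, ha]
      rw [hca] at hc ⊢
      refine Submodule.smul_mem_smul (Ideal.mem_span_singleton_self x) ?_
      rw [LinearMap.mem_ker, map_smul] at hc
      rw [LinearMap.mem_ker]
      exact hreg.right_eq_zero_of_smul hc
    exact Module.Free.of_equiv (LinearEquiv.ofBijective f ⟨LinearMap.ker_eq_bot.1 hker, hfsurj⟩)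

variable [IsRegularLocalRing R]

theorem pd_of_depth (k : ℕ) : ∀ (M : Type u) [AddCommGroup M] [Module R M] [Module.Finite R M],
    ((maximalIdeal R).spanFinrank : ℕ∞) ≤ _root_.LocCoh.depth R M + k → PD R (k + 1) M := by
  induction k with
  | zero =>
    intro M _ _ _ h
    rw [Nat.cast_zero, add_zero] at h
    have := free_of_le_depth _ R rfl M h
    exact pd_one_iff.2 inferInstance
  | succ k ih =>
    intro M _ _ _ h
    obtain ⟨n, f, hf⟩ := Module.Finite.exists_fin' R M
    rw [show k + 1 + 1 = k + 2 from rfl, pd_ker_iff hf]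
    refine ih _ ?_
    rcases n with - | n
    · rw [depth_eq_top_of_subsingleton, top_add]; exact le_top
    have h3 := (LocCoh.idealDepth_shortExact (maximalIdeal R) (LinearMap.ker f) (Fin (n + 1) → R) M (LinearMap.ker f).subtype f
      Subtype.val_injective hf (LinearMap.exact_subtype_ker_map f)).2.2
    have hF : _root_.LocCoh.depth R (Fin (n + 1) → R) = (maximalIdeal R).spanFinrank :=
      (depth_free _).trans depth_eq_spanFinrank
    change min (_root_.LocCoh.depth R (Fin (n + 1) → R)) (_root_.LocCoh.depth R M + 1) ≤ _root_.LocCoh.depth R (LinearMap.ker f) at h3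
    rw [hF] at h3
    refine le_trans ?_ (add_le_add h3 le_rfl)
    rw [min_add, le_min_iff]
    exact ⟨le_self_add, by rwa [Nat.cast_add, Nat.cast_one, ← add_assoc, add_right_comm] at h⟩

theorem pd_finite (M : Type u) [AddCommGroup M] [Module R M] [Module.Finite R M] :
    PD R ((maximalIdeal R).spanFinrank + 1) M :=
  pd_of_depth _ M le_add_self

end regular

section globalDimension

/-- Baer's criterion, in higher degrees. -/
theorem hasInjectiveDimensionLT_of_forall_ideal (n : ℕ) :
    ∀ (N : ModuleCat.{u} R), (∀ I : Ideal R, Subsingleton (Ext (ModuleCat.of R (R ⧸ I)) N (n + 1))) →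
      HasInjectiveDimensionLT N (n + 1) := by
  induction n with
  | zero =>
    intro N h
    rw [← injective_iff_hasInjectiveDimensionLT_one]
    have : Module.Injective R N := Module.Baer.injective fun I g => by
      have hS : ((Submodule.mkQ I).shortComplexKer).ShortExact :=
        LinearMap.shortExact_shortComplexKer (Submodule.mkQ_surjective _)
      let g' : LinearMap.ker (Submodule.mkQ I) →ₗ[R] N :=
        g ∘ₗ (LinearEquiv.ofEq _ _ (Submodule.ker_mkQ I)).toLinearMap
      obtain ⟨φ, hφ⟩ := Ext.contravariant_sequence_exact₁ hS N (Ext.mk₀ (ModuleCat.ofHom g')) (add_zero 1)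
        (@Subsingleton.elim _ (h I) _ _)
      obtain ⟨φ, rfl⟩ := Ext.homEquiv₀.symm.surjective φ
      refine ⟨φ.hom, fun x hx => ?_⟩
      rw [Ext.homEquiv₀_symm_apply, Ext.mk₀_comp_mk₀, (Ext.mk₀_bijective _ _).1.eq_iff] at hφ
      have := congrArg (fun ψ : ModuleCat.of R (LinearMap.ker (Submodule.mkQ I)) ⟶ N =>
        ψ.hom ⟨x, by rwa [Submodule.ker_mkQ]⟩) hφ
      exact this
    exact Module.injective_object_of_injective_module R N
  | succ n ih =>
    intro N h
    have hS : (ShortComplex.mk _ _ (Limits.cokernel.condition (Injective.ι N))).ShortExact :=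
      { exact := ShortComplex.exact_cokernel _ }
    refine (hS.hasInjectiveDimensionLT_X₃_iff n inferInstance).1 (ih _ fun I => ?_)
    refine subsingleton_of_forall_eq 0 fun e => ?_
    obtain ⟨y, hy⟩ := Ext.covariant_sequence_exact₃ (ModuleCat.of R (R ⧸ I)) hS e rfl
      (@Subsingleton.elim _ (h I) _ _)
    have hy0 : y = 0 := Ext.eq_zero_of_injective y
    rw [← hy, hy0, Ext.zero_comp]

variable [IsRegularLocalRing R]

/-- A regular local ring has global dimension at most its dimension. -/
theorem pd_all (M : Type u) [AddCommGroup M] [Module R M] :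
    PD R ((maximalIdeal R).spanFinrank + 1) M := by
  refine HasProjectiveDimensionLT.mk fun i hi Y e => ?_
  have : HasInjectiveDimensionLT Y ((maximalIdeal R).spanFinrank + 1) :=
    hasInjectiveDimensionLT_of_forall_ideal _ Y fun I =>
      have := pd_finite (R := R) (R ⧸ I)
      HasProjectiveDimensionLT.subsingleton (ModuleCat.of R (R ⧸ I)) _ _ le_rfl Y
  exact @Subsingleton.elim _ (HasInjectiveDimensionLT.subsingleton Y _ i hi _) e 0

end globalDimension

section auslanderBuchsbaum

variable [IsLocalRing R] [IsNoetherianRing R]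

/-- A map of finite free modules with entries in `m` kills `Ext(k, -)`. -/
theorem ext_comp_eq_zero {K F : Type u} [AddCommGroup K] [Module R K] [Module.Free R K] [Module.Finite R K]
    [AddCommGroup F] [Module R F] (φ : K →ₗ[R] F)
    (hφ : ∀ k, φ k ∈ maximalIdeal R • (⊤ : Submodule R F)) {i : ℕ}
    (e : Ext (ModuleCat.of R (R ⧸ maximalIdeal R)) (ModuleCat.of R K) i) :
    e.comp (Ext.mk₀ (ModuleCat.ofHom φ)) (add_zero i) = 0 := by
  classical
  have hmem : φ ∈ maximalIdeal R • (⊤ : Submodule R (K →ₗ[R] F)) := by
    let b := Module.Free.chooseBasis R K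
    have hsum : φ = ∑ j, (b.coord j).smulRight (φ (b j)) := by
      refine b.ext fun j => ?_
      rw [LinearMap.sum_apply, Finset.sum_eq_single j]
      · simp
      · intro l _ hl; simp [Finsupp.single_eq_of_ne hl]
      · simp
    rw [hsum]
    refine Submodule.sum_mem _ fun j _ => ?_
    have := Submodule.mem_map_of_mem (f := LinearMap.smulRightₗ (R := R) (b.coord j)) (hφ (b j))
    rw [Submodule.map_smul''] at this
    exact Submodule.smul_mono le_rfl le_top this
  refine Submodule.smul_induction_on hmem (fun a ha ψ _ => ?_) fun ψ ψ' h h' => ?_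
  · rw [show ModuleCat.ofHom (a • ψ) = a • ModuleCat.ofHom ψ from rfl, Ext.mk₀_smul, Ext.comp_smul]
    refine LocCoh.ext_smul_eq_zero_left (fun q => ?_) _
    obtain ⟨y, rfl⟩ := Submodule.Quotient.mk_surjective _ q
    rw [← Submodule.Quotient.mk_smul]
    exact (Submodule.Quotient.mk_eq_zero _).2 (Ideal.mul_mem_right _ _ ha)
  · rw [ModuleCat.ofHom_add, Ext.mk₀_add, Ext.comp_add, h, h', add_zero]

theorem depth_add_of_pd : ∀ (e : ℕ) (M : Type u) [AddCommGroup M] [Module R M] [Module.Finite R M]
    [Nontrivial M], PD R (e + 1) M → ¬ PD R e M →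
    _root_.LocCoh.depth R R = e + _root_.LocCoh.depth R M := by
  intro e
  induction e with
  | zero =>
    intro M _ _ _ _ h _
    have := pd_one_iff.1 h
    have : Module.Free R M := Module.free_of_flat_of_isLocalRing
    simp [depth_free M]
  | succ e ih =>
    intro M _ _ _ _ h h'
    obtain ⟨n, f, hf, hker⟩ := exists_minimal_presentation (R := R) M
    have hKnt : Nontrivial (LinearMap.ker f) := by
      by_contra hK
      rw [not_nontrivial_iff_subsingleton] at hK
      have hinj : LinearMap.ker f = ⊥ := Submodule.subsingleton_iff_eq_bot.1 hK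
      have : Module.Free R M := Module.Free.of_equiv (LinearEquiv.ofBijective f ⟨LinearMap.ker_eq_bot.1 hinj, hf⟩)
      exact h' (pd_mono (Nat.le_add_left 1 e) (pd_one_iff.2 inferInstance))
    have hK1 : PD R (e + 1) (LinearMap.ker f) := (pd_ker_iff hf e).1 h
    have hK2 : ¬ PD R e (LinearMap.ker f) := by
      rcases e with - | e
      · rw [pd_zero_iff, not_subsingleton_iff_nontrivial]; exact hKnt
      · exact fun hc => h' ((pd_ker_iff hf e).2 hc)
    have hn : Nontrivial (Fin n → R) := hf.nontrivial
    have hF : _root_.LocCoh.depth R (Fin n → R) = _root_.LocCoh.depth R R := depth_free _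
    have hKd := ih (LinearMap.ker f) hK1 hK2
    obtain ⟨m, hm⟩ := exists_depth_eq_natCast (R := R) (M := M)
    obtain ⟨k, hk⟩ := exists_depth_eq_natCast (R := R) (M := LinearMap.ker f)
    obtain ⟨r, hr⟩ := exists_depth_eq_natCast (R := R) (M := R)
    obtain ⟨-, h2, h3⟩ := LocCoh.idealDepth_shortExact (maximalIdeal R) (LinearMap.ker f) (Fin n → R) M (LinearMap.ker f).subtype f
      Subtype.val_injective hf (LinearMap.exact_subtype_ker_map f)
    simp only [show ∀ X : Type u, ∀ [AddCommGroup X] [Module R X], _root_.LocCoh.idealDepth (maximalIdeal R) X = _root_.LocCoh.depth R X from fun X _ _ => rfl,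
      hF, hm, hk, hr] at h2 h3
    rw [hk, hr] at hKd
    rw [hm, hr]
    have hKd' : r = e + k := by exact_mod_cast hKd
    rw [← Nat.cast_one, ← Nat.cast_add, min_le_iff, Nat.cast_le, Nat.cast_le] at h3
    rw [← Nat.cast_one, ← ENat.coe_sub, min_le_iff, Nat.cast_le, Nat.cast_le] at h2
    suffices m + 1 ≤ k by
      have : r = (e + 1) + m := by omega
      exact_mod_cast this
    rcases e with - | e
    · -- the minimal presentation kills `Ext(k, K) → Ext(k, F)`
      have hKfree : Module.Free R (LinearMap.ker f) := by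
        have := pd_one_iff.1 hK1
        exact Module.free_of_flat_of_isLocalRing
      suffices ((m + 1 : ℕ) : ℕ∞) ≤ _root_.LocCoh.depth R (LinearMap.ker f) by rw [hk] at this; exact_mod_cast this
      rw [_root_.LocCoh.depth, LocCoh.natCast_le_idealDepth_iff_ext]
      have hM : ∀ i < m, Subsingleton (Ext (ModuleCat.of R (R ⧸ maximalIdeal R)) (ModuleCat.of R M) i) :=
        (LocCoh.natCast_le_idealDepth_iff_ext _ _ m).1 hm.ge
      intro i hi
      refine subsingleton_of_forall_eq 0 fun x => ?_
      have hS : (LinearMap.shortComplexKer f).ShortExact := LinearMap.shortExact_shortComplexKer hf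
      have hz : x.comp (Ext.mk₀ (LinearMap.shortComplexKer f).f) (add_zero i) = 0 :=
        ext_comp_eq_zero (LinearMap.ker f).subtype (fun k => hker k.2) x
      rcases i with - | i
      · obtain ⟨g, rfl⟩ := Ext.homEquiv₀.symm.surjective x
        rw [Ext.homEquiv₀_symm_apply, Ext.mk₀_comp_mk₀, ← Ext.mk₀_zero, (Ext.mk₀_bijective _ _).1.eq_iff] at hz
        have := hS.mono_f
        rw [Limits.zero_of_comp_mono (LinearMap.shortComplexKer f).f hz]
        simp
      · obtain ⟨y, hy⟩ := Ext.covariant_sequence_exact₁ (ModuleCat.of R (R ⧸ maximalIdeal R)) hS x hz rfl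
        have := hM i (by omega)
        rw [← hy, Subsingleton.elim y 0, Ext.zero_comp]
    · omega

end auslanderBuchsbaum

end Groth.Agent.CAlgH3
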