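import Groth.Agent.GrLib.RegPoly
import Groth.Agent.CAlgH3.ProjDim
import Groth.Agent.S5791
import Groth.Agent.S0563

/-! Minimal graded free resolutions. -/

universe u

open CategoryTheory IsLocalRing

namespace Groth.Agent.CAlgH3.GrMinimal

section

variable {R : Type u} [CommRing R] {σ : Type u} [SetLike σ R] [AddSubgroupClass σ R]
  {𝒜 : ℤ → σ} [GradedRing 𝒜]
variable {M : Type u} [AddCommGroup M] [Module R M] {τ : Type u} [SetLike τ M] [AddSubgroupClass τ M]
  {ℳ : ℤ → τ} [DirectSum.Decomposition ℳ] [SetLike.GradedSMul 𝒜 ℳ]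
variable (F : GrSyz.FreeRes 𝒜 ℳ)

open GrLib (Syz)

theorem pd_aug_iff (n : ℕ) : PD R (n + 2) M ↔ PD R (n + 1) (Syz F 0) :=
  (pd_ker_iff F.aug_surjective n).trans (pd_congr (LinearEquiv.ofEq _ _ F.exact_zero))

theorem ker_rangeRestrict (i : ℕ) : LinearMap.ker (F.dLin i).rangeRestrict = Syz F (i + 1) :=
  (LinearMap.ker_rangeRestrict _).trans (F.exact_succ i)

theorem pd_syz_iff (i n : ℕ) : PD R (n + 2) (Syz F i) ↔ PD R (n + 1) (Syz F (i + 1)) :=
  (pd_ker_iff (F.dLin i).surjective_rangeRestrict n).trans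
    (pd_congr (LinearEquiv.ofEq _ _ (ker_rangeRestrict F i)))

theorem pd_syz : ∀ (n i : ℕ), PD R (n + 1) (Syz F i) ↔ Module.Projective R (Syz F (i + n))
  | 0, i => pd_one_iff
  | n + 1, i => by rw [pd_syz_iff F i n, pd_syz n (i + 1), show i + 1 + n = i + (n + 1) by omega]

theorem pd_M_iff (n : ℕ) : PD R (n + 2) M ↔ Module.Projective R (Syz F n) := by
  rw [pd_aug_iff F, pd_syz F, Nat.zero_add]

variable {I : Ideal R}

theorem Syz_le (hF : F.IsMinimal I) (i : ℕ) : Syz F i ≤ I • (⊤ : Submodule R (Fin (F.rk i) → R)) := by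
  classical
  rintro _ ⟨v, rfl⟩
  rw [show F.dLin i v = ∑ a, (F.dLin i v a) • (Pi.single a 1 : Fin (F.rk i) → R) by
    funext j; rw [Finset.sum_apply, Finset.sum_eq_single j] <;> simp (config := {contextual := true}) [eq_comm]]
  refine Submodule.sum_mem _ fun a _ => Submodule.smul_mem_smul ?_ trivial
  show (∑ b, F.d i a b * v b) ∈ I
  exact Ideal.sum_mem _ fun b _ => Ideal.mul_mem_right _ _ (hF i a b)

theorem ker_eq_bot_of_projective [IsDomain R] [IsNoetherianRing R] (hI : I ≠ ⊤) {r : ℕ} {N : Type u}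
    [AddCommGroup N] [Module R N] [Module.Projective R N] (f : (Fin r → R) →ₗ[R] N) (hf : Function.Surjective f)
    (hk : LinearMap.ker f ≤ I • ⊤) : LinearMap.ker f = ⊥ := by
  obtain ⟨g, hg⟩ := Module.projective_lifting_property f LinearMap.id hf
  let ρ : (Fin r → R) →ₗ[R] (Fin r → R) := LinearMap.id - g ∘ₗ f
  have hρ : ∀ v, ρ v ∈ LinearMap.ker f := fun v => by
    rw [LinearMap.mem_ker, LinearMap.sub_apply, map_sub]
    exact sub_eq_zero.2 (LinearMap.congr_fun hg (f v)).symm
  have hKI : LinearMap.ker f ≤ I • LinearMap.ker f := fun v hv => by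
    have h1 : ρ v ∈ (I • ⊤ : Submodule R (Fin r → R)).map ρ := Submodule.mem_map_of_mem (hk hv)
    rw [Submodule.map_smul''] at h1
    have h2 : (⊤ : Submodule R (Fin r → R)).map ρ ≤ LinearMap.ker f := by
      rintro _ ⟨w, -, rfl⟩; exact hρ w
    have h3 := Submodule.smul_mono le_rfl h2 h1
    rwa [show ρ v = v by
      simp only [ρ, LinearMap.sub_apply, LinearMap.id_apply, LinearMap.comp_apply, LinearMap.mem_ker.1 hv, map_zero, sub_zero]] at h3
  obtain ⟨a, ha1, ha2⟩ := Submodule.exists_sub_one_mem_and_smul_eq_zero_of_fg_of_le_smul I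
    (LinearMap.ker f) (IsNoetherian.noetherian _) hKI
  have ha : a ≠ 0 := by
    rintro rfl
    rw [zero_sub, neg_mem_iff] at ha1
    exact hI ((Ideal.eq_top_iff_one I).2 ha1)
  rw [Submodule.eq_bot_iff]
  intro v hv
  funext j
  have := congrFun (ha2 v hv) j
  simpa [ha] using this

theorem rk_succ_eq_zero (hI : I ≠ ⊤) (hF : F.IsMinimal I) (i : ℕ) (h : F.dLin i = 0) :
    F.rk (i + 1) = 0 := by
  by_contra hne
  have h1 := Syz_le F hF (i + 1)
  rw [show Syz F (i + 1) = LinearMap.ker (F.dLin i) from (F.exact_succ i).symm, h, LinearMap.ker_zero] at h1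
  let j : Fin (F.rk (i + 1)) := ⟨0, Nat.pos_of_ne_zero hne⟩
  have h2 : (Pi.single j 1 : Fin (F.rk (i + 1)) → R) ∈ I • (⊤ : Submodule R _) := h1 trivial
  have h3 : (LinearMap.proj j : (Fin (F.rk (i + 1)) → R) →ₗ[R] R) (Pi.single j 1) ∈ I • (⊤ : Submodule R R) :=
    Submodule.smul_mono le_rfl le_top ((Submodule.map_smul'' I _ _).le (Submodule.mem_map_of_mem h2))
  simp only [LinearMap.proj_apply, Pi.single_eq_same, smul_eq_mul, Ideal.mul_top] at h3
  exact hI ((Ideal.eq_top_iff_one I).2 h3)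

theorem hasLengthLE_of_dLin_eq_zero (hI : I ≠ ⊤) (hF : F.IsMinimal I) (n : ℕ) (h : F.dLin n = 0) :
    F.HasLengthLE n := by
  intro i hi
  induction i, hi using Nat.le_induction with
  | base => exact rk_succ_eq_zero F hI hF n h
  | succ i _ ih =>
    refine rk_succ_eq_zero F hI hF i (LinearMap.ext fun v => funext fun a => ?_)
    exact (Fin.cast ih a).elim0

theorem hasLengthLE_iff [IsDomain R] [IsNoetherianRing R] (hI : I ≠ ⊤) (hF : F.IsMinimal I) (n : ℕ) :
    F.HasLengthLE n ↔ HasProjectiveDimensionLE (ModuleCat.of R M) n := by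
  have hz : F.HasLengthLE n → F.dLin n = 0 := fun h => LinearMap.ext fun v => by
    have : IsEmpty (Fin (F.rk (n + 1))) := by rw [h (n + 1) (by omega)]; infer_instance
    rw [Subsingleton.elim v 0, map_zero, map_zero]
  cases n with
  | zero =>
    rw [show HasProjectiveDimensionLE (ModuleCat.of R M) 0 ↔ PD R 1 M from Iff.rfl, pd_one_iff]
    constructor
    · intro h
      exact Module.Projective.of_equiv (LinearEquiv.ofBijective F.augLin ⟨LinearMap.ker_eq_bot.1 (by
        rw [show LinearMap.ker F.augLin = LinearMap.range (F.dLin 0) from F.exact_zero, hz h, LinearMap.range_zero]),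
        F.aug_surjective⟩)
    · intro _
      refine hasLengthLE_of_dLin_eq_zero F hI hF 0 (LinearMap.range_eq_bot.1 ?_)
      rw [← show LinearMap.ker F.augLin = LinearMap.range (F.dLin 0) from F.exact_zero]
      exact ker_eq_bot_of_projective hI F.augLin F.aug_surjective (F.exact_zero.le.trans (Syz_le F hF 0))
  | succ n =>
    rw [show HasProjectiveDimensionLE (ModuleCat.of R M) (n + 1) ↔ PD R (n + 2) M from Iff.rfl, pd_M_iff F n]
    constructor
    · intro h
      exact Module.Projective.of_equiv (LinearEquiv.ofBijective (F.dLin n).rangeRestrict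
        ⟨LinearMap.ker_eq_bot.1 (by rw [ker_rangeRestrict]; show LinearMap.range (F.dLin (n+1)) = ⊥; rw [hz h, LinearMap.range_zero]),
          (F.dLin n).surjective_rangeRestrict⟩)
    · intro _
      refine hasLengthLE_of_dLin_eq_zero F hI hF (n + 1) (LinearMap.range_eq_bot.1 ?_)
      show Syz F (n + 1) = ⊥
      rw [← ker_rangeRestrict]
      exact ker_eq_bot_of_projective hI _ (F.dLin n).surjective_rangeRestrict
        ((ker_rangeRestrict F n).le.trans (Syz_le F hF (n + 1)))

/-! comparison maps -/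

theorem d_mul_d (i : ℕ) : F.d i * F.d (i + 1) = 0 := by
  refine Matrix.ext_of_mulVec_single fun b => ?_
  rw [← Matrix.mulVec_mulVec, Matrix.zero_mulVec]
  exact LinearMap.mem_ker.1 ((F.exact_succ i).ge ⟨Pi.single b 1, rfl⟩)

theorem exists_factor_succ (i : ℕ) {κ : Type} [Fintype κ] [DecidableEq κ]
    (H : Matrix (Fin (F.rk (i + 1))) κ R) (h : F.d i * H = 0) :
    ∃ s : Matrix (Fin (F.rk (i + 2))) κ R, F.d (i + 1) * s = H := by
  have hc : ∀ b, ∃ w, (F.d (i + 1)).mulVec w = H.mulVec (Pi.single b 1) := fun b => (F.exact_succ i).le (by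
    rw [LinearMap.mem_ker, Matrix.mulVecLin_apply, Matrix.mulVec_mulVec, h, Matrix.zero_mulVec])
  choose w hw using hc
  refine ⟨(Matrix.of w).transpose, Matrix.ext_of_mulVec_single fun b => ?_⟩
  rw [← Matrix.mulVec_mulVec, Matrix.mulVec_single_one]
  exact hw b

theorem entries_mem (hF : F.IsMinimal I) (h : ∀ i, Matrix (Fin (F.rk i)) (Fin (F.rk i)) R)
    (h0 : ∀ v, F.augLin ((h 0).mulVec v) = 0) (hd : ∀ i, F.d i * h (i + 1) = h i * F.d i) :
    ∀ i a b, h i a b ∈ I := by
  classical
  have key : ∀ i, ∃ (s : Matrix (Fin (F.rk (i + 1))) (Fin (F.rk i)) R) (t : Matrix (Fin (F.rk i)) (Fin (F.rk i)) R),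
      h i = F.d i * s + t ∧ t * F.d i = 0 ∧ ∀ a b, t a b ∈ I := by
    intro i
    induction i with
    | zero =>
      have hc : ∀ b, ∃ w, (F.d 0).mulVec w = (h 0).mulVec (Pi.single b 1) := fun b => F.exact_zero.le (h0 _)
      choose w hw using hc
      refine ⟨(Matrix.of w).transpose, 0, ?_, Matrix.zero_mul _, fun _ _ => zero_mem _⟩
      rw [add_zero]
      refine Matrix.ext_of_mulVec_single fun b => ?_
      rw [← Matrix.mulVec_mulVec, Matrix.mulVec_single_one (Matrix.of w).transpose]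
      exact (hw b).symm
    | succ i ih =>
      obtain ⟨s, t, e, ht, -⟩ := ih
      obtain ⟨s', hs'⟩ := exists_factor_succ F i (h (i + 1) - s * F.d i) (by
        rw [Matrix.mul_sub, hd, e, Matrix.add_mul, ht, add_zero, Matrix.mul_assoc, sub_self])
      refine ⟨s', s * F.d i, ?_, ?_, fun a b => ?_⟩
      · rw [hs', sub_add_cancel]
      · rw [Matrix.mul_assoc, d_mul_d, Matrix.mul_zero]
      · rw [Matrix.mul_apply]
        exact Ideal.sum_mem _ fun c _ => Ideal.mul_mem_left _ _ (hF i c b)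
  intro i a b
  obtain ⟨s, t, e, -, ht⟩ := key i
  rw [e, Matrix.add_apply, Matrix.mul_apply]
  exact add_mem (Ideal.sum_mem _ fun c _ => Ideal.mul_mem_right _ _ (hF i a c)) (ht a b)

variable (F' : GrSyz.FreeRes 𝒜 ℳ) [IsNoetherianRing R]

/-- a homogeneous matrix from `F` to `F'` preserving syzygies -/
structure Step (i : ℕ) where
  P : Matrix (Fin (F'.rk i)) (Fin (F.rk i)) R
  hom : ∀ a b, P a b ∈ 𝒜 (F.deg i b - F'.deg i a)
  syz : ∀ v ∈ Syz F i, P.mulVec v ∈ Syz F' i

theorem exists_step_zero : ∃ S : Step F F' 0, ∀ v, F'.augLin (S.P.mulVec v) = F.augLin v := by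
  classical
  letI := GrLib.freeDecomp 𝒜 (F'.deg 0)
  have hc : ∀ b, ∃ w ∈ GrLib.freeGr 𝒜 (F'.deg 0) (F.deg 0 b), F'.augLin w = F.aug b := fun b =>
    GrLib.exists_preimage (GrLib.grHomDeg_zero_iff.2 (GrLib.augLin_grHom F')) (g := F.deg 0 b)
      (by rw [add_zero]; exact F.aug_mem b) (LinearMap.mem_range.2 (F'.aug_surjective _))
  choose w hwm hw using hc
  have hcomm : ∀ v, F'.augLin ((Matrix.of w).transpose.mulVec v) = F.augLin v := by
    intro v
    have : F'.augLin ∘ₗ (Matrix.of w).transpose.mulVecLin = F.augLin := (Pi.basisFun R _).ext fun b => by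
      rw [Pi.basisFun_apply, LinearMap.comp_apply, Matrix.mulVecLin_apply, Matrix.mulVec_single_one]
      refine (hw b).trans ?_
      simp [GrSyz.FreeRes.augLin, Fintype.linearCombination_apply, Pi.single_apply]
    exact LinearMap.congr_fun this v
  exact ⟨⟨(Matrix.of w).transpose, fun a b => GrLib.mem_freeGr.1 (hwm b) a, fun v hv => by
    refine F'.exact_zero.le ?_
    rw [LinearMap.mem_ker]
    exact (hcomm v).trans (LinearMap.mem_ker.1 (F.exact_zero.ge hv))⟩, hcomm⟩

theorem exists_step_succ {i : ℕ} (S : Step F F' i) :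
    ∃ T : Step F F' (i + 1), F'.d i * T.P = S.P * F.d i := by
  classical
  letI := GrLib.freeDecomp 𝒜 (F'.deg i)
  letI := GrLib.freeDecomp 𝒜 (F'.deg (i + 1))
  have hc : ∀ b, ∃ w ∈ GrLib.freeGr 𝒜 (F'.deg (i + 1)) (F.deg (i + 1) b),
      F'.dLin i w = S.P.mulVec ((F.d i).mulVec (Pi.single b 1)) := fun b => by
    refine GrLib.exists_preimage (GrLib.grHomDeg_zero_iff.2 (GrLib.dLin_grHom F' i)) (g := F.deg (i + 1) b) ?_
      (S.syz _ ⟨Pi.single b 1, rfl⟩)
    rw [add_zero, GrLib.mem_freeGr]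
    intro a
    rw [Matrix.mulVec_single_one]
    show (∑ c, S.P a c * F.d i c b) ∈ 𝒜 _
    refine sum_mem fun c _ => ?_
    have := SetLike.mul_mem_graded (S.hom a c) (F.d_mem i c b)
    rwa [show F.deg i c - F'.deg i a + (F.deg (i + 1) b - F.deg i c) = F.deg (i + 1) b - F'.deg i a by ring] at this
  choose w hwm hw using hc
  have hcomm : F'.d i * (Matrix.of w).transpose = S.P * F.d i := Matrix.ext_of_mulVec_single fun b => by
    rw [← Matrix.mulVec_mulVec, ← Matrix.mulVec_mulVec, Matrix.mulVec_single_one (Matrix.of w).transpose]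
    exact hw b
  exact ⟨⟨(Matrix.of w).transpose, fun a b => GrLib.mem_freeGr.1 (hwm b) a, fun v hv => by
    refine (F'.exact_succ i).le ?_
    rw [LinearMap.mem_ker, Matrix.mulVecLin_apply, Matrix.mulVec_mulVec, hcomm, ← Matrix.mulVec_mulVec]
    have h0 : (F.d i).mulVec v = 0 := LinearMap.mem_ker.1 ((F.exact_succ i).ge hv)
    rw [h0, Matrix.mulVec_zero]⟩, hcomm⟩

theorem exists_comparison : ∃ P : ∀ i, Step F F' i,
    (∀ v, F'.augLin ((P 0).P.mulVec v) = F.augLin v) ∧ ∀ i, F'.d i * (P (i + 1)).P = (P i).P * F.d i := by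
  choose S0 h0 using exists_step_zero F F'
  have hs : ∀ i (S : Step F F' i), ∃ T : Step F F' (i + 1), F'.d i * T.P = S.P * F.d i :=
    fun i S => exists_step_succ F F' S
  choose T hT using hs
  exact ⟨fun i => Nat.rec S0 T i, h0, fun i => hT _ _⟩

theorem betti_eq {k : Type u} [Field k] (ε : R →+* k) (hε : ∀ n : ℤ, n ≠ 0 → ∀ x ∈ 𝒜 n, ε x = 0)
    (hI : ∀ x ∈ I, ε x = 0) (hF : F.IsMinimal I) (hF' : F'.IsMinimal I) (i : ℕ) (j : ℤ) :
    F.betti i j = F'.betti i j := by
  classical
  obtain ⟨P, hP0, hP⟩ := exists_comparison F F'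
  obtain ⟨Q, hQ0, hQ⟩ := exists_comparison F' F
  have h1 : ∀ i, ((Q i).P.map ε) * ((P i).P.map ε) = 1 := fun i => by
    have := entries_mem F hF (fun i => (Q i).P * (P i).P - 1) (fun v => by
      rw [Matrix.sub_mulVec, ← Matrix.mulVec_mulVec, Matrix.one_mulVec, map_sub, hQ0, hP0, sub_self])
      (fun i => by rw [Matrix.mul_sub, Matrix.sub_mul, ← Matrix.mul_assoc, hQ, Matrix.mul_assoc, hP,
        Matrix.mul_one, Matrix.one_mul, Matrix.mul_assoc]) i
    rw [← Matrix.map_mul]
    ext a b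
    have h2 := hI _ (this a b)
    rw [Matrix.sub_apply, map_sub, sub_eq_zero] at h2
    rw [Matrix.map_apply, h2, Matrix.one_apply, Matrix.one_apply]
    split <;> simp
  have h1' : ∀ i, ((P i).P.map ε) * ((Q i).P.map ε) = 1 := fun i => by
    have := entries_mem F' hF' (fun i => (P i).P * (Q i).P - 1) (fun v => by
      rw [Matrix.sub_mulVec, ← Matrix.mulVec_mulVec, Matrix.one_mulVec, map_sub, hP0, hQ0, sub_self])
      (fun i => by rw [Matrix.mul_sub, Matrix.sub_mul, ← Matrix.mul_assoc, hP, Matrix.mul_assoc, hQ,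
        Matrix.mul_one, Matrix.one_mul, Matrix.mul_assoc]) i
    rw [← Matrix.map_mul]
    ext a b
    have h2 := hI _ (this a b)
    rw [Matrix.sub_apply, map_sub, sub_eq_zero] at h2
    rw [Matrix.map_apply, h2, Matrix.one_apply, Matrix.one_apply]
    split <;> simp
  let A : Matrix {a // F'.deg i a = j} {b // F.deg i b = j} k := fun a b => ε ((P i).P a b)
  let B : Matrix {b // F.deg i b = j} {a // F'.deg i a = j} k := fun b a => ε ((Q i).P b a)
  have hzero : ∀ a b, F.deg i b ≠ F'.deg i a → ε ((P i).P a b) = 0 := fun a b h =>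
    hε _ (sub_ne_zero.2 h) _ ((P i).hom a b)
  have hzero' : ∀ b a, F'.deg i a ≠ F.deg i b → ε ((Q i).P b a) = 0 := fun b a h =>
    hε _ (sub_ne_zero.2 h) _ ((Q i).hom b a)
  have hBA : B * A = 1 := by
    ext b b'
    have := congrFun (congrFun (h1 i) b.1) b'.1
    rw [Matrix.mul_apply, Matrix.one_apply] at this
    rw [Matrix.mul_apply, Matrix.one_apply]
    · simp only [Subtype.ext_iff]
      rw [← this, ← Finset.sum_subset (Finset.subset_univ (Finset.univ.filter fun a => F'.deg i a = j))]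
      · exact (Finset.sum_subtype _ (by simp) fun a => ε ((Q i).P b.1 a) * ε ((P i).P a b'.1)).symm
      · intro a _ ha
        simp only [Finset.mem_filter, Finset.mem_univ, true_and] at ha
        simp only [Matrix.map_apply]
        rw [hzero' _ _ (by rw [b.2]; exact ha), zero_mul]
  have hAB : A * B = 1 := by
    ext a a'
    have := congrFun (congrFun (h1' i) a.1) a'.1
    rw [Matrix.mul_apply, Matrix.one_apply] at this
    rw [Matrix.mul_apply, Matrix.one_apply]
    · simp only [Subtype.ext_iff]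
      rw [← this, ← Finset.sum_subset (Finset.subset_univ (Finset.univ.filter fun b => F.deg i b = j))]
      · exact (Finset.sum_subtype _ (by simp) fun b => ε ((P i).P a.1 b) * ε ((Q i).P b a'.1)).symm
      · intro b _ hb
        simp only [Finset.mem_filter, Finset.mem_univ, true_and] at hb
        simp only [Matrix.map_apply]
        rw [hzero _ _ (by rw [a.2]; exact hb), zero_mul]
  have e := (LinearEquiv.ofLinear A.mulVecLin B.mulVecLin
    (by rw [← Matrix.mulVecLin_mul, hAB, Matrix.mulVecLin_one])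
    (by rw [← Matrix.mulVecLin_mul, hBA, Matrix.mulVecLin_one])).finrank_eq
  rw [Module.finrank_fintype_fun_eq_card, Module.finrank_fintype_fun_eq_card, Fintype.card_subtype, Fintype.card_subtype] at e
  exact e

end

section poly

open MvPolynomial

variable (k : Type u) [Field k] (m : ℕ)

theorem constantCoeff_mem_stdGr (n : ℤ) (hn : n ≠ 0) (p : MvPolynomial (Fin m) k)
    (hp : p ∈ GrSyz.stdGr k (Fin m) n) : constantCoeff p = 0 := by
  rw [constantCoeff_eq]
  by_contra h
  have := (GrSyz.mem_stdGr_iff k (Fin m) n p).1 hp h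
  rw [map_zero] at this
  exact hn this.symm

theorem constantCoeff_irrel (p : MvPolynomial (Fin m) k)
    (hp : p ∈ (GrSyz.irrel (GrSyz.stdGr k (Fin m))).toIdeal) : constantCoeff p = 0 := by
  rw [GrLib.irrel_eq] at hp
  have h : Ideal.span (Set.range (X : Fin m → MvPolynomial (Fin m) k)) ≤ RingHom.ker constantCoeff :=
    Ideal.span_le.2 (by rintro _ ⟨j, rfl⟩; simp)
  exact h hp

theorem pd_poly (M : Type u) [AddCommGroup M] [Module (MvPolynomial (Fin m) k) M] [Module.Finite (MvPolynomial (Fin m) k) M] :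
    HasProjectiveDimensionLT (ModuleCat.of (MvPolynomial (Fin m) k) M) (m + 1) := by
  refine (S5791.result _ M m).2 fun p => ?_
  haveI : IsRegularRing (MvPolynomial (Fin m) k) := inferInstance
  haveI := IsRegularRing.isRegularLocalRing_localization p.asIdeal
  obtain ⟨d, hd⟩ : ∃ d : ℕ, ringKrullDim (Localization.AtPrime p.asIdeal) = d :=
    ⟨_, IsRegularLocalRing.spanFinrank_maximalIdeal.symm⟩
  have hdm : d ≤ m := by
    have h1 : ringKrullDim (Localization.AtPrime p.asIdeal) ≤ ringKrullDim (MvPolynomial (Fin m) k) :=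
      (IsLocalization.AtPrime.ringKrullDim_eq_height p.asIdeal _).trans_le
        (Ideal.height_le_ringKrullDim_of_ne_top p.isPrime.ne_top)
    rw [hd, MvPolynomial.ringKrullDim_of_isNoetherianRing, ringKrullDim_eq_zero_of_field, zero_add] at h1
    simpa using h1
  exact pd_mono (show d + 1 ≤ m + 1 by omega) (S0563.result _ d hd _)

end poly

end Groth.Agent.CAlgH3.GrMinimal
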