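import Groth.Agent.CAlgH3.PRing

/-!
# Values of sections of `M(n)~` in the localizations of `M`, multiplication by linear forms
-/

set_option autoImplicit false
set_option linter.unusedSectionVars false
set_option backward.isDefEq.respectTransparency.types false

universe u

open DirectSum AlgebraicGeometry CategoryTheory TopologicalSpace Opposite MvPolynomial
open Groth.Agent.GrLib
open Groth.Agent.CAlgH3 Groth.Agent.CAlgH3.GrModExact Groth.Agent.CAlgH3.PosPart Groth.Agent.CAlgH3.PTilde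

noncomputable section

namespace Groth.Agent.CAlgH3.PSections

variable {k : Type u} [Field k] {r : ℕ}
variable {M τ : Type u} [AddCommGroup M] [Module (MvPolynomial (Fin (r + 1)) k) M] [SetLike τ M]
  [AddSubgroupClass τ M] {ℳ : ℤ → τ} [Decomposition ℳ] [SetLike.GradedSMul (GrSyz.stdGr k (Fin (r + 1))) ℳ]
variable {N τ' : Type u} [AddCommGroup N] [Module (MvPolynomial (Fin (r + 1)) k) N] [SetLike τ' N]
  [AddSubgroupClass τ' N] {𝒩 : ℤ → τ'} [Decomposition 𝒩] [SetLike.GradedSMul (GrSyz.stdGr k (Fin (r + 1))) 𝒩]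
variable {τ₂ : Type u} [SetLike τ₂ M] [AddSubgroupClass τ₂ M] {ℳ₂ : ℤ → τ₂} [Decomposition ℳ₂]
  [SetLike.GradedSMul (GrSyz.stdGr k (Fin (r + 1))) ℳ₂]

theorem locMap_comp {A σ : Type u} [CommRing A] [SetLike σ A] [AddSubgroupClass σ A] {𝒜 : ℕ → σ} [GradedRing 𝒜]
    {P Q R : Type u} [AddCommGroup P] [Module A P] [AddCommGroup Q] [Module A Q] [AddCommGroup R] [Module A R]
    (v : Q →ₗ[A] R) (u : P →ₗ[A] Q) (x : ProjectiveSpectrum 𝒜) (q : GrMod.LocMod 𝒜 (M := P) x) :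
    GrMod.locMap v x (GrMod.locMap u x q) = GrMod.locMap (v ∘ₗ u) x q := by
  induction q using LocalizedModule.induction_on with
  | h m s => rw [GrMod.locMap_mk, GrMod.locMap_mk, GrMod.locMap_mk]; rfl

theorem locMap_smul {A σ : Type u} [CommRing A] [SetLike σ A] [AddSubgroupClass σ A] {𝒜 : ℕ → σ} [GradedRing 𝒜]
    {P Q : Type u} [AddCommGroup P] [Module A P] [AddCommGroup Q] [Module A Q] (u : P →ₗ[A] Q)
    (x : ProjectiveSpectrum 𝒜) (a : A) (q : GrMod.LocMod 𝒜 (M := P) x) :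
    GrMod.locMap u x (a • q) = a • GrMod.locMap u x q := by
  induction q using LocalizedModule.induction_on with
  | h m s => rw [LocalizedModule.smul'_mk, GrMod.locMap_mk, GrMod.locMap_mk, LocalizedModule.smul'_mk, map_smul]

/-- The value of a section in the localization of `M`. -/
def amb {n : ℤ} {U : (CohB1.ProjSpace r k).Opens} (s : Γ(T k r ℳ n, U)) (x : U) :
    GrMod.LocMod (CohB1.polyGrading r k) (M := M) x.1 :=
  GrMod.locMap (pos (GrSyz.stdGr k (Fin (r + 1))) ℳ).subtype x.1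
    (GrMod.val (V := (U : (Proj (CohB1.polyGrading r k)).Opens)) s x)

theorem amb_inj {n : ℤ} {U : (CohB1.ProjSpace r k).Opens} {s t : Γ(T k r ℳ n, U)}
    (h : ∀ x, amb s x = amb t x) : s = t :=
  GrModExact.sext fun x => LocalizedModule.map_injective _ _ (Submodule.injective_subtype _) (h x)

theorem amb_add {n : ℤ} {U : (CohB1.ProjSpace r k).Opens} (s t : Γ(T k r ℳ n, U)) (x : U) :
    amb (s + t) x = amb s x + amb t x :=
  map_add (GrMod.locMap (pos (GrSyz.stdGr k (Fin (r + 1))) ℳ).subtype x.1) _ _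

theorem amb_zero {n : ℤ} {U : (CohB1.ProjSpace r k).Opens} (x : U) : amb (0 : Γ(T k r ℳ n, U)) x = 0 :=
  map_zero (GrMod.locMap (pos (GrSyz.stdGr k (Fin (r + 1))) ℳ).subtype x.1)

theorem amb_Tmap (u : M →ₗ[MvPolynomial (Fin (r + 1)) k] N) (hu : GrLC.IsGrHom ℳ 𝒩 u) {n : ℤ}
    {U : (CohB1.ProjSpace r k).Opens} (s : Γ(T k r ℳ n, U)) (x : U) :
    amb ((Tmap u hu n).app U s) x = GrMod.locMap u x.1 (amb s x) :=
  (locMap_comp _ _ x.1 _).trans (locMap_comp u _ x.1 _).symm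

theorem amb_Traise (c : ℕ) (h : ∀ i m, m ∈ ℳ₂ i ↔ m ∈ ℳ (i + c)) {n n' : ℤ} (hn : n + c = n')
    {U : (CohB1.ProjSpace r k).Opens} (s : Γ(T k r ℳ₂ n, U)) (x : U) :
    amb ((Traise (ℳ := ℳ) c h hn).app U s) x = amb s x :=
  locMap_comp _ _ x.1 _

/-- Multiplication by a linear form. -/
def mu (y : MvPolynomial (Fin (r + 1)) k) (hy : y ∈ GrSyz.stdGr k (Fin (r + 1)) (1 : ℤ)) (n : ℤ) :
    T k r ℳ n ⟶ T k r ℳ (n + 1) :=
  mapC (CohB1.polyGrading r k) (y • LinearMap.id : pos (GrSyz.stdGr k (Fin (r + 1))) ℳ →ₗ[_] _) 1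
    (fun i m hm => mem_posGr.2 (by
      show y • (m : M) ∈ ℳ ((i + 1 : ℕ) : ℤ)
      push_cast
      rw [add_comm]
      exact GrLib.smul_mem (ℳ := ℳ) hy (mem_posGr.1 hm))) rfl

theorem amb_mu (y : MvPolynomial (Fin (r + 1)) k) (hy : y ∈ GrSyz.stdGr k (Fin (r + 1)) (1 : ℤ)) {n : ℤ}
    {U : (CohB1.ProjSpace r k).Opens} (s : Γ(T k r ℳ n, U)) (x : U) :
    amb ((mu y hy n).app U s) x = y • amb s x := by
  refine (locMap_comp (pos (GrSyz.stdGr k (Fin (r + 1))) ℳ).subtype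
    (y • LinearMap.id : pos (GrSyz.stdGr k (Fin (r + 1))) ℳ →ₗ[_] _) x.1 _).trans ?_
  show GrMod.locMap _ x.1 (GrMod.val (V := (U : (Proj (CohB1.polyGrading r k)).Opens)) s x) =
    y • GrMod.locMap _ x.1 (GrMod.val (V := (U : (Proj (CohB1.polyGrading r k)).Opens)) s x)
  induction (GrMod.val (V := (U : (Proj (CohB1.polyGrading r k)).Opens)) s x) using LocalizedModule.induction_on with
  | h m t => rw [GrMod.locMap_mk, GrMod.locMap_mk, LocalizedModule.smul'_mk]; rfl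

variable (k r ℳ) in
/-- The subgroup spanned by products of sections with the given linear forms. -/
def Mul (L : List (MvPolynomial (Fin (r + 1)) k)) (n : ℤ) :
    AddSubgroup Γ(T k r ℳ (n + 1), (⊤ : (CohB1.ProjSpace r k).Opens)) :=
  AddSubgroup.closure {z | ∃ (y : MvPolynomial (Fin (r + 1)) k) (hy : y ∈ GrSyz.stdGr k (Fin (r + 1)) (1 : ℤ))
    (s : Γ(T k r ℳ n, (⊤ : (CohB1.ProjSpace r k).Opens))), y ∈ L ∧ z = (mu y hy n).app ⊤ s}

theorem Mul_mono {L L' : List (MvPolynomial (Fin (r + 1)) k)} (h : ∀ y ∈ L, y ∈ L') (n : ℤ) :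
    Mul k r ℳ L n ≤ Mul k r ℳ L' n :=
  AddSubgroup.closure_mono fun _ ⟨y, hy, s, hyL, hz⟩ => ⟨y, hy, s, h y hyL, hz⟩

theorem app_surjective_of_isIso {X : Scheme.{u}} {A B : X.Modules} (φ : A ⟶ B) [IsIso φ] (U : X.Opens) :
    Function.Surjective (φ.app U) := fun s => ⟨(inv φ).app U s,
  ConcreteCategory.congr_hom (congrArg (fun ψ => Scheme.Modules.Hom.app ψ U) (IsIso.inv_hom_id φ)) s⟩

variable {P τ₃ : Type u} [AddCommGroup P] [Module (MvPolynomial (Fin (r + 1)) k) P] [SetLike τ₃ P]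
  [AddSubgroupClass τ₃ P] {𝒫' : ℤ → τ₃} [Decomposition 𝒫'] [SetLike.GradedSMul (GrSyz.stdGr k (Fin (r + 1))) 𝒫']

/-- Adding one form to the span. -/
theorem exists_mem_Mul_cone {L : List (MvPolynomial (Fin (r + 1)) k)} {y : MvPolynomial (Fin (r + 1)) k}
    (hy : y ∈ GrSyz.stdGr k (Fin (r + 1)) (1 : ℤ))
    (e : M ≃ₗ[MvPolynomial (Fin (r + 1)) k] N) (he : GrLC.IsGrHom ℳ 𝒩 e.toLinearMap)
    (d₀ : P →ₗ[MvPolynomial (Fin (r + 1)) k] N) (hd₀ : GrLC.IsGrHom 𝒫' 𝒩 d₀)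
    [Decomposition (shiftGr 𝒩 (-1))] [Decomposition (prodGr 𝒫' (shiftGr 𝒩 (-1)))]
    (d : P × N →ₗ[MvPolynomial (Fin (r + 1)) k] N) (hd : GrLC.IsGrHom (prodGr 𝒫' (shiftGr 𝒩 (-1))) 𝒩 d)
    (hdeq : ∀ p q, d (p, q) = d₀ p + y • q) (n : ℤ)
    (ih : ∀ t, ∃ z ∈ Mul k r ℳ L n, (Tmap e.toLinearMap he (n + 1)).app ⊤ z = (Tmap d₀ hd₀ (n + 1)).app ⊤ t)
    (t : Γ(T k r (prodGr 𝒫' (shiftGr 𝒩 (-1))) (n + 1), (⊤ : (CohB1.ProjSpace r k).Opens))) :
    ∃ z ∈ Mul k r ℳ (y :: L) n, (Tmap e.toLinearMap he (n + 1)).app ⊤ z = (Tmap d hd (n + 1)).app ⊤ t := by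
  have hfst : GrLC.IsGrHom (prodGr 𝒫' (shiftGr 𝒩 (-1))) 𝒫' (LinearMap.fst (MvPolynomial (Fin (r + 1)) k) P N) :=
    fun _ _ hx => (mem_prodGr.1 hx).1
  have hsnd : GrLC.IsGrHom (prodGr 𝒫' (shiftGr 𝒩 (-1))) (shiftGr 𝒩 (-1))
      (LinearMap.snd (MvPolynomial (Fin (r + 1)) k) P N) := fun _ _ hx => (mem_prodGr.1 hx).2
  have hraise : ∀ i m, m ∈ 𝒩 i ↔ m ∈ shiftGr 𝒩 (-1) (i + ((1 : ℕ) : ℤ)) := fun i m => by
    rw [GrLib.mem_shiftGr, Nat.cast_one, add_neg_cancel_right]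
  obtain ⟨z₁, hz₁, hz₁'⟩ := ih ((Tmap _ hfst (n + 1)).app ⊤ t)
  haveI := isIso_Traise (k := k) (r := r) (ℳ := shiftGr 𝒩 (-1)) (ℳ₂ := 𝒩) 1 hraise (n := n) (n' := n + 1) rfl
  obtain ⟨t₂, ht₂⟩ := app_surjective_of_isIso
    (Traise (k := k) (r := r) (ℳ := shiftGr 𝒩 (-1)) (ℳ₂ := 𝒩) 1 hraise (n := n) (n' := n + 1) rfl) ⊤
    ((Tmap _ hsnd (n + 1)).app ⊤ t)
  haveI := isIso_Tmap e.toLinearMap he e.bijective n
  obtain ⟨t₃, ht₃⟩ := app_surjective_of_isIso (Tmap e.toLinearMap he n) ⊤ t₂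
  refine ⟨z₁ + (mu y hy n).app ⊤ t₃, add_mem (Mul_mono (fun w hw => List.mem_cons_of_mem y hw) n hz₁)
    (AddSubgroup.subset_closure ⟨y, hy, t₃, List.mem_cons_self, rfl⟩), amb_inj fun x => ?_⟩
  have h1 : GrMod.locMap e.toLinearMap x.1 (amb z₁ x) =
      GrMod.locMap d₀ x.1 (GrMod.locMap (LinearMap.fst (MvPolynomial (Fin (r + 1)) k) P N) x.1 (amb t x)) := by
    rw [← amb_Tmap _ he, hz₁', amb_Tmap _ hd₀, amb_Tmap _ hfst]
  have h2 : GrMod.locMap e.toLinearMap x.1 (amb t₃ x) =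
      GrMod.locMap (LinearMap.snd (MvPolynomial (Fin (r + 1)) k) P N) x.1 (amb t x) := by
    rw [← amb_Tmap _ he, ht₃, ← amb_Tmap _ hsnd, ← ht₂, amb_Traise]
  have h3 : ∀ q : GrMod.LocMod (CohB1.polyGrading r k) (M := P × N) x.1,
      GrMod.locMap d₀ x.1 (GrMod.locMap (LinearMap.fst (MvPolynomial (Fin (r + 1)) k) P N) x.1 q) +
        y • GrMod.locMap (LinearMap.snd (MvPolynomial (Fin (r + 1)) k) P N) x.1 q = GrMod.locMap d x.1 q := by
    intro q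
    induction q using LocalizedModule.induction_on with
    | h m s =>
      rw [GrMod.locMap_mk, GrMod.locMap_mk, GrMod.locMap_mk, GrMod.locMap_mk, LocalizedModule.smul'_mk]
      refine LocalizedModule.mk_add_mk.trans (LocalizedModule.mk_eq.mpr ⟨1, ?_⟩)
      show (1 : x.1.asHomogeneousIdeal.toIdeal.primeCompl) • s • (s • d₀ m.1 + s • (y • m.2)) =
        (1 : x.1.asHomogeneousIdeal.toIdeal.primeCompl) • (s * s) • d m
      rw [show d m = d₀ m.1 + y • m.2 from hdeq m.1 m.2]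
      simp only [one_smul, mul_smul, smul_add]
  rw [amb_Tmap, amb_Tmap, amb_add, amb_mu, map_add (GrMod.locMap e.toLinearMap x.1)]
  refine Eq.trans ?_ (h3 _)
  rw [← h1, ← h2]
  exact congrArg _ (locMap_smul e.toLinearMap x.1 y (amb t₃ x))

end Groth.Agent.CAlgH3.PSections

end
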