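import Groth.Agent.CAlgH3.PFree
import Groth.Agent.CAlgH3.PSections
import Groth.Agent.GrLib.Koszul
import Groth.Agent.GrLib.Std

/-!
# Castelnuovo's argument through Koszul complexes

If the sheaf of a graded module is `d`-regular and `M_d` surjects onto the sections of `M(d)~`, the same
holds in all higher degrees, and `M` is generated in degrees at most `d` once it is torsion free above `d`.
-/

set_option autoImplicit false
set_option linter.unusedSectionVars false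
set_option backward.isDefEq.respectTransparency.types false

universe u

open DirectSum AlgebraicGeometry CategoryTheory TopologicalSpace Opposite MvPolynomial
open Groth.Agent.GrLib
open Groth.Agent.CAlgH3.GrModExact Groth.Agent.CAlgH3.PosPart Groth.Agent.CAlgH3.PTilde
open Groth.Agent.CAlgH3.PRing Groth.Agent.CAlgH3.ModCohSeq Groth.Agent.CAlgH3.PFree Groth.Agent.CAlgH3.PSections

noncomputable section

namespace Groth.Agent.CAlgH3.PKoszul

variable {k : Type u} [Field k] {r : ℕ}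
variable {M τ : Type u} [AddCommGroup M] [Module (MvPolynomial (Fin (r + 1)) k) M] [SetLike τ M]
  [AddSubgroupClass τ M] {ℳ : ℤ → τ} [Decomposition ℳ] [SetLike.GradedSMul (GrSyz.stdGr k (Fin (r + 1))) ℳ]

variable (k r ℳ) in
/-- The sheaf of `M` is `d`-regular in degree `e`. -/
def Reg (e : ℤ) : Prop := ∀ i : ℕ, 1 ≤ i → V (T k r ℳ (e - i)) i

section prod

variable {N τ' : Type u} [AddCommGroup N] [Module (MvPolynomial (Fin (r + 1)) k) N] [SetLike τ' N]
  [AddSubgroupClass τ' N] {𝒩 : ℤ → τ'} [Decomposition 𝒩] [SetLike.GradedSMul (GrSyz.stdGr k (Fin (r + 1))) 𝒩]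
  [Decomposition (prodGr ℳ 𝒩)]

theorem inl_grHom : GrLC.IsGrHom ℳ (prodGr ℳ 𝒩) (LinearMap.inl (MvPolynomial (Fin (r + 1)) k) M N) :=
  fun _ _ hx => mem_prodGr.2 ⟨hx, zero_mem _⟩

theorem snd_grHom : GrLC.IsGrHom (prodGr ℳ 𝒩) 𝒩 (LinearMap.snd (MvPolynomial (Fin (r + 1)) k) M N) :=
  fun _ _ hx => (mem_prodGr.1 hx).2

theorem V_prod {n : ℤ} {q : ℕ} (h1 : V (T k r ℳ n) q) (h2 : V (T k r 𝒩 n) q) : V (T k r (prodGr ℳ 𝒩) n) q :=
  V_mid (shortExact_Tmap _ inl_grHom _ snd_grHom LinearMap.inl_injective LinearMap.snd_surjective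
    Function.Exact.inl_snd n) h1 h2

theorem globSurj_prod {n : ℤ} (hn : 0 ≤ n) (h1 : GlobSurj k r ℳ n) (h2 : GlobSurj k r 𝒩 n) :
    GlobSurj k r (prodGr ℳ 𝒩) n :=
  globSurj_extension _ inl_grHom _ snd_grHom LinearMap.inl_injective LinearMap.snd_surjective
    Function.Exact.inl_snd hn h1 h2

end prod

theorem exists_mem_Mul_cx (C : GCx (GrSyz.stdGr k (Fin (r + 1)))) {L : List (MvPolynomial (Fin (r + 1)) k)}
    {y : MvPolynomial (Fin (r + 1)) k} (hy : y ∈ GrSyz.stdGr k (Fin (r + 1)) (1 : ℤ))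
    (e : M ≃ₗ[MvPolynomial (Fin (r + 1)) k] (C.X 0).carrier) (he : GrLC.IsGrHom ℳ (C.X 0).gr e.toLinearMap) (n : ℤ)
    (ih : ∀ t, ∃ z ∈ Mul k r ℳ L n,
      (Tmap e.toLinearMap he (n + 1)).app ⊤ z = (Tmap (C.d 0) (C.grHom 0) (n + 1)).app ⊤ t)
    (t : Γ(T k r ((C.cone hy).X 1).gr (n + 1), (⊤ : (CohB1.ProjSpace r k).Opens))) :
    ∃ z ∈ Mul k r ℳ (y :: L) n,
      (Tmap e.toLinearMap he (n + 1)).app ⊤ z = (Tmap ((C.cone hy).d 0) ((C.cone hy).grHom 0) (n + 1)).app ⊤ t := by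
  letI := shiftDecomp (C.X 0).gr (-1)
  letI := prodDecomp (C.X 1).gr (shiftGr (C.X 0).gr (-1))
  have hd : GrLC.IsGrHom (prodGr (C.X 1).gr (shiftGr (C.X 0).gr (-1))) (C.X 0).gr (C.coneD y 0) :=
    C.coneD_grHom hy 0
  exact exists_mem_Mul_cone hy e he (C.d 0) (C.grHom 0) (C.coneD y 0) hd (fun _ _ => rfl) n ih t

theorem exists_cx (L : List (MvPolynomial (Fin (r + 1)) k))
    (hL : ∀ y ∈ L, y ∈ GrSyz.stdGr k (Fin (r + 1)) (1 : ℤ)) :
    ∃ (C : GCx (GrSyz.stdGr k (Fin (r + 1)))) (e : M ≃ₗ[MvPolynomial (Fin (r + 1)) k] (C.X 0).carrier),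
      GrLC.IsGrHom ℳ (C.X 0).gr e.toLinearMap ∧ (∀ y ∈ L, C.Kills y) ∧
      (∀ x, e.symm (C.d 0 x) ∈ Ideal.span {y | y ∈ L} • (⊤ : Submodule (MvPolynomial (Fin (r + 1)) k) M)) ∧
      (∀ p n q, V (T k r ℳ (n - (p : ℕ))) q → V (T k r (C.X p).gr n) q) ∧
      (∀ (p : ℕ) (n : ℤ), 0 ≤ n - (p : ℤ) → GlobSurj k r ℳ (n - (p : ℤ)) → GlobSurj k r (C.X p).gr n) ∧
      (∀ (he : GrLC.IsGrHom ℳ (C.X 0).gr e.toLinearMap) (n : ℤ) t, ∃ z ∈ Mul k r ℳ L n,
        (Tmap e.toLinearMap he (n + 1)).app ⊤ z = (Tmap (C.d 0) (C.grHom 0) (n + 1)).app ⊤ t) := by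
  induction L with
  | nil =>
    refine ⟨GCx.single _ ℳ, LinearEquiv.refl _ M, fun j x hx => ?_, by simp, fun x => ?_, fun p n q h => ?_,
      fun p n hn h => ?_, fun he n t => ⟨0, zero_mem _, ?_⟩⟩
    · show x ∈ shiftGr ℳ 0 j
      rw [mem_shiftGr, add_zero]
      exact hx
    · exact (Submodule.zero_mem _)
    · cases p with
      | zero =>
        letI := shiftDecomp ℳ 0
        show V (T k r (shiftGr ℳ 0) n) q
        exact V_shift (ℳ := ℳ) 0 (fun i m => GrLib.mem_shiftGr) (by simpa using h)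
      | succ p =>
        haveI : Subsingleton ((GCx.single (GrSyz.stdGr k (Fin (r + 1))) ℳ).X (p + 1)).carrier :=
          inferInstanceAs (Subsingleton (⊥ : Submodule (MvPolynomial (Fin (r + 1)) k) M))
        exact V_of_subsingleton n q
    · cases p with
      | zero =>
        letI := shiftDecomp ℳ 0
        show GlobSurj k r (shiftGr ℳ 0) n
        exact globSurj_shift (ℳ := ℳ) 0 (fun i m => GrLib.mem_shiftGr) (by simpa using hn) (by simpa using h)
      | succ p =>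
        haveI : Subsingleton ((GCx.single (GrSyz.stdGr k (Fin (r + 1))) ℳ).X (p + 1)).carrier :=
          inferInstanceAs (Subsingleton (⊥ : Submodule (MvPolynomial (Fin (r + 1)) k) M))
        exact globSurj_of_subsingleton n
    · haveI : Subsingleton ((GCx.single (GrSyz.stdGr k (Fin (r + 1))) ℳ).X (0 + 1)).carrier :=
        inferInstanceAs (Subsingleton (⊥ : Submodule (MvPolynomial (Fin (r + 1)) k) M))
      rw [sect_eq_zero_of_subsingleton t, map_zero, map_zero]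
  | cons y L ih =>
    obtain ⟨C, e, he, hk, hspan, hV, hG, hM⟩ := ih fun w hw => hL w (List.mem_cons_of_mem y hw)
    have hy := hL y List.mem_cons_self
    refine ⟨C.cone hy, e, he, fun w hw => ?_, fun x => ?_, fun p n q h => ?_,
      fun p n hn h => ?_, fun he' n t => ?_⟩
    · rcases List.mem_cons.1 hw with rfl | hw
      · exact C.kills_cone_self hy
      · exact GCx.kills_cone C hy (hk w hw)
    · obtain ⟨x₁, x₂⟩ := x
      show e.symm (C.d 0 x₁ + y • x₂) ∈ _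
      refine Set.mem_of_eq_of_mem ((e.symm.map_add _ _).trans (congrArg _ (e.symm.map_smul y x₂))) (add_mem ?_ ?_)
      · exact Submodule.smul_mono (Ideal.span_mono fun w hw => List.mem_cons_of_mem y hw) le_rfl (hspan x₁)
      · exact Submodule.smul_mem_smul (Ideal.subset_span (show y ∈ {w | w ∈ y :: L} from List.mem_cons_self))
          trivial
    · cases p with
      | zero => exact hV 0 n q h
      | succ p =>
        letI := shiftDecomp (C.X p).gr (-1)
        letI := prodDecomp (C.X (p + 1)).gr (shiftGr (C.X p).gr (-1))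
        have h1 := hV (p + 1) n q h
        have h2 : V (T k r (shiftGr (C.X p).gr (-1)) n) q :=
          V_shift (ℳ := (C.X p).gr) (-1) (fun i m => GrLib.mem_shiftGr) (hV p _ q (by
            rwa [show n + -1 - (p : ℤ) = n - ((p + 1 : ℕ) : ℤ) by push_cast; ring]))
        exact V_prod h1 h2
    · cases p with
      | zero => exact hG 0 n hn h
      | succ p =>
        letI := shiftDecomp (C.X p).gr (-1)
        letI := prodDecomp (C.X (p + 1)).gr (shiftGr (C.X p).gr (-1))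
        have h2 : GlobSurj k r (shiftGr (C.X p).gr (-1)) n :=
          globSurj_shift (ℳ := (C.X p).gr) (-1) (fun i m => GrLib.mem_shiftGr) (by omega) (hG p _ (by omega) (by
            rwa [show n + -1 - (p : ℤ) = n - ((p + 1 : ℕ) : ℤ) by push_cast; ring]))
        exact globSurj_prod (by omega) (hG (p + 1) n hn h) h2
    · exact exists_mem_Mul_cx C hy e he' n (hM he' n) t

theorem mem_span_pred {x : M} (hx : x ∈ (Ideal.span (Set.range (X : Fin (r + 1) → MvPolynomial (Fin (r + 1)) k)) •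
    (⊤ : Submodule (MvPolynomial (Fin (r + 1)) k) M))) (n : ℤ) :
    proj ℳ n x ∈ Submodule.span (MvPolynomial (Fin (r + 1)) k) {m : M | m ∈ ℳ (n - 1)} := by
  refine Submodule.smul_induction_on hx (fun a ha y _ => ?_) fun y z hy hz => by rw [map_add]; exact add_mem hy hz
  induction ha using Submodule.span_induction generalizing y with
  | mem b hb =>
    obtain ⟨l, rfl⟩ := hb
    rw [proj_smul' (ℳ := ℳ) (X_mem_stdGr k (r + 1) l)]
    exact Submodule.smul_mem _ _ (Submodule.subset_span (proj_mem ℳ _ _))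
  | zero => rw [zero_smul, map_zero]; exact zero_mem _
  | add a b _ _ iha ihb => rw [add_smul, map_add]; exact add_mem (iha y trivial) (ihb y trivial)
  | smul c a _ iha => rw [smul_eq_mul, mul_comm, mul_smul]; exact iha _ trivial

theorem isGlob_sub {n : ℤ} {s s' : Γ(T k r ℳ n, (⊤ : (CohB1.ProjSpace r k).Opens))}
    {m m' : pos (GrSyz.stdGr k (Fin (r + 1))) ℳ} (h : IsGlob n s m) (h' : IsGlob n s' m') :
    IsGlob n (s - s') (m - m') :=
  ⟨sub_mem h.1 h'.1, fun x => (congrArg₂ (· - ·) (h.2 x) (h'.2 x)).trans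
    ((LocalizedModule.mkLinearMap _ _).map_sub m m').symm⟩

section cx

variable (C : GCx (GrSyz.stdGr k (Fin (r + 1)))) (hkill : ∀ l : Fin (r + 1), C.Kills (X l))

theorem cx_comp_eq_zero (n : ℤ) (p : ℕ) :
    Tmap (C.d (p + 1)) (C.grHom (p + 1)) n ≫ Tmap (C.d p) (C.grHom p) n = 0 :=
  Tmap_comp_eq_zero _ _ _ _ (fun x => C.dd p x) n

include hkill in
theorem cx_exact (n : ℤ) (p : ℕ) : (ShortComplex.mk (Tmap (C.d (p + 1)) (C.grHom (p + 1)) n)
    (Tmap (C.d p) (C.grHom p) n) (cx_comp_eq_zero C n p)).Exact :=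
  exact_Tmap _ _ _ _ (fun x => C.dd p x) (fun a ha l => (hkill l).2 p a ha) n

include hkill in
theorem cx_V (n : ℤ) (i : ℕ) (h : ∀ q, V (T k r (C.X (q + 1)).gr n) (i + q)) : V (T k r (C.X 0).gr n) i :=
  haveI : Epi (Tmap (C.d 0) (C.grHom 0) n) := epi_Tmap _ _ (fun a l => (hkill l).1 a) n
  V_resolved (fun p => T k r (C.X p).gr n) (fun p => Tmap (C.d p) (C.grHom p) n) (cx_comp_eq_zero C n)
    (cx_exact C hkill n) (fun p => isQCoh_T _) r V_above i h

include hkill in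
theorem cx_isGlob_range {n : ℤ} (h : ∀ q, V (T k r (C.X (q + 2)).gr n) (q + 1))
    (h1 : GlobSurj k r (C.X 1).gr n) (s : Γ(T k r (C.X 0).gr n, (⊤ : (CohB1.ProjSpace r k).Opens))) :
    ∃ m : pos (GrSyz.stdGr k (Fin (r + 1))) (C.X 1).gr, IsGlob n s (posMap (C.d 0) (C.grHom 0) m) := by
  haveI : Epi (Tmap (C.d 0) (C.grHom 0) n) := epi_Tmap _ _ (fun a l => (hkill l).1 a) n
  obtain ⟨t, rfl⟩ := surjective_resolved (fun p => T k r (C.X p).gr n) (fun p => Tmap (C.d p) (C.grHom p) n)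
    (cx_comp_eq_zero C n) (cx_exact C hkill n) (fun p => isQCoh_T _) r V_above h s
  obtain ⟨m, hm⟩ := h1 t
  exact ⟨m, isGlob_map _ (C.grHom 0) hm⟩

variable (ε : M ≃ₗ[MvPolynomial (Fin (r + 1)) k] (C.X 0).carrier) (hε : GrLC.IsGrHom ℳ (C.X 0).gr ε.toLinearMap)

include hε in
theorem symm_grHom : GrLC.IsGrHom (C.X 0).gr ℳ ε.symm.toLinearMap := fun n x hx => by
  have h1 := proj_map hε n (ε.symm x)
  rw [LinearEquiv.coe_coe, ε.apply_symm_apply, proj_of_mem hx] at h1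
  have h2 := congrArg ε.symm h1
  rw [ε.symm_apply_apply] at h2
  exact Set.mem_of_eq_of_mem h2 (proj_mem ℳ _ _)

include hε in
theorem V_of_V_zero {n : ℤ} {q : ℕ} (h : V (T k r (C.X 0).gr n) q) : V (T k r ℳ n) q :=
  haveI := isIso_Tmap ε.toLinearMap hε ε.bijective n
  V_of_isIso' (Tmap ε.toLinearMap hε n) h

include hε in
theorem mem_span_of_range {j : ℕ} (hfree : TorFree k r ℳ j)
    (himg : ∀ s : Γ(T k r (C.X 0).gr (j : ℤ), (⊤ : (CohB1.ProjSpace r k).Opens)),
      ∃ m : pos (GrSyz.stdGr k (Fin (r + 1))) (C.X 1).gr, IsGlob (j : ℤ) s (posMap (C.d 0) (C.grHom 0) m))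
    (hspan : ∀ x, ε.symm (C.d 0 x) ∈ Ideal.span (Set.range (X : Fin (r + 1) → MvPolynomial (Fin (r + 1)) k)) •
      (⊤ : Submodule (MvPolynomial (Fin (r + 1)) k) M))
    {x : M} (hx : x ∈ ℳ (j : ℤ)) :
    x ∈ Submodule.span (MvPolynomial (Fin (r + 1)) k) {m : M | m ∈ ℳ ((j : ℤ) - 1)} := by
  obtain ⟨s, hs⟩ := exists_isGlob (k := k) (r := r) (hε _ _ hx)
  obtain ⟨m, hm⟩ := himg s
  have hfree' : TorFree k r (C.X 0).gr j := fun y hy hl => by
    have := hfree (ε.symm y) (symm_grHom C ε hε _ _ hy) fun l => by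
      obtain ⟨i, hi⟩ := hl l
      exact ⟨i, by rw [← map_smul, hi, map_zero]⟩
    simpa using congrArg ε this
  have hz := (isGlob_sub hs hm).eq_zero (Int.natCast_nonneg j) hfree' (sub_self s)
  have hxd : x = ε.symm (C.d 0 m.1) := by
    have := congrArg Subtype.val (sub_eq_zero.1 hz)
    exact (ε.symm_apply_apply x).symm.trans (congrArg ε.symm this)
  have h2 := mem_span_pred (r := r) (x := x) (ℳ := ℳ) (hxd ▸ hspan m.1) (j : ℤ)
  rwa [proj_of_mem hx] at h2

end cx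

theorem app_injective_T {N τ' : Type u} [AddCommGroup N] [Module (MvPolynomial (Fin (r + 1)) k) N] [SetLike τ' N]
    [AddSubgroupClass τ' N] {𝒩 : ℤ → τ'} [Decomposition 𝒩] [SetLike.GradedSMul (GrSyz.stdGr k (Fin (r + 1))) 𝒩]
    (e : M ≃ₗ[MvPolynomial (Fin (r + 1)) k] N) (he : GrLC.IsGrHom ℳ 𝒩 e.toLinearMap) (n : ℤ) :
    Function.Injective ((Tmap e.toLinearMap he n).app (⊤ : (CohB1.ProjSpace r k).Opens)) := by
  haveI := isIso_Tmap e.toLinearMap he e.bijective n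
  intro a b h
  have h2 := congrArg ((inv (Tmap e.toLinearMap he n)).app (⊤ : (CohB1.ProjSpace r k).Opens)) h
  have hid := fun a => ConcreteCategory.congr_hom (congrArg (fun φ => Scheme.Modules.Hom.app φ
    (⊤ : (CohB1.ProjSpace r k).Opens)) (IsIso.hom_inv_id (Tmap e.toLinearMap he n))) a
  exact ((hid a).symm.trans h2).trans (hid b)

/-- One step of the induction on the degree. -/
theorem step {e : ℤ} (he : 0 ≤ e) (hreg : Reg k r ℳ e) (hG : GlobSurj k r ℳ e) :
    Reg k r ℳ (e + 1) ∧ GlobSurj k r ℳ (e + 1) ∧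
      (TorFree k r ℳ (e + 1) → ∀ x ∈ ℳ (e + 1),
        x ∈ Submodule.span (MvPolynomial (Fin (r + 1)) k) {m : M | m ∈ ℳ e}) := by
  obtain ⟨C, ε, hε, hk, hspan, hV, hGC, -⟩ := exists_cx (ℳ := ℳ)
    (List.ofFn (X : Fin (r + 1) → MvPolynomial (Fin (r + 1)) k)) fun y hy => by
    obtain ⟨l, rfl⟩ := List.mem_ofFn.1 hy
    exact X_mem_stdGr k (r + 1) l
  have hkill : ∀ l : Fin (r + 1), C.Kills (X l) := fun l => hk _ (List.mem_ofFn.2 ⟨l, rfl⟩)
  have hspan' : ∀ x, ε.symm (C.d 0 x) ∈ Ideal.span (Set.range (X : Fin (r + 1) → MvPolynomial (Fin (r + 1)) k)) •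
      (⊤ : Submodule (MvPolynomial (Fin (r + 1)) k) M) := fun x => by
    have h := hspan x
    rwa [show {y | y ∈ List.ofFn (X : Fin (r + 1) → MvPolynomial (Fin (r + 1)) k)} = Set.range X from
      Set.ext fun y => List.mem_ofFn] at h
  have himg : ∀ s, ∃ m : pos (GrSyz.stdGr k (Fin (r + 1))) (C.X 1).gr,
      IsGlob (e + 1) s (posMap (C.d 0) (C.grHom 0) m) := by
    refine cx_isGlob_range C hkill (fun q => hV (q + 2) _ _ ?_) (hGC 1 (e + 1) (by push_cast; omega) (by simpa using hG))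
    have := hreg (q + 1) (by omega)
    rwa [show e + 1 - ((q + 2 : ℕ) : ℤ) = e - ((q + 1 : ℕ) : ℤ) by push_cast; ring]
  refine ⟨fun i hi => V_of_V_zero C ε hε (cx_V C hkill _ i fun q => hV (q + 1) _ _ ?_),
    globSurj_of_bijective ε.symm.toLinearMap (symm_grHom C ε hε) ε.symm.bijective
      fun s => ⟨_, (himg s).choose_spec⟩, fun hfree x hx => ?_⟩
  · have := hreg (i + q) (by omega)
    rwa [show e + 1 - (i : ℤ) - ((q + 1 : ℕ) : ℤ) = e - ((i + q : ℕ) : ℤ) by push_cast; ring]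
  · obtain ⟨j, hj⟩ : ∃ j : ℕ, e + 1 = j := ⟨(e + 1).toNat, (Int.toNat_of_nonneg (by omega)).symm⟩
    rw [show e = (j : ℤ) - 1 by omega]
    rw [hj] at himg hfree hx
    exact mem_span_of_range C ε hε hfree himg hspan' hx

/-- Castelnuovo: regularity propagates, and the sections one degree up are products with linear forms. -/
theorem reg_succ_and_mem_Mul {e : ℤ} (hreg : Reg k r ℳ e) :
    Reg k r ℳ (e + 1) ∧ ∀ z, z ∈ Mul k r ℳ (List.ofFn (X : Fin (r + 1) → MvPolynomial (Fin (r + 1)) k)) e := by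
  obtain ⟨C, ε, hε, hk, -, hV, -, hM⟩ := exists_cx (ℳ := ℳ)
    (List.ofFn (X : Fin (r + 1) → MvPolynomial (Fin (r + 1)) k)) fun y hy => by
    obtain ⟨l, rfl⟩ := List.mem_ofFn.1 hy
    exact X_mem_stdGr k (r + 1) l
  have hkill : ∀ l : Fin (r + 1), C.Kills (X l) := fun l => hk _ (List.mem_ofFn.2 ⟨l, rfl⟩)
  refine ⟨fun i hi => V_of_V_zero C ε hε (cx_V C hkill _ i fun q => hV (q + 1) _ _ ?_), fun z => ?_⟩
  · have := hreg (i + q) (by omega)
    rwa [show e + 1 - (i : ℤ) - ((q + 1 : ℕ) : ℤ) = e - ((i + q : ℕ) : ℤ) by push_cast; ring]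
  · haveI : Epi (Tmap (C.d 0) (C.grHom 0) (e + 1)) := epi_Tmap _ _ (fun a l => (hkill l).1 a) _
    obtain ⟨t, ht⟩ := surjective_resolved (fun p => T k r (C.X p).gr (e + 1))
      (fun p => Tmap (C.d p) (C.grHom p) (e + 1)) (cx_comp_eq_zero C (e + 1)) (cx_exact C hkill (e + 1))
      (fun p => isQCoh_T _) r V_above (fun q => hV (q + 2) _ _ (by
        have := hreg (q + 1) (by omega)
        rwa [show e + 1 - ((q + 2 : ℕ) : ℤ) = e - ((q + 1 : ℕ) : ℤ) by push_cast; ring]))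
      ((Tmap ε.toLinearMap hε (e + 1)).app ⊤ z)
    obtain ⟨w, hw, hw'⟩ := hM hε e t
    rw [show z = w from app_injective_T ε hε _ (ht.symm.trans hw'.symm)]
    exact hw

/-- The conclusion in all degrees `≥ d`. -/
theorem reg_and_globSurj {d : ℤ} (hd : 0 ≤ d) (hreg : Reg k r ℳ d) (hG : GlobSurj k r ℳ d) :
    ∀ e, d ≤ e → Reg k r ℳ e ∧ GlobSurj k r ℳ e := by
  intro e he
  induction e, he using Int.leInduction with
  | base => exact ⟨hreg, hG⟩
  | succ e he ih =>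
    obtain ⟨h1, h2, -⟩ := step (by omega) ih.1 ih.2
    exact ⟨h1, h2⟩

/-- `M` is generated in degrees at most `d`. -/
theorem mem_span_of_lt {d : ℤ} (hd : 0 ≤ d) (hreg : Reg k r ℳ d) (hG : GlobSurj k r ℳ d)
    (hfree : ∀ e, d < e → TorFree k r ℳ e) (e : ℤ) (he : d < e) :
    ∀ x ∈ ℳ e, x ∈ Submodule.span (MvPolynomial (Fin (r + 1)) k) {m : M | m ∈ ℳ (e - 1)} := by
  obtain ⟨h1, h2⟩ := reg_and_globSurj hd hreg hG (e - 1) (by omega)
  obtain ⟨-, -, h3⟩ := step (by omega) h1 h2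
  rw [sub_add_cancel] at h3
  exact h3 (hfree e he)

end Groth.Agent.CAlgH3.PKoszul

end
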