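import Groth.Agent.CommAlg6.PdBaseChange
import Mathlib.RingTheory.MvPolynomial.Ideal
import Mathlib.Algebra.MvPolynomial.Equiv
import Mathlib.RingTheory.Flat.Basic
import Mathlib.Algebra.Polynomial.AlgebraMap
import Mathlib.Algebra.Polynomial.Basis
import Mathlib.RingTheory.MvPolynomial.Basic
import Mathlib.Algebra.Homology.ShortComplex.ModuleCat

/-! Projective dimension over polynomial rings. -/

set_option autoImplicit false
set_option backward.isDefEq.respectTransparency.types false
universe u

open TensorProduct CategoryTheory Polynomial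
open Groth.Agent.CommAlg6 (PdLE)

namespace Groth.Agent.CAlgH3.PdPolynomial

variable {S B : Type u} [CommRing S] [CommRing B] [Algebra S B] (e : S[X] ≃ₐ[S] B)
variable (N : Type u) [AddCommGroup N] [Module B N] [Module S N] [IsScalarTower S B N]

/-- multiplication -/
noncomputable def act : B ⊗[S] N →ₗ[B] N :=
  AlgebraTensorModule.lift ((LinearMap.lsmul B N).restrictScalars B |>.flip.restrictScalars S |>.flip)

/-- the characteristic endomorphism -/
noncomputable def chi : B ⊗[S] N →ₗ[B] B ⊗[S] N :=
  AlgebraTensorModule.lTensor B B (((e Polynomial.X) • (LinearMap.id : N →ₗ[B] N)).restrictScalars S) -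
    (e Polynomial.X) • LinearMap.id

theorem act_tmul (b : B) (n : N) : act N (b ⊗ₜ[S] n) = b • n := rfl

theorem chi_tmul (b : B) (n : N) :
    chi e N (b ⊗ₜ[S] n) = b ⊗ₜ[S] (e Polynomial.X • n) - (e Polynomial.X * b) ⊗ₜ[S] n := by
  simp [chi, TensorProduct.smul_tmul']

theorem act_surjective : Function.Surjective (act (S := S) (B := B) N) := fun n =>
  ⟨1 ⊗ₜ n, one_smul B n⟩

theorem act_comp_chi : act N ∘ₗ chi e N = 0 := by
  refine AlgebraTensorModule.curry_injective (LinearMap.ext fun b => LinearMap.ext fun n => ?_)
  show act N (chi e N (b ⊗ₜ n)) = 0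
  rw [chi_tmul, map_sub, act_tmul, act_tmul, smul_smul, mul_comm, sub_self]

theorem ker_act_le : LinearMap.ker (act (S := S) (B := B) N) ≤ LinearMap.range (chi e N) := by
  have key : ∀ (b : B) (n : N), b ⊗ₜ[S] n - 1 ⊗ₜ[S] (b • n) ∈ LinearMap.range (chi e N) := by
    intro b n
    obtain ⟨p, rfl⟩ := e.surjective b
    induction p using Polynomial.induction_on' generalizing n with
    | add p q hp hq =>
      rw [map_add, add_tmul, add_smul, tmul_add]
      convert Submodule.add_mem _ (hp n) (hq n) using 1
      abel
    | monomial i s =>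
      induction i generalizing n with
      | zero =>
        rw [Polynomial.monomial_zero_left, ← Polynomial.algebraMap_eq, AlgEquiv.commutes, algebraMap_smul,
          Algebra.algebraMap_eq_smul_one, TensorProduct.smul_tmul, sub_self]
        exact Submodule.zero_mem _
      | succ i ih =>
        have h1 : e (Polynomial.monomial (i + 1) s) = e (Polynomial.monomial i s) * e Polynomial.X := by
          rw [← map_mul, Polynomial.monomial_mul_X]
        rw [h1, mul_smul]
        have h2 := ih (e Polynomial.X • n)
        have h3 : chi e N (e (Polynomial.monomial i s) ⊗ₜ[S] n) ∈ LinearMap.range (chi e N) := ⟨_, rfl⟩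
        rw [chi_tmul] at h3
        convert Submodule.sub_mem _ h2 h3 using 1
        rw [mul_comm (e (Polynomial.monomial i s))]
        abel
  intro x hx
  have hx' : x - 1 ⊗ₜ[S] act N x ∈ LinearMap.range (chi e N) := by
    clear hx
    induction x using TensorProduct.induction_on with
    | zero => simp
    | tmul b n => exact key b n
    | add x y hx hy =>
      rw [map_add, tmul_add]
      convert Submodule.add_mem _ hx hy using 1
      abel
  rwa [LinearMap.mem_ker.1 hx, tmul_zero, sub_zero] at hx'

theorem chi_injective : Function.Injective (chi e N) := by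
  classical
  let b : Module.Basis ℕ S B := (Polynomial.basisMonomials S).map e.toLinearEquiv
  let E : B ⊗[S] N ≃ₗ[S] (ℕ →₀ N) := TensorProduct.equivFinsuppOfBasisLeft b
  have hb : ∀ i, b i = e (Polynomial.monomial i (1 : S)) := fun i => by simp [b]
  have hE : ∀ i n, E.symm (Finsupp.single i n) = b i ⊗ₜ n := fun i n => by simp [E]
  let T : (ℕ →₀ N) →ₗ[S] (ℕ →₀ N) :=
    Finsupp.mapRange.linearMap (((e Polynomial.X) • (LinearMap.id : N →ₗ[B] N)).restrictScalars S) -
      Finsupp.lmapDomain N S Nat.succ
  have hT : ∀ x, chi e N (E.symm x) = E.symm (T x) := by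
    intro x
    induction x using Finsupp.induction_linear with
    | zero => simp
    | add f g hf hg => rw [map_add, map_add, hf, hg, map_add, map_add]
    | single i n =>
      have : T (Finsupp.single i n) = Finsupp.single i (e Polynomial.X • n) - Finsupp.single (i + 1) n := by
        simp [T]
      rw [hE, chi_tmul, this, map_sub, hE, hE, hb, hb, ← map_mul, Polynomial.X_mul_monomial]
  intro x y hxy
  refine sub_eq_zero.1 ?_
  have h0 : chi e N (x - y) = 0 := by rw [map_sub, hxy, sub_self]
  generalize x - y = z at h0 ⊢
  obtain ⟨f, rfl⟩ := E.symm.surjective z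
  rw [hT] at h0
  have hf : T f = 0 := E.symm.injective (h0.trans (map_zero _).symm)
  suffices f = 0 by rw [this, map_zero]
  by_contra hne
  obtain ⟨m, hm, hmax⟩ := f.support.exists_max_image id (Finsupp.support_nonempty_iff.2 hne)
  have h1 := DFunLike.congr_fun hf (m + 1)
  have h2 : f (m + 1) = 0 := Finsupp.notMem_support_iff.1 fun h => Nat.not_succ_le_self m (hmax _ h)
  have h3 : T f (m + 1) = e Polynomial.X • f (m + 1) - f m := by
    simp only [T, LinearMap.sub_apply, Finsupp.sub_apply, Finsupp.mapRange.linearMap_apply, Finsupp.mapRange_apply,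
      Finsupp.lmapDomain_apply]
    rw [show m + 1 = Nat.succ m from rfl, Finsupp.mapDomain_apply Nat.succ_injective]
    rfl
  rw [h3, h2, smul_zero, zero_sub] at h1
  exact Finsupp.mem_support_iff.1 hm (neg_eq_zero.1 h1)

include e in
theorem pdLE_step (d : ℕ) (h : PdLE S N d) : PdLE B N (d + 1) := by
  haveI : Module.Free S B := Module.Free.of_equiv e.toLinearEquiv
  have hb : HasProjectiveDimensionLE (ModuleCat.of B (B ⊗[S] N)) d := Groth.Agent.CommAlg6.pdLE_baseChange B d h
  let Sq : ShortComplex (ModuleCat.{u} B) := ShortComplex.mk (ModuleCat.ofHom (chi e N)) (ModuleCat.ofHom (act N))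
    (ModuleCat.hom_ext (act_comp_chi e N))
  haveI : Mono Sq.f := (ModuleCat.mono_iff_injective Sq.f).2 (chi_injective e N)
  haveI : Epi Sq.g := (ModuleCat.epi_iff_surjective Sq.g).2 (act_surjective N)
  have hS : Sq.ShortExact := ShortComplex.ShortExact.mk ((ShortComplex.moduleCat_exact_iff Sq).2
    fun x hx => ker_act_le e N hx)
  exact hS.hasProjectiveDimensionLT_X₃ (d + 1) hb (hasProjectiveDimensionLT_of_ge _ (d + 1) (d + 2) (by omega))

omit e in
theorem pdLE_mvPolynomial (A : Type u) [CommRing A] : ∀ (t : ℕ) (N : Type u) [AddCommGroup N]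
    [Module (MvPolynomial (Fin t) A) N] [Module A N] [IsScalarTower A (MvPolynomial (Fin t) A) N]
    [Module.Projective A N], PdLE (MvPolynomial (Fin t) A) N t := by
  intro t
  induction t with
  | zero =>
    intro N _ _ _ _ _
    let B := MvPolynomial (Fin 0) A
    have hbij : Function.Bijective (algebraMap A B) := ⟨MvPolynomial.C_injective _ _, fun p =>
      ⟨_, (MvPolynomial.eq_C_of_isEmpty p).symm⟩⟩
    refine (Groth.Agent.CommAlg6.pdLE_congr (R := B) (LinearEquiv.ofBijective (act (S := A) (B := B) N)
      ⟨?_, act_surjective N⟩) 0).1 (Groth.Agent.CommAlg6.pdLE_zero_iff.2 inferInstance)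
    have hone : ∀ x : B ⊗[A] N, x = 1 ⊗ₜ[A] act N x := by
      intro x
      induction x using TensorProduct.induction_on with
      | zero => simp
      | tmul b n =>
        obtain ⟨a, rfl⟩ := hbij.2 b
        rw [act_tmul, algebraMap_smul, Algebra.algebraMap_eq_smul_one, TensorProduct.smul_tmul]
      | add x y hx hy => rw [map_add, tmul_add, ← hx, ← hy]
    intro x y h
    rw [hone x, hone y, h]
  | succ t ih =>
    intro N _ _ _ _ _
    let S := MvPolynomial (Fin t) A
    letI : Algebra S (MvPolynomial (Fin (t + 1)) A) :=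
      (MvPolynomial.rename Fin.succ : S →ₐ[A] MvPolynomial (Fin (t + 1)) A).toRingHom.toAlgebra
    haveI : IsScalarTower A S (MvPolynomial (Fin (t + 1)) A) := IsScalarTower.of_algebraMap_eq fun a =>
      ((MvPolynomial.rename Fin.succ : S →ₐ[A] MvPolynomial (Fin (t + 1)) A).commutes a).symm
    have hcomm : ∀ s : S, MvPolynomial.finSuccEquiv A t (algebraMap S (MvPolynomial (Fin (t + 1)) A) s) = Polynomial.C s := by
      intro s
      show MvPolynomial.finSuccEquiv A t (MvPolynomial.rename Fin.succ s) = _
      induction s using MvPolynomial.induction_on with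
      | C a => simp [MvPolynomial.finSuccEquiv_apply]
      | add p q hp hq => rw [map_add, map_add, hp, hq, map_add]
      | mul_X p i hp => rw [map_mul, map_mul, hp, MvPolynomial.rename_X, MvPolynomial.finSuccEquiv_X_succ, map_mul]
    let e : S[X] ≃ₐ[S] MvPolynomial (Fin (t + 1)) A :=
      { (MvPolynomial.finSuccEquiv A t).toRingEquiv.symm with
        commutes' := fun s => (MvPolynomial.finSuccEquiv A t).injective
          (((MvPolynomial.finSuccEquiv A t).apply_symm_apply _).trans (hcomm s).symm) }
    letI : Module S N := Module.compHom N (algebraMap S (MvPolynomial (Fin (t + 1)) A))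
    haveI : IsScalarTower S (MvPolynomial (Fin (t + 1)) A) N := IsScalarTower.of_algebraMap_smul fun _ _ => rfl
    haveI : IsScalarTower A S N := IsScalarTower.of_algebraMap_smul fun a n => by
      show algebraMap S (MvPolynomial (Fin (t + 1)) A) (algebraMap A S a) • n = a • n
      rw [← IsScalarTower.algebraMap_apply A S (MvPolynomial (Fin (t + 1)) A), algebraMap_smul]
    exact pdLE_step e N t (ih N)

omit e in
theorem projective_quotient_pow (A : Type u) [CommRing A] (t n : ℕ) :
    Module.Projective A (MvPolynomial (Fin t) A ⧸ MvPolynomial.idealOfVars (Fin t) A ^ n) := by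
  classical
  let J := MvPolynomial.idealOfVars (Fin t) A ^ n
  let tr : MvPolynomial (Fin t) A →ₗ[A] MvPolynomial (Fin t) A :=
    (MvPolynomial.basisMonomials (Fin t) A).constr A
      (fun d => if d.degree < n then MvPolynomial.monomial d (1 : A) else 0)
  have htr : ∀ p d, MvPolynomial.coeff d (tr p) = if d.degree < n then MvPolynomial.coeff d p else 0 := by
    intro p d
    induction p using MvPolynomial.induction_on' with
    | monomial e a =>
      have h1 : MvPolynomial.monomial e a = a • (MvPolynomial.basisMonomials (Fin t) A) e := by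
        simp [MvPolynomial.smul_monomial]
      rw [h1, map_smul, Module.Basis.constr_basis]
      by_cases hed : e = d
      · subst hed
        split_ifs <;> simp
      · split_ifs <;> simp [MvPolynomial.coeff_monomial, hed]
    | add p q hp hq => rw [map_add, MvPolynomial.coeff_add, hp, hq, MvPolynomial.coeff_add]; split_ifs <;> simp
  have hmem : ∀ p, p ∈ J ↔ ∀ d : Fin t →₀ ℕ, d.degree < n → MvPolynomial.coeff d p = 0 := fun p =>
    (MvPolynomial.mem_pow_idealOfVars_iff' n p)
  let i : (MvPolynomial (Fin t) A ⧸ J) →ₗ[A] MvPolynomial (Fin t) A :=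
    Submodule.liftQ (J.restrictScalars A) tr (fun p hp => LinearMap.mem_ker.2 (MvPolynomial.ext _ _ fun d => by
      rw [htr]; split_ifs with h
      · simpa using (hmem p).1 hp d h
      · simp))
  refine Module.Projective.of_split (M := MvPolynomial (Fin t) A) i (Ideal.Quotient.mkₐ A J).toLinearMap (LinearMap.ext fun x => ?_)
  obtain ⟨p, rfl⟩ := Ideal.Quotient.mk_surjective x
  show Ideal.Quotient.mk J (tr p) = Ideal.Quotient.mk J p
  rw [Ideal.Quotient.eq, hmem]
  intro d hd
  rw [MvPolynomial.coeff_sub, htr, if_pos hd, sub_self]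

end Groth.Agent.CAlgH3.PdPolynomial
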