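import Groth.Agent.CAlgH3.PSheaf
import Groth.Agent.AmpleLib.Generated
import Groth.Agent.AmpleLib.Twist
import Groth.Agent.TwistLib.G.Inv
import Groth.Agent.EulerLib.Twist
import Groth.Agent.Coherent.ProjSpaceFinite

/-!
# Products of sections and global generation of regular sheaves
-/

set_option autoImplicit false
set_option linter.unusedSectionVars false
set_option backward.isDefEq.respectTransparency.types false

universe u

open DirectSum AlgebraicGeometry CategoryTheory TopologicalSpace Opposite MvPolynomial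
open Groth.Agent.Coherent Groth.Agent.GrLib Groth.Agent.PicLib
open Groth.Agent.CAlgH3 Groth.Agent.CAlgH3.GrModExact Groth.Agent.CAlgH3.PosPart Groth.Agent.CAlgH3.PTilde
open Groth.Agent.CAlgH3.PRing Groth.Agent.CAlgH3.ModCohSeq Groth.Agent.CAlgH3.PKoszul Groth.Agent.CAlgH3.PSections
open Groth.Agent.CAlgH3.PSheaf Groth.Agent.AmpleLib

noncomputable section

namespace Groth.Agent.CAlgH3.PSheafGen

variable {k : Type u} [Field k] {r : ℕ}

section graded

variable {M τ : Type u} [AddCommGroup M] [Module (MvPolynomial (Fin (r + 1)) k) M] [SetLike τ M]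
  [AddSubgroupClass τ M] {ℳ : ℤ → τ} [Decomposition ℳ] [SetLike.GradedSMul (GrSyz.stdGr k (Fin (r + 1))) ℳ]

variable (k r ℳ) in
/-- Sums of products of a form of degree `e` with a section in degree `d`. -/
def Prods (d : ℤ) (e : ℕ) (n : ℤ) : AddSubgroup Γ(T k r ℳ n, (⊤ : (CohB1.ProjSpace r k).Opens)) :=
  AddSubgroup.closure {z | ∃ p ∈ CohB1.polyGrading r k e,
    ∃ s : Γ(T k r ℳ d, (⊤ : (CohB1.ProjSpace r k).Opens)), ∀ x, amb z x = p • amb s x}

theorem mem_prods {d : ℤ} (hreg : Reg k r ℳ d) :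
    ∀ (e : ℕ) (z : Γ(T k r ℳ (d + (e : ℤ)), (⊤ : (CohB1.ProjSpace r k).Opens))),
      z ∈ Prods k r ℳ d e (d + (e : ℤ)) := by
  intro e
  induction e with
  | zero =>
    rw [Nat.cast_zero, add_zero]
    exact fun z => AddSubgroup.subset_closure ⟨1, SetLike.GradedOne.one_mem, z, fun x => (one_smul _ _).symm⟩
  | succ e ih =>
    have hreg' : ∀ j : ℕ, Reg k r ℳ (d + (j : ℤ)) := fun j => by
      induction j with
      | zero => simpa using hreg
      | succ j hj =>
        rw [show d + ((j + 1 : ℕ) : ℤ) = d + (j : ℤ) + 1 by push_cast; ring]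
        exact (reg_succ_and_mem_Mul hj).1
    rw [show d + ((e + 1 : ℕ) : ℤ) = d + (e : ℤ) + 1 by push_cast; ring]
    intro z
    refine AddSubgroup.closure_induction (fun w hw => ?_) (zero_mem _) (fun a b _ _ ha hb => add_mem ha hb)
      (fun a _ ha => neg_mem ha) ((reg_succ_and_mem_Mul (hreg' e)).2 z)
    obtain ⟨y, hy, s, -, rfl⟩ := hw
    refine AddSubgroup.closure_induction (p := fun s _ => (mu y hy (d + (e : ℤ))).app ⊤ s ∈ Prods k r ℳ d (e + 1) _)
      (fun s hs => ?_) (by rw [map_zero]; exact zero_mem _) (fun a b _ _ ha hb => by rw [map_add]; exact add_mem ha hb)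
      (fun a _ ha => by rw [map_neg]; exact neg_mem ha) (ih s)
    obtain ⟨p, hp, t, ht⟩ := hs
    refine AddSubgroup.subset_closure ⟨y * p, ?_, t, fun x => ?_⟩
    · rw [add_comm e 1]
      exact SetLike.mul_mem_graded ((isHomogeneous_iff_stdGr 1 y).2 hy) hp
    · rw [amb_mu, ht, mul_smul]

end graded

theorem covers (x : ProjectiveSpectrum (CohB1.polyGrading r k)) :
    ∃ f ∈ CohB1.polyGrading r k 1, f ∉ x.asHomogeneousIdeal.toIdeal := ⟨tv x, tv_mem x, tv_notMem x⟩

variable {F : (CohB1.ProjSpace r k).Modules}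

/-- Sections of higher twists are sums of products of sections. -/
theorem closure_tmul_eq_top_nat (hF : Coh.IsQCoh F) {d : ℤ} (h : Curv2.IsMRegular k r F d) (e : ℕ) :
    AddSubgroup.closure {z : Γ(CohB1.tensorMod (CohB1.tensorMod F (Twist.twistProjSpace r k d))
        (Twist.twistProjSpace r k (e : ℤ)), (⊤ : (CohB1.ProjSpace r k).Opens)) | ∃ a b, z = tmul a b} = ⊤ := by
  obtain ⟨m⟩ := nonempty_model F hF
  have hiso := TwistLib.G.isIso_desc_mulBilin (𝒜 := CohB1.polyGrading r k)
    (posGr (GrSyz.stdGr k (Fin (r + 1))) m.gr) (p := d) (q := (e : ℤ)) (r := d + (e : ℤ)) (d := 1) rfl (m := (e : ℤ))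
    (by simp) covers
  let Φ : CohB1.tensorMod (CohB1.tensorMod F (Twist.twistProjSpace r k d)) (Twist.twistProjSpace r k (e : ℤ)) ≅
      T k r m.gr (d + (e : ℤ)) :=
    tensorIso (m.twistIso d) (twistCompare (e : ℤ)).symm ≪≫ @asIso _ _ _ _ _ hiso
  rw [eq_top_iff]
  intro z _
  have hz := mem_prods ((m.isMRegular_iff d).1 h) e (Φ.hom.app ⊤ z)
  have hinj : ∀ w, Φ.inv.app ⊤ (Φ.hom.app ⊤ w) = w := fun w =>
    ConcreteCategory.congr_hom (congrArg (fun φ => Scheme.Modules.Hom.app φ
      (⊤ : (CohB1.ProjSpace r k).Opens)) Φ.hom_inv_id) w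
  rw [← hinj z]
  refine AddSubgroup.closure_induction (fun w hw => ?_) (by rw [map_zero]; exact zero_mem _)
    (fun a b _ _ ha hb => by rw [map_add]; exact add_mem ha hb)
    (fun a _ ha => by rw [map_neg]; exact neg_mem ha) hz
  obtain ⟨p, hp, s, hs⟩ := hw
  let g : Γ(Twist.twistProjSpace r k (e : ℤ), (⊤ : (CohB1.ProjSpace r k).Opens)) :=
    GrTwist.globalOf (CohB1.polyGrading r k) (i := e) ⟨p, hp⟩
  have key : Φ.hom.app ⊤ (tmul ((m.twistIso d).inv.app ⊤ s) g) = w := by
    show (Bilin.desc _).app ⊤ ((tensorMap (m.twistIso d).hom (twistCompare (e : ℤ)).inv).app ⊤ _) = _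
    rw [tensorMap_tmul, Bilin.desc_tmul]
    rw [show (m.twistIso d).hom.app ⊤ ((m.twistIso d).inv.app ⊤ s) = s from
      ConcreteCategory.congr_hom (congrArg (fun φ => Scheme.Modules.Hom.app φ
        (⊤ : (CohB1.ProjSpace r k).Opens)) (m.twistIso d).inv_hom_id) s]
    refine amb_inj fun x => ?_
    refine (?_ : _ = p • amb s x).trans (hs x).symm
    exact (congrArg (GrMod.locMap _ x.1) (smul_mk_one p _)).trans (PSections.locMap_smul _ x.1 p _)
  rw [← key, hinj]
  exact AddSubgroup.subset_closure ⟨_, _, rfl⟩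

theorem isInvertible_twistProj (t : ℤ) : PicF.IsInvertible (Twist.twistProjSpace r k t) :=
  TwistLib.G.isInvertible_twist (𝒜 := CohB1.polyGrading r k) covers t

theorem isCoh_twistProj {G : (CohB1.ProjSpace r k).Modules} (hG : Coh.IsCoh G) (t : ℤ) :
    Coh.IsCoh (CohB1.tensorMod G (Twist.twistProjSpace r k t)) :=
  haveI := isProper_projSpace_toSpec r k
  haveI : IsLocallyNoetherian (CohB1.ProjSpace r k) :=
    LocallyOfFiniteType.isLocallyNoetherian (CohB1.ProjSpace.toSpec r k)
  EulerLib.isCoh_twist (isInvertible_twistProj t) hG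

theorem exists_globallyGenerated (G : (CohB1.ProjSpace r k).Modules) (hG : Coh.IsCoh G) :
    ∃ N : ℕ, Curv2.IsGloballyGenerated (CohB1.tensorMod G (Twist.twistProjSpace r k (N : ℤ))) := by
  classical
  have hamp : CohB1.IsAmple (GrTwist.twist (CohB1.polyGrading r k) 1) :=
    TwistLib.G.isAmple_twist_one (Finset.univ.image fun l : Fin (r + 1) => (X l : MvPolynomial (Fin (r + 1)) k))
      (by
        intro f hf
        obtain ⟨l, -, rfl⟩ := Finset.mem_image.1 hf
        exact ProjLib.X_mem_polyGrading r k l)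
      (le_antisymm (by simpa using ProjLib.irrelevant_le_span_X r k)
        (Ideal.span_le.2 fun f hf => by
          obtain ⟨l, -, rfl⟩ := Finset.mem_image.1 (Finset.mem_coe.1 hf)
          exact HomogeneousIdeal.mem_irrelevant_of_mem _ one_pos (ProjLib.X_mem_polyGrading r k l)))
  obtain ⟨N, hN⟩ := eventually_globallyGenerated hamp G hG
  obtain ⟨e⟩ := TwistLib.G.nonempty_twist_pow_iso (𝒜 := CohB1.polyGrading r k) covers N
  exact ⟨N, globallyGenerated_of_iso (tensorIso (Iso.refl G) (e.symm ≪≫ twistCompare (N : ℤ))) (hN N le_rfl)⟩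

/-- A map killing the global sections of a regular twist is zero. -/
theorem eq_zero_of_kills (hF : Coh.IsQCoh F) {d : ℤ} (h : Curv2.IsMRegular k r F d)
    (hG : Coh.IsCoh (CohB1.tensorMod F (Twist.twistProjSpace r k d))) {C : (CohB1.ProjSpace r k).Modules}
    (f : CohB1.tensorMod F (Twist.twistProjSpace r k d) ⟶ C)
    (hf : ∀ a : Γ(CohB1.tensorMod F (Twist.twistProjSpace r k d), (⊤ : (CohB1.ProjSpace r k).Opens)),
      f.app ⊤ a = 0) : f = 0 := by
  obtain ⟨N, ι, p, hp⟩ := exists_globallyGenerated _ hG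
  have h1 : tensorMap f (𝟙 (Twist.twistProjSpace r k (N : ℤ))) = 0 := by
    refine (cancel_epi p).1 (Eq.trans ?_ Limits.comp_zero.symm)
    refine freeMod_hom_ext fun i => ?_
    refine (SheafOfModules.unitHomEquiv (R := (CohB1.ProjSpace r k).ringCatSheaf) _).injective ?_
    refine Subtype.ext (funext fun U => ?_)
    rw [SheafOfModules.unitHomEquiv_apply_coe, SheafOfModules.unitHomEquiv_apply_coe]
    show (tensorMap f (𝟙 _)).app U.unop ((freeInj i ≫ p).app U.unop (1 : Γ(CohB1.ProjSpace r k, U.unop))) = _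
    have hv : (freeInj i ≫ p).app U.unop (1 : Γ(CohB1.ProjSpace r k, U.unop)) =
        resM _ le_top ((freeInj i ≫ p).app ⊤ (1 : Γ(CohB1.ProjSpace r k, ⊤))) := by
      exact (resM_unitVal (freeInj i ≫ p) le_top).symm
    rw [hv, app_resM]
    have hz := (closure_tmul_eq_top_nat hF h N).ge
      (AddSubgroup.mem_top ((freeInj i ≫ p).app ⊤ (1 : Γ(CohB1.ProjSpace r k, ⊤))))
    rw [show (tensorMap f (𝟙 _)).app ⊤ ((freeInj i ≫ p).app ⊤ (1 : Γ(CohB1.ProjSpace r k, ⊤))) = 0 from
      AddSubgroup.closure_induction (fun w hw => by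
        obtain ⟨a, b, rfl⟩ := hw
        rw [tensorMap_tmul, hf, tmul_zero_left])
      (map_zero _) (fun a b _ _ ha hb => by rw [map_add, ha, hb, add_zero])
      (fun a _ ha => by rw [map_neg, ha, neg_zero]) hz, map_zero]
    rfl
  refine Scheme.Modules.hom_ext _ _ fun W => ?_
  ext a
  refine sec_ext C _ _ fun y hy => ?_
  obtain ⟨A, hyA, g, hg⟩ := exists_isGen (TwistLib.G.isInvertible_twist (𝒜 := CohB1.polyGrading r k) covers (N : ℤ)) y
  refine ⟨W ⊓ A, inf_le_left, ⟨hy, hyA⟩, (bijective_tmul_gen (M := C) hg _ inf_le_right).1 ?_⟩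
  show tmul (resM C inf_le_left (f.app W a)) _ = tmul (resM C inf_le_left (0 : Γ(C, W))) _
  rw [map_zero, tmul_zero_left, ← app_resM]
  refine (tensorMap_tmul f (𝟙 (Twist.twistProjSpace r k (N : ℤ))) (resM _ inf_le_left a)
    (resM _ inf_le_right g)).symm.trans ?_
  rw [h1]
  rfl

/-- A regular sheaf twisted by its regularity is globally generated. -/
theorem isGloballyGenerated (hF : Coh.IsQCoh F) {d : ℤ} (h : Curv2.IsMRegular k r F d)
    (hG : Coh.IsCoh (CohB1.tensorMod F (Twist.twistProjSpace r k d))) :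
    Curv2.IsGloballyGenerated (CohB1.tensorMod F (Twist.twistProjSpace r k d)) := by
  let q := freeDesc fun s : Γ(CohB1.tensorMod F (Twist.twistProjSpace r k d), (⊤ : (CohB1.ProjSpace r k).Opens)) =>
    Coherent.unitDesc _ s
  have key : ∀ (C : (CohB1.ProjSpace r k).Modules)
      (f : CohB1.tensorMod F (Twist.twistProjSpace r k d) ⟶ C), q ≫ f = 0 → f = 0 := fun C f hf => by
    refine eq_zero_of_kills hF h hG f fun a => ?_
    have h2 : (freeInj a ≫ q) ≫ f = 0 := (Category.assoc _ _ _).trans ((congrArg (freeInj a ≫ ·) hf).trans Limits.comp_zero)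
    rw [freeInj_freeDesc] at h2
    have h3 := congrArg (fun φ : Coh.structureModule _ ⟶ C => φ.app (⊤ : (CohB1.ProjSpace r k).Opens)
      (1 : Γ(CohB1.ProjSpace r k, ⊤))) h2
    have h4 := unitVal_unitDesc (CohB1.tensorMod F (Twist.twistProjSpace r k d)) a ⊤
    rw [resM_self] at h4
    exact (congrArg (f.app ⊤) h4.symm).trans h3
  exact ⟨_, q, Preadditive.epi_of_cancel_zero _ fun {C} f hf => key C f hf⟩

end Groth.Agent.CAlgH3.PSheafGen

end
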