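import Groth.Agent.CAlgH3.RegularHom
import Mathlib.Algebra.Module.StablyFree.Basic
import Mathlib.LinearAlgebra.Alternating.Uncurry.Fin
import Mathlib.LinearAlgebra.ExteriorPower.Basis
import Mathlib.LinearAlgebra.Determinant
import Mathlib.LinearAlgebra.Dimension.Localization
import Mathlib.RingTheory.UniqueFactorizationDomain.Kaplansky
import Mathlib.RingTheory.LocalProperties.Projective
import Mathlib.RingTheory.Finiteness.Prod

/-! Regular local rings are factorial (Auslander-Buchsbaum). -/

universe u

open IsLocalRing TensorProduct Function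

namespace Groth.Agent.CAlgH3

section ideal

variable {S : Type u} [CommRing S]

/-- Cofactor expansion along the `P`-summand of `P × N`. -/
noncomputable def cofactorLin {P N : Type u} [AddCommGroup P] [Module S P] [AddCommGroup N] [Module S N] {n : ℕ}
    (bN : Module.Basis (Fin n) S N) : P × N →ₗ[S] (P × N) [⋀^Fin n]→ₗ[S] P where
  toFun x := (bN.det.compLinearMap (LinearMap.snd S P N)).smulRight x.1
  map_add' x y := AlternatingMap.ext fun _ ↦ by simp
  map_smul' c x := AlternatingMap.ext fun _ ↦ by simp [smul_smul, mul_comm]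

theorem rank_ideal [IsDomain S] {P : Ideal S} (hP : P ≠ ⊥) : Module.rank S P = 1 := by
  refine le_antisymm ((Submodule.rank_le P).trans_eq (Module.rank_self S)) ?_
  obtain ⟨a, ha, ha0⟩ := Submodule.exists_mem_ne_zero_of_ne_bot hP
  rw [Cardinal.one_le_iff_pos, rank_pos_iff_exists_ne_zero]
  exact ⟨⟨a, ha⟩, fun h => ha0 (congrArg Subtype.val h)⟩

/-- A stably free ideal of a domain is principal. -/
theorem isPrincipal_of_isStablyFree [IsDomain S] (P : Ideal S) [Module.Finite S P]
    [Module.IsStablyFree S P] : Submodule.IsPrincipal P := by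
  rcases eq_or_ne P ⊥ with rfl | hP
  · exact bot_isPrincipal
  obtain ⟨N, _, _, _, _, _⟩ := Module.IsStablyFree.exist_free_prod S P
  let n := Module.finrank S N
  have hr : Module.rank S (P × N) = 1 + Module.rank S N := by
    rw [LinearMap.rank_eq_of_surjective (f := LinearMap.fst S P N) LinearMap.fst_surjective, rank_ideal hP]
    congr 1
    exact ((LinearEquiv.ofEq _ _ (LinearMap.ker_fst S P N)).trans
      (LinearEquiv.ofInjective _ LinearMap.inr_injective).symm).rank_eq
  have hp : Module.finrank S (P × N) = n + 1 := by
    refine Module.finrank_eq_of_rank_eq ?_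
    rw [hr, ← Module.finrank_eq_rank S N, Nat.cast_add, Nat.cast_one, add_comm]
  let e : S ≃ₗ[S] ⋀[S]^(n + 1) (P × N) :=
    (Module.nonempty_linearEquiv_of_finrank_eq_one <| by rw [exteriorPower.finrank_eq, hp, Nat.choose_self]).some
  let bN : Module.Basis (Fin n) S N := Module.finBasis S N
  let F : ⋀[S]^(n + 1) (P × N) →ₗ[S] P :=
    exteriorPower.alternatingMapLinearEquiv (AlternatingMap.alternatizeUncurryFin (cofactorLin bN))
  have hF : Surjective F := fun z => ⟨exteriorPower.ιMulti S (n + 1) (Fin.cons (z, 0) fun i ↦ (0, bN i)), by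
    simp [F, cofactorLin, AlternatingMap.alternatizeUncurryFin_apply, Fin.sum_univ_succ, Module.Basis.det_self]⟩
  refine ⟨⟨(F (e 1) : S), le_antisymm (fun z hz => ?_) ?_⟩⟩
  · obtain ⟨w, hw⟩ := hF ⟨z, hz⟩
    obtain ⟨s, rfl⟩ := e.surjective w
    rw [Submodule.mem_span_singleton]
    refine ⟨s, ?_⟩
    have h := congrArg Subtype.val hw
    rw [show s = s • (1 : S) by simp, map_smul, map_smul] at h
    simpa using h
  · rw [Submodule.span_le, Set.singleton_subset_iff]
    exact (F (e 1)).2

theorem projective_of_isPrincipal [IsDomain S] (P : Ideal S) (h : Submodule.IsPrincipal P) :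
    Module.Projective S P := by
  obtain ⟨a, rfl⟩ := h
  rcases eq_or_ne a 0 with rfl | ha
  · have : Subsingleton (Submodule.span S ({0} : Set S)) := by
      rw [Submodule.span_zero_singleton]; infer_instance
    infer_instance
  · exact Module.Projective.of_equiv (LinearEquiv.toSpanNonzeroSingleton S S a ha)

/-- A prime of height at most one in a factorial domain is principal. -/
theorem isPrincipal_of_height_le_one [IsDomain S] [UniqueFactorizationMonoid S] (p : Ideal S) [p.IsPrime]
    (h : p.height ≤ 1) : Submodule.IsPrincipal p := by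
  rcases eq_or_ne p ⊥ with rfl | hp
  · exact bot_isPrincipal
  obtain ⟨x, hx, hxp⟩ := Ideal.IsPrime.exists_mem_prime_of_ne_bot ‹p.IsPrime› hp
  have hprime : (Ideal.span {x}).IsPrime := (Ideal.span_singleton_prime hxp.ne_zero).2 hxp
  refine ⟨⟨x, ?_⟩⟩
  by_contra hne
  have hlt : Ideal.span {x} < p :=
    lt_of_le_of_ne ((Ideal.span_singleton_le_iff_mem _).2 hx) fun e => hne e.symm
  have hbot : (⊥ : Ideal S) < Ideal.span {x} := bot_lt_iff_ne_bot.2 fun e => hxp.ne_zero (by simpa using e)
  have h1 := Ideal.height_add_one_le_of_lt_of_isPrime hbot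
  have h2 := (add_le_add h1 le_rfl).trans ((Ideal.height_add_one_le_of_lt_of_isPrime hlt).trans h)
  exact absurd (le_trans (add_le_add le_add_self le_rfl) h2) (by decide)

end ideal

section stablyFree

variable {R : Type u} [CommRing R] [IsLocalRing R] [IsNoetherianRing R]
  (S : Type u) [CommRing S] [Algebra R S] [Module.Flat R S]

/-- Finite projective dimension over a local ring gives stable freeness after flat base change, once projective. -/
theorem isStablyFree_baseChange_of_pd : ∀ (n : ℕ) (M : Type u) [AddCommGroup M] [Module R M] [Module.Finite R M],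
    PD R (n + 1) M → Module.Projective S (S ⊗[R] M) → Module.IsStablyFree S (S ⊗[R] M) := by
  intro n
  induction n with
  | zero =>
    intro M _ _ _ h _
    have := pd_one_iff.1 h
    have : Module.Free R M := Module.free_of_flat_of_isLocalRing
    infer_instance
  | succ n ih =>
    intro M _ _ _ h hproj
    obtain ⟨m, f, hf⟩ := Module.Finite.exists_fin' R M
    let g := f.baseChange S
    let i := (LinearMap.ker f).subtype.baseChange S
    have hg : Surjective g := LinearMap.lTensor_surjective S hf
    have hi : Injective i := Module.Flat.lTensor_preserves_injective_linearMap (M := S) _ Subtype.val_injective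
    have hex : Exact i g := Module.Flat.lTensor_exact S (LinearMap.exact_subtype_ker_map f)
    obtain ⟨l, hl⟩ := Module.projective_lifting_property g LinearMap.id hg
    let e := (hex.splitSurjectiveEquiv hi ⟨l, hl⟩).1
    have : Module.Projective S (S ⊗[R] LinearMap.ker f) :=
      Module.Projective.of_split (e.symm.toLinearMap ∘ₗ LinearMap.inl S _ _) (LinearMap.fst S _ _ ∘ₗ e.toLinearMap)
        (LinearMap.ext fun z => by simp)
    have := ih _ ((pd_ker_iff hf n).1 h) this
    obtain ⟨N, _, _, _, _, _⟩ := Module.IsStablyFree.exist_free_prod S (S ⊗[R] LinearMap.ker f)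
    have : Module.Free S ((S ⊗[R] M) × ((S ⊗[R] LinearMap.ker f) × N)) :=
      Module.Free.of_equiv (((e.trans (LinearEquiv.prodComm S _ _)).prodCongr (LinearEquiv.refl S N)).trans
        (LinearEquiv.prodAssoc S (S ⊗[R] M) (S ⊗[R] LinearMap.ker f) N))
    have : Module.Finite R (LinearMap.ker f) := Module.Finite.iff_fg.2 (IsNoetherian.noetherian _)
    exact Module.IsStablyFree.of_free_prod S _ ((S ⊗[R] LinearMap.ker f) × N)

end stablyFree

theorem ufm_of_regular_aux : ∀ (d : ℕ) (R : Type u) [CommRing R] [IsRegularLocalRing R] [IsDomain R],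
    (maximalIdeal R).spanFinrank ≤ d → UniqueFactorizationMonoid R := by
  intro d
  induction d with
  | zero =>
    intro R _ _ _ hd
    have hm : maximalIdeal R = ⊥ :=
      (Submodule.spanFinrank_eq_zero_iff_eq_bot (IsNoetherian.noetherian (maximalIdeal R))).1 (Nat.le_zero.1 hd)
    let := (IsLocalRing.isField_iff_maximalIdeal_eq.2 hm).toField
    infer_instance
  | succ d ih =>
    intro R _ _ _ hd
    classical
    by_cases hm : maximalIdeal R = ⊥
    · let := (IsLocalRing.isField_iff_maximalIdeal_eq.2 hm).toField
      infer_instance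
    obtain ⟨x, hxm, hx2⟩ : ∃ x ∈ maximalIdeal R, x ∉ maximalIdeal R ^ 2 := by
      by_contra! hcon
      refine hm (Submodule.eq_bot_of_le_smul_of_le_jacobson_bot (maximalIdeal R) (maximalIdeal R)
        (IsNoetherian.noetherian _) ?_ (maximalIdeal_le_jacobson _))
      rw [smul_eq_mul, ← pow_two]; exact fun y hy => hcon y hy
    obtain ⟨hq, -⟩ := regular_quotient_of_notMem_sq hxm hx2
    have hx0 : x ≠ 0 := fun h => hx2 (h ▸ zero_mem _)
    have := isDomain_of_isRegularLocalRing (R ⧸ Ideal.span {x})
    have hxprime : Prime x :=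
      (Ideal.span_singleton_prime hx0).1 ((Ideal.Quotient.isDomain_iff_prime _).1 inferInstance)
    rw [UniqueFactorizationMonoid.iff_exists_prime_mem_of_isPrime]
    intro J hJ hJp
    obtain ⟨a, haJ, ha0⟩ := Submodule.exists_mem_ne_zero_of_ne_bot hJ
    obtain ⟨p, hp, hpJ⟩ := Ideal.exists_minimalPrimes_le ((Ideal.span_singleton_le_iff_mem _).2 haJ)
    have := hp.1.1
    have hph : p.height ≤ 1 :=
      Ideal.height_le_one_of_isPrincipal_of_mem_minimalPrimes (Ideal.span {a}) p hp
    have hp0 : p ≠ ⊥ := fun h => ha0 (by simpa [h] using hp.1.2 (Ideal.mem_span_singleton_self a))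
    suffices hpp : Submodule.IsPrincipal p by
      obtain ⟨π, rfl⟩ := hpp
      refine ⟨π, hpJ (Ideal.mem_span_singleton_self π), (Ideal.span_singleton_prime fun h => hp0 (by simp [h])).1 this⟩
    by_cases hxp : x ∈ p
    · refine ⟨⟨x, ?_⟩⟩
      by_contra hne
      have hlt : Ideal.span {x} < p :=
        lt_of_le_of_ne ((Ideal.span_singleton_le_iff_mem _).2 hxp) fun e => hne e.symm
      have : (Ideal.span {x}).IsPrime := (Ideal.span_singleton_prime hx0).2 hxprime
      have hbot : (⊥ : Ideal R) < Ideal.span {x} := bot_lt_iff_ne_bot.2 fun e => hx0 (by simpa using e)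
      have h1 := Ideal.height_add_one_le_of_lt_of_isPrime hbot
      have h2 := (add_le_add h1 le_rfl).trans ((Ideal.height_add_one_le_of_lt_of_isPrime hlt).trans hph)
      exact absurd (le_trans (add_le_add le_add_self le_rfl) h2) (by decide)
    let S := Localization.Away x
    let W := Submonoid.powers x
    have : IsDomain S := IsLocalization.isDomain_localization
      (powers_le_nonZeroDivisors_of_noZeroDivisors hx0)
    have : IsNoetherianRing S := IsLocalization.isNoetherianRing W S inferInstance
    let P : Ideal S := p.map (algebraMap R S)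
    have disj : Disjoint (W : Set R) p := Set.disjoint_left.2 fun w ⟨k, hk⟩ hw =>
      hxp (‹p.IsPrime›.mem_of_pow_mem k (by simpa [← hk] using hw))
    have hPprime : P.IsPrime := IsLocalization.isPrime_of_isPrime_disjoint W _ _ ‹_› disj
    have hPh : P.height ≤ 1 := (IsLocalization.height_map_of_disjoint (S := S) W p disj).trans_le hph
    -- `P` is locally principal
    have hproj : Module.Projective S P := by
      have : Module.FinitePresentation S P := Module.finitePresentation_of_finite S P
      refine Module.projective_of_localization_maximal' (fun Q _ => Localization.AtPrime Q)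
        (fun Q _ => P.localized' (Localization.AtPrime Q) Q.primeCompl (Algebra.linearMap S (Localization.AtPrime Q)))
        (fun Q _ => P.toLocalized' (Localization.AtPrime Q) Q.primeCompl (Algebra.linearMap S (Localization.AtPrime Q)))
        (fun Q hQ => ?_)
      let A := Localization.AtPrime Q
      let q := Q.comap (algebraMap R S)
      have : IsLocalization.AtPrime A q :=
        IsLocalization.isLocalization_isLocalization_atPrime_isLocalization W A Q
      have := isRegularLocalRing_localization q
      let e := (IsLocalization.algEquiv q.primeCompl (Localization.AtPrime q) A).toRingEquiv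
      have : IsRegularLocalRing A := IsRegularLocalRing.of_ringEquiv e
      have := isDomain_of_isRegularLocalRing A
      have hlt : q < maximalIdeal R := by
        refine lt_of_le_of_ne (le_maximalIdeal (Ideal.IsPrime.ne_top inferInstance)) fun h => ?_
        have : x ∈ q := h ▸ hxm
        exact hQ.ne_top (Ideal.eq_top_of_isUnit_mem _ this (IsLocalization.Away.algebraMap_isUnit x))
      have hd' : (maximalIdeal A).spanFinrank ≤ d := by
        have h1 : ringKrullDim A + 1 ≤ ringKrullDim R := by
          rw [← ringKrullDim_eq_of_ringEquiv e, IsLocalization.AtPrime.ringKrullDim_eq_height q (Localization.AtPrime q),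
            ← maximalIdeal_height_eq_ringKrullDim, ← WithBot.coe_one, ← WithBot.coe_add, WithBot.coe_le_coe]
          exact Ideal.height_add_one_le_of_lt_of_isPrime hlt
        rw [← IsRegularLocalRing.spanFinrank_maximalIdeal, ← IsRegularLocalRing.spanFinrank_maximalIdeal,
          ← Nat.cast_one, ← Nat.cast_add, Nat.cast_le] at h1
        omega
      have := ih A hd'
      refine projective_of_isPrincipal (S := A) _ ?_
      rw [Ideal.localized'_eq_map]
      by_cases hPQ : P ≤ Q
      · have hd2 : Disjoint (Q.primeCompl : Set S) P := Set.disjoint_compl_left_iff_subset.2 hPQ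
        have := IsLocalization.isPrime_of_isPrime_disjoint Q.primeCompl A _ hPprime hd2
        exact isPrincipal_of_height_le_one _ ((IsLocalization.height_map_of_disjoint (S := A) Q.primeCompl P hd2).trans_le hPh)
      · obtain ⟨b, hbP, hbQ⟩ := SetLike.not_le_iff_exists.1 hPQ
        rw [Ideal.eq_top_of_isUnit_mem (P.map (algebraMap S A)) (Ideal.mem_map_of_mem _ hbP) (IsLocalization.map_units A (⟨b, hbQ⟩ : Q.primeCompl))]
        exact top_isPrincipal
    -- `P` is stably free
    let e : S ⊗[R] p ≃ₗ[S] P :=
      (IsLocalizedModule.isBaseChange W S (p.toLocalized' S W (Algebra.linearMap R S))).equiv.trans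
        (LinearEquiv.ofEq _ _ (Ideal.localized'_eq_map S W p))
    have : Module.Flat R S := IsLocalization.flat S W
    have hsf := isStablyFree_baseChange_of_pd S _ p (pd_all (R := R) p) (Module.Projective.of_equiv e.symm)
    have : Module.IsStablyFree S P := hsf.equiv e
    obtain ⟨b, hb⟩ := isPrincipal_of_isStablyFree P
    obtain ⟨⟨c, w⟩, hc⟩ := IsLocalization.surj W b
    have hP0 : P ≠ ⊥ := fun h => hp0 (eq_bot_iff.2 fun y hy => by
      have hy' : algebraMap R S y ∈ P := Ideal.mem_map_of_mem _ hy
      have : algebraMap R S y = 0 := by rw [h] at hy'; exact (Submodule.mem_bot S).1 hy'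
      exact (Submodule.mem_bot R).2 ((map_eq_zero_iff _ (IsLocalization.injective S
        (powers_le_nonZeroDivisors_of_noZeroDivisors hx0))).1 this))
    have hc0 : c ≠ 0 := by
      intro h
      rw [h, map_zero, mul_eq_zero] at hc
      rcases hc with h' | h'
      · exact hP0 (by rw [hb, h', Submodule.span_zero_singleton])
      · exact (IsLocalization.map_units S w).ne_zero h'
    obtain ⟨k, c', hc', rfl⟩ := WfDvdMonoid.max_power_factor hc0 hxprime.irreducible
    have hPc : P = Ideal.span {algebraMap R S c'} := by
      rw [hb]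
      refine Ideal.span_singleton_eq_span_singleton.2 ?_
      refine Associated.trans (y := algebraMap R S (x ^ k * c')) ⟨(IsLocalization.map_units S w).unit, hc⟩ ?_
      rw [map_mul, map_pow]
      exact associated_isUnit_mul_left_iff ((IsLocalization.Away.algebraMap_isUnit x).pow k) |>.2 (Associated.refl _)
    have hc'p : c' ∈ p := by
      have h : algebraMap R S c' ∈ P := hPc ▸ Ideal.mem_span_singleton_self _
      obtain ⟨t, ht, htc⟩ := (IsLocalization.algebraMap_mem_map_algebraMap_iff W S p c').1 h
      exact (‹p.IsPrime›.mem_or_mem htc).resolve_left fun h => Set.disjoint_left.1 disj ht h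
    refine ⟨⟨c', le_antisymm (fun y hy => ?_) (by rwa [Submodule.span_le, Set.singleton_subset_iff])⟩⟩
    have h : algebraMap R S y ∈ Ideal.span {algebraMap R S c'} := hPc ▸ Ideal.mem_map_of_mem _ hy
    rw [← Set.image_singleton, ← Ideal.map_span, IsLocalization.algebraMap_mem_map_algebraMap_iff W] at h
    obtain ⟨_, ⟨j, rfl⟩, hj⟩ := h
    obtain ⟨r, hr⟩ := Ideal.mem_span_singleton'.1 hj
    obtain ⟨r', hr'⟩ := hxprime.pow_dvd_of_dvd_mul_right j hc' (Dvd.intro y hr.symm)
    refine Ideal.mem_span_singleton'.2 ⟨r', mul_left_cancel₀ (pow_ne_zero j hx0) ?_⟩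
    rw [← mul_assoc, ← hr', hr]

/-- A regular local ring is factorial. -/
theorem ufm_of_regular (R : Type u) [CommRing R] [IsRegularLocalRing R] [IsDomain R] : UniqueFactorizationMonoid R :=
  ufm_of_regular_aux _ R le_rfl

end Groth.Agent.CAlgH3
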