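import Groth.Agent.CAlgH3.Depth
import Mathlib.RingTheory.Localization.BaseChange
import Mathlib.RingTheory.Support
import Mathlib.RingTheory.Localization.AtPrime.Basic

/-! Cohen–Macaulay modules over Noetherian local rings: associated primes, systems of parameters,
localisation. -/

universe u v

open IsLocalRing RingTheory.Sequence TensorProduct
open scoped Pointwise

namespace Groth.Agent.CAlgH3

variable {R : Type u} [CommRing R]

theorem withBot_add_one_cancel {a b : WithBot ℕ∞} (h : a + 1 = b + 1) : a = b := by
  induction a using WithBot.recBotCoe with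
  | bot =>
    induction b using WithBot.recBotCoe with
    | bot => rfl
    | coe b => rw [WithBot.bot_add, ← WithBot.coe_one, ← WithBot.coe_add] at h; exact absurd h WithBot.bot_ne_coe
  | coe a =>
    induction b using WithBot.recBotCoe with
    | bot => rw [WithBot.bot_add, ← WithBot.coe_one, ← WithBot.coe_add] at h; exact absurd h WithBot.coe_ne_bot
    | coe b =>
      rw [← WithBot.coe_one, ← WithBot.coe_add, ← WithBot.coe_add, WithBot.coe_inj] at h
      rw [WithTop.add_right_cancel ENat.one_ne_top h]

theorem withBot_add_one_le_cancel {a b : WithBot ℕ∞} (h : a + 1 ≤ b + 1) : a ≤ b := by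
  induction a using WithBot.recBotCoe with
  | bot => exact bot_le
  | coe a =>
    induction b using WithBot.recBotCoe with
    | bot => rw [WithBot.bot_add, ← WithBot.coe_one, ← WithBot.coe_add, le_bot_iff] at h; exact absurd h WithBot.coe_ne_bot
    | coe b =>
      rw [← WithBot.coe_one, ← WithBot.coe_add, ← WithBot.coe_add, WithBot.coe_le_coe] at h
      exact WithBot.coe_le_coe.2 ((WithTop.add_le_add_iff_right ENat.one_ne_top).1 h)

theorem ringKrullDim_quotient_le_supportDim {M : Type v} [AddCommGroup M] [Module R M] [Module.Finite R M]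
    {p : PrimeSpectrum R} (hp : p ∈ Module.support R M) :
    ringKrullDim (R ⧸ p.asIdeal) ≤ Module.supportDim R M := by
  rw [Module.supportDim_eq_ringKrullDim_quotient_annihilator]
  have : Module.annihilator R M ≤ p.asIdeal := by
    rw [Module.support_eq_zeroLocus] at hp; exact hp
  exact ringKrullDim_le_of_surjective (Ideal.Quotient.factor this) (Ideal.Quotient.factor_surjective _)

theorem ringKrullDim_quotient_add_one_le {p q : Ideal R} [p.IsPrime] (h : p < q) :
    ringKrullDim (R ⧸ q) + 1 ≤ ringKrullDim (R ⧸ p) := by
  obtain ⟨r, hrq, hrp⟩ := SetLike.exists_of_lt h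
  refine ringKrullDim_succ_le_of_surjective (Ideal.Quotient.factor h.le) (Ideal.Quotient.factor_surjective _)
    (r := Ideal.Quotient.mk p r) (mem_nonZeroDivisors_of_ne_zero ?_) ?_
  · rwa [Ne, Ideal.Quotient.eq_zero_iff_mem]
  · rw [Ideal.Quotient.factor_mk, Ideal.Quotient.eq_zero_iff_mem]; exact hrq

/-- Localisation commutes with `M ↦ M/xM`. -/
noncomputable def localizedQuotSMulTop (p : Ideal R) [p.IsPrime] (M : Type v) [AddCommGroup M] [Module R M] (x : R) :
    QuotSMulTop (algebraMap R (Localization.AtPrime p) x) (LocalizedModule p.primeCompl M)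
      ≃ₗ[Localization.AtPrime p] LocalizedModule p.primeCompl (QuotSMulTop x M) :=
  (QuotSMulTop.congr _ (LocalizedModule.equivTensorProduct p.primeCompl M)).trans
    ((QuotSMulTop.algebraMapTensorEquivTensorQuotSMulTop x M (Localization.AtPrime p)).trans
      (LocalizedModule.equivTensorProduct p.primeCompl (QuotSMulTop x M)).symm)

theorem nontrivial_localizedModule_of_mem_support {M : Type v} [AddCommGroup M] [Module R M] {p : Ideal R} [p.IsPrime]
    (h : (⟨p, inferInstance⟩ : PrimeSpectrum R) ∈ Module.support R M) :
    Nontrivial (LocalizedModule p.primeCompl M) :=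
  h

theorem isSMulRegular_localization {M : Type v} [AddCommGroup M] [Module R M] {x : R} (h : IsSMulRegular M x)
    (p : Ideal R) [p.IsPrime] :
    IsSMulRegular (LocalizedModule p.primeCompl M) (algebraMap R (Localization.AtPrime p) x) :=
  h.of_isLocalizedModule (Localization.AtPrime p) p.primeCompl (LocalizedModule.mkLinearMap p.primeCompl M)

section local_

variable [IsLocalRing R] [IsNoetherianRing R]
variable {M : Type u} [AddCommGroup M] [Module R M] [Module.Finite R M]

local notation "CM" => _root_.LocCoh.IsCohenMacaulayModule

omit [IsNoetherianRing R] [Module.Finite R M] in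
theorem isCohenMacaulayModule_congr {N : Type v} [AddCommGroup N] [Module R N] (e : M ≃ₗ[R] N) :
    CM R M ↔ CM R N := by
  rw [_root_.LocCoh.IsCohenMacaulayModule, _root_.LocCoh.IsCohenMacaulayModule, depth_congr e,
    Module.supportDim_eq_of_equiv e]

omit [IsNoetherianRing R] in
theorem nontrivial_of_cm (h : CM R M) : Nontrivial M := by
  rw [← Module.supportDim_ne_bot_iff_nontrivial R, h]
  exact WithBot.coe_ne_bot

theorem ringKrullDim_quotient_eq_of_mem_associatedPrimes (h : CM R M) {p : Ideal R}
    (hp : p ∈ associatedPrimes R M) : ringKrullDim (R ⧸ p) = Module.supportDim R M := by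
  refine le_antisymm (ringKrullDim_quotient_le_supportDim (p := ⟨p, IsAssociatedPrime.isPrime hp⟩) ?_)
    (h.trans_le (depth_le_ringKrullDim_quotient hp))
  rw [Module.support_eq_zeroLocus]
  exact (Submodule.annihilator_top (R := R) (M := M) ▸ IsAssociatedPrime.annihilator_le hp)

/-- Associated primes of a Cohen–Macaulay module are minimal in its support. -/
theorem eq_of_le_of_mem_associatedPrimes (h : CM R M) {p : Ideal R} (hp : p ∈ associatedPrimes R M)
    {q : PrimeSpectrum R} (hq : q ∈ Module.support R M) (hqp : q.asIdeal ≤ p) : q.asIdeal = p := by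
  by_contra hne
  have h1 := (ringKrullDim_quotient_add_one_le (lt_of_le_of_ne hqp hne)).trans (ringKrullDim_quotient_le_supportDim hq)
  rw [ringKrullDim_quotient_eq_of_mem_associatedPrimes h hp, h, ← WithBot.coe_one, ← WithBot.coe_add,
    WithBot.coe_le_coe] at h1
  have := nontrivial_of_cm h
  obtain ⟨n, hn⟩ := exists_depth_eq_natCast (R := R) (M := M)
  rw [hn, ← Nat.cast_one, ← Nat.cast_add, Nat.cast_le] at h1
  omega

omit [IsNoetherianRing R] in
theorem nontrivial_quotSMulTop [Nontrivial M] {x : R} (hx : x ∈ maximalIdeal R) :
    Nontrivial (QuotSMulTop x M) :=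
  nontrivial_quotSMulTop_of_mem_maximalIdeal M hx

theorem isCohenMacaulayModule_quotSMulTop_iff {x : R} (hx : x ∈ maximalIdeal R) (hreg : IsSMulRegular M x) :
    CM R (QuotSMulTop x M) ↔ CM R M := by
  rw [_root_.LocCoh.IsCohenMacaulayModule, _root_.LocCoh.IsCohenMacaulayModule,
    ← depth_quotSMulTop_add_one hx hreg, ← Module.supportDim_quotSMulTop_succ_eq_supportDim hreg hx,
    WithBot.coe_add, WithBot.coe_one]
  exact ⟨fun h => by rw [h], withBot_add_one_cancel⟩

/-- A parameter of a Cohen–Macaulay module is regular. -/
theorem isSMulRegular_of_supportDim_quot (h : CM R M) {x : R}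
    (hdim : Module.supportDim R (QuotSMulTop x M) + 1 ≤ Module.supportDim R M) :
    IsSMulRegular M x := by
  rw [isSMulRegular_iff_right_eq_zero_of_smul]
  intro m hm
  by_contra hm0
  have hx : x ∈ ⋃ p ∈ associatedPrimes R M, (p : Set R) := by
    rw [biUnion_associatedPrimes_eq_zero_divisors]; exact ⟨m, hm0, hm⟩
  simp only [Set.mem_iUnion, SetLike.mem_coe] at hx
  obtain ⟨p, hp, hxp⟩ := hx
  have hsupp : (⟨p, IsAssociatedPrime.isPrime hp⟩ : PrimeSpectrum R) ∈ Module.support R (QuotSMulTop x M) := by
    rw [Module.support_quotSMulTop, Module.support_eq_zeroLocus]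
    exact ⟨(Submodule.annihilator_top (R := R) (M := M) ▸ IsAssociatedPrime.annihilator_le hp), by simpa using hxp⟩
  have h1 := (add_le_add (ringKrullDim_quotient_le_supportDim hsupp) (le_refl (1 : WithBot ℕ∞))).trans hdim
  rw [ringKrullDim_quotient_eq_of_mem_associatedPrimes h hp, h, ← WithBot.coe_one, ← WithBot.coe_add,
    WithBot.coe_le_coe] at h1
  have := nontrivial_of_cm h
  obtain ⟨n, hn⟩ := exists_depth_eq_natCast (R := R) (M := M)
  rw [hn, ← Nat.cast_one, ← Nat.cast_add, Nat.cast_le] at h1
  omega

/-- Localisations of Cohen–Macaulay modules are Cohen–Macaulay, and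
`dim M_p + dim R/p = dim M`. -/
theorem localization_isCohenMacaulayModule :
    ∀ (n : ℕ) (M : Type u) [AddCommGroup M] [Module R M] [Module.Finite R M],
      _root_.LocCoh.depth R M = n → CM R M → ∀ (p : Ideal R) [hp : p.IsPrime],
        (⟨p, hp⟩ : PrimeSpectrum R) ∈ Module.support R M →
        CM (Localization.AtPrime p) (LocalizedModule p.primeCompl M) ∧
          Module.supportDim (Localization.AtPrime p) (LocalizedModule p.primeCompl M) + ringKrullDim (R ⧸ p) =
            Module.supportDim R M := by
  intro n
  induction n using Nat.strong_induction_on with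
  | _ n ih =>
    intro M _ _ _ hn h p hp hsupp
    have := nontrivial_localizedModule_of_mem_support hsupp
    have hann : Module.annihilator R M ≤ p := by
      rw [Module.support_eq_zeroLocus] at hsupp; exact hsupp
    by_cases hcase : ∃ x ∈ p, IsSMulRegular M x
    · obtain ⟨x, hxp, hreg⟩ := hcase
      have hxm : x ∈ maximalIdeal R := le_maximalIdeal hp.ne_top hxp
      have := nontrivial_of_cm h
      have := nontrivial_quotSMulTop (M := M) hxm
      obtain ⟨m, hm⟩ := exists_depth_eq_natCast (R := R) (M := QuotSMulTop x M)
      have hlt : m < n := by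
        have h1 := depth_quotSMulTop_add_one hxm hreg
        rw [hm, hn] at h1
        have : m + 1 = n := by exact_mod_cast h1
        omega
      have hsupp' : (⟨p, hp⟩ : PrimeSpectrum R) ∈ Module.support R (QuotSMulTop x M) := by
        rw [Module.support_quotSMulTop]; exact ⟨hsupp, by simpa using hxp⟩
      obtain ⟨h1, h2⟩ := ih m hlt (QuotSMulTop x M) hm ((isCohenMacaulayModule_quotSMulTop_iff hxm hreg).2 h) p hsupp'
      have hxp' : algebraMap R (Localization.AtPrime p) x ∈ maximalIdeal (Localization.AtPrime p) := by
        rw [← Localization.AtPrime.map_eq_maximalIdeal]; exact Ideal.mem_map_of_mem _ hxp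
      have hreg' := isSMulRegular_localization hreg p
      refine ⟨(isCohenMacaulayModule_quotSMulTop_iff hxp' hreg').1
        ((isCohenMacaulayModule_congr (localizedQuotSMulTop p M x)).2 h1), ?_⟩
      rw [← Module.supportDim_quotSMulTop_succ_eq_supportDim hreg hxm, ← h2,
        ← Module.supportDim_quotSMulTop_succ_eq_supportDim hreg' hxp',
        Module.supportDim_eq_of_equiv (localizedQuotSMulTop p M x)]
      rw [add_assoc, add_comm (1 : WithBot ℕ∞) (ringKrullDim (R ⧸ p)), ← add_assoc]
    · -- `p` is minimal in the support
      obtain ⟨q, hq, hpq⟩ : ∃ q ∈ associatedPrimes R M, p ≤ q := by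
        by_contra hcon
        push Not at hcon
        apply hcase
        by_contra hnone
        push Not at hnone
        have hle : (p : Set R) ⊆ ⋃ q ∈ ((associatedPrimes.finite R M).toFinset : Set (Ideal R)), id q := by
          intro x hx
          have hnot := hnone x hx
          rw [isSMulRegular_iff_right_eq_zero_of_smul] at hnot
          push Not at hnot
          obtain ⟨m, hm1, hm2⟩ := hnot
          simp only [Set.Finite.coe_toFinset, id_eq]
          rw [biUnion_associatedPrimes_eq_zero_divisors]
          exact ⟨m, hm2, hm1⟩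
        obtain ⟨q, hq, hle'⟩ := (Ideal.subset_union_prime ⊥ ⊥ (fun q hq _ _ =>
          IsAssociatedPrime.isPrime ((associatedPrimes.finite R M).mem_toFinset.1 hq))).1 hle
        exact hcon q ((associatedPrimes.finite R M).mem_toFinset.1 hq) hle'
      have hpq' : p = q := eq_of_le_of_mem_associatedPrimes h hq (q := ⟨p, hp⟩) hsupp hpq
      have hdim0 : Module.supportDim (Localization.AtPrime p) (LocalizedModule p.primeCompl M) = 0 := by
        refine le_antisymm ?_ ?_
        · rw [Module.supportDim, Order.krullDim_nonpos_iff_forall_isMax]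
          intro a b hab
          have hle : ∀ c : Module.support (Localization.AtPrime p) (LocalizedModule p.primeCompl M),
              c.1.asIdeal = maximalIdeal (Localization.AtPrime p) := by
            intro c
            refine le_antisymm (le_maximalIdeal c.1.2.ne_top) ?_
            have hc : Module.annihilator R M ≤ c.1.asIdeal.comap (algebraMap R (Localization.AtPrime p)) := by
              intro r hr
              have hc' : Module.annihilator (Localization.AtPrime p) (LocalizedModule p.primeCompl M) ≤ c.1.asIdeal := by
                exact Module.mem_support_iff_of_finite.1 c.2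
              refine hc' (Module.mem_annihilator.2 fun z => ?_)
              induction z using LocalizedModule.induction_on with
              | h m s => rw [algebraMap_smul, LocalizedModule.smul'_mk, Module.mem_annihilator.1 hr m, LocalizedModule.zero_mk]
            have hle : c.1.asIdeal.comap (algebraMap R (Localization.AtPrime p)) ≤ p := by
              refine (Ideal.comap_mono (le_maximalIdeal c.1.2.ne_top)).trans ?_
              rw [← Ideal.under_def, IsLocalization.AtPrime.under_maximalIdeal (Localization.AtPrime p) p]
            have := eq_of_le_of_mem_associatedPrimes h hq (q := ⟨_, Ideal.IsPrime.comap (algebraMap R (Localization.AtPrime p))⟩)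
              (by rw [Module.support_eq_zeroLocus]; exact hc) (hle.trans hpq)
            rw [← Localization.AtPrime.map_eq_maximalIdeal, Ideal.map_le_iff_le_comap]
            exact hpq'.le.trans this.ge
          exact le_of_eq (Subtype.ext (PrimeSpectrum.ext ((hle b).trans (hle a).symm)))
        · exact le_of_not_gt fun hlt => Module.supportDim_ne_bot_of_nontrivial _ _ (WithBot.lt_coe_bot.1 hlt)
      refine ⟨?_, ?_⟩
      · rw [_root_.LocCoh.IsCohenMacaulayModule, hdim0]
        refine le_antisymm (WithBot.coe_le_coe.2 bot_le) ?_
        rw [← hdim0]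
        exact depth_le_supportDim
      · rw [hdim0, zero_add, hpq', ringKrullDim_quotient_eq_of_mem_associatedPrimes h hq]

end local_

end Groth.Agent.CAlgH3
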