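import Groth.Agent.CAlgH3.FlatDepth
import Groth.Agent.CAlgH3.DimIneq
import Groth.Agent.CAlgH3.RegularLocal
import Groth.Agent.HenselLib.HullProps
import Mathlib.RingTheory.TensorProduct.Quotient

/-! Elements regular on the closed fibre of a flat local homomorphism. -/

universe u

open IsLocalRing TensorProduct
open scoped Pointwise

namespace Groth.Agent.CAlgH3

variable {A B : Type u} [CommRing A] [CommRing B] [IsLocalRing A] [IsLocalRing B]
  [IsNoetherianRing A] [IsNoetherianRing B] [Algebra A B] [IsLocalHom (algebraMap A B)] [Module.Flat A B]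

/-- An element regular on `B/mB` is regular on every `B ⊗ N`. -/
theorem isSMulRegular_tensor_of_fibre {y : B}
    (hy : IsSMulRegular (B ⧸ (maximalIdeal A).map (algebraMap A B)) y)
    (N : Type u) [AddCommGroup N] [Module A N] [Module.Finite A N] :
    IsSMulRegular (B ⊗[A] N) y := by
  suffices ∀ (I : Ideal A) (N : Type u) [AddCommGroup N] [Module A N] [Module.Finite A N],
      I ≤ Module.annihilator A N → IsSMulRegular (B ⊗[A] N) y from this ⊥ N bot_le
  intro I
  induction I using WellFoundedGT.induction with
  | ind I ih =>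
    intro N _ _ hN
    induction hN using IsNoetherianRing.induction_on_isQuotientEquivQuotientPrime A with
    | subsingleton N => intro _; exact fun a b _ => Subsingleton.elim _ _
    | quotient N p e =>
      intro hI
      have hI' : I ≤ p.asIdeal := by
        rwa [e.annihilator_eq, Ideal.annihilator_quotient] at hI
      by_cases hp : p.asIdeal = maximalIdeal A
      · let e₁ : B ⊗[A] N ≃ₗ[B] B ⊗[A] (A ⧸ p.asIdeal) := AlgebraTensorModule.congr (LinearEquiv.refl B B) e
        let e₂ := e₁.trans (Algebra.TensorProduct.quotIdealMapEquivTensorQuot B p.asIdeal).symm.toLinearEquiv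
        intro a b hab
        apply e₂.injective
        have h := congrArg e₂ hab
        simp only [map_smul] at h
        have hy' : IsSMulRegular (B ⧸ p.asIdeal.map (algebraMap A B)) y := by rw [hp]; exact hy
        exact hy' h
      obtain ⟨x, hxm, hxp⟩ := SetLike.exists_of_lt (lt_of_le_of_ne (le_maximalIdeal p.isPrime.ne_top) hp)
      have hreg : IsSMulRegular N x := by
        intro a b hab
        apply e.injective
        have h : x • e a = x • e b := by simpa using congrArg e hab
        obtain ⟨a', ha'⟩ := Ideal.Quotient.mk_surjective (e a)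
        obtain ⟨b', hb'⟩ := Ideal.Quotient.mk_surjective (e b)
        rw [← ha', ← hb'] at h ⊢
        rw [Algebra.smul_def, Algebra.smul_def, Ideal.Quotient.algebraMap_eq, ← map_mul, ← map_mul,
          Ideal.Quotient.mk_eq_mk_iff_sub_mem, ← mul_sub] at h
        rw [Ideal.Quotient.mk_eq_mk_iff_sub_mem]
        exact (p.isPrime.mem_or_mem h).resolve_left hxp
      have hlt : I < p.asIdeal ⊔ Ideal.span {x} :=
        lt_of_le_of_lt hI' (lt_of_le_of_ne le_sup_left fun h => hxp (h ▸ Ideal.mem_sup_right (Ideal.mem_span_singleton_self x)))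
      have hQ : IsSMulRegular (B ⊗[A] QuotSMulTop x N) y := by
        refine ih _ hlt _ (sup_le ?_ ((Ideal.span_singleton_le_iff_mem _).2 (Module.mem_annihilator.2 fun z => ?_)))
        · refine le_trans ?_ (LinearMap.annihilator_le_of_surjective _ (Submodule.mkQ_surjective (x • (⊤ : Submodule A N))))
          rw [e.annihilator_eq, Ideal.annihilator_quotient]
        · obtain ⟨z, rfl⟩ := Submodule.Quotient.mk_surjective _ z
          rw [← Submodule.Quotient.mk_smul, Submodule.Quotient.mk_eq_zero]
          exact Submodule.smul_mem_pointwise_smul _ _ _ trivial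
      let μ : N →ₗ[A] N := x • LinearMap.id
      let g := AlgebraTensorModule.lTensor B B (Submodule.mkQ (x • (⊤ : Submodule A N)))
      have hμ : ∀ z : B ⊗[A] N, μ.lTensor B z = algebraMap A B x • z := fun z => by
        rw [LinearMap.lTensor_smul, LinearMap.smul_apply, LinearMap.lTensor_id, LinearMap.id_apply, algebraMap_smul]
      have hex : Function.Exact μ (Submodule.mkQ (x • (⊤ : Submodule A N))) := by
        intro z
        rw [Submodule.mkQ_apply, Submodule.Quotient.mk_eq_zero, Submodule.mem_smul_pointwise_iff_exists]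
        simp [μ]
      have hex' := Module.Flat.lTensor_exact B hex
      have hxreg : IsSMulRegular (B ⊗[A] N) (algebraMap A B x) := fun a b h => by
        refine Module.Flat.lTensor_preserves_injective_linearMap (M := B) μ (fun a b h => hreg h) ?_
        rw [hμ, hμ]; exact h
      let K : Submodule B (B ⊗[A] N) := LinearMap.ker (LinearMap.lsmul B (B ⊗[A] N) y)
      have hK : K ≤ Ideal.span {algebraMap A B x} • K := by
        intro z hz
        have hz' : y • z = 0 := hz
        have h0 : g z = 0 := hQ.right_eq_zero_of_smul (by rw [← map_smul, hz', map_zero])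
        obtain ⟨w, hw⟩ := (hex' z).1 h0
        rw [hμ] at hw
        rw [← hw]
        refine Submodule.smul_mem_smul (Ideal.mem_span_singleton_self _) ?_
        exact hxreg.right_eq_zero_of_smul (show algebraMap A B x • (y • w) = 0 by rw [smul_comm, hw]; exact hz')
      have hbot : K = ⊥ := Submodule.eq_bot_of_le_smul_of_le_jacobson_bot _ K (IsNoetherian.noetherian K) hK
        ((Ideal.span_singleton_le_iff_mem _).2 (maximalIdeal_le_jacobson _ (algebraMap_mem_maximalIdeal hxm)))
      have key : ∀ z : B ⊗[A] N, y • z = 0 → z = 0 := fun z hz => by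
        have hzK : z ∈ K := hz
        rwa [hbot, Submodule.mem_bot] at hzK
      exact fun a b hab => sub_eq_zero.1 (key _ (by rw [smul_sub]; exact sub_eq_zero.2 hab))
    | exact N₁ N₂ N₃ f g hf hg hfg h₁ h₃ =>
      intro hI
      have r₁ := h₁ (hI.trans (f.annihilator_le_of_injective hf))
      have r₃ := h₃ (hI.trans (g.annihilator_le_of_surjective hg))
      suffices key : ∀ z : B ⊗[A] N₂, y • z = 0 → z = 0 from
        fun a b hab => sub_eq_zero.1 (key _ (by rw [smul_sub]; exact sub_eq_zero.2 hab))
      intro z hz
      have h0 : AlgebraTensorModule.lTensor B B g z = 0 := r₃.right_eq_zero_of_smul (by rw [← map_smul, hz, map_zero])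
      obtain ⟨w, rfl⟩ := (Module.Flat.lTensor_exact B hfg z).1 h0
      have hi : Function.Injective (AlgebraTensorModule.lTensor B B f) :=
        Module.Flat.lTensor_preserves_injective_linearMap (M := B) f hf
      have : y • w = 0 := hi (by rw [map_smul, map_zero]; exact hz)
      rw [r₁.right_eq_zero_of_smul this, map_zero]

theorem isSMulRegular_of_fibre {y : B}
    (hy : IsSMulRegular (B ⧸ (maximalIdeal A).map (algebraMap A B)) y) : IsSMulRegular B y := by
  intro a b h
  have h1 := isSMulRegular_tensor_of_fibre (A := A) hy A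
  refine (AlgebraTensorModule.rid A B B).symm.injective (h1 ?_)
  simp only [← map_smul]
  exact congrArg _ h

/-- If `y` is regular on the closed fibre then `B/yB` is flat over `A`. -/
theorem flat_quotient_span_of_fibre {y : B}
    (hy : IsSMulRegular (B ⧸ (maximalIdeal A).map (algebraMap A B)) y) :
    Module.Flat A (B ⧸ Ideal.span {y}) := by
  rw [Module.Flat.iff_lTensor_injective]
  intro I _
  rw [injective_iff_map_eq_zero]
  intro u hu
  let q : B →ₗ[A] B ⧸ Ideal.span {y} := (Submodule.mkQ (Ideal.span {y} : Ideal B)).restrictScalars A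
  let μ : B →ₗ[A] B := (LinearMap.lsmul B B y).restrictScalars A
  have hμq : Function.Exact μ q := by
    intro z
    simp only [q, μ, LinearMap.coe_restrictScalars, Submodule.mkQ_apply, Submodule.Quotient.mk_eq_zero,
      Ideal.mem_span_singleton', Set.mem_range, LinearMap.lsmul_apply, smul_eq_mul]
    exact ⟨fun ⟨a, ha⟩ => ⟨a, by rw [mul_comm, ha]⟩, fun ⟨a, ha⟩ => ⟨a, by rw [mul_comm, ha]⟩⟩
  have hq : Function.Surjective q := Submodule.mkQ_surjective _
  have hμs : ∀ (N : Type u) [AddCommGroup N] [Module A N] (z : B ⊗[A] N), μ.rTensor N z = y • z := fun N _ _ z => by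
    induction z using TensorProduct.induction_on with
    | zero => simp
    | tmul a b => simp [μ, TensorProduct.smul_tmul']
    | add a b ha hb => simp [map_add, ha, hb, smul_add]
  obtain ⟨z, rfl⟩ := LinearMap.rTensor_surjective I hq u
  rw [← LinearMap.comp_apply, LinearMap.lTensor_comp_rTensor, ← LinearMap.rTensor_comp_lTensor, LinearMap.comp_apply] at hu
  obtain ⟨w, hw⟩ := (rTensor_exact A hμq hq _).1 hu
  rw [hμs] at hw
  have hπ : (Submodule.mkQ I).lTensor B w = 0 := by
    refine (isSMulRegular_tensor_of_fibre (A := A) hy (A ⧸ I)).right_eq_zero_of_smul ?_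
    rw [← hμs, ← LinearMap.comp_apply, LinearMap.rTensor_comp_lTensor, ← LinearMap.lTensor_comp_rTensor,
      LinearMap.comp_apply, hμs, hw, ← LinearMap.comp_apply, ← LinearMap.lTensor_comp,
      (LinearMap.exact_subtype_mkQ I).linearMap_comp_eq_zero, LinearMap.lTensor_zero, LinearMap.zero_apply]
  obtain ⟨z', rfl⟩ := (Module.Flat.lTensor_exact B (LinearMap.exact_subtype_mkQ I) w).1 hπ
  have heq : y • z' = z := by
    refine Module.Flat.lTensor_preserves_injective_linearMap (M := B) I.subtype Subtype.val_injective ?_
    rw [← hw, ← hμs, ← hμs, ← LinearMap.comp_apply, ← LinearMap.comp_apply, LinearMap.rTensor_comp_lTensor,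
      LinearMap.lTensor_comp_rTensor]
  rw [← heq, ← hμs]
  exact (rTensor_exact I hμq hq _).2 ⟨_, rfl⟩

omit [IsNoetherianRing A] in
theorem spanFinrank_quotient_add_one_of_notMem_sq {R : Type u} [CommRing R] [IsLocalRing R] [IsNoetherianRing R]
    {x : R} (hx : x ∈ maximalIdeal R) (hx2 : x ∉ maximalIdeal R ^ 2) [IsLocalRing (R ⧸ Ideal.span {x})] :
    (maximalIdeal (R ⧸ Ideal.span {x})).spanFinrank + 1 = (maximalIdeal R).spanFinrank := by
  classical
  refine le_antisymm ?_ ?_
  · obtain ⟨s, hs1, hs2⟩ := (IsNoetherian.noetherian (maximalIdeal R)).exists_span_finset_card_eq_spanFinrank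
    obtain ⟨c, -, hc⟩ := Submodule.mem_span_finset.1 (hs2.ge hx)
    obtain ⟨g, hg, hgu⟩ : ∃ g ∈ s, IsUnit (c g) := by
      by_contra! hall
      refine hx2 ?_
      rw [← hc, pow_two]
      exact Submodule.sum_mem _ fun g hg => Ideal.mul_mem_mul (hall g hg) (hs2.le (Submodule.subset_span hg))
    let q := Ideal.Quotient.mk (Ideal.span {x})
    have hgen : maximalIdeal (R ⧸ Ideal.span {x}) ≤ Ideal.span (q '' ((s.erase g : Finset R) : Set R)) := by
      rw [← IsLocalRing.map_maximalIdeal_of_surjective q Ideal.Quotient.mk_surjective, ← hs2, Ideal.map_le_iff_le_comap]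
      refine Submodule.span_le.2 fun h hh => ?_
      by_cases hhg : h = g
      · subst hhg
        have h1 : q (c h • h) = - q (∑ i ∈ s.erase h, c i • i) := by
          rw [eq_neg_iff_add_eq_zero, ← map_add, Finset.add_sum_erase s (fun i => c i • i) hg, hc]
          exact Ideal.Quotient.eq_zero_iff_mem.2 (Ideal.mem_span_singleton_self x)
        change q h ∈ Ideal.span _
        rw [← Ideal.unit_mul_mem_iff_mem _ (hgu.map q), ← map_mul, ← smul_eq_mul, h1, map_sum]
        refine neg_mem (Submodule.sum_mem _ fun i hi => ?_)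
        rw [smul_eq_mul, map_mul]
        exact Ideal.mul_mem_left _ _ (Ideal.subset_span ⟨i, hi, rfl⟩)
      · exact Ideal.subset_span ⟨h, Finset.mem_erase.2 ⟨hhg, hh⟩, rfl⟩
    have hge : Ideal.span (q '' ((s.erase g : Finset R) : Set R)) ≤ maximalIdeal (R ⧸ Ideal.span {x}) := by
      rw [← IsLocalRing.map_maximalIdeal_of_surjective q Ideal.Quotient.mk_surjective, ← Ideal.map_span]
      exact Ideal.map_mono ((Submodule.span_mono (Finset.coe_subset.2 (Finset.erase_subset _ _))).trans hs2.le)
    rw [le_antisymm hgen hge, ← hs1, ← Finset.card_erase_add_one hg]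
    refine Nat.add_le_add_right ?_ 1
    refine (Submodule.spanFinrank_span_le_ncard_of_finite ((Finset.finite_toSet _).image _)).trans ?_
    exact (Set.ncard_image_le (Finset.finite_toSet _)).trans (le_of_eq (Set.ncard_coe_finset _))
  · refine (spanFinrank_maximalIdeal_le_add (Ideal.span {x})).trans ?_
    rw [add_comm (maximalIdeal _).spanFinrank]
    refine Nat.add_le_add_right ?_ _
    exact (Submodule.spanFinrank_span_le_ncard_of_finite (Set.finite_singleton x)).trans (Set.ncard_singleton x).le

omit [IsNoetherianRing B] [IsLocalRing B] [IsLocalHom (algebraMap A B)] [Module.Flat A B] in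
/-- Minimal numbers of generators add up along a flat local map with regular closed fibre. -/
theorem spanFinrank_maximalIdeal_eq_add_fibre : ∀ (d : ℕ) (B : Type u) [CommRing B] [IsLocalRing B] [IsNoetherianRing B]
    [Algebra A B] [IsLocalHom (algebraMap A B)] [Module.Flat A B],
    IsRegularLocalRing (B ⧸ (maximalIdeal A).map (algebraMap A B)) →
    (∀ (_ : IsLocalRing (B ⧸ (maximalIdeal A).map (algebraMap A B))),
      (maximalIdeal (B ⧸ (maximalIdeal A).map (algebraMap A B))).spanFinrank = d) →
    (maximalIdeal B).spanFinrank = d + (maximalIdeal A).spanFinrank := by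
  intro d
  induction d with
  | zero =>
    intro B _ _ _ _ _ _ hreg hd
    have hm : maximalIdeal (B ⧸ (maximalIdeal A).map (algebraMap A B)) = ⊥ :=
      (Submodule.spanFinrank_eq_zero_iff_eq_bot (IsNoetherian.noetherian _)).1 (hd inferInstance)
    rw [zero_add]
    refine HenselLib.spanFinrank_maximalIdeal_of_flat B (le_antisymm
      (Ideal.map_le_iff_le_comap.2 fun a ha => map_nonunit _ a ha) fun z hz => ?_)
    have : Ideal.Quotient.mk ((maximalIdeal A).map (algebraMap A B)) z ∈ maximalIdeal (B ⧸ (maximalIdeal A).map (algebraMap A B)) := by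
      rw [← IsLocalRing.map_maximalIdeal_of_surjective _ Ideal.Quotient.mk_surjective]
      exact Ideal.mem_map_of_mem _ hz
    rw [hm, Ideal.mem_bot, Ideal.Quotient.eq_zero_iff_mem] at this
    exact this
  | succ d ih =>
    intro B _ _ _ _ _ _ hreg hd
    let F := B ⧸ (maximalIdeal A).map (algebraMap A B)
    have hd' : (maximalIdeal F).spanFinrank = d + 1 := hd inferInstance
    have hne : maximalIdeal F ≠ ⊥ := fun h => by rw [h] at hd'; simp at hd'
    obtain ⟨yb, hym, hy2⟩ : ∃ x ∈ maximalIdeal F, x ∉ maximalIdeal F ^ 2 := by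
      by_contra! hcon
      refine hne (Submodule.eq_bot_of_le_smul_of_le_jacobson_bot (maximalIdeal F) (maximalIdeal F)
        (IsNoetherian.noetherian _) ?_ (maximalIdeal_le_jacobson _))
      rw [smul_eq_mul, ← pow_two]; exact fun y hy => hcon y hy
    obtain ⟨y, rfl⟩ := Ideal.Quotient.mk_surjective yb
    let q := Ideal.Quotient.mk ((maximalIdeal A).map (algebraMap A B))
    have hmapq : (maximalIdeal B).map q = maximalIdeal F :=
      IsLocalRing.map_maximalIdeal_of_surjective q Ideal.Quotient.mk_surjective
    have hyB : y ∈ maximalIdeal B := fun hu => hym (hu.map q)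
    have hyB2 : y ∉ maximalIdeal B ^ 2 := fun h => hy2 (by
      rw [← hmapq, ← Ideal.map_pow]; exact Ideal.mem_map_of_mem _ h)
    have hreg' : IsSMulRegular F (q y) := isSMulRegular_of_notMem_sq hy2
    have hyreg : IsSMulRegular F y := fun a b h => hreg' (by
      change y • a = y • b at h
      rw [Algebra.smul_def, Algebra.smul_def] at h
      exact h)
    have : IsLocalRing (B ⧸ Ideal.span {y}) := isLocalRing_quotient (span_singleton_le_maximal hyB)
    have := flat_quotient_span_of_fibre (A := A) hyreg
    have : IsLocalHom (algebraMap A (B ⧸ Ideal.span {y})) := by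
      constructor
      intro a ha
      have hs : IsLocalHom (Ideal.Quotient.mk (Ideal.span {y})) := IsLocalHom.of_surjective _ Ideal.Quotient.mk_surjective
      exact (hs.map_nonunit (algebraMap A B a) ha).of_map (algebraMap A B) a
    have : IsLocalRing (F ⧸ Ideal.span {q y}) := isLocalRing_quotient (span_singleton_le_maximal hym)
    obtain ⟨hregQ, -⟩ := regular_quotient_of_notMem_sq hym hy2
    have hdQ := spanFinrank_quotient_add_one hym hy2
    let e : (B ⧸ Ideal.span {y}) ⧸ (maximalIdeal A).map (algebraMap A (B ⧸ Ideal.span {y})) ≃+* F ⧸ Ideal.span {q y} :=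
      ((Ideal.quotEquivOfEq (by rw [Ideal.map_map]; rfl)).trans
        (DoubleQuot.quotQuotEquivComm (Ideal.span {y}) ((maximalIdeal A).map (algebraMap A B)))).trans
        (Ideal.quotEquivOfEq (by rw [Ideal.map_span, Set.image_singleton]))
    have hregB : IsRegularLocalRing ((B ⧸ Ideal.span {y}) ⧸ (maximalIdeal A).map (algebraMap A (B ⧸ Ideal.span {y}))) :=
      IsRegularLocalRing.of_ringEquiv e.symm
    have h1 := ih (B ⧸ Ideal.span {y}) hregB (fun _ => ?_)
    · rw [← spanFinrank_quotient_add_one_of_notMem_sq hyB hyB2, h1]; omega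
    · have he := congrArg Submodule.spanFinrank (IsLocalRing.map_maximalIdeal_of_surjective e.toRingHom e.surjective)
      have h2 : (maximalIdeal ((B ⧸ Ideal.span {y}) ⧸ (maximalIdeal A).map (algebraMap A (B ⧸ Ideal.span {y})))).spanFinrank =
          (maximalIdeal (F ⧸ Ideal.span {q y})).spanFinrank := by
        have hQ1 := hregB.spanFinrank_maximalIdeal
        have hQ2 := hregQ.spanFinrank_maximalIdeal
        rw [ringKrullDim_eq_of_ringEquiv e, ← hQ2] at hQ1
        exact_mod_cast hQ1
      rw [h2]; exact Nat.add_right_cancel (hdQ.trans hd')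

end Groth.Agent.CAlgH3
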