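import Mathlib
import Groth.Prelude.Def_CAlgX

/-! Tools for the Buchsbaum-Eisenbud criterion: regular sequences on subquotients, the acyclicity lemma,
generalised inverses from minors. -/

set_option autoImplicit false

universe u

namespace Groth.Agent.CAlgH3.BEAux

/-- A list of elements is weakly regular on `M ⧸ N`, stated inside `M`. -/
def Reg {R : Type*} [CommRing R] {M : Type*} [AddCommGroup M] [Module R M] :
    List R → Submodule R M → Prop
  | [], _ => True
  | x :: xs, N => (∀ z, x • z ∈ N → z ∈ N) ∧ Reg xs (N ⊔ Ideal.span {x} • ⊤)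

lemma mem_sup_span_smul {R : Type*} [CommRing R] {M : Type*} [AddCommGroup M] [Module R M]
    {N : Submodule R M} {x : R} {z : M} :
    z ∈ N ⊔ Ideal.span {x} • ⊤ ↔ ∃ n ∈ N, ∃ y, z = n + x • y := by
  rw [Submodule.ideal_span_singleton_smul, Submodule.mem_sup]
  constructor
  · rintro ⟨n, hn, w, hw, rfl⟩
    obtain ⟨y, -, rfl⟩ := (Submodule.mem_smul_pointwise_iff_exists _ _ _).1 hw
    exact ⟨n, hn, y, rfl⟩
  · rintro ⟨n, hn, y, rfl⟩
    exact ⟨n, hn, x • y, Submodule.smul_mem_pointwise_smul _ _ _ trivial, rfl⟩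

lemma reg_iff {R : Type*} [CommRing R] {M : Type*} [AddCommGroup M] [Module R M] (xs : List R)
    (N : Submodule R M) : Reg xs N ↔ ∀ (i : ℕ) (h : i < xs.length) (z : M),
      xs[i] • z ∈ N ⊔ Ideal.ofList (xs.take i) • ⊤ → z ∈ N ⊔ Ideal.ofList (xs.take i) • ⊤ := by
  induction xs generalizing N with
  | nil => simp [Reg]
  | cons x xs ih =>
    rw [Reg, ih]
    constructor
    · rintro ⟨h0, h1⟩ (_ | i) hi z hz
      · simp only [List.take_zero, Ideal.ofList_nil, Submodule.bot_smul, sup_bot_eq] at hz ⊢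
        exact h0 z hz
      · simp only [List.take_succ_cons, Ideal.ofList_cons, Submodule.sup_smul, ← sup_assoc,
          List.getElem_cons_succ] at hz ⊢
        exact h1 i (by simpa using hi) z hz
    · intro h
      refine ⟨fun z hz => ?_, fun i hi z hz => ?_⟩
      · simpa [Ideal.ofList_nil] using h 0 (by simp) z (by simpa [Ideal.ofList_nil] using hz)
      · have := h (i + 1) (by simpa using hi) z
        simp only [List.take_succ_cons, Ideal.ofList_cons, Submodule.sup_smul, ← sup_assoc,
          List.getElem_cons_succ] at this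
        exact this hz

lemma reg_bot_iff {R : Type*} [CommRing R] {M : Type*} [AddCommGroup M] [Module R M] (xs : List R) :
    Reg xs (⊥ : Submodule R M) ↔ RingTheory.Sequence.IsWeaklyRegular M xs := by
  rw [reg_iff, RingTheory.Sequence.isWeaklyRegular_iff]
  refine forall_congr' fun i => forall_congr' fun hi => ?_
  simp only [bot_sup_eq]
  rw [isSMulRegular_iff_right_eq_zero_of_smul]
  constructor
  · intro h q hq
    obtain ⟨z, rfl⟩ := Submodule.Quotient.mk_surjective _ q
    rw [← Submodule.Quotient.mk_smul, Submodule.Quotient.mk_eq_zero] at hq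
    exact (Submodule.Quotient.mk_eq_zero _).2 (h z hq)
  · intro h z hz
    refine (Submodule.Quotient.mk_eq_zero _).1 (h _ ?_)
    rw [← Submodule.Quotient.mk_smul, Submodule.Quotient.mk_eq_zero]
    exact hz

lemma reg_pi {R : Type*} [CommRing R] {ι : Type*} [Finite ι] (xs : List R) (I : Ideal R)
    (h : Reg xs I) : Reg xs (Submodule.pi Set.univ fun _ : ι => I) := by
  induction xs generalizing I with
  | nil => trivial
  | cons x xs ih =>
    refine ⟨fun z hz i hi => h.1 _ (hz i hi), ?_⟩
    have : (Submodule.pi Set.univ fun _ : ι => I) ⊔ Ideal.span {x} • ⊤ =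
        Submodule.pi Set.univ fun _ : ι => (I ⊔ Ideal.span {x} • ⊤ : Ideal R) := by
      ext z
      rw [mem_sup_span_smul]
      constructor
      · rintro ⟨n, hn, y, rfl⟩ i hi
        exact mem_sup_span_smul.2 ⟨n i, hn i hi, y i, rfl⟩
      · intro hz
        choose n hn y hy using fun i => mem_sup_span_smul.1 (hz i (Set.mem_univ i))
        exact ⟨n, fun i _ => hn i, y, funext hy⟩
    rw [this]
    exact ih _ h.2

lemma reg_fun {R : Type*} [CommRing R] {ι : Type*} [Finite ι] (xs : List R)
    (h : Reg xs (⊥ : Ideal R)) : Reg xs (⊥ : Submodule R (ι → R)) := by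
  have : (⊥ : Submodule R (ι → R)) = Submodule.pi Set.univ fun _ : ι => (⊥ : Ideal R) := by
    ext z; simp [funext_iff]
  rw [this]; exact reg_pi xs _ h

lemma reg_retract {R : Type*} [CommRing R] {M : Type*} [AddCommGroup M] [Module R M]
    (π : M →ₗ[R] M) (B : Submodule R M) (hB : ∀ z, π z = 0 ↔ z ∈ B) (hπ : ∀ z, z - π z ∈ B)
    (xs : List R) (N : Submodule R M) (hN : N.map π ≤ N) (h : Reg xs N) : Reg xs (B ⊔ N) := by
  induction xs generalizing N with
  | nil => trivial
  | cons x xs ih =>
    refine ⟨fun z hz => ?_, ?_⟩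
    · obtain ⟨b, hb, n, hn, e⟩ := Submodule.mem_sup.1 hz
      have h1 : π n = x • π z := by
        have := congrArg π e
        rwa [map_add, (hB b).2 hb, zero_add, map_smul] at this
      have h2 : π z ∈ N := h.1 _ (h1 ▸ hN (Submodule.mem_map_of_mem hn))
      rw [← sub_add_cancel z (π z)]
      exact add_mem (Submodule.mem_sup_left (hπ z)) (Submodule.mem_sup_right h2)
    · rw [sup_assoc]
      refine ih _ ?_ h.2
      rw [Submodule.map_sup, Submodule.map_smul'']
      exact sup_le_sup hN (Submodule.smul_mono le_rfl le_top)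

lemma reg_comap {R R' : Type*} [CommRing R] [CommRing R'] (f : R →+* R') (hf : Function.Surjective f)
    (xs : List R) (I : Ideal R') (h : Reg (xs.map f) I) : Reg xs (I.comap f) := by
  induction xs generalizing I with
  | nil => trivial
  | cons x xs ih =>
    refine ⟨fun z hz => ?_, ?_⟩
    · rw [Ideal.mem_comap, smul_eq_mul, map_mul] at hz
      exact h.1 (f z) hz
    · have : I.comap f ⊔ Ideal.span {x} • ⊤ = (I ⊔ Ideal.span {f x} • ⊤).comap f := by
        ext z
        rw [mem_sup_span_smul, Ideal.mem_comap, mem_sup_span_smul]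
        constructor
        · rintro ⟨n, hn, y, rfl⟩
          exact ⟨f n, hn, f y, by rw [map_add, smul_eq_mul, map_mul, smul_eq_mul]⟩
        · rintro ⟨n, hn, y, e⟩
          obtain ⟨y, rfl⟩ := hf y
          refine ⟨z - x • y, ?_, y, (sub_add_cancel _ _).symm⟩
          rw [Ideal.mem_comap, map_sub, e, smul_eq_mul, smul_eq_mul, map_mul, add_sub_cancel_right]
          exact hn
      rw [this]
      exact ih _ h.2

lemma reg_localization {R : Type*} [CommRing R] (S : Submonoid R) (L : Type*) [CommRing L] [Algebra R L]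
    [IsLocalization S L] (xs : List R) (I : Ideal R) (h : Reg xs I) :
    Reg (xs.map (algebraMap R L)) (I.map (algebraMap R L)) := by
  induction xs generalizing I with
  | nil => trivial
  | cons x xs ih =>
    refine ⟨fun z hz => ?_, ?_⟩
    · obtain ⟨a, s, rfl⟩ := IsLocalization.exists_mk'_eq S z
      rw [smul_eq_mul, IsLocalization.mul_mk'_eq_mk'_of_mul, IsLocalization.mk'_mem_map_algebraMap_iff] at hz
      obtain ⟨t, ht, htI⟩ := hz
      rw [IsLocalization.mk'_mem_map_algebraMap_iff]
      exact ⟨t, ht, h.1 _ (by rwa [smul_eq_mul, ← mul_assoc, mul_comm x t, mul_assoc])⟩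
    · have h2 := ih _ h.2
      rw [Ideal.map_sup, smul_eq_mul, Ideal.mul_top, Ideal.map_span, Set.image_singleton] at h2
      rw [smul_eq_mul, Ideal.mul_top]
      exact h2

/-- The boundaries in degree `i + 1` of a truncated complex of subquotients. -/
def Bd {R : Type*} [CommRing R] {M : ℕ → Type u} [∀ i, AddCommGroup (M i)] [∀ i, Module R (M i)]
    (d : ∀ i, M (i + 1) →ₗ[R] M i) (N : ∀ i, Submodule R (M i)) (e i : ℕ) : Submodule R (M (i + 1)) :=
  (if i + 2 ≤ e then LinearMap.range (d (i + 1)) else ⊥) ⊔ N (i + 1)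

theorem acyclic {R : Type*} [CommRing R] : ∀ (xs : List R) (M : ℕ → Type u) [∀ i, AddCommGroup (M i)]
    [∀ i, Module R (M i)] (d : ∀ i, M (i + 1) →ₗ[R] M i) (N : ∀ i, Submodule R (M i)) (e : ℕ),
    e ≤ xs.length → (∀ i, i < e → (N (i + 1)).map (d i) ≤ N i) →
    (∀ i, i + 2 ≤ e → ∀ z, d i (d (i + 1) z) ∈ N i) → (∀ i, i ≤ e → Reg xs (N i)) →
    (∀ x ∈ xs, ∀ i, i < e → ∀ z, d i z ∈ N i → ∃ k : ℕ, x ^ k • z ∈ Bd d N e i) →
    ∀ i, i < e → ∀ z, d i z ∈ N i → z ∈ Bd d N e i
  | [], M, _, _, d, N, e, he, _, _, _, _ => fun i hi => by simp at he; omega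
  | x :: xs, M, _, _, d, N, e, he, hdN, hdd, hreg, hnil => by
    rcases Nat.eq_zero_or_pos e with rfl | hpos
    · intro i hi; omega
    -- the complex reduced modulo `x`, shifted down
    have IH := acyclic xs (fun i => M (i + 1)) (fun i => d (i + 1))
      (fun i => N (i + 1) ⊔ Ideal.span {x} • ⊤) (e - 1) (by rw [List.length_cons] at he; omega)
      (fun i hi => by
        rw [Submodule.map_sup, Submodule.map_smul'']
        exact sup_le_sup (hdN (i + 1) (by omega)) (Submodule.smul_mono le_rfl le_top))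
      (fun i hi z => Submodule.mem_sup_left (hdd (i + 1) (by omega) z))
      (fun i hi => (hreg (i + 1) (by omega)).2)
      (by
        intro a ha i hi z hz
        obtain ⟨n, hn, y, hy⟩ := mem_sup_span_smul.1 hz
        have hn' : d i n ∈ N i := hdN i (by omega) (Submodule.mem_map_of_mem hn)
        have hy' : d i y ∈ N i := (hreg i (by omega)).1 _ (by
          have h0 := sub_mem (hdd i (by omega) z) hn'
          rwa [hy, map_add, map_smul, add_sub_cancel_left] at h0)
        obtain ⟨k, hk⟩ := hnil a (List.mem_cons_of_mem _ ha) i (by omega) y hy'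
        rw [Bd, if_pos (by omega)] at hk
        obtain ⟨_, ⟨w, rfl⟩, n', hn', e'⟩ := Submodule.mem_sup.1 hk
        have hc : d (i + 1) (a ^ k • z - x • w) ∈ N (i + 1) := by
          rw [map_sub, map_smul, map_smul, hy, smul_add, smul_comm _ x y, ← e', smul_add,
            show a ^ k • n + (x • d (i + 1) w + x • n') - x • d (i + 1) w = a ^ k • n + x • n' by abel]
          exact add_mem (Submodule.smul_mem _ _ hn) (Submodule.smul_mem _ _ hn')
        obtain ⟨l, hl⟩ := hnil a (List.mem_cons_of_mem _ ha) (i + 1) (by omega) _ hc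
        refine ⟨l + k, ?_⟩
        have hz' : a ^ (l + k) • z = a ^ l • (a ^ k • z - x • w) + x • (a ^ l • w) := by
          rw [smul_sub, smul_comm x (a ^ l) w, sub_add_cancel, pow_add, mul_smul]
        rw [hz']
        refine add_mem ?_ (Submodule.mem_sup_right (mem_sup_span_smul.2 ⟨0, zero_mem _, _, (zero_add _).symm⟩))
        rw [Bd] at hl ⊢
        refine SetLike.le_def.1 (sup_le_sup (le_of_eq ?_) le_sup_left) hl
        split_ifs with h1 h2 h2
        · rfl
        · omega
        · omega
        · rfl)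
    intro i hi z hz
    -- multiplication by `x` is injective on homology
    have hinj : ∀ z, d i z ∈ N i → x • z ∈ Bd d N e i → z ∈ Bd d N e i := by
      intro z hz hxz
      rw [Bd] at hxz
      by_cases h2 : i + 2 ≤ e
      · rw [if_pos h2] at hxz
        obtain ⟨_, ⟨w, rfl⟩, n, hn, e'⟩ := Submodule.mem_sup.1 hxz
        have hw : d (i + 1) w ∈ N (i + 1) ⊔ Ideal.span {x} • ⊤ :=
          mem_sup_span_smul.2 ⟨-n, neg_mem hn, z, by rw [← e']; abel⟩
        have hw' := IH i (by omega) w hw
        rw [Bd] at hw'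
        rw [Bd, if_pos h2]
        obtain ⟨b, hb, c, hc, rfl⟩ := Submodule.mem_sup.1 hw'
        obtain ⟨n', hn', y, rfl⟩ := mem_sup_span_smul.1 hc
        have hdb : d (i + 1) b ∈ N (i + 1) := by
          split_ifs at hb with h3
          · obtain ⟨v, rfl⟩ := hb
            exact hdd (i + 1) (by omega) v
          · rw [(Submodule.mem_bot R).1 hb, map_zero]; exact zero_mem _
        have hd' : d (i + 1) n' ∈ N (i + 1) := hdN (i + 1) (by omega) (Submodule.mem_map_of_mem hn')
        have : x • (z - d (i + 1) y) ∈ N (i + 1) := by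
          have he' : x • (z - d (i + 1) y) = d (i + 1) b + d (i + 1) n' + n := by
            rw [smul_sub, ← e', map_add, map_add, map_smul]; abel
          rw [he']; exact add_mem (add_mem hdb hd') hn
        rw [← add_sub_cancel (d (i + 1) y) z]
        exact add_mem (Submodule.mem_sup_left ⟨y, rfl⟩) (Submodule.mem_sup_right ((hreg (i + 1) (by omega)).1 _ this))
      · rw [if_neg h2, bot_sup_eq] at hxz
        exact Submodule.mem_sup_right ((hreg (i + 1) (by omega)).1 z hxz)
    obtain ⟨k, hk⟩ := hnil x List.mem_cons_self i hi z hz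
    induction k with
    | zero => simpa using hk
    | succ k ih =>
      refine ih (hinj _ ?_ ?_)
      · rw [map_smul]; exact Submodule.smul_mem _ _ hz
      · rwa [smul_smul, ← pow_succ']

section Minors

variable {R : Type u} [CommRing R]

/-- A unit minor of size `r` and vanishing minors of larger size. -/
def HasData {m n : ℕ} (A : Matrix (Fin m) (Fin n) R) (r : ℕ) : Prop :=
  (∃ (ρ : Fin r → Fin m) (γ : Fin r → Fin n), IsUnit (A.submatrix ρ γ).det) ∧ CAlgX.minorIdeal A (r + 1) = ⊥

lemma exists_unit_minor [IsLocalRing R] {m n r : ℕ} {A : Matrix (Fin m) (Fin n) R}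
    (h : CAlgX.minorIdeal A r = ⊤) :
    ∃ (ρ : Fin r → Fin m) (γ : Fin r → Fin n), IsUnit (A.submatrix ρ γ).det := by
  by_contra hc
  push Not at hc
  refine (IsLocalRing.maximalIdeal.isMaximal R).ne_top (top_le_iff.1 (h ▸ Ideal.span_le.2 ?_))
  rintro _ ⟨⟨ρ, γ⟩, rfl⟩
  exact (IsLocalRing.mem_maximalIdeal _).2 (hc ρ γ)

lemma gen_inverse {m n r : ℕ} (A : Matrix (Fin m) (Fin n) R) (ρ : Fin r → Fin m) (γ : Fin r → Fin n)
    (hu : IsUnit (A.submatrix ρ γ).det) (hz : CAlgX.minorIdeal A (r + 1) = ⊥) :
    A.submatrix id γ * (A.submatrix ρ γ)⁻¹ * A.submatrix ρ id = A := by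
  ext a k
  set U := A.submatrix ρ γ
  haveI : Invertible U := Matrix.invertibleOfIsUnitDet U hu
  let e : Fin r ⊕ Fin 1 ≃ Fin (r + 1) := finSumFinEquiv
  let ρ' : Fin r ⊕ Fin 1 → Fin m := Sum.elim ρ fun _ => a
  let γ' : Fin r ⊕ Fin 1 → Fin n := Sum.elim γ fun _ => k
  have h0 : (A.submatrix ρ' γ').det = 0 := by
    have hm : (A.submatrix (ρ' ∘ e.symm) (γ' ∘ e.symm)).det ∈ CAlgX.minorIdeal A (r + 1) :=
      Ideal.subset_span ⟨(ρ' ∘ e.symm, γ' ∘ e.symm), rfl⟩
    rw [hz, Ideal.mem_bot, ← Matrix.submatrix_submatrix, Matrix.det_submatrix_equiv_self] at hm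
    exact hm
  have hblock : A.submatrix ρ' γ' = Matrix.fromBlocks U (A.submatrix ρ fun _ : Fin 1 => k)
      (A.submatrix (fun _ : Fin 1 => a) γ) (A.submatrix (fun _ : Fin 1 => a) fun _ : Fin 1 => k) := by
    ext (i | i) (j | j) <;> rfl
  rw [hblock, Matrix.det_fromBlocks₁₁, hu.mul_right_eq_zero, Matrix.det_fin_one, Matrix.invOf_eq_nonsing_inv] at h0
  have := sub_eq_zero.1 h0
  simp only [Matrix.submatrix_apply, Matrix.mul_apply, id_eq] at this ⊢
  exact this.symm

lemma submatrix_eq_mul {m n r : ℕ} (A : Matrix (Fin m) (Fin n) R) (γ : Fin r → Fin n) :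
    A.submatrix id γ = A * (1 : Matrix (Fin n) (Fin n) R).submatrix id γ := by
  ext i j
  simp [Matrix.mul_apply, Matrix.one_apply]

lemma submatrix_eq_mul' {m n r : ℕ} (A : Matrix (Fin m) (Fin n) R) (ρ : Fin r → Fin m) :
    A.submatrix ρ id = (1 : Matrix (Fin m) (Fin m) R).submatrix ρ id * A := by
  ext i j
  simp [Matrix.mul_apply, Matrix.one_apply]

/-- Two matrices of complementary ranks with zero product form an exact sequence. -/
theorem exact_of_data {l m n r r' : ℕ} (A : Matrix (Fin l) (Fin m) R) (B : Matrix (Fin m) (Fin n) R)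
    (hAB : A * B = 0) (hA : HasData A r) (hB : HasData B r') (hr : r + r' = m)
    {z : Fin m → R} (hz : A.mulVec z = 0) : ∃ w, B.mulVec w = z := by
  obtain ⟨⟨ρ, γ, hu⟩, -⟩ := hA
  obtain ⟨⟨ρ', γ', hu'⟩, hz'⟩ := hB
  set U := A.submatrix ρ γ
  set U' := B.submatrix ρ' γ'
  set E := (1 : Matrix (Fin m) (Fin m) R).submatrix id γ
  set E' := (1 : Matrix (Fin n) (Fin n) R).submatrix id γ'
  have hU : A.submatrix ρ id * E = U := by rw [← submatrix_eq_mul]; rfl
  have hU' : B.submatrix ρ' id * E' = U' := by rw [← submatrix_eq_mul]; rfl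
  let e : ((Fin r → R) × (Fin r' → R)) ≃ₗ[R] (Fin m → R) :=
    (LinearEquiv.sumArrowLequivProdArrow (Fin r) (Fin r') R R).symm.trans
      (LinearEquiv.funCongrLeft R R (finSumFinEquiv.trans (finCongr hr)).symm)
  let φ : (Fin m → R) →ₗ[R] (Fin r → R) × (Fin r' → R) :=
    LinearMap.prod (A.submatrix ρ id).mulVecLin (LinearMap.funLeft R R ρ')
  have hsurj : Function.Surjective φ := by
    rintro ⟨a, b⟩
    let v := E.mulVec (U⁻¹.mulVec a)
    let w := E'.mulVec (U'⁻¹.mulVec (b - v ∘ ρ'))
    refine ⟨v + B.mulVec w, Prod.ext ?_ ?_⟩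
    · change (A.submatrix ρ id).mulVec (v + B.mulVec w) = a
      rw [Matrix.mulVec_add, Matrix.mulVec_mulVec w, submatrix_eq_mul' A ρ, Matrix.mul_assoc, hAB,
        Matrix.mul_zero, Matrix.zero_mulVec, add_zero, ← submatrix_eq_mul' A ρ, Matrix.mulVec_mulVec,
        Matrix.mulVec_mulVec, hU, Matrix.mul_nonsing_inv _ hu, Matrix.one_mulVec]
    · change (v + B.mulVec w) ∘ ρ' = b
      have : (B.mulVec w) ∘ ρ' = (B.submatrix ρ' id).mulVec w := rfl
      rw [Pi.add_comp, this, Matrix.mulVec_mulVec, Matrix.mulVec_mulVec, hU',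
        Matrix.mul_nonsing_inv _ hu', Matrix.one_mulVec, add_sub_cancel]
  have hinj : Function.Injective φ := by
    have h : Function.Injective (e.toLinearMap ∘ₗ φ) :=
      OrzechProperty.injective_of_surjective_endomorphism _ (e.surjective.comp hsurj)
    rw [LinearMap.coe_comp] at h
    exact Function.Injective.of_comp h
  refine ⟨E'.mulVec (U'⁻¹.mulVec (z ∘ ρ')), hinj (Prod.ext ?_ ?_)⟩
  · change (A.submatrix ρ id).mulVec _ = (A.submatrix ρ id).mulVec z
    rw [submatrix_eq_mul' A ρ, ← Matrix.mulVec_mulVec _ _ A, ← Matrix.mulVec_mulVec _ _ A, hz,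
      Matrix.mulVec_mulVec _ A B, hAB, Matrix.zero_mulVec]
  · change (B.submatrix ρ' id).mulVec (E'.mulVec (U'⁻¹.mulVec (z ∘ ρ'))) = z ∘ ρ'
    rw [Matrix.mulVec_mulVec, Matrix.mulVec_mulVec, hU', Matrix.mul_nonsing_inv _ hu', Matrix.one_mulVec]

lemma hasData_zero (m : ℕ) : HasData (0 : Matrix (Fin m) (Fin 0) R) 0 := by
  refine ⟨⟨fun i => i.elim0, fun i => i.elim0, by simp⟩, Ideal.span_eq_bot.2 ?_⟩
  rintro _ ⟨⟨ρ, γ⟩, rfl⟩
  exact (γ 0).elim0

/-- Over a field an injective matrix has a nonzero maximal minor. -/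
lemma exists_minor_of_injective {K : Type*} [Field K] {m r : ℕ} (C : Matrix (Fin m) (Fin r) K)
    (h : Function.Injective C.mulVec) : ∃ ρ : Fin r → Fin m, (C.submatrix ρ id).det ≠ 0 := by
  have hspan : Submodule.span K (Set.range C.row) = ⊤ := by
    apply Submodule.eq_top_of_finrank_eq
    rw [← Matrix.rank_eq_finrank_span_row, Matrix.rank,
      LinearMap.finrank_range_of_inj (f := C.mulVecLin) h]
  obtain ⟨b, hb, hbs, hbl⟩ := exists_linearIndependent K (Set.range C.row)
  haveI : Fintype b := (Set.finite_range C.row).subset hb |>.fintype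
  rw [hspan] at hbs
  let bas := Module.Basis.mk hbl (by simp [hbs])
  have hcard : Fintype.card b = r := by
    rw [← Module.finrank_eq_card_basis bas]; simp
  choose f hf using fun x : b => hb x.2
  let eb : Fin r ≃ b := (Fintype.equivFinOfCardEq hcard).symm
  refine ⟨fun k => f (eb k), ?_⟩
  have hli : LinearIndependent K (C.submatrix (fun k => f (eb k)) id).row := by
    have : (C.submatrix (fun k => f (eb k)) id).row = (Subtype.val : b → (Fin r → K)) ∘ eb := by
      funext k; exact hf (eb k)
    rw [this]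
    exact hbl.comp _ eb.injective
  rw [Matrix.linearIndependent_rows_iff_isUnit, Matrix.isUnit_iff_isUnit_det] at hli
  exact hli.ne_zero

/-- Over a local ring of depth zero, exactness propagates the rank data downwards. -/
theorem data_step [IsLocalRing R] {s : R} (hs : s ≠ 0) (hms : ∀ a ∈ IsLocalRing.maximalIdeal R, a * s = 0)
    {l m n r' : ℕ} (A : Matrix (Fin l) (Fin m) R) (B : Matrix (Fin m) (Fin n) R) (hAB : A * B = 0)
    (hB : HasData B r') (hex : ∀ z, A.mulVec z = 0 → ∃ w, B.mulVec w = z) :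
    ∃ r, r + r' = m ∧ HasData A r := by
  classical
  obtain ⟨⟨ρ', γ', hu'⟩, hz'⟩ := hB
  set U' := B.submatrix ρ' γ'
  have hρ : Function.Injective ρ' := by
    intro i j hij
    by_contra hne
    refine not_isUnit_zero (M₀ := R) ?_
    rwa [show U'.det = 0 from Matrix.det_zero_of_row_eq hne (funext fun k => by simp [U', hij])] at hu'
  set S : Finset (Fin m) := (Finset.univ.image ρ')ᶜ
  have hS : r' + S.card = m := by
    have := Finset.card_add_card_compl (Finset.univ.image ρ')
    rwa [Finset.card_image_of_injective _ hρ, Finset.card_univ, Fintype.card_fin, Fintype.card_fin] at this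
  let σ : Fin S.card → Fin m := S.orderEmbOfFin rfl
  have hσ : ∀ i : Fin m, (∃ a, ρ' a = i) ∨ ∃ k, σ k = i := fun i => by
    by_cases h : i ∈ S
    · exact Or.inr (by
        have : i ∈ Set.range (S.orderEmbOfFin rfl) := by rw [Finset.range_orderEmbOfFin]; exact h
        exact this)
    · simp [S] at h
      exact Or.inl h
  have hσρ : ∀ k a, σ k ≠ ρ' a := fun k a h => by
    have := S.orderEmbOfFin_mem rfl k
    simp only [S, Finset.mem_compl, Finset.mem_image, Finset.mem_univ, true_and] at this
    exact this ⟨a, h.symm⟩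
  set E' := (1 : Matrix (Fin n) (Fin n) R).submatrix id γ'
  set Q := E' * U'⁻¹ * (1 : Matrix (Fin m) (Fin m) R).submatrix ρ' id
  set P := 1 - B * Q with hP
  have hgi := gen_inverse B ρ' γ' hu' hz'
  have hProw : P.submatrix ρ' id = 0 := by
    have h1 : (B * Q).submatrix ρ' id = (1 : Matrix (Fin m) (Fin m) R).submatrix ρ' id := by
      rw [submatrix_eq_mul' (B * Q), ← Matrix.mul_assoc, ← submatrix_eq_mul' B, ← Matrix.mul_assoc,
        ← Matrix.mul_assoc, ← submatrix_eq_mul (B.submatrix ρ' id),
        show (B.submatrix ρ' id).submatrix id γ' = U' from rfl, Matrix.mul_nonsing_inv _ hu', Matrix.one_mul]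
    rw [hP]
    ext i j
    have := congrFun (congrFun h1 i) j
    simp only [Matrix.submatrix_apply, id_eq] at this
    simp [this]
    exact sub_self _
  set Eσ := (1 : Matrix (Fin m) (Fin m) R).submatrix id σ
  have hPfac : P = Eσ * P.submatrix σ id := by
    ext i j
    rw [Matrix.mul_apply]
    rcases hσ i with ⟨a, rfl⟩ | ⟨k, rfl⟩
    · rw [show P (ρ' a) j = 0 from congrFun (congrFun hProw a) j]
      refine (Finset.sum_eq_zero fun k _ => ?_).symm
      simp [Eσ, (hσρ k a).symm]
    · rw [Finset.sum_eq_single k]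
      · simp [Eσ, Matrix.one_apply]
      · intro b _ hb
        have : σ k ≠ σ b := fun h => hb ((S.orderEmbOfFin rfl).injective h).symm
        simp [Eσ, this]
      · simp
  have hAfac : A = A.submatrix id σ * P.submatrix σ id := by
    rw [submatrix_eq_mul A σ, Matrix.mul_assoc, ← hPfac, hP, Matrix.mul_sub, Matrix.mul_one,
      ← Matrix.mul_assoc, hAB, Matrix.zero_mul, sub_zero]
  have hinj : ∀ w, (A.submatrix id σ).mulVec w = 0 → w = 0 := by
    intro w hw
    rw [submatrix_eq_mul, ← Matrix.mulVec_mulVec] at hw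
    obtain ⟨v, hv⟩ := hex _ hw
    have hrow : (B.submatrix ρ' id).mulVec v = 0 := by
      funext a
      have : (B.submatrix ρ' id).mulVec v a = Eσ.mulVec w (ρ' a) := congrFun hv (ρ' a)
      rw [this, Matrix.mulVec, dotProduct, Pi.zero_apply]
      refine Finset.sum_eq_zero fun k _ => ?_
      simp [Eσ, (hσρ k a).symm]
    have hB0 : B.mulVec v = 0 := by
      conv_lhs => rw [← hgi]
      rw [← Matrix.mulVec_mulVec, hrow, Matrix.mulVec_zero]
    funext k
    have h1 : Eσ.mulVec w (σ k) = 0 := by
      rw [show Eσ.mulVec w = B.mulVec v from hv.symm, hB0]; rfl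
    rw [Matrix.mulVec, dotProduct, Finset.sum_eq_single k] at h1
    · simpa [Eσ, Matrix.one_apply] using h1
    · intro b _ hb
      have : σ k ≠ σ b := fun h => hb ((S.orderEmbOfFin rfl).injective h).symm
      simp [Eσ, this]
    · simp
  refine ⟨S.card, by omega, ?_, Ideal.span_eq_bot.2 ?_⟩
  · let res := IsLocalRing.residue R
    have hC : Function.Injective ((A.submatrix id σ).map res).mulVec := by
      intro x y hxy
      obtain ⟨x, rfl⟩ : ∃ x', (fun i => res (x' i)) = x :=
        ⟨fun i => (IsLocalRing.residue_surjective (x i)).choose,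
          funext fun i => (IsLocalRing.residue_surjective (x i)).choose_spec⟩
      obtain ⟨y, rfl⟩ : ∃ y', (fun i => res (y' i)) = y :=
        ⟨fun i => (IsLocalRing.residue_surjective (y i)).choose,
          funext fun i => (IsLocalRing.residue_surjective (y i)).choose_spec⟩
      have hm : ∀ i, (A.submatrix id σ).mulVec (x - y) i * s = 0 := fun i => hms _ (by
        refine (IsLocalRing.residue_eq_zero_iff _).1 ?_
        rw [RingHom.map_mulVec (IsLocalRing.residue R),
          show (IsLocalRing.residue R : R → _) ∘ (x - y) = (fun i => res (x i)) - fun i => res (y i) by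
            funext i; simp [res], Matrix.mulVec_sub, hxy, sub_self]
        rfl)
      have h0 := hinj (s • (x - y)) (by
        rw [Matrix.mulVec_smul]; funext i; rw [Pi.smul_apply, smul_eq_mul, mul_comm]; exact hm i)
      funext k
      by_contra hne
      refine hs ?_
      have hu : IsUnit (x k - y k) := by
        by_contra hnu
        exact hne (sub_eq_zero.1 (by
          rw [← map_sub]; exact (IsLocalRing.residue_eq_zero_iff _).2 ((IsLocalRing.mem_maximalIdeal _).2 hnu)))
      exact hu.mul_left_eq_zero.1 (congrFun h0 k)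
    obtain ⟨ρ, hρ⟩ := exists_minor_of_injective _ hC
    refine ⟨ρ, σ, ?_⟩
    by_contra hnu
    refine hρ ?_
    rw [show ((A.submatrix id σ).map res).submatrix ρ id = (A.submatrix ρ σ).map res from rfl,
      show ((A.submatrix ρ σ).map res).det = res (A.submatrix ρ σ).det from (RingHom.map_det res _).symm]
    exact (IsLocalRing.residue_eq_zero_iff _).2 ((IsLocalRing.mem_maximalIdeal _).2 hnu)
  · rintro _ ⟨⟨ρ, γ⟩, rfl⟩
    dsimp only
    rw [hAfac, ← Matrix.submatrix_mul_equiv _ _ ρ (Equiv.refl (Fin S.card)) γ]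
    set X := (A.submatrix id σ).submatrix ρ (Equiv.refl (Fin S.card))
    set Y := (P.submatrix σ id).submatrix (Equiv.refl (Fin S.card)) γ
    let X' : Matrix (Fin (S.card + 1)) (Fin (S.card + 1)) R := fun i => Fin.snoc (X i) 0
    let Y' : Matrix (Fin (S.card + 1)) (Fin (S.card + 1)) R := Fin.snoc Y 0
    have : X * Y = X' * Y' := by
      ext i j
      simp [Matrix.mul_apply, Fin.sum_univ_castSucc, X', Y']
    rw [this, Matrix.det_mul, Matrix.det_eq_zero_of_column_eq_zero (Fin.last _) fun i => by simp [X'],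
      zero_mul]

end Minors

end Groth.Agent.CAlgH3.BEAux
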