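import Groth.Agent.CAlgH.NagataComplete
import Groth.Agent.CAlgH3.RegularCore
import Groth.Agent.CAlgH3.Depth
import Groth.Agent.DimLib.Algebra
import Mathlib.RingTheory.Ideal.AssociatedPrime.Localization
import Mathlib.RingTheory.TensorProduct.Quotient
import Mathlib.Algebra.Module.FinitePresentation

/-! Associated primes and flat algebras; dimension of components over a complete local domain. -/

universe u

open IsLocalRing TensorProduct Pointwise

namespace Groth.Agent.CAlgH3.AssFlat

variable {A B : Type u} [CommRing A] [CommRing B] [IsNoetherianRing A] [IsNoetherianRing B] [Algebra A B]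
  [Module.Flat A B]

theorem exists_prime_of_mem (N : Type u) [AddCommGroup N] [Module A N] [Module.Finite A N] :
    ∀ Q ∈ associatedPrimes B (B ⊗[A] N), ∃ p : PrimeSpectrum A, Module.annihilator A N ≤ p.asIdeal ∧
      Q ∈ associatedPrimes B (B ⊗[A] (A ⧸ p.asIdeal)) := by
  induction ‹Module.Finite A N› using IsNoetherianRing.induction_on_isQuotientEquivQuotientPrime A with
  | subsingleton N =>
    intro Q hQ
    exact absurd hQ (not_isAssociatedPrime_of_subsingleton)
  | quotient N p f =>
    intro Q hQ
    refine ⟨p, ?_, ?_⟩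
    · rw [f.annihilator_eq, Ideal.annihilator_quotient]
    · rwa [← LinearEquiv.AssociatedPrimes.eq (f.baseChange A B _ _)]
  | exact N₁ N₂ N₃ f g hf hg hfg h₁ h₃ =>
    intro Q hQ
    have hf' : Function.Injective (f.baseChange B) := by
      rw [LinearMap.baseChange_eq_ltensor]; exact Module.Flat.lTensor_preserves_injective_linearMap f hf
    have hfg' : Function.Exact (f.baseChange B) (g.baseChange B) := by
      rw [LinearMap.baseChange_eq_ltensor, LinearMap.baseChange_eq_ltensor]; exact lTensor_exact B hfg hg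
    rcases associatedPrimes.subset_union_of_exact hf' hfg' hQ with h | h
    · obtain ⟨p, hp, hpQ⟩ := h₁ Q h
      exact ⟨p, (LinearMap.annihilator_le_of_injective f hf).trans hp, hpQ⟩
    · obtain ⟨p, hp, hpQ⟩ := h₃ Q h
      exact ⟨p, (LinearMap.annihilator_le_of_surjective g hg).trans hp, hpQ⟩

theorem comap_eq_of_mem (p : Ideal A) [p.IsPrime] {Q : Ideal B} (hQ : Q ∈ associatedPrimes B (B ⊗[A] (A ⧸ p))) :
    Q.comap (algebraMap A B) = p := by
  obtain ⟨hQp, x, hx⟩ := isAssociatedPrime_iff.1 hQ
  have hmem : ∀ a : A, a ∈ Q.comap (algebraMap A B) ↔ a • x = 0 := fun a => by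
    rw [Ideal.mem_comap, hx, Submodule.mem_colon_singleton, Submodule.mem_bot, algebraMap_smul]
  ext a
  refine ⟨fun ha => ?_, fun ha => ?_⟩
  · by_contra hap
    have hinj : Function.Injective (LinearMap.lsmul A (A ⧸ p) a) := (injective_iff_map_eq_zero _).2 fun z hz => by
      obtain ⟨z, rfl⟩ := Ideal.Quotient.mk_surjective z
      have : Ideal.Quotient.mk p (a * z) = 0 := hz
      rw [Ideal.Quotient.eq_zero_iff_mem] at this
      exact Ideal.Quotient.eq_zero_iff_mem.2 ((‹p.IsPrime›.mem_or_mem this).resolve_left hap)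
    have h0 : ∀ z, LinearMap.lTensor B (LinearMap.lsmul A (A ⧸ p) a) z = a • z := fun z => by
      induction z using TensorProduct.induction_on with
      | zero => simp
      | tmul y r => simp [TensorProduct.tmul_smul]
      | add u v hu hv => rw [map_add, hu, hv, smul_add]
    have hx0 : x = 0 := Module.Flat.lTensor_preserves_injective_linearMap _ hinj
      (by rw [h0, (hmem a).1 ha, map_zero])
    exact hQp.ne_top ((Ideal.eq_top_iff_one Q).2 (by rw [hx, hx0, Submodule.mem_colon_singleton]; simp))
  · rw [hmem]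
    clear hx hmem
    induction x using TensorProduct.induction_on with
    | zero => simp
    | tmul y r =>
      obtain ⟨r, rfl⟩ := Ideal.Quotient.mk_surjective r
      rw [← TensorProduct.tmul_smul]
      change y ⊗ₜ[A] (Ideal.Quotient.mk p (a * r)) = 0
      rw [Ideal.Quotient.eq_zero_iff_mem.2 (p.mul_mem_right r ha), TensorProduct.tmul_zero]
    | add u v hu hv => rw [smul_add, hu, hv, add_zero]

theorem mem_of_mem {N : Type u} [AddCommGroup N] [Module A N] [Module.Finite A N] {Q : Ideal B}
    (hQ : Q ∈ associatedPrimes B (B ⊗[A] N)) :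
    Q.comap (algebraMap A B) ∈ associatedPrimes A N ∧
      Q ∈ associatedPrimes B (B ⊗[A] (A ⧸ Q.comap (algebraMap A B))) := by
  classical
  obtain ⟨p, -, hpQ⟩ := exists_prime_of_mem N Q hQ
  have hp := comap_eq_of_mem p.asIdeal hpQ
  refine ⟨?_, by rwa [hp]⟩
  obtain ⟨hQp, x, hx⟩ := isAssociatedPrime_iff.1 hQ
  obtain ⟨k, g, hg⟩ := Submodule.fg_iff_exists_fin_generating_family.1 (IsNoetherian.noetherian (Q.comap (algebraMap A B)))
  let φ : N →ₗ[A] (Fin k → N) := LinearMap.pi fun i => g i • LinearMap.id
  have hφx : φ.baseChange B x = 0 := by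
    have h1 : φ = ∑ i, (LinearMap.single A (fun _ : Fin k => N) i) ∘ₗ (g i • LinearMap.id) := by
      ext z i
      simp [φ, Pi.single_apply]
    have h2 : ∀ i, g i • x = 0 := fun i => by
      have : algebraMap A B (g i) ∈ Q := Ideal.mem_comap.1 (hg ▸ Submodule.subset_span ⟨i, rfl⟩)
      rw [hx, Submodule.mem_colon_singleton, Submodule.mem_bot, algebraMap_smul] at this
      exact this
    rw [LinearMap.baseChange_eq_ltensor, h1, ← LinearMap.coe_lTensorHom, map_sum, LinearMap.sum_apply]
    refine Finset.sum_eq_zero fun i _ => ?_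
    rw [LinearMap.coe_lTensorHom, LinearMap.lTensor_comp, LinearMap.comp_apply, LinearMap.lTensor_smul,
      LinearMap.smul_apply, LinearMap.lTensor_id, LinearMap.id_apply, h2 i, map_zero]
  have hex := lTensor_exact_iff_aux φ x hφx
  obtain ⟨y, rfl⟩ := hex
  have hinj : Function.Injective ((LinearMap.ker φ).subtype.baseChange B) := by
    rw [LinearMap.baseChange_eq_ltensor]
    exact Module.Flat.lTensor_preserves_injective_linearMap _ (Submodule.injective_subtype _)
  have hQ' : Q ∈ associatedPrimes B (B ⊗[A] ↥(LinearMap.ker φ)) := isAssociatedPrime_iff.2 ⟨hQp, y, by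
    rw [hx]
    ext b
    rw [Submodule.mem_colon_singleton, Submodule.mem_bot, Submodule.mem_colon_singleton, Submodule.mem_bot, ← map_smul,
      ← map_zero ((LinearMap.ker φ).subtype.baseChange B), hinj.eq_iff]⟩
  obtain ⟨p', hp'ann, hp'Q⟩ := exists_prime_of_mem _ Q hQ'
  have hp' := comap_eq_of_mem p'.asIdeal hp'Q
  refine associatedPrimes.subset_of_injective (Submodule.injective_subtype (LinearMap.ker φ))
    (Module.associatedPrimes.minimalPrimes_annihilator_subset_associatedPrimes A _ ?_)
  have hle : Q.comap (algebraMap A B) ≤ Module.annihilator A ↥(LinearMap.ker φ) := by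
    rw [← hg, Submodule.span_le]
    rintro _ ⟨i, rfl⟩
    rw [SetLike.mem_coe, Module.mem_annihilator]
    intro z
    exact Subtype.ext (congrFun (LinearMap.mem_ker.1 z.2) i)
  exact ⟨⟨Ideal.comap_isPrime _ Q, hp' ▸ hp'ann⟩, fun r hr _ => hle.trans hr.2⟩
where
  lTensor_exact_iff_aux {N N' : Type u} [AddCommGroup N] [Module A N] [AddCommGroup N'] [Module A N'] (φ : N →ₗ[A] N')
      (x : B ⊗[A] N) (hx : φ.baseChange B x = 0) : ∃ y, (LinearMap.ker φ).subtype.baseChange B y = x := by
    have := Module.Flat.lTensor_exact B (LinearMap.exact_subtype_ker_map φ)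
    exact (this x).1 hx

/-- The depth step: an associated prime grows by a regular element. -/
theorem exists_mem_associatedPrimes_quotSMulTop [IsLocalRing B] {M : Type u} [AddCommGroup M] [Module B M]
    [Module.Finite B M] {a : B} (ha : a ∈ maximalIdeal B) (hreg : IsSMulRegular M a) {Q : Ideal B}
    (hQ : Q ∈ associatedPrimes B M) : ∃ Q₁ ∈ associatedPrimes B (QuotSMulTop a M), Q ≤ Q₁ ∧ a ∈ Q₁ := by
  obtain ⟨hQp, x, hx⟩ := isAssociatedPrime_iff.1 hQ
  let N : Submodule B M :=
    { carrier := {m | ∀ q ∈ Q, q • m = 0}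
      add_mem' := fun {u v} hu hv q hq => by rw [smul_add, hu q hq, hv q hq, add_zero]
      zero_mem' := fun q _ => smul_zero q
      smul_mem' := fun r m hm q hq => by rw [smul_comm, hm q hq, smul_zero] }
  have hxN : x ∈ N := fun q hq => by
    rw [hx, Submodule.mem_colon_singleton, Submodule.mem_bot] at hq; exact hq
  obtain ⟨m, hmN, hm⟩ : ∃ m ∈ N, m ∉ a • N := by
    by_contra! hall
    have hle : N ≤ maximalIdeal B • N := fun m hm => by
      obtain ⟨n, hn, rfl⟩ := Set.mem_smul_set.1 (hall m hm)
      exact Submodule.smul_mem_smul ha hn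
    have hN := Submodule.eq_bot_of_le_smul_of_le_jacobson_bot _ N (IsNoetherian.noetherian N) hle
      (IsLocalRing.maximalIdeal_le_jacobson _)
    rw [hN, Submodule.mem_bot] at hxN
    exact hQp.ne_top ((Ideal.eq_top_iff_one Q).2 (by rw [hx, hxN, Submodule.mem_colon_singleton]; simp))
  let z : QuotSMulTop a M := Submodule.Quotient.mk m
  have hz : z ≠ 0 := by
    intro h
    obtain ⟨m', -, hm'⟩ := Set.mem_smul_set.1 ((Submodule.Quotient.mk_eq_zero _).1 h)
    refine hm (hm' ▸ Submodule.smul_mem_pointwise_smul m' a N fun q hq => hreg ?_)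
    simp only [smul_zero]
    rw [smul_comm, hm']; exact hmN q hq
  obtain ⟨Q₁, hQ₁, hle⟩ := exists_le_isAssociatedPrime_of_isNoetherianRing B z hz
  refine ⟨Q₁, hQ₁, fun q hq => hle ?_, hle ?_⟩
  · rw [Submodule.mem_colon_singleton, Submodule.mem_bot]
    change q • Submodule.Quotient.mk m = 0
    rw [← Submodule.Quotient.mk_smul, hmN q hq, Submodule.Quotient.mk_zero]
  · rw [Submodule.mem_colon_singleton, Submodule.mem_bot]
    exact (Submodule.Quotient.mk_smul _ a m).symm.trans ((Submodule.Quotient.mk_eq_zero _).2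
      (Submodule.smul_mem_pointwise_smul m a ⊤ Submodule.mem_top))

end Groth.Agent.CAlgH3.AssFlat
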