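import Groth.Prelude.Def_FlatCA
import Mathlib.RingTheory.Ideal.AssociatedPrime.Basic
import Mathlib.RingTheory.Ideal.MinimalPrime.Localization
import Mathlib.RingTheory.Localization.AtPrime.Basic
import Mathlib.Algebra.Module.LocalizedModule.Basic

namespace Groth.Agent.CAlgH3

universe u v w

variable {R : Type u} [CommRing R] {M : Type v} [AddCommGroup M] [Module R M]

/-- The annihilator ideal of an element. -/
abbrev annEl (R : Type u) [CommRing R] {M : Type v} [AddCommGroup M] [Module R M] (m : M) : Ideal R :=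
  (Submodule.span R {m}).annihilator

lemma mem_annEl {m : M} {r : R} : r ∈ annEl R m ↔ r • m = 0 := by
  simp [annEl, Submodule.mem_annihilator_span_singleton]

lemma annEl_eq_top {m : M} : annEl R m = ⊤ ↔ m = 0 := by
  rw [Ideal.eq_top_iff_one, mem_annEl, one_smul]

lemma colon_bot_singleton (m : M) : (⊥ : Submodule R M).colon {m} = annEl R m := by
  ext r; simp [mem_annEl, Submodule.mem_colon_singleton]

lemma mem_weakAss {p : Ideal R} : p ∈ FlatCA.weakAss R M ↔ ∃ m : M, p ∈ (annEl R m).minimalPrimes :=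
  Iff.rfl

lemma mem_ass {p : Ideal R} : p ∈ FlatCA.ass R M ↔ p.IsPrime ∧ ∃ m : M, p = annEl R m :=
  Iff.rfl

lemma annEl_map_of_injective {N : Type w} [AddCommGroup N] [Module R N] (f : M →ₗ[R] N)
    (hf : Function.Injective f) (m : M) : annEl R (f m) = annEl R m := by
  ext r
  rw [mem_annEl, mem_annEl, ← map_smul]
  exact map_eq_zero_iff f hf

lemma weakAss_subset_of_injective {N : Type w} [AddCommGroup N] [Module R N] (f : M →ₗ[R] N)
    (hf : Function.Injective f) : FlatCA.weakAss R M ⊆ FlatCA.weakAss R N := by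
  rintro p ⟨m, hm⟩
  exact mem_weakAss.2 ⟨f m, by rw [annEl_map_of_injective f hf]; exact hm⟩

lemma ass_subset_of_injective {N : Type w} [AddCommGroup N] [Module R N] (f : M →ₗ[R] N)
    (hf : Function.Injective f) : FlatCA.ass R M ⊆ FlatCA.ass R N := by
  rintro p ⟨hp, m, hm⟩
  exact mem_ass.2 ⟨hp, f m, by rw [annEl_map_of_injective f hf]; exact hm⟩

lemma minimalPrimes_anti {I J p : Ideal R} (h : p ∈ I.minimalPrimes) (hIJ : I ≤ J) (hJ : J ≤ p) :
    p ∈ J.minimalPrimes :=
  ⟨⟨h.1.1, hJ⟩, fun _q hq hqp => h.2 ⟨hq.1, hIJ.trans hq.2⟩ hqp⟩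

lemma weakAss_subset_union {M' : Type w} {M'' : Type*} [AddCommGroup M'] [Module R M']
    [AddCommGroup M''] [Module R M''] (f : M' →ₗ[R] M) (g : M →ₗ[R] M'') (hf : Function.Injective f)
    (hfg : Function.Exact f g) :
    FlatCA.weakAss R M ⊆ FlatCA.weakAss R M' ∪ FlatCA.weakAss R M'' := by
  rintro p ⟨m, hm⟩
  by_cases hle : annEl R (g m) ≤ p
  · refine Or.inr (mem_weakAss.2 ⟨g m, minimalPrimes_anti hm ?_ hle⟩)
    intro r hr
    change r ∈ annEl R m at hr
    rw [mem_annEl] at hr ⊢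
    rw [← map_smul, hr, map_zero]
  · obtain ⟨r, hr, hrp⟩ := SetLike.not_le_iff_exists.1 hle
    rw [mem_annEl, ← map_smul] at hr
    obtain ⟨m', hm'⟩ := (hfg _).1 hr
    refine Or.inl (mem_weakAss.2 ⟨m', ?_⟩)
    rw [← annEl_map_of_injective f hf, hm']
    refine minimalPrimes_anti hm ?_ ?_
    · intro s hs
      change s ∈ annEl R m at hs
      rw [mem_annEl] at hs ⊢
      rw [smul_comm, hs, smul_zero]
    · intro s hs
      rw [mem_annEl, smul_smul] at hs
      exact (hm.1.1.mem_or_mem (hm.1.2 (mem_annEl.2 hs))).resolve_right hrp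

lemma exists_mem_weakAss {m : M} (h : m ≠ 0) :
    ∃ p ∈ FlatCA.weakAss R M, annEl R m ≤ p := by
  obtain ⟨p, hp⟩ := Ideal.nonempty_minimalPrimes (mt (annEl_eq_top (R := R)).1 h)
  exact ⟨p, ⟨m, hp⟩, hp.1.2⟩

lemma weakAss_eq_empty_iff : FlatCA.weakAss R M = ∅ ↔ Subsingleton M := by
  constructor
  · intro h
    refine subsingleton_of_forall_eq 0 fun m => ?_
    by_contra hm
    obtain ⟨p, hp, -⟩ := exists_mem_weakAss (R := R) hm
    rw [h] at hp; exact hp
  · intro h
    refine Set.eq_empty_iff_forall_notMem.2 fun p ⟨m, hm⟩ => ?_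
    have : annEl R m = ⊤ := annEl_eq_top.2 (Subsingleton.elim _ _)
    exact hm.1.1.ne_top (top_le_iff.1 (this.ge.trans hm.1.2))

lemma exists_not_mem_annEl_mul_mem {m : M} {p : Ideal R} (hp : p ∈ (annEl R m).minimalPrimes) {f : R}
    (hf : f ∈ p) : ∃ y : R, y • m ≠ 0 ∧ f • y • m = 0 := by
  obtain ⟨y, hy, hy'⟩ := Ideal.exists_mul_mem_of_mem_minimalPrimes hp hf
  exact ⟨y, fun h => hy (mem_annEl.2 h), by rw [smul_smul]; exact mem_annEl.1 hy'⟩

lemma iUnion_weakAss_eq : ⋃ q ∈ FlatCA.weakAss R M, (q : Set R) = {f : R | ¬ IsSMulRegular M f} := by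
  ext f
  simp only [Set.mem_iUnion, SetLike.mem_coe, exists_prop, Set.mem_setOf_eq]
  constructor
  · rintro ⟨q, ⟨m, hm⟩, hf⟩ hreg
    obtain ⟨y, hy, hy'⟩ := exists_not_mem_annEl_mul_mem hm hf
    exact hy (hreg (by simpa using hy'))
  · intro h
    obtain ⟨m, hfm, hm⟩ : ∃ m : M, f • m = 0 ∧ m ≠ 0 := by
      by_contra! hc
      refine h fun a b hab => sub_eq_zero.1 (hc (a - b) ?_)
      simp only at hab
      rw [smul_sub, hab, sub_self]
    obtain ⟨p, hp, hle⟩ := exists_mem_weakAss (R := R) hm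
    exact ⟨p, hp, hle (mem_annEl.2 hfm)⟩

lemma annEl_restrictScalars {A : Type*} [CommRing A] [Algebra R A] {N : Type*} [AddCommGroup N]
    [Module A N] [Module R N] [IsScalarTower R A N] (x : N) :
    annEl R x = (annEl A x).comap (algebraMap R A) := by
  ext r
  rw [Ideal.mem_comap, mem_annEl, mem_annEl, algebraMap_smul]

section Localization

variable (S : Submonoid R) (A : Type*) [CommRing A] [Algebra R A] [IsLocalization S A]

lemma weakAss_eq_image_comap_of_isLocalization (N : Type*) [AddCommGroup N] [Module A N] [Module R N]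
    [IsScalarTower R A N] (S : Submonoid R) [IsLocalization S A] :
    FlatCA.weakAss R N = Ideal.comap (algebraMap R A) '' FlatCA.weakAss A N := by
  ext p
  simp only [mem_weakAss, Set.mem_image]
  constructor
  · rintro ⟨x, hx⟩
    rw [annEl_restrictScalars (A := A), IsLocalization.minimalPrimes_comap S A] at hx
    obtain ⟨q, hq, rfl⟩ := hx
    exact ⟨q, ⟨x, hq⟩, rfl⟩
  · rintro ⟨q, ⟨x, hq⟩, rfl⟩
    refine ⟨x, ?_⟩
    rw [annEl_restrictScalars (A := A), IsLocalization.minimalPrimes_comap S A]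
    exact ⟨q, hq, rfl⟩

lemma ass_eq_image_comap_of_isLocalization (N : Type*) [AddCommGroup N] [Module A N] [Module R N]
    [IsScalarTower R A N] (S : Submonoid R) [IsLocalization S A] :
    FlatCA.ass R N = Ideal.comap (algebraMap R A) '' FlatCA.ass A N := by
  ext p
  simp only [mem_ass, Set.mem_image]
  constructor
  · rintro ⟨hp, x, hx⟩
    rw [annEl_restrictScalars (A := A)] at hx
    refine ⟨annEl A x, ⟨?_, x, rfl⟩, hx.symm⟩
    have hd : Disjoint (S : Set R) (p : Set R) := by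
      rw [Set.disjoint_left]
      intro s hs hsp
      have htop : annEl A x = ⊤ := by
        rw [hx, SetLike.mem_coe, Ideal.mem_comap] at hsp
        exact Ideal.eq_top_of_isUnit_mem _ hsp (IsLocalization.map_units A ⟨s, hs⟩)
      exact hp.ne_top (by rw [hx, htop, Ideal.comap_top])
    rw [← IsLocalization.map_under S A (annEl A x), Ideal.under_def, ← hx]
    exact IsLocalization.isPrime_of_isPrime_disjoint S A p hp hd
  · rintro ⟨q, ⟨hq, x, hx⟩, rfl⟩
    exact ⟨hq.comap _, x, by rw [annEl_restrictScalars (A := A), hx]⟩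

variable {N : Type*} [AddCommGroup N] [Module R N] (g : M →ₗ[R] N) [IsLocalizedModule S g]

lemma mem_annEl_localized {m : M} {s : S} {r : R} :
    r ∈ annEl R (IsLocalizedModule.mk' g m s) ↔ ∃ t : S, (t : R) * r ∈ annEl R m := by
  rw [mem_annEl, ← IsLocalizedModule.mk'_smul, IsLocalizedModule.mk'_eq_zero']
  simp only [mem_annEl, ← smul_smul, Submonoid.smul_def]

lemma annEl_mk'_eq [Module A N] [IsScalarTower R A N] (m : M) (s : S) :
    annEl A (IsLocalizedModule.mk' g m s) = (annEl R m).map (algebraMap R A) := by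
  rw [← IsLocalization.map_under S A (annEl A _), Ideal.under_def, ← annEl_restrictScalars]
  refine le_antisymm ?_ (Ideal.map_mono fun r hr => (mem_annEl_localized S g).2 ⟨1, by simpa using hr⟩)
  rw [Ideal.map_le_iff_le_comap]
  intro r hr
  obtain ⟨t, ht⟩ := (mem_annEl_localized S g).1 hr
  rw [Ideal.mem_comap]
  have h := Ideal.mem_map_of_mem (algebraMap R A) ht
  rw [map_mul] at h
  exact (Ideal.unit_mul_mem_iff_mem _ (IsLocalization.map_units A t)).1 h

lemma weakAss_localized_iff [Module A N] [IsScalarTower R A N] (g : M →ₗ[R] N) [IsLocalizedModule S g]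
    (p : Ideal R) (hp : p.IsPrime) (hd : Disjoint (S : Set R) (p : Set R)) :
    p ∈ FlatCA.weakAss R M ↔ p.map (algebraMap R A) ∈ FlatCA.weakAss A N := by
  have hc := IsLocalization.comap_map_of_isPrime_disjoint S A hp hd
  have key : ∀ (m : M) (s : S), p.map (algebraMap R A) ∈ (annEl A (IsLocalizedModule.mk' g m s)).minimalPrimes ↔
      p ∈ (annEl R m).minimalPrimes := by
    intro m s
    rw [annEl_mk'_eq S A g, IsLocalization.minimalPrimes_map S A, Set.mem_preimage, hc]
  simp only [mem_weakAss]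
  constructor
  · rintro ⟨m, hm⟩
    exact ⟨_, (key m 1).2 hm⟩
  · rintro ⟨x, hx⟩
    obtain ⟨⟨m, s⟩, rfl⟩ := IsLocalizedModule.mk'_surjective S g x
    exact ⟨m, (key m s).1 hx⟩

variable {S} in
lemma annEl_mk'_of_regular (hS : ∀ s ∈ S, IsSMulRegular M s) (m : M) (s : S) :
    annEl R (IsLocalizedModule.mk' g m s) = annEl R m := by
  ext r
  rw [mem_annEl_localized S g]
  constructor
  · rintro ⟨t, ht⟩
    rw [mem_annEl, ← smul_smul] at ht
    exact mem_annEl.2 (hS t t.2 (by simpa using ht))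
  · exact fun h => ⟨1, by simpa using h⟩

variable {S} in
include g in
lemma weakAss_eq_localized_of_regular (hS : ∀ s ∈ S, IsSMulRegular M s) :
    FlatCA.weakAss R M = FlatCA.weakAss R N := by
  ext p
  simp only [mem_weakAss]
  constructor
  · rintro ⟨m, hm⟩
    exact ⟨IsLocalizedModule.mk' g m 1, by rwa [annEl_mk'_of_regular g hS]⟩
  · rintro ⟨x, hx⟩
    obtain ⟨⟨m, s⟩, rfl⟩ := IsLocalizedModule.mk'_surjective S g x
    exact ⟨m, by rwa [← annEl_mk'_of_regular g hS m s]⟩

variable {S} in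
include g in
lemma ass_eq_localized_of_regular (hS : ∀ s ∈ S, IsSMulRegular M s) :
    FlatCA.ass R M = FlatCA.ass R N := by
  ext p
  simp only [mem_ass]
  constructor
  · rintro ⟨hp, m, hm⟩
    exact ⟨hp, IsLocalizedModule.mk' g m 1, by rwa [annEl_mk'_of_regular g hS]⟩
  · rintro ⟨hp, x, hx⟩
    obtain ⟨⟨m, s⟩, rfl⟩ := IsLocalizedModule.mk'_surjective S g x
    exact ⟨hp, m, by rwa [← annEl_mk'_of_regular g hS m s]⟩

include g in
lemma ass_subset_localized_of_disjoint {p : Ideal R} (hp : p ∈ FlatCA.ass R M)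
    (hd : Disjoint (S : Set R) (p : Set R)) : p ∈ FlatCA.ass R N := by
  obtain ⟨hpp, m, hm⟩ := hp
  refine mem_ass.2 ⟨hpp, IsLocalizedModule.mk' g m (1 : S), ?_⟩
  ext r
  rw [mem_annEl_localized S g]
  change p = annEl R m at hm
  rw [← hm]
  exact ⟨fun h => ⟨1, by simpa using h⟩, fun ⟨t, ht⟩ =>
    (hpp.mem_or_mem ht).resolve_left (Set.disjoint_left.1 hd t.2)⟩

end Localization

lemma mem_ass_of_mem_weakAss_of_fg {p : Ideal R} (hfg : p.FG) (hp : p ∈ FlatCA.weakAss R M) :
    p ∈ FlatCA.ass R M := by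
  classical
  obtain ⟨m, hm⟩ := mem_weakAss.1 hp
  have := hm.1.1
  let A := Localization.AtPrime p
  have hrad : (p.map (algebraMap R A)) ≤ ((annEl R m).map (algebraMap R A)).radical := by
    rw [IsLocalization.AtPrime.radical_map_of_mem_minimalPrimes A p _ hm,
      Localization.AtPrime.map_eq_maximalIdeal]
  obtain ⟨n, hn⟩ := Ideal.exists_pow_le_of_le_radical_of_fg hrad (hfg.map _)
  have key : ∀ x ∈ p ^ n, ∃ t ∉ p, t * x ∈ annEl R m := by
    intro x hx
    have hx' : algebraMap R A x ∈ (annEl R m).map (algebraMap R A) :=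
      hn (by rw [← Ideal.map_pow]; exact Ideal.mem_map_of_mem _ hx)
    obtain ⟨t, ht⟩ := (IsLocalization.algebraMap_mem_map_algebraMap_iff p.primeCompl A _ _).1 hx'
    exact ⟨t, ht.1, ht.2⟩
  have lift : ∀ (n : ℕ) (m : M), (∀ x ∈ p ^ n, ∃ t ∉ p, t • x • m = 0) →
      ∃ s ∉ p, ∀ x ∈ p ^ n, s • x • m = 0 := by
    intro n m h
    obtain ⟨G, hG⟩ := hfg.pow (n := n)
    have hh : ∀ g : (G : Set R), ∃ t ∉ p, t • (g : R) • m = 0 := fun g =>
      h g (hG ▸ Submodule.subset_span g.2)
    choose t ht ht' using hh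
    refine ⟨∏ g, t g, fun hmem => ?_, fun x hx => ?_⟩
    · obtain ⟨g, -, hg⟩ := (Ideal.IsPrime.prod_mem_iff).1 hmem
      exact ht g hg
    · rw [← hG] at hx
      induction hx using Submodule.span_induction with
      | mem g hg =>
        obtain ⟨c, hc⟩ : t ⟨g, hg⟩ ∣ ∏ g, t g := Finset.dvd_prod_of_mem _ (Finset.mem_univ _)
        rw [hc, mul_comm, ← smul_smul, ht' ⟨g, hg⟩, smul_zero]
      | zero => simp
      | add a b _ _ ha hb => rw [add_smul, smul_add, ha, hb, add_zero]
      | smul c a _ ha => rw [smul_eq_mul, ← smul_smul, smul_comm, ha, smul_zero]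
  have hex : ∃ n, ∃ s ∉ p, ∀ x ∈ p ^ n, s • x • m = 0 := by
    refine ⟨n, lift n m fun x hx => ?_⟩
    obtain ⟨t, ht, ht'⟩ := key x hx
    exact ⟨t, ht, by rw [smul_smul]; exact mem_annEl.1 ht'⟩
  obtain ⟨s, hs, hs'⟩ := Nat.find_spec hex
  have hpos : Nat.find hex ≠ 0 := by
    intro h0
    have := hs' 1 (by simp [h0])
    rw [one_smul] at this
    exact hs (hm.1.2 (mem_annEl.2 this))
  obtain ⟨k, hk⟩ := Nat.exists_eq_succ_of_ne_zero hpos
  have hnot := Nat.find_min hex (m := k) (by omega)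
  by_contra hcon
  apply hnot
  have hall : ∀ x ∈ p ^ k, ∃ t ∉ p, t • x • m = 0 := by
    intro x hx
    have hle : p ≤ annEl R (s • x • m) := fun a ha => by
      rw [mem_annEl, smul_comm, smul_smul a x]
      exact hs' _ (by rw [hk, pow_succ']; exact Ideal.mul_mem_mul ha hx)
    by_contra! hc
    refine hcon (mem_ass.2 ⟨hm.1.1, s • x • m, le_antisymm hle fun a ha => ?_⟩)
    rw [mem_annEl, smul_smul] at ha
    by_contra hap
    exact hc (a * s) (fun hh => (hm.1.1.mem_or_mem hh).elim hap hs) ha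
  exact lift k m hall

lemma weakAss_self_of_isReduced [IsReduced R] : FlatCA.weakAss R R = minimalPrimes R := by
  ext p
  constructor
  · rintro ⟨x, hx⟩
    have hxp : x ∉ p := by
      intro hxp
      obtain ⟨y, hy, hy'⟩ := exists_not_mem_annEl_mul_mem hx hxp
      simp only [smul_eq_mul] at hy hy'
      exact hy (eq_zero_of_pow_eq_zero (n := 2) (by
        rw [show (y * x) ^ 2 = y * (x * (y * x)) by ring, hy', mul_zero]))
    refine ⟨⟨hx.1.1, bot_le⟩, fun q hq hqp => hx.2 ⟨hq.1, fun r hr => ?_⟩ hqp⟩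
    change r ∈ annEl R x at hr
    rw [mem_annEl, smul_eq_mul] at hr
    exact (hq.1.mem_or_mem (hr ▸ q.zero_mem)).resolve_right fun h => hxp (hqp h)
  · intro hp
    refine mem_weakAss.2 ⟨1, ?_⟩
    have : annEl R (1 : R) = ⊥ := by ext r; simp [mem_annEl]
    rw [this]
    exact hp

lemma radical_eq_maximalIdeal_iff [IsLocalRing R] (J : Ideal R) :
    J.radical = IsLocalRing.maximalIdeal R ↔ IsLocalRing.maximalIdeal R ∈ J.minimalPrimes := by
  constructor
  · intro h
    refine ⟨⟨inferInstance, h ▸ Ideal.le_radical⟩, fun q hq _ => ?_⟩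
    rw [← h]
    exact hq.1.radical_le_iff.2 hq.2
  · intro h
    refine le_antisymm ((inferInstance : (IsLocalRing.maximalIdeal R).IsPrime).radical_le_iff.2 h.1.2) ?_
    rw [Ideal.radical_eq_sInf]
    refine le_sInf fun q hq => ?_
    exact h.2 ⟨hq.2, hq.1⟩ (IsLocalRing.le_maximalIdeal hq.2.ne_top)

end Groth.Agent.CAlgH3
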