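import Mathlib
import Groth.Agent.CAlgH3.WeakAss

/-!
Associated primes of fibre modules and of tensor products.
-/

set_option autoImplicit false

universe u

open TensorProduct

namespace Groth.Agent.CAlgH3.FiberMod

variable {R S : Type u} [CommRing R] [CommRing S] [Algebra R S] {N : Type u} [AddCommGroup N]
  [Module S N] [Module R N] [IsScalarTower R S N]

/-- `N ⊗ R/I ≅ N / IS N`. -/
noncomputable def tensorQuotEquiv (I : Ideal R) :
    (N ⊗[R] (R ⧸ I)) ≃ₗ[S] N ⧸ (I.map (algebraMap R S)) • (⊤ : Submodule S N) := by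
  let J : Submodule S N := (I.map (algebraMap R S)) • (⊤ : Submodule S N)
  let fb : N →ₗ[S] (R ⧸ I) →ₗ[R] N ⧸ J :=
    { toFun := fun n => I.liftQ (LinearMap.toSpanSingleton R (N ⧸ J) (Submodule.Quotient.mk n)) (fun r hr => by
        rw [LinearMap.mem_ker, LinearMap.toSpanSingleton_apply, ← Submodule.Quotient.mk_smul,
          Submodule.Quotient.mk_eq_zero, ← algebraMap_smul S r n]
        exact Submodule.smul_mem_smul (Ideal.mem_map_of_mem _ hr) Submodule.mem_top)
      map_add' := fun a b => LinearMap.ext fun x => by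
        obtain ⟨x, rfl⟩ := Submodule.Quotient.mk_surjective _ x
        exact smul_add x (Submodule.Quotient.mk (p := J) a) (Submodule.Quotient.mk b)
      map_smul' := fun c a => LinearMap.ext fun x => by
        obtain ⟨x, rfl⟩ := Submodule.Quotient.mk_surjective _ x
        exact smul_comm x c (Submodule.Quotient.mk (p := J) a) }
  let fwd : (N ⊗[R] (R ⧸ I)) →ₗ[S] N ⧸ J := TensorProduct.AlgebraTensorModule.lift fb
  let g : N →ₗ[S] N ⊗[R] (R ⧸ I) := (TensorProduct.AlgebraTensorModule.mk R S N (R ⧸ I)).flip 1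
  let bwd : N ⧸ J →ₗ[S] N ⊗[R] (R ⧸ I) := J.liftQ g (by
    refine Submodule.smul_le.2 fun c hc n _ => ?_
    rw [LinearMap.mem_ker, map_smul]
    have hle : I.map (algebraMap R S) ≤ (Submodule.span S {g n}).annihilator := by
      rw [Ideal.map_le_iff_le_comap]
      intro r hr
      rw [Ideal.mem_comap, mem_annEl, algebraMap_smul]
      show r • (n ⊗ₜ[R] (1 : R ⧸ I)) = 0
      rw [← TensorProduct.tmul_smul, Algebra.smul_def, mul_one,
        Ideal.Quotient.algebraMap_eq, Ideal.Quotient.eq_zero_iff_mem.2 hr, TensorProduct.tmul_zero]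
    exact mem_annEl.1 (hle hc))
  refine LinearEquiv.ofLinearMap fwd bwd ?_ ?_
  · refine LinearMap.ext fun x => ?_
    obtain ⟨x, rfl⟩ := Submodule.Quotient.mk_surjective _ x
    show fwd (x ⊗ₜ[R] (1 : R ⧸ I)) = _
    rw [TensorProduct.AlgebraTensorModule.lift_tmul]
    exact one_smul R (Submodule.Quotient.mk (p := J) x)
  · refine LinearMap.ext fun x => ?_
    induction x using TensorProduct.induction_on with
    | zero => simp
    | add a b ha hb => simp only [map_add, ha, hb]
    | tmul n y =>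
      obtain ⟨r, rfl⟩ := Submodule.Quotient.mk_surjective _ y
      show bwd (r • Submodule.Quotient.mk n) = n ⊗ₜ[R] _
      rw [← Submodule.Quotient.mk_smul]
      show (r • n) ⊗ₜ[R] (1 : R ⧸ I) = _
      rw [TensorProduct.smul_tmul, Algebra.smul_def, mul_one]
      rfl

theorem tensorQuotEquiv_tmul_one (I : Ideal R) (n : N) :
    tensorQuotEquiv (S := S) I (n ⊗ₜ[R] (1 : R ⧸ I)) = Submodule.Quotient.mk n := by
  unfold tensorQuotEquiv
  exact one_smul R (Submodule.Quotient.mk (p := (I.map (algebraMap R S)) • (⊤ : Submodule S N)) n)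

section fiber

attribute [local instance] Algebra.TensorProduct.rightAlgebra

variable (p : Ideal R) [p.IsPrime]

theorem ι_eq (r : R) :
    algebraMap S (p.Fiber S) (algebraMap R S r) = (algebraMap R p.ResidueField r) ⊗ₜ[R] (1 : S) := by
  show (1 : p.ResidueField) ⊗ₜ[R] algebraMap R S r = _
  rw [Algebra.algebraMap_eq_smul_one, ← TensorProduct.smul_tmul, ← Algebra.algebraMap_eq_smul_one]

theorem isUnit_ι {s : R} (hs : s ∉ p) : IsUnit (algebraMap S (p.Fiber S) (algebraMap R S s)) := by
  rw [ι_eq]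
  have : IsUnit (algebraMap R p.ResidueField s) :=
    isUnit_iff_ne_zero.2 (by rwa [Ne, Ideal.algebraMap_residueField_eq_zero])
  exact this.map (Algebra.TensorProduct.includeLeftRingHom : p.ResidueField →+* p.Fiber S)

theorem ι_eq_zero {r : R} (hr : r ∈ p) : algebraMap S (p.Fiber S) (algebraMap R S r) = 0 := by
  rw [ι_eq, Ideal.algebraMap_residueField_eq_zero.2 hr, TensorProduct.zero_tmul]

theorem exists_ι_mul_eq (f : p.Fiber S) : ∃ s ∉ p, ∃ t : S,
    algebraMap S (p.Fiber S) (algebraMap R S s) * f = algebraMap S (p.Fiber S) t := by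
  induction f using TensorProduct.induction_on with
  | zero => exact ⟨1, p.one_notMem, 0, by simp⟩
  | tmul c t =>
    obtain ⟨a, b, hb, habc⟩ := IsFractionRing.div_surjective (R ⧸ p) (K := p.ResidueField) c
    obtain ⟨a, rfl⟩ := Ideal.Quotient.mk_surjective a
    obtain ⟨b, rfl⟩ := Ideal.Quotient.mk_surjective b
    have hb' : b ∉ p := fun h => nonZeroDivisors.ne_zero hb (Ideal.Quotient.eq_zero_iff_mem.2 h)
    refine ⟨b, hb', algebraMap R S a * t, ?_⟩
    rw [← habc, map_mul, ι_eq, ι_eq, Algebra.TensorProduct.tmul_mul_tmul, one_mul,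
      show algebraMap S (p.Fiber S) t = (1 : p.ResidueField) ⊗ₜ[R] t from rfl,
      Algebra.TensorProduct.tmul_mul_tmul, one_mul, mul_one]
    congr 1
    have hbne : algebraMap R p.ResidueField b ≠ 0 := by
      rwa [Ne, Ideal.algebraMap_residueField_eq_zero]
    have key : ∀ x : R, algebraMap (R ⧸ p) p.ResidueField (Ideal.Quotient.mk p x) = algebraMap R p.ResidueField x :=
      fun x => (IsScalarTower.algebraMap_apply R (R ⧸ p) p.ResidueField x).symm
    rw [key, key, mul_div_cancel₀ _ hbne]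
  | add f g hf hg =>
    obtain ⟨s, hs, t, ht⟩ := hf
    obtain ⟨s', hs', t', ht'⟩ := hg
    refine ⟨s * s', fun h => (‹p.IsPrime›.mem_or_mem h).elim hs hs', algebraMap R S s' * t + algebraMap R S s * t', ?_⟩
    simp only [map_mul, map_add, mul_add, ← ht, ← ht']
    ring

variable (N)

theorem smul_fiberMod (t : S) (z : FlatCA.fiberMod p S N) :
    t • z = algebraMap S (p.Fiber S) t • z := by
  change ((p.Fiber S) ⊗[S] N) at z
  exact (algebraMap_smul (p.Fiber S) t z).symm

omit [Module R N] [IsScalarTower R S N] in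
theorem smul_zero' (t : S) : t • (0 : (p.Fiber S) ⊗[S] N) = 0 := smul_zero t

theorem injective_smul_of_notMem {s : R} (hs : s ∉ p) :
    Function.Injective fun z : FlatCA.fiberMod p S N => algebraMap R S s • z := by
  intro a b h
  simp only [smul_fiberMod] at h
  exact (isUnit_ι p hs).smul_left_cancel.1 h

theorem exists_smul_eq_toFiberMod (z : FlatCA.fiberMod p S N) :
    ∃ s ∉ p, ∃ n : N, algebraMap R S s • z = FlatCA.toFiberMod p S N n := by
  change ((p.Fiber S) ⊗[S] N) at z
  induction z using TensorProduct.induction_on with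
  | zero => exact ⟨1, p.one_notMem, 0, (smul_zero' N p _).trans (map_zero (FlatCA.toFiberMod p S N)).symm⟩
  | tmul f n =>
    obtain ⟨s, hs, t, ht⟩ := exists_ι_mul_eq p f
    refine ⟨s, hs, t • n, ?_⟩
    show algebraMap R S s • (f ⊗ₜ[S] n) = (1 : p.Fiber S) ⊗ₜ[S] (t • n)
    rw [← TensorProduct.smul_tmul, ← Algebra.algebraMap_eq_smul_one, TensorProduct.smul_tmul',
      Algebra.smul_def, ht]
  | add a b ha hb =>
    obtain ⟨s, hs, n, hn⟩ := ha
    obtain ⟨s', hs', n', hn'⟩ := hb
    refine ⟨s * s', fun h => (‹p.IsPrime›.mem_or_mem h).elim hs hs', algebraMap R S s' • n + algebraMap R S s • n', ?_⟩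
    change algebraMap R S s • a = _ at hn
    change algebraMap R S s' • b = _ at hn'
    show algebraMap R S (s * s') • (a + b) = _
    rw [map_add, map_smul, map_smul, ← hn, ← hn', map_mul, smul_add]
    erw [smul_smul, smul_smul]
    rw [mul_comm (algebraMap R S s') (algebraMap R S s)]
    rfl

theorem toFiberMod_eq_zero_iff (n : N) :
    FlatCA.toFiberMod p S N n = 0 ↔
      ∃ s ∉ p, algebraMap R S s • n ∈ (p.map (algebraMap R S)) • (⊤ : Submodule S N) := by
  constructor
  · intro h
    let bil : p.ResidueField →ₗ[R] S →ₗ[R] N →ₗ[R] p.ResidueField ⊗[R] N :=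
      LinearMap.mk₂ R (fun c t => (TensorProduct.mk R p.ResidueField N c) ∘ₗ (LinearMap.lsmul S N t).restrictScalars R)
        (fun c c' t => by ext n; simp [TensorProduct.add_tmul])
        (fun r c t => by ext n; simp [TensorProduct.smul_tmul'])
        (fun c t t' => by ext n; simp [add_smul, TensorProduct.tmul_add])
        (fun r c t => by ext n; simp [TensorProduct.tmul_smul])
    let L : p.Fiber S →ₗ[R] N →ₗ[R] p.ResidueField ⊗[R] N := TensorProduct.lift bil
    let back : (p.Fiber S) ⊗[S] N →+ p.ResidueField ⊗[R] N :=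
      TensorProduct.liftAddHom
        { toFun := fun f => (L f).toAddMonoidHom
          map_zero' := by ext; simp
          map_add' := fun f g => by ext; simp }
        (fun t f m => by
          show L (t • f) m = L f (t • m)
          rw [Algebra.smul_def]
          induction f using TensorProduct.induction_on with
          | zero => simp
          | tmul c u =>
            rw [show algebraMap S (p.Fiber S) t = (1 : p.ResidueField) ⊗ₜ[R] t from rfl,
              Algebra.TensorProduct.tmul_mul_tmul, one_mul]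
            simp [L, bil, smul_smul, mul_comm]
          | add a b ha hb => simp only [mul_add, map_add, LinearMap.add_apply, ha, hb])
    have h1 : (1 : p.ResidueField) ⊗ₜ[R] n = 0 := by
      have h2 : back ((1 : p.Fiber S) ⊗ₜ[S] n) = back 0 := congrArg back h
      rw [map_zero] at h2
      rw [← h2]
      show _ = L ((1 : p.ResidueField) ⊗ₜ[R] (1 : S)) n
      simp [L, bil]
    let e := TensorProduct.AlgebraTensorModule.cancelBaseChange R (R ⧸ p) (R ⧸ p) p.ResidueField N
    have h3 : (1 : p.ResidueField) ⊗ₜ[R ⧸ p] ((1 : R ⧸ p) ⊗ₜ[R] n) = 0 := by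
      apply e.injective
      rw [map_zero, TensorProduct.AlgebraTensorModule.cancelBaseChange_tmul, one_smul, h1]
    haveI : IsLocalizedModule (nonZeroDivisors (R ⧸ p))
        (TensorProduct.mk (R ⧸ p) p.ResidueField ((R ⧸ p) ⊗[R] N) 1) :=
      (isLocalizedModule_iff_isBaseChange (nonZeroDivisors (R ⧸ p)) p.ResidueField _).2
        (TensorProduct.isBaseChange (R ⧸ p) ((R ⧸ p) ⊗[R] N) p.ResidueField)
    obtain ⟨⟨c, hc⟩, hc0⟩ := (IsLocalizedModule.eq_zero_iff (nonZeroDivisors (R ⧸ p))
      (TensorProduct.mk (R ⧸ p) p.ResidueField ((R ⧸ p) ⊗[R] N) 1)).1 h3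
    obtain ⟨s, rfl⟩ := Ideal.Quotient.mk_surjective c
    refine ⟨s, fun hs => nonZeroDivisors.ne_zero hc (Ideal.Quotient.eq_zero_iff_mem.2 hs), ?_⟩
    rw [← Submodule.Quotient.mk_eq_zero, ← tensorQuotEquiv_tmul_one]
    have h4 : (algebraMap R S s • n) ⊗ₜ[R] (1 : R ⧸ p) = 0 := by
      apply (TensorProduct.comm R N (R ⧸ p)).injective
      rw [map_zero, TensorProduct.comm_tmul, algebraMap_smul, ← TensorProduct.smul_tmul]
      simpa [Submonoid.smul_def, TensorProduct.smul_tmul', Algebra.smul_def] using hc0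
    rw [h4, map_zero]
  · rintro ⟨s, hs, hn⟩
    have h0 : FlatCA.toFiberMod p S N (algebraMap R S s • n) = 0 := by
      refine (LinearMap.mem_ker (f := FlatCA.toFiberMod p S N)).1 ?_
      refine Submodule.smul_le.2 (fun c hc m _ => ?_) hn
      rw [LinearMap.mem_ker, map_smul, smul_fiberMod]
      have : algebraMap S (p.Fiber S) c = 0 := by
        have hle : p.map (algebraMap R S) ≤ RingHom.ker (algebraMap S (p.Fiber S)) :=
          Ideal.map_le_iff_le_comap.2 fun r hr => by rw [Ideal.mem_comap, RingHom.mem_ker]; exact ι_eq_zero p hr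
        exact hle hc
      rw [this, zero_smul]
    rw [map_smul] at h0
    exact injective_smul_of_notMem N p hs (h0.trans (smul_zero _).symm)

variable {N}

theorem annEl_fiber (z : FlatCA.fiberMod p S N) :
    annEl S z = (annEl (p.Fiber S) z).comap (algebraMap S (p.Fiber S)) := by
  ext t
  rw [Ideal.mem_comap, mem_annEl, mem_annEl, smul_fiberMod]

/-- Primes of `ass` over `p` in the fibre module come from the fibre ring and conversely. -/
theorem ass_fiber_iff (q : Ideal S) [q.IsPrime] (hq : q.comap (algebraMap R S) = p) :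
    q ∈ FlatCA.ass S (FlatCA.fiberMod p S N) ↔
      ∃ Q ∈ FlatCA.ass (p.Fiber S) (FlatCA.fiberMod p S N),
        Q.comap (algebraMap S (p.Fiber S)) = q := by
  constructor
  · rintro ⟨hqp, z, hz⟩
    refine ⟨annEl (p.Fiber S) z, mem_ass.2 ⟨⟨fun h => ?_, fun {f g} hfg => ?_⟩, z, rfl⟩, (annEl_fiber p z).symm.trans hz.symm⟩
    · have hz0 : z = 0 := annEl_eq_top.1 h
      exact hqp.ne_top (hz.trans (annEl_eq_top.2 hz0))
    · obtain ⟨s, hs, t, ht⟩ := exists_ι_mul_eq p f
      obtain ⟨s', hs', t', ht'⟩ := exists_ι_mul_eq p g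
      have htt : t * t' ∈ q := by
        rw [hz]
        show t * t' ∈ annEl S z
        rw [annEl_fiber, Ideal.mem_comap, map_mul, ← ht, ← ht', mul_mul_mul_comm]
        exact Ideal.mul_mem_left _ _ hfg
      rw [hz] at htt hqp
      change t * t' ∈ annEl S z at htt
      rcases hqp.mem_or_mem htt with h | h
      · left
        change t ∈ annEl S z at h
        rw [annEl_fiber, Ideal.mem_comap, ← ht] at h
        exact (Ideal.unit_mul_mem_iff_mem _ (isUnit_ι p hs)).1 h
      · right
        change t' ∈ annEl S z at h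
        rw [annEl_fiber, Ideal.mem_comap, ← ht'] at h
        exact (Ideal.unit_mul_mem_iff_mem _ (isUnit_ι p hs')).1 h
  · rintro ⟨Q, ⟨hQ, z, hz⟩, rfl⟩
    exact mem_ass.2 ⟨inferInstance, z, by rw [annEl_fiber]; exact congrArg (Ideal.comap _) hz⟩

theorem toFiberMod_mk_eq_zero {n : N}
    (hn : n ∈ (p.map (algebraMap R S)) • (⊤ : Submodule S N)) : FlatCA.toFiberMod p S N n = 0 :=
  (toFiberMod_eq_zero_iff N p n).2 ⟨1, p.one_notMem, by rwa [map_one, one_smul]⟩

theorem ass_fiber_of_ass_quotient (q : Ideal S) [hqp : q.IsPrime] (hq : q.comap (algebraMap R S) = p)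
    (h : q ∈ FlatCA.ass S (N ⧸ (p.map (algebraMap R S)) • (⊤ : Submodule S N))) :
    q ∈ FlatCA.ass S (FlatCA.fiberMod p S N) := by
  obtain ⟨-, x, hx⟩ := mem_ass.1 h
  obtain ⟨n, rfl⟩ := Submodule.Quotient.mk_surjective _ x
  refine mem_ass.2 ⟨hqp, FlatCA.toFiberMod p S N n, le_antisymm (fun t ht => ?_) (fun t ht => ?_)⟩
  · rw [mem_annEl, ← map_smul]
    rw [hx, mem_annEl, ← Submodule.Quotient.mk_smul, Submodule.Quotient.mk_eq_zero] at ht
    exact toFiberMod_mk_eq_zero p ht
  · rw [mem_annEl, ← map_smul] at ht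
    obtain ⟨s, hs, hst⟩ := (toFiberMod_eq_zero_iff N p _).1 ht
    have h1 : algebraMap R S s * t ∈ q := by
      rw [hx, mem_annEl, mul_smul, ← Submodule.Quotient.mk_smul, ← Submodule.Quotient.mk_smul,
        Submodule.Quotient.mk_eq_zero]
      exact hst
    exact (hqp.mem_or_mem h1).resolve_left fun h2 => hs (hq ▸ h2)

theorem exists_annEl_eq_toFiberMod (z : FlatCA.fiberMod p S N) :
    ∃ n : N, annEl S (FlatCA.toFiberMod p S N n) = annEl S z := by
  obtain ⟨s, hs, n, hn⟩ := exists_smul_eq_toFiberMod N p z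
  refine ⟨n, ?_⟩
  ext t
  rw [mem_annEl, mem_annEl, ← hn, smul_comm]
  exact ⟨fun h => injective_smul_of_notMem N p hs (h.trans (smul_zero _).symm), fun h => by rw [h, smul_zero]⟩

theorem ass_quotient_of_ass_fiber (q : Ideal S) [hqp : q.IsPrime] (hfg : q.FG)
    (hq : q.comap (algebraMap R S) = p) (h : q ∈ FlatCA.ass S (FlatCA.fiberMod p S N)) :
    q ∈ FlatCA.ass S (N ⧸ (p.map (algebraMap R S)) • (⊤ : Submodule S N)) := by
  classical
  obtain ⟨-, z, hz⟩ := mem_ass.1 h
  obtain ⟨n, hn⟩ := exists_annEl_eq_toFiberMod p z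
  obtain ⟨G, hG⟩ := hfg
  have hgen : ∀ t ∈ G, ∃ s ∉ p, algebraMap R S s • (t • n) ∈ (p.map (algebraMap R S)) • (⊤ : Submodule S N) := by
    intro t ht
    refine (toFiberMod_eq_zero_iff N p _).1 ?_
    rw [map_smul, ← mem_annEl, hn, ← hz, ← hG]
    exact Ideal.subset_span ht
  choose s hs hst using hgen
  let σ := ∏ t ∈ G.attach, s t t.2
  have hσ : σ ∉ p := fun h => by
    obtain ⟨t, -, ht⟩ := (‹p.IsPrime›.prod_mem_iff).1 h
    exact hs t t.2 ht
  refine mem_ass.2 ⟨hqp, Submodule.Quotient.mk (algebraMap R S σ • n), le_antisymm ?_ (fun t ht => ?_)⟩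
  · rw [← hG, Ideal.span_le]
    intro t ht
    rw [SetLike.mem_coe, mem_annEl, ← Submodule.Quotient.mk_smul, Submodule.Quotient.mk_eq_zero, smul_comm]
    obtain ⟨c, hc⟩ : s t ht ∣ σ := Finset.dvd_prod_of_mem _ (Finset.mem_attach G ⟨t, ht⟩)
    rw [hc, map_mul, mul_comm, mul_smul]
    exact Submodule.smul_mem _ _ (hst t ht)
  · rw [mem_annEl, ← Submodule.Quotient.mk_smul, Submodule.Quotient.mk_eq_zero, smul_smul] at ht
    have h1 : FlatCA.toFiberMod p S N ((t * algebraMap R S σ) • n) = 0 := toFiberMod_mk_eq_zero p ht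
    rw [map_smul, ← mem_annEl, hn, ← hz] at h1
    exact (hqp.mem_or_mem h1).resolve_right fun h2 => hσ (hq ▸ h2)

/-- Over a flat module, `p` acts by a torsion-free quotient. -/
theorem mem_of_smul_mem [Module.Flat R N] {s : R} (hs : s ∉ p) {n : N}
    (h : algebraMap R S s • n ∈ (p.map (algebraMap R S)) • (⊤ : Submodule S N)) :
    n ∈ (p.map (algebraMap R S)) • (⊤ : Submodule S N) := by
  rw [← Submodule.Quotient.mk_eq_zero, ← tensorQuotEquiv_tmul_one] at h ⊢
  rw [LinearEquiv.map_eq_zero_iff] at h ⊢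
  rw [algebraMap_smul, TensorProduct.smul_tmul] at h
  let μ : (R ⧸ p) →ₗ[R] (R ⧸ p) := LinearMap.lsmul R (R ⧸ p) s
  have hμ : Function.Injective μ := by
    rw [injective_iff_map_eq_zero]
    intro x hx
    obtain ⟨x, rfl⟩ := Ideal.Quotient.mk_surjective x
    change s • Ideal.Quotient.mk p x = 0 at hx
    rw [Algebra.smul_def, Ideal.Quotient.algebraMap_eq, ← map_mul, Ideal.Quotient.eq_zero_iff_mem] at hx
    exact Ideal.Quotient.eq_zero_iff_mem.2 ((‹p.IsPrime›.mem_or_mem hx).resolve_left hs)
  refine (Module.Flat.lTensor_preserves_injective_linearMap (M := N) μ hμ) ?_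
  rw [map_zero, LinearMap.lTensor_tmul]
  exact h

theorem ass_quotient_eq [Module.Flat R N] :
    FlatCA.ass S (N ⧸ (p.map (algebraMap R S)) • (⊤ : Submodule S N)) =
        FlatCA.ass S (FlatCA.fiberMod p S N) ∧
      ∀ q ∈ FlatCA.ass S (N ⧸ (p.map (algebraMap R S)) • (⊤ : Submodule S N)),
        q.comap (algebraMap R S) = p := by
  have hcomap : ∀ q ∈ FlatCA.ass S (N ⧸ (p.map (algebraMap R S)) • (⊤ : Submodule S N)),
      q.comap (algebraMap R S) = p := by
    intro q hq
    obtain ⟨hqp, x, hx⟩ := mem_ass.1 hq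
    obtain ⟨n, rfl⟩ := Submodule.Quotient.mk_surjective _ x
    refine le_antisymm (fun s hs => ?_) (fun r hr => ?_)
    · rw [Ideal.mem_comap, hx, mem_annEl, ← Submodule.Quotient.mk_smul, Submodule.Quotient.mk_eq_zero] at hs
      by_contra hsp
      exact hqp.ne_top (hx.trans (annEl_eq_top.2 ((Submodule.Quotient.mk_eq_zero _).2 (mem_of_smul_mem p hsp hs))))
    · rw [Ideal.mem_comap, hx, mem_annEl, ← Submodule.Quotient.mk_smul, Submodule.Quotient.mk_eq_zero]
      exact Submodule.smul_mem_smul (Ideal.mem_map_of_mem _ hr) Submodule.mem_top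
  refine ⟨Set.ext fun q => ⟨fun hq => ?_, fun hq => ?_⟩, hcomap⟩
  · haveI := (mem_ass.1 hq).1
    exact ass_fiber_of_ass_quotient p q (hcomap q hq) hq
  · obtain ⟨hqp, z, hz⟩ := mem_ass.1 hq
    obtain ⟨n, hn⟩ := exists_annEl_eq_toFiberMod p z
    refine mem_ass.2 ⟨hqp, Submodule.Quotient.mk n, hz.trans (hn.symm.trans ?_)⟩
    ext t
    rw [mem_annEl, mem_annEl, ← map_smul, ← Submodule.Quotient.mk_smul, Submodule.Quotient.mk_eq_zero,
      toFiberMod_eq_zero_iff]
    exact ⟨fun ⟨s, hs, h⟩ => mem_of_smul_mem p hs h, fun h => ⟨1, p.one_notMem, by rwa [map_one, one_smul]⟩⟩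

end fiber

section tensor

variable {M : Type u} [AddCommGroup M] [Module R M]

theorem ass_subset_union {A B C : Type u} [AddCommGroup A] [Module S A] [AddCommGroup B] [Module S B]
    [AddCommGroup C] [Module S C] (f : A →ₗ[S] B) (g : B →ₗ[S] C) (hf : Function.Injective f)
    (hfg : Function.Exact f g) :
    FlatCA.ass S B ⊆ FlatCA.ass S A ∪ FlatCA.ass S C := by
  rintro q hq
  obtain ⟨hqp, x, hx⟩ := mem_ass.1 hq
  by_cases hle : annEl S (g x) ≤ q
  · refine Or.inr (mem_ass.2 ⟨hqp, g x, le_antisymm (fun t ht => ?_) hle⟩)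
    rw [hx, mem_annEl] at ht
    rw [mem_annEl, ← map_smul, ht, map_zero]
  · obtain ⟨t, ht, htq⟩ := SetLike.not_le_iff_exists.1 hle
    rw [mem_annEl, ← map_smul] at ht
    obtain ⟨a, ha⟩ := (hfg _).1 ht
    refine Or.inl (mem_ass.2 ⟨hqp, a, ?_⟩)
    rw [← annEl_map_of_injective f hf, ha]
    ext c
    rw [mem_annEl, smul_smul, ← mem_annEl, ← hx]
    exact ⟨fun h => Ideal.mul_mem_right _ _ h, fun h => (hqp.mem_or_mem h).resolve_right htq⟩

variable (S N) in
/-- The map `N ⊗ M' → N ⊗ M''` induced by a linear map. -/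
noncomputable abbrev mapRight {M' M'' : Type u} [AddCommGroup M'] [Module R M'] [AddCommGroup M''] [Module R M'']
    (g : M' →ₗ[R] M'') : N ⊗[R] M' →ₗ[S] N ⊗[R] M'' :=
  TensorProduct.AlgebraTensorModule.map (LinearMap.id : N →ₗ[S] N) g

theorem mapRight_eq {M' M'' : Type u} [AddCommGroup M'] [Module R M'] [AddCommGroup M''] [Module R M'']
    (g : M' →ₗ[R] M'') (x : N ⊗[R] M') : mapRight S N g x = g.lTensor N x := by
  induction x using TensorProduct.induction_on with
  | zero => simp
  | add a b ha hb => simp only [map_add, ha, hb]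
  | tmul => rfl

theorem exists_fg_preimage (x : N ⊗[R] M) :
    ∃ (M' : Submodule R M) (_ : M'.FG) (y : N ⊗[R] ↥M'), mapRight S N M'.subtype y = x := by
  induction x using TensorProduct.induction_on with
  | zero => exact ⟨⊥, Submodule.fg_bot, 0, map_zero _⟩
  | tmul n m =>
    exact ⟨Submodule.span R {m}, Submodule.fg_span_singleton m,
      n ⊗ₜ ⟨m, Submodule.mem_span_singleton_self m⟩, rfl⟩
  | add a b ha hb =>
    obtain ⟨A, hA, u, rfl⟩ := ha
    obtain ⟨B, hB, v, rfl⟩ := hb
    refine ⟨A ⊔ B, hA.sup hB, mapRight S N (Submodule.inclusion le_sup_left) u +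
      mapRight S N (Submodule.inclusion le_sup_right) v, ?_⟩
    simp only [map_add, mapRight_eq, ← LinearMap.lTensor_comp_apply, Submodule.subtype_comp_inclusion]

theorem rTensor_comm {A B : Type u} [AddCommGroup A] [Module R A] [AddCommGroup B] [Module R B]
    (g : A →ₗ[R] B) (y : N ⊗[R] A) :
    g.rTensor N (TensorProduct.comm R N A y) = TensorProduct.comm R N B (g.lTensor N y) := by
  induction y using TensorProduct.induction_on with
  | zero => simp
  | add a b ha hb => simp only [map_add, ha, hb]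
  | tmul => rfl

theorem exists_fg_eq_zero {M' : Submodule R M} (hM' : M'.FG) {y : N ⊗[R] ↥M'}
    (hy : M'.subtype.lTensor N y = 0) :
    ∃ (M'' : Submodule R M) (hle : M' ≤ M''), M''.FG ∧ (Submodule.inclusion hle).lTensor N y = 0 := by
  obtain ⟨Q, hle, hQ, hQy⟩ := TensorProduct.eq_of_fg_of_subtype_eq (N := N) hM'
    (t := TensorProduct.comm R N M' y) (t' := 0) (by rw [rTensor_comm, hy, map_zero, map_zero])
  refine ⟨Q, hle, hQ, (TensorProduct.comm R N Q).injective ?_⟩
  rw [← rTensor_comm, hQy, map_zero, map_zero]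

theorem exists_fg_ass (q : Ideal S) (hfg : q.FG ∨ Module.Flat R N)
    (h : q ∈ FlatCA.ass S (N ⊗[R] M)) :
    ∃ M' : Submodule R M, M'.FG ∧ q ∈ FlatCA.ass S (N ⊗[R] ↥M') := by
  classical
  obtain ⟨hqp, x, hx⟩ := mem_ass.1 h
  obtain ⟨M', hM', y, hy⟩ := exists_fg_preimage (S := S) x
  rcases hfg with hfg | hflat
  · obtain ⟨G, hG⟩ := hfg
    have key : ∀ H : Finset S, ↑H ⊆ (q : Set S) → ∃ (Q : Submodule R M) (hle : M' ≤ Q), Q.FG ∧
        ∀ t ∈ H, t • mapRight S N (Submodule.inclusion hle) y = 0 := by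
      intro H
      induction H using Finset.induction with
      | empty => exact fun _ => ⟨M', le_rfl, hM', by simp⟩
      | insert t H ht ih =>
        intro hH
        rw [Finset.coe_insert, Set.insert_subset_iff] at hH
        obtain ⟨Q, hle, hQ, hQH⟩ := ih hH.2
        have h0 : Q.subtype.lTensor N (t • mapRight S N (Submodule.inclusion hle) y) = 0 := by
          rw [← mapRight_eq (S := S), map_smul, mapRight_eq, mapRight_eq, ← LinearMap.lTensor_comp_apply,
            Submodule.subtype_comp_inclusion, ← mapRight_eq (S := S), hy, ← mem_annEl, ← hx]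
          exact hH.1
        obtain ⟨Q', hle', hQ', hQ0⟩ := exists_fg_eq_zero hQ h0
        have hcomp : ∀ u, mapRight S N (Submodule.inclusion (hle.trans hle')) u =
            mapRight S N (Submodule.inclusion hle') (mapRight S N (Submodule.inclusion hle) u) := fun u => by
          rw [mapRight_eq, mapRight_eq, mapRight_eq, ← LinearMap.lTensor_comp_apply]; rfl
        refine ⟨Q', hle.trans hle', hQ', fun c hc => ?_⟩
        rw [hcomp, ← map_smul, mapRight_eq]
        rcases Finset.mem_insert.1 hc with rfl | hc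
        · exact hQ0
        · rw [hQH c hc, map_zero]
    obtain ⟨Q, hle, hQ, hQG⟩ := key G (hG ▸ Submodule.subset_span)
    refine ⟨Q, hQ, mem_ass.2 ⟨hqp, mapRight S N (Submodule.inclusion hle) y, le_antisymm ?_ (fun t ht => ?_)⟩⟩
    · rw [← hG, Ideal.span_le]
      exact fun t ht => mem_annEl.2 (hQG t ht)
    · rw [hx, mem_annEl, ← hy, ← map_smul]
      rw [mem_annEl] at ht
      have h2 := congrArg (mapRight S N Q.subtype) ht
      rw [map_zero, map_smul, mapRight_eq Q.subtype, mapRight_eq, ← LinearMap.lTensor_comp_apply,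
        Submodule.subtype_comp_inclusion, ← mapRight_eq (S := S)] at h2
      rw [map_smul]
      exact h2
  · refine ⟨M', hM', mem_ass.2 ⟨hqp, y, ?_⟩⟩
    rw [hx, ← hy]
    refine annEl_map_of_injective _ ?_ y
    intro u v huv
    rw [mapRight_eq, mapRight_eq] at huv
    exact Module.Flat.lTensor_preserves_injective_linearMap _ M'.injective_subtype huv

theorem mem_ass_of_equiv {A B : Type u} [AddCommGroup A] [Module S A] [AddCommGroup B] [Module S B]
    (e : A ≃ₗ[S] B) {q : Ideal S} (hq : q ∈ FlatCA.ass S A) : q ∈ FlatCA.ass S B :=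
  ass_subset_of_injective e.toLinearMap e.injective hq

/-- The associated primes of `N ⊗ M` for `N` flat and `M` finite over a Noetherian ring. -/
theorem exists_of_mem_ass [IsNoetherianRing R] [Module.Flat R N] [Module.Finite R M] (q : Ideal S)
    (h : q ∈ FlatCA.ass S (N ⊗[R] M)) :
    q ∈ FlatCA.ass S (N ⧸ ((q.comap (algebraMap R S)).map (algebraMap R S)) • (⊤ : Submodule S N)) := by
  revert h
  induction ‹Module.Finite R M› using IsNoetherianRing.induction_on_isQuotientEquivQuotientPrime R with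
  | subsingleton M =>
    intro h
    obtain ⟨hqp, x, hx⟩ := mem_ass.1 h
    haveI : Subsingleton (N ⊗[R] M) := subsingleton_of_forall_eq 0 fun a => by
      induction a using TensorProduct.induction_on with
      | zero => rfl
      | tmul n m => rw [Subsingleton.elim m 0, TensorProduct.tmul_zero]
      | add a b ha hb => rw [ha, hb, add_zero]
    exact absurd (hx.trans (annEl_eq_top.2 (Subsingleton.elim x 0))) hqp.ne_top
  | quotient M p e =>
    intro h
    haveI := p.2
    have h1 : q ∈ FlatCA.ass S (N ⧸ (p.1.map (algebraMap R S)) • (⊤ : Submodule S N)) :=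
      mem_ass_of_equiv ((TensorProduct.AlgebraTensorModule.congr (LinearEquiv.refl S N) e).trans
        (tensorQuotEquiv p.1)) h
    rw [(ass_quotient_eq p.1).2 q h1]
    exact h1
  | exact M₁ M₂ M₃ f g hf hg hfg h₁ h₃ =>
    intro h
    rcases ass_subset_union (mapRight S N f) (mapRight S N g) (fun u v huv => by
        rw [mapRight_eq, mapRight_eq] at huv
        exact Module.Flat.lTensor_preserves_injective_linearMap _ hf huv)
      (fun u => by
        rw [mapRight_eq]
        refine ⟨fun h => ?_, ?_⟩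
        · obtain ⟨v, hv⟩ := (lTensor_exact N hfg hg u).1 h
          exact ⟨v, by rw [mapRight_eq, hv]⟩
        · rintro ⟨v, rfl⟩
          rw [mapRight_eq]
          exact (lTensor_exact N hfg hg).apply_apply_eq_zero v) h with h' | h'
    · exact h₁ h'
    · exact h₃ h'

theorem ass_tensor_of_fiber [Module.Flat R N] (p : Ideal R) [p.IsPrime] (hp : p ∈ FlatCA.ass R M)
    (q : Ideal S) (hq : q ∈ FlatCA.ass S (N ⧸ (p.map (algebraMap R S)) • (⊤ : Submodule S N))) :
    q ∈ FlatCA.ass S (N ⊗[R] M) := by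
  obtain ⟨-, m, hm⟩ := mem_ass.1 hp
  let g : (R ⧸ p) →ₗ[R] M := p.liftQ (LinearMap.toSpanSingleton R M m) (fun r hr => by
    rw [LinearMap.mem_ker, LinearMap.toSpanSingleton_apply, ← mem_annEl, ← hm]; exact hr)
  have hg : Function.Injective g := by
    rw [injective_iff_map_eq_zero]
    intro x hx
    obtain ⟨r, rfl⟩ := Submodule.Quotient.mk_surjective _ x
    change r • m = 0 at hx
    rw [Submodule.Quotient.mk_eq_zero, hm]
    exact mem_annEl.2 hx
  refine ass_subset_of_injective (mapRight S N g) (fun u v huv => ?_)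
    (mem_ass_of_equiv (tensorQuotEquiv p).symm hq)
  rw [mapRight_eq, mapRight_eq] at huv
  exact Module.Flat.lTensor_preserves_injective_linearMap _ hg huv

end tensor

end Groth.Agent.CAlgH3.FiberMod
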