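import Groth.Agent.CommAlg6.FibreLocal
import Groth.Agent.CommAlg6.CompletionEquidim
import Groth.Agent.CAlgH.CIScheme
import Groth.Agent.Pur21Lib.Purity
import Groth.Agent.CAlgH3.DepthAlongFlat

/-! Codimension of a flat closed subscheme and of its fibres. -/

set_option autoImplicit false
set_option backward.isDefEq.respectTransparency.types false
set_option linter.style.haveILetI false
universe u

open CategoryTheory CategoryTheory.Limits AlgebraicGeometry TopologicalSpace IsLocalRing

namespace Groth.Agent.CAlgH3.FibreCodim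

variable {X Y S : Scheme.{u}} [IsLocallyNoetherian X] [IsLocallyNoetherian S] (f : X ⟶ S) [Flat f]

theorem dim_eq_add_fiberStalk (x : X) :
    ringKrullDim (X.presheaf.stalk x) = ringKrullDim (S.presheaf.stalk (f x)) + ringKrullDim (CInt.fiberStalk f x) := by
  letI := (f.stalkMap x).hom.toAlgebra
  haveI : IsLocalHom (algebraMap (S.presheaf.stalk (f x)) (X.presheaf.stalk x)) :=
    inferInstanceAs (IsLocalHom (f.stalkMap x).hom)
  haveI : Module.Flat (S.presheaf.stalk (f x)) (X.presheaf.stalk x) := Flat.stalkMap f x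
  obtain ⟨e⟩ := CAlgH.CIScheme.fiberStalk_equiv f x
  rw [CommAlg6.ringKrullDim_eq_add_fibre (A := S.presheaf.stalk (f x)) (B := X.presheaf.stalk x),
    ← ringKrullDim_eq_of_ringEquiv e]
  rfl

theorem exists_gen (i : Y ⟶ X) [IsClosedImmersion i] [Flat (i ≫ f)] (y : Y) :
    ∃ η : Y, ringKrullDim (X.presheaf.stalk (i η)) ≤ ringKrullDim (CInt.fiberStalk f (i y)) := by
  let A := S.presheaf.stalk (f (i y))
  let B := X.presheaf.stalk (i y)
  let C := Y.presheaf.stalk y
  haveI : IsLocallyNoetherian Y := LocallyOfFiniteType.isLocallyNoetherian i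
  let φ := (i.stalkMap y).hom
  have hφ : Function.Surjective φ := i.stalkMap_surjective y
  letI : Algebra A C := ((i ≫ f).stalkMap y).hom.toAlgebra
  haveI : IsLocalHom (algebraMap A C) := inferInstanceAs (IsLocalHom ((i ≫ f).stalkMap y).hom)
  haveI : Module.Flat A C := Flat.stalkMap (i ≫ f) y
  haveI : Nontrivial (C ⧸ (maximalIdeal A).map (algebraMap A C)) :=
    Ideal.Quotient.nontrivial_iff.2 (ne_top_of_le_ne_top (maximalIdeal.isMaximal C).ne_top
      (((local_hom_TFAE (algebraMap A C)).out 0 2).1 (inferInstance : IsLocalHom (algebraMap A C))))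
  have hAC : ringKrullDim A ≤ ringKrullDim C := by
    rw [CommAlg6.ringKrullDim_eq_add_fibre (A := A) (B := C)]
    exact le_add_of_nonneg_right ringKrullDim_nonneg_of_nontrivial
  have hK : RingHom.ker φ ≠ ⊤ := RingHom.ker_ne_top φ
  obtain ⟨Q, hQ, hQd⟩ := CommAlg6.exists_minimal_ringKrullDim_eq (R := B) hK
  haveI := hQ.1.1
  have hC : ringKrullDim (B ⧸ RingHom.ker φ) = ringKrullDim C :=
    ringKrullDim_eq_of_ringEquiv (RingHom.quotientKerEquivOfSurjective hφ)
  have h1 : (Q.height : WithBot ℕ∞) + ringKrullDim A ≤ ringKrullDim B := by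
    refine le_trans (add_le_add le_rfl (hAC.trans (hC.symm.trans hQd.symm).le)) ?_
    exact CAlgH3.height_add_ringKrullDim_quotient_le Q
  rw [dim_eq_add_fiberStalk f (i y)] at h1
  have h2 : (Q.height : WithBot ℕ∞) ≤ ringKrullDim (CInt.fiberStalk f (i y)) := by
    obtain ⟨a, ha⟩ : ∃ a : ℕ, ringKrullDim A = (a : WithBot ℕ∞) := by
      obtain ⟨a, ha⟩ := ENat.ne_top_iff_exists.1
        (Ideal.height_ne_top (I := maximalIdeal A) (maximalIdeal.isMaximal A).ne_top)
      exact ⟨a, by rw [← IsLocalRing.maximalIdeal_height_eq_ringKrullDim, ← ha]; rfl⟩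
    rw [show ringKrullDim (S.presheaf.stalk (f (i y))) = (a : WithBot ℕ∞) from ha, add_comm] at h1
    exact ENat.WithBot.add_le_add_natCast_left_iff.1 h1
  let Qp : PrimeSpectrum B := ⟨Q, inferInstance⟩
  obtain ⟨Qc, hQc⟩ : Qp ∈ Set.range (PrimeSpectrum.comap φ) := by
    rw [range_comap_of_surjective _ φ hφ, PrimeSpectrum.mem_zeroLocus]
    exact hQ.1.2
  refine ⟨Y.fromSpecStalk y Qc, ?_⟩
  rw [DepthAlongFlat.apply_fromSpecStalk i y Qc, hQc]
  exact (Pur21Lib.ringKrullDim_stalk_fromSpecStalk (i y) Qp).trans_le h2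

theorem main (i : Y ⟶ X) [IsClosedImmersion i] [Flat (i ≫ f)] :
    (⨅ y : Set.range i.base, ringKrullDim ↑(CInt.fiberStalk f y.1)) =
      ⨅ y : Set.range i.base, ringKrullDim ↑(X.presheaf.stalk y.1) := by
  refine le_antisymm (le_iInf fun x => (iInf_le _ x).trans ?_) (le_iInf fun x => ?_)
  · rw [dim_eq_add_fiberStalk f x.1]
    exact le_add_of_nonneg_left ringKrullDim_nonneg_of_nontrivial
  · obtain ⟨x, y, rfl⟩ := x
    obtain ⟨η, hη⟩ := exists_gen f i y
    exact (iInf_le _ (⟨i η, η, rfl⟩ : Set.range i.base)).trans hη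

end Groth.Agent.CAlgH3.FibreCodim
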