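import Groth.Agent.VarietyLib.DimOneGlue
import Groth.Agent.VarietyLib.AffineNhd
import Groth.Agent.VarietyLib.AmpleComponents
import Groth.Agent.S7662
import Groth.Agent.S7663

/-!
# Finitely many points of codimension at most one have an affine neighbourhood
-/

set_option autoImplicit false
set_option backward.isDefEq.respectTransparency.types false
universe u

open CategoryTheory CategoryTheory.Limits AlgebraicGeometry TopologicalSpace IsLocalRing
open Groth.Agent.VarietyLib

namespace Groth.Agent.CAlgH3.AffineCodimOne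

variable {X : Scheme.{u}}

/-- The local ring inside the function field. -/
noncomputable def localSubring (X : Scheme.{u}) [IsIntegral X] (x : X) : Subring X.functionField :=
  (algebraMap (X.presheaf.stalk x) X.functionField).range

/-- The local ring is its image in the function field. -/
noncomputable def equivLocal [IsIntegral X] (x : X) : X.presheaf.stalk x ≃+* localSubring X x :=
  RingEquiv.ofBijective (algebraMap (X.presheaf.stalk x) X.functionField).rangeRestrict
    ⟨fun _ _ h => IsFractionRing.injective (X.presheaf.stalk x) X.functionField (congrArg Subtype.val h),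
      RingHom.rangeRestrict_surjective _⟩

instance isFractionRing_localSubring [IsIntegral X] (x : X) :
    IsFractionRing (localSubring X x) X.functionField :=
  IsFractionRing.of_field (localSubring X x) X.functionField fun z => by
    obtain ⟨a, b, -, rfl⟩ := IsFractionRing.div_surjective (A := X.presheaf.stalk x) z
    exact ⟨⟨_, a, rfl⟩, ⟨_, b, rfl⟩, rfl⟩

/-- Points with a Noetherian local ring of dimension one: only the generic point lies above. -/
theorem eq_or_eq_of_specializes [IsIntegral X] {x y : X}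
    (hd : ringKrullDim (X.presheaf.stalk x) = 1) (h : y ⤳ x) : y = genericPoint X ∨ y = x := by
  obtain ⟨q, rfl⟩ : y ∈ Set.range (X.fromSpecStalk x) := by rw [Scheme.range_fromSpecStalk]; exact h
  have : Ring.KrullDimLE 1 (X.presheaf.stalk x) := Ring.krullDimLE_iff.2 hd.le
  rcases Ring.krullDimLE_one_iff.mp inferInstance q.asIdeal q.isPrime with hq | hq
  · left
    rw [IsDomain.minimalPrimes_eq_singleton_bot, Set.mem_singleton_iff] at hq
    obtain ⟨q₀, hq₀⟩ : genericPoint X ∈ Set.range (X.fromSpecStalk x) := by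
      rw [Scheme.range_fromSpecStalk]; exact (genericPoint_spec X).specializes trivial
    have h1 : q ⤳ q₀ := (PrimeSpectrum.le_iff_specializes q q₀).1 (show q.asIdeal ≤ q₀.asIdeal by
      rw [hq]; exact bot_le)
    exact (((genericPoint_spec X).specializes trivial).antisymm
      (hq₀ ▸ h1.map (X.fromSpecStalk x).continuous)).eq.symm
  · right
    have : q = IsLocalRing.closedPoint (X.presheaf.stalk x) := PrimeSpectrum.ext (IsLocalRing.eq_maximalIdeal hq)
    rw [this, Scheme.fromSpecStalk_closedPoint]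

theorem ringKrullDim_eq_one [IsIntegral X] {x : X} (hx : x ≠ genericPoint X)
    (hd : ringKrullDim (X.presheaf.stalk x) ≤ 1) : ringKrullDim (X.presheaf.stalk x) = 1 := by
  refine hd.antisymm ?_
  obtain ⟨q, hq⟩ : genericPoint X ∈ Set.range (X.fromSpecStalk x) := by
    rw [Scheme.range_fromSpecStalk]; exact (genericPoint_spec X).specializes trivial
  have hne : q ≠ IsLocalRing.closedPoint (X.presheaf.stalk x) := fun h =>
    hx (by rw [← hq, h, Scheme.fromSpecStalk_closedPoint])
  let q' : PrimeSpectrum (X.presheaf.stalk x) := q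
  have hlt : q' < IsLocalRing.closedPoint (X.presheaf.stalk x) :=
    lt_of_le_of_ne (IsLocalRing.le_maximalIdeal q'.isPrime.ne_top : q' ≤ _) hne
  have hpos : (0 : WithBot ℕ∞) < ringKrullDim (X.presheaf.stalk x) :=
    Order.krullDim_pos_iff.2 ⟨_, _, hlt⟩
  revert hpos
  generalize ringKrullDim (X.presheaf.stalk x) = d
  induction d using WithBot.recBotCoe with
  | bot => simp
  | coe n => intro h; exact_mod_cast ENat.one_le_iff_ne_zero.2 (ne_of_gt (by exact_mod_cast h))

/-- Distinct points of codimension one of a separated integral scheme have local rings generating the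
function field. -/
theorem sup_eq_top [IsIntegral X] [X.IsSeparated] {x y : X} (hne : x ≠ y)
    [IsNoetherianRing (X.presheaf.stalk x)]
    (hdx : ringKrullDim (X.presheaf.stalk x) = 1) (hdy : ringKrullDim (X.presheaf.stalk y) = 1) :
    localSubring X x ⊔ localSubring X y = ⊤ := by
  by_contra hA
  have : IsNoetherianRing (localSubring X x) := isNoetherianRing_of_ringEquiv _ (equivLocal x)
  obtain ⟨O, hO, hOx, hOy⟩ := (Groth.Agent.S7663.result X.functionField (localSubring X x) (localSubring X y)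
    ((ringKrullDim_eq_of_ringEquiv (equivLocal x)).symm.trans hdx)).1 hA
  -- the centre is the closed point
  have hcen : ∀ z : X, ringKrullDim (X.presheaf.stalk z) = 1 → localSubring X z ≤ O.toSubring →
      ∃ φ : X.presheaf.stalk z ⟶ CommRingCat.of O,
        φ ≫ CommRingCat.ofHom O.subtype = CommRingCat.ofHom (algebraMap (X.presheaf.stalk z) X.functionField) ∧
        Spec.map φ (IsLocalRing.closedPoint O) = IsLocalRing.closedPoint (X.presheaf.stalk z) := by
    intro z hdz hz
    let φ₀ : X.presheaf.stalk z →+* O :=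
      (algebraMap (X.presheaf.stalk z) X.functionField).codRestrict O.toSubring fun b => hz ⟨b, rfl⟩
    refine ⟨CommRingCat.ofHom φ₀, rfl, PrimeSpectrum.ext ?_⟩
    show (maximalIdeal O).comap φ₀ = maximalIdeal _
    have : Ring.KrullDimLE 1 (X.presheaf.stalk z) := Ring.krullDimLE_iff.2 hdz.le
    rcases Ring.krullDimLE_one_iff.mp inferInstance ((maximalIdeal O).comap φ₀) inferInstance with h | h
    · exfalso
      rw [IsDomain.minimalPrimes_eq_singleton_bot, Set.mem_singleton_iff] at h
      have htop : ∀ w : X.functionField, w ∈ O := fun w => by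
        obtain ⟨a, b, hb, rfl⟩ := IsFractionRing.div_surjective (A := X.presheaf.stalk z) w
        have hb' : φ₀ b ∉ maximalIdeal O := fun hm => nonZeroDivisors.ne_zero hb
          ((Ideal.mem_bot).1 (h ▸ Ideal.mem_comap.2 hm))
        obtain ⟨v, hv⟩ := (IsLocalRing.notMem_maximalIdeal.1 hb').exists_right_inv
        rw [div_eq_mul_inv]
        refine O.mul_mem _ _ (hz ⟨a, rfl⟩) ?_
        have hv' : algebraMap (X.presheaf.stalk z) X.functionField b * (v : X.functionField) = 1 :=
          congrArg Subtype.val hv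
        rw [← eq_inv_of_mul_eq_one_right hv']
        exact v.2
      refine IsDiscreteValuationRing.not_isField O ⟨⟨0, 1, zero_ne_one⟩, mul_comm, fun {a} ha => ?_⟩
      exact ⟨⟨(a : X.functionField)⁻¹, htop _⟩, Subtype.ext (mul_inv_cancel₀ fun h0 => ha (Subtype.ext h0))⟩
    · exact IsLocalRing.eq_maximalIdeal h
  obtain ⟨φ, hφ, hφc⟩ := hcen x hdx hOx
  obtain ⟨ψ, hψ, hψc⟩ := hcen y hdy hOy
  let incl : CommRingCat.of O ⟶ X.functionField := CommRingCat.ofHom O.subtype
  haveI : IsDominant (Spec.map incl) := by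
    refine ⟨(PrimeSpectrum.denseRange_comap_iff_ker_le_nilRadical incl.hom).2 ?_⟩
    intro b hb
    rw [RingHom.mem_ker] at hb
    rw [show b = 0 from Subtype.ext hb]
    exact zero_mem _
  haveI : IsReduced (Spec (CommRingCat.of O)) := inferInstance
  have e : Spec.map φ ≫ X.fromSpecStalk x = Spec.map ψ ≫ X.fromSpecStalk y := by
    refine ext_of_isDominant (Spec.map incl) ?_
    rw [← Spec.map_comp_assoc, ← Spec.map_comp_assoc]
    erw [hφ, hψ]
    exact (Scheme.SpecMap_stalkSpecializes_fromSpecStalk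
      ((genericPoint_spec X).specializes (trivial : x ∈ Set.univ))).trans
      (Scheme.SpecMap_stalkSpecializes_fromSpecStalk
      ((genericPoint_spec X).specializes (trivial : y ∈ Set.univ))).symm
  have e2 := congrArg (fun r : Spec (CommRingCat.of O) ⟶ X => r (IsLocalRing.closedPoint O)) e
  simp only [Scheme.Hom.comp_apply] at e2
  rw [hφc, hψc, Scheme.fromSpecStalk_closedPoint, Scheme.fromSpecStalk_closedPoint] at e2
  exact hne e2

/-- Separating functions: at points of codimension one, a rational function that is a unit at `x` and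
vanishes at the others. -/
theorem exists_separating [IsIntegral X] [X.IsSeparated] (F : Finset X)
    (hF : ∀ x ∈ F, IsNoetherianRing (X.presheaf.stalk x) ∧ ringKrullDim (X.presheaf.stalk x) = 1) :
    ∀ x ∈ F, ∃ t : X.functionField,
      ∀ y ∈ F, ∃ g : X.presheaf.stalk y, algebraMap _ X.functionField g = t ∧ (y = x ↔ IsUnit g) := by
  have : ∀ i : {y // y ∈ F}, IsNoetherianRing (localSubring X i.1) := fun i =>
    have := (hF _ i.2).1
    isNoetherianRing_of_ringEquiv _ (equivLocal i.1)
  have hloc : ∀ y : X, IsLocalRing (localSubring X y) := fun y => (equivLocal y).isLocalRing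
  obtain ⟨g⟩ := DimOne.exists_glueData (K := X.functionField) {y // y ∈ F} (fun i => localSubring X i.1)
    (fun i => (ringKrullDim_eq_of_ringEquiv (equivLocal i.1)).symm.trans (hF _ i.2).2)
    (fun i => have := hloc i.1; Finite.of_subsingleton)
    (fun i j hij => by
      have := (hF _ i.2).1
      exact sup_eq_top (fun h => hij (Subtype.ext h)) (hF _ i.2).2 (hF _ j.2).2)
  intro x hx
  refine ⟨g.t ⟨x, hx⟩, fun y hy => ?_⟩
  refine ⟨(equivLocal y).symm ⟨_, g.mem ⟨x, hx⟩ ⟨y, hy⟩⟩, ?_, ?_⟩
  · exact congrArg Subtype.val ((equivLocal y).apply_symm_apply ⟨_, g.mem ⟨x, hx⟩ ⟨y, hy⟩⟩)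
  · constructor
    · rintro rfl
      exact (g.unit ⟨y, hy⟩).map (equivLocal y).symm
    · intro hu
      by_contra hne
      have hj := g.jac ⟨x, hx⟩ ⟨y, hy⟩ (fun h => hne (congrArg Subtype.val h).symm)
      have := hloc y
      rw [IsLocalRing.jacobson_eq_maximalIdeal _ bot_ne_top] at hj
      refine (IsLocalRing.mem_maximalIdeal _).1 hj ?_
      simpa using hu.map (equivLocal y)

/-- **Integral case.** -/
theorem exists_affine_integral [IsIntegral X] [X.IsSeparated] (s : Finset X)
    (hs : ∀ x ∈ s, IsNoetherianRing (X.presheaf.stalk x) ∧ ringKrullDim (X.presheaf.stalk x) ≤ 1) :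
    ∃ U : X.Opens, IsAffineOpen U ∧ ∀ x ∈ s, x ∈ U := by
  classical
  let η := genericPoint X
  let F := s.filter fun x => x ≠ η
  have hηmem : ∀ {U : X.Opens}, (U : Set X).Nonempty → η ∈ U := fun {U} h =>
    ((genericPoint_spec X).mem_open_set_iff U.isOpen).mpr (by simpa using h)
  rcases F.eq_empty_or_nonempty with hFe | ⟨x₀, hx₀⟩
  · obtain ⟨U, hU, hηU, -⟩ := exists_isAffineOpen_mem_and_subset (x := η) (U := (⊤ : X.Opens)) trivial
    refine ⟨U, hU, fun x hx => ?_⟩
    by_cases h : x = η
    · exact h ▸ hηU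
    · exact absurd (Finset.mem_filter.2 ⟨hx, h⟩) (by rw [show s.filter (fun x => x ≠ η) = ∅ from hFe]; simp)
  have hF : ∀ x ∈ F, IsNoetherianRing (X.presheaf.stalk x) ∧ ringKrullDim (X.presheaf.stalk x) = 1 :=
    fun x hx => by
      obtain ⟨hxs, hne⟩ := Finset.mem_filter.1 hx
      exact ⟨(hs x hxs).1, ringKrullDim_eq_one hne (hs x hxs).2⟩
  choose t ht using exists_separating F hF
  choose g hgt hgu using ht
  -- each separating function is a section near all the points
  have hsec : ∀ (i j : {y // y ∈ F}), ∃ (V : X.Opens) (hV : IsAffineOpen V) (hjV : j.1 ∈ V) (a : Γ(X, V)),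
      X.presheaf.germ V j.1 hjV a = g i.1 i.2 j.1 j.2 := fun i j => by
    obtain ⟨V, hV, a, ha⟩ := X.presheaf.exists_germ_eq (g i.1 i.2 j.1 j.2)
    obtain ⟨W, hW, hjW, hWV⟩ := exists_isAffineOpen_mem_and_subset (x := j.1) (U := V) hV
    exact ⟨W, hW, hjW, X.presheaf.map (homOfLE (show W ≤ V from hWV)).op a, by rw [TopCat.Presheaf.germ_res_apply]; exact ha⟩
  choose V hVa hjV a ha using hsec
  have hη : ∀ i j, η ∈ V i j := fun i j => hηmem ⟨_, hjV i j⟩
  have hff : ∀ i j, X.presheaf.germ (V i j) η (hη i j) (a i j) = t i.1 i.2 := fun i j => by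
    have : Nonempty (V i j) := ⟨⟨_, hjV i j⟩⟩
    rw [← hgt i.1 i.2 j.1 j.2, ← ha i j, Scheme.algebraMap_germ_eq_germToFunctionField]
  let Wi : {y // y ∈ F} → X.Opens := fun i => ⨆ j, V i j
  have hglue : ∀ i, ∃ β : Γ(X, Wi i), ∀ j, X.presheaf.map (homOfLE (le_iSup (V i) j)).op β = a i j := by
    intro i
    obtain ⟨β, hβ, -⟩ := TopCat.Sheaf.existsUnique_gluing' X.sheaf (V i) (Wi i)
      (fun j => homOfLE (le_iSup (V i) j)) le_rfl (a i) (fun j k => by
        apply germ_injective_of_isIntegral (X := X) η (U := V i j ⊓ V i k) ⟨hη i j, hη i k⟩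
        erw [TopCat.Presheaf.germ_res_apply, TopCat.Presheaf.germ_res_apply]
        exact (hff i j).trans (hff i k).symm)
    exact ⟨β, hβ⟩
  choose β hβ using hglue
  have hunit : ∀ i j : {y // y ∈ F}, j.1 ∈ X.basicOpen (β i) ↔ j = i := fun i j => by
    have hj : j.1 ∈ Wi i := Opens.mem_iSup.2 ⟨j, hjV i j⟩
    rw [X.mem_basicOpen _ _ hj]
    have : X.presheaf.germ (Wi i) j.1 hj (β i) = g i.1 i.2 j.1 j.2 := by
      rw [← ha i j, ← hβ i j, TopCat.Presheaf.germ_res_apply]
    rw [this, ← hgu i.1 i.2 j.1 j.2, Subtype.ext_iff]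
  choose Ω hΩ hiΩ _ using fun i : {y // y ∈ F} =>
    exists_isAffineOpen_mem_and_subset (x := i.1) (U := (⊤ : X.Opens)) trivial
  -- the part of `D(βᵢ)` outside `Ωᵢ` is away from all the points
  have hqs : QuasiSeparatedSpace X := inferInstance
  let B : {y // y ∈ F} → Set X := fun i => closure ((Ω i : Set X)ᶜ ∩ X.basicOpen (β i))
  have hWi : ∀ i, IsCompact (X.basicOpen (β i) : Set X) := fun i => by
    have h : (X.basicOpen (β i) : Set X) = ⋃ j, (X.basicOpen (a i j) : Set X) := by
      ext x
      constructor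
      · intro hx
        obtain ⟨j, hj⟩ := Opens.mem_iSup.1 (X.basicOpen_le (β i) hx)
        refine Set.mem_iUnion.2 ⟨j, ?_⟩
        rw [← hβ i j, Scheme.basicOpen_res]
        exact ⟨hj, hx⟩
      · intro hx
        obtain ⟨j, hj⟩ := Set.mem_iUnion.1 hx
        rw [← hβ i j, Scheme.basicOpen_res] at hj
        exact hj.2
    rw [h]
    exact isCompact_iUnion fun j => ((hVa i j).basicOpen _).isCompact
  have hB : ∀ i (k : {y // y ∈ F}), k.1 ∉ B i := fun i k =>
    notMem_closure_inter (hWi i) (Ω i).2.isClosed_compl fun y hy hyΩ hyk => by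
      rcases eq_or_eq_of_specializes (hF _ k.2).2 hyk with rfl | rfl
      · exact hyΩ (hηmem ⟨_, hiΩ i⟩)
      · exact hyΩ ((hunit i k).1 hy ▸ hiΩ i)
  let O : X.Opens := ⟨(⋂ i, (Wi i : Set X)) ∩ (⋃ i, B i)ᶜ,
    (isOpen_iInter_of_finite fun i => (Wi i).2).inter
      (isClosed_iUnion_of_finite fun i => isClosed_closure).isOpen_compl⟩
  have hFO : ∀ k : {y // y ∈ F}, k.1 ∈ O := fun k =>
    ⟨Set.mem_iInter.2 fun i => Opens.mem_iSup.2 ⟨k, hjV i k⟩,
      fun h => by obtain ⟨i, hi⟩ := Set.mem_iUnion.1 h; exact hB i k hi⟩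
  choose N hN hkN hNO using fun k : {y // y ∈ F} =>
    exists_isAffineOpen_mem_and_subset (x := k.1) (U := O) (hFO k)
  let W : X.Opens := ⨆ k, N k
  have hW : IsCompact (W : Set X) := by
    rw [Opens.coe_iSup]
    exact isCompact_iUnion fun k => (hN k).isCompact
  have hWWi : ∀ i, W ≤ Wi i := fun i => iSup_le fun k x hx => Set.mem_iInter.1 (hNO k hx).1 i
  obtain ⟨U, hU, hUF⟩ := exists_affineOpen_of_sections hW
    (fun i => X.presheaf.map (homOfLE (hWWi i)).op (β i)) Ω hΩ (fun i x hx => by
      rw [Scheme.basicOpen_res] at hx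
      by_contra hxΩ
      obtain ⟨k, hk⟩ := Opens.mem_iSup.1 hx.1
      exact (hNO k hk).2 (Set.mem_iUnion.2 ⟨i, subset_closure ⟨hxΩ, hx.2⟩⟩))
    F (fun x hx => ⟨⟨x, hx⟩, by
      rw [Scheme.basicOpen_res]
      exact ⟨Opens.mem_iSup.2 ⟨⟨x, hx⟩, hkN ⟨x, hx⟩⟩, (hunit _ _).2 rfl⟩⟩)
  refine ⟨U, hU, fun x hx => ?_⟩
  by_cases h : x = η
  · exact h ▸ hηmem ⟨x₀, hUF x₀ hx₀⟩
  · exact hUF x (Finset.mem_filter.2 ⟨hx, h⟩)

/-- Finitely many irreducible components. -/
theorem exists_affine_of_finite_components [X.IsSeparated]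
    (hX : (irreducibleComponents (X : Type u)).Finite) (s : Finset X)
    (hs : ∀ x ∈ s, IsNoetherianRing (X.presheaf.stalk x) ∧ ringKrullDim (X.presheaf.stalk x) ≤ 1) :
    ∃ U : X.Opens, IsAffineOpen U ∧ ∀ x ∈ s, x ∈ U := by
  classical
  refine Groth.Agent.S7662.result X hX s fun Z hZ => ?_
  let A : Closeds X := ⟨Z, isClosed_of_mem_irreducibleComponents Z hZ⟩
  have : IsIntegral (csub A) := isIntegral_vanishingIdeal A hZ.1
  have : (csub A).IsSeparated := ⟨by
    rw [show terminal.from (csub A) = cι A ≫ terminal.from X from Subsingleton.elim _ _]; infer_instance⟩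
  obtain ⟨V, hV, hVs⟩ := exists_affine_integral (X := csub A)
    (s.preimage (cι A) (cι A).isClosedEmbedding.injective.injOn) fun y hy => by
      obtain ⟨h1, h2⟩ := hs _ (Finset.mem_preimage.1 hy)
      have hsur := (cι A).stalkMap_surjective y
      exact ⟨isNoetherianRing_of_surjective _ _ ((cι A).stalkMap y).hom hsur,
        (ringKrullDim_le_of_surjective _ hsur).trans h2⟩
  refine ⟨V, hV, fun t ht htZ => ?_⟩
  obtain ⟨y, rfl⟩ := (range_cι A).ge htZ
  exact ⟨y, hVs y (Finset.mem_preimage.2 ht), rfl⟩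

/-- Finitely many points of codimension at most one. -/
theorem exists_affine [X.IsSeparated]
    (hirr : ∀ U : X.Opens, IsCompact (U : Set X) → (irreducibleComponents (U : Set X)).Finite)
    (s : Finset X) (hs : ∀ x ∈ s, IsNoetherianRing (X.presheaf.stalk x) ∧ ringKrullDim (X.presheaf.stalk x) ≤ 1) :
    ∃ U : X.Opens, IsAffineOpen U ∧ ∀ x ∈ s, x ∈ U := by
  classical
  choose N hN hxN _ using fun x : {x // x ∈ s} =>
    exists_isAffineOpen_mem_and_subset (x := x.1) (U := (⊤ : X.Opens)) trivial
  let W : X.Opens := ⨆ x, N x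
  have hW : IsCompact (W : Set X) := by
    rw [Opens.coe_iSup]
    exact isCompact_iUnion fun k => (hN k).isCompact
  have : W.toScheme.IsSeparated := ⟨by
    rw [show terminal.from W.toScheme = W.ι ≫ terminal.from X from Subsingleton.elim _ _]; infer_instance⟩
  obtain ⟨U, hU, hUs⟩ := exists_affine_of_finite_components (X := W.toScheme) (hirr W hW)
    (s.preimage W.ι W.ι.isOpenEmbedding.injective.injOn) fun y hy => by
      obtain ⟨h1, h2⟩ := hs _ (Finset.mem_preimage.1 hy)
      have : IsNoetherianRing (X.presheaf.stalk y.1) := h1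
      let e : X.presheaf.stalk y.1 ≃+* W.toScheme.presheaf.stalk y := (W.stalkIso y).symm.commRingCatIsoToRingEquiv
      exact ⟨isNoetherianRing_of_ringEquiv _ e, (ringKrullDim_eq_of_ringEquiv e).ge.trans h2⟩
  refine ⟨W.ι ''ᵁ U, hU.image_of_isOpenImmersion _, fun x hx => ?_⟩
  exact ⟨⟨x, Opens.mem_iSup.2 ⟨⟨x, hx⟩, hxN ⟨x, hx⟩⟩⟩, hUs _ (Finset.mem_preimage.2 hx), rfl⟩

end Groth.Agent.CAlgH3.AffineCodimOne
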