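import Groth.Agent.SGA1Quot.Existence
import Groth.Agent.SGA1Quot.Affine
import Groth.Agent.SGA1Quot.Factor
import Groth.Agent.AmpleLib.Local
import Groth.Agent.PicLib.FiniteSetTriv
import Groth.Agent.H8Coh.TransClass
import Groth.Agent.MorProj.FinFree
import Groth.Prelude.Def_RelProj

/-!
# Quotients of quasi-projective schemes by finite groups are quasi-projective

The relatively ample module descends through norms of transition functions.
-/

set_option autoImplicit false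
set_option linter.style.haveILetI false
set_option backward.isDefEq.respectTransparency false
set_option backward.isDefEq.respectTransparency.types false
set_option maxHeartbeats 1000000

universe u

open CategoryTheory CategoryTheory.Limits AlgebraicGeometry TopologicalSpace Opposite
open Groth.Agent.Coherent Groth.Agent.PicLib Groth.Agent.AmpleLib Groth.Agent.H8Coh

namespace Groth.Agent.CAlgH3.QuotAmple

variable {X Y : Scheme.{u}} {G : Type u} [Group G] {ρ : G →* Aut X} {q : X ⟶ Y}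

section Norm

variable (hq : SGA1.IsQuot ρ q)

/-- The action on functions over the preimage of an open. -/
noncomputable def act (g : G) (V : Y.Opens) : Γ(X, q ⁻¹ᵁ V) →+* Γ(X, q ⁻¹ᵁ V) :=
  ((ρ g).hom.appLE _ _ (SGA1.preimage_le_of_inv ρ q hq.inv g V)).hom

theorem appLE_congr' {A B : Scheme.{u}} {a b : A ⟶ B} (h : a = b) {U : B.Opens} {V : A.Opens} (e : V ≤ a ⁻¹ᵁ U)
    (e' : V ≤ b ⁻¹ᵁ U) : a.appLE U V e = b.appLE U V e' := by subst h; rfl

theorem act_act (g h : G) (V : Y.Opens) (a : Γ(X, q ⁻¹ᵁ V)) :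
    act hq h V (act hq g V a) = act hq (g * h) V a := by
  show ((ρ g).hom.appLE _ _ _ ≫ (ρ h).hom.appLE _ _ _).hom a = _
  rw [Scheme.Hom.appLE_comp_appLE,
    appLE_congr' (SGA1Quot.mul_hom ρ g h).symm _ (SGA1.preimage_le_of_inv ρ q hq.inv (g * h) V)]
  rfl

theorem act_res (g : G) {V V' : Y.Opens} (h : V' ≤ V) (a : Γ(X, q ⁻¹ᵁ V)) :
    act hq g V' (PicLib.res (q.preimage_mono h) a) = PicLib.res (q.preimage_mono h) (act hq g V a) := by
  show (X.presheaf.map (homOfLE (q.preimage_mono h)).op ≫ (ρ g).hom.appLE _ _ _).hom a =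
    ((ρ g).hom.appLE _ _ _ ≫ X.presheaf.map (homOfLE (q.preimage_mono h)).op).hom a
  rw [Scheme.Hom.map_appLE, Scheme.Hom.appLE_map]

theorem mem_basicOpen_act (g : G) (V : Y.Opens) (a : Γ(X, q ⁻¹ᵁ V)) (x : X) (hx : q x ∈ V) :
    x ∈ X.basicOpen (act hq g V a) ↔ (ρ g).hom x ∈ X.basicOpen a := by
  show x ∈ X.basicOpen ((ρ g).hom.appLE _ _ _ a) ↔ _
  rw [Scheme.basicOpen_appLE]
  exact ⟨fun h => h.2, fun h => ⟨hx, h⟩⟩

variable [Fintype G]

theorem prod_mem_range (V : Y.Opens) (a : Γ(X, q ⁻¹ᵁ V)) :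
    ∏ g, act hq g V a ∈ Set.range (q.app V).hom := by
  refine (hq.range_iff V _).2 fun h => ?_
  show act hq h V (∏ g, act hq g V a) = _
  rw [map_prod]
  simp only [act_act]
  exact Fintype.prod_equiv (Equiv.mulRight h) _ (fun g => act hq g V a) fun g => rfl

/-- The norm from the preimage to the base. -/
noncomputable def nrm (V : Y.Opens) : Γ(X, q ⁻¹ᵁ V) →* Γ(Y, V) where
  toFun a := (prod_mem_range hq V a).choose
  map_one' := hq.injective V (((prod_mem_range hq V 1).choose_spec).trans (by simp))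
  map_mul' a b := hq.injective V (((prod_mem_range hq V (a * b)).choose_spec).trans (by
    rw [map_mul, (prod_mem_range hq V a).choose_spec, (prod_mem_range hq V b).choose_spec, ← Finset.prod_mul_distrib]
    simp only [map_mul]))

theorem app_nrm (V : Y.Opens) (a : Γ(X, q ⁻¹ᵁ V)) : q.app V (nrm hq V a) = ∏ g, act hq g V a :=
  (prod_mem_range hq V a).choose_spec

theorem nrm_res {V V' : Y.Opens} (h : V' ≤ V) (a : Γ(X, q ⁻¹ᵁ V)) :
    nrm hq V' (PicLib.res (q.preimage_mono h) a) = PicLib.res h (nrm hq V a) := by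
  refine hq.injective V' ?_
  rw [app_nrm]
  show _ = (Y.presheaf.map (homOfLE h).op ≫ q.app V').hom (nrm hq V a)
  rw [Scheme.Hom.naturality]
  show _ = PicLib.res (q.preimage_mono h) (q.app V (nrm hq V a))
  rw [app_nrm, map_prod]
  exact Finset.prod_congr rfl fun g _ => act_res hq g h a

theorem mem_basicOpen_nrm (V : Y.Opens) (a : Γ(X, q ⁻¹ᵁ V)) (x : X) (hx : q x ∈ V) :
    q x ∈ Y.basicOpen (nrm hq V a) ↔ ∀ g : G, (ρ g).hom x ∈ X.basicOpen a := by
  have h1 : q x ∈ Y.basicOpen (nrm hq V a) ↔ x ∈ X.basicOpen (q.app V (nrm hq V a)) := by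
    rw [← Scheme.preimage_basicOpen]; rfl
  rw [h1, app_nrm, Scheme.mem_basicOpen _ _ _ (show x ∈ q ⁻¹ᵁ V from hx), map_prod, IsUnit.prod_iff]
  refine ⟨fun h g => ?_, fun h g _ => ?_⟩
  · rw [← mem_basicOpen_act hq g V a x hx, Scheme.mem_basicOpen _ _ _ (show x ∈ q ⁻¹ᵁ V from hx)]
    exact h g (Finset.mem_univ g)
  · have := h g
    rw [← mem_basicOpen_act hq g V a x hx, Scheme.mem_basicOpen _ _ _ (show x ∈ q ⁻¹ᵁ V from hx)] at this
    exact this

end Norm

/-- The locus of a pulled back section, through its coefficient. -/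
theorem mem_glocus_pullSec {N : X.Modules} (hN : PicF.IsInvertible N) {W U : X.Opens} (c : Γ(N, W))
    {t : Γ(N, U)} (ht : IsGen N U t) (hle : (⊤ : W.toScheme.Opens) ≤ W.ι ⁻¹ᵁ W) (x : W.toScheme)
    (hxU : W.ι x ∈ U) :
    x ∈ glocus ((Scheme.Modules.pullback W.ι).obj N) (resM _ hle (pullSec W.ι c)) ↔
      W.ι x ∈ X.basicOpen (ht.coef (inf_le_right : W ⊓ U ≤ U) (resM N (inf_le_left : W ⊓ U ≤ W) c)) := by
  set r := ht.coef (inf_le_right : W ⊓ U ≤ U) (resM N (inf_le_left : W ⊓ U ≤ W) c) with hr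
  have hg := isGen_pullSec W.ι (ht.restrict (inf_le_right : W ⊓ U ≤ U)) hN
  have h1 := glocus_inf (resM _ hle (pullSec W.ι c)) hg
  have h2 : hg.coef le_rfl (resM _ le_top (resM _ hle (pullSec W.ι c))) = W.ι.app (W ⊓ U) r := by
    refine hg.coef_eq _ ?_
    rw [resM_self, ← pullSec_smul, hr, ht.coef_spec, resM_resM, ← resM_pullSec]
  rw [h2, ← Scheme.preimage_basicOpen] at h1
  exact ⟨fun h => (h1.le ⟨h, x.2, hxU⟩), fun h => (h1.ge h).1⟩

theorem coef_mul {N : X.Modules} {U : X.Opens} {t : Γ(N, U)} (ht : IsGen N U t) {V : X.Opens} (h : V ≤ U)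
    {x y : Γ(N, V)} (hy : IsGen N V y) :
    ht.coef h x = hy.coef le_rfl x * ht.coef h y := by
  refine ht.coef_eq _ ?_
  rw [mul_smul, ht.coef_spec]
  have := hy.coef_spec le_rfl x
  rwa [resM_self] at this

section Data

variable [Fintype G] (hq : SGA1.IsQuot ρ q) {L : X.Modules}

/-- An invertible module on the quotient with generators whose transitions are norms. -/
theorem exists_norm_module {ι : Type u} (V : ι → Y.Opens) (hV : iSup V = ⊤) (t : ∀ i, Γ(L, q ⁻¹ᵁ V i))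
    (ht : ∀ i, IsGen L (q ⁻¹ᵁ V i) (t i)) :
    ∃ (M : Y.Modules) (_ : PicF.IsInvertible M) (m : ∀ i, Γ(M, V i)), (∀ i, IsGen M (V i) (m i)) ∧
      ∀ i j (O : Y.Opens) (hi : O ≤ V i) (hj : O ≤ V j), resM M hi (m i) =
        nrm hq O ((ht j).coef (q.preimage_mono hj) (resM L (q.preimage_mono hi) (t i))) • resM M hj (m j) := by
  let η : ∀ i j, Γ(Y, V i ⊓ V j) := fun i j =>
    nrm hq _ ((ht j).coef (q.preimage_mono inf_le_right) (resM L (q.preimage_mono inf_le_left) (t i)))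
  have hη : ∀ i j (O : Y.Opens) (hi : O ≤ V i) (hj : O ≤ V j), PicLib.res (le_inf hi hj) (η i j) =
      nrm hq O ((ht j).coef (q.preimage_mono hj) (resM L (q.preimage_mono hi) (t i))) := by
    intro i j O hi hj
    rw [← nrm_res, ← IsGen.coef_res, resM_resM]
  have hcc : ∀ i j k (O : Y.Opens) (hi : O ≤ V i) (hj : O ≤ V j) (hk : O ≤ V k),
      PicLib.res (le_inf hi hk) (η i k) = PicLib.res (le_inf hi hj) (η i j) * PicLib.res (le_inf hj hk) (η j k) := by
    intro i j k O hi hj hk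
    rw [hη i k O hi hk, hη i j O hi hj, hη j k O hj hk, ← map_mul]
    refine congrArg _ ((ht k).coef_eq _ ?_)
    rw [mul_smul, (ht k).coef_spec, (ht j).coef_spec]
  have hu : ∀ i j, IsUnit (η i j) := by
    intro i j
    refine IsUnit.map _ (IsUnit.of_mul_eq_one
      ((ht i).coef (q.preimage_mono inf_le_left) (resM L (q.preimage_mono inf_le_right) (t j))) ?_)
    refine ((ht j).restrict (q.preimage_mono (inf_le_right : V i ⊓ V j ≤ V j)) _ le_rfl).1 ?_
    show _ • resM L le_rfl _ = (1 : Γ(X, _)) • resM L le_rfl _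
    rw [resM_self, one_smul, mul_comm, mul_smul, (ht j).coef_spec, (ht i).coef_spec]
  obtain ⟨a, M, hM, m, -, hm, hmη⟩ := TransClass.exists_trans hV η hu hcc
  exact ⟨M, hM, m, hm, fun i j O hi hj => by rw [TransClass.trans_res hmη i j hi hj, hη i j O hi hj]⟩

/-- The norm of a section of a power. -/
theorem exists_norm_section {ι : Type u} (V : ι → Y.Opens) (hV : iSup V = ⊤) (t : ∀ i, Γ(L, q ⁻¹ᵁ V i))
    (ht : ∀ i, IsGen L (q ⁻¹ᵁ V i) (t i)) {M : Y.Modules} (m : ∀ i, Γ(M, V i)) (hm : ∀ i, IsGen M (V i) (m i))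
    (hmη : ∀ i j (O : Y.Opens) (hi : O ≤ V i) (hj : O ≤ V j), resM M hi (m i) =
        nrm hq O ((ht j).coef (q.preimage_mono hj) (resM L (q.preimage_mono hi) (t i))) • resM M hj (m j))
    (n : ℕ) (O : Y.Opens) (c : Γ(CohB1.tensorPow L n, q ⁻¹ᵁ O)) :
    ∃ σ : Γ(CohB1.tensorPow M n, O), ∀ i,
      resM _ (inf_le_left : O ⊓ V i ≤ O) σ =
        nrm hq (O ⊓ V i) ((isGen_powSec (ht i) n).coef (q.preimage_mono inf_le_right)
          (resM _ (q.preimage_mono inf_le_left) c)) • resM _ inf_le_right (powSec (m i) n) := by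
  let d : ∀ i, Γ(CohB1.tensorPow M n, O ⊓ V i) := fun i =>
    nrm hq (O ⊓ V i) ((isGen_powSec (ht i) n).coef (q.preimage_mono inf_le_right)
      (resM _ (q.preimage_mono inf_le_left) c)) • resM _ inf_le_right (powSec (m i) n)
  obtain ⟨σ, hσ, -⟩ := TopCat.Sheaf.existsUnique_gluing'
    (⟨(CohB1.tensorPow M n).presheaf, (CohB1.tensorPow M n).isSheaf⟩ : TopCat.Sheaf Ab Y)
    (fun i => O ⊓ V i) O (fun i => homOfLE inf_le_left) (by
      intro y hy
      have : y ∈ iSup V := hV ▸ trivial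
      obtain ⟨i, hi⟩ := Opens.mem_iSup.1 this
      exact Opens.mem_iSup.2 ⟨i, hy, hi⟩) d (fun i j => by
      show resM _ inf_le_left (d i) = resM _ inf_le_right (d j)
      let T : Y.Opens := (O ⊓ V i) ⊓ (O ⊓ V j)
      have hi : T ≤ V i := inf_le_left.trans inf_le_right
      have hj : T ≤ V j := inf_le_right.trans inf_le_right
      simp only [d]
      rw [resM_smul, resM_smul, resM_resM, resM_resM, ← nrm_res, ← nrm_res, ← IsGen.coef_res, ← IsGen.coef_res,
        resM_resM, resM_resM, resM_powSec, resM_powSec, hmη i j T hi hj, powSec_smul, smul_smul]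
      refine congrArg (· • _) ?_
      rw [← map_pow, ← map_mul]
      refine congrArg _ ((isGen_powSec (ht j) n).coef_eq _ ?_).symm
      rw [mul_smul, resM_powSec, ← powSec_smul, (ht j).coef_spec, ← resM_powSec]
      exact (isGen_powSec (ht i) n).coef_spec _ _)
  exact ⟨σ, hσ⟩

end Data

/-- A relatively ample module descends to one on the quotient. -/
theorem exists_isRelAmple [Finite G] (hq : SGA1.IsQuot ρ q) {S : Scheme.{u}} (h : Y ⟶ S) [QuasiCompact h]
    [IsSeparated (q ≫ h)] (L : X.Modules) (hL : RelAmple.IsRelAmple (q ≫ h) L) :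
    ∃ M : Y.Modules, RelAmple.IsRelAmple h M := by
  classical
  cases nonempty_fintype G
  have hLi := isInvertible_of_isRelAmple _ hL
  rw [isRelAmple_iff] at hL
  haveI := hq.affine
  have horb : ∀ (x : X) (g : G), q ((ρ g).hom x) = q x := fun x g => by
    rw [← Scheme.Hom.comp_apply, hq.inv g]
  -- affine loci containing an orbit
  have hsec : ∀ (O : S.affineOpens) (x : X), q x ∈ h ⁻¹ᵁ O.1 → ∃ n, 0 < n ∧
      ∃ b : Γ(CohB1.tensorPow ((Scheme.Modules.pullback (q ⁻¹ᵁ (h ⁻¹ᵁ O.1)).ι).obj L) n, ⊤),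
        IsAffineOpen (glocus _ b) ∧
        ∀ z : (q ⁻¹ᵁ (h ⁻¹ᵁ O.1)).toScheme, (∃ g : G, (ρ g).hom x = z.1) → z ∈ glocus _ b := by
    intro O x hx
    let W := q ⁻¹ᵁ (h ⁻¹ᵁ O.1)
    have hA : CohB1.IsAmple ((Scheme.Modules.pullback W.ι).obj L) := hL.2 O
    obtain ⟨n, hn, b, hb, -, hba⟩ := exists_affine_glocus_finite (U := ⊤) hA
      {z : W.toScheme | z.1 ∈ Set.range fun g : G => (ρ g).hom x}
      ((Set.finite_range fun g : G => (ρ g).hom x).preimage Subtype.val_injective.injOn) fun _ _ => trivial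
    exact ⟨n, hn, b, hba, fun z hz => hb hz⟩
  -- orbit neighbourhoods with a generator
  have hchart : ∀ y : Y, ∃ (V : Y.Opens) (t : Γ(L, q ⁻¹ᵁ V)), y ∈ V ∧ IsGen L (q ⁻¹ᵁ V) t := by
    intro y
    obtain ⟨x, rfl⟩ := (SGA1Quot.surjective hq).surj y
    obtain ⟨O, hO, hxO, -⟩ := exists_isAffineOpen_mem_and_subset (x := h (q x)) (U := ⊤) trivial
    obtain ⟨n, -, b, hba, hb⟩ := hsec ⟨O, hO⟩ x hxO
    let W := q ⁻¹ᵁ (h ⁻¹ᵁ O)
    have hA := hba.image_of_isOpenImmersion W.ι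
    have horbW : ∀ g : G, (ρ g).hom x ∈ W := fun g => by
      show q ((ρ g).hom x) ∈ h ⁻¹ᵁ O
      rw [horb]; exact hxO
    have hsub : Set.range (fun g : G => (ρ g).hom x) ⊆ (W.ι ''ᵁ glocus _ b : X.Opens) := by
      rintro _ ⟨g, rfl⟩
      exact ⟨⟨_, horbW g⟩, hb _ ⟨g, rfl⟩, rfl⟩
    obtain ⟨U, hU, -, hUa, ⟨e⟩⟩ := exists_triv_of_finite hLi hA _ (Set.finite_range _) hsub
    obtain ⟨s, hs⟩ := exists_isGen_of_iso e
    obtain ⟨W', hW'a, hW's, hxW', hW'U⟩ :=
      SGA1Quot.exists_invariant_affine ρ x hUa fun g => hU ⟨g, rfl⟩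
    haveI := SGA1Quot.isIntegralHom hq
    let V : Y.Opens := ⟨(q '' (W' : Set X)ᶜ)ᶜ, (q.isClosedMap _ W'.isOpen.isClosed_compl).isOpen_compl⟩
    have hVW : q ⁻¹ᵁ V ≤ W' := fun z hz => by_contra fun h' => hz ⟨z, h', rfl⟩
    refine ⟨V, resM L (hVW.trans hW'U) s, ?_, hs.restrict _⟩
    rintro ⟨z, hz, hzx⟩
    obtain ⟨g, hg⟩ := (SGA1Quot.eq_iff hq z x).1 hzx
    exact hz ((SGA1Quot.mem_iff_of_stable ρ hW's g z).1 (hg ▸ hxW'))
  choose V t hyV ht using hchart
  have hV : iSup V = ⊤ := top_le_iff.1 fun y _ => Opens.mem_iSup.2 ⟨y, hyV y⟩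
  obtain ⟨M, hM, m, hm, hmη⟩ := exists_norm_module hq V hV t ht
  refine ⟨M, (isRelAmple_iff h).2 ⟨inferInstance, fun O => ?_⟩⟩
  let OY := h ⁻¹ᵁ O.1
  let W := q ⁻¹ᵁ OY
  haveI : CompactSpace OY.toScheme :=
    isCompact_iff_compactSpace.1 (QuasiCompact.isCompact_preimage (f := h) _ O.1.2 O.2.isCompact)
  refine isAmple_iff_affGlocus.2 ⟨PicLoc.isInvertible_pullback _ hM, inferInstance, fun y => ?_⟩
  obtain ⟨x, hx⟩ := (SGA1Quot.surjective hq).surj y.1
  have hxO : q x ∈ OY := hx.symm ▸ y.2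
  obtain ⟨n, hn, b, hba, hb⟩ := hsec O x hxO
  obtain ⟨e, -⟩ := exists_pullPowIso W.ι hLi n
  have hLn := isInvertible_tensorPow hLi n
  have hbij := (bijective_pullSec_opensRange W.ι hLn W (Scheme.Opens.opensRange_ι W).ge).2
    (resM _ (le_top : W.ι ⁻¹ᵁ W ≤ ⊤) (e.inv.app ⊤ b))
  obtain ⟨c, hc⟩ := hbij
  obtain ⟨σ, hσ⟩ := exists_norm_section hq V hV t ht m hm hmη n OY c
  have hleW : (⊤ : W.toScheme.Opens) ≤ W.ι ⁻¹ᵁ W := fun z _ => z.2
  have hleY : (⊤ : OY.toScheme.Opens) ≤ OY.ι ⁻¹ᵁ OY := fun z _ => z.2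
  have hcb : resM _ hleW (pullSec W.ι c) = e.inv.app ⊤ b := by rw [hc, resM_resM, resM_self]
  have hbc : glocus _ (resM _ hleW (pullSec W.ι c)) = glocus _ b := by
    rw [hcb]; exact glocus_map_iso e.symm b
  obtain ⟨e', -⟩ := exists_pullPowIso OY.ι hM n
  let B := glocus _ (resM _ hleY (pullSec OY.ι σ))
  refine ⟨n, hn, e'.hom.app ⊤ (resM _ hleY (pullSec OY.ι σ)), ?_⟩
  rw [glocus_map_iso]
  -- the locus upstairs
  have key : ∀ (z : W.toScheme) (w : OY.toScheme), q z.1 = w.1 →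
      (w ∈ B ↔ ∀ (g : G) (z' : W.toScheme), (ρ g).hom z.1 = z'.1 → z' ∈ glocus _ b) := by
    intro z w hzw
    let i := w.1
    have hi : q z.1 ∈ OY ⊓ V i := ⟨z.2, hzw.symm ▸ hyV i⟩
    have hd : (isGen_powSec (hm i) n).coef (inf_le_right : OY ⊓ V i ≤ V i) (resM _ inf_le_left σ) =
        nrm hq (OY ⊓ V i) ((isGen_powSec (ht i) n).coef (q.preimage_mono inf_le_right)
          (resM _ (q.preimage_mono inf_le_left) c)) := IsGen.coef_eq _ _ (hσ i).symm
    refine (mem_glocus_pullSec (isInvertible_tensorPow hM n) σ (isGen_powSec (hm i) n) hleY w (hyV i)).trans ?_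
    rw [hd]
    show w.1 ∈ Y.basicOpen _ ↔ _
    rw [← hzw, mem_basicOpen_nrm hq _ _ _ hi]
    refine forall_congr' fun g => ⟨fun hg z' hz' => ?_, fun hg => ?_⟩
    · rw [← hbc, mem_glocus_pullSec hLn c (isGen_powSec (ht i) n) hleW z' (by
        show q z'.1 ∈ V i
        rw [← hz', horb]; exact hi.2)]
      show z'.1 ∈ _
      rw [← hz']
      exact hg
    · let z' : W.toScheme := ⟨(ρ g).hom z.1, show q ((ρ g).hom z.1) ∈ OY from (horb z.1 g).symm ▸ z.2⟩
      have := hg z' rfl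
      rw [← hbc, mem_glocus_pullSec hLn c (isGen_powSec (ht i) n) hleW z' (by
        show q ((ρ g).hom z.1) ∈ V i
        rw [horb]; exact hi.2)] at this
      exact this
  refine ⟨(key ⟨x, hxO⟩ y hx).2 fun g z' hz' => hb z' ⟨g, hz'⟩, le_top, ?_⟩
  -- affineness through the preimage
  have hAff : IsAffineOpen (q ⁻¹ᵁ (OY.ι ''ᵁ B)) := by
    haveI : IsAffine O.1.toScheme := O.2
    haveI : IsSeparated ((q ≫ h) ∣_ O.1) := IsZariskiLocalAtTarget.restrict (P := @IsSeparated) ‹IsSeparated (q ≫ h)› O.1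
    haveI : W.toScheme.IsSeparated := ⟨by
      have : IsSeparated (((q ≫ h) ∣_ O.1) ≫ terminal.from O.1.toScheme) := inferInstance
      rwa [terminal.comp_from] at this⟩
    let A := W.ι ''ᵁ glocus _ b
    have hA : IsAffineOpen A := hba.image_of_isOpenImmersion W.ι
    have hAW : A ≤ W := by rintro _ ⟨z, -, rfl⟩; exact z.2
    have hTg : ∀ g : G, IsAffineOpen (W.ι ⁻¹ᵁ ((ρ g).hom ⁻¹ᵁ A)) := fun g =>
      (hA.preimage_of_isIso (ρ g).hom).preimage_of_isOpenImmersion W.ι (by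
        rw [Scheme.Opens.opensRange_ι]
        intro z hz
        show q z ∈ OY
        rw [← horb z g]
        exact hAW hz)
    have hfin : ∀ s : Finset G, s.Nonempty → ∃ T : W.toScheme.Opens, IsAffineOpen T ∧
        ∀ z, z ∈ T ↔ ∀ g ∈ s, (ρ g).hom (W.ι z) ∈ A := by
      intro s hs
      induction hs using Finset.Nonempty.cons_induction with
      | singleton a => exact ⟨_, hTg a, fun z => by simp only [Finset.mem_singleton, forall_eq]; rfl⟩
      | cons a s ha hs ih =>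
        obtain ⟨T, hT, hTm⟩ := ih
        refine ⟨_, (hTg a).inf hT, fun z => ?_⟩
        rw [Finset.forall_mem_cons]
        exact and_congr Iff.rfl (hTm z)
    obtain ⟨T, hT, hTm⟩ := hfin Finset.univ Finset.univ_nonempty
    convert hT.image_of_isOpenImmersion W.ι using 1
    refine Opens.ext (Set.ext fun z => ⟨?_, ?_⟩)
    · rintro ⟨w, hw, hwz⟩
      have hzW : z ∈ W := show q z ∈ OY from (show OY.ι w = q z from hwz) ▸ w.2
      refine ⟨⟨z, hzW⟩, (hTm _).2 fun g _ => ?_, rfl⟩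
      let z' : W.toScheme := ⟨(ρ g).hom z, show q ((ρ g).hom z) ∈ OY from (horb z g).symm ▸ hzW⟩
      exact ⟨z', (key ⟨z, hzW⟩ w hwz.symm).1 hw g z' rfl, rfl⟩
    · rintro ⟨z, hz, rfl⟩
      refine ⟨⟨q z.1, z.2⟩, (key z ⟨q z.1, z.2⟩ rfl).2 fun g z' hz' => ?_, rfl⟩
      obtain ⟨w, hw, hwe⟩ := (hTm z).1 hz g (Finset.mem_univ g)
      have : w = z' := Subtype.ext (hwe.trans hz')
      exact this ▸ hw
  exact (Scheme.Hom.isAffineOpen_iff_of_isOpenImmersion OY.ι).1 (SGA1Quot.isAffineOpen_of_preimage hq hAff)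

/-- Quotient of a quasi-projective scheme by a finite group. -/
theorem exists_quotient {S : Scheme.{u}} (f : X ⟶ S) [IsNoetherian S] [Finite G] (ρ : G →* Aut X)
    (hρ : ∀ g : G, (ρ g).hom ≫ f = f) (hf : RelProj.IsQuasiProjective f) :
    ∃ (Y : Scheme.{u}) (q : X ⟶ Y) (h : Y ⟶ S), q ≫ h = f ∧ SGA1.IsQuot ρ q ∧
      RelProj.IsQuasiProjective h ∧ IsSeparated h := by
  obtain ⟨hlft, hqc, L, hL⟩ := hf
  haveI : IsSeparated f := MorProj.isSeparated_of_isRelAmple f L hL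
  have hL' := (isRelAmple_iff f).1 hL
  have haff : ∀ x : X, ∃ U : X.Opens, IsAffineOpen U ∧ ∀ g : G, (ρ g).hom x ∈ U := by
    intro x
    obtain ⟨O, hO, hxO, -⟩ := exists_isAffineOpen_mem_and_subset (x := f x) (U := ⊤) trivial
    have horb : ∀ g : G, (ρ g).hom x ∈ f ⁻¹ᵁ O := fun g => by
      show f ((ρ g).hom x) ∈ O
      rw [← Scheme.Hom.comp_apply, hρ]; exact hxO
    obtain ⟨n, -, b, hb, -, hba⟩ := exists_affine_glocus_finite (U := ⊤) (hL'.2 ⟨O, hO⟩)
      (Set.range fun g : G => (⟨(ρ g).hom x, horb g⟩ : (f ⁻¹ᵁ O).toScheme)) (Set.finite_range _)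
      fun _ _ => trivial
    exact ⟨_, hba.image_of_isOpenImmersion (f ⁻¹ᵁ O).ι, fun g => ⟨_, hb ⟨g, rfl⟩, rfl⟩⟩
  let q := SGA1Quot.quotMap ρ haff
  have hq : SGA1.IsQuot ρ q := SGA1Quot.isQuot_quotMap ρ haff
  obtain ⟨h, hqh⟩ := SGA1Quot.exists_factor (SGA1Quot.isQuotientMap hq) hq.injective f
    (fun x x' e => by
      obtain ⟨g, rfl⟩ := (SGA1Quot.eq_iff hq x x').1 e
      rw [← Scheme.Hom.comp_apply, hρ])
    (fun W V e a => by
      refine (hq.range_iff V _).2 fun g => ?_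
      show (f.appLE W (q ⁻¹ᵁ V) e ≫ (ρ g).hom.appLE _ _ _).hom a = _
      rw [Scheme.Hom.appLE_comp_appLE, appLE_congr' (hρ g) _ e])
  haveI : LocallyOfFiniteType (q ≫ h) := by rw [hqh]; exact hlft
  haveI : LocallyOfFiniteType h := SGA1Quot.locallyOfFiniteType_of_comp' hq h
  haveI : Surjective q := SGA1Quot.surjective hq
  haveI : QuasiCompact (q ≫ h) := by rw [hqh]; exact hqc
  haveI : QuasiCompact h := by
    rw [quasiCompact_iff]
    intro U hU hU'
    have h1 := (QuasiCompact.isCompact_preimage (f := q ≫ h) U hU hU').image q.continuous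
    rwa [show ⇑(q ≫ h) = h ∘ q from funext fun z => Scheme.Hom.comp_apply q h z, Set.preimage_comp,
      Set.image_preimage_eq _ (SGA1Quot.surjective hq).surj] at h1
  haveI : IsSeparated (q ≫ h) := by rw [hqh]; infer_instance
  haveI : IsSeparated h := SGA1Quot.isSeparated_of_comp hq h
  obtain ⟨M, hM⟩ := exists_isRelAmple hq h L (hqh.symm ▸ hL)
  exact ⟨_, q, h, hqh, hq, ⟨inferInstance, inferInstance, M, hM⟩, inferInstance⟩

end Groth.Agent.CAlgH3.QuotAmple
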