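import Groth.Agent.CAlgH3.ArtinFlat
import Mathlib.RingTheory.Regular.RegularSequence

/-! Regular elements and sequences on flat modules over Artinian local rings, modulo an ideal. -/

universe u v w

namespace Groth.Agent.CAlgH3

open IsLocalRing RingTheory.Sequence
open scoped Pointwise

variable {A : Type u} [CommRing A] [IsLocalRing A] [IsArtinianRing A]
variable {S : Type v} [CommRing S] [Algebra A S] {M : Type v} [AddCommGroup M] [Module A M]
  [Module S M] [IsScalarTower A S M]

omit [IsLocalRing A] [IsArtinianRing A] in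
lemma mem_map_smul_top_iff (I : Ideal A) (x : M) :
    x ∈ (I.map (algebraMap A S) • ⊤ : Submodule S M) ↔ x ∈ (I • ⊤ : Submodule A M) := by
  rw [← Submodule.restrictScalars_mem A, Ideal.smul_restrictScalars, Submodule.restrictScalars_top]

theorem regular_iff_regular_mod [Module.Flat A M] {I : Ideal A} (hI : I ≠ ⊤) (f : S) :
    (IsSMulRegular M f ↔ IsSMulRegular (M ⧸ (I.map (algebraMap A S) • ⊤ : Submodule S M)) f) ∧
      (IsSMulRegular M f → Module.Flat A (QuotSMulTop f M)) := by
  let u : M →ₗ[A] M := (DistribSMul.toLinearMap A M f)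
  have hu : ∀ z, u z = f • z := fun z => rfl
  have key : ∀ {J : Ideal A}, J ≠ ⊤ → (IsSMulRegular (M ⧸ (J.map (algebraMap A S) • ⊤ : Submodule S M)) f ↔
      ∀ z, u z ∈ (J • ⊤ : Submodule A M) → z ∈ (J • ⊤ : Submodule A M)) := by
    intro J _
    rw [isSMulRegular_quotient_iff_mem_of_smul_mem]
    simp only [mem_map_smul_top_iff, hu]
  have hbot : IsSMulRegular M f ↔ ∀ z, u z ∈ ((⊥ : Ideal A) • ⊤ : Submodule A M) → z ∈ ((⊥ : Ideal A) • ⊤ : Submodule A M) := by
    simp only [Submodule.bot_smul, Submodule.mem_bot, hu, isSMulRegular_iff_right_eq_zero_of_smul]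
  refine ⟨⟨fun h => ?_, fun h => ?_⟩, fun h => ?_⟩
  · rw [key hI]
    exact (of_injMod_max u (injMod_max_of_injMod u bot_ne_top (hbot.1 h))).2.2 I
  · rw [key hI] at h
    exact hbot.2 ((of_injMod_max u (injMod_max_of_injMod u hI h)).2.2 ⊥)
  · obtain ⟨-, hfree, -⟩ := of_injMod_max u (injMod_max_of_injMod u bot_ne_top (hbot.1 h))
    have hr : (f • (⊤ : Submodule S M)).restrictScalars A = LinearMap.range u := by
      ext x
      simp [Submodule.mem_smul_pointwise_iff_exists, hu]
    exact Module.Flat.of_linearEquiv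
      ((Submodule.Quotient.restrictScalarsEquiv A (f • (⊤ : Submodule S M))).symm.restrictScalars A ≪≫ₗ
        Submodule.quotEquivOfEq _ _ hr)

theorem weaklyRegular_iff_mod {I : Ideal A} (hI : I ≠ ⊤) :
    ∀ (fs : List S) (M : Type v) [AddCommGroup M] [Module A M] [Module S M] [IsScalarTower A S M]
      [Module.Flat A M],
      IsWeaklyRegular M fs ↔ IsWeaklyRegular (M ⧸ (I.map (algebraMap A S) • ⊤ : Submodule S M)) fs := by
  intro fs
  induction fs with
  | nil => intro M _ _ _ _ _; simp
  | cons f fs ih =>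
    intro M _ _ _ _ _
    obtain ⟨h1, h2⟩ := regular_iff_regular_mod (M := M) hI f
    rw [isWeaklyRegular_cons_iff, isWeaklyRegular_cons_iff, ← h1]
    refine and_congr_right fun hreg => ?_
    have := h2 hreg
    rw [ih (QuotSMulTop f M)]
    set K : Submodule S M := I.map (algebraMap A S) • ⊤
    refine LinearEquiv.isWeaklyRegular_congr ?_ fs
    have e1 : (I.map (algebraMap A S) • ⊤ : Submodule S (QuotSMulTop f M)) = K.map (f • (⊤ : Submodule S M)).mkQ := by
      rw [Submodule.map_smul'', Submodule.map_top, Submodule.range_mkQ]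
    have e2 : (f • ⊤ : Submodule S (M ⧸ K)) = (f • (⊤ : Submodule S M)).map K.mkQ := by
      rw [Submodule.map_pointwise_smul, Submodule.map_top, Submodule.range_mkQ]
    exact Submodule.quotEquivOfEq _ _ e1 ≪≫ₗ Submodule.quotientQuotientEquivQuotientSup _ K ≪≫ₗ
      Submodule.quotEquivOfEq _ _ (sup_comm _ _) ≪≫ₗ (Submodule.quotientQuotientEquivQuotientSup K _).symm ≪≫ₗ
      (Submodule.quotEquivOfEq _ _ e2).symm

theorem flat_quotient_of_weaklyRegular :
    ∀ (fs : List S) (M : Type v) [AddCommGroup M] [Module A M] [Module S M] [IsScalarTower A S M]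
      [Module.Flat A M], IsWeaklyRegular M fs →
      Module.Flat A (M ⧸ (Ideal.ofList fs • ⊤ : Submodule S M)) := by
  intro fs
  induction fs with
  | nil =>
    intro M _ _ _ _ _ _
    exact Module.Flat.of_linearEquiv
      ((Submodule.quotEquivOfEqBot _ (by simp)).restrictScalars A)
  | cons f fs ih =>
    intro M _ _ _ _ _ h
    rw [isWeaklyRegular_cons_iff] at h
    have := (regular_iff_regular_mod (M := M) (I := (⊥ : Ideal A)) bot_ne_top f).2 h.1
    have := ih _ h.2
    exact Module.Flat.of_linearEquiv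
      ((Submodule.quotOfListConsSMulTopEquivQuotSMulTopInner M f fs).restrictScalars A)

theorem span_eq_top_iff_map {I : Ideal A} (hI : I ≠ ⊤) (J : Ideal S) :
    J = ⊤ ↔ J.map (Ideal.Quotient.mk (I.map (algebraMap A S))) = ⊤ := by
  refine ⟨fun h => by rw [h, Ideal.map_top], fun h => ?_⟩
  obtain ⟨n, hn⟩ := IsArtinianRing.isNilpotent_jacobson_bot (R := A)
  rw [IsLocalRing.jacobson_eq_maximalIdeal ⊥ bot_ne_top] at hn
  have h' : J ⊔ I.map (algebraMap A S) = ⊤ := by
    rw [← Ideal.comap_top (f := Ideal.Quotient.mk (I.map (algebraMap A S))), ← h,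
      Ideal.comap_map_of_surjective _ Ideal.Quotient.mk_surjective, ← RingHom.ker_eq_comap_bot, Ideal.mk_ker]
  have hnil : (I.map (algebraMap A S)) ^ n = ⊥ := by
    rw [← Ideal.map_pow, eq_bot_iff]
    refine (Ideal.map_mono ((Ideal.pow_right_mono (le_maximalIdeal hI) n).trans hn.le)).trans ?_
    simp
  have := Ideal.sup_pow_eq_top (n := n) h'
  rwa [hnil, sup_bot_eq] at this

end Groth.Agent.CAlgH3
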