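import Groth.Agent.Coherent.CohFinite
import Groth.Agent.Coherent.Affineness
import Groth.Agent.Coherent.QcohOps
import Groth.Agent.SerreDual.Curve

/-!
# Vanishing of cohomology along short exact sequences and left resolutions of modules on a scheme
-/

set_option autoImplicit false
set_option linter.unusedSectionVars false
set_option backward.isDefEq.respectTransparency.types false
universe u

open CategoryTheory CategoryTheory.Limits AlgebraicGeometry TopologicalSpace Opposite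
open Groth.Agent.Coherent

namespace Groth.Agent.CAlgH3.ModCohSeq

variable {X : Scheme.{u}}

/-- The vanishing of `H^q(X, M)`. -/
def V (M : X.Modules) (q : ℕ) : Prop := Subsingleton (Coh.HH X M q)

theorem V_iff_HMod (M : X.Modules) (q : ℕ) : V M q ↔ Subsingleton (HMod M (⊤ : X.Opens) q) :=
  ⟨fun h => @Equiv.subsingleton _ _ (HHTopAdd M q).symm.toEquiv h,
    fun h => @Equiv.subsingleton _ _ (HHTopAdd M q).toEquiv h⟩

theorem V_of_iso {M N : X.Modules} (e : M ≅ N) {q : ℕ} (h : V M q) : V N q :=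
  (V_iff_HMod N q).2 (subsingleton_H'_of_iso e q ⊤ ((V_iff_HMod M q).1 h))

theorem V_of_isIso {M N : X.Modules} (φ : M ⟶ N) [IsIso φ] {q : ℕ} (h : V M q) : V N q :=
  V_of_iso (asIso φ) h

theorem V_of_isIso' {M N : X.Modules} (φ : M ⟶ N) [IsIso φ] {q : ℕ} (h : V N q) : V M q :=
  V_of_iso (asIso φ).symm h

variable {S : ShortComplex X.Modules} (hS : S.ShortExact) {q : ℕ}

local notation "φ₀" => RingHom.id _

include hS

theorem V_mid (h₁ : V S.X₁ q) (h₃ : V S.X₃ q) : V S.X₂ q :=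
  (V_iff_HMod _ q).2 (subsingleton_H'_X₂ hS q ⊤ ((V_iff_HMod _ q).1 h₁) ((V_iff_HMod _ q).1 h₃))

theorem V_right (h₂ : V S.X₂ q) (h₁ : V S.X₁ (q + 1)) : V S.X₃ q := by
  have a₂ : Subsingleton (HA φ₀ S.X₂ (⊤ : X.Opens) q) := (V_iff_HMod _ q).1 h₂
  have a₁ : Subsingleton (HA φ₀ S.X₁ (⊤ : X.Opens) (q + 1)) := (V_iff_HMod _ (q + 1)).1 h₁
  refine (V_iff_HMod _ q).2 ?_
  show Subsingleton (HA φ₀ S.X₃ (⊤ : X.Opens) q)
  refine subsingleton_of_forall_eq 0 fun x => ?_
  obtain ⟨y, rfl⟩ := (exact_postA_deltaA φ₀ hS ⊤ q x).1 (a₁.elim _ _)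
  rw [a₂.elim y 0, map_zero]

theorem V_left (h₃ : V S.X₃ q) (h₂ : V S.X₂ (q + 1)) : V S.X₁ (q + 1) := by
  have a₃ : Subsingleton (HA φ₀ S.X₃ (⊤ : X.Opens) q) := (V_iff_HMod _ q).1 h₃
  have a₂ : Subsingleton (HA φ₀ S.X₂ (⊤ : X.Opens) (q + 1)) := (V_iff_HMod _ (q + 1)).1 h₂
  refine (V_iff_HMod _ (q + 1)).2 ?_
  show Subsingleton (HA φ₀ S.X₁ (⊤ : X.Opens) (q + 1))
  refine subsingleton_of_forall_eq 0 fun x => ?_
  obtain ⟨y, rfl⟩ := (exact_deltaA_postA φ₀ hS ⊤ q x).1 (a₂.elim _ _)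
  rw [a₃.elim y 0, map_zero]

theorem surjective_top (h₁ : V S.X₁ 1) : Function.Surjective (S.g.app (⊤ : X.Opens)) :=
  sections_top_surjective_of_subsingleton hS ((V_iff_HMod _ 1).1 h₁)

theorem V_one_of_surjective (hg : Function.Surjective (S.g.app (⊤ : X.Opens))) (h₂ : V S.X₂ 1) :
    V S.X₁ 1 := by
  have a₂ : Subsingleton (HA φ₀ S.X₂ (⊤ : X.Opens) 1) := (V_iff_HMod _ 1).1 h₂
  refine (V_iff_HMod _ 1).2 ?_
  show Subsingleton (HA φ₀ S.X₁ (⊤ : X.Opens) 1)
  refine subsingleton_of_forall_eq 0 fun x => ?_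
  obtain ⟨y, rfl⟩ := (exact_deltaA_postA φ₀ hS ⊤ 0 x).1 (a₂.elim _ _)
  obtain ⟨a, ha⟩ := hg (secH (X := X.toTopCat) (Coh.toAb S.X₃) (⊤ : X.Opens) y)
  obtain ⟨b, hb⟩ := (secH (X := X.toTopCat) (Coh.toAb S.X₂) (⊤ : X.Opens)).surjective a
  have hy : postA φ₀ S.g (⊤ : X.Opens) 0 b = y := by
    refine (secH (X := X.toTopCat) (Coh.toAb S.X₃) (⊤ : X.Opens)).injective ?_
    refine (secH_postH (X := X.toTopCat) (F := Coh.toAb S.X₂) (G := Coh.toAb S.X₃)
      ((toAbFunctor X).map S.g) (⊤ : X.Opens) b).trans ?_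
    rw [hb]
    exact ha
  exact (exact_postA_deltaA φ₀ hS ⊤ 0 y).2 ⟨b, hy⟩

omit hS

/-! ### Left resolutions -/

variable (D : ℕ → X.Modules) (f : ∀ p, D (p + 1) ⟶ D p) (w : ∀ p, f (p + 1) ≫ f p = 0)
  (hex : ∀ p, (ShortComplex.mk (f (p + 1)) (f p) (w p)).Exact) (hq : ∀ p, Coh.IsQCoh (D p))
  (N : ℕ) (hN : ∀ (M : X.Modules), Coh.IsQCoh M → ∀ i, N < i → V M i)

include hex in
theorem sesKer (p : ℕ) : ∃ (w' : kernel.ι (f (p + 1)) ≫ kernel.lift (f p) (f (p + 1)) (w p) = 0),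
    (ShortComplex.mk (kernel.ι (f (p + 1))) (kernel.lift (f p) (f (p + 1)) (w p)) w').ShortExact := by
  have w' : kernel.ι (f (p + 1)) ≫ kernel.lift (f p) (f (p + 1)) (w p) = 0 := by
    rw [← cancel_mono (kernel.ι (f p)), Category.assoc, kernel.lift_ι, zero_comp, kernel.condition]
  refine ⟨w', ?_⟩
  have he : Epi (kernel.lift (f p) (f (p + 1)) (w p)) :=
    (ShortComplex.exact_iff_epi_kernel_lift _).1 (hex p)
  refine { exact := ?_, mono_f := inferInstanceAs (Mono (kernel.ι _)), epi_g := he }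
  refine ShortComplex.exact_of_f_is_kernel _ ?_
  exact KernelFork.IsLimit.ofι' _ _ fun {Z} k hk =>
    ⟨kernel.lift (f (p + 1)) k (by
      rw [← kernel.lift_ι (f p) (f (p + 1)) (w p), reassoc_of% hk, zero_comp]), kernel.lift_ι _ _ _⟩

include hex hq hN in
theorem V_kernel : ∀ (m p i : ℕ), N < m + i → (∀ q, V (D (p + 2 + q)) (i + q)) → V (kernel (f p)) i := by
  intro m
  induction m with
  | zero =>
    intro p i hi _
    have := hq p; have := hq (p + 1)
    exact hN _ (isQCoh_kernel (f p)) i (by omega)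
  | succ m ih =>
    intro p i hi h
    obtain ⟨w', hS⟩ := sesKer D f w hex p
    refine V_right hS (h 0) (ih (p + 1) (i + 1) (by omega) fun q => ?_)
    have := h (q + 1)
    rwa [show p + 1 + 2 + q = p + 2 + (q + 1) by omega, show i + 1 + q = i + (q + 1) by omega]

theorem sesEpi [Epi (f 0)] : (ShortComplex.mk (kernel.ι (f 0)) (f 0) (kernel.condition _)).ShortExact :=
  { exact := ShortComplex.exact_of_f_is_kernel _ (kernelIsKernel (f 0))
    mono_f := inferInstanceAs (Mono (kernel.ι _))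
    epi_g := inferInstanceAs (Epi (f 0)) }

include hex hq hN in
/-- Vanishing for the module resolved. -/
theorem V_resolved [Epi (f 0)] (i : ℕ) (h : ∀ q, V (D (q + 1)) (i + q)) : V (D 0) i := by
  refine V_right (sesEpi D f) (h 0) (V_kernel D f w hex hq N hN (N + 1) 0 (i + 1) (by omega) fun q => ?_)
  have := h (q + 1)
  rwa [show 0 + 2 + q = q + 1 + 1 by omega, show i + 1 + q = i + (q + 1) by omega]

include hex hq hN in
/-- Surjectivity on global sections. -/
theorem surjective_resolved [Epi (f 0)] (h : ∀ q, V (D (q + 2)) (q + 1)) :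
    Function.Surjective ((f 0).app (⊤ : X.Opens)) :=
  surjective_top (sesEpi D f) (V_kernel D f w hex hq N hN (N + 1) 0 1 (by omega) fun q => by
    rw [show 0 + 2 + q = q + 2 by omega, add_comm 1 q]; exact h q)

end Groth.Agent.CAlgH3.ModCohSeq
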