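import Groth.Agent.LocCoh.Local
import Groth.Agent.LocCoh.Depth
import Mathlib

/-!
Linear dimension shifting for `Ext` of modules: the covariant shift along an acyclic middle term,
and the contravariant shift along a regular sequence.
-/

set_option autoImplicit false

universe u

open CategoryTheory Abelian
open scoped Pointwise

namespace Groth.Agent.CAlgH3.ExtShift

variable {S : Type u} [CommRing S]

section congr

variable {N N' M M' : Type u} [AddCommGroup N] [Module S N] [AddCommGroup N'] [Module S N']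
  [AddCommGroup M] [Module S M] [AddCommGroup M'] [Module S M']

/-- Transport along an isomorphism in the first argument. -/
noncomputable def congrLeft (e : N ≃ₗ[S] N') (k : ℕ) :
    Ext (ModuleCat.of S N) (ModuleCat.of S M) k ≃ₗ[S] Ext (ModuleCat.of S N') (ModuleCat.of S M) k :=
  LinearEquiv.ofBijective
    ((Ext.mk₀ e.toModuleIso.inv).precompOfLinear S (ModuleCat.of S M) (zero_add k))
    (Function.bijective_iff_has_inverse.2
      ⟨fun y => (Ext.mk₀ e.toModuleIso.hom).comp y (zero_add k),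
        fun x => by
          show (Ext.mk₀ e.toModuleIso.hom).comp ((Ext.mk₀ e.toModuleIso.inv).comp x (zero_add k)) (zero_add k) = x
          rw [Ext.mk₀_comp_mk₀_assoc, Iso.hom_inv_id, Ext.mk₀_id_comp],
        fun y => by
          show (Ext.mk₀ e.toModuleIso.inv).comp ((Ext.mk₀ e.toModuleIso.hom).comp y (zero_add k)) (zero_add k) = y
          rw [Ext.mk₀_comp_mk₀_assoc, Iso.inv_hom_id, Ext.mk₀_id_comp]⟩)

/-- Transport along an isomorphism in the second argument. -/
noncomputable def congrRight (e : M ≃ₗ[S] M') (k : ℕ) :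
    Ext (ModuleCat.of S N) (ModuleCat.of S M) k ≃ₗ[S] Ext (ModuleCat.of S N) (ModuleCat.of S M') k :=
  LinearEquiv.ofBijective
    ((Ext.mk₀ e.toModuleIso.hom).postcompOfLinear S (ModuleCat.of S N) (add_zero k))
    (Function.bijective_iff_has_inverse.2
      ⟨fun y => y.comp (Ext.mk₀ e.toModuleIso.inv) (add_zero k),
        fun x => by
          show (x.comp (Ext.mk₀ e.toModuleIso.hom) (add_zero k)).comp (Ext.mk₀ e.toModuleIso.inv) (add_zero k) = x
          rw [Ext.comp_assoc_of_second_deg_zero, Ext.mk₀_comp_mk₀, Iso.hom_inv_id, Ext.comp_mk₀_id],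
        fun y => by
          show (y.comp (Ext.mk₀ e.toModuleIso.inv) (add_zero k)).comp (Ext.mk₀ e.toModuleIso.hom) (add_zero k) = y
          rw [Ext.comp_assoc_of_second_deg_zero, Ext.mk₀_comp_mk₀, Iso.inv_hom_id, Ext.comp_mk₀_id]⟩)

end congr

section covariant

/-- Postcomposition, as a linear map. -/
def homPost (N : Type u) [AddCommGroup N] [Module S N] {X Y : Type u} [AddCommGroup X] [Module S X]
    [AddCommGroup Y] [Module S Y] (g : X →ₗ[S] Y) : (N →ₗ[S] X) →ₗ[S] (N →ₗ[S] Y) where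
  toFun φ := g.comp φ
  map_add' φ ψ := LinearMap.comp_add φ ψ g
  map_smul' r φ := LinearMap.comp_smul g r φ

variable (N : Type u) [AddCommGroup N] [Module S N]
variable {Z X Z' : Type u} [AddCommGroup Z] [Module S Z] [AddCommGroup X] [Module S X]
  [AddCommGroup Z'] [Module S Z'] {f : Z →ₗ[S] X} {g : X →ₗ[S] Z'}

theorem nonempty_shift (hf : Function.Injective f) (hg : Function.Surjective g)
    (hfg : Function.Exact f g) (k : ℕ)
    [Subsingleton (Ext (ModuleCat.of S N) (ModuleCat.of S X) (k + 1))]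
    [Subsingleton (Ext (ModuleCat.of S N) (ModuleCat.of S X) (k + 2))] :
    Nonempty (Ext (ModuleCat.of S N) (ModuleCat.of S Z') (k + 1) ≃ₗ[S]
      Ext (ModuleCat.of S N) (ModuleCat.of S Z) (k + 2)) := by
  have hS := LocCoh.shortExact_of hf hg hfg
  refine ⟨LinearEquiv.ofBijective
    (hS.extClass.postcompOfLinear S (ModuleCat.of S N) (show k + 1 + 1 = k + 2 from rfl)) ⟨?_, ?_⟩⟩
  · refine (injective_iff_map_eq_zero _).2 fun x hx => ?_
    obtain ⟨y, rfl⟩ := Ext.covariant_sequence_exact₃ (ModuleCat.of S N) hS x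
      (show k + 1 + 1 = k + 2 from rfl) hx
    rw [show y = 0 from Subsingleton.elim (α := Ext (ModuleCat.of S N) (ModuleCat.of S X) (k + 1)) y 0,
      Ext.zero_comp]
  · intro x
    obtain ⟨y, hy⟩ := Ext.covariant_sequence_exact₁ (ModuleCat.of S N) hS x
      (Subsingleton.elim (α := Ext (ModuleCat.of S N) (ModuleCat.of S X) (k + 2)) _ _)
      (show k + 1 + 1 = k + 2 from rfl)
    exact ⟨y, hy⟩

theorem nonempty_one (hf : Function.Injective f) (hg : Function.Surjective g)
    (hfg : Function.Exact f g)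
    [Subsingleton (Ext (ModuleCat.of S N) (ModuleCat.of S X) 1)] :
    Nonempty (((N →ₗ[S] Z') ⧸ LinearMap.range (homPost N g)) ≃ₗ[S]
      Ext (ModuleCat.of S N) (ModuleCat.of S Z) 1) := by
  have hS := LocCoh.shortExact_of hf hg hfg
  let e : (N →ₗ[S] Z') ≃ₗ[S] Ext (ModuleCat.of S N) (ModuleCat.of S Z') 0 :=
    (ModuleCat.homLinearEquiv (S := S) (M := ModuleCat.of S N) (N := ModuleCat.of S Z')).symm.trans
      (Ext.linearEquiv₀ (R := S)).symm
  have he : ∀ φ : N →ₗ[S] Z', e φ = Ext.mk₀ (ModuleCat.ofHom φ) := fun φ => rfl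
  let δ : (N →ₗ[S] Z') →ₗ[S] Ext (ModuleCat.of S N) (ModuleCat.of S Z) 1 :=
    (hS.extClass.postcompOfLinear S (ModuleCat.of S N) (show 0 + 1 = 1 from rfl)).comp e.toLinearMap
  have hδ : ∀ φ, δ φ = (Ext.mk₀ (ModuleCat.ofHom φ)).comp hS.extClass (show 0 + 1 = 1 from rfl) :=
    fun φ => rfl
  have hsurj : Function.Surjective δ := fun x => by
    obtain ⟨y, hy⟩ := Ext.covariant_sequence_exact₁ (ModuleCat.of S N) hS x
      (Subsingleton.elim (α := Ext (ModuleCat.of S N) (ModuleCat.of S X) 1) _ _)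
      (show 0 + 1 = 1 from rfl)
    obtain ⟨φ, rfl⟩ := (Ext.mk₀_bijective _ _).2 y
    exact ⟨φ.hom, hy⟩
  have hker : LinearMap.ker δ = LinearMap.range (homPost N g) := by
    ext φ
    rw [LinearMap.mem_ker, hδ]
    constructor
    · intro h
      obtain ⟨y, hy⟩ := Ext.covariant_sequence_exact₃ (ModuleCat.of S N) hS _
        (show 0 + 1 = 1 from rfl) h
      obtain ⟨ψ, rfl⟩ := (Ext.mk₀_bijective _ _).2 y
      rw [Ext.mk₀_comp_mk₀] at hy
      exact ⟨ψ.hom, congrArg ModuleCat.Hom.hom ((Ext.mk₀_bijective _ _).1 hy)⟩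
    · rintro ⟨ψ, rfl⟩
      have : ModuleCat.ofHom (homPost N g ψ) = ModuleCat.ofHom ψ ≫ ModuleCat.ofHom g := rfl
      rw [this, ← Ext.mk₀_comp_mk₀, Ext.comp_assoc_of_second_deg_zero]
      erw [hS.comp_extClass]
      rw [Ext.comp_zero]
  exact ⟨(Submodule.quotEquivOfEq _ _ hker.symm).trans (δ.quotKerEquivOfSurjective hsurj)⟩

end covariant

section regular

variable {N : Type u} [AddCommGroup N] [Module S N] (M : Type u) [AddCommGroup M] [Module S M]

theorem eq_zero_of_smul_injective {g : S} {k : ℕ}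
    (hinj : IsSMulRegular (Ext (ModuleCat.of S N) (ModuleCat.of S M) k) g)
    (x : Ext (ModuleCat.of S (QuotSMulTop g N)) (ModuleCat.of S M) k) :
    (Ext.mk₀ ((ModuleCat.of S N).smulShortComplex g).g).comp x (zero_add k) = 0 := by
  refine (isSMulRegular_iff_right_eq_zero_of_smul.1 hinj) _ ?_
  erw [LocCoh.ext_smul_eq_precomp, ← ModuleCat.smulShortComplex_f_eq_smul_id,
    Ext.mk₀_comp_mk₀_assoc, ((ModuleCat.of S N).smulShortComplex g).zero, Ext.mk₀_zero, Ext.zero_comp]
  rfl

theorem subsingleton_zero_quot {g : S}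
    (hinj : IsSMulRegular (Ext (ModuleCat.of S N) (ModuleCat.of S M) 0) g) :
    Subsingleton (Ext (ModuleCat.of S (QuotSMulTop g N)) (ModuleCat.of S M) 0) := by
  refine subsingleton_of_forall_eq 0 fun x => ?_
  obtain ⟨φ, rfl⟩ := (Ext.mk₀_bijective _ _).2 x
  have h := eq_zero_of_smul_injective M hinj (Ext.mk₀ φ)
  have h' : ((ModuleCat.of S N).smulShortComplex g).g ≫ φ = 0 :=
    (Ext.mk₀_bijective _ _).1 (((Ext.mk₀_comp_mk₀ _ φ).symm.trans h).trans (Ext.mk₀_zero _ _).symm)
  haveI := ModuleCat.smulShortComplex_g_epi (ModuleCat.of S N) g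
  rw [show φ = 0 from (cancel_epi ((ModuleCat.of S N).smulShortComplex g).g).1 (h'.trans Limits.comp_zero.symm),
    Ext.mk₀_zero]

theorem nonempty_succ_quot {g : S} (hg : IsSMulRegular N g) (k : ℕ)
    (hinj : IsSMulRegular (Ext (ModuleCat.of S N) (ModuleCat.of S M) (k + 1)) g) :
    Nonempty (QuotSMulTop g (Ext (ModuleCat.of S N) (ModuleCat.of S M) k) ≃ₗ[S]
      Ext (ModuleCat.of S (QuotSMulTop g N)) (ModuleCat.of S M) (k + 1)) := by
  have hS : ((ModuleCat.of S N).smulShortComplex g).ShortExact :=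
    IsSMulRegular.smulShortComplex_shortExact (M := ModuleCat.of S N) hg
  let δ : Ext (ModuleCat.of S N) (ModuleCat.of S M) k →ₗ[S]
      Ext (ModuleCat.of S (QuotSMulTop g N)) (ModuleCat.of S M) (k + 1) :=
    hS.extClass.precompOfLinear S (ModuleCat.of S M) (show 1 + k = k + 1 from add_comm 1 k)
  have hsurj : Function.Surjective δ := fun x => by
    obtain ⟨y, hy⟩ := Ext.contravariant_sequence_exact₃ hS (ModuleCat.of S M) x
      (eq_zero_of_smul_injective M hinj x) (show 1 + k = k + 1 from add_comm 1 k)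
    exact ⟨y, hy⟩
  have hker : LinearMap.ker δ = g • (⊤ : Submodule S (Ext (ModuleCat.of S N) (ModuleCat.of S M) k)) := by
    ext y
    constructor
    · intro h
      obtain ⟨z, hz⟩ := Ext.contravariant_sequence_exact₁ hS (ModuleCat.of S M) y
        (show 1 + k = k + 1 from add_comm 1 k) h
      erw [ModuleCat.smulShortComplex_f_eq_smul_id, ← LocCoh.ext_smul_eq_precomp] at hz
      rw [← hz]
      exact Submodule.smul_mem_pointwise_smul (M := Ext (ModuleCat.of S N) (ModuleCat.of S M) k) z g ⊤ trivial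
    · intro h
      obtain ⟨z, -, rfl⟩ := h
      show hS.extClass.comp (g • (z : Ext (ModuleCat.of S N) (ModuleCat.of S M) k)) (add_comm 1 k) = 0
      rw [LocCoh.ext_smul_eq_precomp, ← ModuleCat.smulShortComplex_f_eq_smul_id]
      erw [hS.extClass_comp_assoc]
  exact ⟨(Submodule.quotEquivOfEq _ _ hker.symm).trans (δ.quotKerEquivOfSurjective hsurj)⟩

end regular

section finsupp

variable {N : Type u} [AddCommGroup N] [Module S N]

/-- Reduction modulo `g` commutes with direct sums. -/
theorem nonempty_quotSMulTop_finsupp (g : S) (κ : Type u) :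
    Nonempty (QuotSMulTop g (κ →₀ N) ≃ₗ[S] (κ →₀ QuotSMulTop g N)) := by
  let φ : (κ →₀ N) →ₗ[S] (κ →₀ QuotSMulTop g N) :=
    Finsupp.mapRange.linearMap (Submodule.mkQ (g • (⊤ : Submodule S N)))
  have hsurj : Function.Surjective φ :=
    Finsupp.mapRange_surjective _ (map_zero _) (Submodule.mkQ_surjective _)
  have hker : LinearMap.ker φ = g • (⊤ : Submodule S (κ →₀ N)) := by
    refine le_antisymm (fun v hv => ?_) ?_
    · rw [← v.sum_single]
      refine Submodule.sum_mem _ fun i _ => ?_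
      have h : Submodule.mkQ (g • (⊤ : Submodule S N)) (v i) = 0 := DFunLike.congr_fun hv i
      rw [Submodule.mkQ_apply, Submodule.Quotient.mk_eq_zero] at h
      obtain ⟨w, -, hw⟩ := h
      rw [← hw]
      show Finsupp.single i (g • w) ∈ _
      rw [← Finsupp.smul_single]
      exact Submodule.smul_mem_pointwise_smul _ g ⊤ trivial
    · rintro v ⟨w, -, rfl⟩
      refine Finsupp.ext fun i => ?_
      show Submodule.mkQ (g • (⊤ : Submodule S N)) (g • w i) = 0
      rw [Submodule.mkQ_apply, Submodule.Quotient.mk_eq_zero]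
      exact Submodule.smul_mem_pointwise_smul _ g ⊤ trivial
  exact ⟨(Submodule.quotEquivOfEq _ _ hker.symm).trans (φ.quotKerEquivOfSurjective hsurj)⟩

theorem isSMulRegular_finsupp {g : S} (hg : IsSMulRegular N g) (κ : Type u) :
    IsSMulRegular (κ →₀ N) g := fun _ _ h =>
  Finsupp.ext fun i => hg (DFunLike.congr_fun h i)

end finsupp

variable (M : Type u) [AddCommGroup M] [Module S M]

open RingTheory.Sequence in
/-- If every `Ext^k(N, M)` is a direct sum of copies of `N` and `rs` is an `N`-regular sequence of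
length `n`, then `Ext^k(N/(rs)N, M)` vanishes for `k < n` and is the same direct sum of copies of
`N/(rs)N` as `Ext^(k-n)(N, M)` for `k ≥ n`. -/
theorem shift_free : ∀ (rs : List S) (N : Type u) [AddCommGroup N] [Module S N],
    IsWeaklyRegular N rs → ∀ I : ℕ → Type u,
    (∀ k, Nonempty (Ext (ModuleCat.of S N) (ModuleCat.of S M) k ≃ₗ[S] (I k →₀ N))) →
    ∀ k, (k < rs.length → Subsingleton (Ext (ModuleCat.of S
        (N ⧸ (Ideal.ofList rs • ⊤ : Submodule S N))) (ModuleCat.of S M) k)) ∧
      (rs.length ≤ k → Nonempty (Ext (ModuleCat.of S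
        (N ⧸ (Ideal.ofList rs • ⊤ : Submodule S N))) (ModuleCat.of S M) k ≃ₗ[S]
        (I (k - rs.length) →₀ (N ⧸ (Ideal.ofList rs • ⊤ : Submodule S N))))) := by
  intro rs
  induction rs with
  | nil =>
    intro N _ _ _ I hI k
    refine ⟨fun h => absurd h (Nat.not_lt_zero k), fun _ => ?_⟩
    obtain ⟨e⟩ := hI k
    let q : N ≃ₗ[S] (N ⧸ (Ideal.ofList ([] : List S) • ⊤ : Submodule S N)) :=
      (Submodule.quotEquivOfEqBot _ (by rw [Ideal.ofList_nil, Submodule.bot_smul])).symm
    exact ⟨((congrLeft q k).symm.trans e).trans (Finsupp.mapRange.linearEquiv q)⟩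
  | cons g rs ih =>
    intro N _ _ hreg I hI k
    obtain ⟨hg, hrs⟩ := (isWeaklyRegular_cons_iff N g rs).1 hreg
    have hinj : ∀ j, IsSMulRegular (Ext (ModuleCat.of S N) (ModuleCat.of S M) j) g := fun j => by
      obtain ⟨e⟩ := hI j
      exact (e.isSMulRegular_congr g).2 (isSMulRegular_finsupp hg _)
    let I' : ℕ → Type u := fun j => match j with | 0 => PEmpty.{u+1} | (j + 1) => I j
    have h0 : Subsingleton (Ext (ModuleCat.of S (QuotSMulTop g N)) (ModuleCat.of S M) 0) :=
      subsingleton_zero_quot M (hinj 0)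
    have hI' : ∀ j, Nonempty (Ext (ModuleCat.of S (QuotSMulTop g N)) (ModuleCat.of S M) j ≃ₗ[S]
        (I' j →₀ QuotSMulTop g N)) := by
      intro j
      match j with
      | 0 =>
        haveI : IsEmpty (I' 0) := (inferInstance : IsEmpty PEmpty.{u+1})
        exact ⟨LinearEquiv.ofSubsingleton _ _⟩
      | (j + 1) =>
        obtain ⟨e₁⟩ := nonempty_succ_quot M hg j (hinj (j + 1))
        obtain ⟨e₂⟩ := hI j
        obtain ⟨e₃⟩ := nonempty_quotSMulTop_finsupp (N := N) g (I j)
        exact ⟨e₁.symm.trans ((QuotSMulTop.congr g e₂).trans e₃)⟩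
    have H := ih (QuotSMulTop g N) hrs I' hI' k
    let q := Submodule.quotOfListConsSMulTopEquivQuotSMulTopInner N g rs
    rw [List.length_cons]
    refine ⟨fun hk => ?_, fun hk => ?_⟩
    · rcases Nat.lt_or_ge k rs.length with hk' | hk'
      · haveI := H.1 hk'
        exact (congrLeft q k).toEquiv.subsingleton
      · obtain ⟨e⟩ := H.2 hk'
        have hz : k - rs.length = 0 := by omega
        rw [hz] at e
        haveI : IsEmpty (I' 0) := (inferInstance : IsEmpty PEmpty.{u+1})
        exact ((congrLeft q k).trans e).toEquiv.subsingleton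
    · obtain ⟨e⟩ := H.2 (by omega)
      have hz : k - rs.length = (k - (rs.length + 1)) + 1 := by omega
      rw [hz] at e
      exact ⟨((congrLeft q k).trans e).trans (Finsupp.mapRange.linearEquiv q.symm)⟩

end Groth.Agent.CAlgH3.ExtShift
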