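import Groth.Agent.GrLib.Basic
import Groth.Agent.CAlgH3.QuotientLocal
import Mathlib

/-!
Localising a graded domain at the nonzero homogeneous elements gives Laurent polynomials over a
field; hence the local ring of `R ⧸ P` at a prime whose homogeneous core is `P` is regular.
-/

set_option autoImplicit false

universe u

open DirectSum Groth.Agent.GrLib

namespace Groth.Agent.CAlgH3.GrLaurent

variable {ι : Type} [AddCommGroup ι] [DecidableEq ι] {R : Type u} [CommRing R]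
  {σ : Type u} [SetLike σ R] [AddSubgroupClass σ R] (𝒜 : ι → σ) [GradedRing 𝒜] (P : Ideal R) [P.IsPrime]

/-- The homogeneous elements outside `P`, as a submonoid. -/
def homOutside : Submonoid R where
  carrier := {h | (∃ g, h ∈ 𝒜 g) ∧ h ∉ P}
  one_mem' := ⟨⟨0, SetLike.one_mem_graded 𝒜⟩, (Ideal.ne_top_iff_one P).1 Ideal.IsPrime.ne_top'⟩
  mul_mem' := by
    rintro a b ⟨⟨g, ha⟩, ha'⟩ ⟨⟨g', hb⟩, hb'⟩
    exact ⟨⟨g + g', SetLike.mul_mem_graded ha hb⟩, fun h => (Ideal.IsPrime.mem_or_mem ‹_› h).elim ha' hb'⟩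

/-- The corresponding submonoid of `R ⧸ P`. -/
abbrev T : Submonoid (R ⧸ P) := (homOutside 𝒜 P).map (Ideal.Quotient.mk P)

/-- The homogeneous localisation of `R ⧸ P`. -/
abbrev L : Type u := Localization (T 𝒜 P)

/-- The natural map. -/
noncomputable def φ : R →+* L 𝒜 P := (algebraMap (R ⧸ P) (L 𝒜 P)).comp (Ideal.Quotient.mk P)

theorem T_le : T 𝒜 P ≤ nonZeroDivisors (R ⧸ P) := by
  rintro _ ⟨h, ⟨_, hh⟩, rfl⟩
  exact mem_nonZeroDivisors_of_ne_zero fun h0 => hh (Ideal.Quotient.eq_zero_iff_mem.1 h0)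

instance isDomain_L : IsDomain (L 𝒜 P) :=
  IsLocalization.isDomain_of_le_nonZeroDivisors (L 𝒜 P) (T_le 𝒜 P)

theorem φ_eq_zero {r : R} : φ 𝒜 P r = 0 ↔ r ∈ P := by
  rw [φ, RingHom.comp_apply, map_eq_zero_iff _ (IsLocalization.injective (L 𝒜 P) (T_le 𝒜 P)), Ideal.Quotient.eq_zero_iff_mem]

theorem isUnit_φ {g : ι} {h : R} (hg : h ∈ 𝒜 g) (hh : h ∉ P) : IsUnit (φ 𝒜 P h) :=
  IsLocalization.map_units (M := T 𝒜 P) (L 𝒜 P) ⟨_, h, ⟨⟨g, hg⟩, hh⟩, rfl⟩

/-- `x` is homogeneous of degree `g` in the homogeneous localisation. -/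
def HDeg (x : L 𝒜 P) (g : ι) : Prop :=
  ∃ (a : R) (i : ι) (b : R) (j : ι), a ∈ 𝒜 i ∧ b ∈ 𝒜 j ∧ b ∉ P ∧ i = g + j ∧ x * φ 𝒜 P b = φ 𝒜 P a

variable {𝒜 P}

theorem hdeg_φ {g : ι} {r : R} (hr : r ∈ 𝒜 g) : HDeg 𝒜 P (φ 𝒜 P r) g :=
  ⟨r, g, 1, 0, hr, SetLike.one_mem_graded 𝒜, (Ideal.ne_top_iff_one P).1 Ideal.IsPrime.ne_top',
    (add_zero g).symm, by rw [map_one, mul_one]⟩

theorem hdeg_zero (g : ι) : HDeg 𝒜 P 0 g := by
  simpa using hdeg_φ (P := P) (zero_mem (𝒜 g))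

theorem hdeg_one : HDeg 𝒜 P 1 0 := by
  simpa using hdeg_φ (P := P) (SetLike.one_mem_graded 𝒜)

theorem HDeg.neg {x : L 𝒜 P} {g : ι} (hx : HDeg 𝒜 P x g) : HDeg 𝒜 P (-x) g := by
  obtain ⟨a, i, b, j, ha, hb, hbP, hij, he⟩ := hx
  exact ⟨-a, i, b, j, neg_mem ha, hb, hbP, hij, by rw [neg_mul, he, map_neg]⟩

theorem HDeg.add {x y : L 𝒜 P} {g : ι} (hx : HDeg 𝒜 P x g) (hy : HDeg 𝒜 P y g) :
    HDeg 𝒜 P (x + y) g := by
  obtain ⟨a, i, b, j, ha, hb, hbP, hij, he⟩ := hx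
  obtain ⟨a', i', b', j', ha', hb', hbP', hij', he'⟩ := hy
  refine ⟨a * b' + a' * b, i + j', b * b', j + j', ?_, SetLike.mul_mem_graded hb hb',
    fun h => (Ideal.IsPrime.mem_or_mem ‹_› h).elim hbP hbP', by rw [hij]; abel, ?_⟩
  · refine add_mem (SetLike.mul_mem_graded ha hb') ?_
    rw [show i + j' = i' + j by rw [hij, hij']; abel]
    exact SetLike.mul_mem_graded ha' hb
  · rw [map_add, map_mul, map_mul, map_mul, ← he, ← he']; ring

theorem HDeg.mul {x y : L 𝒜 P} {g g' : ι} (hx : HDeg 𝒜 P x g) (hy : HDeg 𝒜 P y g') :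
    HDeg 𝒜 P (x * y) (g + g') := by
  obtain ⟨a, i, b, j, ha, hb, hbP, hij, he⟩ := hx
  obtain ⟨a', i', b', j', ha', hb', hbP', hij', he'⟩ := hy
  refine ⟨a * a', i + i', b * b', j + j', SetLike.mul_mem_graded ha ha', SetLike.mul_mem_graded hb hb',
    fun h => (Ideal.IsPrime.mem_or_mem ‹_› h).elim hbP hbP', by rw [hij, hij']; abel, ?_⟩
  rw [map_mul, map_mul, ← he, ← he']; ring

theorem HDeg.pow {x : L 𝒜 P} {g : ι} (hx : HDeg 𝒜 P x g) : ∀ n : ℕ, HDeg 𝒜 P (x ^ n) (n • g) := by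
  intro n
  induction n with
  | zero => rw [pow_zero, zero_nsmul]; exact hdeg_one
  | succ n ih => rw [pow_succ, succ_nsmul]; exact ih.mul hx

theorem HDeg.prod {κ : Type*} {x : κ → L 𝒜 P} {g : κ → ι} (S : Finset κ)
    (hx : ∀ k ∈ S, HDeg 𝒜 P (x k) (g k)) : HDeg 𝒜 P (∏ k ∈ S, x k) (∑ k ∈ S, g k) := by
  classical
  induction S using Finset.induction_on with
  | empty => simpa using hdeg_one
  | @insert k S hk ih =>
    rw [Finset.prod_insert hk, Finset.sum_insert hk]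
    exact (hx k (Finset.mem_insert_self _ _)).mul (ih fun l hl => hx l (Finset.mem_insert_of_mem hl))

theorem HDeg.inverse {x : L 𝒜 P} {g : ι} (hx : HDeg 𝒜 P x g) (h0 : x ≠ 0) :
    ∃ y, HDeg 𝒜 P y (-g) ∧ x * y = 1 := by
  obtain ⟨a, i, b, j, ha, hb, hbP, hij, he⟩ := hx
  have haP : a ∉ P := fun h => by
    rw [(φ_eq_zero 𝒜 P).2 h] at he
    rcases mul_eq_zero.1 he with h' | h'
    · exact h0 h'
    · exact hbP ((φ_eq_zero 𝒜 P).1 h')
  obtain ⟨w, hw⟩ := isUnit_φ 𝒜 P ha haP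
  refine ⟨φ 𝒜 P b * ↑w⁻¹, ⟨b, j, a, i, hb, ha, haP, by rw [hij]; abel, ?_⟩, ?_⟩
  · rw [mul_assoc, ← hw, Units.inv_mul, mul_one]
  · rw [← mul_assoc, he, ← hw, Units.mul_inv]

/-- Homogeneous elements of distinct degrees are independent. -/
theorem eq_zero_of_sum_eq_zero (hP : P.IsHomogeneous 𝒜) {κ : Type*} {S : Finset κ}
    {x : κ → L 𝒜 P} {g : κ → ι} (hx : ∀ k ∈ S, HDeg 𝒜 P (x k) (g k)) (hg : Set.InjOn g S)
    (h : ∑ k ∈ S, x k = 0) : ∀ k ∈ S, x k = 0 := by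
  classical
  choose a i b j ha hb hbP hij he using hx
  have hone : (1 : R) ∉ P := (Ideal.ne_top_iff_one P).1 Ideal.IsPrime.ne_top'
  let bb : κ → R := fun k => if hk : k ∈ S then b k hk else 1
  let jj : κ → ι := fun k => if hk : k ∈ S then j k hk else 0
  let aa : κ → R := fun k => if hk : k ∈ S then a k hk else 0
  have hbb : ∀ k, bb k ∈ 𝒜 (jj k) := fun k => by
    by_cases hk : k ∈ S
    · simp only [bb, jj, dif_pos hk]; exact hb k hk
    · simp only [bb, jj, dif_neg hk]; exact SetLike.one_mem_graded 𝒜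
  have haa : ∀ k ∈ S, aa k ∈ 𝒜 (g k + jj k) := fun k hk => by
    simp only [aa, jj, dif_pos hk]; rw [← hij k hk]; exact ha k hk
  have hee : ∀ k ∈ S, x k * φ 𝒜 P (bb k) = φ 𝒜 P (aa k) := fun k hk => by
    simp only [aa, bb, dif_pos hk]; exact he k hk
  have hbbP : ∀ k, bb k ∉ P := fun k => by
    by_cases hk : k ∈ S
    · simp only [bb, dif_pos hk]; exact hbP k hk
    · simp only [bb, dif_neg hk]; exact hone
  let c : κ → R := fun k => aa k * ∏ l ∈ S.erase k, bb l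
  let J : ι := ∑ l ∈ S, jj l
  have hc : ∀ k ∈ S, c k ∈ 𝒜 (g k + J) := fun k hk => by
    have hJ : g k + J = (g k + jj k) + ∑ l ∈ S.erase k, jj l := by
      rw [add_assoc, Finset.add_sum_erase S jj hk]
    rw [hJ]
    exact SetLike.mul_mem_graded (haa k hk) (SetLike.prod_mem_graded 𝒜 _ _ fun l _ => hbb l)
  have hφc : ∀ k ∈ S, φ 𝒜 P (c k) = x k * ∏ l ∈ S, φ 𝒜 P (bb l) := fun k hk => by
    simp only [c]
    rw [map_mul, map_prod, ← hee k hk, mul_assoc, Finset.mul_prod_erase S (fun l => φ 𝒜 P (bb l)) hk]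
  have hsum : ∑ k ∈ S, c k ∈ P := by
    rw [← φ_eq_zero 𝒜 P, map_sum, Finset.sum_congr rfl hφc, ← Finset.sum_mul, h, zero_mul]
  intro k hk
  have hck : c k ∈ P := by
    have h1 : proj 𝒜 (g k + J) (∑ k ∈ S, c k) ∈ P := hP (g k + J) hsum
    rw [map_sum, Finset.sum_eq_single k] at h1
    · rwa [proj_of_mem (ℳ := 𝒜) (hc k hk)] at h1
    · intro l hl hlk
      exact proj_of_mem_ne (ℳ := 𝒜) (hc l hl) fun e => hlk (hg hl hk (add_right_cancel e))
    · exact fun h' => absurd hk h'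
  have h2 := (φ_eq_zero 𝒜 P).2 hck
  rw [hφc k hk] at h2
  refine (mul_eq_zero.1 h2).resolve_right ?_
  rw [Finset.prod_eq_zero_iff]
  rintro ⟨l, _, hl⟩
  exact hbbP l ((φ_eq_zero 𝒜 P).1 hl)

variable (𝒜 P)

/-- The degree zero part, a field. -/
def K : Subring (L 𝒜 P) where
  carrier := {x | HDeg 𝒜 P x 0}
  one_mem' := hdeg_one
  mul_mem' hx hy := by
    have := HDeg.mul hx hy
    rwa [add_zero] at this
  add_mem' := HDeg.add
  zero_mem' := hdeg_zero 0
  neg_mem' := HDeg.neg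

theorem isField_K : IsField (K 𝒜 P) where
  exists_pair_ne := ⟨0, 1, zero_ne_one⟩
  mul_comm := mul_comm
  mul_inv_cancel {x} hx := by
    obtain ⟨y, hy, hxy⟩ := HDeg.inverse x.2 fun h => hx (Subtype.ext h)
    rw [neg_zero] at hy
    exact ⟨⟨y, hy⟩, Subtype.ext hxy⟩

/-- The degrees occurring. -/
def degGroup : AddSubgroup ι where
  carrier := {g | ∃ x : L 𝒜 P, x ≠ 0 ∧ HDeg 𝒜 P x g}
  zero_mem' := ⟨1, one_ne_zero, hdeg_one⟩
  add_mem' := by
    rintro g g' ⟨x, hx, hx'⟩ ⟨y, hy, hy'⟩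
    exact ⟨x * y, mul_ne_zero hx hy, hx'.mul hy'⟩
  neg_mem' := by
    rintro g ⟨x, hx, hx'⟩
    obtain ⟨y, hy, hxy⟩ := hx'.inverse hx
    exact ⟨y, fun h => one_ne_zero (by rw [← hxy, h, mul_zero]), hy⟩

variable [Module.Free ℤ ι] [Module.Finite ℤ ι]

theorem exists_isRegularRing_isLocalization (hP : P.IsHomogeneous 𝒜) :
    ∃ (B : Type u) (_ : CommRing B) (_ : IsRegularRing B) (_ : Algebra B (L 𝒜 P)) (M : Submonoid B),
      IsLocalization M (L 𝒜 P) := by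
  classical
  obtain ⟨r, ⟨e⟩⟩ := Submodule.nonempty_basis_of_pid (Module.Free.chooseBasis ℤ ι)
    (degGroup 𝒜 P).toIntSubmodule
  have hu : ∀ j, ∃ x : L 𝒜 P, x ≠ 0 ∧ HDeg 𝒜 P x (e j : ι) := fun j => (e j).2
  choose u hu0 hud using hu
  letI : Field (K 𝒜 P) := (isField_K 𝒜 P).toField
  let ψ : MvPolynomial (Fin r) (K 𝒜 P) →+* L 𝒜 P := MvPolynomial.eval₂Hom (K 𝒜 P).subtype u
  let D : (Fin r →₀ ℕ) → ι := fun m => ∑ j, m j • (e j : ι)
  have hD : Function.Injective D := by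
    intro m m' h
    have h' : ∑ j, (m j : ℤ) • e j = ∑ j, (m' j : ℤ) • e j := Subtype.ext (by
      rw [AddSubmonoidClass.coe_finsetSum, AddSubmonoidClass.coe_finsetSum]
      simpa [D, natCast_zsmul] using h)
    ext j
    have h'' := congrArg (fun v => e.repr v j) h'
    rw [e.repr_sum_self (fun j => (m j : ℤ)), e.repr_sum_self (fun j => (m' j : ℤ))] at h''
    simp only at h''
    exact_mod_cast h''
  have hmon : ∀ m : Fin r →₀ ℕ, HDeg 𝒜 P (∏ j, u j ^ m j) (D m) := fun m =>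
    HDeg.prod _ fun j _ => (hud j).pow _
  have hmon0 : ∀ m : Fin r →₀ ℕ, (∏ j, u j ^ m j) ≠ 0 := fun m =>
    Finset.prod_ne_zero_iff.2 fun j _ => pow_ne_zero _ (hu0 j)
  have hψ : ∀ f, ψ f = ∑ m ∈ f.support, ((MvPolynomial.coeff m f : K 𝒜 P) : L 𝒜 P) * ∏ j, u j ^ m j := fun f => by
    rw [MvPolynomial.coe_eval₂Hom, MvPolynomial.eval₂_eq']
    rfl
  have hinj : Function.Injective ψ := by
    refine (injective_iff_map_eq_zero ψ).2 fun f hf => ?_
    rw [hψ] at hf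
    have h0 := eq_zero_of_sum_eq_zero hP (g := D) (fun m _ => by
      have := HDeg.mul (MvPolynomial.coeff m f).2 (hmon m)
      rwa [zero_add] at this) hD.injOn hf
    by_contra hne
    obtain ⟨m, hm⟩ := MvPolynomial.ne_zero_iff.1 hne
    rcases mul_eq_zero.1 (h0 m (MvPolynomial.mem_support_iff.2 hm)) with h | h
    · exact hm (Subtype.ext h)
    · exact hmon0 m h
  let U : MvPolynomial (Fin r) (K 𝒜 P) := ∏ j, MvPolynomial.X j
  have hψX : ∀ j, ψ (MvPolynomial.X j) = u j := fun j => MvPolynomial.eval₂_X _ _ _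
  have hψU : ψ U = ∏ j, u j := by rw [map_prod]; simp [hψX]
  have hunit : IsUnit (ψ U) := by
    rw [hψU, IsUnit.prod_iff]
    intro j _
    obtain ⟨y, -, hy⟩ := (hud j).inverse (hu0 j)
    exact IsUnit.of_mul_eq_one y hy
  let Good : L 𝒜 P → Prop := fun z => ∃ (n : ℕ) (f : _), z * ψ (U ^ n) = ψ f
  have hgadd : ∀ z z', Good z → Good z' → Good (z + z') := by
    rintro z z' ⟨n, f, hf⟩ ⟨n', f', hf'⟩
    refine ⟨n + n', f * U ^ n' + f' * U ^ n, ?_⟩
    rw [pow_add, map_mul, map_add, map_mul, map_mul, ← hf, ← hf']; ring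
  have hghom : ∀ z g, HDeg 𝒜 P z g → Good z := by
    intro z g hz
    by_cases h0 : z = 0
    · exact ⟨0, 0, by rw [h0, zero_mul, map_zero]⟩
    let c : Fin r → ℤ := fun j => e.repr ⟨g, z, h0, hz⟩ j
    have hc : g = ∑ j, c j • (e j : ι) := by
      have := congrArg Subtype.val (e.sum_repr ⟨g, z, h0, hz⟩)
      rw [AddSubmonoidClass.coe_finsetSum] at this
      exact this.symm
    let N : ℕ := ∑ j, (c j).natAbs
    have hN : ∀ j, 0 ≤ c j + N := fun j => by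
      have h1 : (c j).natAbs ≤ N := Finset.single_le_sum (f := fun j => (c j).natAbs)
        (fun _ _ => Nat.zero_le _) (Finset.mem_univ j)
      omega
    let m : Fin r →₀ ℕ := Finsupp.equivFunOnFinite.symm fun j => (c j + N).toNat
    have hUd : HDeg 𝒜 P (ψ (U ^ N)) (N • ∑ j, (e j : ι)) := by
      rw [map_pow, hψU]
      exact (HDeg.prod _ fun j _ => hud j).pow N
    have hdeg : g + N • ∑ j, (e j : ι) = D m := by
      simp only [D]
      rw [hc, Finset.smul_sum, ← Finset.sum_add_distrib]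
      refine Finset.sum_congr rfl fun j _ => ?_
      rw [← natCast_zsmul, ← natCast_zsmul (e j : ι) (m j), ← add_zsmul]
      congr 1
      simp [m, Int.toNat_of_nonneg (hN j)]
    obtain ⟨y, hy, hxy⟩ := (hmon m).inverse (hmon0 m)
    have hk : HDeg 𝒜 P (z * ψ (U ^ N) * y) 0 := by
      have := (hz.mul hUd).mul hy
      rwa [hdeg, add_neg_cancel] at this
    refine ⟨N, MvPolynomial.monomial m ⟨_, hk⟩, ?_⟩
    simp only [ψ, MvPolynomial.coe_eval₂Hom, MvPolynomial.eval₂_monomial]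
    rw [Finsupp.prod_fintype _ _ fun j => pow_zero _]
    show _ = z * ψ (U ^ N) * y * ∏ j, u j ^ m j
    rw [mul_assoc _ y, mul_comm y, hxy, mul_one]
    rfl
  letI : Algebra (MvPolynomial (Fin r) (K 𝒜 P)) (L 𝒜 P) := ψ.toAlgebra
  refine ⟨MvPolynomial (Fin r) (K 𝒜 P), inferInstance, inferInstance, inferInstance, Submonoid.powers U, ?_⟩
  refine ⟨?_, ?_, ?_⟩
  · rintro ⟨_, n, rfl⟩
    show IsUnit (ψ (U ^ n))
    rw [map_pow]
    exact hunit.pow n
  · intro z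
    suffices h : Good z by
      obtain ⟨n, f, hf⟩ := h
      exact ⟨(f, ⟨U ^ n, n, rfl⟩), hf⟩
    obtain ⟨⟨a, ⟨t, h, ⟨⟨i, hi⟩, hiP⟩, rfl⟩⟩, hz⟩ := IsLocalization.surj (T 𝒜 P) z
    obtain ⟨a, rfl⟩ := Ideal.Quotient.mk_surjective a
    obtain ⟨w, hw⟩ := isUnit_φ 𝒜 P hi hiP
    have hz' : z = φ 𝒜 P a * ↑w⁻¹ := by
      rw [Units.eq_mul_inv_iff_mul_eq, hw]
      exact hz
    rw [hz']
    clear hz hz'
    have hw' : HDeg 𝒜 P (↑w⁻¹ : L 𝒜 P) (-i) := ⟨1, 0, h, i, SetLike.one_mem_graded 𝒜, hi, hiP,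
      (neg_add_cancel i).symm, by rw [← hw, Units.inv_mul, map_one]⟩
    induction a using GrLib.induction (ℳ := 𝒜) with
    | zero => exact ⟨0, 0, by rw [map_zero, zero_mul, zero_mul, map_zero]⟩
    | hom g m hm => exact hghom _ _ ((hdeg_φ hm).mul hw')
    | add a b ha hb => rw [map_add, add_mul]; exact hgadd _ _ ha hb
  · intro x y hxy
    exact ⟨1, by rw [hinj hxy]⟩

theorem isRegularLocalRing_localization (hP : P.IsHomogeneous 𝒜) (q : Ideal (R ⧸ P)) [q.IsPrime]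
    (hcore : ∀ g h, h ∈ 𝒜 g → h ∉ P → Ideal.Quotient.mk P h ∉ q) :
    IsRegularLocalRing (Localization.AtPrime q) := by
  obtain ⟨B, _, _, _, M, hM⟩ := exists_isRegularRing_isLocalization 𝒜 P hP
  have hdisj : Disjoint (T 𝒜 P : Set (R ⧸ P)) (q : Set (R ⧸ P)) := Set.disjoint_left.2 (by
    rintro _ ⟨h, ⟨⟨g, hg⟩, hh⟩, rfl⟩
    exact hcore g h hg hh)
  let p : Ideal (L 𝒜 P) := q.map (algebraMap (R ⧸ P) (L 𝒜 P))
  haveI : p.IsPrime := IsLocalization.isPrime_of_isPrime_disjoint (T 𝒜 P) _ q ‹_› hdisj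
  have hq : p.comap (algebraMap (R ⧸ P) (L 𝒜 P)) = q :=
    IsLocalization.comap_map_of_isPrime_disjoint (T 𝒜 P) _ ‹_› hdisj
  let p' : Ideal B := p.comap (algebraMap B (L 𝒜 P))
  haveI : IsLocalization.AtPrime (Localization.AtPrime p) p' :=
    IsLocalization.isLocalization_isLocalization_atPrime_isLocalization M (Localization.AtPrime p) p
  haveI : IsRegularLocalRing (Localization.AtPrime p') :=
    IsRegularRing.isRegularLocalRing_localization p'
  haveI : IsRegularLocalRing (Localization.AtPrime p) :=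
    IsRegularLocalRing.of_ringEquiv (IsLocalization.algEquiv p'.primeCompl
      (Localization.AtPrime p') (Localization.AtPrime p)).toRingEquiv
  haveI : IsLocalization.AtPrime (Localization.AtPrime p) q := by
    have h := IsLocalization.isLocalization_isLocalization_atPrime_isLocalization (T 𝒜 P)
      (Localization.AtPrime p) p
    have e : (p.comap (algebraMap (R ⧸ P) (L 𝒜 P))).primeCompl = q.primeCompl := by
      ext x
      show ¬ x ∈ p.comap (algebraMap (R ⧸ P) (L 𝒜 P)) ↔ ¬ x ∈ q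
      rw [hq]
    change IsLocalization (p.comap (algebraMap (R ⧸ P) (L 𝒜 P))).primeCompl _ at h
    rw [e] at h
    exact h
  exact IsRegularLocalRing.of_ringEquiv (R := Localization.AtPrime p) (IsLocalization.algEquiv q.primeCompl
    (Localization.AtPrime p) (Localization.AtPrime q)).toRingEquiv

end Groth.Agent.CAlgH3.GrLaurent
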