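import Groth.Agent.GrLib.Basic
import Groth.Agent.CAlgH3.GrLaurent
import Mathlib

/-!
A graded module killed by a homogeneous prime `P` contains a family of homogeneous elements which is
independent over `R ⧸ P` and generates up to homogeneous multipliers outside `P`.
-/

set_option autoImplicit false

universe u

open DirectSum Groth.Agent.GrLib

namespace Groth.Agent.CAlgH3.GrFree

open GrLaurent

variable {ι : Type} [AddCommGroup ι] [DecidableEq ι] {R : Type u} [CommRing R]
  {σ : Type u} [SetLike σ R] [AddSubgroupClass σ R] (𝒜 : ι → σ) [GradedRing 𝒜] (P : Ideal R) [P.IsPrime]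
variable {X : Type u} [AddCommGroup X] [Module R X] (ℳ : ι → AddSubgroup X) [Decomposition ℳ]
  [SetLike.GradedSMul 𝒜 ℳ] (B C : Submodule R X)

/-- Independence modulo `B` over `R ⧸ P`. -/
def Indep (s : Set X) : Prop :=
  ∀ c : X →₀ R, ↑c.support ⊆ s → c.sum (fun x a => a • x) ∈ B → ∀ x, c x ∈ P

variable {B C P}

theorem exists_free_part (hB : B.IsHomogeneous ℳ) (hC : C.IsHomogeneous ℳ) (hBC : B ≤ C)
    (hPC : ∀ a ∈ P, ∀ x ∈ C, a • x ∈ B) :
    ∃ (I : Type u) (z : I → X), (∀ i, z i ∈ C) ∧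
      (∀ c : I →₀ R, c.sum (fun i a => a • z i) ∈ B → ∀ i, c i ∈ P) ∧
      (∀ x ∈ C, ∃ h ∈ homOutside 𝒜 P, h • x ∈ Submodule.span R (Set.range z) ⊔ B) := by
  classical
  let Hm : Set X := {x | x ∈ C ∧ ∃ g, x ∈ ℳ g}
  obtain ⟨s, hs⟩ := zorn_subset {s : Set X | s ⊆ Hm ∧ Indep P B s} (by
    intro c hc hchain
    rcases c.eq_empty_or_nonempty with rfl | hne
    · refine ⟨∅, ⟨Set.empty_subset _, fun f hf _ x => ?_⟩, fun t ht => absurd ht (Set.notMem_empty t)⟩
      rw [Finsupp.notMem_support_iff.1 fun h => hf h]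
      exact zero_mem P
    refine ⟨⋃₀ c, ⟨Set.sUnion_subset fun t ht => (hc ht).1, fun f hf => ?_⟩,
      fun t ht => Set.subset_sUnion_of_mem ht⟩
    obtain ⟨t, ht, hft⟩ := DirectedOn.exists_mem_subset_of_finset_subset_biUnion hne
      hchain.directedOn (s := f.support) (f := fun t : Set X => t) (by rwa [← Set.sUnion_eq_biUnion])
    exact (hc ht).2 f hft)
  obtain ⟨⟨hsH, hsI⟩, hmax⟩ := hs
  refine ⟨s, fun i => (i : X), fun i => (hsH i.2).1, ?_, ?_⟩
  · intro c hc i
    have := hsI (c.mapDomain Subtype.val) (fun x hx => by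
      obtain ⟨i, -, rfl⟩ := Finset.mem_image.1 (Finsupp.mapDomain_support hx)
      exact i.2) (by
      rwa [Finsupp.sum_mapDomain_index (fun x => zero_smul R x) (fun x a b => add_smul a b x)]) (i : X)
    rwa [Finsupp.mapDomain_apply Subtype.val_injective] at this
  rw [Subtype.range_coe]
  have hN : (Submodule.span R s ⊔ B).IsHomogeneous ℳ :=
    isHomogeneous_sup (ℳ := ℳ) (isHomogeneous_span (𝒜 := 𝒜) (ℳ := ℳ) fun m hm => (hsH hm).2) hB
  have hhom : ∀ y ∈ Hm, ∃ h ∈ homOutside 𝒜 P, h • y ∈ Submodule.span R s ⊔ B := by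
    rintro y ⟨hyC, g, hyg⟩
    by_cases hys : y ∈ s
    · exact ⟨1, one_mem _, Submodule.mem_sup_left (by rw [one_smul]; exact Submodule.subset_span hys)⟩
    have hnot : ¬ Indep P B (insert y s) := fun h =>
      hys (hmax ⟨Set.insert_subset_iff.2 ⟨⟨hyC, g, hyg⟩, hsH⟩, h⟩ (Set.subset_insert y s) (Set.mem_insert y s))
    simp only [Indep, not_forall] at hnot
    obtain ⟨c, hcs, hcB, x, hx⟩ := hnot
    have herase : ↑(c.erase y).support ⊆ s := fun t ht => by
      simp only [Finsupp.support_erase, Finset.coe_erase] at ht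
      exact (hcs ht.1).resolve_left ht.2
    have hsplit : c.sum (fun x a => a • x) = c y • y + (c.erase y).sum (fun x a => a • x) := by
      conv_lhs => rw [← Finsupp.single_add_erase y c]
      rw [Finsupp.sum_add_index' (fun x => zero_smul R x) (fun x a b => add_smul a b x),
        Finsupp.sum_single_index (zero_smul R y)]
    have hcy : c y ∉ P := by
      intro hcy
      have hrest : (c.erase y).sum (fun x a => a • x) ∈ B := by
        have := B.sub_mem hcB (hPC _ hcy y hyC)
        rwa [hsplit, add_sub_cancel_left] at this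
      have h' := hsI (c.erase y) herase hrest
      by_cases hxy : x = y
      · exact hx (hxy ▸ hcy)
      · have := h' x
        rw [Finsupp.erase_ne hxy] at this
        exact hx this
    have hmem : c y • y ∈ Submodule.span R s ⊔ B := by
      have h1 : (c.erase y).sum (fun x a => a • x) ∈ Submodule.span R s :=
        Submodule.sum_mem _ fun t ht => Submodule.smul_mem _ _ (Submodule.subset_span (herase ht))
      have := Submodule.sub_mem _ (Submodule.mem_sup_right (S := Submodule.span R s) hcB)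
        (Submodule.mem_sup_left (T := B) h1)
      rwa [hsplit, add_sub_cancel_right] at this
    obtain ⟨e, he⟩ : ∃ e, proj 𝒜 e (c y) ∉ P := by
      by_contra hall
      push Not at hall
      exact hcy (mem_of_proj_mem (ℳ := 𝒜) P hall)
    refine ⟨proj 𝒜 e (c y), ⟨⟨e, proj_mem 𝒜 e (c y)⟩, he⟩, ?_⟩
    have h2 : proj ℳ (e + g) (c y • y) ∈ Submodule.span R s ⊔ B := hN (e + g) hmem
    suffices h3 : proj 𝒜 e (c y) • y = proj ℳ (e + g) (c y • y) by rwa [h3]
    generalize c y = a
    induction a using GrLib.induction (ℳ := 𝒜) with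
    | zero => simp
    | hom i m hm =>
      rcases eq_or_ne i e with rfl | hne
      · rw [proj_of_mem (ℳ := 𝒜) hm, proj_of_mem (ℳ := ℳ) (GrLib.smul_mem hm hyg)]
      · rw [proj_of_mem_ne (ℳ := 𝒜) hm hne, zero_smul,
          proj_of_mem_ne (ℳ := ℳ) (GrLib.smul_mem hm hyg) fun h => hne (add_right_cancel h)]
    | add a b ha hb => rw [map_add, add_smul, ha, hb, add_smul, map_add]
  intro x hx
  obtain ⟨S, hS⟩ : ∃ S : Finset ι, ∀ g, g ∉ S → proj ℳ g x = 0 :=
    ⟨(GrLib.finite_support (ℳ := ℳ) x).toFinset, fun g hg => by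
      by_contra h
      exact hg ((Set.Finite.mem_toFinset _).2 h)⟩
  rw [← sum_proj (ℳ := ℳ) x hS]
  clear hS
  induction S using Finset.induction_on with
  | empty => exact ⟨1, one_mem _, by simp⟩
  | @insert g S hg ih =>
    obtain ⟨h, hh, hh'⟩ := ih
    obtain ⟨h₁, hh₁, hh₁'⟩ := hhom (proj ℳ g x) ⟨hC g hx, g, proj_mem ℳ g x⟩
    refine ⟨h₁ * h, mul_mem hh₁ hh, ?_⟩
    rw [Finset.sum_insert hg, smul_add]
    refine Submodule.add_mem _ ?_ ?_
    · rw [mul_comm, mul_smul]; exact Submodule.smul_mem _ _ hh₁'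
    · rw [mul_smul]; exact Submodule.smul_mem _ _ hh'

end Groth.Agent.CAlgH3.GrFree
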