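import Groth.Agent.GrLib.Acyclic
import Groth.Agent.LocCoh.ExtLocalize
import Groth.Agent.CAlgH3.GrFree
import Groth.Agent.CAlgH3.ExtShift
import Mathlib

/-!
For a graded module `M` and a homogeneous prime `P`, the modules `Ext^n(R/P, M)` localised at any
prime with homogeneous core `P` are free over the local ring of `R/P`, of rank independent of that
prime.
-/

set_option autoImplicit false

universe u

open DirectSum Groth.Agent.GrLib CategoryTheory Abelian
open scoped Pointwise

namespace Groth.Agent.CAlgH3.GrBassExt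

open GrLaurent

variable {ι : Type} [AddCommGroup ι] [DecidableEq ι] {R : Type u} [CommRing R]
  {σ : Type u} [SetLike σ R] [AddSubgroupClass σ R] {𝒜 : ι → σ} [GradedRing 𝒜] {M : Type u} [AddCommGroup M] [Module R M]
  {τ : Type u} [SetLike τ M] [AddSubgroupClass τ M] {ℳ : ι → τ} [Decomposition ℳ] [SetLike.GradedSMul 𝒜 ℳ]
  (E : GrLC.StarInjRes 𝒜 ℳ) (P : Ideal R)

/-- The elements killed by `P`. -/
abbrev tors (n : ℕ) : Submodule R (E.X n).carrier := Submodule.torsionBySet R _ (P : Set R)

/-- The cocycles of `Hom(R/P, E)`. -/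
abbrev cyc (n : ℕ) : Submodule R (E.X n).carrier := LinearMap.ker (E.d n) ⊓ tors E P n

/-- The coboundaries of `Hom(R/P, E)`. -/
def bd : (n : ℕ) → Submodule R (E.X n).carrier
  | 0 => ⊥
  | n + 1 => (tors E P n).map (E.d n)

theorem isHomogeneous_tors (hP : P.IsHomogeneous 𝒜) (n : ℕ) : (tors E P n).IsHomogeneous (E.X n).gr := by
  intro g x hx
  rw [Submodule.mem_torsionBySet_iff] at hx ⊢
  rintro ⟨a, ha⟩
  show a • proj (E.X n).gr g x = 0
  have key : ∀ i, proj 𝒜 i a • proj (E.X n).gr g x = 0 := fun i => by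
    have h0 : proj 𝒜 i a • x = 0 := hx ⟨_, hP i ha⟩
    rw [← GrLib.proj_smul (ℳ := (E.X n).gr) (proj_mem 𝒜 i a) g x, h0, map_zero]
  obtain ⟨S, hS⟩ : ∃ S : Finset ι, ∀ i, i ∉ S → proj 𝒜 i a = 0 :=
    ⟨(GrLib.finite_support (ℳ := 𝒜) a).toFinset, fun g hg => by
      by_contra h
      exact hg ((Set.Finite.mem_toFinset _).2 h)⟩
  rw [← sum_proj (ℳ := 𝒜) a hS, Finset.sum_smul]
  exact Finset.sum_eq_zero fun i _ => key i

theorem isHomogeneous_bd (hP : P.IsHomogeneous 𝒜) :
    ∀ n, (bd E P n).IsHomogeneous (E.X n).gr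
  | 0 => isHomogeneous_bot (E.X 0).gr
  | n + 1 => isHomogeneous_map (E.d_grHom n) (isHomogeneous_tors E P hP n)

theorem bd_le : ∀ n, bd E P n ≤ cyc E P n
  | 0 => bot_le
  | n + 1 => by
    rintro _ ⟨x, hx, rfl⟩
    refine ⟨d_comp_d E n x, ?_⟩
    simp only [SetLike.mem_coe, Submodule.mem_torsionBySet_iff] at hx ⊢
    intro a
    rw [← map_smul, hx a, map_zero]

theorem exists_family [P.IsPrime] (hP : P.IsHomogeneous 𝒜) (n : ℕ) :
    ∃ (I : Type u) (z : I → (E.X n).carrier), (∀ i, z i ∈ cyc E P n) ∧
      (∀ c : I →₀ R, c.sum (fun i a => a • z i) ∈ bd E P n → ∀ i, c i ∈ P) ∧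
      (∀ x ∈ cyc E P n, ∃ h ∈ homOutside 𝒜 P, h • x ∈ Submodule.span R (Set.range z) ⊔ bd E P n) :=
  GrFree.exists_free_part 𝒜 (E.X n).gr (isHomogeneous_bd E P hP n)
    (isHomogeneous_inf (E.X n).gr (isHomogeneous_ker (E.d_grHom n)) (isHomogeneous_tors E P hP n)) (bd_le E P n)
    fun a ha x hx => by
      rw [(Submodule.mem_torsionBySet_iff _ _).1 hx.2 ⟨a, ha⟩]
      exact zero_mem _

section localized

variable (q : Ideal R) [q.IsPrime]

/-- `P` in the local ring. -/
abbrev J : Ideal (Localization q.primeCompl) := P.map (algebraMap R (Localization q.primeCompl))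

/-- The localised terms. -/
abbrev Xq (n : ℕ) : Type u := LocalizedModule q.primeCompl (E.X n).carrier

/-- The localised differentials. -/
noncomputable abbrev dq (n : ℕ) : Xq E q n →ₗ[Localization q.primeCompl] Xq E q (n + 1) :=
  LocalizedModule.map q.primeCompl (E.d n)

/-- The localised cosyzygies. -/
noncomputable abbrev Zq (n : ℕ) : Submodule (Localization q.primeCompl) (Xq E q n) :=
  LinearMap.ker (dq E q n)

theorem exact_dq (n : ℕ) : Function.Exact (dq E q n) (dq E q (n + 1)) :=
  LocalizedModule.map_exact q.primeCompl _ _ (LinearMap.exact_iff.2 (E.exact_succ n))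

/-- The differential onto the next cosyzygy. -/
noncomputable def dZq (n : ℕ) : Xq E q n →ₗ[Localization q.primeCompl] Zq E q (n + 1) :=
  LinearMap.codRestrict _ (dq E q n) fun x => (exact_dq E q n).apply_apply_eq_zero x

theorem dZq_surjective (n : ℕ) : Function.Surjective (dZq E q n) := fun ⟨y, hy⟩ => by
  obtain ⟨x, rfl⟩ := (exact_dq E q n y).1 hy
  exact ⟨x, rfl⟩

theorem dZq_exact (n : ℕ) : Function.Exact (Zq E q n).subtype (dZq E q n) := fun x =>
  ⟨fun hx => ⟨⟨x, congrArg Subtype.val hx⟩, rfl⟩, fun ⟨y, hy⟩ => hy ▸ Subtype.ext y.2⟩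

/-- The local ring of `R/P` as the localised module. -/
theorem nonempty_localized_quot :
    Nonempty (LocalizedModule q.primeCompl (R ⧸ P) ≃ₗ[Localization q.primeCompl]
      (Localization q.primeCompl ⧸ J P q)) := by
  let f := Submodule.toLocalizedQuotient' (Localization q.primeCompl) q.primeCompl
    (Algebra.linearMap R (Localization q.primeCompl)) (P : Submodule R R)
  have e := LinearEquiv.extendScalarsOfIsLocalization q.primeCompl (Localization q.primeCompl)
    (IsLocalizedModule.iso q.primeCompl f)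
  exact ⟨e.trans (Submodule.quotEquivOfEq _ _ (Ideal.localized'_eq_map _ _ P))⟩

variable [IsNoetherianRing R]

theorem subsingleton_ext (hP : P.IsHomogeneous 𝒜) (n i : ℕ) :
    Subsingleton (Ext (ModuleCat.of (Localization q.primeCompl) (Localization q.primeCompl ⧸ J P q))
      (ModuleCat.of (Localization q.primeCompl) (Xq E q n)) (i + 1)) := by
  letI := qDecomp 𝒜 (p := (P : Submodule R R)) hP
  have h := LocCoh.subsingleton_ext_localized q.primeCompl (i + 1) (R ⧸ P) (E.X n).carrier
    (subsingleton_ext_of_isStarInj (ℳ := qGr 𝒜 (P : Submodule R R)) (E.starInj n) i inferInstance)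
  obtain ⟨e⟩ := nonempty_localized_quot P q
  exact (ExtShift.congrLeft e (i + 1)).symm.toEquiv.subsingleton

theorem nonempty_iterate (hP : P.IsHomogeneous 𝒜) : ∀ i n, Nonempty
    (Ext (ModuleCat.of (Localization q.primeCompl) (Localization q.primeCompl ⧸ J P q))
        (ModuleCat.of (Localization q.primeCompl) (Zq E q (n + i))) 1 ≃ₗ[Localization q.primeCompl]
      Ext (ModuleCat.of (Localization q.primeCompl) (Localization q.primeCompl ⧸ J P q))
        (ModuleCat.of (Localization q.primeCompl) (Zq E q n)) (i + 1)) := by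
  intro i
  induction i with
  | zero => exact fun n => ⟨LinearEquiv.refl _ _⟩
  | succ i ih =>
    intro n
    obtain ⟨e⟩ := ih (n + 1)
    haveI := subsingleton_ext E P q hP n i
    haveI := subsingleton_ext E P q hP n (i + 1)
    obtain ⟨e'⟩ := ExtShift.nonempty_shift (Localization q.primeCompl ⧸ J P q)
      (Zq E q n).injective_subtype (dZq_surjective E q n) (dZq_exact E q n) i
    rw [show n + (i + 1) = n + 1 + i by omega]
    exact ⟨e.trans e'⟩

theorem mk_add_same {n : ℕ} (x y : (E.X n).carrier) (t : q.primeCompl) :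
    LocalizedModule.mk (x + y) t = LocalizedModule.mk x t + LocalizedModule.mk y t := by
  rw [LocalizedModule.mk_add_mk, LocalizedModule.mk_eq]
  exact ⟨1, by simp [smul_add, mul_smul]⟩

/-- The elements of the localised terms killed by `P`. -/
noncomputable abbrev torsq (n : ℕ) : Submodule (Localization q.primeCompl) (Xq E q n) :=
  Submodule.torsionBySet _ _ (J P q : Set (Localization q.primeCompl))

/-- Localised cocycles. -/
noncomputable abbrev cycq (n : ℕ) : Submodule (Localization q.primeCompl) (Xq E q n) :=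
  Zq E q n ⊓ torsq E P q n

/-- Localised coboundaries. -/
noncomputable def bdq : (n : ℕ) → Submodule (Localization q.primeCompl) (Xq E q n)
  | 0 => ⊥
  | n + 1 => (torsq E P q n).map (dq E q n)

theorem smul_mk_one (a : R) {n : ℕ} (x : (E.X n).carrier) (s : q.primeCompl) :
    algebraMap R (Localization q.primeCompl) a • LocalizedModule.mk x s = LocalizedModule.mk (a • x) s := by
  rw [IsScalarTower.algebraMap_smul, LocalizedModule.smul'_mk]

theorem mem_torsq {n : ℕ} {v : Xq E q n} :
    v ∈ torsq E P q n ↔ ∀ a ∈ P, algebraMap R (Localization q.primeCompl) a • v = 0 := by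
  rw [Submodule.mem_torsionBySet_iff]
  refine ⟨fun h a ha => h ⟨_, Ideal.mem_map_of_mem _ ha⟩, fun h => ?_⟩
  rintro ⟨b, hb⟩
  show b • v = 0
  have hb' : b ∈ Ideal.span ((algebraMap R (Localization q.primeCompl)) '' P) := hb
  induction hb' using Submodule.span_induction with
  | mem x hx => obtain ⟨a, ha, rfl⟩ := hx; exact h a ha
  | zero => exact zero_smul _ v
  | add x y _ _ hx hy => rw [add_smul, hx (by assumption), hy (by assumption), add_zero]
  | smul c x _ hx => rw [smul_eq_mul, mul_smul, hx (by assumption), smul_zero]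

/-- A torsion class in the localisation has a torsion representative. -/
theorem exists_rep {n : ℕ} {v : Xq E q n} (hv : v ∈ torsq E P q n) :
    ∃ (y : (E.X n).carrier) (s : q.primeCompl), y ∈ tors E P n ∧ LocalizedModule.mk y s = v := by
  classical
  induction v using LocalizedModule.induction_on with
  | _ x s =>
  obtain ⟨G, hG⟩ := IsNoetherian.noetherian P
  have h : ∀ a : G, ∃ t : q.primeCompl, (t : R) • ((a : R) • x) = 0 := fun a => by
    have ha : (a : R) ∈ P := hG ▸ Submodule.subset_span a.2
    have h0 := (mem_torsq E P q).1 hv _ ha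
    rw [smul_mk_one, ← LocalizedModule.zero_mk s, LocalizedModule.mk_eq] at h0
    obtain ⟨t, ht⟩ := h0
    refine ⟨t * s, ?_⟩
    simpa [mul_smul, Submonoid.smul_def] using ht
  choose t ht using h
  refine ⟨(∏ a, t a : q.primeCompl) • x, (∏ a, t a) * s, ?_, ?_⟩
  · rw [Submodule.mem_torsionBySet_iff]
    rintro ⟨b, hb⟩
    show b • ((∏ a, t a : q.primeCompl) • x) = 0
    replace hb : b ∈ Submodule.span R (G : Set R) := hG.symm ▸ hb
    induction hb using Submodule.span_induction with
    | mem a ha =>
      obtain ⟨c, hc⟩ := Finset.dvd_prod_of_mem t (Finset.mem_univ (⟨a, ha⟩ : G))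
      rw [hc, mul_comm, mul_smul, Submonoid.smul_def, Submonoid.smul_def, smul_comm a, smul_comm a,
        ht ⟨a, ha⟩, smul_zero]
    | zero => exact zero_smul _ _
    | add c d _ _ hc hd => rw [add_smul, hc, hd, add_zero]
    | smul c d _ hd => rw [smul_eq_mul, mul_smul, hd, smul_zero]
  · exact LocalizedModule.mk_cancel_common_left _ _ _

theorem mk_mem_torsq {n : ℕ} {y : (E.X n).carrier} (hy : y ∈ tors E P n) (s : q.primeCompl) :
    LocalizedModule.mk y s ∈ torsq E P q n :=
  (mem_torsq E P q).2 fun a ha => by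
    rw [smul_mk_one, (Submodule.mem_torsionBySet_iff _ _).1 hy ⟨a, ha⟩, LocalizedModule.zero_mk]

theorem exists_cyc_rep {n : ℕ} {v : Xq E q n} (hv : v ∈ cycq E P q n) :
    ∃ (y : (E.X n).carrier) (s : q.primeCompl), y ∈ cyc E P n ∧ LocalizedModule.mk y s = v := by
  obtain ⟨y, s, hy, rfl⟩ := exists_rep E P q hv.2
  have h0 : dq E q n (LocalizedModule.mk y s) = 0 := hv.1
  rw [LocalizedModule.map_mk, ← LocalizedModule.zero_mk s, LocalizedModule.mk_eq] at h0
  obtain ⟨u, hu⟩ := h0
  refine ⟨(u * s) • y, (u * s) * s, ⟨?_, Submodule.smul_mem _ _ hy⟩, ?_⟩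
  · show E.d n ((u * s) • y) = 0
    rw [Submonoid.smul_def, map_smul, ← Submonoid.smul_def, mul_smul]
    simpa using hu
  · exact LocalizedModule.mk_cancel_common_left _ _ _

theorem mk_mem_cycq {n : ℕ} {y : (E.X n).carrier} (hy : y ∈ cyc E P n) (s : q.primeCompl) :
    LocalizedModule.mk y s ∈ cycq E P q n := by
  refine ⟨?_, mk_mem_torsq E P q hy.2 s⟩
  show dq E q n (LocalizedModule.mk y s) = 0
  rw [LocalizedModule.map_mk, show E.d n y = 0 from hy.1, LocalizedModule.zero_mk]

theorem exists_bd_rep : ∀ {n : ℕ} {v : Xq E q n}, v ∈ bdq E P q n →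
    ∃ (y : (E.X n).carrier) (s : q.primeCompl), y ∈ bd E P n ∧ LocalizedModule.mk y s = v
  | 0, v, hv => ⟨0, 1, zero_mem _, by rw [LocalizedModule.zero_mk, (Submodule.mem_bot _).1 hv]⟩
  | n + 1, _, ⟨w, hw, e⟩ => by
    obtain ⟨y, s, hy, rfl⟩ := exists_rep E P q hw
    refine ⟨E.d n y, s, ⟨y, hy, rfl⟩, ?_⟩
    rw [← e, LocalizedModule.map_mk]

theorem mk_mem_bdq : ∀ {n : ℕ} {y : (E.X n).carrier}, y ∈ bd E P n → ∀ s : q.primeCompl,
    LocalizedModule.mk y s ∈ bdq E P q n
  | 0, _, hy, s => by rw [(Submodule.mem_bot _).1 hy, LocalizedModule.zero_mk]; exact zero_mem _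
  | n + 1, _, ⟨w, hw, e⟩, s => ⟨LocalizedModule.mk w s, mk_mem_torsq E P q hw s, by
      rw [LocalizedModule.map_mk, e]⟩

/-- `Hom` out of the cyclic module `S/J` into a submodule, as elements killed by `J`. -/
noncomputable def evalOne {n : ℕ} (W : Submodule (Localization q.primeCompl) (Xq E q n)) :
    ((Localization q.primeCompl ⧸ J P q) →ₗ[Localization q.primeCompl] W) →ₗ[Localization q.primeCompl]
      Xq E q n where
  toFun φ := (φ (Ideal.Quotient.mk _ 1) : Xq E q n)
  map_add' _ _ := rfl
  map_smul' _ _ := rfl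

theorem evalOne_injective {n : ℕ} (W : Submodule (Localization q.primeCompl) (Xq E q n)) :
    Function.Injective (evalOne E P q W) := fun φ ψ h => by
  refine LinearMap.ext fun x => ?_
  obtain ⟨x, rfl⟩ := Submodule.Quotient.mk_surjective _ x
  have hx : (Submodule.Quotient.mk x : Localization q.primeCompl ⧸ J P q) =
      x • Ideal.Quotient.mk _ 1 := by
    rw [← Ideal.Quotient.mk_eq_mk, ← Submodule.Quotient.mk_smul, smul_eq_mul, mul_one]
  rw [hx, map_smul, map_smul]
  exact congrArg _ (Subtype.ext h)

theorem range_evalOne {n : ℕ} (W : Submodule (Localization q.primeCompl) (Xq E q n)) :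
    LinearMap.range (evalOne E P q W) = W ⊓ torsq E P q n := by
  refine le_antisymm ?_ fun v hv => ?_
  · rintro _ ⟨φ, rfl⟩
    refine ⟨(φ _).2, (Submodule.mem_torsionBySet_iff _ _).2 fun a => ?_⟩
    have h : (a : Localization q.primeCompl) • (Ideal.Quotient.mk (J P q) 1) = 0 := by
      rw [← Ideal.Quotient.mk_eq_mk, ← Submodule.Quotient.mk_smul, smul_eq_mul, mul_one,
        Submodule.Quotient.mk_eq_zero]
      exact a.2
    show (a : Localization q.primeCompl) • ((φ (Ideal.Quotient.mk _ 1)) : Xq E q n) = 0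
    rw [← Submodule.coe_smul, ← map_smul, h, map_zero, Submodule.coe_zero]
  · refine ⟨(J P q).liftQ (LinearMap.toSpanSingleton _ W ⟨v, hv.1⟩) fun a ha => ?_, ?_⟩
    · rw [LinearMap.mem_ker, LinearMap.toSpanSingleton_apply]
      exact Subtype.ext ((Submodule.mem_torsionBySet_iff _ _).1 hv.2 ⟨a, ha⟩)
    · show ((1 : Localization q.primeCompl) • (⟨v, hv.1⟩ : W) : W).1 = v
      rw [one_smul]

/-- The comparison of `Ext` with the localised cohomology of `Hom(R/P, E)`. -/
theorem nonempty_ext_equiv (hP : P.IsHomogeneous 𝒜) : ∀ n, Nonempty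
    (Ext (ModuleCat.of (Localization q.primeCompl) (Localization q.primeCompl ⧸ J P q))
        (ModuleCat.of (Localization q.primeCompl) (LocalizedModule q.primeCompl M)) n
      ≃ₗ[Localization q.primeCompl]
      (cycq E P q n ⧸ (bdq E P q n).comap (cycq E P q n).subtype)) := by
  intro n
  have hinj : Function.Injective (LocalizedModule.map q.primeCompl E.ε) :=
    LocalizedModule.map_injective _ _ E.ε_injective
  have hex : Function.Exact (LocalizedModule.map q.primeCompl E.ε) (dq E q 0) :=
    LocalizedModule.map_exact q.primeCompl _ _ (LinearMap.exact_iff.2 E.exact_zero)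
  have hrange : LinearMap.range (LocalizedModule.map q.primeCompl E.ε) = Zq E q 0 :=
    (LinearMap.exact_iff.1 hex).symm
  let eM := (LinearEquiv.ofInjective _ hinj).trans (LinearEquiv.ofEq _ _ hrange)
  let cong := ExtShift.congrRight (N := Localization q.primeCompl ⧸ J P q) eM
  match n with
  | 0 =>
    let ev := (LinearEquiv.ofInjective _ (evalOne_injective E P q (Zq E q 0))).trans
      (LinearEquiv.ofEq _ (cycq E P q 0) (range_evalOne E P q (Zq E q 0)))
    let h0 : Ext (ModuleCat.of (Localization q.primeCompl) (Localization q.primeCompl ⧸ J P q))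
        (ModuleCat.of (Localization q.primeCompl) (Zq E q 0)) 0 ≃ₗ[Localization q.primeCompl]
        ((Localization q.primeCompl ⧸ J P q) →ₗ[Localization q.primeCompl] Zq E q 0) :=
      (Ext.linearEquiv₀ (R := Localization q.primeCompl)).trans
        (ModuleCat.homLinearEquiv (S := Localization q.primeCompl)
          (M := ModuleCat.of (Localization q.primeCompl) (Localization q.primeCompl ⧸ J P q))
          (N := ModuleCat.of (Localization q.primeCompl) (Zq E q 0)))
    refine ⟨((cong 0).trans (h0.trans ev)).trans (Submodule.quotEquivOfEqBot _ ?_).symm⟩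
    rw [eq_bot_iff]
    exact fun z hz => (Submodule.mem_bot (Localization q.primeCompl)).2
      (Subtype.ext ((Submodule.mem_bot (Localization q.primeCompl)).1 hz))
  | k + 1 =>
    obtain ⟨e⟩ := nonempty_iterate E P q hP k 0
    rw [zero_add] at e
    haveI := subsingleton_ext E P q hP k 0
    obtain ⟨e₁⟩ := ExtShift.nonempty_one (Localization q.primeCompl ⧸ J P q)
      (Zq E q k).injective_subtype (dZq_surjective E q k) (dZq_exact E q k)
    let ev := (LinearEquiv.ofInjective _ (evalOne_injective E P q (Zq E q (k + 1)))).trans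
      (LinearEquiv.ofEq _ (cycq E P q (k + 1)) (range_evalOne E P q (Zq E q (k + 1))))
    refine ⟨((cong (k + 1)).trans (e.symm.trans e₁.symm)).trans (Submodule.Quotient.equiv _ _ ev ?_)⟩
    refine le_antisymm ?_ ?_
    · rintro _ ⟨_, ⟨φ, rfl⟩, rfl⟩
      refine ⟨(φ (Ideal.Quotient.mk _ 1) : Xq E q k), ?_, rfl⟩
      exact ((range_evalOne E P q (⊤ : Submodule _ (Xq E q k))).le
        ⟨(Submodule.topEquiv.symm : Xq E q k ≃ₗ[Localization q.primeCompl] _).toLinearMap ∘ₗ φ, rfl⟩).2
    · rintro ⟨_, hz⟩ ⟨w, hw, rfl⟩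
      obtain ⟨φ, hφ⟩ := (range_evalOne E P q (⊤ : Submodule _ (Xq E q k))).ge ⟨trivial, hw⟩
      refine ⟨ExtShift.homPost _ (dZq E q k) ((Submodule.subtype _) ∘ₗ φ), ⟨_, rfl⟩, Subtype.ext ?_⟩
      show dq E q k (evalOne E P q ⊤ φ) = _
      rw [hφ]

/-- The free structure. -/
theorem nonempty_ext_finsupp [P.IsPrime] (hP : P.IsHomogeneous 𝒜) (hPq : P ≤ q) (hq : ∀ h ∈ homOutside 𝒜 P, h ∉ q)
    (n : ℕ) {I : Type u} (z : I → (E.X n).carrier) (hz : ∀ i, z i ∈ cyc E P n)
    (hind : ∀ c : I →₀ R, c.sum (fun i a => a • z i) ∈ bd E P n → ∀ i, c i ∈ P)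
    (hgen : ∀ x ∈ cyc E P n, ∃ h ∈ homOutside 𝒜 P,
      h • x ∈ Submodule.span R (Set.range z) ⊔ bd E P n) :
    Nonempty (Ext (ModuleCat.of (Localization q.primeCompl) (Localization q.primeCompl ⧸ J P q))
        (ModuleCat.of (Localization q.primeCompl) (LocalizedModule q.primeCompl M)) n
      ≃ₗ[Localization q.primeCompl] (I →₀ (Localization q.primeCompl ⧸ J P q))) := by
  classical
  obtain ⟨e⟩ := nonempty_ext_equiv E P q hP n
  let Q := (bdq E P q n).comap (cycq E P q n).subtype
  let ζ : I → cycq E P q n := fun i => ⟨LocalizedModule.mk (z i) 1, mk_mem_cycq E P q (hz i) 1⟩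
  let Φ : (I →₀ Localization q.primeCompl) →ₗ[Localization q.primeCompl] cycq E P q n ⧸ Q :=
    Q.mkQ ∘ₗ Finsupp.linearCombination _ ζ
  have hsurj : Function.Surjective Φ := fun v => by
    obtain ⟨⟨v, hv⟩, rfl⟩ := Submodule.mkQ_surjective _ v
    obtain ⟨y, s, hy, rfl⟩ := exists_cyc_rep E P q hv
    obtain ⟨h, hh, hh'⟩ := hgen y hy
    obtain ⟨w, hw, b, hb, hwb⟩ := Submodule.mem_sup.1 hh'
    rw [Finsupp.mem_span_range_iff_exists_finsupp] at hw
    obtain ⟨c, rfl⟩ := hw
    let u : q.primeCompl := ⟨h, hq h hh⟩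
    refine ⟨Localization.mk 1 (u * s) • c.mapRange (algebraMap R _) (map_zero _), ?_⟩
    rw [map_smul]
    show Q.mkQ (Localization.mk 1 (u * s) • Finsupp.linearCombination _ ζ _) = _
    rw [Submodule.mkQ_apply, Submodule.mkQ_apply, Submodule.Quotient.eq]
    show _ - LocalizedModule.mk y s ∈ bdq E P q n
    have hc : ((Finsupp.linearCombination (Localization q.primeCompl) ζ
        (c.mapRange (algebraMap R _) (map_zero _)) : cycq E P q n) : Xq E q n) =
        LocalizedModule.mk (c.sum fun i a => a • z i) 1 := by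
      rw [Finsupp.linearCombination_apply, Finsupp.sum_mapRange_index (h := fun i a => a • ζ i) (fun i => zero_smul (Localization q.primeCompl) (ζ i)),
        Finsupp.sum, Finsupp.sum, AddSubmonoidClass.coe_finsetSum, ← LocalizedModule.mkLinearMap_apply,
        map_sum]
      refine Finset.sum_congr rfl fun i _ => ?_
      rw [Submodule.coe_smul, smul_mk_one, LocalizedModule.mkLinearMap_apply]
    rw [Submodule.coe_smul, hc, LocalizedModule.mk_smul_mk, one_smul, mul_one,
      show LocalizedModule.mk y s = LocalizedModule.mk (h • y) (u * s) from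
        (LocalizedModule.mk_cancel_common_left u s y).symm,
      ← hwb, mk_add_same,
      sub_add_eq_sub_sub, sub_self, zero_sub]
    exact neg_mem (mk_mem_bdq E P q hb _)
  let r : (I →₀ Localization q.primeCompl) →ₗ[Localization q.primeCompl]
      (I →₀ (Localization q.primeCompl ⧸ J P q)) :=
    Finsupp.mapRange.linearMap (Submodule.mkQ (J P q))
  have hr : Function.Surjective r :=
    Finsupp.mapRange_surjective _ (map_zero _) (Submodule.mkQ_surjective _)
  have hker : LinearMap.ker r = LinearMap.ker Φ := by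
    refine le_antisymm (fun c hc => ?_) fun c hc => ?_
    · have hci : ∀ i, c i ∈ J P q := fun i => (Submodule.Quotient.mk_eq_zero _).1 (DFunLike.congr_fun hc i)
      show Q.mkQ (Finsupp.linearCombination _ ζ c) = 0
      rw [Finsupp.linearCombination_apply]
      refine (congrArg Q.mkQ (Finset.sum_eq_zero fun i _ => Subtype.ext ?_)).trans (map_zero _)
      exact (Submodule.mem_torsionBySet_iff _ _).1 (ζ i).2.2 ⟨c i, hci i⟩
    · have hc' : ((Finsupp.linearCombination (Localization q.primeCompl) ζ c : cycq E P q n) : Xq E q n) ∈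
          bdq E P q n := (Submodule.Quotient.mk_eq_zero Q).1 hc
      obtain ⟨⟨b, hb⟩, hbi⟩ := IsLocalization.exist_integer_multiples q.primeCompl c.support c
      choose a ha using hbi
      let a' : I → R := fun i => if hi : i ∈ c.support then a i hi else 0
      let cR : I →₀ R := Finsupp.onFinset c.support a' fun i hi => by
        by_contra h
        exact hi (dif_neg h)
      have ha' : ∀ i, algebraMap R (Localization q.primeCompl) (cR i) = b • c i := fun i => by
        by_cases hi : i ∈ c.support
        · show algebraMap R _ (a' i) = _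
          simp only [a', dif_pos hi]
          exact ha i hi
        · show algebraMap R _ (a' i) = _
          simp only [a', dif_neg hi]
          rw [map_zero, Finsupp.notMem_support_iff.1 hi, smul_zero]
      have hsum : LocalizedModule.mk (cR.sum fun i r => r • z i) 1 ∈ bdq E P q n := by
        have h1 : ((Finsupp.linearCombination (Localization q.primeCompl) ζ (b • c) : cycq E P q n) :
            Xq E q n) = LocalizedModule.mk (cR.sum fun i r => r • z i) 1 := by
          rw [show b • c = cR.mapRange (algebraMap R _) (map_zero _) from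
              Finsupp.ext fun i => by rw [Finsupp.smul_apply, Finsupp.mapRange_apply, ha'],
            Finsupp.linearCombination_apply, Finsupp.sum_mapRange_index (h := fun i a => a • ζ i) (fun i => zero_smul (Localization q.primeCompl) (ζ i)),
            Finsupp.sum, Finsupp.sum, AddSubmonoidClass.coe_finsetSum,
            ← LocalizedModule.mkLinearMap_apply, map_sum]
          refine Finset.sum_congr rfl fun i _ => ?_
          rw [Submodule.coe_smul, smul_mk_one, LocalizedModule.mkLinearMap_apply]
        rw [← h1, ← IsScalarTower.algebraMap_smul (Localization q.primeCompl) b c, map_smul,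
          Submodule.coe_smul]
        exact Submodule.smul_mem _ _ hc'
      obtain ⟨y, s, hy, hys⟩ := exists_bd_rep E P q hsum
      rw [LocalizedModule.mk_eq] at hys
      obtain ⟨u, hu⟩ := hys
      have hB : ((((u * s : q.primeCompl) : R)) • cR).sum (fun i r => r • z i) ∈ bd E P n := by
        rw [Finsupp.sum_smul_index (fun i => zero_smul R (z i))]
        simp only [mul_smul]
        rw [← Finsupp.smul_sum, ← Submonoid.smul_def, mul_smul]
        simp only [one_smul] at hu
        rw [← hu, Submonoid.smul_def]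
        exact Submodule.smul_mem _ _ hy
      refine Finsupp.ext fun i => (Submodule.Quotient.mk_eq_zero _).2 ?_
      have h2 : ((u * s : q.primeCompl) : R) * cR i ∈ P := by
        simpa using hind _ hB i
      have hus : ((u * s : q.primeCompl) : R) ∉ P := fun h => (u * s).2 (hPq h)
      have hcR : cR i ∈ P := (Ideal.IsPrime.mem_or_mem ‹_› h2).resolve_left hus
      have h3 := Ideal.mem_map_of_mem (algebraMap R (Localization q.primeCompl)) hcR
      rw [ha', Algebra.smul_def] at h3
      exact (Ideal.unit_mul_mem_iff_mem _ (IsLocalization.map_units (Localization q.primeCompl)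
        (⟨b, hb⟩ : q.primeCompl))).1 h3
  exact ⟨e.trans (((Φ.quotKerEquivOfSurjective hsurj).symm.trans
    (Submodule.quotEquivOfEq _ _ hker.symm)).trans (r.quotKerEquivOfSurjective hr))⟩

end localized

end Groth.Agent.CAlgH3.GrBassExt
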