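import Groth.Agent.CAlgH3.GrBass
import Groth.Agent.GrLib.GradedDim
import Groth.Agent.LocCoh.Depth
import Mathlib

/-!
Consequences: the shift of Bass numbers and of depth from the homogeneous core.
-/

set_option autoImplicit false

universe u

open DirectSum Groth.Agent.GrLib CategoryTheory Abelian IsLocalRing

namespace Groth.Agent.CAlgH3.GrBassApps

section shift

variable {ι : Type} [AddCommGroup ι] [DecidableEq ι] [Module.Free ℤ ι] [Module.Finite ℤ ι]
  {R : Type u} [CommRing R] [IsNoetherianRing R] {σ : Type u} [SetLike σ R] [AddSubgroupClass σ R] (𝒜 : ι → σ) [GradedRing 𝒜]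
  (M : Type u) [AddCommGroup M] [Module R M] {τ : Type u} [SetLike τ M] [AddSubgroupClass τ M] (ℳ : ι → τ) [Decomposition ℳ]
  [SetLike.GradedSMul 𝒜 ℳ] (p : Ideal R) [p.IsPrime]
  [(Ideal.homogeneousCore 𝒜 p).toIdeal.IsPrime] (d : ℕ)

include ℳ in
theorem bassNum_shift (hd : (p.map (Ideal.Quotient.mk (Ideal.homogeneousCore 𝒜 p).toIdeal)).height = d) :
    (∀ i : ℕ, i < d → GrLC.bassNum p M i = 0) ∧
      (∀ i : ℕ, d ≤ i → GrLC.bassNum p M i =
        GrLC.bassNum (Ideal.homogeneousCore 𝒜 p).toIdeal M (i - d)) :=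
  ⟨fun i hi => (GrBass.bassNum_core (ℳ := ℳ) p d hd i).trans (if_pos hi),
    fun i hi => (GrBass.bassNum_core (ℳ := ℳ) p d hd i).trans (if_neg (not_lt.2 hi))⟩

theorem natCast_le_depth_iff [Module.Finite R M] (q : Ideal R) [q.IsPrime] (n : ℕ) :
    (n : ℕ∞) ≤ _root_.LocCoh.depth (Localization.AtPrime q) (LocalizedModule q.primeCompl M) ↔
      ∀ i < n, GrLC.bassNum q M i = 0 := by
  rw [_root_.LocCoh.depth, LocCoh.natCast_le_idealDepth_iff_ext]
  exact forall₂_congr fun i _ => Module.length_eq_zero_iff.symm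

include ℳ in
theorem depth_shift [Module.Finite R M]
    (hd : (p.map (Ideal.Quotient.mk (Ideal.homogeneousCore 𝒜 p).toIdeal)).height = d) :
    _root_.LocCoh.depth (Localization.AtPrime p) (LocalizedModule p.primeCompl M) =
      _root_.LocCoh.depth (Localization.AtPrime (Ideal.homogeneousCore 𝒜 p).toIdeal)
        (LocalizedModule (Ideal.homogeneousCore 𝒜 p).toIdeal.primeCompl M) + d := by
  obtain ⟨h1, h2⟩ := bassNum_shift 𝒜 M ℳ p d hd
  refine ENat.eq_of_forall_natCast_le_iff fun n => ?_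
  rw [natCast_le_depth_iff]
  have key : (n : ℕ∞) ≤ _root_.LocCoh.depth (Localization.AtPrime (Ideal.homogeneousCore 𝒜 p).toIdeal)
      (LocalizedModule (Ideal.homogeneousCore 𝒜 p).toIdeal.primeCompl M) + d ↔
      ((n - d : ℕ) : ℕ∞) ≤ _root_.LocCoh.depth (Localization.AtPrime (Ideal.homogeneousCore 𝒜 p).toIdeal)
      (LocalizedModule (Ideal.homogeneousCore 𝒜 p).toIdeal.primeCompl M) := by
    generalize _root_.LocCoh.depth (Localization.AtPrime (Ideal.homogeneousCore 𝒜 p).toIdeal)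
      (LocalizedModule (Ideal.homogeneousCore 𝒜 p).toIdeal.primeCompl M) = a
    induction a using ENat.recTopCoe with
    | top => simp
    | coe a =>
      rw [← Nat.cast_add, Nat.cast_le, Nat.cast_le]
      omega
  rw [key, natCast_le_depth_iff]
  constructor
  · intro h j hj
    have := h (j + d) (by omega)
    rwa [h2 (j + d) (Nat.le_add_left d j), Nat.add_sub_cancel] at this
  · intro h i hi
    rcases Nat.lt_or_ge i d with hid | hid
    · exact h1 i hid
    · rw [h2 i hid]
      exact h (i - d) (by omega)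

end shift

section int

variable {R : Type u} [CommRing R] {σ : Type u} [SetLike σ R] [AddSubgroupClass σ R] (𝒜 : ℤ → σ) [GradedRing 𝒜]

theorem height_map_core_eq_one (p : Ideal R) [p.IsPrime] (hp : ¬ Ideal.IsHomogeneous 𝒜 p) :
    (p.map (Ideal.Quotient.mk (Ideal.homogeneousCore 𝒜 p).toIdeal)).height = (1 : ℕ) := by
  let P := (Ideal.homogeneousCore 𝒜 p).toIdeal
  have hPp : P ≤ p := Ideal.toIdeal_homogeneousCore_le 𝒜 p
  haveI : P.IsPrime := Ideal.IsPrime.homogeneousCore ‹_›
  have hne : P ≠ p := fun h => hp (h ▸ (Ideal.homogeneousCore 𝒜 p).isHomogeneous)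
  haveI hq : (p.map (Ideal.Quotient.mk P)).IsPrime :=
    Ideal.map_isPrime_of_surjective Ideal.Quotient.mk_surjective (by rwa [Ideal.mk_ker])
  have hcomap : (p.map (Ideal.Quotient.mk P)).comap (Ideal.Quotient.mk P) = p := by
    rw [Ideal.comap_map_of_surjective _ Ideal.Quotient.mk_surjective, ← RingHom.ker_eq_comap_bot,
      Ideal.mk_ker, sup_eq_left.2 hPp]
  have hb : (⊥ : Ideal (R ⧸ P)).height = 0 := Ideal.height_bot
  refine le_antisymm (Ideal.height_le_iff.2 fun q hq' hlt => ?_) ?_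
  · haveI := hq'
    have hle : P ≤ q.comap (Ideal.Quotient.mk P) := fun x hx => by
      rw [Ideal.mem_comap, Ideal.Quotient.eq_zero_iff_mem.2 hx]
      exact zero_mem q
    have hlt' : q.comap (Ideal.Quotient.mk P) < p :=
      (Ideal.orderEmbeddingOfSurjective _ Ideal.Quotient.mk_surjective |>.strictMono hlt).trans_eq hcomap
    have hc : (Ideal.homogeneousCore 𝒜 (q.comap (Ideal.Quotient.mk P))).toIdeal = P := by
      refine le_antisymm (Ideal.homogeneousCore_mono 𝒜 hlt'.le) ?_
      exact fun x hx => by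
        have h := Ideal.homogeneousCore_mono 𝒜 hle
        rw [HomogeneousIdeal.toIdeal_homogeneousCore_eq_self] at h
        exact h hx
    have heq := (eq_core_of_lt inferInstance ‹p.IsPrime› hlt' hc).trans hc
    have hq0 : q = ⊥ := by
      rw [← Ideal.map_comap_of_surjective (Ideal.Quotient.mk P) Ideal.Quotient.mk_surjective q, heq,
        Ideal.map_quotient_self]
    rw [hq0, hb]
    exact_mod_cast Nat.one_pos
  · have hlt : (⊥ : Ideal (R ⧸ P)) < p.map (Ideal.Quotient.mk P) := by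
      refine bot_lt_iff_ne_bot.2 fun h => hne ?_
      refine Eq.trans ?_ hcomap
      rw [h, ← RingHom.ker_eq_comap_bot, Ideal.mk_ker]
    have := Ideal.height_add_one_le_of_lt_of_isPrime hlt
    rwa [hb, zero_add] at this

theorem bassNum_not_homogeneous [IsNoetherianRing R] (M : Type u) [AddCommGroup M] [Module R M]
    {τ : Type u} [SetLike τ M] [AddSubgroupClass τ M] (ℳ : ℤ → τ) [Decomposition ℳ] [SetLike.GradedSMul 𝒜 ℳ] (p : Ideal R) [p.IsPrime]
    (hp : ¬ Ideal.IsHomogeneous 𝒜 p) [(Ideal.homogeneousCore 𝒜 p).toIdeal.IsPrime] :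
    GrLC.bassNum p M 0 = 0 ∧
      ∀ i : ℕ, GrLC.bassNum p M (i + 1) = GrLC.bassNum (Ideal.homogeneousCore 𝒜 p).toIdeal M i := by
  obtain ⟨h1, h2⟩ := bassNum_shift 𝒜 M ℳ p 1 (height_map_core_eq_one 𝒜 p hp)
  exact ⟨h1 0 Nat.one_pos, fun i => h2 (i + 1) (Nat.succ_pos i)⟩

end int

end Groth.Agent.CAlgH3.GrBassApps
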