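import Groth.Prelude.Def_Wider
import Groth.Agent.CAlgH3.GrBassApps
import Groth.Agent.CAlgH3.ProjDim
import Groth.Agent.GrLib.Prime
import Groth.Agent.GrLib.Hull
import Groth.Agent.LocCoh.ExtLocalGlobal
import Mathlib

/-!
*Injective modules over `ℤ`-graded rings have injective dimension at most one.
-/

set_option autoImplicit false

universe u

open DirectSum Groth.Agent.GrLib CategoryTheory Abelian IsLocalRing

namespace Groth.Agent.CAlgH3.GrInjDim

section general

variable {R : Type u} [CommRing R]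

/-- The residue field as a localised module. -/
theorem nonempty_resEquiv (p : Ideal R) [p.IsPrime] :
    Nonempty (LocalizedModule p.primeCompl (R ⧸ p) ≃ₗ[Localization p.primeCompl]
      ResidueField (Localization.AtPrime p)) := by
  let S := Localization p.primeCompl
  obtain ⟨e⟩ := GrBassExt.nonempty_localized_quot p p
  have hJ : GrBassExt.J p p = maximalIdeal S := Localization.AtPrime.map_eq_maximalIdeal
  exact ⟨e.trans ((Submodule.quotEquivOfEq _ _ (hJ.trans (Submodule.ext fun x => (residue_eq_zero_iff x).symm))).trans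
    ((Algebra.linearMap S (ResidueField S)).quotKerEquivOfSurjective residue_surjective))⟩

variable (M : Type u) [AddCommGroup M] [Module R M]

theorem bassNum_eq_zero_iff (p : Ideal R) [p.IsPrime] (k : ℕ) :
    GrLC.bassNum p M k = 0 ↔
      Subsingleton (Ext (ModuleCat.of (Localization p.primeCompl) (LocalizedModule p.primeCompl (R ⧸ p)))
        (ModuleCat.of (Localization p.primeCompl) (LocalizedModule p.primeCompl M)) k) := by
  obtain ⟨e⟩ := nonempty_resEquiv p
  exact Module.length_eq_zero_iff.trans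
    (ExtShift.congrLeft (M := LocalizedModule p.primeCompl M) e k).symm.toEquiv.subsingleton_congr

variable [IsNoetherianRing R]

/-- Vanishing of `Ext^k(R/p, M)` for all primes gives vanishing for all finite modules. -/
theorem subsingleton_ext_of_primes (k : ℕ) (N : Type u) [AddCommGroup N] [Module R N] [Module.Finite R N]
    (h : ∀ q : PrimeSpectrum R, q ∈ Module.support R N →
      Subsingleton (Ext (ModuleCat.of R (R ⧸ q.1)) (ModuleCat.of R M) k)) :
    Subsingleton (Ext (ModuleCat.of R N) (ModuleCat.of R M) k) := by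
  revert h
  refine IsNoetherianRing.induction_on_isQuotientEquivQuotientPrime (A := R) (M := N) inferInstance
    (motive := fun N _ _ _ => (∀ q : PrimeSpectrum R, q ∈ Module.support R N →
      Subsingleton (Ext (ModuleCat.of R (R ⧸ q.1)) (ModuleCat.of R M) k)) →
      Subsingleton (Ext (ModuleCat.of R N) (ModuleCat.of R M) k)) ?_ ?_ ?_
  · intro N _ _ _ _ _
    refine subsingleton_of_forall_eq 0 fun e => ?_
    have h := LocCoh.ext_smul_eq_zero_left (M := N) (N := M) (r := (1 : R))
      (fun x => Subsingleton.elim _ _) e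
    rwa [one_smul] at h
  · intro N _ _ _ p e h
    haveI := h p (by
      rw [e.support_eq, Module.mem_support_iff_of_finite, Ideal.annihilator_quotient])
    exact (ExtShift.congrLeft (M := M) e k).toEquiv.subsingleton
  · intro N₁ _ _ _ N₂ _ _ _ N₃ _ _ _ f g hf hg hfg h₁ h₃ h
    haveI := h₁ fun q hq => h q (Module.support_subset_of_injective f hf hq)
    haveI := h₃ fun q hq => h q (Module.support_subset_of_surjective g hg hq)
    refine subsingleton_of_forall_eq 0 fun x => ?_
    obtain ⟨y, rfl⟩ := Ext.contravariant_sequence_exact₂ (LocCoh.shortExact_of hf hg hfg)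
      (ModuleCat.of R M) x
      (Subsingleton.elim (α := Ext (ModuleCat.of R N₁) (ModuleCat.of R M) k) _ _)
    rw [show y = 0 from Subsingleton.elim (α := Ext (ModuleCat.of R N₃) (ModuleCat.of R M) k) y 0,
      Ext.comp_zero]

/-- If the `k`-th Bass numbers all vanish then `Ext^k(-, M)` vanishes on finite modules. -/
theorem subsingleton_ext_of_bassNum (k : ℕ)
    (h : ∀ (p : Ideal R) [p.IsPrime], GrLC.bassNum p M k = 0)
    (N : Type u) [AddCommGroup N] [Module R N] [Module.Finite R N] :
    Subsingleton (Ext (ModuleCat.of R N) (ModuleCat.of R M) k) := by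
  refine subsingleton_ext_of_primes M k N fun q hq' => ?_
  clear hq'
  obtain ⟨p, hp⟩ := q
  dsimp only
  induction p using WellFoundedGT.induction with
  | _ p ih =>
    haveI := hp
    refine subsingleton_of_forall_eq 0 fun x => ?_
    obtain ⟨a, ha, hax⟩ := LocCoh.exists_kill_of_subsingleton_ext_localized p.primeCompl k (R ⧸ p) M
      ((bassNum_eq_zero_iff M p k).1 (h p)) x
    let φ : R ⧸ p →ₗ[R] R ⧸ p := a • LinearMap.id
    have hφ : Function.Injective φ := (injective_iff_map_eq_zero φ).2 fun y hy => by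
      obtain ⟨y, rfl⟩ := Submodule.Quotient.mk_surjective _ y
      rw [LinearMap.smul_apply, LinearMap.id_apply, ← Submodule.Quotient.mk_smul,
        Submodule.Quotient.mk_eq_zero] at hy
      exact (Submodule.Quotient.mk_eq_zero _).2 ((hp.mem_or_mem hy).resolve_left ha)
    have hS := LocCoh.shortExact_of hφ (Submodule.mkQ_surjective (LinearMap.range φ))
      (LinearMap.exact_map_mkQ_range φ)
    have hsub : Subsingleton (Ext (ModuleCat.of R ((R ⧸ p) ⧸ LinearMap.range φ)) (ModuleCat.of R M) k) := by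
      refine subsingleton_ext_of_primes M k _ fun q hq => ih q.1 ?_ q.2
      have hsup : ∀ r, r ∈ p ∨ r = a → r ∈ q.1 := fun r hr =>
        Module.annihilator_le_of_mem_support hq (Module.mem_annihilator.2 fun z => by
          obtain ⟨z, rfl⟩ := Submodule.mkQ_surjective _ z
          obtain ⟨z, rfl⟩ := Submodule.Quotient.mk_surjective _ z
          rw [Submodule.mkQ_apply, ← Submodule.Quotient.mk_smul, Submodule.Quotient.mk_eq_zero]
          rcases hr with hr | rfl
          · rw [show r • (Submodule.Quotient.mk z : R ⧸ p) = 0 from (Submodule.Quotient.mk_eq_zero p).2 (p.mul_mem_right z hr)]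
            exact zero_mem _
          · exact ⟨Submodule.Quotient.mk z, rfl⟩)
      exact lt_of_le_of_ne (fun r hr => hsup r (Or.inl hr)) fun e => ha (e ▸ hsup a (Or.inr rfl))
    have h0 : (Ext.mk₀ (ModuleCat.ofHom φ)).comp x (zero_add k) = 0 := by
      rw [← hax, LocCoh.ext_smul_eq_precomp]
      rfl
    obtain ⟨y, hy⟩ := Ext.contravariant_sequence_exact₂ hS (ModuleCat.of R M) x h0
    rw [← hy, @Subsingleton.elim _ hsub y 0, Ext.comp_zero]

theorem bassNum_eq_zero_of_injective [Module.Injective R M] (p : Ideal R) [p.IsPrime] :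
    GrLC.bassNum p M 1 = 0 := by
  haveI : CategoryTheory.Injective (ModuleCat.of R M) := Module.injective_object_of_injective_module R M
  exact (bassNum_eq_zero_iff M p 1).2 (LocCoh.subsingleton_ext_localized p.primeCompl 1 (R ⧸ p) M
    (subsingleton_of_forall_eq 0 Ext.eq_zero_of_injective))

theorem injective_of_bassNum (h : ∀ (p : Ideal R) [p.IsPrime], GrLC.bassNum p M 1 = 0) :
    Module.Injective R M := by
  have hI := hasInjectiveDimensionLT_of_forall_ideal 0 (ModuleCat.of R M)
    fun I => subsingleton_ext_of_bassNum M 1 h (R ⧸ I)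
  haveI : CategoryTheory.Injective (ModuleCat.of R M) := injective_iff_hasInjectiveDimensionLT_one.2 hI
  exact Module.injective_module_of_injective_object R M

theorem bassNum_zero_ne_zero_iff (p : Ideal R) [hp : p.IsPrime] :
    GrLC.bassNum p M 0 ≠ 0 ↔ p ∈ associatedPrimes R M := by
  rw [Ne, bassNum_eq_zero_iff, AssociatedPrimes.mem_iff, isAssociatedPrime_iff_exists_injective_linearMap]
  constructor
  · intro hne
    refine ⟨hp, by_contra fun hno => hne ?_⟩
    push Not at hno
    refine LocCoh.subsingleton_ext_localized_of_kill p.primeCompl 0 (R ⧸ p) M fun x => ?_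
    obtain ⟨φ, rfl⟩ := (Ext.mk₀_bijective _ _).2 x
    obtain ⟨y, hy0, hy⟩ : ∃ y, φ.hom y = 0 ∧ y ≠ 0 := by
      have := hno φ.hom
      rw [injective_iff_map_eq_zero] at this
      push Not at this
      exact this
    obtain ⟨s, rfl⟩ := Submodule.Quotient.mk_surjective _ y
    refine ⟨s, fun hs => hy ((Submodule.Quotient.mk_eq_zero _).2 hs), ?_⟩
    rw [← Ext.mk₀_smul, show s • φ = 0 from ModuleCat.hom_ext (LinearMap.ext fun z => ?_), Ext.mk₀_zero]
    obtain ⟨z, rfl⟩ := Submodule.Quotient.mk_surjective _ z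
    show s • φ.hom (Submodule.Quotient.mk z) = 0
    have hz : s • (Submodule.Quotient.mk z : R ⧸ p) = z • (Submodule.Quotient.mk s : R ⧸ p) := by
      rw [← Submodule.Quotient.mk_smul, ← Submodule.Quotient.mk_smul, smul_eq_mul, smul_eq_mul, mul_comm]
    rw [← map_smul, hz, map_smul]
    erw [hy0]
    rw [smul_zero]
  · rintro ⟨-, f, hf⟩ hsub
    obtain ⟨s, hs, hs0⟩ := LocCoh.exists_kill_of_subsingleton_ext_localized p.primeCompl 0 (R ⧸ p) M hsub
      (Ext.mk₀ (ModuleCat.ofHom f))
    rw [← Ext.mk₀_smul] at hs0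
    have h0 := (Ext.mk₀_bijective _ _).1 (hs0.trans (Ext.mk₀_zero _ _).symm)
    have h1 : s • f (Submodule.Quotient.mk (1 : R)) = 0 :=
      LinearMap.congr_fun (congrArg ModuleCat.Hom.hom h0) _
    rw [← map_smul, ← Submodule.Quotient.mk_smul, smul_eq_mul, mul_one, ← map_zero f] at h1
    exact hs ((Submodule.Quotient.mk_eq_zero _).1 (hf h1))

end general

section graded

variable {R : Type u} [CommRing R] [IsNoetherianRing R] {σ : Type u} [SetLike σ R] [AddSubgroupClass σ R] {𝒜 : ℤ → σ} [GradedRing 𝒜]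
  {M : Type u} [AddCommGroup M] [Module R M] {ℳ : ℤ → AddSubgroup M} [Decomposition ℳ]
  [SetLike.GradedSMul 𝒜 ℳ]

theorem bassNum_succ_homogeneous (hM : GrLC.IsStarInj 𝒜 ℳ) (p : Ideal R) [p.IsPrime]
    (hp : p.IsHomogeneous 𝒜) (i : ℕ) : GrLC.bassNum p M (i + 1) = 0 := by
  letI := qDecomp 𝒜 (p := (p : Submodule R R)) hp
  exact (bassNum_eq_zero_iff M p (i + 1)).2 (LocCoh.subsingleton_ext_localized p.primeCompl (i + 1) (R ⧸ p) M
    (subsingleton_ext_of_isStarInj (ℳ := qGr 𝒜 (p : Submodule R R)) hM i inferInstance))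

theorem hasInjectiveDimensionLT_two (hM : GrLC.IsStarInj 𝒜 ℳ) :
    HasInjectiveDimensionLT (ModuleCat.of R M) 2 := by
  refine hasInjectiveDimensionLT_of_forall_ideal 1 _ fun I =>
    subsingleton_ext_of_bassNum M 2 (fun p hp => ?_) (R ⧸ I)
  by_cases hh : p.IsHomogeneous 𝒜
  · exact bassNum_succ_homogeneous hM p hh 1
  · haveI : (Ideal.homogeneousCore 𝒜 p).toIdeal.IsPrime := Ideal.IsPrime.homogeneousCore hp
    rw [(GrBassApps.bassNum_not_homogeneous 𝒜 M ℳ p hh).2 1]
    exact bassNum_succ_homogeneous hM _ (Ideal.homogeneousCore 𝒜 p).isHomogeneous 0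

theorem not_injective_iff (hM : GrLC.IsStarInj 𝒜 ℳ) :
    ¬ Module.Injective R M ↔ ∃ p : Ideal R, p.IsPrime ∧ ¬ Ideal.IsHomogeneous 𝒜 p ∧
      (Ideal.homogeneousCore 𝒜 p).toIdeal ∈ associatedPrimes R M := by
  constructor
  · intro hne
    by_contra hno
    refine hne (injective_of_bassNum M fun p hp => ?_)
    by_cases hh : p.IsHomogeneous 𝒜
    · exact bassNum_succ_homogeneous hM p hh 0
    · haveI : (Ideal.homogeneousCore 𝒜 p).toIdeal.IsPrime := Ideal.IsPrime.homogeneousCore hp
      rw [(GrBassApps.bassNum_not_homogeneous 𝒜 M ℳ p hh).2 0]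
      by_contra h0
      exact hno ⟨p, hp, hh, (bassNum_zero_ne_zero_iff M _).1 h0⟩
  · rintro ⟨p, hp, hh, hass⟩ hinj
    haveI : (Ideal.homogeneousCore 𝒜 p).toIdeal.IsPrime := hass.isPrime
    refine (bassNum_zero_ne_zero_iff M (Ideal.homogeneousCore 𝒜 p).toIdeal).2 hass ?_
    rw [← (GrBassApps.bassNum_not_homogeneous 𝒜 M ℳ p hh).2 0]
    exact bassNum_eq_zero_of_injective M p

theorem isInjectiveHull_maximal (m : HomogeneousIdeal 𝒜) [m.toIdeal.IsMaximal]
    {e : (R ⧸ m.toIdeal) →ₗ[R] M} (he : GrLC.IsStarInjHull 𝒜 (GrLC.quotGr 𝒜 m) ℳ e) :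
    InjHull.IsInjectiveHull e := by
  refine { toIsEssentialInj := (isEssentialInj_of_isStarEss (𝒜 := 𝒜) he.toIsStarEss
              (isHomogeneous_range_quotGr he.grHom) inferInstance),
           isInjective := ?_ }
  by_contra hne
  obtain ⟨p, hp, hh, hass⟩ := (not_injective_iff he.starInj).1 hne
  obtain ⟨hPp, x, hx⟩ := isAssociatedPrime_iff.1 hass
  have hxm : x ∈ GrLC.gam m.toIdeal M := by rw [hull_gam he]; trivial
  obtain ⟨n, hn⟩ := hxm
  have hle : m.toIdeal ≤ (Ideal.homogeneousCore 𝒜 p).toIdeal := hPp.le_of_pow_le fun r hr => by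
    rw [hx, Submodule.mem_colon_singleton, Submodule.mem_bot]
    exact hn r hr
  have hm : m.toIdeal = p := (Ideal.IsMaximal.eq_of_le ‹_› hp.ne_top
    (hle.trans (Ideal.toIdeal_homogeneousCore_le 𝒜 p)))
  exact hh (hm ▸ m.isHomogeneous)

end graded

end Groth.Agent.CAlgH3.GrInjDim
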