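import Groth.Agent.GrLib.Acyclic
import Groth.Agent.CAlgH3.GrInjDim
import Groth.Agent.LocCoh.CanonicalCM
import Groth.Agent.LocCoh.LocalVanishing
import Groth.Agent.Matlis6.Transfer
import Mathlib

/-!
A graded canonical module localises to a canonical module; localised vanishing of `Ext`.
-/

set_option autoImplicit false

universe u

open DirectSum Groth.Agent.GrLib CategoryTheory Abelian IsLocalRing

namespace Groth.Agent.CAlgH3.GrCanonLocal

section general

variable {R : Type u} [CommRing R] [IsNoetherianRing R] (m : Ideal R) [m.IsPrime]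
  (M : Type u) [AddCommGroup M] [Module R M]

/-- If the `k`-th Bass numbers vanish at the primes inside `m`, every class in `Ext^k(N, M)` is killed
by an element outside `m`. -/
theorem exists_kill_of_bassNum (k : ℕ)
    (h : ∀ (p : Ideal R) [p.IsPrime], p ≤ m → GrLC.bassNum p M k = 0)
    (N : Type u) [AddCommGroup N] [Module R N] [Module.Finite R N] :
    ∀ x : Ext (ModuleCat.of R N) (ModuleCat.of R M) k, ∃ s ∈ m.primeCompl, s • x = 0 := by
  have filt : ∀ (N : Type u) [AddCommGroup N] [Module R N] [Module.Finite R N],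
      (∀ q : PrimeSpectrum R, q ∈ Module.support R N →
        ∀ x : Ext (ModuleCat.of R (R ⧸ q.1)) (ModuleCat.of R M) k, ∃ s ∈ m.primeCompl, s • x = 0) →
      ∀ x : Ext (ModuleCat.of R N) (ModuleCat.of R M) k, ∃ s ∈ m.primeCompl, s • x = 0 := by
    intro N _ _ _
    refine IsNoetherianRing.induction_on_isQuotientEquivQuotientPrime (A := R) (M := N) inferInstance
      (motive := fun N _ _ _ => (∀ q : PrimeSpectrum R, q ∈ Module.support R N →
        ∀ x : Ext (ModuleCat.of R (R ⧸ q.1)) (ModuleCat.of R M) k, ∃ s ∈ m.primeCompl, s • x = 0) →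
        ∀ x : Ext (ModuleCat.of R N) (ModuleCat.of R M) k, ∃ s ∈ m.primeCompl, s • x = 0) ?_ ?_ ?_
    · intro N _ _ _ _ _ x
      refine ⟨1, one_mem _, ?_⟩
      exact LocCoh.ext_smul_eq_zero_left (M := N) (N := M) (r := (1 : R)) (fun _ => Subsingleton.elim _ _) x
    · intro N _ _ _ p e hN x
      obtain ⟨s, hs, hsx⟩ := hN p (by
        rw [e.support_eq, Module.mem_support_iff_of_finite, Ideal.annihilator_quotient])
        (ExtShift.congrLeft (M := M) e k x)
      refine ⟨s, hs, (ExtShift.congrLeft (M := M) e k).injective ?_⟩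
      rw [map_smul, hsx, map_zero]
    · intro N₁ _ _ _ N₂ _ _ _ N₃ _ _ _ f g hf hg hfg h₁ h₃ hN x
      obtain ⟨s, hs, hsx⟩ := h₁ (fun q hq => hN q (Module.support_subset_of_injective f hf hq))
        ((Ext.mk₀ (ModuleCat.ofHom f)).comp x (zero_add k))
      have h0 : (Ext.mk₀ (ModuleCat.ofHom f)).comp (s • x) (zero_add k) = 0 := by
        rw [Ext.comp_smul, hsx]
      obtain ⟨y, hy⟩ := Ext.contravariant_sequence_exact₂ (LocCoh.shortExact_of hf hg hfg)
        (ModuleCat.of R M) (s • x) h0
      obtain ⟨t, ht, hty⟩ := h₃ (fun q hq => hN q (Module.support_subset_of_surjective g hg hq)) y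
      refine ⟨t * s, mul_mem ht hs, ?_⟩
      rw [mul_smul, ← hy]
      erw [← Ext.comp_smul, hty, Ext.comp_zero]
  refine filt N fun q hq => ?_
  clear hq
  obtain ⟨p, hp⟩ := q
  dsimp only
  induction p using WellFoundedGT.induction with
  | _ p ih =>
    haveI := hp
    intro x
    by_cases hpm : p ≤ m
    swap
    · obtain ⟨s, hsp, hsm⟩ := SetLike.not_le_iff_exists.1 hpm
      refine ⟨s, hsm, LocCoh.ext_smul_eq_zero_left (fun z => ?_) x⟩
      obtain ⟨z, rfl⟩ := Submodule.Quotient.mk_surjective _ z
      exact (Submodule.Quotient.mk_eq_zero p).2 (p.mul_mem_right z hsp)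
    obtain ⟨a, ha, hax⟩ := LocCoh.exists_kill_of_subsingleton_ext_localized p.primeCompl k (R ⧸ p) M
      ((GrInjDim.bassNum_eq_zero_iff M p k).1 (h p hpm)) x
    let φ : R ⧸ p →ₗ[R] R ⧸ p := a • LinearMap.id
    have hφ : Function.Injective φ := (injective_iff_map_eq_zero φ).2 fun y hy => by
      obtain ⟨y, rfl⟩ := Submodule.Quotient.mk_surjective _ y
      rw [LinearMap.smul_apply, LinearMap.id_apply, ← Submodule.Quotient.mk_smul,
        Submodule.Quotient.mk_eq_zero] at hy
      exact (Submodule.Quotient.mk_eq_zero _).2 ((hp.mem_or_mem hy).resolve_left ha)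
    have hS := LocCoh.shortExact_of hφ (Submodule.mkQ_surjective (LinearMap.range φ))
      (LinearMap.exact_map_mkQ_range φ)
    have hQ := filt ((R ⧸ p) ⧸ LinearMap.range φ) fun q hq => ih q.1 (by
      have hsup : ∀ r, r ∈ p ∨ r = a → r ∈ q.1 := fun r hr =>
        Module.annihilator_le_of_mem_support hq (Module.mem_annihilator.2 fun z => by
          obtain ⟨z, rfl⟩ := Submodule.mkQ_surjective _ z
          obtain ⟨z, rfl⟩ := Submodule.Quotient.mk_surjective _ z
          rw [Submodule.mkQ_apply, ← Submodule.Quotient.mk_smul, Submodule.Quotient.mk_eq_zero]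
          rcases hr with hr | rfl
          · rw [show r • (Submodule.Quotient.mk z : R ⧸ p) = 0 from (Submodule.Quotient.mk_eq_zero p).2 (p.mul_mem_right z hr)]
            exact zero_mem _
          · exact ⟨Submodule.Quotient.mk z, rfl⟩)
      exact lt_of_le_of_ne (fun r hr => hsup r (Or.inl hr)) fun e => ha (e ▸ hsup a (Or.inr rfl))) q.2
    have h0 : (Ext.mk₀ (ModuleCat.ofHom φ)).comp x (zero_add k) = 0 := by
      rw [← hax, LocCoh.ext_smul_eq_precomp]
      rfl
    obtain ⟨y, hy⟩ := Ext.contravariant_sequence_exact₂ hS (ModuleCat.of R M) x h0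
    obtain ⟨s, hs, hsy⟩ := hQ y
    refine ⟨s, hs, ?_⟩
    rw [← hy]
    erw [← Ext.comp_smul, hsy, Ext.comp_zero]

/-- Localised injectivity from Bass numbers. -/
theorem injective_localized_of_bassNum (h : ∀ (p : Ideal R) [p.IsPrime], p ≤ m → GrLC.bassNum p M 1 = 0) :
    Module.Injective (Localization.AtPrime m) (LocalizedModule m.primeCompl M) := by
  haveI : CategoryTheory.Injective (ModuleCat.of (Localization.AtPrime m) (LocalizedModule m.primeCompl M)) := by
    refine injective_iff_hasInjectiveDimensionLT_one.2 (hasInjectiveDimensionLT_of_forall_ideal 0 _ fun J => ?_)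
    obtain ⟨e⟩ : Nonempty (LocalizedModule m.primeCompl (R ⧸ J.comap (algebraMap R (Localization.AtPrime m)))
        ≃ₗ[Localization.AtPrime m] (Localization.AtPrime m ⧸ J)) := by
      obtain ⟨e⟩ := GrBassExt.nonempty_localized_quot (J.comap (algebraMap R (Localization.AtPrime m))) m
      exact ⟨e.trans (Submodule.quotEquivOfEq _ _
        (IsLocalization.map_under m.primeCompl (Localization.AtPrime m) J))⟩
    haveI := LocCoh.subsingleton_ext_localized_of_kill m.primeCompl 1
      (R ⧸ J.comap (algebraMap R (Localization.AtPrime m))) M (exists_kill_of_bassNum m M 1 h _)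
    exact (ExtShift.congrLeft (M := LocalizedModule m.primeCompl M) e 1).symm.toEquiv.subsingleton
  exact Module.injective_module_of_injective_object _ _

/-- A power-torsion module at a maximal ideal is its own localisation. -/
theorem isLocalizedModule_id_of_torsion {m : Ideal R} [m.IsMaximal] {T : Type u} [AddCommGroup T]
    [Module R T] (hT : _root_.LocCoh.IsPowerTorsion m T) :
    IsLocalizedModule m.primeCompl (LinearMap.id : T →ₗ[R] T) := by
  have key : ∀ (s : R), s ∉ m → ∀ x : T, ∃ r : R, r • s • x = x := fun s hs x => by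
    obtain ⟨k, hk⟩ := hT x
    have hu : Ideal.span {s} ⊔ m ^ k = ⊤ := by
      rw [← Ideal.isCoprime_iff_sup_eq]
      exact IsCoprime.pow_right (Ideal.isCoprime_iff_sup_eq.2
        (by
          rw [sup_comm]
          exact (‹m.IsMaximal›).1.2 _ (lt_of_le_of_ne le_sup_left fun e => hs
            (e ▸ Submodule.mem_sup_right (Ideal.mem_span_singleton_self s)))))
    have h1 : (1 : R) ∈ Ideal.span {s} ⊔ m ^ k := by rw [hu]; trivial
    obtain ⟨a, ha, b, hb, hab⟩ := Submodule.mem_sup.1 h1
    obtain ⟨r, rfl⟩ := Ideal.mem_span_singleton'.1 ha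
    exact ⟨r, by rw [smul_smul, ← add_zero ((r * s) • x), ← hk b hb, ← add_smul, hab, one_smul]⟩
  refine ⟨fun s => (Module.End.isUnit_iff _).2 ⟨?_, fun x => ?_⟩, fun y => ⟨(y, 1), one_smul _ y⟩,
    fun e => ⟨1, by simpa using e⟩⟩
  · intro x y hxy
    have hxy' : (s : R) • (x - y) = 0 := by
      rw [smul_sub, sub_eq_zero]
      exact hxy
    obtain ⟨r, hr⟩ := key s s.2 (x - y)
    rw [hxy', smul_zero] at hr
    exact sub_eq_zero.1 hr.symm
  · obtain ⟨r, hr⟩ := key s s.2 x
    exact ⟨r • x, by show (s : R) • r • x = x; rwa [smul_comm]⟩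

/-- The hull of `R/m` localises to a hull at the maximal ideal. -/
theorem isHullAt_localized {m : Ideal R} [m.IsMaximal] {E : Type u} [AddCommGroup E] [Module R E]
    (hE : Matlis6.IsHullAt m E) :
    Matlis6.IsHullAt (maximalIdeal (Localization.AtPrime m)) (LocalizedModule m.primeCompl E) := by
  haveI := hE.inj
  haveI := isLocalizedModule_id_of_torsion hE.isPowerTorsion
  let ε := IsLocalizedModule.iso m.primeCompl (LinearMap.id : E →ₗ[R] E)
  have hε : ∀ x : E, ε (LocalizedModule.mkLinearMap m.primeCompl E x) = x := fun x => by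
    simp [ε, IsLocalizedModule.iso_apply_mk]
  have hbij : Function.Bijective (LocalizedModule.mkLinearMap m.primeCompl E) :=
    ⟨fun x y hxy => by rw [← hε x, hxy, hε], fun v => ⟨ε v, ε.injective (hε _)⟩⟩
  refine ⟨Module.injective_of_isLocalizedModule (Rₛ := Localization.AtPrime m) m.primeCompl
    (LocalizedModule.mkLinearMap m.primeCompl E), ?_⟩
  obtain ⟨e, he, hme, hess⟩ := hE.ess
  refine ⟨LocalizedModule.mkLinearMap m.primeCompl E e, fun h => he (hbij.1 (h.trans (map_zero _).symm)),
    fun a ha => ?_, fun v hv => ?_⟩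
  · rw [← Localization.AtPrime.map_eq_maximalIdeal] at ha
    induction ha using Submodule.span_induction with
    | mem y hy =>
      obtain ⟨c, hc, rfl⟩ := hy
      rw [IsScalarTower.algebraMap_smul, ← map_smul, hme c hc, map_zero]
    | zero => exact zero_smul _ _
    | add y z _ _ hy hz => rw [add_smul, hy, hz, add_zero]
    | smul c y _ hy => rw [smul_eq_mul, mul_smul, hy, smul_zero]
  · obtain ⟨x, rfl⟩ := hbij.2 v
    obtain ⟨r, c, hrx, hrc⟩ := hess x fun h => hv (by rw [h, map_zero])
    refine ⟨algebraMap R _ r, algebraMap R _ c, ?_, ?_⟩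
    · rw [IsScalarTower.algebraMap_smul, ← map_smul]
      exact fun h => hrx (hbij.1 (h.trans (map_zero _).symm))
    · rw [IsScalarTower.algebraMap_smul, IsScalarTower.algebraMap_smul, ← map_smul, ← map_smul, hrc]

end general

section graded

variable {R : Type u} [CommRing R] [IsNoetherianRing R] {σ : Type u} [SetLike σ R] [AddSubgroupClass σ R] {𝒜 : ℤ → σ} [GradedRing 𝒜]

/-- The canonical module localises to a canonical module of the local ring. -/
theorem exists_local_canonical (m : HomogeneousIdeal 𝒜) [m.toIdeal.IsMaximal] (n : ℕ)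
    (I : GrLC.StarInjRes 𝒜 𝒜) {E' : Type u} [AddCommGroup E'] [Module R E']
    {𝓔 : ℤ → AddSubgroup E'} [Decomposition 𝓔] [SetLike.GradedSMul 𝒜 𝓔]
    {e : (R ⧸ m.toIdeal) →ₗ[R] E'} (he : GrLC.IsStarInjHull 𝒜 (GrLC.quotGr 𝒜 m) 𝓔 e)
    {C : Type u} [AddCommGroup C] [Module R C] {𝒞 : ℤ → AddSubgroup C} [Decomposition 𝒞]
    [SetLike.GradedSMul 𝒜 𝒞] (hC : GrLC.IsStarCanonical 𝒜 𝒞 𝓔 m n I) :
    ∃ (E₀ : Type u) (_ : AddCommGroup E₀) (_ : Module (Localization.AtPrime m.toIdeal) E₀),
      Matlis6.IsHullAt (maximalIdeal (Localization.AtPrime m.toIdeal)) E₀ ∧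
      Nonempty ((LocalizedModule m.toIdeal.primeCompl C →ₗ[Localization.AtPrime m.toIdeal] E₀)
        ≃ₗ[Localization.AtPrime m.toIdeal] _root_.LocCoh.H (maximalIdeal (Localization.AtPrime m.toIdeal)) n
          (Localization.AtPrime m.toIdeal)) := by
  obtain ⟨hCfin, φ, -⟩ := hC
  haveI := hCfin
  haveI : Module.FinitePresentation R C := Module.finitePresentation_of_finite R C
  have hull := Matlis6.of_isInjectiveHull (GrInjDim.isInjectiveHull_maximal m he)
  let W := m.toIdeal.primeCompl
  let S := Localization W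
  refine ⟨LocalizedModule W E', inferInstance, inferInstance, isHullAt_localized hull, ?_⟩
  let Φ := IsLocalizedModule.mapExtendScalars W (LocalizedModule.mkLinearMap W C)
    (LocalizedModule.mkLinearMap W E') S
  haveI : IsLocalizedModule W Φ :=
    Module.FinitePresentation.isLocalizedModule_mapExtendScalars W _ _ S
  have e1 := LinearEquiv.extendScalarsOfIsLocalization W S (IsLocalizedModule.iso W Φ)
  obtain ⟨eH⟩ := nonempty_H_equiv I m n
  have e2 := LinearEquiv.extendScalarsOfIsLocalization W S
    (IsLocalizedModule.iso W ((LocalizedModule.mkLinearMap W _).comp (φ.trans eH).toLinearMap))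
  obtain ⟨e3⟩ := LocCoh.nonempty_localized_H_equiv W m.toIdeal R n
  have eS : LocalizedModule W R ≃ₗ[S] S :=
    LinearEquiv.extendScalarsOfIsLocalization W S (IsLocalizedModule.iso W (Algebra.linearMap R S))
  have e4 := e1.symm.trans (e2.trans (e3.trans (LocCoh.Hequiv (m.toIdeal.map (algebraMap R S)) n eS)))
  rw [show m.toIdeal.map (algebraMap R S) = maximalIdeal (Localization.AtPrime m.toIdeal) from
    Localization.AtPrime.map_eq_maximalIdeal] at e4
  exact ⟨e4⟩

end graded

end Groth.Agent.CAlgH3.GrCanonLocal
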