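import Groth.Agent.CAlgH3.ExtShift
import Groth.Agent.LocCoh.GorensteinCriteria
import Groth.Agent.LocCoh.CanonicalCM
import Mathlib

/-!
`Ext` into a module along a regular sequence, and the length of `Ext^n(k, R)` against a canonical module.
-/

set_option autoImplicit false

universe u

open CategoryTheory Abelian IsLocalRing RingTheory.Sequence
open scoped Pointwise TensorProduct

namespace Groth.Agent.CAlgH3.RegularExt

section shift

variable {R : Type u} [CommRing R] {N : Type u} [AddCommGroup N] [Module R N]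

/-- The connecting map `Ext^k(N, M/xM) → Ext^(k+1)(N, M)` is bijective when `x` kills `N` and
`Ext^k(N, M) = 0`. -/
theorem nonempty_quot_shift {x : R} (hxN : ∀ z : N, x • z = 0) {M : Type u} [AddCommGroup M] [Module R M]
    (hx : IsSMulRegular M x) (k : ℕ)
    (h : Subsingleton (Ext (ModuleCat.of R N) (ModuleCat.of R M) k)) :
    Nonempty (Ext (ModuleCat.of R N) (ModuleCat.of R (QuotSMulTop x M)) k ≃ₗ[R]
      Ext (ModuleCat.of R N) (ModuleCat.of R M) (k + 1)) := by
  have hS : ((ModuleCat.of R M).smulShortComplex x).ShortExact :=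
    IsSMulRegular.smulShortComplex_shortExact (M := ModuleCat.of R M) hx
  let δ : Ext (ModuleCat.of R N) (ModuleCat.of R (QuotSMulTop x M)) k →ₗ[R]
      Ext (ModuleCat.of R N) (ModuleCat.of R M) (k + 1) :=
    hS.extClass.postcompOfLinear R (ModuleCat.of R N) (rfl : k + 1 = k + 1)
  refine ⟨LinearEquiv.ofBijective δ ⟨(injective_iff_map_eq_zero δ).2 fun y hy => ?_, fun z => ?_⟩⟩
  · obtain ⟨w, hw⟩ := Ext.covariant_sequence_exact₃ (ModuleCat.of R N) hS y (rfl : k + 1 = k + 1) hy
    have hw0 : w = 0 := @Subsingleton.elim _ h w 0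
    rw [← hw, hw0, Ext.zero_comp]
    rfl
  · obtain ⟨y, hy⟩ := Ext.covariant_sequence_exact₁ (ModuleCat.of R N) hS z
      ((congrArg (fun φ : ModuleCat.of R M ⟶ ModuleCat.of R M => z.comp (Ext.mk₀ φ) (add_zero (k + 1)))
        (ModuleCat.smulShortComplex_f_eq_smul_id (M := ModuleCat.of R M) x)).trans
          ((Ext.smul_eq_comp_mk₀ z x).symm.trans (LocCoh.ext_smul_eq_zero_left hxN z)))
      (rfl : k + 1 = k + 1)
    exact ⟨y, hy⟩

/-- Along an `M`-regular sequence killing `N`: `Ext^k(N, M)` vanishes below the length and in that degree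
is `Hom(N, M/(rs)M)`. -/
theorem regular_shift : ∀ (rs : List R) (M : Type u) [AddCommGroup M] [Module R M],
    IsWeaklyRegular M rs → (∀ x ∈ rs, ∀ z : N, x • z = 0) →
    (∀ k < rs.length, Subsingleton (Ext (ModuleCat.of R N) (ModuleCat.of R M) k)) ∧
      Nonempty (Ext (ModuleCat.of R N) (ModuleCat.of R (M ⧸ (Ideal.ofList rs • ⊤ : Submodule R M))) 0 ≃ₗ[R]
        Ext (ModuleCat.of R N) (ModuleCat.of R M) rs.length) := by
  intro rs
  induction rs with
  | nil =>
    intro M _ _ _ _
    exact ⟨fun k hk => absurd hk (Nat.not_lt_zero k), ⟨ExtShift.congrRight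
      (Submodule.quotEquivOfEqBot _ (by rw [Ideal.ofList_nil, Submodule.bot_smul])) 0⟩⟩
  | cons x rs ih =>
    intro M _ _ hreg hN
    obtain ⟨hx, hrs⟩ := (isWeaklyRegular_cons_iff M x rs).1 hreg
    obtain ⟨hlow, ⟨e⟩⟩ := ih (QuotSMulTop x M) hrs fun y hy => hN y (List.mem_cons_of_mem _ hy)
    have hxN := hN x List.mem_cons_self
    have hvan : ∀ k ≤ rs.length, Subsingleton (Ext (ModuleCat.of R N) (ModuleCat.of R M) k) := by
      intro k hk
      induction k with
      | zero =>
        refine subsingleton_of_forall_eq 0 fun y => ?_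
        obtain ⟨φ, rfl⟩ := (Ext.mk₀_bijective _ _).2 y
        rw [show φ = 0 from ModuleCat.hom_ext (LinearMap.ext fun z => hx (by
          show x • φ.hom z = x • (0 : M)
          rw [← map_smul, hxN, map_zero, smul_zero])), Ext.mk₀_zero]
      | succ k ihk =>
        haveI := hlow k (by omega)
        obtain ⟨d⟩ := nonempty_quot_shift hxN hx k (ihk (by omega))
        exact d.symm.toEquiv.subsingleton
    refine ⟨fun k hk => hvan k (Nat.lt_succ_iff.1 hk), ?_⟩
    obtain ⟨d⟩ := nonempty_quot_shift hxN hx rs.length (hvan _ le_rfl)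
    exact ⟨((ExtShift.congrRight (Submodule.quotOfListConsSMulTopEquivQuotSMulTopInner M x rs) 0).trans e).trans d⟩

end shift

section local'

variable {R : Type u} [CommRing R] [IsNoetherianRing R] [IsLocalRing R]

/-- Homs out of the residue field only see the torsion. -/
theorem nonempty_hom_torsionBy (J : Ideal R) (hJ : J ≤ maximalIdeal R) (T : Type u) [AddCommGroup T]
    [Module R T] :
    Nonempty (((R ⧸ maximalIdeal R) →ₗ[R] _root_.LocCoh.torsionBy J T) ≃ₗ[R]
      ((R ⧸ maximalIdeal R) →ₗ[R] T)) := by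
  let W := _root_.LocCoh.torsionBy J T
  have hmem : ∀ (φ : (R ⧸ maximalIdeal R) →ₗ[R] T) q, φ q ∈ W := fun φ q =>
    (Submodule.mem_torsionBySet_iff _ _).2 fun a => by
      rw [← map_smul]
      obtain ⟨r, rfl⟩ := Submodule.Quotient.mk_surjective _ q
      rw [← Submodule.Quotient.mk_smul, smul_eq_mul, (Submodule.Quotient.mk_eq_zero _).2
        (Ideal.mul_mem_right r _ (hJ a.2)), map_zero]
  exact ⟨LinearEquiv.ofBijective
    { toFun := fun φ => W.subtype ∘ₗ φ
      map_add' := fun φ ψ => LinearMap.comp_add _ _ _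
      map_smul' := fun r φ => LinearMap.comp_smul _ _ _ }
    ⟨fun φ ψ h => LinearMap.ext fun q => Subtype.ext (LinearMap.congr_fun h q),
      fun φ => ⟨φ.codRestrict W (hmem φ), LinearMap.ext fun q => rfl⟩⟩⟩

variable [_root_.LocCoh.IsCohenMacaulayLocalRing R]

/-- `Ext^n(k, R)` is the socle of `H^n_m(R)` for a Cohen–Macaulay local ring of dimension `n`. -/
theorem nonempty_ext_socle {n : ℕ} (hn : ringKrullDim R = n) :
    Nonempty (Ext (ModuleCat.of R (R ⧸ maximalIdeal R)) (ModuleCat.of R R) n ≃ₗ[R]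
      ((R ⧸ maximalIdeal R) →ₗ[R] _root_.LocCoh.H (maximalIdeal R) n R)) := by
  obtain ⟨xs, hlen, hmem, hreg, hrad⟩ := LocCoh.exists_parameters_in_pow hn 1
  have hmem' : ∀ x ∈ xs, x ∈ maximalIdeal R := fun x hx => by simpa using hmem x hx
  obtain ⟨eq⟩ := LocCoh.nonempty_quotient_equiv_torsionBy_H (maximalIdeal R) xs R hmem' hreg.toIsWeaklyRegular
    (hrad.trans (Ideal.radical_mono le_sup_left))
  obtain ⟨-, ⟨e⟩⟩ := regular_shift (N := R ⧸ maximalIdeal R) xs R hreg.toIsWeaklyRegular fun x hx z => by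
    obtain ⟨r, rfl⟩ := Submodule.Quotient.mk_surjective _ z
    exact (Submodule.Quotient.mk_eq_zero _).2 (Ideal.mul_mem_right r _ (hmem' x hx))
  rw [hlen] at eq e
  obtain ⟨t⟩ := nonempty_hom_torsionBy (Ideal.ofList xs) (Ideal.span_le.2 hmem')
    (_root_.LocCoh.H (maximalIdeal R) n R)
  obtain ⟨h0, -⟩ := LocCoh.homEquiv_conj (R := R) (M := R ⧸ maximalIdeal R)
    (K := R ⧸ (Ideal.ofList xs • ⊤ : Submodule R R))
  exact ⟨((e.symm.trans h0).trans (eq.congrRight (M := R ⧸ maximalIdeal R))).trans t⟩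

variable {n : ℕ} {E : Type u} [AddCommGroup E] [Module R E] {K : Type u} [AddCommGroup K] [Module R K]
  [Module.Finite R K]

omit [_root_.LocCoh.IsCohenMacaulayLocalRing R] [Module.Finite R K] in
theorem isFiniteLength_of_killed [Module.Finite R K] (h : ∀ a ∈ maximalIdeal R, ∀ x : K, a • x = 0) :
    IsFiniteLength R K := by
  obtain ⟨t, π, hπ⟩ := Module.Finite.exists_fin' R K
  have hle : maximalIdeal R • (⊤ : Submodule R (Fin t → R)) ≤ LinearMap.ker π :=
    Submodule.smul_le.2 fun a ha z _ => by rw [LinearMap.mem_ker, map_smul, h a ha]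
  have hq : IsFiniteLength R (R ⧸ maximalIdeal R) :=
    LocCoh.isFiniteLength_of_pow_le (j := 1) (by rw [pow_one])
  obtain ⟨h1, h2⟩ := isFiniteLength_iff_isNoetherian_isArtinian.1 hq
  haveI := h1
  haveI := h2
  let g : (Fin t → R ⧸ maximalIdeal R) →ₗ[R] K :=
    ∑ i, LinearMap.comp (Submodule.liftQ (maximalIdeal R) (LinearMap.toSpanSingleton R K (π (Pi.single i 1)))
      fun a ha => by rw [LinearMap.mem_ker, LinearMap.toSpanSingleton_apply]; exact h a ha _)
      (LinearMap.proj i)
  have hg : Function.Surjective g := fun y => by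
    obtain ⟨v, rfl⟩ := hπ y
    refine ⟨fun i => Submodule.Quotient.mk (v i), ?_⟩
    conv_rhs => rw [pi_eq_sum_univ' v, map_sum]
    simp only [g, LinearMap.sum_apply, LinearMap.comp_apply, LinearMap.proj_apply, map_smul]
    rfl
  exact isFiniteLength_iff_isNoetherian_isArtinian.2 ⟨isNoetherian_of_surjective _ (LinearMap.range_eq_top.2 hg),
    isArtinian_of_surjective _ g hg⟩

/-- The top Bass number of a canonical module is `1`. -/
theorem length_ext_canonical (hn : ringKrullDim R = n) (hE : Matlis6.IsHullAt (maximalIdeal R) E)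
    (eK : (K →ₗ[R] E) ≃ₗ[R] _root_.LocCoh.H (maximalIdeal R) n R) :
    Module.length R (Ext (ModuleCat.of R (R ⧸ maximalIdeal R)) (ModuleCat.of R K) n) = 1 := by
  obtain ⟨d⟩ := LocCoh.canonical_duality hn hE eK n 0 (zero_add n) (R ⧸ maximalIdeal R)
  have hP : LocCoh.powTorsion (maximalIdeal R) (R ⧸ maximalIdeal R) = ⊤ :=
    LocCoh.powTorsion_eq_top fun q => ⟨1, fun a ha => by
      obtain ⟨r, rfl⟩ := Submodule.Quotient.mk_surjective _ q
      replace ha : a ∈ maximalIdeal R := by simpa using ha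
      exact (Submodule.Quotient.mk_eq_zero _).2 (Ideal.mul_mem_right r _ ha)⟩
  have h1 : Module.length R (Ext (ModuleCat.of R (R ⧸ maximalIdeal R)) (ModuleCat.of R K) n →ₗ[R] E) = 1 := by
    rw [← d.length_eq, (LocCoh.H0Equiv (maximalIdeal R) (R ⧸ maximalIdeal R)).length_eq, hP, Module.length_top]
    haveI : IsSimpleModule R (R ⧸ maximalIdeal R) :=
      isSimpleModule_iff_quot_maximal.2 ⟨_, maximalIdeal.isMaximal R, ⟨LinearEquiv.refl _ _⟩⟩
    exact Module.length_eq_one R _
  rw [← h1, hE.dual_length]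
  refine isFiniteLength_of_killed fun a ha x => LocCoh.ext_smul_eq_zero_left (fun z => ?_) x
  obtain ⟨r, rfl⟩ := Submodule.Quotient.mk_surjective _ z
  exact (Submodule.Quotient.mk_eq_zero _).2 (Ideal.mul_mem_right r _ ha)

/-- The type of the ring is the number of generators of a canonical module. -/
theorem length_ext_self (hn : ringKrullDim R = n) (hE : Matlis6.IsHullAt (maximalIdeal R) E)
    (eK : (K →ₗ[R] E) ≃ₗ[R] _root_.LocCoh.H (maximalIdeal R) n R) :
    Module.length R (Ext (ModuleCat.of R (R ⧸ maximalIdeal R)) (ModuleCat.of R R) n) =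
      Module.length R ((R ⧸ maximalIdeal R) ⊗[R] K) := by
  obtain ⟨e⟩ := nonempty_ext_socle hn
  rw [e.length_eq, (eK.symm.congrRight (M := R ⧸ maximalIdeal R)).length_eq,
    (TensorProduct.lift.equiv (RingHom.id R) (R ⧸ maximalIdeal R) K E).length_eq, hE.dual_length]
  refine isFiniteLength_of_killed fun a ha x => ?_
  induction x using TensorProduct.induction_on with
  | zero => rw [smul_zero]
  | add y z hy hz => rw [smul_add, hy, hz, add_zero]
  | tmul q c =>
    obtain ⟨r, rfl⟩ := Submodule.Quotient.mk_surjective _ q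
    rw [TensorProduct.smul_tmul', ← Submodule.Quotient.mk_smul, smul_eq_mul,
      (Submodule.Quotient.mk_eq_zero _).2 (Ideal.mul_mem_right r _ ha), TensorProduct.zero_tmul]

end local'

end Groth.Agent.CAlgH3.RegularExt
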