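import Groth.Agent.CAlgH3.GrDualAt
import Groth.Agent.CAlgH3.RegularExt
import Groth.Agent.CAlgH3.GrCanonLocal
import Groth.Agent.CAlgH3.GrBassExt
import Mathlib

/-!
The top Bass number of a positively graded ring as the rank of the socle of its top local cohomology.
-/

set_option autoImplicit false
set_option linter.unusedSectionVars false
set_option linter.style.haveILetI false

universe u

open DirectSum Groth.Agent.GrLib CategoryTheory Abelian IsLocalRing

namespace Groth.Agent.CAlgH3.GrTopSocle

/-- If every scalar of `S` acts on each element as a scalar of `R` then the lengths agree. -/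
theorem length_restrict {R S : Type*} [CommRing R] [CommRing S] [Algebra R S] {X : Type*} [AddCommGroup X]
    [Module R X] [Module S X] [IsScalarTower R S X] (h : ∀ (s : S) (x : X), ∃ r : R, s • x = r • x) :
    Module.length R X = Module.length S X := by
  have hs : Function.Surjective (Submodule.restrictScalarsEmbedding R S X) := fun p =>
    ⟨{ carrier := p
       add_mem' := p.add_mem
       zero_mem' := p.zero_mem
       smul_mem' := fun s x hx => by
        obtain ⟨r, hr⟩ := h s x
        show s • x ∈ p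
        rw [hr]
        exact p.smul_mem r hx }, SetLike.coe_injective rfl⟩
  refine WithBot.coe_inj.1 ?_
  rw [Module.coe_length, Module.coe_length]
  exact (Order.krullDim_eq_of_orderIso (RelIso.ofSurjective (Submodule.restrictScalarsEmbedding R S X) hs)).symm

section local'

variable {R : Type u} [CommRing R] [IsNoetherianRing R] (m : Ideal R) [m.IsMaximal]

theorem length_socle_localized {T : Type u} [AddCommGroup T] [Module R T]
    (hT : _root_.LocCoh.IsPowerTorsion m T) :
    Module.length (Localization.AtPrime m)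
        (_root_.LocCoh.torsionBy (maximalIdeal (Localization.AtPrime m)) (LocalizedModule m.primeCompl T)) =
      Module.length R (_root_.LocCoh.torsionBy m T) := by
  let S := Localization.AtPrime m
  haveI := GrCanonLocal.isLocalizedModule_id_of_torsion hT
  let mk := LocalizedModule.mkLinearMap m.primeCompl T
  let ε := IsLocalizedModule.iso m.primeCompl (LinearMap.id : T →ₗ[R] T)
  have hε : ∀ x : T, ε (mk x) = x := fun x => by simp [ε, mk, IsLocalizedModule.iso_apply_mk]
  have hmk : Function.Bijective mk :=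
    ⟨fun x y hxy => by rw [← hε x, hxy, hε], fun v => ⟨ε v, ε.injective (hε _)⟩⟩
  let X := _root_.LocCoh.torsionBy (maximalIdeal S) (LocalizedModule m.primeCompl T)
  have hX : ∀ x : T, x ∈ _root_.LocCoh.torsionBy m T ↔ mk x ∈ X := by
    intro x
    refine Iff.trans (Submodule.mem_torsionBySet_iff _ _) (Iff.trans ?_ (Submodule.mem_torsionBySet_iff _ _).symm)
    constructor
    · rintro h ⟨s, hs'⟩
      show s • mk x = 0
      have hs : s ∈ m.map (algebraMap R S) := by rwa [Localization.AtPrime.map_eq_maximalIdeal]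
      clear hs'
      induction hs using Submodule.span_induction with
      | mem y hy =>
        obtain ⟨c, hc, rfl⟩ := hy
        rw [IsScalarTower.algebraMap_smul, ← map_smul, show c • x = 0 from h ⟨c, hc⟩, map_zero]
      | zero => exact zero_smul _ _
      | add y z _ _ hy hz => rw [add_smul, hy, hz, add_zero]
      | smul c y _ hy => rw [smul_eq_mul, mul_smul, hy, smul_zero]
    · rintro h ⟨c, hc⟩
      have := h ⟨algebraMap R S c, (IsLocalization.AtPrime.to_map_mem_maximal_iff S m c).2 hc⟩
      change algebraMap R S c • mk x = 0 at this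
      rw [IsScalarTower.algebraMap_smul, ← map_smul] at this
      exact hmk.1 (this.trans (map_zero mk).symm)
  let f : _root_.LocCoh.torsionBy m T →ₗ[R] X :=
    { toFun := fun x => ⟨mk x, (hX x).1 x.2⟩
      map_add' := fun x y => Subtype.ext (map_add mk (x : T) y)
      map_smul' := fun c x => Subtype.ext (map_smul mk c (x : T)) }
  have hf : Function.Bijective f := ⟨fun x y h => Subtype.ext (hmk.1 (congrArg Subtype.val h :)), fun v => by
    obtain ⟨x, hx⟩ := hmk.2 v.1
    exact ⟨⟨x, (hX x).2 (hx ▸ v.2)⟩, Subtype.ext hx⟩⟩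
  rw [(LinearEquiv.ofBijective f hf).length_eq]
  refine (length_restrict fun s x => ?_).symm
  obtain ⟨r, u, rfl⟩ := IsLocalization.exists_mk'_eq m.primeCompl s
  obtain ⟨c, i, hi, hci⟩ := (‹m.IsMaximal›).exists_inv u.2
  refine ⟨c * r, ?_⟩
  have hu : algebraMap R S (u : R) • (IsLocalization.mk' S r u • x) = algebraMap R S r • x := by
    rw [smul_smul, IsLocalization.mk'_spec']
  have hi0 : ∀ y : X, algebraMap R S i • y = 0 := fun y => Subtype.ext
    ((Submodule.mem_torsionBySet_iff _ _).1 y.2
      ⟨algebraMap R S i, (IsLocalization.AtPrime.to_map_mem_maximal_iff S m i).2 hi⟩)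
  calc IsLocalization.mk' S r u • x = algebraMap R S (c * u + i) • (IsLocalization.mk' S r u • x) := by
        rw [hci, map_one, one_smul]
    _ = algebraMap R S c • (algebraMap R S r • x) := by
        rw [map_add, add_smul, map_mul, mul_smul, hu, hi0, add_zero]
    _ = (c * r) • x := by rw [← mul_smul, ← map_mul, IsScalarTower.algebraMap_smul]

/-- `μ^n(m, R)` is the length of the socle of `H^n_m(R)`. -/
theorem bassNum_eq_length_socle [_root_.LocCoh.IsCohenMacaulayLocalRing (Localization.AtPrime m)] {n : ℕ}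
    (hn : ringKrullDim (Localization.AtPrime m) = n) :
    GrLC.bassNum m R n = Module.length R (_root_.LocCoh.torsionBy m (_root_.LocCoh.H m n R)) ∧
      (Module.length R (_root_.LocCoh.torsionBy m (_root_.LocCoh.H m n R)) = 1 →
        _root_.LocCoh.IsGorensteinLocalRing (Localization.AtPrime m)) := by
  let W := m.primeCompl
  let S := Localization W
  let T := _root_.LocCoh.H m n R
  let HS := _root_.LocCoh.H (maximalIdeal (Localization.AtPrime m)) n (Localization.AtPrime m)
  have hT : _root_.LocCoh.IsPowerTorsion m T := LocCoh.isPowerTorsion_H n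
  have eS : LocalizedModule W R ≃ₗ[S] S :=
    LinearEquiv.extendScalarsOfIsLocalization W S (IsLocalizedModule.iso W (Algebra.linearMap R S))
  obtain ⟨e3⟩ := LocCoh.nonempty_localized_H_equiv W m R n
  have e4 := e3.trans (LocCoh.Hequiv (m.map (algebraMap R S)) n eS)
  rw [show m.map (algebraMap R S) = maximalIdeal (Localization.AtPrime m) from
    Localization.AtPrime.map_eq_maximalIdeal] at e4
  let k := Localization.AtPrime m ⧸ maximalIdeal (Localization.AtPrime m)
  obtain ⟨t⟩ := LocCoh.nonempty_torsionBy_equiv_hom (maximalIdeal (Localization.AtPrime m)) HS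
  obtain ⟨t'⟩ := LocCoh.nonempty_torsionBy_equiv_hom (maximalIdeal (Localization.AtPrime m))
    (LocalizedModule W T)
  have hlen : Module.length (Localization.AtPrime m)
      (_root_.LocCoh.torsionBy (maximalIdeal (Localization.AtPrime m)) HS) =
      Module.length R (_root_.LocCoh.torsionBy m T) := by
    rw [← length_socle_localized m hT, t.length_eq, t'.length_eq]
    exact (LinearEquiv.congrRight (M := k) e4).symm.length_eq
  constructor
  · rw [← hlen, t.length_eq]
    obtain ⟨e⟩ := RegularExt.nonempty_ext_socle (R := Localization.AtPrime m) hn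
    exact (ExtShift.congrRight (N := ResidueField (Localization.AtPrime m)) eS n).length_eq.trans e.length_eq
  · intro h1
    rw [← hlen, Module.length_eq_one_iff] at h1
    refine (LocCoh.gorenstein_iff_socle hn).2 ?_
    haveI := h1
    obtain ⟨J, hJ, ⟨eJ⟩⟩ := isSimpleModule_iff_quot_maximal.1 h1
    haveI := hJ
    exact ⟨(Submodule.quotEquivOfEq _ _ (IsLocalRing.eq_maximalIdeal hJ).symm).trans eJ.symm⟩

end local'

section graded

variable {R : Type u} [CommRing R] {𝒜 : ℤ → AddSubgroup R} [GradedRing 𝒜] {X : Type u} [AddCommGroup X]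
  [Module R X] {𝒳 : ℤ → AddSubgroup X} [Decomposition 𝒳] [SetLike.GradedSMul 𝒜 𝒳] {m : HomogeneousIdeal 𝒜}

/-- A socle concentrated in one degree has that piece's rank as length. -/
theorem length_socle_eq_finrank (hpos : ∀ k : ℤ, k < 0 → 𝒜 k = ⊥) (h0 : IsField (GrLC.deg0 𝒜))
    (hp : ∀ k : ℤ, 0 < k → ∀ r ∈ 𝒜 k, r ∈ m.toIdeal) {c : ℤ} [Module.Finite (GrLC.deg0 𝒜) (GrLC.comp 𝒜 𝒳 c)]
    (hout : ∀ d, d ≠ c → ∀ x ∈ 𝒳 d, x ≠ 0 → ∃ r ∈ m.toIdeal, r • x ≠ 0)
    (hin : ∀ x ∈ 𝒳 c, ∀ r ∈ m.toIdeal, r • x = 0) :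
    Module.length R (_root_.LocCoh.torsionBy m.toIdeal X) =
      (Module.finrank (GrLC.deg0 𝒜) (GrLC.comp 𝒜 𝒳 c) : ℕ∞) := by
  letI := h0.toField
  have hmem : ∀ x : X, x ∈ _root_.LocCoh.torsionBy m.toIdeal X ↔ x ∈ 𝒳 c := by
    intro x
    refine ⟨fun hx => ?_, fun hx => (Submodule.mem_torsionBySet_iff _ _).2 fun r => hin x hx r r.2⟩
    refine mem_of_proj_mem 𝒳 (𝒳 c) fun d => ?_
    by_cases hd : d = c
    · exact hd ▸ proj_mem 𝒳 d x
    · have hk := GrBassCount.proj_mem_tors (𝒳 := 𝒳) m.isHomogeneous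
        (fun a ha => (Submodule.mem_torsionBySet_iff _ _).1 hx ⟨a, ha⟩) d
      by_contra hne
      obtain ⟨r, hr, hrx⟩ := hout d hd _ (proj_mem 𝒳 d x) fun h => hne (by rw [h]; exact zero_mem _)
      exact hrx (hk r hr)
  have hdiff : ∀ r : R, r - proj 𝒜 0 r ∈ m.toIdeal := fun r => by
    refine mem_of_proj_mem 𝒜 m.toIdeal fun g => ?_
    rw [map_sub]
    rcases lt_trichotomy g 0 with hg | hg | hg
    · rw [(AddSubgroup.eq_bot_iff_forall _).1 (hpos g hg) _ (proj_mem 𝒜 g r),
        proj_of_mem_ne (proj_mem 𝒜 0 r) hg.ne', sub_zero]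
      exact zero_mem _
    · subst hg
      rw [proj_of_mem (proj_mem 𝒜 0 r), sub_self]
      exact zero_mem _
    · rw [proj_of_mem_ne (proj_mem 𝒜 0 r) hg.ne, sub_zero]
      exact hp g hg _ (proj_mem 𝒜 g r)
  rw [← length_restrict (R := GrLC.deg0 𝒜) fun r x => ⟨⟨proj 𝒜 0 r, proj_mem 𝒜 0 r⟩, Subtype.ext ?_⟩]
  · let e : _root_.LocCoh.torsionBy m.toIdeal X ≃ₗ[GrLC.deg0 𝒜] GrLC.comp 𝒜 𝒳 c :=
      { toFun := fun x => ⟨x.1, (hmem x.1).1 x.2⟩
        invFun := fun x => ⟨x.1, (hmem x.1).2 x.2⟩
        left_inv := fun _ => rfl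
        right_inv := fun _ => rfl
        map_add' := fun _ _ => rfl
        map_smul' := fun _ _ => rfl }
    rw [e.length_eq, Module.length_eq_finrank]
  · show r • (x : X) = proj 𝒜 0 r • (x : X)
    rw [← sub_eq_zero, ← sub_smul]
    exact hin _ ((hmem _).1 x.2) _ (hdiff r)

variable [IsNoetherianRing R] (I : GrLC.StarInjRes 𝒜 𝒜) (m) in
theorem length_socle_H_congr (n : ℕ) :
    Module.length R (_root_.LocCoh.torsionBy m.toIdeal (_root_.LocCoh.H m.toIdeal n R)) =
      Module.length R (_root_.LocCoh.torsionBy m.toIdeal (I.H m n)) := by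
  obtain ⟨e⟩ := nonempty_H_equiv I m n
  obtain ⟨t⟩ := LocCoh.nonempty_torsionBy_equiv_hom m.toIdeal (_root_.LocCoh.H m.toIdeal n R)
  obtain ⟨t'⟩ := LocCoh.nonempty_torsionBy_equiv_hom m.toIdeal (I.H m n)
  rw [t.length_eq, t'.length_eq]
  exact (LinearEquiv.congrRight (M := R ⧸ m.toIdeal) e).symm.length_eq

end graded

end Groth.Agent.CAlgH3.GrTopSocle
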