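import Groth.Prelude.Def_CGrpSh2
import Groth.Agent.Desc19b.SiteRes.Shriek
import Groth.Agent.SiteCoh.Lan
import Groth.Agent.EtCmp.RDeg
import Groth.Agent.SpecSeq.RightDerivedPlus

/-!
# Exactness of the internal Hom into a fixed sheaf and the five lemma for double duals
-/

set_option autoImplicit false
set_option linter.all false
set_option backward.isDefEq.respectTransparency false
set_option backward.isDefEq.respectTransparency.types false
set_option synthInstance.maxHeartbeats 400000
set_option maxHeartbeats 1000000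

universe u

open CategoryTheory CategoryTheory.Limits Opposite

namespace Groth.Agent.CAlgH3.DualSix

variable {C : Type (u + 1)} [Category.{u} C] {J : GrothendieckTopology C}

instance hasExactColimits_overForget (U : C) (V : Cᵒᵖ) :
    HasExactColimitsOfShape (CostructuredArrow (Over.forget U).op V) AddCommGrpCat.{u + 1} := by
  obtain ⟨V⟩ := V
  exact hasExactColimitsOfShape_of_final AddCommGrpCat.{u + 1} (SiteCoh.overForgetCostructured U V)

/-- Restriction to a localised site keeps injectives. -/
theorem injective_over [HasSheafify J AddCommGrpCat.{u + 1}] (U : C) (I : Sheaf J AddCommGrpCat.{u + 1}) [Injective I] : Injective (I.over U) := by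
  haveI := Desc19b.SiteRes.lan_preservesFiniteLimits_of_exact AddCommGrpCat.{u + 1} (Over.forget U)
  haveI := Functor.sheafPullbackConstruction.preservesFiniteLimits (Over.forget U) AddCommGrpCat.{u + 1} (J.over U) J
  haveI : ((Over.forget U).sheafPullback AddCommGrpCat.{u + 1} (J.over U) J).PreservesMonomorphisms := inferInstance
  haveI : (J.overPullback AddCommGrpCat.{u + 1} U).PreservesInjectiveObjects :=
    Functor.preservesInjectiveObjects_of_adjunction_of_preservesMonomorphisms
      ((Over.forget U).sheafAdjunctionContinuous AddCommGrpCat.{u + 1} (J.over U) J)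
  exact (J.overPullback AddCommGrpCat.{u + 1} U).injective_obj_of_injective ‹Injective I›

/-- Exact sequences of sheaves from their sections. -/
theorem exact_and_mono_of_sections [HasSheafify J AddCommGrpCat.{u + 1}] [J.WEqualsLocallyBijective AddCommGrpCat.{u + 1}] (S : ShortComplex (Sheaf J AddCommGrpCat.{u + 1}))
    (hinj : ∀ U, Function.Injective (S.f.hom.app (op U)))
    (hex : ∀ U (s : S.X₂.obj.obj (op U)), S.g.hom.app (op U) s = 0 → ∃ t, S.f.hom.app (op U) t = s)
    : S.Exact ∧ Mono S.f := by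
  haveI : Mono S.f := by
    haveI : Mono ((sheafToPresheaf J AddCommGrpCat.{u + 1}).map S.f) := by
      haveI : ∀ U, Mono (S.f.hom.app U) := fun U => (AddCommGrpCat.mono_iff_injective _).2 (hinj U.unop)
      exact NatTrans.mono_of_mono_app S.f.hom
    exact (sheafToPresheaf J AddCommGrpCat.{u + 1}).mono_of_mono_map inferInstance
  have hcyc : ∀ U, Function.Injective (S.iCycles.hom.app (op U)) := fun U => by
    haveI : Mono S.iCycles.hom := inferInstanceAs (Mono ((sheafToPresheaf _ _).map S.iCycles))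
    exact (AddCommGrpCat.mono_iff_injective _).1 (inferInstanceAs (Mono (S.iCycles.hom.app (op U))))
  haveI : Sheaf.IsLocallySurjective S.toCycles := ⟨fun {U} z => by
    have hz : S.g.hom.app (op U) (S.iCycles.hom.app (op U) z) = 0 :=
      ConcreteCategory.congr_hom (congrArg (fun k => k.hom.app (op U)) S.iCycles_g) z
    obtain ⟨t, ht⟩ := hex U _ hz
    refine J.superset_covering ?_ (J.top_mem U)
    intro V i _
    refine ⟨S.X₁.obj.map i.op t, ?_⟩
    rw [NatTrans.naturality_apply S.toCycles.hom]
    refine congrArg (S.cycles.obj.map i.op) (hcyc U ?_)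
    exact (ConcreteCategory.congr_hom (congrArg (fun k => k.hom.app (op U)) S.toCycles_i) t).trans ht⟩
  exact ⟨(ShortComplex.exact_iff_epi_toCycles _).2 (Sheaf.epi_of_isLocallySurjective _), ‹_›⟩

/-- Short exact sequences of sheaves from their sections. -/
theorem shortExact_of_sections [HasSheafify J AddCommGrpCat.{u + 1}] [J.WEqualsLocallyBijective AddCommGrpCat.{u + 1}]
    (S : ShortComplex (Sheaf J AddCommGrpCat.{u + 1}))
    (hinj : ∀ U, Function.Injective (S.f.hom.app (op U)))
    (hex : ∀ U (s : S.X₂.obj.obj (op U)), S.g.hom.app (op U) s = 0 → ∃ t, S.f.hom.app (op U) t = s)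
    (hsurj : Sheaf.IsLocallySurjective S.g) : S.ShortExact :=
  { exact := (exact_and_mono_of_sections S hinj hex).1
    mono_f := (exact_and_mono_of_sections S hinj hex).2
    epi_g := haveI := hsurj; Sheaf.epi_of_isLocallySurjective S.g }

section Hom

variable [HasSheafify J AddCommGrpCat.{u + 1}] [J.WEqualsLocallyBijective AddCommGrpCat.{u + 1}] [∀ U : C, HasSheafify (J.over U) AddCommGrpCat.{u + 1}]
  {S : ShortComplex (Sheaf J AddCommGrpCat.{u + 1})} (hS : S.ShortExact)

include hS in
theorem shortExact_over (U : C) : (S.map (J.overPullback AddCommGrpCat.{u + 1} U)).ShortExact := by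
  haveI : (J.overPullback AddCommGrpCat.{u + 1} U).IsLeftAdjoint :=
    ((Over.forget U).sheafAdjunctionCocontinuous AddCommGrpCat.{u + 1} (J.over U) J).isLeftAdjoint
  haveI : (J.overPullback AddCommGrpCat.{u + 1} U).IsRightAdjoint :=
    ((Over.forget U).sheafAdjunctionContinuous AddCommGrpCat.{u + 1} (J.over U) J).isRightAdjoint
  haveI : PreservesFiniteLimits (J.overPullback AddCommGrpCat.{u + 1} U) := inferInstance
  haveI : PreservesFiniteColimits (J.overPullback AddCommGrpCat.{u + 1} U) := inferInstance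
  haveI := hS.mono_f
  haveI := hS.epi_g
  exact hS.map_of_exact (J.overPullback AddCommGrpCat.{u + 1} U)

variable (M : Sheaf J AddCommGrpCat.{u + 1})

/-- The sequence of internal Homs into `M`. -/
noncomputable def homSeq : ShortComplex (Sheaf J AddCommGrpCat.{u + 1}) :=
  ShortComplex.mk (HomSh.homShMap J S.g (𝟙 M)) (HomSh.homShMap J S.f (𝟙 M)) (by
    apply Sheaf.hom_ext
    refine NatTrans.ext (funext fun X => AddCommGrpCat.ext fun φ => ?_)
    show (J.overPullback AddCommGrpCat.{u + 1} X.unop).map S.f ≫ ((J.overPullback AddCommGrpCat.{u + 1} X.unop).map S.g ≫ φ ≫ (J.overPullback AddCommGrpCat.{u + 1} X.unop).map (𝟙 M)) ≫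
      (J.overPullback AddCommGrpCat.{u + 1} X.unop).map (𝟙 M) = 0
    simp only [← Functor.map_comp_assoc, ← Category.assoc]
    simp [← Functor.map_comp, S.zero])

include hS in
theorem homSeq_injective (U : C) :
    Function.Injective ((homSeq (S := S) M).f.hom.app (op U)) := by
  intro φ ψ h
  haveI := (shortExact_over hS U).epi_g
  have h' : (J.overPullback AddCommGrpCat.{u + 1} U).map S.g ≫ φ ≫ (J.overPullback AddCommGrpCat.{u + 1} U).map (𝟙 M) =
      (J.overPullback AddCommGrpCat.{u + 1} U).map S.g ≫ ψ ≫ (J.overPullback AddCommGrpCat.{u + 1} U).map (𝟙 M) := h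
  rw [CategoryTheory.Functor.map_id, Category.comp_id, Category.comp_id] at h'
  exact (cancel_epi ((S.map (J.overPullback AddCommGrpCat.{u + 1} U)).g)).1 h'

include hS in
theorem homSeq_exact (U : C) (φ : (homSeq (S := S) M).X₂.obj.obj (op U))
    (h : (homSeq (S := S) M).g.hom.app (op U) φ = 0) : ∃ ψ, (homSeq (S := S) M).f.hom.app (op U) ψ = φ := by
  have h' : (J.overPullback AddCommGrpCat.{u + 1} U).map S.f ≫ φ ≫ (J.overPullback AddCommGrpCat.{u + 1} U).map (𝟙 M) = 0 := h
  rw [CategoryTheory.Functor.map_id, Category.comp_id] at h'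
  haveI := (shortExact_over hS U).epi_g
  refine ⟨(shortExact_over hS U).exact.desc φ h', ?_⟩
  show (J.overPullback AddCommGrpCat.{u + 1} U).map S.g ≫ _ ≫ (J.overPullback AddCommGrpCat.{u + 1} U).map (𝟙 M) = φ
  rw [CategoryTheory.Functor.map_id, Category.comp_id]
  exact (shortExact_over hS U).exact.g_desc _ _

variable {M}

include hS in
/-- Homomorphisms extend locally when the local `Ext¹` vanishes on a resolution step. -/
theorem homSeq_locallySurjective {I Q : Sheaf J AddCommGrpCat.{u + 1}} (i : M ⟶ I) (π : I ⟶ Q) (w : i ≫ π = 0)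
    (hT : (ShortComplex.mk i π w).ShortExact) [Injective I]
    (hepi : Sheaf.IsLocallySurjective (HomSh.homShMap J (𝟙 S.X₃) π)) :
    Sheaf.IsLocallySurjective (homSeq (S := S) M).g := by
  refine ⟨fun {U} χ => ?_⟩
  haveI := (shortExact_over hS U).mono_f
  haveI : Injective (I.over U) := injective_over U I
  haveI : Mono ((J.overPullback AddCommGrpCat.{u + 1} U).map S.f) := (shortExact_over hS U).mono_f
  obtain ⟨χ', hχ'⟩ : ∃ χ' : S.X₂.over U ⟶ I.over U, (J.overPullback AddCommGrpCat.{u + 1} U).map S.f ≫ χ' = χ ≫ (J.overPullback AddCommGrpCat.{u + 1} U).map i :=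
    ⟨Injective.factorThru _ _, Injective.comp_factorThru _ _⟩
  have hβ0 : (S.map (J.overPullback AddCommGrpCat.{u + 1} U)).f ≫ χ' ≫ (J.overPullback AddCommGrpCat.{u + 1} U).map π = 0 := by
    show (J.overPullback AddCommGrpCat.{u + 1} U).map S.f ≫ χ' ≫ (J.overPullback AddCommGrpCat.{u + 1} U).map π = 0
    rw [reassoc_of% hχ', ← Functor.map_comp, w, Functor.map_zero, comp_zero]
  haveI := (shortExact_over hS U).epi_g
  let β : (HomSh.homSh J S.X₃ Q).obj.obj (op U) := (shortExact_over hS U).exact.desc _ hβ0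
  have hβ : (J.overPullback AddCommGrpCat.{u + 1} U).map S.g ≫ β = χ' ≫ (J.overPullback AddCommGrpCat.{u + 1} U).map π :=
    (shortExact_over hS U).exact.g_desc _ _
  refine J.superset_covering ?_ (Presheaf.imageSieve_mem J (HomSh.homShMap J (𝟙 S.X₃) π).hom β)
  rintro V m ⟨β', hβ'⟩
  let O := J.overPullback AddCommGrpCat.{u + 1} V
  let R := J.overMapPullback AddCommGrpCat.{u + 1} m
  let χR : S.X₁.over V ⟶ M.over V := R.map χ
  let χ'R : S.X₂.over V ⟶ I.over V := R.map χ'
  let βR : S.X₃.over V ⟶ Q.over V := R.map β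
  let b : S.X₃.over V ⟶ I.over V := β'
  have e1 : b ≫ O.map π = βR := by
    refine Eq.trans ?_ hβ'
    show _ = O.map (𝟙 S.X₃) ≫ b ≫ O.map π
    rw [CategoryTheory.Functor.map_id, Category.id_comp]
  have e2 : χ'R ≫ O.map π = O.map S.g ≫ βR :=
    (R.map_comp _ _).symm.trans ((congrArg R.map hβ.symm).trans (R.map_comp _ _))
  have e3 : O.map S.f ≫ χ'R = χR ≫ O.map i :=
    (R.map_comp _ _).symm.trans ((congrArg R.map hχ').trans (R.map_comp _ _))
  let χV : S.X₂.over V ⟶ I.over V := χ'R - O.map S.g ≫ b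
  have hπ : χV ≫ O.map π = 0 := by
    simp only [χV, Preadditive.sub_comp, Category.assoc, e1, e2, sub_self]
  have hTV := shortExact_over hT V
  haveI := hTV.mono_f
  let ψ : S.X₂.over V ⟶ M.over V := hTV.exact.lift χV hπ
  have hψ : ψ ≫ O.map i = χV := hTV.exact.lift_f _ _
  refine ⟨ψ, ?_⟩
  show O.map S.f ≫ ψ ≫ O.map (𝟙 M) = χR
  rw [CategoryTheory.Functor.map_id, Category.comp_id]
  haveI : Mono (O.map i) := hTV.mono_f
  rw [← cancel_mono (O.map i), Category.assoc, hψ]
  simp only [χV, Preadditive.comp_sub, ← Category.assoc, ← Functor.map_comp, S.zero, Functor.map_zero, zero_comp,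
    sub_zero]
  exact e3

end Hom

section Gen

universe w v

variable {E : Type w} [Category.{v} E] [Abelian E] [EnoughInjectives E] {E' : Type w} [Category.{v} E']
  [Abelian E'] (F : E ⥤ E') [F.Additive]

theorem epi_map_of_isZero {M I Q : E} (i : M ⟶ I) (π : I ⟶ Q) (w : i ≫ π = 0)
    (hT : (ShortComplex.mk i π w).ShortExact) [PreservesFiniteLimits F]
    (h : IsZero ((F.rightDerived 1).obj M)) : Epi (F.map π) :=
  SpecSeq.epi_map_of_isZero_rightDerived_one (F := F) hT h

end Gen

section LeftExact

variable [HasSheafify J AddCommGrpCat.{u + 1}] [J.WEqualsLocallyBijective AddCommGrpCat.{u + 1}]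
  [∀ U : C, HasSheafify (J.over U) AddCommGrpCat.{u + 1}] (P : Sheaf J AddCommGrpCat.{u + 1})

/-- The internal Hom is left exact in the second variable. -/
theorem preservesFiniteLimits_homShFunctor : PreservesFiniteLimits (HomSh.homShFunctor J P) := by
  have key : ∀ (T : ShortComplex (Sheaf J AddCommGrpCat.{u + 1})), T.ShortExact →
      (T.map (HomSh.homShFunctor J P)).Exact ∧ Mono ((HomSh.homShFunctor J P).map T.f) := fun T hT => by
    refine exact_and_mono_of_sections (T.map (HomSh.homShFunctor J P)) (fun U φ ψ h => ?_) (fun U φ h => ?_)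
    · haveI : Mono ((J.overPullback AddCommGrpCat.{u + 1} U).map T.f) := (shortExact_over hT U).mono_f
      have h' : (J.overPullback AddCommGrpCat.{u + 1} U).map (𝟙 P) ≫ φ ≫ (J.overPullback AddCommGrpCat.{u + 1} U).map T.f =
          (J.overPullback AddCommGrpCat.{u + 1} U).map (𝟙 P) ≫ ψ ≫ (J.overPullback AddCommGrpCat.{u + 1} U).map T.f := h
      rw [CategoryTheory.Functor.map_id, Category.id_comp, Category.id_comp] at h'
      exact (cancel_mono _).1 h'
    · haveI := (shortExact_over hT U).mono_f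
      have h' : (J.overPullback AddCommGrpCat.{u + 1} U).map (𝟙 P) ≫ φ ≫ (J.overPullback AddCommGrpCat.{u + 1} U).map T.g = 0 := h
      rw [CategoryTheory.Functor.map_id, Category.id_comp] at h'
      refine ⟨(shortExact_over hT U).exact.lift φ h', ?_⟩
      show (J.overPullback AddCommGrpCat.{u + 1} U).map (𝟙 P) ≫ _ ≫ (J.overPullback AddCommGrpCat.{u + 1} U).map T.f = φ
      rw [CategoryTheory.Functor.map_id, Category.id_comp]
      exact (shortExact_over hT U).exact.lift_f _ _
  exact ((Functor.preservesFiniteLimits_tfae (HomSh.homShFunctor J P)).out 3 0).2 key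

/-- Vanishing of the local `Ext¹` gives local surjectivity. -/
theorem locallySurjective_of_extSh [EnoughInjectives (Sheaf J AddCommGrpCat.{u + 1})]
    {M I Q : Sheaf J AddCommGrpCat.{u + 1}} (i : M ⟶ I) (π : I ⟶ Q) (w : i ≫ π = 0)
    (hT : (ShortComplex.mk i π w).ShortExact) (hExt : IsZero ((HomSh.extSh J P 1).obj M)) :
    Sheaf.IsLocallySurjective (HomSh.homShMap J (𝟙 P) π) := by
  haveI := preservesFiniteLimits_homShFunctor P
  rw [HomSh.extSh_def] at hExt
  haveI : Epi (HomSh.homShMap J (𝟙 P) π) :=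
    epi_map_of_isZero (HomSh.homShFunctor J P) i π w hT hExt
  exact (Sheaf.isLocallySurjective_iff_epi' (A := AddCommGrpCat.{u + 1}) _).2 inferInstance

end LeftExact

section Bidual

variable {F G : Sheaf J AddCommGrpCat.{u + 1}} (M : Sheaf J AddCommGrpCat.{u + 1}) (α : F ⟶ G)

theorem bidualMap_naturality :
    α ≫ HomSh.bidualMap J G M =
      HomSh.bidualMap J F M ≫ HomSh.homShMap J (HomSh.homShMap J α (𝟙 M)) (𝟙 M) := by
  apply Sheaf.hom_ext
  refine NatTrans.ext (funext fun X => AddCommGrpCat.ext fun s => ?_)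
  refine Sheaf.hom_ext (NatTrans.ext (funext fun U => AddCommGrpCat.ext fun φ => ?_))
  show HomSh.ev J φ (G.obj.map U.unop.hom.op (α.hom.app X s)) =
    HomSh.ev J ((J.overPullback AddCommGrpCat.{u + 1} U.unop.left).map α ≫ φ ≫ (J.overPullback AddCommGrpCat.{u + 1} U.unop.left).map (𝟙 M)) (F.obj.map U.unop.hom.op s)
  rw [← NatTrans.naturality_apply α.hom U.unop.hom.op s]
  rfl

end Bidual

section Five

variable [HasSheafify J AddCommGrpCat.{u + 1}] [J.WEqualsLocallyBijective AddCommGrpCat.{u + 1}]
  [∀ U : C, HasSheafify (J.over U) AddCommGrpCat.{u + 1}]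

/-- The five lemma for double duals. -/
theorem isIso_bidualMap {F₁ F₂ F₃ : Sheaf J AddCommGrpCat.{u + 1}} (f : F₁ ⟶ F₂) (g : F₂ ⟶ F₃) (w : f ≫ g = 0)
    (hS : (ShortComplex.mk f g w).ShortExact) (M : Sheaf J AddCommGrpCat.{u + 1})
    (hls : Sheaf.IsLocallySurjective (homSeq (S := ShortComplex.mk f g w) M).g)
    (h₁ : IsIso (HomSh.bidualMap J F₁ M)) (h₃ : IsIso (HomSh.bidualMap J F₃ M)) :
    IsIso (HomSh.bidualMap J F₂ M) := by
  have hD := shortExact_of_sections (homSeq (S := ShortComplex.mk f g w) M) (homSeq_injective hS M)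
    (homSeq_exact hS M) hls
  have hk := exact_and_mono_of_sections (homSeq (S := homSeq (S := ShortComplex.mk f g w) M) M)
    (homSeq_injective hD M) (homSeq_exact hD M)
  let φ : ShortComplex.mk f g w ⟶ homSeq (S := homSeq (S := ShortComplex.mk f g w) M) M :=
    ShortComplex.homMk (HomSh.bidualMap J F₁ M) (HomSh.bidualMap J F₂ M) (HomSh.bidualMap J F₃ M)
      (bidualMap_naturality M f).symm (bidualMap_naturality M g).symm
  haveI : IsIso φ.τ₁ := h₁
  haveI : IsIso φ.τ₃ := h₃
  haveI : Epi (ShortComplex.mk f g w).g := hS.epi_g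
  haveI : Epi (φ.τ₂ ≫ (homSeq (S := homSeq (S := ShortComplex.mk f g w) M) M).g) := by
    rw [φ.comm₂₃]; infer_instance
  exact ShortComplex.isIso₂_of_shortExact_of_isIso₁₃ φ hS
    { exact := hk.1
      mono_f := hk.2
      epi_g := epi_of_epi φ.τ₂ _ }

end Five


end Groth.Agent.CAlgH3.DualSix
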