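import Groth.Agent.CAlgH3.DualSix
import Mathlib.CategoryTheory.Sites.SheafCohomology.Basic
import Mathlib.CategoryTheory.Sites.ConstantSheaf
import Mathlib.Algebra.Category.Grp.Ulift

/-!
# The internal Hom into an injective sheaf has no first cohomology

A section of the quotient has local lifts `j`; their differences are homomorphisms `A ⟶ I`, which come from
homomorphisms out of the presheaf of formal sums of elements of `A` indexed by lifts, so that injectivity of `I`
corrects the lifts to compatible ones.
-/

set_option autoImplicit false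
set_option linter.all false
set_option backward.isDefEq.respectTransparency false
set_option backward.isDefEq.respectTransparency.types false
set_option synthInstance.maxHeartbeats 400000
set_option maxHeartbeats 1000000

universe u

open CategoryTheory CategoryTheory.Limits CategoryTheory.Abelian Opposite

namespace Groth.Agent.CAlgH3.HomShAcyclic

variable {C : Type (u + 1)} [Category.{u} C] {J : GrothendieckTopology C}
  [HasSheafify J AddCommGrpCat.{u + 1}] [J.WEqualsLocallyBijective AddCommGrpCat.{u + 1}]

theorem map_injective_apply {F G : Sheaf J AddCommGrpCat.{u + 1}} (f : F ⟶ G) [Mono f] (U : C) :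
    Function.Injective (f.hom.app (op U)) := by
  haveI : Mono f.hom := inferInstanceAs (Mono ((sheafToPresheaf _ _).map f))
  exact (AddCommGrpCat.mono_iff_injective _).1 (inferInstanceAs (Mono (f.hom.app (op U))))

theorem exact_apply {S : ShortComplex (Sheaf J AddCommGrpCat.{u + 1})} (hS : S.ShortExact) (U : C)
    (s : S.X₂.obj.obj (op U)) (h : S.g.hom.app (op U) s = 0) : ∃ t, S.f.hom.app (op U) t = s := by
  let Φ : Sheaf J AddCommGrpCat.{u + 1} ⥤ AddCommGrpCat.{u + 1} :=
    sheafToPresheaf _ AddCommGrpCat.{u + 1} ⋙ (evaluation _ _).obj (op U)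
  haveI : Φ.Additive := { map_add := rfl }
  haveI : PreservesFiniteLimits Φ := comp_preservesFiniteLimits _ _
  exact (ShortComplex.ab_exact_iff _).1
    (hS.exact.map_of_mono_of_preservesKernel Φ hS.mono_f inferInstance) s h

section Ev

variable {A I : Sheaf J AddCommGrpCat.{u + 1}}

/-- The value of a restricted homomorphism. -/
theorem ev_res {U V : C} (r : V ⟶ U) (φ : A.over U ⟶ I.over U) (a : A.obj.obj (op U)) :
    HomSh.ev J ((HomSh.homSh J A I).obj.map r.op φ) (A.obj.map r.op a) = I.obj.map r.op (HomSh.ev J φ a) := by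
  show φ.hom.app (op (Over.mk (𝟙 V ≫ r))) (A.obj.map r.op a) = _
  refine (HomSh.app_over_mk_congr J φ (Category.id_comp r) _).trans ?_
  exact NatTrans.naturality_apply φ.hom (Over.homMk r : Over.mk r ⟶ Over.mk (𝟙 U)).op a

/-- The components of a homomorphism are the values of its restrictions. -/
theorem ev_map {U : C} (φ : A.over U ⟶ I.over U) (W : Over U) (a : A.obj.obj (op W.left)) :
    HomSh.ev J ((HomSh.homSh J A I).obj.map W.hom.op φ) a = φ.hom.app (op W) a := by
  show φ.hom.app (op (Over.mk (𝟙 W.left ≫ W.hom))) a = _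
  exact HomSh.app_over_mk_congr J φ (Category.id_comp W.hom) _

end Ev

section Lift

variable {T : C} (hT : IsTerminal T) {A I X K : Sheaf J AddCommGrpCat.{u + 1}}
  (f : HomSh.homSh J A I ⟶ X) (g : X ⟶ K) (w : f ≫ g = 0)
  (hS : (ShortComplex.mk f g w).ShortExact) (s : K.obj.obj (op T))

/-- Lifts of a global section. -/
def L (U : C) : Type (u + 1) := { x : X.obj.obj (op U) // g.hom.app (op U) x = K.obj.map (hT.from U).op s }

/-- Restriction of lifts. -/
def resL {U V : C} (r : V ⟶ U) (x : L hT g s U) : L hT g s V :=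
  ⟨X.obj.map r.op x.1, by
    refine (NatTrans.naturality_apply g.hom r.op x.1).trans ((congrArg (K.obj.map r.op) x.2).trans ?_)
    refine (Functor.map_comp_apply _ _ _ _).symm.trans ?_
    rw [← op_comp, hT.hom_ext (r ≫ hT.from U) (hT.from V)]⟩

theorem resL_id (U : C) (x : L hT g s U) : resL hT g s (𝟙 U) x = x :=
  Subtype.ext (by show X.obj.map (𝟙 (op U)) x.1 = x.1; rw [CategoryTheory.Functor.map_id]; rfl)

theorem resL_comp {U V W : C} (r : V ⟶ U) (r' : W ⟶ V) (x : L hT g s U) :
    resL hT g s (r' ≫ r) x = resL hT g s r' (resL hT g s r x) :=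
  Subtype.ext (Functor.map_comp_apply X.obj r.op r'.op x.1)

/-- Restriction of formal sums. -/
noncomputable def resB {U V : C} (r : V ⟶ U) :
    (L hT g s U →₀ A.obj.obj (op U)) →+ (L hT g s V →₀ A.obj.obj (op V)) :=
  (Finsupp.mapDomain.addMonoidHom (resL hT g s r)).comp (Finsupp.mapRange.addMonoidHom (A.obj.map r.op).hom)

theorem resB_single {U V : C} (r : V ⟶ U) (x : L hT g s U) (a : A.obj.obj (op U)) :
    resB hT g s r (Finsupp.single x a) = Finsupp.single (resL hT g s r x) (A.obj.map r.op a) := by
  simp [resB]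

/-- Formal sums of elements indexed by lifts. -/
noncomputable def B : Cᵒᵖ ⥤ AddCommGrpCat.{u + 1} where
  obj U := AddCommGrpCat.of (L hT g s U.unop →₀ A.obj.obj (op U.unop))
  map r := AddCommGrpCat.ofHom (resB hT g s r.unop)
  map_id U := AddCommGrpCat.hom_ext (Finsupp.addHom_ext fun x a => by
    show resB hT g s (𝟙 U.unop) (Finsupp.single x a) = Finsupp.single x a
    rw [resB_single, resL_id, op_id, CategoryTheory.Functor.map_id]
    rfl)
  map_comp {U V W} r r' := AddCommGrpCat.hom_ext (Finsupp.addHom_ext fun x a => by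
    show resB hT g s (r'.unop ≫ r.unop) (Finsupp.single x a) = resB hT g s r'.unop (resB hT g s r.unop (Finsupp.single x a))
    rw [resB_single, resB_single, resB_single, resL_comp, op_comp, Functor.map_comp_apply])

/-- The sum of a formal sum. -/
noncomputable def tot (U : C) : (L hT g s U →₀ A.obj.obj (op U)) →+ A.obj.obj (op U) :=
  Finsupp.liftAddHom fun _ => AddMonoidHom.id _

theorem tot_single (U : C) (x : L hT g s U) (a : A.obj.obj (op U)) : tot hT g s U (Finsupp.single x a) = a := by
  simp [tot]

theorem tot_res {U V : C} (r : V ⟶ U) (b : L hT g s U →₀ A.obj.obj (op U)) :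
    tot hT g s V (resB hT g s r b) = A.obj.map r.op (tot hT g s U b) := by
  refine DFunLike.congr_fun (f := (tot hT g s V).comp (resB hT g s r))
    (g := (A.obj.map r.op).hom.comp (tot hT g s U)) (Finsupp.addHom_ext fun x a => ?_) b
  show tot hT g s V (resB hT g s r (Finsupp.single x a)) = A.obj.map r.op (tot hT g s U (Finsupp.single x a))
  rw [resB_single, tot_single, tot_single]

/-- Formal sums with sum zero. -/
noncomputable def R : Cᵒᵖ ⥤ AddCommGrpCat.{u + 1} where
  obj U := AddCommGrpCat.of (tot (A := A) hT g s U.unop).ker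
  map {U V} r := AddCommGrpCat.ofHom
    (((resB hT g s r.unop).comp (tot hT g s U.unop).ker.subtype).codRestrict _ fun b => by
      show tot hT g s V.unop (resB hT g s r.unop b.1) = 0
      rw [tot_res, b.2, map_zero])
  map_id U := AddCommGrpCat.hom_ext (AddMonoidHom.ext fun b => Subtype.ext (by
    exact ConcreteCategory.congr_hom ((B (A := A) hT g s).map_id U) b.1))
  map_comp r r' := AddCommGrpCat.hom_ext (AddMonoidHom.ext fun b => Subtype.ext (by
    exact ConcreteCategory.congr_hom ((B (A := A) hT g s).map_comp r r') b.1))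

/-- The inclusion. -/
noncomputable def incl : R (A := A) hT g s ⟶ B (A := A) hT g s where
  app U := AddCommGrpCat.ofHom (tot (A := A) hT g s U.unop).ker.subtype
  naturality U V r := AddCommGrpCat.hom_ext (AddMonoidHom.ext fun b => rfl)

instance mono_incl : Mono (incl (A := A) hT g s) := by
  haveI : ∀ U, Mono ((incl (A := A) hT g s).app U) := fun U =>
    (AddCommGrpCat.mono_iff_injective _).2 Subtype.val_injective
  exact NatTrans.mono_of_mono_app _

include w hS in
theorem exists_diff {U : C} (x y : L hT g s U) :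
    ∃ d : (HomSh.homSh J A I).obj.obj (op U), f.hom.app (op U) d = x.1 - y.1 :=
  exact_apply hS U (x.1 - y.1) (by
    show g.hom.app (op U) (x.1 - y.1) = 0
    rw [map_sub, x.2, y.2, sub_self])

/-- The difference of two lifts. -/
noncomputable def d {U : C} (x y : L hT g s U) : A.over U ⟶ I.over U := (exists_diff hT f g w hS s x y).choose

theorem f_d {U : C} (x y : L hT g s U) :
    f.hom.app (op U) (d hT f g w hS s x y) = x.1 - y.1 := (exists_diff hT f g w hS s x y).choose_spec

theorem d_add {U : C} (x y z : L hT g s U) :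
    d hT f g w hS s x z = d hT f g w hS s x y + d hT f g w hS s y z := by
  haveI : Mono f := hS.mono_f
  refine map_injective_apply f U ((f_d hT f g w hS s x z).trans (Eq.symm ?_))
  refine (map_add (f.hom.app (op U)).hom (d hT f g w hS s x y) (d hT f g w hS s y z)).trans ?_
  refine (congrArg₂ (· + ·) (f_d hT f g w hS s x y) (f_d hT f g w hS s y z)).trans ?_
  exact sub_add_sub_cancel _ _ _

theorem d_self {U : C} (x : L hT g s U) : d hT f g w hS s x x = 0 := by
  have h := d_add hT f g w hS s x x x
  exact left_eq_add.1 h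

theorem d_res {U V : C} (r : V ⟶ U) (x y : L hT g s U) :
    (HomSh.homSh J A I).obj.map r.op (d hT f g w hS s x y) =
      d hT f g w hS s (resL hT g s r x) (resL hT g s r y) := by
  haveI : Mono f := hS.mono_f
  refine map_injective_apply f V ?_
  refine (NatTrans.naturality_apply f.hom r.op (d hT f g w hS s x y)).trans (Eq.trans ?_ (f_d hT f g w hS s _ _).symm)
  exact (congrArg (X.obj.map r.op) (f_d hT f g w hS s x y)).trans (map_sub _ _ _)

/-- The pairing based at a lift. -/
noncomputable def rho₀ {U : C} (y : L hT g s U) : (L hT g s U →₀ A.obj.obj (op U)) →+ I.obj.obj (op U) :=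
  Finsupp.liftAddHom fun x => HomSh.ev J (d hT f g w hS s x y)

theorem rho₀_single {U : C} (y x : L hT g s U) (a : A.obj.obj (op U)) :
    rho₀ hT f g w hS s y (Finsupp.single x a) = HomSh.ev J (d hT f g w hS s x y) a := by
  simp [rho₀]

theorem rho₀_change {U : C} (y z : L hT g s U) (b : L hT g s U →₀ A.obj.obj (op U)) :
    rho₀ hT f g w hS s z b = rho₀ hT f g w hS s y b + HomSh.ev J (d hT f g w hS s y z) (tot hT g s U b) := by
  refine DFunLike.congr_fun (f := rho₀ hT f g w hS s z)
    (g := rho₀ hT f g w hS s y + (HomSh.ev J (d hT f g w hS s y z)).comp (tot hT g s U))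
    (Finsupp.addHom_ext fun x a => ?_) b
  show rho₀ hT f g w hS s z (Finsupp.single x a) = rho₀ hT f g w hS s y (Finsupp.single x a) +
    HomSh.ev J (d hT f g w hS s y z) (tot hT g s U (Finsupp.single x a))
  rw [rho₀_single, rho₀_single, tot_single, d_add hT f g w hS s x y z, HomSh.ev_add]
  rfl

open Classical in
/-- The pairing on sums zero. -/
noncomputable def rho (U : C) : (tot (A := A) hT g s U).ker →+ I.obj.obj (op U) :=
  if h : Nonempty (L hT g s U) then (rho₀ hT f g w hS s h.some).comp (tot hT g s U).ker.subtype else 0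

theorem rho_eq {U : C} (y : L hT g s U) (b : (tot (A := A) hT g s U).ker) :
    rho hT f g w hS s U b = rho₀ hT f g w hS s y b.1 := by
  have h : Nonempty (L hT g s U) := ⟨y⟩
  rw [rho, dif_pos h]
  show rho₀ hT f g w hS s h.some b.1 = _
  rw [rho₀_change hT f g w hS s y, b.2, map_zero, add_zero]

/-- The pairing as a map of presheaves. -/
noncomputable def rhoHom : R (A := A) hT g s ⟶ I.obj where
  app U := AddCommGrpCat.ofHom (rho hT f g w hS s U.unop)
  naturality U V r := AddCommGrpCat.hom_ext (AddMonoidHom.ext fun b => by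
    by_cases h : Nonempty (L hT g s U.unop)
    · obtain ⟨y⟩ := h
      show rho hT f g w hS s V.unop ((R hT g s).map r b) = I.obj.map r (rho hT f g w hS s U.unop b)
      rw [rho_eq hT f g w hS s (resL hT g s r.unop y), rho_eq hT f g w hS s y]
      show rho₀ hT f g w hS s (resL hT g s r.unop y) (resB hT g s r.unop b.1) = _
      refine DFunLike.congr_fun (f := (rho₀ hT f g w hS s (resL hT g s r.unop y)).comp (resB hT g s r.unop))
        (g := (I.obj.map r).hom.comp (rho₀ hT f g w hS s y)) (Finsupp.addHom_ext fun x a => ?_) b.1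
      show rho₀ hT f g w hS s (resL hT g s r.unop y) (resB hT g s r.unop (Finsupp.single x a)) =
        I.obj.map r (rho₀ hT f g w hS s y (Finsupp.single x a))
      rw [resB_single, rho₀_single, rho₀_single, ← d_res]
      exact ev_res r.unop _ a
    · haveI : IsEmpty (L hT g s U.unop) := not_nonempty_iff.1 h
      have hb : b = 0 := Subtype.ext (Finsupp.ext fun x => isEmptyElim x)
      rw [hb, map_zero, map_zero])

variable [Injective I]

theorem injective_obj : Injective I.obj :=
  Injective.injective_of_adjoint (sheafificationAdjunction J AddCommGrpCat.{u + 1}) I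

/-- The extended pairing. -/
noncomputable def sigma : B (A := A) hT g s ⟶ I.obj :=
  haveI := injective_obj (I := I)
  Injective.factorThru (rhoHom hT f g w hS s) (incl hT g s)

theorem sigma_incl {U : C} (b : (tot (A := A) hT g s U).ker) :
    (sigma hT f g w hS s).app (op U) b.1 = rho hT f g w hS s U b := by
  haveI := injective_obj (I := I)
  have e := congrArg (fun k => k.app (op U)) (Injective.comp_factorThru (rhoHom hT f g w hS s) (incl hT g s))
  exact ConcreteCategory.congr_hom e b

theorem sigma_res {U V : C} (r : V ⟶ U) (x : L hT g s U) (a : A.obj.obj (op U)) :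
    (sigma hT f g w hS s).app (op V) (Finsupp.single (resL hT g s r x) (A.obj.map r.op a)) =
      I.obj.map r.op ((sigma hT f g w hS s).app (op U) (Finsupp.single x a)) := by
  rw [← resB_single]
  exact NatTrans.naturality_apply (sigma hT f g w hS s) r.op (Finsupp.single x a)

/-- The correction of a lift. -/
noncomputable def psi {U : C} (x : L hT g s U) : A.over U ⟶ I.over U :=
  ⟨{ app := fun W => AddCommGrpCat.ofHom (AddMonoidHom.mk'
      (fun a : A.obj.obj (op W.unop.left) =>
        (sigma hT f g w hS s).app (op W.unop.left) (Finsupp.single (resL hT g s W.unop.hom x) a))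
      fun a b => (congrArg _ (Finsupp.single_add _ _ _)).trans (map_add _ _ _))
     naturality := fun W W' m => AddCommGrpCat.hom_ext (AddMonoidHom.ext fun a => by
       show (sigma hT f g w hS s).app (op W'.unop.left)
           (Finsupp.single (resL hT g s W'.unop.hom x) (A.obj.map m.unop.left.op a)) =
         I.obj.map m.unop.left.op ((sigma hT f g w hS s).app (op W.unop.left)
           (Finsupp.single (resL hT g s W.unop.hom x) a))
       rw [← Over.w m.unop, resL_comp]
       exact sigma_res hT f g w hS s m.unop.left _ a) }⟩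

theorem psi_app {U : C} (x : L hT g s U) (W : Over U) (a : A.obj.obj (op W.left)) :
    (psi hT f g w hS s x).hom.app (op W) a =
      (sigma hT f g w hS s).app (op W.left) (Finsupp.single (resL hT g s W.hom x) a) := rfl

theorem psi_sub {U : C} (x y : L hT g s U) :
    psi hT f g w hS s x = d hT f g w hS s x y + psi hT f g w hS s y := by
  refine Sheaf.hom_ext (NatTrans.ext (funext fun W => AddCommGrpCat.hom_ext (AddMonoidHom.ext fun a => ?_)))
  obtain ⟨W⟩ := W
  let a' : A.obj.obj (op W.left) := a
  let x' := resL hT g s W.hom x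
  let y' := resL hT g s W.hom y
  have hk : Finsupp.single x' a' - Finsupp.single y' a' ∈ (tot hT g s W.left).ker := by
    show tot hT g s W.left _ = 0
    rw [map_sub, tot_single, tot_single, sub_self]
  have h := sigma_incl hT f g w hS s ⟨_, hk⟩
  rw [rho_eq hT f g w hS s y'] at h
  simp only [map_sub, rho₀_single, d_self, HomSh.ev_zero, AddMonoidHom.zero_apply, sub_zero] at h
  rw [← d_res, ev_map] at h
  show (psi hT f g w hS s x).hom.app (op W) a' =
    (d hT f g w hS s x y).hom.app (op W) a' + (psi hT f g w hS s y).hom.app (op W) a'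
  rw [psi_app, psi_app]
  exact sub_eq_iff_eq_add.1 h

theorem psi_res {U V : C} (r : V ⟶ U) (x : L hT g s U) :
    (HomSh.homSh J A I).obj.map r.op (psi hT f g w hS s x) = psi hT f g w hS s (resL hT g s r x) := by
  refine Sheaf.hom_ext (NatTrans.ext (funext fun W => AddCommGrpCat.hom_ext (AddMonoidHom.ext fun a => ?_)))
  obtain ⟨W⟩ := W
  show (sigma hT f g w hS s).app (op W.left) (Finsupp.single (resL hT g s (W.hom ≫ r) x) a) =
    (sigma hT f g w hS s).app (op W.left) (Finsupp.single (resL hT g s W.hom (resL hT g s r x)) a)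
  rw [resL_comp]

/-- The corrected lift. -/
noncomputable def z {U : C} (x : L hT g s U) : X.obj.obj (op U) :=
  x.1 - f.hom.app (op U) (psi hT f g w hS s x)

theorem z_eq {U : C} (x y : L hT g s U) : z hT f g w hS s x = z hT f g w hS s y := by
  have h : f.hom.app (op U) (psi hT f g w hS s x) = (x.1 - y.1) + f.hom.app (op U) (psi hT f g w hS s y) := by
    rw [psi_sub hT f g w hS s x y]
    exact (map_add (f.hom.app (op U)).hom (d hT f g w hS s x y) _).trans
      (congrArg (· + _) (f_d hT f g w hS s x y))
  simp only [z, h]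
  abel

theorem z_res {U V : C} (r : V ⟶ U) (x : L hT g s U) :
    X.obj.map r.op (z hT f g w hS s x) = z hT f g w hS s (resL hT g s r x) := by
  rw [z, map_sub, ← NatTrans.naturality_apply f.hom r.op (psi hT f g w hS s x)]
  exact congrArg (X.obj.map r.op x.1 - f.hom.app (op V) ·) (psi_res hT f g w hS s r x)

include hT w hS in
/-- Global sections of a quotient by the internal Hom into an injective lift. -/
theorem exists_lift : ∃ x : X.obj.obj (op T), g.hom.app (op T) x = s := by
  haveI : Epi g := hS.epi_g
  haveI : Sheaf.IsLocallySurjective g :=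
    (Sheaf.isLocallySurjective_iff_epi' (A := AddCommGrpCat.{u + 1}) g).2 inferInstance
  let S := Presheaf.imageSieve g.hom s
  have hcov : S ∈ J T := Presheaf.imageSieve_mem J g.hom s
  have hL : ∀ ⦃V : C⦄ (m : V ⟶ T), S.arrows m → Nonempty (L hT g s V) := fun V m hm => by
    obtain ⟨x, hx⟩ := hm
    exact ⟨⟨x, by rw [hx, hT.hom_ext m (hT.from V)]⟩⟩
  have hX := ((isSheaf_iff_isSheaf_of_type J _).1
    ((sheafCompose J (forget AddCommGrpCat.{u + 1})).obj X).property) S hcov
  let fam : Presieve.FamilyOfElements (X.obj ⋙ forget AddCommGrpCat.{u + 1}) S.arrows :=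
    fun V m hm => z hT f g w hS s (hL m hm).some
  have hfam : fam.Compatible := by
    intro Y₁ Y₂ Z g₁ g₂ m₁ m₂ h₁ h₂ _
    show X.obj.map g₁.op (z hT f g w hS s _) = X.obj.map g₂.op (z hT f g w hS s _)
    rw [z_res, z_res]
    exact z_eq hT f g w hS s _ _
  refine ⟨hX.amalgamate fam hfam, ?_⟩
  have hK := ((isSheaf_iff_isSheaf_of_type J _).1
    ((sheafCompose J (forget AddCommGrpCat.{u + 1})).obj K).property) S hcov
  refine hK.isSeparatedFor.ext fun V m hm => ?_
  show K.obj.map m.op (g.hom.app (op T) _) = K.obj.map m.op s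
  refine (NatTrans.naturality_apply g.hom m.op _).symm.trans ?_
  refine (congrArg (g.hom.app (op V)) (hX.valid_glue hfam m hm)).trans ?_
  show g.hom.app (op V) (z hT f g w hS s _) = _
  rw [z, map_sub, (hL m hm).some.2,
    show g.hom.app (op V) (f.hom.app (op V) _) = (0 : K.obj.obj (op V)) from
      ConcreteCategory.congr_hom (congrArg (fun k => k.hom.app (op V)) w) _, sub_zero, hT.hom_ext m (hT.from V)]

end Lift

section Coh

variable [HasExt.{u + 1} (Sheaf J AddCommGrpCat.{u + 1})] {T : C} (hT : IsTerminal T)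

/-- The constant sheaf of integers. -/
noncomputable abbrev Zsh : Sheaf J AddCommGrpCat.{u + 1} :=
  (constantSheaf J AddCommGrpCat.{u + 1}).obj (AddCommGrpCat.of (ULift.{u + 1} ℤ))

/-- The section of a map from the constant sheaf. -/
noncomputable def sec {F : Sheaf J AddCommGrpCat.{u + 1}} (k : Zsh ⟶ F) : F.obj.obj (op T) :=
  (constantSheafAdj J AddCommGrpCat.{u + 1} hT).homEquiv _ F k (ULift.up (1 : ℤ))

theorem sec_comp {F G : Sheaf J AddCommGrpCat.{u + 1}} (k : Zsh ⟶ F) (m : F ⟶ G) :
    sec hT (k ≫ m) = m.hom.app (op T) (sec hT k) := by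
  rw [sec, Adjunction.homEquiv_naturality_right]
  rfl

theorem sec_injective {F : Sheaf J AddCommGrpCat.{u + 1}} : Function.Injective (sec hT (F := F)) := by
  intro k k' h
  refine ((constantSheafAdj J AddCommGrpCat.{u + 1} hT).homEquiv _ F).injective ?_
  refine AddCommGrpCat.hom_ext (AddMonoidHom.ext fun n => ?_)
  obtain ⟨n⟩ := n
  have hn : ULift.up n = n • (ULift.up (1 : ℤ) : ULift.{u + 1} ℤ) := ULift.ext _ _ (by simp)
  rw [hn, map_zsmul, map_zsmul]
  exact congrArg (n • ·) h

theorem sec_surjective {F : Sheaf J AddCommGrpCat.{u + 1}} (x : F.obj.obj (op T)) :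
    ∃ k : Zsh ⟶ F, sec hT k = x := by
  let e : AddCommGrpCat.of (ULift.{u + 1} ℤ) ⟶ ((sheafSections J AddCommGrpCat.{u + 1}).obj (op T)).obj F :=
    AddCommGrpCat.ofHom ((zmultiplesHom (F.obj.obj (op T)) x).comp AddEquiv.ulift.toAddMonoidHom)
  refine ⟨((constantSheafAdj J AddCommGrpCat.{u + 1} hT).homEquiv _ F).symm e, ?_⟩
  rw [sec, Equiv.apply_symm_apply]
  exact one_zsmul x

include hT in
/-- The internal Hom into an injective sheaf has no first cohomology. -/
theorem subsingleton_H_of_injective [EnoughInjectives (Sheaf J AddCommGrpCat.{u + 1})]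
    (A I : Sheaf J AddCommGrpCat.{u + 1}) [Injective I] : Subsingleton (Sheaf.H (HomSh.homSh J A I) 1) := by
  refine subsingleton_of_forall_eq 0 fun x => ?_
  let f := Injective.ι (HomSh.homSh J A I)
  let S := ShortComplex.mk f (cokernel.π f) (cokernel.condition f)
  have hS : S.ShortExact :=
    { exact := ShortComplex.exact_cokernel _
      mono_f := inferInstanceAs (Mono (Injective.ι _))
      epi_g := inferInstanceAs (Epi (cokernel.π _)) }
  haveI : Injective S.X₂ := inferInstanceAs (Injective (Injective.under _))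
  obtain ⟨y, hy⟩ := Ext.covariant_sequence_exact₁ _ hS x (Ext.eq_zero_of_injective _) rfl
  obtain ⟨k, rfl⟩ := (Ext.mk₀_bijective _ _).2 y
  obtain ⟨j, hj⟩ := exists_lift hT f (cokernel.π f) (cokernel.condition f) hS (sec hT k)
  obtain ⟨k', hk'⟩ := sec_surjective hT j
  obtain rfl : k' ≫ S.g = k := sec_injective hT ((sec_comp hT k' S.g).trans ((congrArg _ hk').trans hj))
  rw [← hy, ← Ext.mk₀_comp_mk₀, Ext.comp_assoc_of_second_deg_zero, hS.comp_extClass]
  exact Ext.comp_zero (Ext.mk₀ k') _ _ _ _

/-- The homomorphism given by a section of the internal Hom over a final object. -/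
noncomputable def globalHom {A B : Sheaf J AddCommGrpCat.{u + 1}} (φ : A.over T ⟶ B.over T) : A ⟶ B :=
  ⟨{ app := fun U => AddCommGrpCat.ofHom (φ.hom.app (op (Over.mk (hT.from U.unop)))).hom
     naturality := fun U V r => AddCommGrpCat.hom_ext (AddMonoidHom.ext fun a =>
       NatTrans.naturality_apply φ.hom
         (Over.homMk r.unop (hT.hom_ext _ _) : Over.mk (hT.from V.unop) ⟶ Over.mk (hT.from U.unop)).op a) }⟩

theorem over_globalHom {A B : Sheaf J AddCommGrpCat.{u + 1}} (φ : A.over T ⟶ B.over T) :
    (J.overPullback AddCommGrpCat.{u + 1} T).map (globalHom hT φ) = φ := by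
  refine Sheaf.hom_ext (NatTrans.ext (funext fun W => AddCommGrpCat.hom_ext (AddMonoidHom.ext fun a => ?_)))
  exact HomSh.app_over_mk_congr J φ (hT.hom_ext (hT.from W.unop.left) W.unop.hom) a

variable [∀ U : C, HasSheafify (J.over U) AddCommGrpCat.{u + 1}]

include hT in
/-- The internal Hom has no first cohomology when homomorphisms to the first step of a resolution lift. -/
theorem subsingleton_H_of_lift [EnoughInjectives (Sheaf J AddCommGrpCat.{u + 1})]
    {A M I Q : Sheaf J AddCommGrpCat.{u + 1}} (i : M ⟶ I) (π : I ⟶ Q) (w : i ≫ π = 0)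
    (hM : (ShortComplex.mk i π w).ShortExact) [Injective I]
    (hlift : ∀ φ : A ⟶ Q, ∃ ψ : A ⟶ I, ψ ≫ π = φ) : Subsingleton (Sheaf.H (HomSh.homSh J A M) 1) := by
  refine subsingleton_of_forall_eq 0 fun x => ?_
  haveI := DualSix.preservesFiniteLimits_homShFunctor (J := J) A
  let a : HomSh.homSh J A M ⟶ HomSh.homSh J A I := (HomSh.homShFunctor J A).map i
  let b : HomSh.homSh J A I ⟶ HomSh.homSh J A Q := (HomSh.homShFunctor J A).map π
  have hab : a ≫ b = 0 := by rw [← Functor.map_comp, w, Functor.map_zero]
  have key : ∀ (T : ShortComplex (Sheaf J AddCommGrpCat.{u + 1})), T.ShortExact →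
      (T.map (HomSh.homShFunctor J A)).Exact ∧ Mono ((HomSh.homShFunctor J A).map T.f) :=
    ((Functor.preservesFiniteLimits_tfae (HomSh.homShFunctor J A)).out 3 0).1
      (DualSix.preservesFiniteLimits_homShFunctor A)
  obtain ⟨hexab, ha⟩ := key (ShortComplex.mk i π w) hM
  haveI : Mono a := ha
  let S := ShortComplex.mk a (cokernel.π a) (cokernel.condition a)
  have hS : S.ShortExact :=
    { exact := ShortComplex.exact_cokernel _
      mono_f := ha
      epi_g := inferInstanceAs (Epi (cokernel.π _)) }
  haveI := subsingleton_H_of_injective hT A I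
  obtain ⟨y, hy⟩ := Ext.covariant_sequence_exact₁ (S := S) _ hS x
    (Subsingleton.elim (α := Sheaf.H (HomSh.homSh J A I) 1) _ _) rfl
  obtain ⟨k, rfl⟩ := (Ext.mk₀_bijective _ _).2 y
  let m : cokernel a ⟶ HomSh.homSh J A Q := cokernel.desc a b hab
  haveI : Mono m := (ShortComplex.exact_iff_mono_cokernel_desc (ShortComplex.mk a b hab)).1 hexab
  let φ : A.over T ⟶ Q.over T := sec hT (k ≫ m)
  obtain ⟨ψ, hψ⟩ := hlift (globalHom hT φ)
  let ψT : (HomSh.homSh J A I).obj.obj (op T) := (J.overPullback AddCommGrpCat.{u + 1} T).map ψ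
  obtain ⟨k', hk'⟩ := sec_surjective hT ψT
  have h2 : sec hT (k' ≫ b) = sec hT (k ≫ m) := by
    rw [sec_comp hT k' b, hk']
    show (J.overPullback AddCommGrpCat.{u + 1} T).map (𝟙 A) ≫ (J.overPullback AddCommGrpCat.{u + 1} T).map ψ ≫
      (J.overPullback AddCommGrpCat.{u + 1} T).map π = φ
    rw [CategoryTheory.Functor.map_id, Category.id_comp, ← Functor.map_comp, hψ, over_globalHom]
  obtain rfl : k' ≫ S.g = k := by
    rw [← cancel_mono m, Category.assoc, show S.g ≫ m = b from cokernel.π_desc _ _ _]
    exact sec_injective hT h2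
  rw [← hy, ← Ext.mk₀_comp_mk₀, Ext.comp_assoc_of_second_deg_zero, hS.comp_extClass]
  exact Ext.comp_zero (Ext.mk₀ k') _ _ _ _

end Coh

end Groth.Agent.CAlgH3.HomShAcyclic
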