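import Groth.Agent.CAlgH3.RelRegularRing
import Groth.Agent.SDiv28.RegImmKinds

/-! Base change of relative regular immersions. -/

set_option autoImplicit false
set_option backward.isDefEq.respectTransparency.types false
set_option linter.style.haveILetI false
universe u

open CategoryTheory CategoryTheory.Limits AlgebraicGeometry TopologicalSpace

namespace Groth.Agent.CAlgH3.RelRegularBC

open SDiv28.RegImmKinds

theorem seq_pushout {A B A' C : Type u} [CommRing A] [CommRing B] [CommRing A'] [CommRing C]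
    [Algebra A B] [Algebra A A'] [Algebra A C] [Algebra B C] [Algebra A' C] [IsScalarTower A B C]
    [IsScalarTower A A' C] [Algebra.IsPushout A A' B C] (k : RegImm.Kind)
    (hk : k = RegImm.Kind.h1 ∨ k = RegImm.Kind.quasi) {rs : List B} (h : k.Seq B rs)
    (hflat : Module.Flat A (B ⧸ Ideal.ofList rs)) : k.Seq C (rs.map (algebraMap B C)) := by
  haveI : Module.Flat A (B ⧸ Ideal.span (Set.range rs.get)) := by
    rwa [CAlgH.KoszulRegular.span_range_get]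
  have hp := RelRegularRing.pushout (A := A) A' (C := C) (f := rs.get)
  rcases hk with rfl | rfl
  · show CAlgX.IsH1Regular (rs.map (algebraMap B C)).get
    rw [get_map, h1_cast]
    exact hp.1 h
  · show CAlgX.IsQuasiRegular (rs.map (algebraMap B C)).get
    rw [get_map, quasi_cast]
    exact hp.2 h

theorem flat_quotient {Z X S : Scheme.{u}} (f : X ⟶ S) (i : Z ⟶ X) [Flat (i ≫ f)] {U : X.Opens}
    (hU : IsAffineOpen U) [IsClosedImmersion (i ∣_ U)] {V : S.Opens} (hV : IsAffineOpen V)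
    (e : U ≤ f ⁻¹ᵁ V) :
    letI := (f.appLE V U e).hom.toAlgebra
    Module.Flat Γ(S, V) (Γ(X, U) ⧸ RingHom.ker (i.app U).hom) := by
  letI := (f.appLE V U e).hom.toAlgebra
  have hW : IsAffineOpen (i ⁻¹ᵁ U) := by
    have : IsAffine U.toScheme := hU
    exact isAffine_of_isAffineHom (i ∣_ U)
  letI : Algebra Γ(S, V) Γ(Z, i ⁻¹ᵁ U) := ((i.app U).hom.comp (f.appLE V U e).hom).toAlgebra
  let φ : Γ(X, U) →ₐ[Γ(S, V)] Γ(Z, i ⁻¹ᵁ U) := ⟨(i.app U).hom, fun _ => rfl⟩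
  have e' : i ⁻¹ᵁ U ≤ (i ≫ f) ⁻¹ᵁ V := fun x hx => e hx
  haveI : Module.Flat Γ(S, V) Γ(Z, i ⁻¹ᵁ U) := by
    have h := HasRingHomProperty.appLE @Flat (i ≫ f) ‹_› ⟨V, hV⟩ ⟨_, hW⟩ e'
    rw [← Scheme.Hom.appLE_comp_appLE i f V U (i ⁻¹ᵁ U) e le_rfl, ← Scheme.Hom.app_eq_appLE] at h
    exact h
  exact Module.Flat.of_linearEquiv (Ideal.quotientKerAlgEquivOfSurjective (f := φ)
    (CAlgH.RegImmStalk.app_surjective_of_restrict i hU)).toLinearEquiv

theorem main {Z X S S' : Scheme.{u}} (f : X ⟶ S) (i : Z ⟶ X) (k : RegImm.Kind)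
    (hk : k = RegImm.Kind.h1 ∨ k = RegImm.Kind.quasi) (hi : RegImm.IsRelRegularImmersion k f i) (g : S' ⟶ S) :
    RegImm.IsRelRegularImmersion k (pullback.snd f g) (pullback.snd i (pullback.fst f g)) := by
  obtain ⟨⟨himm, hreg⟩, hflat⟩ := hi
  haveI := hflat
  have hsq : IsPullback (pullback.fst i (pullback.fst f g)) (pullback.snd i (pullback.fst f g)) i (pullback.fst f g) :=
    IsPullback.of_hasPullback _ _
  have H := IsPullback.of_hasPullback f g
  refine ⟨⟨MorphismProperty.of_isPullback (P := @IsImmersion) hsq himm, fun z => ?_⟩,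
    MorphismProperty.of_isPullback (P := @Flat) (hsq.flip.paste_horiz H.flip).flip ‹_›⟩
  obtain ⟨⟨U, hU⟩, hz, hc, rs, hrs, hker⟩ := hreg (pullback.fst i (pullback.fst f g) z)
  haveI := hc
  obtain ⟨x', hx'⟩ : ∃ x', x' = pullback.snd i (pullback.fst f g) z := ⟨_, rfl⟩
  have hxU : pullback.fst f g x' ∈ U := by
    rw [hx', ← Scheme.Hom.comp_apply, ← hsq.w, Scheme.Hom.comp_apply]
    exact hz
  obtain ⟨V, hV, hxV, -⟩ := exists_isAffineOpen_mem_and_subset (x := f (pullback.fst f g x'))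
    (U := (⊤ : S.Opens)) trivial
  obtain ⟨U₁, hU₁, hxU₁, hle⟩ := exists_isAffineOpen_mem_and_subset (x := pullback.fst f g x')
    (U := U ⊓ f ⁻¹ᵁ V) ⟨hxU, hxV⟩
  have hleU : U₁ ≤ U := fun y hy => (hle hy).1
  have e : U₁ ≤ f ⁻¹ᵁ V := fun y hy => (hle hy).2
  obtain ⟨hc₁, hker₁⟩ := CAlgH.KoszulChart.restrict i hU hU₁ hleU
  haveI := hc₁
  rw [hker, Ideal.map_ofList] at hker₁
  have hrs₁ : k.Seq Γ(X, U₁) (rs.map (X.presheaf.map (homOfLE hleU).op).hom) := by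
    have hfl := CAlgH.KoszulChart.flat_restrict hU hU₁ hleU
    algebraize [(X.presheaf.map (homOfLE hleU).op).hom]
    rcases hk with rfl | rfl
    · show CAlgX.IsH1Regular (rs.map (algebraMap Γ(X, U) Γ(X, U₁))).get
      rw [get_map, h1_cast]
      exact SDiv28.RegSeq.isH1Regular_map (S := Γ(X, U₁)) hrs
    · show CAlgX.IsQuasiRegular (rs.map (algebraMap Γ(X, U) Γ(X, U₁))).get
      rw [get_map, quasi_cast]
      exact SDiv28.RegSeq.isQuasiRegular_map (S := Γ(X, U₁)) hrs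
  have hy : pullback.snd f g x' ∈ g ⁻¹ᵁ V := by
    show g (pullback.snd f g x') ∈ V
    rw [← Scheme.Hom.comp_apply, ← H.w, Scheme.Hom.comp_apply]
    exact hxV
  obtain ⟨V', hV', hyV', e'⟩ := exists_isAffineOpen_mem_and_subset (U := g ⁻¹ᵁ V) hy
  have e' : V' ≤ g ⁻¹ᵁ V := e'
  let P₀ := pullback.fst f g ⁻¹ᵁ U₁ ⊓ pullback.snd f g ⁻¹ᵁ V'
  have hxP : x' ∈ P₀ := ⟨hxU₁, hyV'⟩
  haveI : IsAffine U₁.toScheme := hU₁
  haveI : IsAffine V'.toScheme := hV'
  haveI : IsAffine V.toScheme := hV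
  have hP₀ : IsAffineOpen P₀ :=
    .of_isIso (Scheme.Hom.isPullback_resLE H e' e (rfl : P₀ = _)).isoPullback.hom
  have hp := (isIso_pushoutSection_iff H e' e (rfl : P₀ = _)).mp
    (isIso_pushoutSection_of_isAffineOpen H e' e rfl hV hV' hU₁)
  obtain ⟨hc', hk'⟩ := CAlgH.KoszulChart.baseChange i (pullback.fst f g) _ _ hsq hU₁ hP₀
    (inf_le_left : P₀ ≤ pullback.fst f g ⁻¹ᵁ U₁)
  rw [hker₁, Ideal.map_ofList] at hk'
  have hfl := flat_quotient f i hU₁ hV e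
  rw [hker₁] at hfl
  letI : Algebra Γ(S, V) Γ(X, U₁) := (f.appLE V U₁ e).hom.toAlgebra
  letI : Algebra Γ(S, V) Γ(S', V') := (g.appLE V V' e').hom.toAlgebra
  letI : Algebra Γ(X, U₁) Γ(pullback f g, P₀) :=
    ((pullback.fst f g).appLE U₁ P₀ inf_le_left).hom.toAlgebra
  letI : Algebra Γ(S', V') Γ(pullback f g, P₀) :=
    ((pullback.snd f g).appLE V' P₀ inf_le_right).hom.toAlgebra
  letI : Algebra Γ(S, V) Γ(pullback f g, P₀) :=
    (f.appLE V U₁ e ≫ (pullback.fst f g).appLE U₁ P₀ inf_le_left).hom.toAlgebra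
  haveI : IsScalarTower Γ(S, V) Γ(X, U₁) Γ(pullback f g, P₀) := IsScalarTower.of_algebraMap_eq' rfl
  haveI : IsScalarTower Γ(S, V) Γ(S', V') Γ(pullback f g, P₀) :=
    IsScalarTower.of_algebraMap_eq' (congrArg CommRingCat.Hom.hom hp.w)
  haveI : Algebra.IsPushout Γ(S, V) Γ(S', V') Γ(X, U₁) Γ(pullback f g, P₀) :=
    CommRingCat.isPushout_iff_isPushout.1 hp.flip
  refine ⟨⟨P₀, hP₀⟩, hx' ▸ hxP, hc', _, ?_, hk'⟩
  exact seq_pushout (A := Γ(S, V)) (A' := Γ(S', V')) k hk hrs₁ hfl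

end Groth.Agent.CAlgH3.RelRegularBC
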