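import Mathlib.RingTheory.Flat.Equalizer
import Mathlib.LinearAlgebra.TensorProduct.RightExactness

/-! An extension of flat modules is flat. -/

universe u

namespace Groth.Agent.CAlgH3

open TensorProduct

theorem flat_of_extension {R : Type u} [CommRing R] {P Q T : Type u} [AddCommGroup P] [AddCommGroup Q]
    [AddCommGroup T] [Module R P] [Module R Q] [Module R T] [Module.Flat R P] [Module.Flat R T]
    (f : P →ₗ[R] Q) (g : Q →ₗ[R] T) (hf : Function.Injective f) (hg : Function.Surjective g)
    (hfg : Function.Exact f g) : Module.Flat R Q := by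
  rw [Module.Flat.iff_rTensor_preserves_injective_linearMap]
  intro A B _ _ _ _ i hi
  rw [injective_iff_map_eq_zero]
  intro x hx
  have h1 : g.lTensor A x = 0 := by
    apply Module.Flat.rTensor_preserves_injective_linearMap (M := T) i hi
    rw [map_zero, ← LinearMap.comp_apply, LinearMap.rTensor_comp_lTensor, ← LinearMap.lTensor_comp_rTensor,
      LinearMap.comp_apply, hx, map_zero]
  obtain ⟨y, rfl⟩ := (lTensor_exact A hfg hg x).1 h1
  have h2 : f.lTensor B (i.rTensor P y) = 0 := by
    rw [← LinearMap.comp_apply, LinearMap.lTensor_comp_rTensor, ← LinearMap.rTensor_comp_lTensor,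
      LinearMap.comp_apply, hx]
  have h3 : i.rTensor P y = 0 :=
    LinearMap.lTensor_injective_of_exact_of_flat g hg f hf hfg B (h2.trans (map_zero _).symm)
  rw [Module.Flat.rTensor_preserves_injective_linearMap (M := P) i hi (h3.trans (map_zero _).symm), map_zero]

end Groth.Agent.CAlgH3
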