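import Groth.Agent.CAlgH3.ProjDim

/-! The last non-zero `Ext(M, R)` detects projective dimension. -/

universe u

open IsLocalRing CategoryTheory Abelian
open scoped Pointwise

namespace Groth.Agent.CAlgH3

variable {R : Type u} [CommRing R] [IsLocalRing R] [IsNoetherianRing R]

theorem nontrivial_ext_of_pd : ∀ (n : ℕ) (M : Type u) [AddCommGroup M] [Module R M] [Module.Finite R M],
    PD R (n + 1) M → ¬ PD R n M → Nontrivial (Ext (ModuleCat.of R M) (ModuleCat.of R R) n) := by
  intro n
  induction n with
  | zero =>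
    intro M _ _ _ h h'
    rw [pd_zero_iff, not_subsingleton_iff_nontrivial] at h'
    have := pd_one_iff.1 h
    have : Module.Free R M := Module.free_of_flat_of_isLocalRing
    let b := Module.Free.chooseBasis R M
    obtain ⟨j⟩ := b.index_nonempty
    refine nontrivial_of_ne (Ext.homEquiv₀.symm (ModuleCat.ofHom (b.coord j))) (Ext.homEquiv₀.symm (ModuleCat.ofHom 0)) fun he => ?_
    have h0 := congrArg (fun g : ModuleCat.of R M ⟶ ModuleCat.of R R => g.hom (b j)) (Ext.homEquiv₀.symm.injective he)
    simp at h0
  | succ n ih =>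
    intro M _ _ _ h h'
    obtain ⟨m, f, hf, hker⟩ := exists_minimal_presentation (R := R) M
    have hS : (LinearMap.shortComplexKer f).ShortExact := LinearMap.shortExact_shortComplexKer hf
    have hK1 : PD R (n + 1) (LinearMap.ker f) := (pd_ker_iff hf n).1 h
    rcases n with - | n
    · have hKnt : Nontrivial (LinearMap.ker f) := by
        by_contra hK
        rw [not_nontrivial_iff_subsingleton] at hK
        have hinj : LinearMap.ker f = ⊥ := Submodule.subsingleton_iff_eq_bot.1 hK
        have : Module.Free R M := Module.Free.of_equiv (LinearEquiv.ofBijective f ⟨LinearMap.ker_eq_bot.1 hinj, hf⟩)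
        exact h' (pd_one_iff.2 inferInstance)
      have := pd_one_iff.1 hK1
      have : Module.Free R (LinearMap.ker f) := Module.free_of_flat_of_isLocalRing
      let b := Module.Free.chooseBasis R (LinearMap.ker f)
      obtain ⟨j⟩ := b.index_nonempty
      refine nontrivial_of_ne (hS.extClass.comp (Ext.mk₀ (ModuleCat.ofHom (b.coord j))) (add_zero 1)) 0 fun h0 => ?_
      obtain ⟨φ, hφ⟩ := Ext.contravariant_sequence_exact₁ hS _ (Ext.mk₀ (ModuleCat.ofHom (b.coord j))) (add_zero 1) h0
      obtain ⟨φ, rfl⟩ := Ext.homEquiv₀.symm.surjective φ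
      rw [Ext.homEquiv₀_symm_apply, Ext.mk₀_comp_mk₀, (Ext.mk₀_bijective _ _).1.eq_iff] at hφ
      have h1 : φ.hom ((b j : LinearMap.ker f) : Fin m → R) = (b.coord j) (b j) :=
        congrArg (fun g : ModuleCat.of R (LinearMap.ker f) ⟶ ModuleCat.of R R => g.hom (b j)) hφ
      have h2 : φ.hom ((b j : LinearMap.ker f) : Fin m → R) ∈ maximalIdeal R • (⊤ : Submodule R R) := by
        have := Submodule.mem_map_of_mem (f := φ.hom) (hker (b j).2)
        rw [Submodule.map_smul''] at this
        exact Submodule.smul_mono le_rfl le_top this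
      rw [h1] at h2
      simp only [Module.Basis.coord_apply, Module.Basis.repr_self, Finsupp.single_eq_same, smul_eq_mul,
        Ideal.mul_top] at h2
      exact (maximalIdeal.isMaximal R).ne_top ((Ideal.eq_top_iff_one _).2 h2)
    · have hK2 : ¬ PD R (n + 1) (LinearMap.ker f) := fun hc => h' ((pd_ker_iff hf n).2 hc)
      have := ih (LinearMap.ker f) hK1 hK2
      obtain ⟨e, e', hne⟩ := exists_pair_ne (Ext (ModuleCat.of R (LinearMap.ker f)) (ModuleCat.of R R) (n + 1))
      refine nontrivial_of_ne (hS.extClass.comp (e - e') (show 1 + (n + 1) = n + 1 + 1 by omega)) 0 fun h0 => ?_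
      obtain ⟨x, hx⟩ := Ext.contravariant_sequence_exact₁ hS _ (e - e') (show 1 + (n + 1) = n + 1 + 1 by omega) h0
      have : Projective (LinearMap.shortComplexKer f).X₂ :=
        inferInstanceAs (Projective (ModuleCat.of R (Fin m → R)))
      rw [Ext.eq_zero_of_projective x, Ext.comp_zero] at hx
      exact hne (sub_eq_zero.1 hx.symm)

theorem exists_pd_index {M : Type u} [AddCommGroup M] [Module R M] [Nontrivial M] {N : ℕ} (h : PD R N M) :
    ∃ p, p < N ∧ PD R (p + 1) M ∧ ¬ PD R p M := by
  classical
  have hex : ∃ p, PD R p M := ⟨N, h⟩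
  have h0 : Nat.find hex ≠ 0 := fun e => by
    have := Nat.find_spec hex
    rw [e, pd_zero_iff] at this
    exact not_subsingleton M this
  obtain ⟨p, hp⟩ := Nat.exists_eq_succ_of_ne_zero h0
  refine ⟨p, ?_, ?_, Nat.find_min hex (by omega)⟩
  · have := Nat.find_le (h := hex) h; omega
  · have := Nat.find_spec hex; rw [hp] at this; exact this

end Groth.Agent.CAlgH3
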