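import Groth.Agent.FlatCrit.Inj
import Groth.Agent.CAlgH.FlatQuotient
import Mathlib.RingTheory.Flat.Stability
import Mathlib.RingTheory.TensorProduct.Quotient

/-! Descent of flatness along injective maps from a local ring with nilpotent maximal ideal,
and along maps inducing a finer adic topology. -/

universe u

namespace Groth.Agent.CAlgH3

open TensorProduct IsLocalRing Function

theorem flat_descent_of_isNilpotent {A A' : Type u} [CommRing A] [IsLocalRing A] [CommRing A'] [Algebra A A']
    (hnil : IsNilpotent (maximalIdeal A)) (hinj : Injective (algebraMap A A'))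
    (M : Type u) [AddCommGroup M] [Module A M] [Module.Flat A' (A' ⊗[A] M)] : Module.Flat A M := by
  classical
  let k := ResidueField A
  let w := Module.Free.chooseBasis k (k ⊗[A] M)
  obtain ⟨v, eq⟩ := (TensorProduct.mk_surjective A M k Ideal.Quotient.mk_surjective).comp_left w
  let p := Finsupp.linearCombination A v
  have hp : Surjective p := by
    rw [← LinearMap.range_eq_top, Finsupp.range_linearCombination]
    refine FlatCrit.submodule_eq_top_of_nilpotent hnil _ ?_
    rw [eq_top_iff]
    intro m _
    have hm : TensorProduct.mk A k M 1 m ∈ Submodule.span A (Set.range w) := by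
      have := w.mem_span (TensorProduct.mk A k M 1 m)
      rwa [← Submodule.restrictScalars_mem A,
        Submodule.restrictScalars_span A k (Ideal.Quotient.mk_surjective (I := maximalIdeal A))] at this
    rw [← eq, Set.range_comp, ← Submodule.map_span] at hm
    obtain ⟨n, hn, hn'⟩ := hm
    have : m - n ∈ (maximalIdeal A • ⊤ : Submodule A M) := by
      rw [← LinearMap.ker_tensorProductMk, LinearMap.mem_ker, map_sub]
      exact sub_eq_zero.mpr hn'.symm
    rw [← add_sub_cancel n m]
    exact Submodule.add_mem_sup hn this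
  have hk : ∀ z, p z = 0 → ∀ i, z i ∈ maximalIdeal A := by
    intro z hz i
    have h := congrArg (TensorProduct.mk A k M 1) hz
    rw [map_zero, Finsupp.apply_linearCombination, show TensorProduct.mk A k M 1 ∘ v = w from eq] at h
    have h2 : Finsupp.linearCombination k w (z.mapRange (algebraMap A k) (map_zero _)) = 0 := by
      rw [← h, Finsupp.linearCombination_apply, Finsupp.linearCombination_apply,
        Finsupp.sum_mapRange_index (fun i => zero_smul k (w i))]
      simp only [algebraMap_smul]
    have := (LinearMap.ker_eq_bot'.1 (LinearMap.ker_eq_bot.2 w.linearIndependent) _ h2)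
    have := DFunLike.congr_fun this i
    rw [Finsupp.mapRange_apply, Finsupp.zero_apply] at this
    exact (residue_eq_zero_iff _).1 this
  let P := p.baseChange A'
  have hPs : Surjective P := LinearMap.lTensor_surjective A' hp
  have : Module.Flat A' ((A' ⊗[A] _) ⧸ LinearMap.ker P) :=
    Module.Flat.of_linearEquiv (P.quotKerEquivOfSurjective hPs)
  let I := (maximalIdeal A).map (algebraMap A A')
  have hker : LinearMap.ker P ≤ I • ⊤ := by
    intro x hx
    have hex : Exact (LinearMap.ker p).subtype p := LinearMap.exact_subtype_ker_map p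
    have hex2 := lTensor_exact (R := A) (M := LinearMap.ker p) (N := (Module.Free.ChooseBasisIndex k (k ⊗[A] M)) →₀ A) (P := M) A' (f := (LinearMap.ker p).subtype) (g := p) hex hp
    obtain ⟨y, rfl⟩ := (hex2 x).1 hx
    clear hx
    induction y with
    | zero => simp
    | add a b ha hb => rw [map_add]; exact add_mem ha hb
    | tmul a z =>
      rw [LinearMap.lTensor_tmul]
      rcases z with ⟨z, hz⟩
      change a ⊗ₜ[A] z ∈ _
      rw [← z.sum_single, Finsupp.sum, TensorProduct.tmul_sum]
      refine Submodule.sum_mem _ fun i _ => ?_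
      rw [show Finsupp.single i (z i) = z i • Finsupp.single i 1 by simp, TensorProduct.tmul_smul,
        ← algebraMap_smul A' (z i)]
      exact Submodule.smul_mem_smul (Ideal.mem_map_of_mem _ (hk z hz i)) trivial
  obtain ⟨n, hn⟩ := hnil
  have hbot : ∀ m, LinearMap.ker P ≤ I ^ m • ⊤ := by
    have h1 : LinearMap.ker P ≤ I • LinearMap.ker P :=
      (le_inf le_rfl hker).trans (CAlgH.inf_smul_top_le_of_flat_quotient _ I)
    intro m
    induction m with
    | zero => simp
    | succ m ih =>
      rw [pow_succ', Submodule.mul_smul]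
      exact h1.trans (Submodule.smul_mono le_rfl ih)
  have hPi : Injective P := by
    rw [← LinearMap.ker_eq_bot, eq_bot_iff]
    refine (hbot n).trans ?_
    rw [← Ideal.map_pow, hn]
    simp
  have hpi : Injective p := by
    intro x y hxy
    have h := hPi (a₁ := 1 ⊗ₜ x) (a₂ := 1 ⊗ₜ y) (by simp [P, hxy])
    let e := (TensorProduct.finsuppScalarRight A A A' (Module.Free.ChooseBasisIndex k (k ⊗[A] M)))
    ext i
    have := DFunLike.congr_fun (congrArg e h) i
    simp only [e, TensorProduct.finsuppScalarRight_apply_tmul_apply] at this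
    rw [← Algebra.algebraMap_eq_smul_one, ← Algebra.algebraMap_eq_smul_one] at this
    exact hinj this
  exact Module.Flat.of_linearEquiv (LinearEquiv.ofBijective p ⟨hpi, hp⟩).symm

theorem flat_descent_of_adic {A B A' : Type u} [CommRing A] [CommRing B] [CommRing A'] [IsNoetherianRing A]
    [IsLocalRing A] [IsNoetherianRing B] [IsLocalRing B] [Algebra A B] [IsLocalHom (algebraMap A B)]
    [Algebra A A'] (J : Ideal A') (hJ : J.comap (algebraMap A A') = maximalIdeal A)
    (htop : ∀ n : ℕ, ∃ N : ℕ, (J ^ N).comap (algebraMap A A') ≤ maximalIdeal A ^ n)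
    [Module.Flat A' (A' ⊗[A] B)] : Module.Flat A B := by
  refine FlatCrit.flat_of_quotFlat_pow (S := B) (maximalIdeal A) ?_ fun n => ?_
  · rw [IsLocalRing.jacobson_eq_maximalIdeal ⊥ bot_ne_top, Ideal.map_le_iff_le_comap]
    intro x hx
    exact map_nonunit _ x hx
  obtain ⟨N, hN⟩ := htop n
  let a := (J ^ (N + 1)).comap (algebraMap A A')
  have ha : a ≤ maximalIdeal A ^ n := (Ideal.comap_mono (Ideal.pow_le_pow_right (Nat.le_succ N))).trans hN
  have ha' : a ≤ maximalIdeal A := hJ ▸ Ideal.comap_mono (Ideal.pow_le_self (Nat.succ_ne_zero N))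
  have : Nontrivial (A ⧸ a) := Ideal.Quotient.nontrivial_iff.2 fun h => (Ideal.IsMaximal.ne_top inferInstance) (top_le_iff.1 (h ▸ ha'))
  have : IsLocalRing (A ⧸ a) := .of_surjective' (Ideal.Quotient.mk a) Ideal.Quotient.mk_surjective
  let A'' := A' ⧸ J ^ (N + 1)
  letI : Algebra (A ⧸ a) A'' :=
    (Ideal.quotientMap (J ^ (N + 1)) (algebraMap A A') le_rfl).toAlgebra
  haveI : IsScalarTower A (A ⧸ a) A'' := IsScalarTower.of_algebraMap_eq fun x => rfl
  have hinj : Injective (algebraMap (A ⧸ a) A'') := Ideal.quotientMap_injective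
  have hnil : IsNilpotent (maximalIdeal (A ⧸ a)) := by
    refine ⟨N + 1, ?_⟩
    rw [← IsLocalRing.map_maximalIdeal_of_surjective (Ideal.Quotient.mk a) Ideal.Quotient.mk_surjective,
      ← Ideal.map_pow, Ideal.zero_eq_bot, Ideal.map_eq_bot_iff_le_ker, Ideal.mk_ker, ← hJ]
    exact Ideal.le_comap_pow _ _
  have : Module.Flat A'' (A'' ⊗[A ⧸ a] ((A ⧸ a) ⊗[A] B)) :=
    Module.Flat.of_linearEquiv ((AlgebraTensorModule.cancelBaseChange A (A ⧸ a) A'' A'' B).trans
      (AlgebraTensorModule.cancelBaseChange A A' A'' A'' B).symm)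
  have hq := FlatCrit.quotFlat_of_flat a (flat_descent_of_isNilpotent hnil hinj ((A ⧸ a) ⊗[A] B))
  exact fun P Q _ _ _ _ i hQ hi => hq i (fun r hr b => hQ r (ha hr) b) hi

end Groth.Agent.CAlgH3
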