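import Groth.Agent.CAlgH3.KoszulLocCoh
import Groth.Agent.Misc15.KoszulSheaf
import Groth.Agent.Misc15.KoszulScheme
import Groth.Agent.Coherent.SchemeCoh
import Groth.Agent.AmpleLib.AffCriterion2
import Groth.Prelude.Def_Wider

/-! Cohomology of quasi-coherent sheaves on the complement of a closed set of an affine Noetherian scheme. -/

set_option autoImplicit false
set_option backward.isDefEq.respectTransparency.types false
universe u

open CategoryTheory CategoryTheory.Limits CategoryTheory.Abelian AlgebraicGeometry Opposite TopologicalSpace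

namespace Groth.Agent.CAlgH3.PuncturedCoh

open Groth.Agent.Coherent (resM resM_resM specBasicOpen freeSh freeShEquiv freeShEquiv_comp subsingleton_H'_of_isFlasque)
open Groth.Agent.Misc15.Koszul
open CohIII (koszulHLim)

variable {R : CommRingCat.{u}} [IsNoetherianRing R]

/-- The cokernel of `N → Γ(U, Ñ)` is the first Koszul cohomology. -/
theorem nonempty_coker (ts : List R) (N : ModuleCat.{u} R) :
    Nonempty ((Γ(tilde N, unionD ts) ⧸ (rho N (unionD ts)).toAddMonoidHom.range) ≃+ koszulHLim ts N 1) := by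
  obtain ⟨pr⟩ := EnoughInjectives.presentation N
  obtain ⟨I, hIi, g, hgm⟩ := pr
  have hI : Module.Injective R I := Module.injective_module_of_injective_object R I
  let h := cokernel.π g
  let S := ShortComplex.mk g h (cokernel.condition g)
  have hS : S.ShortExact := { exact := ShortComplex.exact_cokernel g }
  have hg : Function.Injective g.hom := hS.moduleCat_injective_f
  have hh : Function.Surjective h.hom := hS.moduleCat_surjective_g
  have hgh : Function.Exact g.hom h.hom := LinearMap.exact_iff.2 hS.exact.moduleCat_range_eq_ker.symm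
  obtain ⟨e⟩ := KoszulLocCoh.nonempty_one' (fs := ts) g h hg hh hgh (KoszulLocCoh.vanishInj ts)
  obtain ⟨hi, hex⟩ := tmap_exact hS (unionD ts)
  let U := unionD ts
  let T : AddSubgroup I := ((tor ts (cokernel g : ModuleCat.{u} R)).comap h.hom).toAddSubgroup
  have hT : ∀ y : T, ∃ x, tmap g U x = rho I U y.1 := fun y => (hex _).1 (by
    rw [rho_map]; exact (rho_eq_zero_iff ts _ _).2 y.2)
  choose a ha using hT
  let α : T →+ Γ(tilde N, U) ⧸ (rho N U).toAddMonoidHom.range :=
    (QuotientAddGroup.mk' _).comp (AddMonoidHom.mk' a fun y z => hi (by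
      rw [map_add, ha, ha, ha, AddSubgroup.coe_add, map_add]))
  let β := ((Submodule.mkQ (((tor ts I).map h.hom).comap (tor ts (cokernel g : ModuleCat.{u} R)).subtype)).toAddMonoidHom.comp
    ((h.hom.restrict (p := (tor ts (cokernel g : ModuleCat.{u} R)).comap h.hom) (q := tor ts _) fun _ hy => hy).toAddMonoidHom))
  refine nonempty_addEquiv_of_ker_eq α (e.toAddEquiv.toAddMonoidHom.comp β) ?_ ?_ ?_
  · intro z
    obtain ⟨x, rfl⟩ := QuotientAddGroup.mk'_surjective _ z
    obtain ⟨y, hy⟩ := rho_surjective_of_injective I U (tmap g U x)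
    have hyT : y ∈ T := (rho_eq_zero_iff ts _ _).1 (by
      rw [← rho_map h, hy]; exact hex.apply_apply_eq_zero _)
    refine ⟨⟨y, hyT⟩, congrArg (QuotientAddGroup.mk' _) (hi ?_)⟩
    exact (ha ⟨y, hyT⟩).trans hy
  · refine e.surjective.comp ?_
    intro z
    obtain ⟨⟨q, hq⟩, rfl⟩ := Submodule.mkQ_surjective _ z
    obtain ⟨y, rfl⟩ := hh q
    exact ⟨⟨y, hq⟩, rfl⟩
  · ext y
    simp only [AddMonoidHom.mem_ker]
    constructor
    · intro hy
      obtain ⟨n, hn⟩ := (QuotientAddGroup.eq_zero_iff _).1 hy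
      have hn' : rho N U n = a y := hn
      have hk : y.1 - g.hom n ∈ tor ts I := (rho_eq_zero_iff ts _ _).1 (by
        rw [map_sub, sub_eq_zero, ← rho_map g, hn', ha])
      refine (congrArg e ?_).trans (map_zero _)
      refine (Submodule.Quotient.mk_eq_zero _).2 ?_
      refine ⟨y.1 - g.hom n, hk, ?_⟩
      show h.hom (y.1 - g.hom n) = h.hom y.1
      rw [map_sub, hgh.apply_apply_eq_zero, sub_zero]
    · intro hy
      have hy' := e.injective (hy.trans (map_zero e).symm)
      obtain ⟨k, hk, hk'⟩ := (Submodule.Quotient.mk_eq_zero _).1 hy'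
      obtain ⟨n, hn⟩ := (hgh (y.1 - k)).1 (by
        rw [map_sub, sub_eq_zero]; exact hk'.symm)
      refine (QuotientAddGroup.eq_zero_iff _).2 ⟨n, hi ?_⟩
      show tmap g U (rho N U n) = tmap g U (a y)
      rw [rho_map, hn, ha, map_sub, (rho_eq_zero_iff ts I k).2 hk, sub_zero]

theorem nonempty_HU : ∀ (q : ℕ) (ts : List R), ∀ (N : ModuleCat.{u} R),
    Nonempty (Sheaf.H' (Coh.toAb (tilde N)) (q + 1) (unionD ts) ≃+ koszulHLim ts N (q + 1 + 1)) := by
  intro q
  induction q with
  | zero =>
    intro ts N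
    obtain ⟨⟨I, hIi, g, hgm⟩⟩ := EnoughInjectives.presentation N
    have hI : Module.Injective R I := Module.injective_module_of_injective_object R I
    have hS : (ShortComplex.mk g (cokernel.π g) (cokernel.condition g)).ShortExact :=
      { exact := ShortComplex.exact_cokernel g }
    have : TopCat.Sheaf.IsFlasque (tildeShort (ShortComplex.mk g (cokernel.π g) (cokernel.condition g))).X₂ :=
      isFlasque_tilde I
    obtain ⟨e₁⟩ := nonempty_H'_one (tildeShort_shortExact hS) (unionD ts)
    obtain ⟨e₂⟩ := nonempty_coker ts (cokernel g)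
    obtain ⟨e₃⟩ := KoszulLocCoh.nonempty_shift' (fs := ts) g (cokernel.π g) hS.moduleCat_injective_f hS.moduleCat_surjective_g
      (LinearMap.exact_iff.2 hS.exact.moduleCat_range_eq_ker.symm) (KoszulLocCoh.vanishInj ts) 1 le_rfl
    refine ⟨(e₁.symm.trans (QuotientAddGroup.quotientAddEquivOfEq (le_antisymm ?_ ?_))).trans (e₂.trans e₃.toAddEquiv)⟩
    · rintro _ ⟨t, rfl⟩
      obtain ⟨y, rfl⟩ := rho_surjective_of_injective I (unionD ts) t
      exact ⟨_, (rho_map (cokernel.π g) _ y).symm⟩
    · rintro _ ⟨n, rfl⟩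
      obtain ⟨y, rfl⟩ := hS.moduleCat_surjective_g n
      exact ⟨rho I (unionD ts) y, rho_map (cokernel.π g) _ y⟩
  | succ q ih =>
    intro ts N
    obtain ⟨⟨I, hIi, g, hgm⟩⟩ := EnoughInjectives.presentation N
    have hI : Module.Injective R I := Module.injective_module_of_injective_object R I
    have hS : (ShortComplex.mk g (cokernel.π g) (cokernel.condition g)).ShortExact :=
      { exact := ShortComplex.exact_cokernel g }
    have : TopCat.Sheaf.IsFlasque (tildeShort (ShortComplex.mk g (cokernel.π g) (cokernel.condition g))).X₂ :=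
      isFlasque_tilde I
    obtain ⟨e₁⟩ := nonempty_H'_shift (tildeShort_shortExact hS) (unionD ts) q
    obtain ⟨e₂⟩ := ih ts (cokernel g)
    obtain ⟨e₃⟩ := KoszulLocCoh.nonempty_shift' (fs := ts) g (cokernel.π g) hS.moduleCat_injective_f hS.moduleCat_surjective_g
      (LinearMap.exact_iff.2 hS.exact.moduleCat_range_eq_ker.symm) (KoszulLocCoh.vanishInj ts) (q + 1 + 1) (by omega)
    exact ⟨e₁.symm.trans (e₂.trans e₃.toAddEquiv)⟩

theorem unionD_eq (ts : List R) :
    unionD ts = _root_.LocCoh.puncturedOpen R (Ideal.span {a : R | a ∈ ts}) := by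
  ext x
  rw [SetLike.mem_coe, mem_unionD]
  show _ ↔ ¬ ((Ideal.span {a : R | a ∈ ts} : Ideal R) : Set R) ⊆ x.asIdeal
  rw [SetLike.coe_subset_coe, Ideal.span_le, Set.not_subset]
  rfl

/-- `H^p(U, Ñ|_U) ≅ H^{p+1}_I(N)` for `p ≥ 1`. -/
theorem nonempty_main (I : Ideal R) (N : ModuleCat.{u} R) (q : ℕ) :
    Nonempty (Coh.HH (↑(_root_.LocCoh.puncturedOpen R I))
      ((tilde N).restrict (_root_.LocCoh.puncturedOpen R I).ι) (q + 1) ≃+ _root_.LocCoh.H I (q + 1 + 1) N) := by
  obtain ⟨S, rfl⟩ := IsNoetherian.noetherian I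
  have hset : Ideal.span {a : R | a ∈ S.toList} = Submodule.span R (S : Set R) := by
    simp
  obtain ⟨e₁⟩ := nonempty_HU q S.toList N
  obtain ⟨e₂⟩ := KoszulLocCoh.nonempty_H_equiv (KoszulLocCoh.vanishInj S.toList) (q + 1 + 1) N
  have hU : unionD S.toList = _root_.LocCoh.puncturedOpen R (Submodule.span R (S : Set R)) := by
    rw [unionD_eq, hset]
  rw [← hset]
  rw [← hset] at hU
  exact ⟨((Coherent.HHonEquiv (tilde N) _ (q + 1)).trans
    ((Coherent.H'Congr (Coh.toAb (tilde N)) (q + 1) hU.symm).trans e₁)).trans e₂.symm.toAddEquiv⟩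

end Groth.Agent.CAlgH3.PuncturedCoh

namespace Groth.Agent.CAlgH3.PuncturedCoh

open AlgebraicGeometry in
/-- local cohomology vanishes above one when the complement is affine -/
theorem cdLE_one_of_affine {R : CommRingCat.{u}} [IsNoetherianRing R] (I : Ideal R)
    (hU : IsAffineOpen (_root_.LocCoh.puncturedOpen R I)) : _root_.LocCoh.CdLE R I 1 := by
  intro N _ _ i hi
  obtain ⟨q, rfl⟩ : ∃ q, i = q + 1 + 1 := ⟨i - 2, by omega⟩
  obtain ⟨e⟩ := nonempty_main I (ModuleCat.of R N) q
  haveI : Coh.IsQCoh (tilde (ModuleCat.of R N)) := inferInstance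
  haveI := Coherent.subsingleton_H'_qcoh_pos (tilde (ModuleCat.of R N)) hU (n := q + 1) (by omega)
  haveI := (Coherent.HHonEquiv (tilde (ModuleCat.of R N)) (_root_.LocCoh.puncturedOpen R I) (q + 1)).toEquiv.subsingleton
  exact e.symm.toEquiv.subsingleton

end Groth.Agent.CAlgH3.PuncturedCoh

namespace Groth.Agent.CAlgH3.PuncturedCoh

open Groth.Agent.Coherent Groth.Agent.AmpleLib

/-- Serre's criterion for the complement of a closed set of an affine Noetherian scheme. -/
theorem isAffineOpen_of_cdLE_one {R : CommRingCat.{u}} [IsNoetherianRing R] (I : Ideal R)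
    (h : _root_.LocCoh.CdLE R I 1) : IsAffineOpen (_root_.LocCoh.puncturedOpen R I) := by
  set U := _root_.LocCoh.puncturedOpen R I
  have hvan : ∀ M : (Spec R).Modules, Coh.IsQCoh M → Subsingleton (Sheaf.H' (Coh.toAb M) 1 U) := by
    intro M hM
    haveI : IsIso M.fromTildeΓ := (isQuasicoherent_iff_isIso_fromTildeΓ _).1 inferInstance
    let N : ModuleCat.{u} R := (modulesSpecToSheaf.obj M).presheaf.obj (op ⊤)
    obtain ⟨e⟩ := nonempty_main I N 0
    haveI := h N (0 + 1 + 1) (by omega)
    haveI := e.toEquiv.subsingleton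
    have hs : Subsingleton (Sheaf.H' (Coh.toAb (tilde N)) 1 U) :=
      (HHonEquiv (tilde N) U 1).symm.toEquiv.subsingleton
    exact @Equiv.subsingleton _ _ (((extFunctorObj (freeSh U) 1).mapIso
      ((Coherent.toAbFunctor (Spec R)).mapIso (asIso M.fromTildeΓ))).addCommGroupIsoToAddEquiv).symm.toEquiv hs
  refine isAffineOpen_of_idealSurj (U := U) ?_ fun Z Z' hle => ?_
  · exact NoetherianSpace.isCompact _
  · intro s
    let S := ShortComplex.mk (idealOfLE hle) (cokernel.π (idealOfLE hle)) (cokernel.condition _)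
    have hS := toAb_shortExact (shortExact_idealOfLE hle)
    have hs : Subsingleton (Sheaf.H' (Coh.toAb S.X₁) 1 U) := hvan _ (isQCoh_idealOf Z')
    let x := (freeShEquiv U (Coh.toAb S.X₃)).symm s
    obtain ⟨y, hy⟩ := Ext.covariant_sequence_exact₃ (freeSh U) hS (Ext.mk₀ x) (zero_add 1)
      (@Subsingleton.elim _ hs _ _)
    obtain ⟨y, rfl⟩ := (Ext.mk₀_bijective _ _).2 y
    rw [Ext.mk₀_comp_mk₀] at hy
    have hyx := (Ext.mk₀_bijective _ _).1 hy
    refine ⟨freeShEquiv U (Coh.toAb S.X₂) y, ?_⟩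
    refine Eq.trans ?_ ((freeShEquiv U (Coh.toAb S.X₃)).apply_symm_apply s)
    exact (freeShEquiv_comp U _ y).symm.trans (congrArg (freeShEquiv U (Coh.toAb S.X₃)) hyx)

end Groth.Agent.CAlgH3.PuncturedCoh
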