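import Groth.Agent.CAlgH3.GrBass
import Groth.Agent.GrLib.Hull
import Mathlib

/-!
Bass numbers count the indecomposable summands of minimal *injective resolutions.
-/

set_option autoImplicit false

universe u

open DirectSum Groth.Agent.GrLib CategoryTheory Abelian IsLocalRing

namespace Groth.Agent.CAlgH3.GrBassCount

open GrLaurent

variable {ι : Type} [AddCommGroup ι] [DecidableEq ι] {R : Type u} [CommRing R]
  {𝒜 : ι → AddSubgroup R} [GradedRing 𝒜]

section ess

variable {X : Type u} [AddCommGroup X] [Module R X] {𝒳 : ι → AddSubgroup X} [Decomposition 𝒳]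
  [SetLike.GradedSMul 𝒜 𝒳]

variable (𝒜 𝒳) in
/-- `K` is essential, in the graded sense, inside `J`. -/
def GrEss (K J : Submodule R X) : Prop :=
  ∀ Q : Submodule R X, Q.IsHomogeneous 𝒳 → Q ≤ J → Q ≠ ⊥ → Q ⊓ K ≠ ⊥

theorem GrEss.exists_multiple {K J : Submodule R X} (hK : K.IsHomogeneous 𝒳) (h : GrEss 𝒳 K J)
    {g : ι} {y : X} (hy : y ∈ 𝒳 g) (hyJ : y ∈ J) (hy0 : y ≠ 0) :
    ∃ a, ∃ s ∈ 𝒜 a, s • y ≠ 0 ∧ s • y ∈ K := by
  have hQ : (Submodule.span R {y}).IsHomogeneous 𝒳 :=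
    isHomogeneous_span 𝒜 fun m hm => ⟨g, (Set.mem_singleton_iff.1 hm) ▸ hy⟩
  have hne := h _ hQ ((Submodule.span_singleton_le_iff_mem _ _).2 hyJ)
    (by simpa [Submodule.span_singleton_eq_bot] using hy0)
  obtain ⟨z, hz, hz0⟩ := Submodule.exists_mem_ne_zero_of_ne_bot hne
  obtain ⟨r, rfl⟩ := Submodule.mem_span_singleton.1 hz.1
  exact exists_hom_multiple hK hy hz0 hz.2

/-- The elements with a multiple by some element of `homOutside` in `N`. -/
def sat (W : Submonoid R) (N : Submodule R X) : Submodule R X where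
  carrier := {x | ∃ h ∈ W, h • x ∈ N}
  zero_mem' := ⟨1, one_mem _, by rw [smul_zero]; exact zero_mem _⟩
  add_mem' := by
    rintro x y ⟨h, hh, hx⟩ ⟨h', hh', hy⟩
    refine ⟨h * h', mul_mem hh hh', ?_⟩
    rw [smul_add]
    refine add_mem ?_ ?_
    · rw [mul_comm, mul_smul]; exact N.smul_mem _ hx
    · rw [mul_smul]; exact N.smul_mem _ hy
  smul_mem' := by
    rintro c x ⟨h, hh, hx⟩
    exact ⟨h, hh, by rw [smul_comm]; exact N.smul_mem _ hx⟩

theorem mem_of_components (N : Submodule R X) {x : X} (h : ∀ g, proj 𝒳 g x ∈ N) : x ∈ N :=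
  mem_of_proj_mem (ℳ := 𝒳) N h

theorem proj_mem_tors {P : Ideal R} (hP : P.IsHomogeneous 𝒜) {x : X}
    (hx : ∀ a ∈ P, a • x = 0) (g : ι) : ∀ a ∈ P, a • proj 𝒳 g x = 0 := fun a ha => by
  have key : ∀ i, proj 𝒜 i a • proj 𝒳 g x = 0 := fun i => by
    rw [← GrLib.proj_smul (ℳ := 𝒳) (proj_mem 𝒜 i a) g x, show proj 𝒜 i a • x = 0 from hx _ (hP i ha), map_zero]
  obtain ⟨S, hS⟩ : ∃ S : Finset ι, ∀ i, i ∉ S → proj 𝒜 i a = 0 :=
    ⟨(GrLib.finite_support (ℳ := 𝒜) a).toFinset, fun g hg => by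
      by_contra h
      exact hg ((Set.Finite.mem_toFinset _).2 h)⟩
  rw [← sum_proj (ℳ := 𝒜) a hS, Finset.sum_smul]
  exact Finset.sum_eq_zero fun i _ => key i

/-- Elements killed by `P` have multiples in an essential submodule. -/
theorem mem_sat_of_killed {P : Ideal R} [P.IsPrime] (hP : P.IsHomogeneous 𝒜) {K : Submodule R X}
    (hK : K.IsHomogeneous 𝒳) (hess : GrEss 𝒳 K ⊤) {x : X} (hx : ∀ a ∈ P, a • x = 0) :
    x ∈ sat (homOutside 𝒜 P) K := by
  refine mem_of_components (𝒳 := 𝒳) _ fun g => ?_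
  by_cases h0 : proj 𝒳 g x = 0
  · rw [h0]; exact zero_mem _
  obtain ⟨a, s, hs, hs0, hsK⟩ := GrEss.exists_multiple (𝒜 := 𝒜) hK hess (proj_mem 𝒳 g x) trivial h0
  exact ⟨s, ⟨⟨a, hs⟩, fun h => hs0 (proj_mem_tors hP hx g s h)⟩, hsK⟩

end ess

section count

variable [IsNoetherianRing R] {X : Type u} [AddCommGroup X] [Module R X] {𝒳 : ι → AddSubgroup X}
  [Decomposition 𝒳] [SetLike.GradedSMul 𝒜 𝒳]
  {Λ : Type u} {P : Λ → HomogeneousIdeal 𝒜} (hP : ∀ α, (P α).toIdeal.IsPrime) {g : Λ → ι}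
  {J : Λ → Submodule R X} (hJ : ∀ α, (J α).IsHomogeneous 𝒳) (hind : iSupIndep J) (htop : iSup J = ⊤)
  {f : ∀ α, (R ⧸ (P α).toIdeal) →ₗ[R] X}
  (hf : ∀ α, Function.Injective (f α) ∧ GrLC.IsGrHomDeg (GrLC.quotGr 𝒜 (P α)) 𝒳 (f α) (g α) ∧
    LinearMap.range (f α) ≤ J α ∧ ∀ Q : Submodule R X, Q.IsHomogeneous 𝒳 → Q ≤ J α → Q ≠ ⊥ →
      Q ⊓ LinearMap.range (f α) ≠ ⊥)
  (p : HomogeneousIdeal 𝒜) [p.toIdeal.IsPrime]

theorem eq_zero_of_sum_indep (hind : iSupIndep J) (F : Λ →₀ X) (hF : ∀ α, F α ∈ J α)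
    (h : F.sum (fun _ y => y) = 0) (α : Λ) : F α = 0 := by
  classical
  by_cases hα : α ∈ F.support
  · have hd := (hind α).le_bot (x := F α) ⟨hF α, ?_⟩
    · exact (Submodule.mem_bot R).1 hd
    · have hs : F α + ∑ β ∈ F.support.erase α, F β = 0 := by
        rw [Finset.add_sum_erase _ _ hα]; exact h
      rw [eq_neg_of_add_eq_zero_left hs]
      refine neg_mem (Submodule.sum_mem _ fun β hβ => ?_)
      exact Submodule.mem_iSup_of_mem β (Submodule.mem_iSup_of_mem (Finset.ne_of_mem_erase hβ) (hF β))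
  · exact Finsupp.notMem_support_iff.1 hα

include hf in
theorem apply_one_mem (α : Λ) : f α (Ideal.Quotient.mk _ 1) ∈ 𝒳 (g α) := by
  have := (hf α).2.1 0 (Ideal.Quotient.mk _ 1) ⟨1, SetLike.one_mem_graded 𝒜, rfl⟩
  rwa [zero_add] at this

theorem apply_mk (α : Λ) (s : R) :
    f α (Ideal.Quotient.mk _ s) = s • f α (Ideal.Quotient.mk _ 1) := by
  rw [← map_smul]
  congr 1
  change _ = Ideal.Quotient.mk (P α).toIdeal (s * 1)
  rw [mul_one]

include hf in
theorem isHomogeneous_range (α : Λ) : (LinearMap.range (f α)).IsHomogeneous 𝒳 := by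
  have h : LinearMap.range (f α) = Submodule.span R {f α (Ideal.Quotient.mk _ 1)} := by
    refine le_antisymm ?_ ((Submodule.span_singleton_le_iff_mem _ _).2 (LinearMap.mem_range_self (f α) _))
    rintro _ ⟨x, rfl⟩
    obtain ⟨x, rfl⟩ := Ideal.Quotient.mk_surjective x
    rw [apply_mk α x]
    exact Submodule.smul_mem (Submodule.span R {f α (Ideal.Quotient.mk _ 1)}) _ (Submodule.subset_span rfl)
  rw [h]
  exact isHomogeneous_span 𝒜 fun m hm => ⟨g α, (Set.mem_singleton_iff.1 hm) ▸ apply_one_mem hf α⟩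

include hf in
theorem exists_pow_smul_eq_zero (α : Λ) {a : ι} {b : R} (hb : b ∈ 𝒜 a) (hbP : b ∈ (P α).toIdeal)
    {i : ι} {y : X} (hy : y ∈ 𝒳 i) (hyJ : y ∈ J α) : ∃ k : ℕ, b ^ k • y = 0 := by
  let A : ℕ → Submodule R R := fun k => LinearMap.ker (LinearMap.toSpanSingleton R X (b ^ k • y))
  have hmono : Monotone A := monotone_nat_of_le_succ fun k r hr => by
    rw [LinearMap.mem_ker, LinearMap.toSpanSingleton_apply] at hr ⊢
    rw [pow_succ, mul_comm, mul_smul, smul_comm r b, hr, smul_zero]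
  obtain ⟨k, hk⟩ := WellFoundedGT.monotone_chain_condition (⟨A, hmono⟩ : ℕ →o Submodule R R)
  refine ⟨k, by_contra fun hne => ?_⟩
  have hmem : b ^ k • y ∈ 𝒳 (k • a + i) := GrLib.smul_mem (SetLike.pow_mem_graded k hb) hy
  obtain ⟨_, r, -, hr0, hrR⟩ :=
    GrEss.exists_multiple (𝒜 := 𝒜) (isHomogeneous_range hf α) (hf α).2.2.2 hmem
      ((J α).smul_mem _ hyJ) hne
  obtain ⟨t, ht⟩ := hrR
  have h1 : r ∈ A (k + 1) := by
    show r • (b ^ (k + 1) • y) = 0
    rw [pow_succ', mul_smul, smul_comm, ← ht, ← map_smul]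
    obtain ⟨t, rfl⟩ := Ideal.Quotient.mk_surjective t
    rw [← Ideal.Quotient.mk_eq_mk, ← Submodule.Quotient.mk_smul, smul_eq_mul, mul_comm b t,
      (Submodule.Quotient.mk_eq_zero _).2 ((P α).toIdeal.mul_mem_left t hbP), map_zero]
  have h2 : r ∈ A k := by
    have := hk (k + 1) (Nat.le_succ k)
    change A k = A (k + 1) at this
    rwa [this]
  exact hr0 h2

include hP hJ hind htop hf in
/-- The tops of the summands attached to `p` give an independent generating family of the elements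
killed by `p`, inside any essential submodule. -/
theorem exists_family {K : Submodule R X} (hK : K.IsHomogeneous 𝒳) (hess : GrEss 𝒳 K ⊤) :
    ∃ z : {α : Λ // P α = p} → X,
      (∀ β, z β ∈ K ∧ ∀ a ∈ p.toIdeal, a • z β = 0) ∧
      (∀ c : {α : Λ // P α = p} →₀ R, c.sum (fun β a => a • z β) ∈ sat (homOutside 𝒜 p.toIdeal) ⊥ →
        ∀ β, c β ∈ p.toIdeal) ∧
      (∀ x, (∀ a ∈ p.toIdeal, a • x = 0) →
        x ∈ sat (homOutside 𝒜 p.toIdeal) (Submodule.span R (Set.range z))) := by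
  classical
  let w : {α : Λ // P α = p} → X := fun β => f β.1 (Ideal.Quotient.mk _ 1)
  have hwk : ∀ β : {α : Λ // P α = p}, ∀ a ∈ p.toIdeal, a • w β = 0 := fun β a ha => by
    rw [← apply_mk (f := f), Ideal.Quotient.eq_zero_iff_mem.2 (by rw [β.2]; exact ha), map_zero]
  have hw : ∀ β : {α : Λ // P α = p}, ∃ h ∈ homOutside 𝒜 p.toIdeal, h • w β ∈ K :=
    fun β => mem_sat_of_killed p.isHomogeneous hK hess (hwk β)
  choose h hh hhK using hw
  refine ⟨fun β => h β • w β, fun β => ⟨hhK β, fun a ha => by rw [smul_comm, hwk β a ha, smul_zero]⟩,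
    fun c hc β => ?_, fun x hx => ?_⟩
  · obtain ⟨t, ht, ht0⟩ := hc
    rw [Submodule.mem_bot, Finsupp.smul_sum] at ht0
    let F : Λ →₀ X := (c.mapRange (fun a => t * a) (mul_zero t)).sum
      fun β a => Finsupp.single β.1 (a • h β • w β)
    have hFβ : ∀ β : {α : Λ // P α = p}, F β.1 = (t * c β) • h β • w β := fun β => by
      simp only [F, Finsupp.sum_apply]
      rw [Finsupp.sum, Finset.sum_eq_single β]
      · simp
      · exact fun γ _ hγ => Finsupp.single_eq_of_ne fun e => hγ (Subtype.ext e.symm)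
      · intro hn
        rw [Finsupp.notMem_support_iff.1 hn]
        simp
    have hFJ : ∀ α, F α ∈ J α := fun α => by
      simp only [F, Finsupp.sum_apply]
      refine Submodule.sum_mem _ fun γ _ => ?_
      dsimp only
      rw [Finsupp.single_apply]
      split_ifs with e
      · subst e
        exact Submodule.smul_mem _ _ (Submodule.smul_mem _ _ ((hf γ.1).2.2.1 ⟨_, rfl⟩))
      · exact zero_mem _
    have hsum : F.sum (fun _ y => y) = 0 := by
      simp only [F]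
      rw [Finsupp.sum_sum_index (fun _ => rfl) (fun _ _ _ => rfl)]
      simp only [Finsupp.sum_single_index]
      rw [Finsupp.sum_mapRange_index (h := fun (β : {α : Λ // P α = p}) (a : R) => a • h β • w β) (fun β => zero_smul R (h β • w β))]
      simpa only [mul_smul] using ht0
    have h1 := eq_zero_of_sum_indep hind F hFJ hsum β.1
    rw [hFβ, smul_smul, ← apply_mk (f := f)] at h1
    have h2 := (Ideal.Quotient.eq_zero_iff_mem).1 ((hf β.1).1 (h1.trans (map_zero _).symm))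
    rw [β.2] at h2
    exact ((Ideal.IsPrime.mem_or_mem ‹_› ((Ideal.IsPrime.mem_or_mem ‹_› h2).resolve_right (hh β).2))).resolve_left ht.2
  · obtain ⟨F, hFJ, hFx⟩ := (Submodule.mem_iSup_iff_exists_finsupp J x).1 (htop ▸ Submodule.mem_top)
    rw [← hFx]
    refine Submodule.sum_mem _ fun α _ => ?_
    have hFk : ∀ a ∈ p.toIdeal, a • F α = 0 := fun a ha => by
      have h0 := eq_zero_of_sum_indep hind (F.mapRange (fun y => a • y) (smul_zero a))
        (fun β => by rw [Finsupp.mapRange_apply]; exact (J β).smul_mem a (hFJ β))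
        (by rw [Finsupp.sum_mapRange_index (fun _ => rfl), ← Finsupp.smul_sum, hFx, hx a ha]) α
      rwa [Finsupp.mapRange_apply] at h0
    refine mem_of_components (𝒳 := 𝒳) _ fun i => ?_
    set y := proj 𝒳 i (F α) with hy
    have hyJ : y ∈ J α := hJ α i (hFJ α)
    have hyk : ∀ a ∈ p.toIdeal, a • y = 0 := proj_mem_tors p.isHomogeneous hFk i
    by_cases h0 : y = 0
    · rw [h0]; exact zero_mem _
    obtain ⟨a, r, hr, hr0, ⟨s', hs⟩⟩ :=
      GrEss.exists_multiple (𝒜 := 𝒜) (isHomogeneous_range hf α) (hf α).2.2.2 (proj_mem 𝒳 i (F α)) hyJ h0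
    obtain ⟨s, rfl⟩ := Ideal.Quotient.mk_surjective s'
    rw [apply_mk] at hs
    have hsP : s ∉ (P α).toIdeal := fun h' => hr0 (by
      rw [← hs, ← apply_mk (f := f), Ideal.Quotient.eq_zero_iff_mem.2 h', map_zero])
    have hle : p.toIdeal ≤ (P α).toIdeal := fun b hb => by
      have h1 : (b * s) • f α (Ideal.Quotient.mk _ 1) = 0 := by
        rw [mul_smul, hs, smul_comm, hyk b hb, smul_zero]
      rw [← apply_mk (f := f), ← map_zero (f α)] at h1
      exact ((hP α).mem_or_mem (Ideal.Quotient.eq_zero_iff_mem.1 ((hf α).1 h1))).resolve_right hsP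
    by_cases heq : P α = p
    · refine ⟨r * h ⟨α, heq⟩, mul_mem ⟨⟨a, hr⟩, fun h' => hr0 (hyk r h')⟩ (hh ⟨α, heq⟩), ?_⟩
      rw [mul_comm, mul_smul, ← hs, smul_comm]
      exact Submodule.smul_mem _ _ (Submodule.subset_span ⟨⟨α, heq⟩, rfl⟩)
    · obtain ⟨b, hb, hbp⟩ : ∃ b ∈ (P α).toIdeal, b ∉ p.toIdeal := by
        by_contra! hall
        exact heq (HomogeneousIdeal.toIdeal_injective (le_antisymm hall hle))
      obtain ⟨e, he⟩ : ∃ e, proj 𝒜 e b ∉ p.toIdeal := by
        by_contra! hall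
        exact hbp (mem_of_proj_mem (ℳ := 𝒜) p.toIdeal hall)
      obtain ⟨k, hk⟩ := exists_pow_smul_eq_zero hf α (proj_mem 𝒜 e b) ((P α).isHomogeneous e hb)
        (proj_mem 𝒳 i (F α)) hyJ
      exact ⟨proj 𝒜 e b ^ k, pow_mem (show proj 𝒜 e b ∈ homOutside 𝒜 p.toIdeal from
        ⟨⟨e, proj_mem 𝒜 e b⟩, he⟩) k, by rw [hk]; exact zero_mem _⟩

end count

section bass

variable [Module.Free ℤ ι] [Module.Finite ℤ ι] [IsNoetherianRing R] {M : Type u} [AddCommGroup M]
  [Module R M] {ℳ : ι → AddSubgroup M} [Decomposition ℳ] [SetLike.GradedSMul 𝒜 ℳ]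
  (E : GrLC.StarInjRes 𝒜 ℳ) (p : Ideal R) [p.IsPrime]

open GrBassExt in
theorem bassNum_eq_card (hp : p.IsHomogeneous 𝒜) (n : ℕ) {I : Type u} (z : I → (E.X n).carrier)
    (hz : ∀ i, z i ∈ cyc E p n)
    (hind : ∀ c : I →₀ R, c.sum (fun i a => a • z i) ∈ bd E p n → ∀ i, c i ∈ p)
    (hgen : ∀ x ∈ cyc E p n, ∃ h ∈ homOutside 𝒜 p,
      h • x ∈ Submodule.span R (Set.range z) ⊔ bd E p n) :
    GrLC.bassNum p M n = ENat.card I := by
  let S := Localization p.primeCompl
  obtain ⟨e⟩ := nonempty_ext_finsupp E p p hp le_rfl (fun h hh => hh.2) n z hz hind hgen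
  have hJ : GrBassExt.J p p = maximalIdeal S := Localization.AtPrime.map_eq_maximalIdeal
  let q : (S ⧸ GrBassExt.J p p) ≃ₗ[S] ResidueField S :=
    (Submodule.quotEquivOfEq _ _ (hJ.trans (Submodule.ext fun x => (residue_eq_zero_iff x).symm))).trans
      ((Algebra.linearMap S (ResidueField S)).quotKerEquivOfSurjective residue_surjective)
  show Module.length S (Ext (ModuleCat.of S (ResidueField S))
    (ModuleCat.of S (LocalizedModule p.primeCompl M)) n) = _
  rw [← (ExtShift.congrLeft (M := LocalizedModule p.primeCompl M) q n).length_eq, e.length_eq,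
    Module.length_finsupp, q.length_eq, GrBass.length_residueField, mul_one]

variable {Λ : Type u} {P : Λ → HomogeneousIdeal 𝒜} (hP : ∀ α, (P α).toIdeal.IsPrime) {g : Λ → ι}

/-- Minimal resolutions: the number of summands of each type is the Bass number. -/
theorem card_minimal (hP : ∀ α, (P α).toIdeal.IsPrime) (p : HomogeneousIdeal 𝒜) [p.toIdeal.IsPrime] (j : ℕ)
    (hmin0 : ∀ Q : Submodule R (E.X 0).carrier, Q.IsHomogeneous (E.X 0).gr → Q ≠ ⊥ →
      Q ⊓ LinearMap.range E.ε ≠ ⊥)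
    (hmin : ∀ (n : ℕ) (Q : Submodule R (E.X (n + 1)).carrier), Q.IsHomogeneous (E.X (n + 1)).gr → Q ≠ ⊥ →
      Q ⊓ LinearMap.range (E.d n) ≠ ⊥)
    {J : Λ → Submodule R (E.X j).carrier} (hJ : ∀ α, (J α).IsHomogeneous (E.X j).gr) (hind : iSupIndep J)
    (htop : iSup J = ⊤) {f : ∀ α, (R ⧸ (P α).toIdeal) →ₗ[R] (E.X j).carrier}
    (hf : ∀ α, Function.Injective (f α) ∧ GrLC.IsGrHomDeg (GrLC.quotGr 𝒜 (P α)) (E.X j).gr (f α) (g α) ∧
      LinearMap.range (f α) ≤ J α ∧ ∀ Q : Submodule R (E.X j).carrier, Q.IsHomogeneous (E.X j).gr →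
        Q ≤ J α → Q ≠ ⊥ → Q ⊓ LinearMap.range (f α) ≠ ⊥) :
    ENat.card {α : Λ // P α = p} = GrLC.bassNum p.toIdeal M j := by
  have hess : ∀ n, GrEss (E.X n).gr (LinearMap.ker (E.d n)) ⊤ := fun n => by
    cases n with
    | zero => exact fun Q hQ _ hQ0 => by rw [E.exact_zero]; exact hmin0 Q hQ hQ0
    | succ n => exact fun Q hQ _ hQ0 => by rw [E.exact_succ]; exact hmin n Q hQ hQ0
  have hbd : ∀ n, GrBassExt.bd E p.toIdeal n ≤ sat (homOutside 𝒜 p.toIdeal) ⊥ := fun n => by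
    cases n with
    | zero => exact bot_le
    | succ n =>
      rintro _ ⟨y, hy, rfl⟩
      obtain ⟨h, hh, hhy⟩ := mem_sat_of_killed p.isHomogeneous (isHomogeneous_ker (E.d_grHom n)) (hess n)
        (fun a ha => (Submodule.mem_torsionBySet_iff _ _).1 hy ⟨a, ha⟩)
      exact ⟨h, hh, by rw [Submodule.mem_bot, ← map_smul]; exact hhy⟩
  obtain ⟨z, hz, hzi, hzg⟩ := exists_family hP hJ hind htop hf p (isHomogeneous_ker (E.d_grHom j)) (hess j)
  exact (bassNum_eq_card E p.toIdeal p.isHomogeneous j z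
    (fun β => ⟨(hz β).1, (Submodule.mem_torsionBySet_iff _ _).2 fun a => (hz β).2 a a.2⟩)
    (fun c hc => hzi c (hbd j hc))
    (fun x hx => by
      obtain ⟨h, hh, hh'⟩ := hzg x fun a ha => (Submodule.mem_torsionBySet_iff _ _).1 hx.2 ⟨a, ha⟩
      exact ⟨h, hh, Submodule.mem_sup_left hh'⟩)).symm

/-- The *injective hull: the number of summands of each type is the zeroth Bass number. -/
theorem card_hull (hP : ∀ α, (P α).toIdeal.IsPrime) (p : HomogeneousIdeal 𝒜) [p.toIdeal.IsPrime]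
    {X : Type u} [AddCommGroup X] [Module R X] {𝒳 : ι → AddSubgroup X} [Decomposition 𝒳]
    [SetLike.GradedSMul 𝒜 𝒳] {e : M →ₗ[R] X} (he : GrLC.IsStarEss ℳ 𝒳 e)
    {J : Λ → Submodule R X} (hJ : ∀ α, (J α).IsHomogeneous 𝒳) (hind : iSupIndep J)
    (htop : iSup J = ⊤) {f : ∀ α, (R ⧸ (P α).toIdeal) →ₗ[R] X}
    (hf : ∀ α, Function.Injective (f α) ∧ GrLC.IsGrHomDeg (GrLC.quotGr 𝒜 (P α)) 𝒳 (f α) (g α) ∧
      LinearMap.range (f α) ≤ J α ∧ ∀ Q : Submodule R X, Q.IsHomogeneous 𝒳 →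
        Q ≤ J α → Q ≠ ⊥ → Q ⊓ LinearMap.range (f α) ≠ ⊥) :
    ENat.card {α : Λ // P α = p} = GrLC.bassNum p.toIdeal M 0 := by
  obtain ⟨z, hz, hzi, hzg⟩ := exists_family hP hJ hind htop hf p
    (GrLib.isHomogeneous_range (ℳ := ℳ) he.grHom) (fun Q hQ _ hQ0 => he.essential Q hQ hQ0)
  choose m hm using fun β => LinearMap.mem_range.1 (hz β).1
  let E₀ := GrLib.starRes 𝒜 ℳ
  refine (bassNum_eq_card E₀ p.toIdeal p.isHomogeneous 0 (fun β => E₀.ε (m β))
    (fun β => ⟨d_comp_ε E₀ (m β), (Submodule.mem_torsionBySet_iff _ _).2 fun a => ?_⟩)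
    (fun c hc => ?_) fun x hx => ?_).symm
  · show (a : R) • E₀.ε (m β) = 0
    rw [← map_smul, show (a : R) • m β = 0 from he.injective (by
      rw [map_smul, hm, (hz β).2 a a.2, map_zero]), map_zero]
  · refine hzi c ⟨1, one_mem _, ?_⟩
    have h0 : c.sum (fun β a => a • m β) = 0 := E₀.ε_injective (by
      rw [map_finsuppSum, map_zero]
      simpa only [map_smul] using (Submodule.mem_bot R).1 hc)
    have := congrArg e h0
    rw [map_finsuppSum, map_zero] at this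
    rw [one_smul, Submodule.mem_bot]
    simpa only [map_smul, hm] using this
  · obtain ⟨m', rfl⟩ := exists_ε_eq E₀ hx.1
    obtain ⟨h, hh, hh'⟩ := hzg (e m') fun a ha => by
      have h0 := (Submodule.mem_torsionBySet_iff _ _).1 hx.2 ⟨a, ha⟩
      rw [← map_smul, show a • m' = 0 from E₀.ε_injective (by rw [map_smul, map_zero]; exact h0), map_zero]
    refine ⟨h, hh, Submodule.mem_sup_left ?_⟩
    have hmem : h • m' ∈ Submodule.span R (Set.range m) := by
      have h1 : (Submodule.span R (Set.range m)).map e = Submodule.span R (Set.range z) := by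
        rw [Submodule.map_span, ← Set.range_comp]
        exact congrArg (fun v => Submodule.span R (Set.range v)) (funext hm)
      rw [← h1, ← map_smul] at hh'
      obtain ⟨w, hw, hwe⟩ := hh'
      rwa [← he.injective hwe]
    have := Submodule.mem_map_of_mem (f := E₀.ε) hmem
    rwa [Submodule.map_span, ← Set.range_comp, map_smul] at this

end bass

end Groth.Agent.CAlgH3.GrBassCount
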