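import Groth.Agent.GrLib.StarInj
import Groth.Agent.GrLib.Hull
import Groth.Agent.CAlgH3.GrBassCount
import Mathlib

/-!
*Injective envelopes and minimal *injective resolutions.
-/

set_option autoImplicit false

universe u

open DirectSum Groth.Agent.GrLib

namespace Groth.Agent.CAlgH3.GrMinimalRes

open GrBassCount

variable {ι : Type} [AddCommGroup ι] [DecidableEq ι] {R : Type u} [CommRing R]
  {𝒜 : ι → AddSubgroup R} [GradedRing 𝒜]

theorem exists_hull {M : Type u} [AddCommGroup M] [Module R M] (ℳ : ι → AddSubgroup M)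
    [Decomposition ℳ] [SetLike.GradedSMul 𝒜 ℳ] :
    ∃ (X : GrLC.GMod.{u} 𝒜) (f : M →ₗ[R] X.carrier), GrLC.IsStarInjHull 𝒜 ℳ X.gr f := by
  obtain ⟨X, e₀, hX, he₀, he₀i⟩ := exists_starInj_embedding (𝒜 := 𝒜) (ℳ := ℳ)
  obtain ⟨E, hE, r, hQE, hess, -, -, -, hEinj⟩ := exists_hull_inside hX (isHomogeneous_range he₀)
  letI := subDecomp X.gr hE
  let f : M →ₗ[R] E := LinearMap.codRestrict E e₀ fun m => hQE ⟨m, rfl⟩
  have hf : GrLC.IsStarInjHull 𝒜 ℳ (subGr X.gr E) f :=
    { injective := fun x y h => he₀i (congrArg Subtype.val h)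
      grHom := fun g m hm => he₀ g m hm
      essential := fun P hP hP0 => essential_of_essIn (𝒜 := 𝒜) (fun g y hy _ hy0 => by
        obtain ⟨a, s, hs, hs0, ⟨m, hm⟩⟩ := hess g y hy y.2 (fun h => hy0 (Subtype.ext h))
        exact ⟨a, s, hs, fun h => hs0 (congrArg Subtype.val h), m, Subtype.ext hm⟩) hP hP0
      starInj := hEinj }
  exact ⟨subGMod 𝒜 X.gr E hE, f, hf⟩

/-- One step of a minimal resolution. -/
structure MStep (𝒜 : ι → AddSubgroup R) [GradedRing 𝒜] where
  /-- the term -/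
  X : GrLC.GMod.{u} 𝒜
  /-- the image of the previous map -/
  K : Submodule R X.carrier
  hom : K.IsHomogeneous X.gr
  inj : GrLC.IsStarInj 𝒜 X.gr
  ess : GrEss X.gr K ⊤

variable (S : MStep 𝒜)

theorem exists_next : ∃ (S' : MStep 𝒜) (d : S.X.carrier →ₗ[R] S'.X.carrier),
    GrLC.IsGrHom S.X.gr S'.X.gr d ∧ LinearMap.ker d = S.K ∧ LinearMap.range d = S'.K := by
  letI := qDecomp S.X.gr S.hom
  obtain ⟨X', f, hf⟩ := exists_hull (𝒜 := 𝒜) (qGr S.X.gr S.K)
  have hd : GrLC.IsGrHom S.X.gr X'.gr (f ∘ₗ S.K.mkQ) := fun k x hx => hf.grHom k _ (mk_mem_qGr hx)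
  refine ⟨⟨X', LinearMap.range (f ∘ₗ S.K.mkQ), GrLib.isHomogeneous_range hd, hf.starInj, ?_⟩,
    f ∘ₗ S.K.mkQ, hd, ?_, rfl⟩
  · intro Q hQ _ hQ0
    rw [LinearMap.range_comp, Submodule.range_mkQ, Submodule.map_top]
    exact hf.essential Q hQ hQ0
  · rw [LinearMap.ker_comp, LinearMap.ker_eq_bot.2 hf.injective, Submodule.comap_bot, Submodule.ker_mkQ]

variable {M : Type u} [AddCommGroup M] [Module R M] (ℳ : ι → AddSubgroup M)
    [Decomposition ℳ] [SetLike.GradedSMul 𝒜 ℳ]

variable (𝒜) in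
/-- Minimal resolutions exist. -/
theorem exists_minRes :
    ∃ E : GrLC.StarInjRes 𝒜 ℳ, ∀ n, GrEss (E.X n).gr (LinearMap.ker (E.d n)) ⊤ := by
  obtain ⟨X₀, f, hf⟩ := exists_hull (𝒜 := 𝒜) ℳ
  choose next d hd hker hrange using exists_next (𝒜 := 𝒜)
  let step : ℕ → MStep 𝒜 := fun n => Nat.rec
    ⟨X₀, LinearMap.range f, GrLib.isHomogeneous_range hf.grHom, hf.starInj,
      fun Q hQ _ hQ0 => hf.essential Q hQ hQ0⟩
    (fun _ S => next S) n
  exact ⟨{ X := fun n => (step n).X
           d := fun n => d (step n)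
           ε := f
           d_grHom := fun n => hd (step n)
           ε_grHom := hf.grHom
           ε_injective := hf.injective
           exact_zero := hker (step 0)
           exact_succ := fun n => (hker (step (n + 1))).trans (hrange (step n)).symm
           starInj := fun n => (step n).inj },
    fun n => by rw [show LinearMap.ker (d (step n)) = (step n).K from hker (step n)]; exact (step n).ess⟩

end Groth.Agent.CAlgH3.GrMinimalRes
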