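import Groth.Prelude.Def_CAlg
import Groth.Agent.CAlgH3.GrMinimalRes
import Groth.Agent.GrLib.Prime
import Groth.Agent.GrLib.Derived
import Groth.Agent.LocCoh.GorensteinCriteria
import Mathlib

/-!
Top graded local cohomology of a Gorenstein *local graded ring.
-/

set_option autoImplicit false

universe u

open DirectSum Groth.Agent.GrLib CategoryTheory Abelian IsLocalRing

namespace Groth.Agent.CAlgH3.GrGorenstein

open GrBassCount GrLaurent

section localRing

variable {S : Type u} [CommRing S] [_root_.LocCoh.IsGorensteinLocalRing S]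

/-- Bass numbers of a Gorenstein local ring. -/
theorem length_ext_residue {n : ℕ} (hn : ringKrullDim S = n) (i : ℕ) :
    Module.length S (Ext (ModuleCat.of S (S ⧸ maximalIdeal S)) (ModuleCat.of S S) i) =
      if i = n then 1 else 0 := by
  obtain ⟨xs, hlen, hmem, hreg, hhigh⟩ := LocCoh.gorenstein_structure hn
  have hkill : ∀ x ∈ xs, ∀ z : S ⧸ maximalIdeal S, x • z = 0 := fun x hx z => by
    obtain ⟨b, rfl⟩ := Submodule.Quotient.mk_surjective _ z
    rw [← Submodule.Quotient.mk_smul, Submodule.Quotient.mk_eq_zero]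
    exact Ideal.mul_mem_right _ _ (hmem x hx)
  obtain ⟨hlo, ⟨ek⟩⟩ := LocCoh.ext_regular_shift xs S hreg.toIsWeaklyRegular (S ⧸ maximalIdeal S) hkill
  split_ifs with hi
  · subst hi
    haveI := LocCoh.isCohenMacaulayLocalRing_of_gorenstein (R := S)
    obtain ⟨-, hrad⟩ := LocCoh.isRegular_length_le hn hreg
    have hrad := hrad hlen
    obtain ⟨eq⟩ := LocCoh.nonempty_quotient_equiv_torsionBy_H (maximalIdeal S) xs S hmem
      hreg.toIsWeaklyRegular (hrad.trans (Ideal.radical_mono le_sup_left))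
    obtain ⟨e2⟩ := LocCoh.nonempty_torsionBy_equiv_hom (maximalIdeal S)
      (S ⧸ (Ideal.ofList xs • (⊤ : Submodule S S)))
    obtain ⟨e1⟩ := LocCoh.nonempty_socle_of_gorenstein hn
    rw [← hlen]
    let T := _root_.LocCoh.H (maximalIdeal S) xs.length S
    have hJm : Ideal.ofList xs ≤ maximalIdeal S := Ideal.span_le.2 hmem
    let e3 : _root_.LocCoh.torsionBy (maximalIdeal S) (S ⧸ (Ideal.ofList xs • (⊤ : Submodule S S))) ≃ₗ[S]
        _root_.LocCoh.torsionBy (maximalIdeal S) T :=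
      { toFun := fun z => ⟨(eq z.1).1, (Submodule.mem_torsionBySet_iff _ _).2 fun a => by
          rw [← Submodule.coe_smul, ← map_smul, (Submodule.mem_torsionBySet_iff _ _).1 z.2 a, map_zero]
          rfl⟩
        map_add' := fun y z => Subtype.ext (congrArg Subtype.val (eq.map_add y.1 z.1) :)
        map_smul' := fun c z => Subtype.ext (congrArg Subtype.val (eq.map_smul c z.1) :)
        invFun := fun w => ⟨eq.symm ⟨w.1, (Submodule.mem_torsionBySet_iff _ _).2 fun a =>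
            (Submodule.mem_torsionBySet_iff _ _).1 w.2 ⟨a.1, hJm a.2⟩⟩,
          (Submodule.mem_torsionBySet_iff _ _).2 fun a => eq.injective (by
            rw [map_smul, map_zero, eq.apply_symm_apply]
            exact Subtype.ext ((Submodule.mem_torsionBySet_iff _ _).1 w.2 a))⟩
        left_inv := fun z => Subtype.ext (eq.injective (by simp))
        right_inv := fun w => Subtype.ext (by simp) }
    rw [ek.length_eq, ← e2.length_eq, e3.length_eq]
    subst T
    rw [hlen, ← e1.length_eq]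
    haveI : IsSimpleModule S (S ⧸ maximalIdeal S) :=
      isSimpleModule_iff_quot_maximal.2 ⟨_, inferInstance, ⟨LinearEquiv.refl _ _⟩⟩
    rw [Module.length_eq_one]
  · rcases Nat.lt_or_gt_of_ne hi with h | h
    · haveI := hlo i (hlen.symm ▸ h)
      exact Module.length_eq_zero
    · haveI := hhigh i h (S ⧸ maximalIdeal S)
      exact Module.length_eq_zero

end localRing

section starLocal

variable {ι : Type} [AddCommGroup ι] [DecidableEq ι] {R : Type u} [CommRing R]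
  {𝒜 : ι → AddSubgroup R} [GradedRing 𝒜] {m : HomogeneousIdeal 𝒜}

/-- A homogeneous element outside a *maximal ideal generates the unit ideal with it. -/
theorem exists_inv_mod (hm : IsCoatom m) {h : R} {g : ι} (hg : h ∈ 𝒜 g) (hh : h ∉ m.toIdeal) :
    ∃ r : R, 1 - r * h ∈ m.toIdeal := by
  let n : HomogeneousIdeal 𝒜 := ⟨m.toIdeal ⊔ Ideal.span {h},
    GrLib.isHomogeneous_sup (ℳ := 𝒜) m.isHomogeneous
      (isHomogeneous_span 𝒜 fun x hx => ⟨g, (Set.mem_singleton_iff.1 hx) ▸ hg⟩)⟩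
  have hlt : m < n := lt_of_le_of_ne (fun x hx => Submodule.mem_sup_left hx) fun e => hh (by
    have h1 : h ∈ n.toIdeal := Submodule.mem_sup_right (Ideal.mem_span_singleton_self h)
    rwa [← e] at h1)
  have htop : (1 : R) ∈ n.toIdeal := by
    rw [hm.2 n hlt, HomogeneousIdeal.toIdeal_top]; trivial
  obtain ⟨a, ha, b, hb, hab⟩ := Submodule.mem_sup.1 htop
  obtain ⟨r, rfl⟩ := Ideal.mem_span_singleton'.1 hb
  exact ⟨r, by rwa [← hab, add_sub_cancel_right]⟩

theorem isPrime_of_isStarLocal [Module.Free ℤ ι] [Module.Finite ℤ ι] (hm : IsCoatom m) :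
    m.toIdeal.IsPrime := by
  refine isPrime_of_hom m.isHomogeneous (fun h => hm.1 (HomogeneousIdeal.toIdeal_injective
    (by rw [h, HomogeneousIdeal.toIdeal_top]))) fun x hx y _ hxy => ?_
  by_contra! h
  obtain ⟨r, hr⟩ := exists_inv_mod hm hx h.1
  refine h.2 ?_
  have := add_mem (m.toIdeal.mul_mem_right y hr) (m.toIdeal.mul_mem_left r hxy)
  rwa [sub_mul, one_mul, ← mul_assoc, sub_add_cancel] at this

theorem smul_eq_zero_iff_of_killed (hm : IsCoatom m) [m.toIdeal.IsPrime] {X : Type u} [AddCommGroup X]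
    [Module R X] {x : X} (hx : ∀ a ∈ m.toIdeal, a • x = 0) {h : R} (hh : h ∈ homOutside 𝒜 m.toIdeal) :
    ∃ r : R, x = r • h • x := by
  obtain ⟨⟨g, hg⟩, hhm⟩ := hh
  obtain ⟨r, hr⟩ := exists_inv_mod hm hg hhm
  refine ⟨r, ?_⟩
  have := hx _ hr
  rwa [sub_smul, one_smul, mul_smul, sub_eq_zero] at this

variable [Module.Free ℤ ι] [Module.Finite ℤ ι] [IsNoetherianRing R]
  {M : Type u} [AddCommGroup M] [Module R M] {ℳ : ι → AddSubgroup M} [Decomposition ℳ]
  [SetLike.GradedSMul 𝒜 ℳ] (E : GrLC.StarInjRes 𝒜 ℳ)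
  (hE : ∀ n, GrEss (E.X n).gr (LinearMap.ker (E.d n)) ⊤)

open GrBassExt

include hE in
theorem tors_le_ker (hm : IsCoatom m) [m.toIdeal.IsPrime] (n : ℕ) :
    tors E m.toIdeal n ≤ LinearMap.ker (E.d n) := fun x hx => by
  rw [Submodule.mem_torsionBySet_iff] at hx
  have hk : ∀ a ∈ m.toIdeal, a • x = 0 := fun a ha => hx ⟨a, ha⟩
  obtain ⟨h, hh, hhx⟩ := mem_sat_of_killed m.isHomogeneous (isHomogeneous_ker (E.d_grHom n)) (hE n) hk
  obtain ⟨r, hr⟩ := smul_eq_zero_iff_of_killed hm hk hh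
  rw [LinearMap.mem_ker] at hhx ⊢
  rw [hr, map_smul, hhx, smul_zero]

include hE in
theorem bd_eq_bot (hm : IsCoatom m) [m.toIdeal.IsPrime] : ∀ n, bd E m.toIdeal n = ⊥
  | 0 => rfl
  | n + 1 => eq_bot_iff.2 (by
    rintro _ ⟨x, hx, rfl⟩
    exact (Submodule.mem_bot R).2 (tors_le_ker E hE hm n hx))

include hE in
theorem tors_eq_bot (hm : IsCoatom m) [m.toIdeal.IsPrime] (n : ℕ)
    (h0 : GrLC.bassNum m.toIdeal M n = 0) : tors E m.toIdeal n = ⊥ := by
  obtain ⟨I, z, hz, hind, hgen⟩ := exists_family E m.toIdeal m.isHomogeneous n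
  have hI := bassNum_eq_card E m.toIdeal m.isHomogeneous n z hz hind hgen
  rw [h0] at hI
  haveI : IsEmpty I := (ENat.card_eq_zero_iff_empty _).1 hI.symm
  refine eq_bot_iff.2 fun x hx => (Submodule.mem_bot R).2 ?_
  obtain ⟨h, hh, hhx⟩ := hgen x ⟨tors_le_ker E hE hm n hx, hx⟩
  rw [Set.range_eq_empty, Submodule.span_empty, bd_eq_bot E hE hm, bot_sup_eq, Submodule.mem_bot] at hhx
  obtain ⟨r, hr⟩ := smul_eq_zero_iff_of_killed hm
    (fun a ha => (Submodule.mem_torsionBySet_iff _ _).1 hx ⟨a, ha⟩) hh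
  rw [hr, hhx, smul_zero]

/-- A nonzero torsion element has a nonzero multiple killed by the ideal. -/
theorem exists_killed_multiple {X : Type u} [AddCommGroup X] [Module R X] (a : Ideal R) {x : X}
    (hx : x ≠ 0) (hgx : x ∈ GrLC.gam a X) : ∃ b : R, b • x ≠ 0 ∧ ∀ c ∈ a, c • b • x = 0 := by
  classical
  have hex : ∃ k : ℕ, ∀ r ∈ a ^ k, r • x = 0 := hgx
  let k := Nat.find hex
  have hk := Nat.find_spec hex
  have hk0 : k ≠ 0 := fun h => hx (by
    have := hk 1 (by rw [show Nat.find hex = 0 from h, pow_zero, Ideal.one_eq_top]; trivial)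
    rwa [one_smul] at this)
  obtain ⟨j, hj⟩ := Nat.exists_eq_succ_of_ne_zero hk0
  have := Nat.find_min hex (show j < Nat.find hex by have : Nat.find hex = j + 1 := hj; omega)
  push Not at this
  obtain ⟨b, hb, hb0⟩ := this
  refine ⟨b, hb0, fun c hc => ?_⟩
  rw [smul_smul]
  refine hk _ ?_
  rw [show Nat.find hex = j + 1 from hj, pow_succ, mul_comm c]
  exact Ideal.mul_mem_mul hb hc

include hE in
theorem gam_eq_bot (hm : IsCoatom m) [m.toIdeal.IsPrime] (n : ℕ)
    (h0 : GrLC.bassNum m.toIdeal M n = 0) : GrLC.gam m.toIdeal (E.X n).carrier = ⊥ := by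
  refine eq_bot_iff.2 fun x hx => by_contra fun hx0 => ?_
  obtain ⟨b, hb, hbk⟩ := exists_killed_multiple m.toIdeal (fun h => hx0 ((Submodule.mem_bot R).2 h)) hx
  have hmem : b • x ∈ tors E m.toIdeal n := (Submodule.mem_torsionBySet_iff _ _).2 fun c => hbk c c.2
  rw [tors_eq_bot E hE hm n h0, Submodule.mem_bot] at hmem
  exact hb hmem

include hE in
/-- Socle of a term with Bass number one. -/
theorem exists_socle_generator (hm : IsCoatom m) [m.toIdeal.IsPrime] (n : ℕ)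
    (h1 : GrLC.bassNum m.toIdeal M n = 1) :
    ∃ (g : ι) (y : (E.X n).carrier), y ∈ (E.X n).gr g ∧ y ≠ 0 ∧ (∀ a ∈ m.toIdeal, a • y = 0) ∧
      tors E m.toIdeal n ≤ Submodule.span R {y} := by
  obtain ⟨I, z, hz, hind, hgen⟩ := exists_family E m.toIdeal m.isHomogeneous n
  have hI := bassNum_eq_card E m.toIdeal m.isHomogeneous n z hz hind hgen
  rw [h1] at hI
  obtain ⟨i₀⟩ : Nonempty I := by
    by_contra hne
    rw [not_nonempty_iff] at hne
    rw [(ENat.card_eq_zero_iff_empty _).2 hne] at hI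
    exact one_ne_zero hI
  haveI : Subsingleton I := (ENat.card_le_one_iff_subsingleton _).1 hI.ge
  have hspan : ∀ x ∈ tors E m.toIdeal n, ∃ r : R, x = r • z i₀ := fun x hx => by
    obtain ⟨h, hh, hhx⟩ := hgen x ⟨tors_le_ker E hE hm n hx, hx⟩
    rw [bd_eq_bot E hE hm, sup_bot_eq, show Set.range z = {z i₀} from Set.ext fun v =>
      ⟨fun ⟨i, e⟩ => e ▸ congrArg z (Subsingleton.elim i i₀), fun e => ⟨i₀, e.symm⟩⟩,
      Submodule.mem_span_singleton] at hhx
    obtain ⟨s, hs⟩ := hhx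
    obtain ⟨r, hr⟩ := smul_eq_zero_iff_of_killed hm
      (fun a ha => (Submodule.mem_torsionBySet_iff _ _).1 hx ⟨a, ha⟩) hh
    exact ⟨r * s, by rw [mul_smul, hs, ← hr]⟩
  have hann : ∀ r : R, r • z i₀ = 0 → r ∈ m.toIdeal := fun r hr => by
    have := hind (Finsupp.single i₀ r) (by rw [Finsupp.sum_single_index (h := fun i a => a • z i) (zero_smul R (z i₀)), hr]; exact zero_mem _) i₀
    rwa [Finsupp.single_eq_same] at this
  have hz0 : z i₀ ≠ 0 := fun h => ‹m.toIdeal.IsPrime›.ne_top ((Ideal.eq_top_iff_one _).2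
    (hann 1 (by rw [one_smul, h])))
  obtain ⟨g, hg⟩ := exists_proj_ne_zero (𝒩 := (E.X n).gr) hz0
  have hyk : ∀ a ∈ m.toIdeal, a • proj (E.X n).gr g (z i₀) = 0 :=
    proj_mem_tors m.isHomogeneous (fun a ha => (Submodule.mem_torsionBySet_iff _ _).1 (hz i₀).2 ⟨a, ha⟩) g
  refine ⟨g, _, proj_mem _ g _, hg, hyk, fun x hx => ?_⟩
  refine mem_of_components (𝒳 := (E.X n).gr) _ fun g' => ?_
  have hx'k : ∀ a ∈ m.toIdeal, a • proj (E.X n).gr g' x = 0 :=
    proj_mem_tors m.isHomogeneous (fun a ha => (Submodule.mem_torsionBySet_iff _ _).1 hx ⟨a, ha⟩) g'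
  set y := proj (E.X n).gr g (z i₀)
  set y' := proj (E.X n).gr g' x
  by_contra hy'
  obtain ⟨r, hr⟩ := hspan y ((Submodule.mem_torsionBySet_iff _ _).2 fun a => hyk a a.2)
  obtain ⟨r', hr'⟩ := hspan y' ((Submodule.mem_torsionBySet_iff _ _).2 fun a => hx'k a a.2)
  have hrel : r' • y = r • y' := by rw [hr, hr', smul_smul, smul_smul, mul_comm]
  -- a homogeneous multiple of `y'` in the span of `y` forces `y'` into it
  have hzero : r • y' = 0 := by
    refine GrLib.eq_zero_of_proj (E.X n).gr fun d => ?_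
    by_contra hd
    have hN : (Submodule.span R {y}).IsHomogeneous (E.X n).gr :=
      isHomogeneous_span 𝒜 fun v hv => ⟨g, (Set.mem_singleton_iff.1 hv) ▸ proj_mem _ g _⟩
    have h2 : r • y' ∈ Submodule.span R {y} := hrel ▸ Submodule.smul_mem _ _ (Submodule.subset_span rfl)
    obtain ⟨a, s, hs, hs0, hsN⟩ := exists_hom_multiple (𝒜 := 𝒜) hN (proj_mem (E.X n).gr g' x)
      (fun h => hd (by rw [show r • y' = 0 from h, map_zero])) h2
    obtain ⟨t, ht⟩ := smul_eq_zero_iff_of_killed hm hx'k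
      (show s ∈ homOutside 𝒜 m.toIdeal from ⟨⟨a, hs⟩, fun hsm => hs0 (hx'k s hsm)⟩)
    exact hy' (by rw [ht]; exact Submodule.smul_mem _ _ hsN)
  rw [hr', smul_smul] at hzero
  rcases Ideal.IsPrime.mem_or_mem ‹_› (hann _ hzero) with h | h
  · exact hg (by rw [hr]; exact (Submodule.mem_torsionBySet_iff _ _).1 (hz i₀).2 ⟨r, h⟩)
  · exact hy' (by rw [hr', (Submodule.mem_torsionBySet_iff _ _).1 (hz i₀).2 ⟨r', h⟩]; exact zero_mem _)

include hE in
theorem exists_gam_equiv (hm : IsCoatom m) [m.toIdeal.IsPrime] (n : ℕ)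
    (hbass : ∀ i, GrLC.bassNum m.toIdeal M i = if i = n then 1 else 0)
    {E' : Type u} [AddCommGroup E'] [Module R E'] {𝓔 : ι → AddSubgroup E'} [Decomposition 𝓔]
    [SetLike.GradedSMul 𝒜 𝓔] {e : (R ⧸ m.toIdeal) →ₗ[R] E'}
    (he : GrLC.IsStarInjHull 𝒜 (GrLC.quotGr 𝒜 m) 𝓔 e) :
    ∃ (g : ι) (φ : E.H m n ≃ₗ[R] E'), GrLC.IsGrHomDeg (E.Hgr m n) 𝓔 φ.toLinearMap g := by
  obtain ⟨g, y, hy, hy0, hyk, hspan⟩ := exists_socle_generator E hE hm n (by rw [hbass, if_pos rfl])
  letI := qDecomp 𝒜 (p := (m.toIdeal : Submodule R R)) m.isHomogeneous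
  let φ₀ : (R ⧸ m.toIdeal) →ₗ[R] (E.X n).carrier :=
    Submodule.liftQ m.toIdeal (LinearMap.toSpanSingleton R _ y) fun a ha => hyk a ha
  have hφ₀ : GrLC.IsGrHomDeg (qGr 𝒜 (m.toIdeal : Submodule R R)) (E.X n).gr φ₀ g := by
    rintro k _ ⟨r, hr, rfl⟩
    show r • y ∈ (E.X n).gr (k + g)
    exact GrLib.smul_mem (𝒜 := 𝒜) (ℳ := (E.X n).gr) hr hy
  have hann : (Submodule.span R {y}).annihilator ≤ m.toIdeal := fun r hr => by
    by_contra hrm
    obtain ⟨e', he'⟩ : ∃ e', proj 𝒜 e' r ∉ m.toIdeal := by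
      by_contra! hall
      exact hrm (mem_of_proj_mem (ℳ := 𝒜) m.toIdeal hall)
    have h0 := isHomogeneous_ann (𝒜 := 𝒜) hy e' hr
    rw [Submodule.mem_annihilator_span_singleton] at h0
    obtain ⟨t, ht⟩ := smul_eq_zero_iff_of_killed hm hyk
      (show proj 𝒜 e' r ∈ homOutside 𝒜 m.toIdeal from ⟨⟨e', proj_mem 𝒜 e' r⟩, he'⟩)
    exact hy0 (ht.trans (by rw [show proj 𝒜 e' r • y = 0 from h0, smul_zero]))
  obtain ⟨ψ, hψ, hψe⟩ := exists_extend_deg (ℳ := qGr 𝒜 (m.toIdeal : Submodule R R)) (E.starInj n)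
    (f := e) (fun k x hx => he.grHom k x hx) he.injective hφ₀
  have hψinj : Function.Injective ψ := by
    rw [← LinearMap.ker_eq_bot]
    by_contra hne
    obtain ⟨v, ⟨hv0, t, rfl⟩, hv⟩ := Submodule.exists_mem_ne_zero_of_ne_bot
      (he.essential _ (isHomogeneous_ker_deg hψ) hne)
    refine hv ?_
    obtain ⟨r, rfl⟩ := Submodule.Quotient.mk_surjective _ t
    have h1 : r • y = 0 := (LinearMap.congr_fun hψe (Submodule.Quotient.mk r)).symm.trans hv0
    rw [(Submodule.Quotient.mk_eq_zero _).2 (hann ((Submodule.mem_annihilator_span_singleton _ _).2 h1)),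
      map_zero]
  letI := shiftDecomp 𝓔 (-g)
  obtain ⟨ρ, hρ, hρψ⟩ := exists_extend_deg (ℳ := shiftGr 𝓔 (-g)) (𝒩 := (E.X n).gr) he.starInj (f := ψ)
    (fun k x hx => by
      have := hψ (k + -g) x hx
      rwa [neg_add_cancel_right] at this)
    hψinj (g := LinearMap.id) (d := -g) (fun k x hx => hx)
  have hρψ' : ∀ w, ρ (ψ w) = w := fun w => LinearMap.congr_fun hρψ w
  have hyψ : y = ψ (e (Submodule.Quotient.mk 1)) := by
    have := LinearMap.congr_fun hψe (Submodule.Quotient.mk (1 : R))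
    exact ((one_smul R y).symm.trans this.symm)
  have hψgam : ∀ w, ψ w ∈ GrLC.gam m.toIdeal (E.X n).carrier := fun w =>
    map_gam_le ψ (Submodule.mem_map_of_mem (show w ∈ GrLC.gam m.toIdeal E' by rw [hull_gam he]; trivial))
  have hinj : ∀ x ∈ GrLC.gam m.toIdeal (E.X n).carrier, ρ x = 0 → x = 0 := fun x hx hx0 => by
    by_contra hne
    obtain ⟨b, hb, hbk⟩ := exists_killed_multiple m.toIdeal hne hx
    obtain ⟨r, hr⟩ := Submodule.mem_span_singleton.1
      (hspan ((Submodule.mem_torsionBySet_iff _ _).2 fun c => hbk c c.2))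
    apply hb
    have h1 : ρ (b • x) = 0 := by rw [map_smul, hx0, smul_zero]
    rw [← hr, hyψ, ← map_smul, hρψ'] at h1
    rw [← hr, hyψ, ← map_smul, h1, map_zero]
  have hzero : ∀ i, i ≠ n → GrLC.gam m.toIdeal (E.X i).carrier = ⊥ := fun i hi =>
    gam_eq_bot E hE hm i (by rw [hbass, if_neg hi])
  have hker : GrLC.gam m.toIdeal (E.X n).carrier ≤ LinearMap.ker (E.d n) := fun x hx => by
    have h1 := map_gam_le (a := m.toIdeal) (E.d n) (Submodule.mem_map_of_mem hx)
    rw [hzero (n + 1) (Nat.succ_ne_self n)] at h1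
    exact h1
  have hcob : E.cobdy m n = ⊥ := by
    cases n with
    | zero => rfl
    | succ j =>
      show (GrLC.gam m.toIdeal (E.X j).carrier).map (E.d j) = ⊥
      rw [hzero j (Nat.succ_ne_self j).symm, Submodule.map_bot]
  let Φ : E.cocyc m n →ₗ[R] E' := ρ ∘ₗ (E.cocyc m n).subtype
  have hΦi : Function.Injective Φ := (injective_iff_map_eq_zero Φ).2 fun x hx =>
    Subtype.ext (hinj x.1 x.2.1 hx)
  have hΦs : Function.Surjective Φ := fun w => ⟨⟨ψ w, hψgam w, hker (hψgam w)⟩, hρψ' w⟩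
  refine ⟨-g, (Submodule.quotEquivOfEqBot _ ?_).trans (LinearEquiv.ofBijective Φ ⟨hΦi, hΦs⟩), ?_⟩
  · rw [hcob, eq_bot_iff]
    exact fun x hx => (Submodule.mem_bot R).2 (Subtype.ext ((Submodule.mem_bot R).1 hx))
  · rintro k _ ⟨z, hz, rfl⟩
    exact hρ k z.1 hz

end starLocal

section final

variable {ι : Type} [AddCommGroup ι] [DecidableEq ι] [Module.Free ℤ ι] [Module.Finite ℤ ι]
  {R : Type u} [CommRing R] [_root_.LocCoh.IsGorensteinRing R] {𝒜 : ι → AddSubgroup R} [GradedRing 𝒜]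

theorem exists_top_equiv (m : HomogeneousIdeal 𝒜) (hm : GrLC.IsStarLocal 𝒜 m) (n : ℕ)
    (hn : m.toIdeal.height = n) (I : GrLC.StarInjRes 𝒜 𝒜) {E' : Type u} [AddCommGroup E'] [Module R E']
    {𝓔 : ι → AddSubgroup E'} [Decomposition 𝓔] [SetLike.GradedSMul 𝒜 𝓔]
    {e : (R ⧸ m.toIdeal) →ₗ[R] E'} (he : GrLC.IsStarInjHull 𝒜 (GrLC.quotGr 𝒜 m) 𝓔 e) :
    ∃ (g : ι) (φ : I.H m n ≃ₗ[R] E'), GrLC.IsGrHomDeg (I.Hgr m n) 𝓔 φ.toLinearMap g := by
  haveI := isPrime_of_isStarLocal hm.1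
  haveI := _root_.LocCoh.IsGorensteinRing.isGorensteinLocalRing_localization (A := R) m.toIdeal
  have hdim : ringKrullDim (Localization.AtPrime m.toIdeal) = n := by
    rw [IsLocalization.AtPrime.ringKrullDim_eq_height m.toIdeal, hn]; rfl
  let S := Localization m.toIdeal.primeCompl
  have eS : LocalizedModule m.toIdeal.primeCompl R ≃ₗ[S] S :=
    LinearEquiv.extendScalarsOfIsLocalization m.toIdeal.primeCompl S
      (IsLocalizedModule.iso m.toIdeal.primeCompl (Algebra.linearMap R S))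
  have hbass : ∀ i, GrLC.bassNum m.toIdeal R i = if i = n then 1 else 0 := fun i => by
    rw [← length_ext_residue hdim i]
    exact (ExtShift.congrRight (N := ResidueField (Localization.AtPrime m.toIdeal)) eS i).length_eq
  obtain ⟨E, hE⟩ := GrMinimalRes.exists_minRes 𝒜 𝒜
  obtain ⟨g, φ, hφ⟩ := exists_gam_equiv E hE hm.1 n hbass he
  exact ⟨g, (compEquiv I m E n).trans φ, fun k x hx => hφ k _ (compEquiv_mem m E n hx)⟩

end final

end Groth.Agent.CAlgH3.GrGorenstein
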