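import Mathlib.RingTheory.AdicCompletion.Basic
import Mathlib.RingTheory.Ideal.Operations
import Mathlib.RingTheory.Finiteness.Basic
import Mathlib.Algebra.Module.BigOperators

namespace Groth.Agent.CAlgH3

variable {A : Type*} [CommRing A]

/-- An element of `(span G) • N` is a combination of the elements of `G` with coefficients in `N`. -/
lemma exists_sum_smul_of_mem_span_smul {L : Type*} [AddCommGroup L] [Module A L] {G : Finset A}
    {N : Submodule A L} {x : L} (hx : x ∈ Ideal.span (↑G : Set A) • N) :
    ∃ z : A → L, (∀ g, z g ∈ N) ∧ ∑ g ∈ G, g • z g = x := by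
  classical
  refine Submodule.smul_induction_on hx ?_ ?_
  · intro r hr y hy
    obtain ⟨c, hc⟩ := Submodule.mem_span_finset.1 hr
    refine ⟨fun g => c g • y, fun g => N.smul_mem _ hy, ?_⟩
    rw [← hc.2, Finset.sum_smul]
    exact Finset.sum_congr rfl fun g _ => by rw [smul_smul, smul_eq_mul, mul_comm]
  · intro y z hy hz
    obtain ⟨a, ha, rfl⟩ := hy
    obtain ⟨b, hb, rfl⟩ := hz
    exact ⟨a + b, fun g => N.add_mem (ha g) (hb g), by simp [smul_add, Finset.sum_add_distrib]⟩

end Groth.Agent.CAlgH3
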