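import Mathlib

/-!
The top exterior power of a stably free quotient `S^(m+r) / S^r` is free of rank one.
-/

set_option autoImplicit false

universe u v w

open Function

namespace Groth.Agent.CAlgH3.DetSplit

variable {S : Type u} [CommRing S] {B : Type v} [AddCommGroup B] [Module S B]

/-- Cramer's rule. -/
theorem det_smul_eq {ι : Type} [Fintype ι] [DecidableEq ι] (b : Module.Basis ι S B) (v : ι → B) (w : B) :
    b.det v • w = ∑ i, b.det (update v i w) • v i := by
  apply b.ext_elem
  intro k
  simp only [map_smul, map_sum, Finsupp.smul_apply, Finsupp.coe_finsetSum, Finset.sum_apply, smul_eq_mul]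
  have h := congrFun (Matrix.mulVec_cramer (b.toMatrix v) (b.repr w)) k
  rw [Pi.smul_apply, smul_eq_mul, ← b.det_apply] at h
  rw [← h, Matrix.mulVec]
  simp only [dotProduct]
  refine Finset.sum_congr rfl fun i _ => ?_
  rw [Matrix.cramer_apply, b.det_apply, mul_comm, b.toMatrix_apply]
  congr 2
  ext p q
  rw [Matrix.updateCol_apply, b.toMatrix_apply, b.toMatrix_apply]
  by_cases h : q = i
  · subst h; simp
  · simp [h]

/-- An alternating map is determined on the span of `m` vectors by its value on them. -/
theorem map_mem_span {m : ℕ} {M : Type w} [AddCommGroup M] [Module S M] {N : Type*} [AddCommGroup N]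
    [Module S N] (g : M [⋀^Fin m]→ₗ[S] N) (ω x : Fin m → M)
    (hx : ∀ i, x i ∈ Submodule.span S (Set.range ω)) :
    g x ∈ Submodule.span S {g ω} := by
  classical
  choose c hc using fun i => (Submodule.mem_span_range_iff_exists_fun S).1 (hx i)
  let L : (Fin m → S) →ₗ[S] M := Fintype.linearCombination S ω
  let e := Pi.basisFun S (Fin m)
  have hLe : ∀ i, L (e i) = ω i := fun i => by simp [L, e]
  have h : g.compLinearMap L = (LinearMap.toSpanSingleton S N (g ω)).compAlternatingMap e.det := by
    refine e.ext_alternating fun v hv => ?_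
    let σ : Equiv.Perm (Fin m) := Equiv.ofBijective v (Finite.injective_iff_bijective.1 hv)
    have e1 : (fun i => e (v i)) = e ∘ σ := rfl
    rw [e1, AlternatingMap.map_perm, AlternatingMap.map_perm]
    congr 1
    simp only [AlternatingMap.compLinearMap_apply, hLe, LinearMap.compAlternatingMap_apply,
      LinearMap.toSpanSingleton_apply, e.det_self, one_smul]
  have h1 : (fun i => L (c i)) = x := funext fun i => by simp [L, Fintype.linearCombination_apply, hc]
  have h2 := congrArg (fun G : (Fin m → S) [⋀^Fin m]→ₗ[S] N => G c) h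
  simp only [AlternatingMap.compLinearMap_apply, LinearMap.compAlternatingMap_apply,
    LinearMap.toSpanSingleton_apply] at h2
  rw [Submodule.mem_span_singleton]
  exact ⟨e.det c, by rw [← h1]; exact h2.symm⟩

variable {m r : ℕ} (b : Module.Basis (Fin (m + r)) S B) (f : Fin r → B)

theorem append_update (v : Fin m → B) (i : Fin m) (x : B) :
    Fin.append (update v i x) f = update (Fin.append v f) (Fin.castAdd r i) x := by
  funext k
  refine k.addCases (fun j => ?_) (fun j => ?_)
  · simp only [Fin.append_left]
    by_cases h : j = i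
    · subst h; simp
    · rw [update_of_ne h, update_of_ne (fun hh => h (Fin.castAdd_injective m r hh)), Fin.append_left]
  · rw [Fin.append_right, update_of_ne, Fin.append_right]
    intro hh
    have := congrArg Fin.val hh
    simp at this
    omega

/-- The determinant with the last vectors fixed. -/
noncomputable def detWith : B [⋀^Fin m]→ₗ[S] S where
  toFun v := b.det (Fin.append v f)
  map_update_add' := fun {inst} v i x y => by
    cases Subsingleton.elim inst (instDecidableEqFin m)
    simp only [append_update, AlternatingMap.map_update_add]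
  map_update_smul' := fun {inst} v i c x => by
    cases Subsingleton.elim inst (instDecidableEqFin m)
    simp only [append_update, AlternatingMap.map_update_smul]
  map_eq_zero_of_eq' v i j h hij :=
    b.det.map_eq_zero_of_eq _ (i := Fin.castAdd r i) (j := Fin.castAdd r j) (by simp [h])
      (fun hh => hij (Fin.castAdd_injective m r hh))

theorem detWith_apply (v : Fin m → B) : detWith b f v = b.det (Fin.append v f) := rfl

theorem detWith_eq_zero (v : Fin m → B) (i : Fin m) (h : v i ∈ Submodule.span S (Set.range f)) :
    detWith b f v = 0 := by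
  classical
  have key : ∀ y ∈ Submodule.span S (Set.range f), detWith b f (update v i y) = 0 := by
    intro y hy
    induction hy using Submodule.span_induction with
    | mem y hy =>
      obtain ⟨j, rfl⟩ := hy
      rw [detWith_apply, append_update]
      refine b.det.map_eq_zero_of_eq _ (i := Fin.castAdd r i) (j := Fin.natAdd m j) ?_ ?_
      · rw [update_self, update_of_ne, Fin.append_right]
        intro hh
        have := congrArg Fin.val hh
        simp at this
        omega
      · intro hh
        have := congrArg Fin.val hh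
        simp at this
        omega
    | zero => exact AlternatingMap.map_update_zero _ _ _
    | add a c _ _ ha hc => rw [AlternatingMap.map_update_add, ha, hc, add_zero]
    | smul t a _ ha => rw [AlternatingMap.map_update_smul, ha, smul_zero]
  simpa using key _ h

theorem detWith_add (x y : Fin m → B) (hy : ∀ i, y i ∈ Submodule.span S (Set.range f)) :
    detWith b f (x + y) = detWith b f x := by
  classical
  rw [← AlternatingMap.coe_multilinearMap, MultilinearMap.map_add_univ,
    Finset.sum_eq_single Finset.univ]
  · simp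
  · intro s _ hs
    obtain ⟨i, hi⟩ : ∃ i, i ∉ s := by
      by_contra h
      push Not at h
      exact hs (Finset.eq_univ_of_forall h)
    exact detWith_eq_zero b f _ i (by rw [Finset.piecewise_eq_of_notMem _ _ _ hi]; exact hy i)
  · simp

/-- The exchange lemma at a maximal ideal. -/
theorem exists_detWith_notMem (ρ : B →ₗ[S] (Fin r → S)) (hρ : ∀ j, ρ (f j) = Pi.single j 1)
    (M : Ideal S) [M.IsMaximal] : ∃ g : Fin m → Fin (m + r), detWith b f (b ∘ g) ∉ M := by
  classical
  have step : ∀ k : ℕ, (hk : k ≤ r) → ∃ (pos : Fin k → Fin (m + r)) (v : Fin (m + r) → B),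
      Injective pos ∧ (∀ j, v (pos j) = f (Fin.castLE hk j)) ∧ (∀ i, i ∉ Set.range pos → v i = b i) ∧
      b.det v ∉ M := by
    intro k
    induction k with
    | zero =>
      intro _
      refine ⟨Fin.elim0, b, fun a => a.elim0, fun a => a.elim0, fun _ _ => rfl, ?_⟩
      rw [b.det_self]
      exact (Ideal.ne_top_iff_one M).1 Ideal.IsPrime.ne_top'
    | succ k ih =>
      intro hk
      obtain ⟨pos, v, hinj, hpos, hfree, hdet⟩ := ih (Nat.le_of_succ_le hk)
      let j₀ : Fin r := ⟨k, hk⟩
      obtain ⟨i, hi, hnot⟩ : ∃ i, i ∉ Set.range pos ∧ b.det (update v i (f j₀)) ∉ M := by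
        by_contra hall
        push Not at hall
        apply hdet
        have h1 := congrArg (fun w => ρ w j₀) (det_smul_eq b v (f j₀))
        simp only [map_smul, map_sum, Finset.sum_apply, Pi.smul_apply, smul_eq_mul, hρ,
          Pi.single_eq_same, mul_one] at h1
        rw [h1]
        refine Ideal.sum_mem _ fun i _ => ?_
        by_cases hi : i ∈ Set.range pos
        · obtain ⟨j, rfl⟩ := hi
          rw [hpos j, hρ, Pi.single_eq_of_ne, mul_zero]
          · exact zero_mem _
          · intro hh
            have := congrArg Fin.val hh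
            simp [j₀] at this
            omega
        · exact Ideal.mul_mem_right _ _ (hall i hi)
      refine ⟨Fin.snoc pos i, update v i (f j₀), Fin.snoc_injective_iff.2 ⟨hinj, hi⟩, ?_, ?_, hnot⟩
      · intro j
        refine Fin.lastCases ?_ (fun j => ?_) j
        · rw [Fin.snoc_last, update_self]
          exact congrArg f (Fin.ext (by simp [j₀]))
        · rw [Fin.snoc_castSucc, update_of_ne (fun h => hi ⟨j, h⟩), hpos]
          exact congrArg f (Fin.ext (by simp))
      · intro q hq
        rw [update_of_ne ?_, hfree q ?_]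
        · exact fun ⟨j, hj⟩ => hq ⟨j.castSucc, by rw [Fin.snoc_castSucc, hj]⟩
        · exact fun h => hq ⟨Fin.last k, by rw [Fin.snoc_last, h]⟩
  obtain ⟨pos, v, hinj, hpos, hfree, hdet⟩ := step r le_rfl
  let p : Fin (m + r) → Prop := fun x => x ∈ Set.range (Fin.natAdd m : Fin r → Fin (m + r))
  let q : Fin (m + r) → Prop := fun x => x ∈ Set.range pos
  let e : {x // p x} ≃ {x // q x} :=
    (Equiv.ofInjective _ (Fin.natAdd_injective r m)).symm.trans (Equiv.ofInjective pos hinj)
  let σ : Equiv.Perm (Fin (m + r)) := e.extendSubtype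
  have hσr : ∀ j, σ (Fin.natAdd m j) = pos j := fun j => by
    rw [Equiv.extendSubtype_apply_of_mem e _ ⟨j, rfl⟩]
    show ((Equiv.ofInjective pos hinj) ((Equiv.ofInjective _ (Fin.natAdd_injective r m)).symm ⟨Fin.natAdd m j, _⟩)).1 = _
    rw [Equiv.ofInjective_symm_apply]
    rfl
  have hσl : ∀ i, σ (Fin.castAdd r i) ∉ Set.range pos := fun i => by
    refine Equiv.extendSubtype_not_mem e _ ?_
    rintro ⟨j, hj⟩
    have := congrArg Fin.val hj
    simp at this
    omega
  refine ⟨fun i => σ (Fin.castAdd r i), fun h => hdet ?_⟩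
  have hv : Fin.append (b ∘ fun i => σ (Fin.castAdd r i)) f = v ∘ σ := by
    funext x
    refine x.addCases (fun i => ?_) (fun j => ?_)
    · rw [Fin.append_left, Function.comp_apply, Function.comp_apply, hfree _ (hσl i)]
    · rw [Fin.append_right, Function.comp_apply, hσr, hpos]
      exact congrArg f (Fin.ext rfl)
  rw [detWith_apply, hv, AlternatingMap.map_perm] at h
  rcases Int.units_eq_one_or (Equiv.Perm.sign σ) with hs | hs <;> rw [hs] at h
  · simpa using h
  · simpa using h

include b in
/-- The top exterior power of a split quotient of `S^(m+r)` by `S^r` is free of rank one. -/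
theorem nonempty_exteriorPower_quotient_equiv {Ω : Type w} [AddCommGroup Ω] [Module S Ω]
    (π : B →ₗ[S] Ω) (hπ : Surjective π) (ρ : B →ₗ[S] (Fin r → S))
    (hρ : ∀ j, ρ (f j) = Pi.single j 1) (hker : LinearMap.ker π = Submodule.span S (Set.range f)) :
    Nonempty ((⋀[S]^m Ω) ≃ₗ[S] S) := by
  classical
  let T : B →ₗ[S] B := LinearMap.id - (Fintype.linearCombination S f).comp ρ
  have hT : LinearMap.ker π ≤ LinearMap.ker T := by
    rw [hker, Submodule.span_le]
    rintro _ ⟨j, rfl⟩
    simp [T, hρ]
  let s : Ω →ₗ[S] B := (LinearMap.ker π).liftQ T hT ∘ₗ (π.quotKerEquivOfSurjective hπ).symm.toLinearMap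
  have hs : ∀ x, s (π x) = x - Fintype.linearCombination S f (ρ x) := fun x => by
    have : (π.quotKerEquivOfSurjective hπ).symm (π x) = Submodule.Quotient.mk x := by
      rw [LinearEquiv.symm_apply_eq]; rfl
    simp [s, this, T]
  have hsf : ∀ x, x - s (π x) ∈ Submodule.span S (Set.range f) := fun x => by
    rw [hs, sub_sub_cancel, ← Fintype.range_linearCombination]
    exact ⟨ρ x, rfl⟩
  let ψ : (⋀[S]^m Ω) →ₗ[S] S := exteriorPower.alternatingMapLinearEquiv ((detWith b f).compLinearMap s)
  have hψ : ∀ ω : Fin m → Ω, ψ (exteriorPower.ιMulti S m ω) = detWith b f (s ∘ ω) := fun ω =>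
    exteriorPower.alternatingMapLinearEquiv_apply_ιMulti _ ω
  have hgood : ∀ M : Ideal S, M.IsMaximal → ∃ g : Fin m → Fin (m + r),
      ψ (exteriorPower.ιMulti S m (π ∘ b ∘ g)) ∉ M := by
    intro M _
    obtain ⟨g, hg⟩ := exists_detWith_notMem b f ρ hρ M
    refine ⟨g, ?_⟩
    rw [hψ]
    have : b ∘ g = s ∘ (π ∘ b ∘ g) + fun i => b (g i) - s (π (b (g i))) := by
      funext i; simp
    rw [this, detWith_add b f _ _ fun i => hsf _] at hg
    exact hg
  refine ⟨LinearEquiv.ofBijective ψ ⟨?_, ?_⟩⟩
  · rw [injective_iff_map_eq_zero]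
    intro z hz
    by_contra hz0
    have hann : (Submodule.span S {z}).annihilator ≠ ⊤ := fun h => hz0 (by
      simpa using Submodule.mem_annihilator.1 (h ▸ Submodule.mem_top : (1 : S) ∈ _) z (Submodule.mem_span_singleton_self z))
    obtain ⟨M, hM, hle⟩ := Ideal.exists_le_maximal _ hann
    obtain ⟨g, hg⟩ := hgood M hM
    let ω := π ∘ b ∘ g
    let d := ψ (exteriorPower.ιMulti S m ω)
    have hω : ∀ i, π (s (ω i)) = ω i := fun i => by
      obtain ⟨x, hx⟩ := hπ (ω i)
      rw [← hx, hs, map_sub, sub_eq_self, ← LinearMap.mem_ker, hker, ← Fintype.range_linearCombination]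
      exact ⟨ρ x, rfl⟩
    have hpif : ∀ j, π (f j) = 0 := fun j =>
      LinearMap.mem_ker.1 (hker ▸ Submodule.subset_span ⟨j, rfl⟩)
    have hspan : ∀ y : Ω, d • y ∈ Submodule.span S (Set.range ω) := by
      intro y
      obtain ⟨x, rfl⟩ := hπ y
      have h1 := congrArg π (det_smul_eq b (Fin.append (s ∘ ω) f) x)
      rw [map_smul, map_sum, Fin.sum_univ_add] at h1
      simp only [d, hψ, detWith_apply]
      rw [h1]
      refine Submodule.add_mem _ (Submodule.sum_mem _ fun i _ => ?_) (Submodule.sum_mem _ fun j _ => ?_)
      · rw [map_smul, Fin.append_left, Function.comp_apply, hω]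
        exact Submodule.smul_mem _ _ (Submodule.subset_span ⟨i, rfl⟩)
      · rw [map_smul, Fin.append_right, hpif, smul_zero]
        exact zero_mem _
    have hcyc : ∀ t : ⋀[S]^m Ω, d ^ m • t ∈ Submodule.span S {exteriorPower.ιMulti S m ω} := by
      intro t
      induction (exteriorPower.ιMulti_span S m Ω ▸ Submodule.mem_top :
          t ∈ Submodule.span S (Set.range (exteriorPower.ιMulti S m))) using Submodule.span_induction with
      | mem t ht =>
        obtain ⟨x, rfl⟩ := ht
        have h1 := map_mem_span (exteriorPower.ιMulti S m) ω (fun i => d • x i) fun i => hspan _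
        rw [← AlternatingMap.coe_multilinearMap, MultilinearMap.map_smul_univ] at h1
        simpa using h1
      | zero => simp
      | add x y _ _ hx hy => rw [smul_add]; exact Submodule.add_mem _ hx hy
      | smul c x _ hx => rw [smul_comm]; exact Submodule.smul_mem _ _ hx
    obtain ⟨c, hc⟩ := Submodule.mem_span_singleton.1 (hcyc z)
    have hcd : d * c = 0 := by
      have := congrArg ψ hc
      rw [map_smul, map_smul, hz, smul_zero, smul_eq_mul] at this
      rw [mul_comm]; exact this
    have hmem : d ^ (m + 1) ∈ (Submodule.span S {z}).annihilator := by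
      rw [Submodule.mem_annihilator_span_singleton, pow_succ', mul_smul, ← hc, smul_smul, hcd, zero_smul]
    exact hg (hM.isPrime.mem_of_pow_mem _ (hle hmem))
  · rw [← LinearMap.range_eq_top]
    by_contra h
    obtain ⟨M, hM, hle⟩ := Ideal.exists_le_maximal _ h
    obtain ⟨g, hg⟩ := hgood M hM
    exact hg (hle ⟨_, rfl⟩)

end Groth.Agent.CAlgH3.DetSplit
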