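import Mathlib
import Groth.Agent.CAlgH3.DetSplit

/-!
The adjunction formula for a smooth complete intersection in affine space.
-/

set_option autoImplicit false

universe u

open TensorProduct RingTheory.Sequence

namespace Groth.Agent.CAlgH3.Adjunction

theorem coeff_mem_of_sum_eq_zero {P : Type u} [CommRing P] : ∀ {r : ℕ} (F : Fin r → P),
    IsWeaklyRegular P (List.ofFn F) → ∀ a : Fin r → P, ∑ i, a i * F i = 0 →
    ∀ i, a i ∈ Ideal.span (Set.range F) := by
  intro r
  induction r with
  | zero => exact fun _ _ _ _ i => i.elim0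
  | succ r ih =>
    intro F hF a ha i
    rw [List.ofFn_succ', List.concat_eq_append, isWeaklyRegular_append_iff, isWeaklyRegular_singleton_iff] at hF
    obtain ⟨h1, h2⟩ := hF
    have hset : Ideal.ofList (List.ofFn fun i : Fin r => F i.castSucc) = Ideal.span (Set.range fun i : Fin r => F i.castSucc) := by
      simp [Ideal.ofList, List.mem_ofFn', Set.range]
    rw [Fin.sum_univ_castSucc] at ha
    have hmem : a (Fin.last r) ∈ Ideal.span (Set.range fun i : Fin r => F i.castSucc) := by
      rw [hset, smul_eq_mul, Ideal.mul_top] at h2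
      rw [← Ideal.Quotient.eq_zero_iff_mem]
      refine h2.right_eq_zero_of_smul ?_
      show Submodule.Quotient.mk (F (Fin.last r) • a (Fin.last r)) = (0 : P ⧸ _)
      rw [Submodule.Quotient.mk_eq_zero, smul_eq_mul, mul_comm,
        show a (Fin.last r) * F (Fin.last r) = -∑ i : Fin r, a i.castSucc * F i.castSucc from
          eq_neg_of_add_eq_zero_right ha]
      exact neg_mem (Submodule.sum_mem _ fun i _ => Ideal.mul_mem_left _ _ (Ideal.subset_span ⟨i, rfl⟩))
    obtain ⟨c, hc⟩ := Ideal.mem_span_range_iff_exists_fun.1 hmem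
    have hz : ∑ i : Fin r, (a i.castSucc + c i * F (Fin.last r)) * F i.castSucc = 0 := by
      rw [← ha, ← hc, Finset.sum_mul]
      simp only [add_mul, Finset.sum_add_distrib]
      congr 1
      exact Finset.sum_congr rfl fun i _ => by ring
    have hle : Ideal.span (Set.range fun i : Fin r => F i.castSucc) ≤ Ideal.span (Set.range F) :=
      Ideal.span_mono (by rintro _ ⟨j, rfl⟩; exact ⟨_, rfl⟩)
    refine Fin.lastCases (hle hmem) (fun j => ?_) i
    rw [show a j.castSucc = (a j.castSucc + c j * F (Fin.last r)) - c j * F (Fin.last r) by ring]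
    exact Ideal.sub_mem _ (hle (ih _ h1 _ hz j)) (Ideal.mul_mem_left _ _ (Ideal.subset_span ⟨_, rfl⟩))

theorem coeff_mem_of_sum_mem_sq {P : Type u} [CommRing P] {r : ℕ} (F : Fin r → P)
    (hF : IsWeaklyRegular P (List.ofFn F)) (I : Ideal P) (hI : I = Ideal.span (Set.range F))
    (a : Fin r → P) (ha : ∑ i, a i * F i ∈ I ^ 2) (i : Fin r) : a i ∈ I := by
  have h : ∀ x ∈ I * I, ∃ b : Fin r → P, (∀ i, b i ∈ I) ∧ ∑ i, b i * F i = x := by
    intro x hx
    induction hx using Submodule.mul_induction_on' with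
    | mem_mul_mem y hy z hz =>
      obtain ⟨c, rfl⟩ := Ideal.mem_span_range_iff_exists_fun.1 (hI ▸ hz)
      exact ⟨fun i => y * c i, fun i => Ideal.mul_mem_right _ _ hy, by rw [Finset.mul_sum]; simp [mul_assoc]⟩
    | add x _ y _ hx hy =>
      obtain ⟨b, hb, rfl⟩ := hx
      obtain ⟨b', hb', rfl⟩ := hy
      exact ⟨b + b', fun i => add_mem (hb i) (hb' i), by simp [add_mul, Finset.sum_add_distrib]⟩
  obtain ⟨b, hb, hsum⟩ := h _ (by rwa [← sq])
  have h0 : ∑ i, (a i - b i) * F i = 0 := by simp [sub_mul, hsum]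
  have h1 := coeff_mem_of_sum_eq_zero F hF _ h0 i
  rw [← hI] at h1
  simpa using add_mem h1 (hb i)

/-- The exterior power of a free module in its rank. -/
theorem nonempty_exteriorPower_basis_equiv {S : Type u} [CommRing S] {M : Type u} [AddCommGroup M]
    [Module S M] {m : ℕ} (b : Module.Basis (Fin m) S M) : Nonempty ((⋀[S]^m M) ≃ₗ[S] S) :=
  DetSplit.nonempty_exteriorPower_quotient_equiv (m := m) (r := 0) (b.reindex (finCongr (Nat.add_zero m).symm))
    Fin.elim0 (LinearMap.id : M →ₗ[S] M) Function.surjective_id 0 (fun j => j.elim0)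
    (by simp [Set.range_eq_empty])

/-- The adjunction formula. -/
theorem nonempty_equiv (A : Type u) [CommRing A]
    (n r : ℕ) (hrn : r ≤ n) (F : Fin r → MvPolynomial (Fin n) A)
    (hreg : IsWeaklyRegular (MvPolynomial (Fin n) A) (List.ofFn F))
    (I : Ideal (MvPolynomial (Fin n) A)) (hI : I = Ideal.span (Set.range F))
    [Algebra.Smooth A (MvPolynomial (Fin n) A ⧸ I)] :
    Nonempty ((Module.Dual (MvPolynomial (Fin n) A ⧸ I) (⋀[MvPolynomial (Fin n) A ⧸ I]^r I.Cotangent)) ⊗[MvPolynomial (Fin n) A ⧸ I]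
        ((MvPolynomial (Fin n) A ⧸ I) ⊗[MvPolynomial (Fin n) A] (⋀[MvPolynomial (Fin n) A]^n (Ω[MvPolynomial (Fin n) A⁄A])))
      ≃ₗ[MvPolynomial (Fin n) A ⧸ I] (⋀[MvPolynomial (Fin n) A ⧸ I]^(n - r) (Ω[(MvPolynomial (Fin n) A ⧸ I)⁄A]))) := by
  classical
  let P := MvPolynomial (Fin n) A
  let S := P ⧸ I
  have hsurj : Function.Surjective (algebraMap P S) := Ideal.Quotient.mk_surjective
  -- coordinates on the conormal module
  have coords : ∀ (J : Ideal P), J = I → ∀ (hmem : ∀ j, F j ∈ J), ∃ c : J.Cotangent →ₗ[P] (Fin r → S),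
      Function.Injective c ∧ ∀ j, c (J.toCotangent ⟨F j, hmem j⟩) = Pi.single j 1 := by
    rintro J rfl hmem
    let L : (Fin r → P) →ₗ[P] J.Cotangent :=
      Fintype.linearCombination P fun j => J.toCotangent ⟨F j, hmem j⟩
    let q : (Fin r → P) →ₗ[P] (Fin r → S) := LinearMap.pi fun j => (Algebra.linearMap P S).comp (LinearMap.proj j)
    have hL : Function.Surjective L := fun y => by
      obtain ⟨⟨y, hy⟩, rfl⟩ := J.toCotangent_surjective y
      obtain ⟨a, ha⟩ := Ideal.mem_span_range_iff_exists_fun.1 (hI ▸ hy)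
      refine ⟨a, ?_⟩
      rw [Fintype.linearCombination_apply]
      simp only [← map_smul, ← map_sum]
      congr 1
      exact Subtype.ext (by simp [smul_eq_mul, ha])
    have hker : LinearMap.ker L = LinearMap.ker q := by
      ext a
      rw [LinearMap.mem_ker, LinearMap.mem_ker, Fintype.linearCombination_apply]
      simp only [← map_smul, ← map_sum, Ideal.toCotangent_eq_zero]
      simp only [Submodule.coe_sum, SetLike.val_smul, smul_eq_mul]
      constructor
      · intro h
        funext j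
        exact Ideal.Quotient.eq_zero_iff_mem.2 (coeff_mem_of_sum_mem_sq F hreg J hI a h j)
      · intro h
        refine Ideal.sum_mem _ fun j _ => ?_
        rw [sq]
        exact Ideal.mul_mem_mul (Ideal.Quotient.eq_zero_iff_mem.1 (congrFun h j)) (hmem j)
    refine ⟨(LinearMap.ker L).liftQ q hker.le ∘ₗ (L.quotKerEquivOfSurjective hL).symm.toLinearMap, ?_, fun j => ?_⟩
    · have hi : Function.Injective ((LinearMap.ker L).liftQ q hker.le) := by
        rw [← LinearMap.ker_eq_bot]
        exact Submodule.ker_liftQ_eq_bot _ _ _ hker.ge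
      rw [LinearMap.coe_comp]
      exact hi.comp (L.quotKerEquivOfSurjective hL).symm.injective
    · have hj : L (Pi.single j 1) = J.toCotangent ⟨F j, hmem j⟩ := by simp [L]
      have : (L.quotKerEquivOfSurjective hL).symm (J.toCotangent ⟨F j, hmem j⟩) =
          Submodule.Quotient.mk (Pi.single j 1) := by
        rw [LinearEquiv.symm_apply_eq]; exact hj.symm
      rw [LinearMap.comp_apply, LinearEquiv.coe_coe, this, Submodule.liftQ_apply]
      funext k
      simp [q, Pi.single_apply]
  have hmemI : ∀ j, F j ∈ I := fun j => hI ▸ Ideal.subset_span ⟨j, rfl⟩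
  have hkerI : RingHom.ker (algebraMap P S) = I := Ideal.mk_ker
  have hmemK : ∀ j, F j ∈ RingHom.ker (algebraMap P S) := fun j => hkerI.symm ▸ hmemI j
  obtain ⟨c, hcinj, hc⟩ := coords I rfl hmemI
  obtain ⟨c', hc'inj, hc'⟩ := coords _ hkerI hmemK
  -- the conormal module is free
  let Φ : (Fin r → S) →ₗ[S] I.Cotangent := Fintype.linearCombination S fun j => I.toCotangent ⟨F j, hmemI j⟩
  let cS : I.Cotangent →ₗ[S] (Fin r → S) := c.extendScalarsOfSurjective hsurj
  have hcΦ : ∀ v, cS (Φ v) = v := by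
    intro v
    rw [Fintype.linearCombination_apply, map_sum]
    simp only [map_smul]
    rw [show (∑ x, v x • cS (I.toCotangent ⟨F x, hmemI x⟩)) = ∑ x, v x • (Pi.single x 1 : Fin r → S) from
      Finset.sum_congr rfl fun x _ => congrArg _ (hc x)]
    funext k
    simp [Pi.single_apply]
  let eC : (Fin r → S) ≃ₗ[S] I.Cotangent := LinearEquiv.ofBijective Φ
    ⟨fun a b h => by rw [← hcΦ a, ← hcΦ b, h], fun y => ⟨cS y, hcinj (hcΦ (cS y))⟩⟩
  obtain ⟨e1⟩ := nonempty_exteriorPower_basis_equiv ((Pi.basisFun S (Fin r)).map eC)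
  obtain ⟨e2⟩ := nonempty_exteriorPower_basis_equiv (KaehlerDifferential.mvPolynomialBasis A (Fin n))
  -- the differentials of the quotient
  obtain ⟨l, hl⟩ := (Algebra.FormallySmooth.iff_split_injection (R := A) (P := P) (A := S) hsurj).1 inferInstance
  let f : Fin r → S ⊗[P] Ω[P⁄A] := fun j =>
    KaehlerDifferential.kerCotangentToTensor A P S ((RingHom.ker (algebraMap P S)).toCotangent ⟨F j, hmemK j⟩)
  let ρ : S ⊗[P] Ω[P⁄A] →ₗ[S] (Fin r → S) := (c'.comp l).extendScalarsOfSurjective hsurj
  have hρ : ∀ j, ρ (f j) = Pi.single j 1 := fun j => by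
    show c' (l (f j)) = _
    rw [show l (f j) = _ from LinearMap.congr_fun hl _]
    exact hc' j
  let π : S ⊗[P] Ω[P⁄A] →ₗ[S] Ω[S⁄A] := KaehlerDifferential.mapBaseChange A P S
  have hπ : Function.Surjective π := KaehlerDifferential.mapBaseChange_surjective A P S hsurj
  have hex := KaehlerDifferential.exact_kerCotangentToTensor_mapBaseChange A P S hsurj
  have hker : LinearMap.ker π = Submodule.span S (Set.range f) := by
    refine le_antisymm (fun x hx => ?_) (Submodule.span_le.2 ?_)
    · obtain ⟨y, rfl⟩ := (hex x).1 hx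
      obtain ⟨⟨y, hy⟩, rfl⟩ := (RingHom.ker (algebraMap P S)).toCotangent_surjective y
      obtain ⟨a, ha⟩ := Ideal.mem_span_range_iff_exists_fun.1 (show y ∈ Ideal.span (Set.range F) from hI ▸ hkerI ▸ hy)
      have hy' : (⟨y, hy⟩ : RingHom.ker (algebraMap P S)) = ∑ j, a j • ⟨F j, hmemK j⟩ :=
        Subtype.ext (by simp [← ha])
      rw [hy', map_sum, map_sum]
      refine Submodule.sum_mem _ fun j _ => ?_
      rw [map_smul, map_smul, ← algebraMap_smul S (a j)]
      exact Submodule.smul_mem _ _ (Submodule.subset_span ⟨j, rfl⟩)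
    · rintro _ ⟨j, rfl⟩
      exact hex.apply_apply_eq_zero _
  obtain ⟨e3⟩ := DetSplit.nonempty_exteriorPower_quotient_equiv (m := n - r) (r := r)
    (((KaehlerDifferential.mvPolynomialBasis A (Fin n)).baseChange S).reindex (finCongr (Nat.sub_add_cancel hrn).symm))
    f π hπ ρ hρ hker
  exact ⟨(TensorProduct.congr (e1.dualMap.symm ≪≫ₗ LinearMap.ringLmapEquivSelf S S S)
    ((LinearEquiv.baseChange P S _ _ e2) ≪≫ₗ TensorProduct.AlgebraTensorModule.rid P S S)) ≪≫ₗ
    TensorProduct.lid S S ≪≫ₗ e3.symm⟩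

end Groth.Agent.CAlgH3.Adjunction
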