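import Groth.Agent.DimLib.Formula
import Groth.Prelude.Def_Found
import Mathlib

/-! The dimension formula for finitely generated extensions with catenary local rings. -/

set_option autoImplicit false
universe u

open Polynomial

namespace Groth.Agent.CAlgH3.Altitude

/-- Saturated series. -/
abbrev Sat {α : Type*} [Preorder α] (s : LTSeries α) : Prop :=
  ∀ i : Fin s.length, s (Fin.castSucc i) ⋖ s (Fin.succ i)

/-- Saturated chains below `x` with equal ends have equal lengths. -/
def CatBelow {α : Type*} [Preorder α] (x : α) : Prop :=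
  ∀ s t : LTSeries α, s.head = t.head → s.last = t.last → s.last ≤ x → Sat s → Sat t → s.length = t.length

theorem sat_of_maximal {α : Type*} [PartialOrder α] (s : LTSeries α) (h : (s.length : ℕ∞) = Order.height s.last) :
    Sat s := by
  intro i
  refine ⟨s.step i, fun c hc1 hc2 => ?_⟩
  have h2 := Order.length_le_height_last (p := s.insertNth i c hc1 hc2)
  have hlast : (s.insertNth i c hc1 hc2).last = s.last := by
    show Fin.insertNth (α := fun _ => α) (Fin.castSucc i.succ) c s (Fin.last (s.length + 1)) = s (Fin.last s.length)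
    rw [Fin.insertNth_apply_above (h := by simp [Fin.lt_def])]
    simp only [eq_rec_constant]
    congr 1
  rw [hlast, ← h] at h2
  simp [RelSeries.insertNth] at h2
  exact absurd h2 (by norm_cast; omega)

/-- Catenarity of the local ring at `m` gives `CatBelow`. -/
theorem catBelow_of_localization {A : Type u} [CommRing A] (m : PrimeSpectrum A)
    (h : CAlg.IsCatenary (Localization.AtPrime m.asIdeal)) : CatBelow m := by
  intro s t hh hl hle hs ht
  let e := IsLocalization.AtPrime.primeSpectrumOrderIso (Localization.AtPrime m.asIdeal) m.asIdeal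
  have hbound : ∀ (u : LTSeries (PrimeSpectrum A)), u.last ≤ m → ∀ i, u i ≤ m :=
    fun u hu i => (LTSeries.monotone u (Fin.le_last i)).trans hu
  have hle' : t.last ≤ m := hl ▸ hle
  let lift : (u : LTSeries (PrimeSpectrum A)) → u.last ≤ m → LTSeries (PrimeSpectrum (Localization.AtPrime m.asIdeal)) :=
    fun u hu => LTSeries.mk u.length (fun i => e.symm ⟨u i, hbound u hu i⟩)
      (fun a b hab => e.symm.strictMono (show (⟨u a, hbound u hu a⟩ : Set.Iic m) < ⟨u b, hbound u hu b⟩ from
        LTSeries.strictMono u hab))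
  have hsat : ∀ (u : LTSeries (PrimeSpectrum A)) (hu : u.last ≤ m), Sat u → Sat (lift u hu) := by
    intro u hu hus i
    refine ⟨(lift u hu).step i, fun c hc1 hc2 => (hus i).2 (c := (e c).1) ?_ ?_⟩
    · have := e.strictMono hc1
      rw [show (lift u hu) i.castSucc = e.symm ⟨u i.castSucc, hbound u hu _⟩ from rfl, e.apply_symm_apply] at this
      exact this
    · have := e.strictMono hc2
      rw [show (lift u hu) i.succ = e.symm ⟨u i.succ, hbound u hu _⟩ from rfl, e.apply_symm_apply] at this
      exact this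
  refine h.2 (lift s hle) (lift t hle') ?_ ?_ (hsat s hle hs) (hsat t hle' ht)
  · exact congrArg e.symm (Subtype.ext hh)
  · exact congrArg e.symm (Subtype.ext hl)

/-- Height drops by exactly one modulo a height one prime. -/
theorem height_comap_eq {A S : Type u} [CommRing A] [IsDomain A] [IsNoetherianRing A] [CommRing S] [IsDomain S]
    (φ : A →+* S) (hφ : Function.Surjective φ) (hker : (RingHom.ker φ).height = 1)
    (q : Ideal S) [q.IsPrime] (hcat : CatBelow (⟨q.comap φ, inferInstance⟩ : PrimeSpectrum A)) :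
    (q.comap φ).height = q.height + 1 := by
  haveI : IsNoetherianRing S := isNoetherianRing_of_surjective A S φ hφ
  let qA : PrimeSpectrum A := ⟨q.comap φ, inferInstance⟩
  let qS : PrimeSpectrum S := ⟨q, inferInstance⟩
  obtain ⟨n, hn⟩ := ENat.ne_top_iff_exists.1 (Ideal.height_ne_top (Ideal.IsPrime.ne_top ‹q.IsPrime›))
  obtain ⟨N, hN⟩ := ENat.ne_top_iff_exists.1 (Ideal.height_ne_top (Ideal.IsPrime.ne_top (inferInstance : (q.comap φ).IsPrime)))
  have hnS : Order.height qS = n := (PrimeSpectrum.height_eq_orderHeight qS).symm.trans hn.symm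
  have hNA : Order.height qA = N := (PrimeSpectrum.height_eq_orderHeight qA).symm.trans hN.symm
  obtain ⟨s, hsl, hslen⟩ := Order.exists_series_of_height_eq_coe qS hnS
  obtain ⟨t, htl, htlen⟩ := Order.exists_series_of_height_eq_coe qA hNA
  have hs : Sat s := sat_of_maximal s (by rw [hsl, hnS, hslen])
  have ht : Sat t := sat_of_maximal t (by rw [htl, hNA, htlen])
  have hhead : ∀ {T : Type u} [CommRing T] [IsDomain T] (u : LTSeries (PrimeSpectrum T)) (x : PrimeSpectrum T),
      u.last = x → Order.height x = u.length → u.head = ⊥ := by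
    intro T _ _ u x hul hux
    by_contra hne
    have h2 := Order.length_le_height_last (p := u.cons ⊥ (bot_lt_iff_ne_bot.2 hne))
    rw [RelSeries.last_cons, hul, hux] at h2
    simp [RelSeries.cons_length] at h2
    exact absurd h2 (by norm_cast; omega)
  let F : PrimeSpectrum S → PrimeSpectrum A := PrimeSpectrum.comap φ
  have hF : StrictMono F :=
    Monotone.strictMono_of_injective (fun a b h => Ideal.comap_mono h) (PrimeSpectrum.comap_injective_of_surjective _ hφ)
  have hFrange : ∀ c : PrimeSpectrum A, RingHom.ker φ ≤ c.asIdeal → ∃ c', F c' = c := by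
    intro c hc
    haveI := c.isPrime
    haveI : (c.asIdeal.map φ).IsPrime := Ideal.map_isPrime_of_surjective hφ hc
    refine ⟨⟨c.asIdeal.map φ, inferInstance⟩, PrimeSpectrum.ext ?_⟩
    show (c.asIdeal.map φ).comap φ = c.asIdeal
    rw [Ideal.comap_map_of_surjective _ hφ, ← RingHom.ker_eq_comap_bot]
    exact sup_of_le_left hc
  have hF0 : (F ⊥).asIdeal = RingHom.ker φ := (RingHom.ker_eq_comap_bot φ).symm
  have hs0 : s 0 = ⊥ := hhead s qS hsl (hnS.trans (by rw [hslen]))
  have hbotlt : (⊥ : PrimeSpectrum A) < F ⊥ := by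
    refine lt_of_le_of_ne bot_le fun h => ?_
    have : RingHom.ker φ = (⊥ : PrimeSpectrum A).asIdeal := by rw [← hF0, ← h]
    rw [this] at hker
    simp [PrimeSpectrum.asIdeal_bot] at hker
  have hmono : StrictMono (Fin.cons (α := fun _ => PrimeSpectrum A) ⊥ (F ∘ s) : Fin (s.length + 2) → PrimeSpectrum A) := by
    rw [Fin.strictMono_iff_lt_succ]
    intro i
    induction i using Fin.cases with
    | zero =>
      rw [Fin.castSucc_zero, Fin.cons_zero, Fin.cons_succ, Function.comp_apply, hs0]
      exact hbotlt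
    | succ j =>
      rw [← Fin.succ_castSucc, Fin.cons_succ, Fin.cons_succ]
      exact hF (s.step j)
  let w : LTSeries (PrimeSpectrum A) :=
    LTSeries.mk (s.length + 1) (Fin.cons (α := fun _ => PrimeSpectrum A) ⊥ (F ∘ s)) hmono
  have hw : Sat w := by
    show ∀ i : Fin (s.length + 1), w (Fin.castSucc i) ⋖ w (Fin.succ i)
    intro i
    refine ⟨w.step i, fun c hc1 hc2 => ?_⟩
    induction i using Fin.cases with
    | zero =>
      change Fin.cons (α := fun _ => PrimeSpectrum A) ⊥ (F ∘ s) (Fin.castSucc 0) < c at hc1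
      change c < Fin.cons (α := fun _ => PrimeSpectrum A) ⊥ (F ∘ s) (Fin.succ 0) at hc2
      rw [Fin.castSucc_zero, Fin.cons_zero] at hc1
      rw [Fin.cons_succ, Function.comp_apply, hs0] at hc2
      haveI := c.isPrime
      haveI : (F (⊥ : PrimeSpectrum S)).asIdeal.IsPrime := (F ⊥).isPrime
      have h2 : c.asIdeal.height + 1 ≤ (F ⊥).asIdeal.height := Ideal.height_add_one_le_of_lt_of_isPrime hc2
      have h3 : (⊥ : Ideal A).height + 1 ≤ c.asIdeal.height :=
        Ideal.height_add_one_le_of_lt_of_isPrime (by exact hc1)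
      rw [hF0, hker] at h2
      have h4 : (1 : ℕ∞) + 1 ≤ 1 := (add_le_add_left (le_trans le_add_self h3) 1).trans h2
      exact absurd h4 (by norm_num)
    | succ j =>
      change Fin.cons (α := fun _ => PrimeSpectrum A) ⊥ (F ∘ s) (Fin.castSucc j.succ) < c at hc1
      change c < Fin.cons (α := fun _ => PrimeSpectrum A) ⊥ (F ∘ s) (Fin.succ j.succ) at hc2
      rw [← Fin.succ_castSucc, Fin.cons_succ, Function.comp_apply] at hc1
      rw [Fin.cons_succ, Function.comp_apply] at hc2
      obtain ⟨c', rfl⟩ := hFrange c (le_trans (Ideal.comap_mono bot_le) (le_of_lt hc1 : F (s j.castSucc) ≤ c))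
      have hmono' : ∀ a b : PrimeSpectrum S, F a < F b → a < b := fun a b hab => by
        refine lt_of_le_of_ne ((Ideal.comap_le_comap_iff_of_surjective φ hφ _ _).1 hab.le) fun h => ?_
        rw [h] at hab
        exact lt_irrefl _ hab
      exact (hs j).2 (hmono' _ _ hc1) (hmono' _ _ hc2)
  have hwl : w.last = qA := by
    show Fin.cons (α := fun _ => PrimeSpectrum A) ⊥ (F ∘ s) (Fin.last (s.length + 1)) = qA
    rw [← Fin.succ_last, Fin.cons_succ, Function.comp_apply]
    show F s.last = qA
    rw [hsl]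
    rfl
  have hlen : w.length = t.length :=
    hcat w t ((show w.head = ⊥ from rfl).trans
      (hhead t qA htl (hNA.trans (by rw [htlen]))).symm) (hwl.trans htl.symm) hwl.le hw ht
  rw [← hN, ← hn, ← htlen, ← hlen, ← hslen]
  show ((s.length + 1 : ℕ) : ℕ∞) = _
  push_cast
  rfl

/-- The catenarity hypothesis. -/
def CatHyp (R : Type u) [CommRing R] [IsLocalRing R] (S : Type u) [CommRing S] [Algebra R S] : Prop :=
  ∀ (A' : Type u) [CommRing A'] [Algebra R A'] [Algebra.FiniteType R A'],
    (∃ ι : A' →ₐ[R] S[X], Function.Injective ι) →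
      ∀ m' : PrimeSpectrum A', m'.asIdeal.IsMaximal → m'.asIdeal.LiesOver (IsLocalRing.maximalIdeal R) →
        CatBelow m'

theorem formula_eq_single {R T : Type u} [CommRing R] [IsDomain R] [IsNoetherianRing R] [CommRing T] [IsDomain T]
    [Algebra R T] [FaithfulSMul R T] (x : T) (hx : Algebra.adjoin R {x} = ⊤)
    (p : Ideal R) [p.IsPrime] (q : Ideal T) [q.IsPrime] [q.LiesOver p]
    (hcat : ∀ qt : PrimeSpectrum R[X], qt.asIdeal = q.comap (aeval x : R[X] →ₐ[R] T) → CatBelow qt) :
    (q.height : Cardinal.{u}) + Algebra.trdeg (R ⧸ p) (T ⧸ q) =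
      (p.height : Cardinal.{u}) + Algebra.trdeg R T := by
  classical
  let φ : R[X] →ₐ[R] T := aeval x
  have hφ : Function.Surjective φ := by
    rw [← AlgHom.range_eq_top, ← Algebra.adjoin_singleton_eq_range_aeval, hx]
  let qt : Ideal R[X] := q.comap φ
  have : qt.IsPrime := Ideal.comap_isPrime φ q
  have : qt.LiesOver p := ⟨by
    rw [q.over_def p]
    ext a
    simp [qt, Ideal.under, φ]⟩
  let ψ : (R[X] ⧸ qt) →ₐ[R ⧸ p] (T ⧸ q) :=
    { Ideal.quotientMap q φ.toRingHom le_rfl with
      commutes' := fun r => by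
        obtain ⟨r, rfl⟩ := Ideal.Quotient.mk_surjective r
        show Ideal.Quotient.mk q (φ (algebraMap R R[X] r)) = Ideal.Quotient.mk q (algebraMap R T r)
        rw [AlgHom.commutes] }
  let e : (R[X] ⧸ qt) ≃ₐ[R ⧸ p] (T ⧸ q) := AlgEquiv.ofBijective ψ ⟨Ideal.quotientMap_injective,
    Ideal.quotientMap_surjective (H := le_rfl) hφ⟩
  have ht : Algebra.trdeg (R ⧸ p) (T ⧸ q) = if qt = p.map (C : R →+* R[X]) then 1 else 0 := by
    rw [← e.trdeg_eq]
    split_ifs with h
    · have he : ∀ (J : Ideal R[X]) [J.LiesOver p], J = p.map (C : R →+* R[X]) →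
          Algebra.trdeg (R ⧸ p) (R[X] ⧸ J) = 1 := by
        rintro J _ rfl
        exact CommAlg6.trdeg_eq_one_of_eq p
      exact he qt h
    · exact CommAlg6.trdeg_eq_zero_of_ne p qt h
  have hh : qt.height = if qt = p.map (C : R →+* R[X]) then p.height else p.height + 1 := by
    split_ifs with h
    · rw [h, CommAlg6.height_map_C']
    · exact CommAlg6.height_eq_add_one p qt h
  rw [ht]
  by_cases hinj : Function.Injective φ
  · let eφ := AlgEquiv.ofBijective φ ⟨hinj, hφ⟩
    have hq : q.height = qt.height := (eφ.toRingEquiv.height_comap q).symm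
    have hT : Algebra.trdeg R T = 1 := by rw [← eφ.trdeg_eq, Polynomial.trdeg_of_isDomain]
    rw [hq, hh, hT]
    split_ifs <;> simp [Cardinal.ofENat_add]
  · have hQ : RingHom.ker φ ≠ ⊥ := fun h => hinj ((RingHom.injective_iff_ker_eq_bot φ).2 h)
    obtain ⟨g, hg, hg0⟩ := Submodule.exists_mem_ne_zero_of_ne_bot hQ
    have halg : Algebra.IsAlgebraic R T := ⟨fun t => by
      have hxa : IsAlgebraic R x := ⟨g, hg0, hg⟩
      have : t ∈ Algebra.adjoin R {x} := hx ▸ trivial
      induction this using Algebra.adjoin_induction with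
      | mem y hy => rw [Set.mem_singleton_iff] at hy; exact hy ▸ hxa
      | algebraMap r => exact isAlgebraic_algebraMap r
      | add _ _ _ _ h1 h2 => exact h1.add h2
      | mul _ _ _ _ h1 h2 => exact h1.mul h2⟩
    haveI : (RingHom.ker φ.toRingHom).IsPrime := RingHom.ker_isPrime _
    have hker : (RingHom.ker φ.toRingHom).height = 1 := by
      refine CommAlg6.height_eq_one_of_comap_eq_bot (RingHom.ker φ.toRingHom) hQ ?_
      refine le_antisymm (fun a ha => ?_) bot_le
      have : algebraMap R T a = 0 := by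
        have h : φ (C a) = 0 := ha
        rwa [show φ (C a) = algebraMap R T a from aeval_C _ _] at h
      exact (map_eq_zero_iff _ (FaithfulSMul.algebraMap_injective R T)).1 this
    have hlt : qt.height = q.height + 1 :=
      height_comap_eq φ.toRingHom hφ hker q (hcat ⟨qt, inferInstance⟩ rfl)
    rw [trdeg_eq_zero, add_zero]
    rw [hh] at hlt
    split_ifs at hlt ⊢ with h
    · rw [← Cardinal.ofENat_one, ← Cardinal.ofENat_add, hlt]
    · rw [add_zero, (ENat.add_left_injective_of_ne_top ENat.one_ne_top) hlt]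

theorem formula_eq_aux {R : Type u} [CommRing R] [IsDomain R] [IsNoetherianRing R] [IsLocalRing R] :
    ∀ (n : ℕ) (S : Type u) [CommRing S] [IsDomain S] [Algebra R S] [FaithfulSMul R S] (g : Fin n → S),
      Algebra.adjoin R (Set.range g) = ⊤ → CatHyp R S →
      ∀ (q : Ideal S) [q.IsPrime] [q.LiesOver (IsLocalRing.maximalIdeal R)],
      (q.height : Cardinal.{u}) + Algebra.trdeg (R ⧸ IsLocalRing.maximalIdeal R) (S ⧸ q) =
        ((IsLocalRing.maximalIdeal R).height : Cardinal.{u}) + Algebra.trdeg R S
  | 0, S, _, _, _, _, g, hg, _, q, _, _ => by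
    set p := IsLocalRing.maximalIdeal R
    have hsurj : Function.Surjective (algebraMap R S) := by
      intro s
      have : s ∈ Algebra.adjoin R (Set.range g) := hg ▸ trivial
      rwa [Set.range_eq_empty g, Algebra.adjoin_empty, Algebra.mem_bot] at this
    let e : R ≃+* S := RingEquiv.ofBijective (algebraMap R S) ⟨FaithfulSMul.algebraMap_injective R S, hsurj⟩
    have hq : q.height = p.height := by
      rw [q.over_def p]; exact (e.height_comap q).symm
    have h1 : Algebra.IsAlgebraic R S := ⟨fun s => by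
      obtain ⟨r, rfl⟩ := hsurj s; exact isAlgebraic_algebraMap r⟩
    have h2 : Algebra.IsAlgebraic (R ⧸ p) (S ⧸ q) := ⟨fun s => by
      obtain ⟨s, rfl⟩ := Ideal.Quotient.mk_surjective s
      obtain ⟨r, rfl⟩ := hsurj s
      exact isAlgebraic_algebraMap (Ideal.Quotient.mk p r)⟩
    rw [trdeg_eq_zero, trdeg_eq_zero, hq]
  | n + 1, S, _, _, _, _, g, hg, hcat, q, _, _ => by
    classical
    set p := IsLocalRing.maximalIdeal R with hp
    let T := Algebra.adjoin R (Set.range (g ∘ Fin.castSucc))
    let g' : Fin n → T := fun i => ⟨g i.castSucc, Algebra.subset_adjoin ⟨i, rfl⟩⟩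
    have hg' : Algebra.adjoin R (Set.range g') = ⊤ := by
      refine top_unique fun t _ => ?_
      obtain ⟨t, ht⟩ := t
      induction ht using Algebra.adjoin_induction with
      | mem y hy => obtain ⟨i, rfl⟩ := hy; exact Algebra.subset_adjoin ⟨i, rfl⟩
      | algebraMap r => exact Subalgebra.algebraMap_mem _ r
      | add a b ha hb h1 h2 => exact add_mem (h1 trivial) (h2 trivial)
      | mul a b ha hb h1 h2 => exact mul_mem (h1 trivial) (h2 trivial)
    have : Algebra.FiniteType R T := ⟨⟨Finset.univ.image g', by rw [Finset.coe_image, Finset.coe_univ, Set.image_univ, hg']⟩⟩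
    have : IsNoetherianRing T := Algebra.FiniteType.isNoetherianRing R T
    have : FaithfulSMul R T := (faithfulSMul_iff_algebraMap_injective R T).2 fun a b h =>
      FaithfulSMul.algebraMap_injective R S (congrArg Subtype.val h)
    have : FaithfulSMul T S := (faithfulSMul_iff_algebraMap_injective T S).2 Subtype.val_injective
    let qT := q.under T
    have : qT.LiesOver p := ⟨by rw [q.over_def p]; rfl⟩
    have hTS : Algebra.adjoin T {g (Fin.last n)} = ⊤ := by
      refine top_unique fun s _ => ?_
      have : s ∈ Algebra.adjoin R (Set.range g) := hg ▸ trivial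
      induction this using Algebra.adjoin_induction with
      | mem y hy =>
        obtain ⟨i, rfl⟩ := hy
        induction i using Fin.lastCases with
        | last => exact Algebra.subset_adjoin rfl
        | cast i => exact Subalgebra.algebraMap_mem _ (g' i)
      | algebraMap r => exact Subalgebra.algebraMap_mem _ (algebraMap R T r)
      | add a b ha hb h1 h2 => exact add_mem (h1 trivial) (h2 trivial)
      | mul a b ha hb h1 h2 => exact mul_mem (h1 trivial) (h2 trivial)
    have hcatT : CatHyp R T := by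
      intro A' _ _ _ hι
      obtain ⟨ι, hι⟩ := hι
      exact hcat A' ⟨(Polynomial.mapAlgHom T.val).comp ι,
        (Polynomial.map_injective _ Subtype.val_injective).comp hι⟩
    have e1 := formula_eq_aux n T g' hg' hcatT qT
    have e2 := formula_eq_single (R := T) (g (Fin.last n)) hTS qT q (by
      intro qt hqt
      haveI := qt.isPrime
      obtain ⟨m', hm', hle⟩ := Ideal.exists_le_maximal qt.asIdeal qt.isPrime.ne_top
      haveI : Algebra.FiniteType R (↥T)[X] := Algebra.FiniteType.trans (R := R) (S := T) (A := (↥T)[X]) inferInstance inferInstance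
      have hover : m'.LiesOver p := by
        refine ⟨((IsLocalRing.maximalIdeal.isMaximal R).eq_of_le
          (Ideal.comap_ne_top _ hm'.ne_top) fun r hr => hle ?_)⟩
        rw [hqt]
        show (aeval (g (Fin.last n)) : (↥T)[X] →ₐ[T] S) (algebraMap R (↥T)[X] r) ∈ q
        rw [IsScalarTower.algebraMap_apply R T (↥T)[X], AlgHom.commutes, ← IsScalarTower.algebraMap_apply R T S]
        have : r ∈ q.under R := (q.over_def p) ▸ hr
        exact this
      have hc := hcat (↥T)[X] ⟨Polynomial.mapAlgHom T.val, Polynomial.map_injective _ Subtype.val_injective⟩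
        ⟨m', hm'.isPrime⟩ hm' hover
      intro s t hh hl hsle hs ht
      exact hc s t hh hl (hsle.trans hle) hs ht)
    have : IsScalarTower (R ⧸ p) (T ⧸ qT) (S ⧸ q) := .of_algebraMap_eq fun r => by
      obtain ⟨r, rfl⟩ := Ideal.Quotient.mk_surjective r
      rfl
    have hf1 : FaithfulSMul (R ⧸ p) (T ⧸ qT) := inferInstance
    have hf2 : FaithfulSMul (T ⧸ qT) (S ⧸ q) := inferInstance
    have a1 := trdeg_add_eq R T (A := S)
    have a2 := trdeg_add_eq (R ⧸ p) (T ⧸ qT) (A := S ⧸ q)
    rw [← a1, ← a2]
    calc (q.height : Cardinal.{u}) + (Algebra.trdeg (R ⧸ p) (T ⧸ qT) + Algebra.trdeg (T ⧸ qT) (S ⧸ q))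
        = ((q.height : Cardinal.{u}) + Algebra.trdeg (T ⧸ qT) (S ⧸ q)) + Algebra.trdeg (R ⧸ p) (T ⧸ qT) := by
          rw [add_assoc, add_comm (Algebra.trdeg (R ⧸ p) (T ⧸ qT))]
      _ = ((qT.height : Cardinal.{u}) + Algebra.trdeg T S) + Algebra.trdeg (R ⧸ p) (T ⧸ qT) := by rw [e2]
      _ = ((qT.height : Cardinal.{u}) + Algebra.trdeg (R ⧸ p) (T ⧸ qT)) + Algebra.trdeg T S := by
          rw [add_assoc, add_comm (Algebra.trdeg T S), ← add_assoc]
      _ = ((p.height : Cardinal.{u}) + Algebra.trdeg R T) + Algebra.trdeg T S := by rw [e1]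
      _ = _ := add_assoc _ _ _

theorem main (R : Type u) [CommRing R] [IsDomain R]
    [IsNoetherianRing R] [IsLocalRing R] (S : Type u) [CommRing S] [IsDomain S] [Algebra R S]
    [FaithfulSMul R S] [Algebra.FiniteType R S] (q : Ideal S) [q.IsPrime]
    [q.LiesOver (IsLocalRing.maximalIdeal R)]
    (hcat : ∀ A' : Subalgebra R (Polynomial S), A'.FG →
      ∀ (m' : Ideal A') [m'.IsMaximal], m'.LiesOver (IsLocalRing.maximalIdeal R) →
        CAlg.IsCatenary (Localization.AtPrime m')) :
    (q.height : Cardinal.{u}) + Algebra.trdeg (R ⧸ IsLocalRing.maximalIdeal R) (S ⧸ q) =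
      ((IsLocalRing.maximalIdeal R).height : Cardinal.{u}) + Algebra.trdeg R S := by
  obtain ⟨s, hs⟩ := (inferInstance : Algebra.FiniteType R S).out
  let g : Fin s.card → S := fun i => (s.equivFin.symm i : S)
  refine formula_eq_aux s.card S g ?_ ?_ q
  · rw [← hs]
    congr 1
    ext x
    refine ⟨fun ⟨i, hi⟩ => hi ▸ (s.equivFin.symm i).2, fun h => ⟨s.equivFin ⟨x, h⟩, by simp [g]⟩⟩
  intro A' _ _ hft hι m' hm' hover
  obtain ⟨ι, hι⟩ := hι
  let e : A' ≃ₐ[R] ι.range := AlgEquiv.ofInjective ι hι
  have hFG : ι.range.FG := by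
    rw [← Algebra.map_top]
    exact hft.out.map ι
  haveI := hm'
  let M : Ideal ι.range := m'.asIdeal.comap e.symm.toRingEquiv
  haveI : M.IsMaximal := Ideal.comap_isMaximal_of_equiv e.symm.toRingEquiv
  have hMover : M.LiesOver (IsLocalRing.maximalIdeal R) := ⟨by
    rw [hover.over]
    ext r
    show algebraMap R A' r ∈ m'.asIdeal ↔ e.symm (algebraMap R ι.range r) ∈ m'.asIdeal
    rw [AlgEquiv.commutes]⟩
  have hc := catBelow_of_localization (⟨M, inferInstance⟩ : PrimeSpectrum ι.range) (hcat ι.range hFG M hMover)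
  let E : PrimeSpectrum A' ≃o PrimeSpectrum ι.range := PrimeSpectrum.comapEquiv e.toRingEquiv
  intro u v hh hl hle hu hv
  have hsat : ∀ w : LTSeries (PrimeSpectrum A'), Sat w → Sat (w.map E E.strictMono) :=
    fun w hw i => (apply_covBy_apply_iff E).2 (hw i)
  refine hc (u.map E E.strictMono) (v.map E E.strictMono) ?_ ?_ ?_ (hsat u hu) (hsat v hv)
  · rw [LTSeries.head_map, LTSeries.head_map, hh]
  · rw [LTSeries.last_map, LTSeries.last_map, hl]
  · rw [LTSeries.last_map]
    exact E.monotone hle

end Groth.Agent.CAlgH3.Altitude
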