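import Mathlib
import Groth.Agent.FlatMor12.AmpleFamily
import Groth.Agent.GrpdLib.GenericThick
import Groth.Agent.Misc15.DivDescentInd
import Groth.Agent.H8Coh.TransClass
import Groth.Agent.FlatMorPush.FiniteSet

/-!
# An ample family on a neighbourhood of a point and of all points of codimension at most one
-/

set_option autoImplicit false
set_option backward.isDefEq.respectTransparency false
set_option backward.isDefEq.respectTransparency.types false
universe u

open CategoryTheory CategoryTheory.Limits AlgebraicGeometry Opposite TopologicalSpace IsLocalRing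
open Groth.Agent.Coherent Groth.Agent.PicLib Groth.Agent.AmpleLib Groth.Agent.FlatMor12
open Groth.Agent.H8Coh Groth.Agent.Misc15.DivDescent Groth.Agent.GrpdLib.GenericThick Groth.Agent.VarietyLib

namespace Groth.Agent.CAlgH3.AmpleOne

variable {X : Scheme.{u}}

/-- A section glued from functions on the members of a cover meeting inside a common open. -/
theorem exists_locus_of_cocycle {ι : Type u} (T : ι → X.Opens) (hcov : iSup T = ⊤) (U : X.Opens)
    (hpair : Pairwise fun i j => T i ⊓ T j ≤ U) (e : ∀ i, Γ(X, T i ⊓ U)ˣ) (a : Γ(X, U)) (r : ∀ i, Γ(X, T i))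
    (hr : ∀ i, PicLib.res (inf_le_left : T i ⊓ U ≤ T i) (r i) =
      (e i : Γ(X, T i ⊓ U)) * PicLib.res (inf_le_right : T i ⊓ U ≤ U) a) :
    AmpleFamily.IsLocus (⨆ i, X.basicOpen (r i)) := by
  classical
  let η : ∀ i j, Γ(X, T i ⊓ T j) := fun i j => if h : i = j then 1 else
    PicLib.res (le_inf inf_le_right (hpair h) : T i ⊓ T j ≤ T j ⊓ U) (e j) *
      PicLib.res (le_inf inf_le_left (hpair h) : T i ⊓ T j ≤ T i ⊓ U) ((e i)⁻¹ : _ˣ)
  have hη : ∀ i j (h : i ≠ j) (V : X.Opens) (hi : V ≤ T i) (hj : V ≤ T j),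
      PicLib.res (le_inf hi hj) (η i j) =
        PicLib.res (le_inf hj ((le_inf hi hj).trans (hpair h)) : V ≤ T j ⊓ U) (e j) *
          PicLib.res (le_inf hi ((le_inf hi hj).trans (hpair h)) : V ≤ T i ⊓ U) ((e i)⁻¹ : _ˣ) := by
    intro i j h V hi hj
    simp only [η, dif_neg h, map_mul, PicLib.res_res]
  have hη1 : ∀ i (V : X.Opens) (h h' : V ≤ T i), PicLib.res (le_inf h h') (η i i) = 1 := by
    intro i V h h'; simp [η]
  have hinv : ∀ i (V : X.Opens) (h : V ≤ T i ⊓ U),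
      PicLib.res h (e i : Γ(X, T i ⊓ U)) * PicLib.res h ((e i)⁻¹ : _ˣ) = 1 := by
    intro i V h; rw [← map_mul, Units.mul_inv, map_one]
  have hu : ∀ i j, IsUnit (η i j) := by
    intro i j
    by_cases h : i = j
    · simp only [η, dif_pos h]; exact isUnit_one
    · simp only [η, dif_neg h]
      exact (Units.isUnit _).map _ |>.mul ((Units.isUnit _).map _)
  have hcc : ∀ i j k (V : X.Opens) (hi : V ≤ T i) (hj : V ≤ T j) (hk : V ≤ T k),
      PicLib.res (le_inf hi hk) (η i k) = PicLib.res (le_inf hi hj) (η i j) * PicLib.res (le_inf hj hk) (η j k) := by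
    intro i j k V hi hj hk
    by_cases hij : i = j
    · subst hij; rw [hη1 i V hi hj, one_mul]
    by_cases hjk : j = k
    · subst hjk; rw [hη1 j V hj hk, mul_one]
    have hU : V ≤ U := (le_inf hi hj).trans (hpair hij)
    have h1 := hinv j V (le_inf hj hU)
    by_cases hik : i = k
    · subst hik
      rw [hη1 i V hi hk, hη i j hij V hi hj, hη j i hjk V hj hk]
      have h2 := hinv i V (le_inf hi hU)
      linear_combination -(PicLib.res (le_inf hi hU) (e i : Γ(X, T i ⊓ U)) * PicLib.res (le_inf hi hU) ((e i)⁻¹ : _ˣ)) * h1 - h2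
    · rw [hη i j hij V hi hj, hη j k hjk V hj hk, hη i k hik V hi hk]
      linear_combination -(PicLib.res (le_inf hk hU) (e k : Γ(X, T k ⊓ U)) * PicLib.res (le_inf hi hU) ((e i)⁻¹ : _ˣ)) * h1
  obtain ⟨α, hα⟩ := TransClass.exists_trans hcov η hu hcc
  obtain ⟨L, hL, s, -, hs, hsη⟩ := hα
  obtain ⟨σ, hσ, -⟩ := TopCat.Sheaf.existsUnique_gluing' (⟨L.presheaf, L.isSheaf⟩ : TopCat.Sheaf Ab X)
    T ⊤ (fun i => homOfLE le_top) hcov.ge (fun i => r i • s i) (fun i j => by
      show resM L inf_le_left (r i • s i) = resM L inf_le_right (r j • s j)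
      rw [resM_smul, resM_smul, hsη i j, ← mul_smul]
      refine congrArg (· • _) ?_
      show PicLib.res inf_le_left (r i) * η i j = PicLib.res inf_le_right (r j)
      by_cases h : i = j
      · subst h; simp [η]
      have hU : T i ⊓ T j ≤ U := hpair h
      have h1 := congrArg (PicLib.res (le_inf inf_le_left hU : T i ⊓ T j ≤ T i ⊓ U)) (hr i)
      have h2 := congrArg (PicLib.res (le_inf inf_le_right hU : T i ⊓ T j ≤ T j ⊓ U)) (hr j)
      rw [map_mul, PicLib.res_res, PicLib.res_res] at h1 h2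
      simp only [η, dif_neg h]
      have h3 := hinv i _ (le_inf inf_le_left hU : T i ⊓ T j ≤ T i ⊓ U)
      linear_combination (PicLib.res (le_inf inf_le_right hU : T i ⊓ T j ≤ T j ⊓ U) (e j : Γ(X, T j ⊓ U)) * PicLib.res (le_inf inf_le_left hU : T i ⊓ T j ≤ T i ⊓ U) ((e i)⁻¹ : _ˣ)) * h1 + (PicLib.res (le_inf inf_le_right hU : T i ⊓ T j ≤ T j ⊓ U) (e j : Γ(X, T j ⊓ U)) * PicLib.res hU a) * h3 - h2)
  refine ⟨L, σ, hL, ?_⟩
  have hloc : ∀ i, glocus L σ ⊓ T i = X.basicOpen (r i) := fun i => by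
    rw [glocus_inf σ (hs i)]
    congr 1
    exact (hs i).coef_eq _ (by rw [resM_self]; exact (hσ i).symm)
  calc glocus L σ = glocus L σ ⊓ iSup T := by rw [hcov, inf_top_eq]
    _ = ⨆ i, glocus L σ ⊓ T i := inf_iSup_eq _ _
    _ = ⨆ i, X.basicOpen (r i) := iSup_congr hloc

/-- An affine open and affine opens outside it cut out principally in both. -/
theorem hasAmpleFamily_of_star [CompactSpace X] {S : Type u} (U : X.Opens) (hU : IsAffineOpen U)
    (W : S → X.Opens) (hW : ∀ z, IsAffineOpen (W z)) (hcov : U ⊔ iSup W = ⊤)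
    (hpair : Pairwise fun i j => W i ⊓ W j ≤ U) (f : ∀ z, Γ(X, W z)) (hf : ∀ z, X.basicOpen (f z) = W z ⊓ U)
    (a : S → Γ(X, U)) (ha : ∀ z, X.basicOpen (a z) = W z ⊓ U) : MoreMor.HasAmpleFamily X := by
  classical
  let T : Option S → X.Opens := fun i => i.elim U W
  have hT : iSup T = ⊤ := by rw [iSup_option]; exact hcov
  have hp : Pairwise fun i j => T i ⊓ T j ≤ U := by
    rintro (_ | i) (_ | j) hij
    · exact absurd rfl hij
    · exact inf_le_left
    · exact inf_le_right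
    · exact hpair (fun h => hij (congrArg some h))
  have hfu : ∀ z, IsUnit (PicLib.res (inf_le_left : W z ⊓ U ≤ W z) (f z)) := fun z => by
    have h1 : W z ⊓ U ≤ X.basicOpen (f z) := (hf z).ge
    have := (RingedSpace.isUnit_res_basicOpen X.toRingedSpace (f z)).map (PicLib.res h1)
    convert this using 1
    exact ConcreteCategory.congr_hom (X.presheaf.map_comp _ _) (f z)
  have k0 : ∀ (c : Γ(X, U)) (V : X.Opens) (h1 : V ≤ U) (h2 : V ≤ U),
      PicLib.res h1 c = ((1 : Γ(X, V)ˣ) : Γ(X, V)) * PicLib.res h2 c := by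
    intro c V h1 h2; rw [Units.val_one, one_mul]
  refine AmpleFamily.hasAmpleFamily_of fun x => ?_
  have hx : x ∈ U ⊔ iSup W := hcov ▸ trivial
  rcases hx with hxU | hxW
  · refine ⟨U, ?_, hxU, hU⟩
    have k1 : ∀ z, PicLib.res (inf_le_left : W z ⊓ U ≤ W z) (f z) =
        ((hfu z).unit : Γ(X, W z ⊓ U)) * PicLib.res (inf_le_right : W z ⊓ U ≤ U) (1 : Γ(X, U)) := fun z => by
      rw [map_one, mul_one, IsUnit.unit_spec]
    let e : ∀ i, Γ(X, T i ⊓ U)ˣ := fun i => Option.rec 1 (fun z => (hfu z).unit) i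
    let r : ∀ i, Γ(X, T i) := fun i => Option.rec (1 : Γ(X, U)) f i
    have h := exists_locus_of_cocycle T hT U hp e (1 : Γ(X, U)) r (by
      rintro (_ | z)
      · exact k0 (1 : Γ(X, U)) (U ⊓ U) inf_le_left inf_le_right
      · exact k1 z)
    have heq : (⨆ i, X.basicOpen (r i)) = U := by
      rw [iSup_option]
      show X.basicOpen (1 : Γ(X, U)) ⊔ (⨆ z, X.basicOpen (f z)) = U
      rw [Scheme.basicOpen_of_isUnit _ isUnit_one]
      exact sup_eq_left.2 (iSup_le fun z => (hf z).le.trans inf_le_right)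
    rwa [heq] at h
  · obtain ⟨z, hxz⟩ := Opens.mem_iSup.1 hxW
    refine ⟨W z, ?_, hxz, hW z⟩
    have haz : IsUnit (PicLib.res (inf_le_right : W z ⊓ U ≤ U) (a z)) := by
      have h1 : W z ⊓ U ≤ X.basicOpen (a z) := (ha z).ge
      have := (RingedSpace.isUnit_res_basicOpen X.toRingedSpace (a z)).map (PicLib.res h1)
      convert this using 1
      exact ConcreteCategory.congr_hom (X.presheaf.map_comp _ _) (a z)
    -- extensions of `a z` over the other opens
    have hext : ∀ j, ∃ (rj : Γ(X, W j)) (ej : Γ(X, W j ⊓ U)ˣ),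
        PicLib.res (inf_le_left : W j ⊓ U ≤ W j) rj = (ej : Γ(X, W j ⊓ U)) * PicLib.res inf_le_right (a z) ∧
        X.basicOpen rj ≤ U := by
      intro j
      have hb : X.basicOpen (f j) ≤ U := (hf j).le.trans inf_le_right
      have he : W j ⊓ U ≤ X.basicOpen (f j) := (hf j).ge
      letI := (PicLib.res (X.basicOpen_le (f j))).toAlgebra
      haveI := (hW j).isLocalization_basicOpen (f j)
      obtain ⟨⟨p, _, n, rfl⟩, hp'⟩ := IsLocalization.surj (Submonoid.powers (f j)) (PicLib.res hb (a z))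
      refine ⟨p * f j, (hfu j).unit ^ (n + 1), ?_, ?_⟩
      · have := congrArg (PicLib.res he) hp'
        rw [map_mul, PicLib.res_res] at this
        rw [map_mul, Units.val_pow_eq_pow_val, IsUnit.unit_spec, pow_succ, ← map_pow,
          ← (PicLib.res_res (X.basicOpen_le (f j)) he p : _ = PicLib.res inf_le_left p)]
        refine (congrArg (· * _) this.symm).trans ?_
        show _ * PicLib.res he (PicLib.res _ (f j ^ n)) * _ = _
        rw [PicLib.res_res]
        ring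
      · rw [X.basicOpen_mul]; exact inf_le_right.trans hb
    choose rj ej hej hrad using hext
    let e' : ∀ j, Γ(X, W j ⊓ U)ˣ := fun j => if h : j = z then (h ▸ haz.unit⁻¹ : Γ(X, W j ⊓ U)ˣ) else ej j
    let r' : ∀ j, Γ(X, W j) := fun j => if j = z then 1 else rj j
    have k2 : ∀ j, PicLib.res (inf_le_left : W j ⊓ U ≤ W j) (r' j) =
        (e' j : Γ(X, W j ⊓ U)) * PicLib.res (inf_le_right : W j ⊓ U ≤ U) (a z) := by
      intro j
      simp only [r', e']
      by_cases h : j = z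
      · subst h
        rw [if_pos rfl, dif_pos rfl, map_one, IsUnit.val_inv_mul]
      · rw [if_neg h, dif_neg h, hej j]
    let e : ∀ i, Γ(X, T i ⊓ U)ˣ := fun i => Option.rec 1 e' i
    let r : ∀ i, Γ(X, T i) := fun i => Option.rec (a z) r' i
    have h := exists_locus_of_cocycle T hT U hp e (a z) r (by
      rintro (_ | j)
      · exact k0 (a z) (U ⊓ U) inf_le_left inf_le_right
      · exact k2 j)
    have heq : (⨆ i, X.basicOpen (r i)) = W z := by
      rw [iSup_option]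
      show X.basicOpen (a z) ⊔ (⨆ j, X.basicOpen (if j = z then (1 : Γ(X, W j)) else rj j)) = W z
      refine le_antisymm (sup_le ((ha z).le.trans inf_le_left) (iSup_le fun j => ?_)) ?_
      · by_cases h : j = z
        · subst h; exact X.basicOpen_le _
        · rw [if_neg h]
          intro w hw
          have hwj : w ∈ W j := X.basicOpen_le _ hw
          by_cases hwU : w ∈ U
          · have h1 : IsUnit (X.presheaf.germ (W j) w hwj (rj j)) := (X.mem_basicOpen _ w hwj).1 hw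
            have h2 := congrArg (X.presheaf.germ (W j ⊓ U) w ⟨hwj, hwU⟩) (hej j)
            rw [map_mul, StarGlue.germ_resO, StarGlue.germ_resO] at h2
            rw [h2] at h1
            exact ((ha z).le ((X.mem_basicOpen _ w hwU).2 (isUnit_of_mul_isUnit_right h1))).1
          · exact absurd hw (fun hw => hwU (hrad j hw))
      · refine le_trans ?_ le_sup_right
        refine le_iSup_of_le z ?_
        rw [if_pos rfl, Scheme.basicOpen_of_isUnit _ isUnit_one]
    rwa [heq] at h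

/-- The generic points of the components of a subset. -/
def gens (Z : Set X) : Set X := {z ∈ Z | ∀ y ∈ Z, y ⤳ z → y = z}

theorem finite_gens_and_exists [NoetherianSpace X] {Z : Set X} (hZ : IsClosed Z) :
    (gens Z).Finite ∧ ∀ w ∈ Z, ∃ η ∈ gens Z, η ⤳ w := by
  obtain ⟨T, hT, hTc, hTi, rfl⟩ := NoetherianSpace.exists_finite_set_isClosed_irreducible hZ
  let P : Set X := {η | ∃ t ∈ T, IsGenericPoint η t}
  have hPf : P.Finite := by
    refine (hT.biUnion fun t _ => Set.Subsingleton.finite (s := {η | IsGenericPoint η t})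
      fun a ha b hb => ha.eq hb).subset ?_
    rintro η ⟨t, ht, hη⟩
    exact Set.mem_biUnion ht hη
  have hP : ∀ y ∈ ⋃₀ T, ∃ η ∈ P, η ∈ ⋃₀ T ∧ η ⤳ y := by
    rintro y ⟨t, ht, hy⟩
    have hg := (hTi t ht).isGenericPoint_genericPoint (hTc t ht)
    exact ⟨_, ⟨t, ht, hg⟩, ⟨t, ht, hg.mem⟩, hg.specializes hy⟩
  refine ⟨hPf.subset ?_, fun w hw => ?_⟩
  · rintro z ⟨hz, hmax⟩
    obtain ⟨η, hη, hηZ, h⟩ := hP z hz
    rwa [← hmax η hηZ h]
  · obtain ⟨η, ⟨⟨-, hηZ, hηw⟩, hmax⟩⟩ := (hPf.subset (Set.sep_subset P fun η => η ∈ ⋃₀ T ∧ η ⤳ w)).exists_maximal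
      (by obtain ⟨η, h1, h2, h3⟩ := hP w hw; exact ⟨η, h1, h2, h3⟩)
    refine ⟨η, ⟨hηZ, fun y hy hyη => ?_⟩, hηw⟩
    obtain ⟨η', hη', hη'Z, h'⟩ := hP y hy
    have : η ⤳ η' := hmax ⟨hη', hη'Z, h'.trans (hyη.trans hηw)⟩ (h'.trans hyη)
    exact (hyη.antisymm (this.trans h')).eq

theorem specializes_iff_le {A : X.Opens} (hA : IsAffineOpen A) (y z : A) :
    y.1 ⤳ z.1 ↔ (hA.primeIdealOf y).asIdeal ≤ (hA.primeIdealOf z).asIdeal := by
  rw [PrimeSpectrum.asIdeal_le_asIdeal, PrimeSpectrum.le_iff_specializes,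
    ← hA.fromSpec.isOpenEmbedding.toIsInducing.specializes_iff, hA.fromSpec_primeIdealOf,
    hA.fromSpec_primeIdealOf]

theorem eq_of_primeIdealOf_eq {A : X.Opens} (hA : IsAffineOpen A) (y z : A)
    (h : (hA.primeIdealOf y).asIdeal = (hA.primeIdealOf z).asIdeal) : y.1 = z.1 := by
  have := congrArg hA.fromSpec (PrimeSpectrum.ext h)
  rwa [hA.fromSpec_primeIdealOf, hA.fromSpec_primeIdealOf] at this

theorem exists_point_of_prime {A : X.Opens} (hA : IsAffineOpen A) (P : Ideal Γ(X, A)) (hP : P.IsPrime) :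
    ∃ y : A, (hA.primeIdealOf y).asIdeal = P := by
  have hm : hA.fromSpec ⟨P, hP⟩ ∈ A := hA.range_fromSpec.subset ⟨_, rfl⟩
  exact ⟨⟨_, hm⟩, congrArg PrimeSpectrum.asIdeal
    (hA.fromSpec.isOpenEmbedding.injective (hA.fromSpec_primeIdealOf ⟨_, hm⟩))⟩

/-- A point whose local ring has dimension at most one has only maximal points as proper generizations. -/
theorem mem_gens_univ_of_dim_le_one [IsLocallyNoetherian X] {y z : X} (hy : ringKrullDim (X.presheaf.stalk y) ≤ 1)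
    (hzy : z ⤳ y) (hne : z ≠ y) : z ∈ gens (Set.univ : Set X) := by
  refine ⟨trivial, fun w _ hwz => by_contra fun hwne => ?_⟩
  obtain ⟨A, hA, hyA, -⟩ := exists_isAffineOpen_mem_and_subset (x := y) (U := ⊤) trivial
  have hzA : z ∈ A := hzy.mem_open A.2 hyA
  have hwA : w ∈ A := hwz.mem_open A.2 hzA
  haveI : IsNoetherianRing Γ(X, A) := IsLocallyNoetherian.component_noetherian ⟨A, hA⟩
  have h1 : (hA.primeIdealOf ⟨w, hwA⟩).asIdeal < (hA.primeIdealOf ⟨z, hzA⟩).asIdeal :=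
    ((specializes_iff_le hA _ _).1 hwz).lt_of_ne fun h => hwne (eq_of_primeIdealOf_eq hA _ _ h)
  have h2 : (hA.primeIdealOf ⟨z, hzA⟩).asIdeal < (hA.primeIdealOf ⟨y, hyA⟩).asIdeal :=
    ((specializes_iff_le hA _ _).1 hzy).lt_of_ne fun h => hne (eq_of_primeIdealOf_eq hA _ _ h)
  letI := TopCat.Presheaf.algebra_section_stalk X.presheaf ⟨y, hyA⟩
  haveI := hA.isLocalization_stalk ⟨y, hyA⟩
  rw [IsLocalization.AtPrime.ringKrullDim_eq_height (hA.primeIdealOf ⟨y, hyA⟩).asIdeal (X.presheaf.stalk y),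
    ← WithBot.coe_one, WithBot.coe_le_coe] at hy
  have h3 := Ideal.height_strict_mono_of_isPrime h1
  have h4 := Ideal.height_strict_mono_of_isPrime h2
  exact absurd (Order.lt_one_iff.1 (h4.trans_le hy)) (ne_of_gt ((zero_le).trans_lt h3))

theorem exists_dvd_of_forall {R : Type*} [CommRing R] (q : Ideal R) [q.IsPrime] (f c : R)
    (hc : ∀ P : Ideal R, P.IsPrime → P ≤ q → f ∉ P → c ∉ P) : ∃ s ∉ q, ∃ n : ℕ, c ∣ s * f ^ (n + 1) := by
  by_contra! hcon
  let M : Submonoid R := q.primeCompl ⊔ Submonoid.powers f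
  have hd : Disjoint ((Ideal.span {c} : Ideal R) : Set R) M := by
    rw [Set.disjoint_left]
    intro x hx hxM
    obtain ⟨s, hs, y, ⟨n, rfl⟩, rfl⟩ := Submonoid.mem_sup.1 hxM
    refine hcon s hs n ?_
    have := Ideal.mem_span_singleton.1 hx
    rw [pow_succ, ← mul_assoc]
    exact this.mul_right f
  obtain ⟨P, hP, hcP, hdis⟩ := Ideal.exists_le_prime_disjoint _ M hd
  refine hc P hP (fun x hx => by_contra fun h => Set.disjoint_left.1 hdis hx (Submonoid.mem_sup_left h))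
    (fun h => Set.disjoint_left.1 hdis h (Submonoid.mem_sup_right ⟨1, pow_one f⟩)) ?_
  exact hcP (Ideal.mem_span_singleton_self c)

/-- An affine open with all maximal points and the given point. -/
theorem exists_affine_mem_gens [IsNoetherian X] [QuasiSeparatedSpace X] (x : X) :
    ∃ U : X.Opens, IsAffineOpen U ∧ x ∈ U ∧ gens (Set.univ : Set X) ⊆ U := by
  obtain ⟨hfin, hex⟩ := finite_gens_and_exists (X := X) isClosed_univ
  let M := gens (Set.univ : Set X)
  have hcl : ∀ (Q : X → Prop), IsClosed (⋃ m ∈ {m ∈ M | Q m}, closure ({m} : Set X)) := fun Q =>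
    (hfin.subset (Set.sep_subset _ _)).isClosed_biUnion fun m _ => isClosed_closure
  let C := ⋃ m ∈ {m ∈ M | ¬ m ⤳ x}, closure ({m} : Set X)
  let C' := ⋃ m ∈ {m ∈ M | m ⤳ x}, closure ({m} : Set X)
  obtain ⟨Ux, hUx, hxUx, hUxC⟩ := exists_isAffineOpen_mem_and_subset (x := x)
    (U := ⟨Cᶜ, (hcl _).isOpen_compl⟩) (by
      show x ∉ C
      simp only [C, Set.mem_iUnion₂, not_exists]
      exact fun m hm h => hm.2 (specializes_iff_mem_closure.2 h))
  obtain ⟨A, hA, hOA, hAC⟩ := exists_affine_nhd {m ∈ M | ¬ m ⤳ x} (hfin.subset (Set.sep_subset _ _))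
    (fun m hm y hy => hm.1.2 y trivial hy) ⟨C'ᶜ, (hcl _).isOpen_compl⟩ (fun m hm => by
      show m ∉ C'
      simp only [C', Set.mem_iUnion₂, not_exists]
      intro m' hm' h
      have h' := specializes_iff_mem_closure.2 h
      exact hm.2 ((hm.1.2 m' trivial h') ▸ hm'.2))
  refine ⟨Ux ⊔ A, hUx.sup_of_disjoint hA ?_, Or.inl hxUx, fun m hm => ?_⟩
  · rw [← Opens.coe_disjoint, Set.disjoint_left]
    intro y hy hyA
    obtain ⟨m, hm, hmy⟩ := hex y trivial
    by_cases hmx : m ⤳ x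
    · exact hAC hyA (Set.mem_biUnion (show m ∈ {m ∈ M | m ⤳ x} from ⟨hm, hmx⟩) (specializes_iff_mem_closure.1 hmy))
    · exact hUxC hy (Set.mem_biUnion (show m ∈ {m ∈ M | ¬ m ⤳ x} from ⟨hm, hmx⟩) (specializes_iff_mem_closure.1 hmy))
  · by_cases hmx : m ⤳ x
    · exact Or.inl (hmx.mem_open Ux.2 hxUx)
    · exact Or.inr (hOA ⟨hm, hmx⟩)

/-- Near a point of codimension one outside, an affine open cut out principally in both. -/
theorem exists_star [IsNoetherian X] [QuasiSeparatedSpace X] (U : X.Opens) (hU : IsAffineOpen U)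
    (hMU : gens (Set.univ : Set X) ⊆ U) (z : X) (hz : z ∈ gens (U : Set X)ᶜ)
    (hdim : ringKrullDim (X.presheaf.stalk z) ≤ 1) :
    ∃ (W : X.Opens) (f : Γ(X, W)) (a : Γ(X, U)), IsAffineOpen W ∧ z ∈ W ∧
      (∀ y ∈ W, y ∉ U → z ⤳ y ∧ ∀ z' ∈ gens (U : Set X)ᶜ, z' ⤳ y → z' = z) ∧
      X.basicOpen f = W ⊓ U ∧ X.basicOpen a = W ⊓ U := by
  classical
  obtain ⟨hGfin, hGex⟩ := finite_gens_and_exists (X := X) U.2.isClosed_compl
  let C := ⋃ m ∈ gens (U : Set X)ᶜ \ {z}, closure ({m} : Set X)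
  have hC : IsClosed C := (hGfin.subset Set.sdiff_subset).isClosed_biUnion fun m _ => isClosed_closure
  obtain ⟨W0, hW0, hz0, hW0C⟩ := exists_isAffineOpen_mem_and_subset (x := z) (U := ⟨Cᶜ, hC.isOpen_compl⟩) (by
    show z ∉ C
    simp only [C, Set.mem_iUnion₂, not_exists]
    exact fun m hm h => hm.2 (hz.2 m hm.1.1 (specializes_iff_mem_closure.2 h)))
  have huniq : ∀ y ∈ W0, y ∉ U → z ⤳ y ∧ ∀ z' ∈ gens (U : Set X)ᶜ, z' ⤳ y → z' = z := by
    intro y hy hyU
    have h1 : ∀ z' ∈ gens (U : Set X)ᶜ, z' ⤳ y → z' = z := fun z' hz' h => by_contra fun hne =>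
      hW0C hy (Set.mem_biUnion ⟨hz', hne⟩ (specializes_iff_mem_closure.1 h))
    obtain ⟨η, hη, hηy⟩ := hGex y hyU
    exact ⟨h1 η hη hηy ▸ hηy, h1⟩
  haveI : IsNoetherianRing Γ(X, W0) := IsLocallyNoetherian.component_noetherian ⟨W0, hW0⟩
  let q := hW0.primeIdealOf ⟨z, hz0⟩
  -- primes strictly below `q` are minimal
  have hbelow : ∀ P : Ideal Γ(X, W0), P.IsPrime → P ≤ q.asIdeal → P ≠ q.asIdeal → P ∈ minimalPrimes Γ(X, W0) := by
    intro P hP hle hne
    obtain ⟨y, rfl⟩ := exists_point_of_prime hW0 P hP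
    have hm := mem_gens_univ_of_dim_le_one hdim ((specializes_iff_le hW0 _ _).2 hle)
      (fun h => hne (congrArg (fun v => (hW0.primeIdealOf v).asIdeal) (Subtype.ext h : y = ⟨z, hz0⟩)))
    exact ⟨⟨hP, bot_le⟩, fun P' hP' hle' =>
      (primeIdealOf_eq_of_le hW0 y (fun w hw => hm.2 w trivial hw) P' hP'.1 hle').ge⟩
  have hqmin : q.asIdeal ∉ minimalPrimes Γ(X, W0) := fun hmin => hz.1 (hMU ⟨trivial, fun y _ hy => by
    have hy0 : y ∈ W0 := hy.mem_open W0.2 hz0
    have hle := (specializes_iff_le hW0 ⟨y, hy0⟩ ⟨z, hz0⟩).1 hy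
    exact eq_of_primeIdealOf_eq hW0 ⟨y, hy0⟩ ⟨z, hz0⟩
      (hle.antisymm (hmin.2 ⟨(hW0.primeIdealOf _).isPrime, bot_le⟩ hle))⟩)
  obtain ⟨f, hfq, hfmin⟩ : ∃ f ∈ q.asIdeal, ∀ P ∈ minimalPrimes Γ(X, W0), f ∉ P := by
    by_contra! hcon
    have hfin := minimalPrimes.finite_of_isNoetherianRing Γ(X, W0)
    have hsub : (q.asIdeal : Set Γ(X, W0)) ⊆ ⋃ P ∈ (hfin.toFinset : Set (Ideal Γ(X, W0))), (P : Set Γ(X, W0)) :=
      fun f hf => by
        obtain ⟨P, hP, hfP⟩ := hcon f hf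
        exact Set.mem_biUnion (by simpa using hP) hfP
    obtain ⟨P, hP, hle⟩ := (Ideal.subset_union_prime ⊥ ⊥ fun P hP _ _ => (hfin.mem_toFinset.1 hP).1.1).1 hsub
    have hPm := hfin.mem_toFinset.1 hP
    exact hqmin (hle.antisymm (hPm.2 ⟨q.isPrime, bot_le⟩ hle) ▸ hPm)
  have hfinf : (Ideal.span {f}).minimalPrimes.Finite := Ideal.finite_minimalPrimes_of_isNoetherianRing _ _
  have hk' : ∀ P ∈ hfinf.toFinset.erase q.asIdeal, ∃ k ∈ P, k ∉ q.asIdeal := by
    intro P hP
    obtain ⟨hne, hP⟩ := Finset.mem_erase.1 hP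
    rw [Set.Finite.mem_toFinset] at hP
    refine SetLike.not_le_iff_exists.1 fun hle => hfmin P (hbelow P hP.1.1 hle hne) ?_
    exact hP.1.2 (Ideal.mem_span_singleton_self f)
  choose! kP hkP hkq using hk'
  let k := ∏ P ∈ hfinf.toFinset.erase q.asIdeal, kP P
  have hkz : z ∈ X.basicOpen k := (mem_basicOpen_iff_notMem hW0 ⟨z, hz0⟩ k).2 fun h => by
    obtain ⟨P, hP, h'⟩ := q.isPrime.prod_mem_iff.1 h
    exact hkq P hP h'
  have hfU : X.basicOpen f ≤ U := by
    intro y hy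
    by_contra hyU
    have hy0 : y ∈ W0 := X.basicOpen_le f hy
    exact (mem_basicOpen_iff_notMem hW0 ⟨y, hy0⟩ f).1 hy
      ((specializes_iff_le hW0 ⟨z, hz0⟩ ⟨y, hy0⟩).1 (huniq y hy0 hyU).1 hfq)
  have hkU : X.basicOpen k ⊓ U ≤ X.basicOpen f := by
    rintro y ⟨hy, hyU⟩
    have hy0 : y ∈ W0 := X.basicOpen_le k hy
    refine (mem_basicOpen_iff_notMem hW0 ⟨y, hy0⟩ f).2 fun hfy => ?_
    haveI := (hW0.primeIdealOf ⟨y, hy0⟩).isPrime
    obtain ⟨P, hP, hPy⟩ := Ideal.exists_minimalPrimes_le ((Ideal.span_singleton_le_iff_mem _).2 hfy)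
    by_cases hPq : P = q.asIdeal
    · exact hz.1 (((specializes_iff_le hW0 ⟨z, hz0⟩ ⟨y, hy0⟩).2 (hPq ▸ hPy)).mem_open U.2 hyU)
    · refine (mem_basicOpen_iff_notMem hW0 ⟨y, hy0⟩ k).1 hy (hPy ?_)
      exact Ideal.mem_of_dvd _ (Finset.dvd_prod_of_mem kP (by simp [hPq, hP])) (hkP P (by simp [hPq, hP]))
  -- pass to `W1 = D(k)`
  let W1 := X.basicOpen k
  have hW1 : IsAffineOpen W1 := hW0.basicOpen k
  let f1 := PicLib.res (X.basicOpen_le k) f
  have hf1 : X.basicOpen f1 = W1 ⊓ U := by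
    show X.basicOpen (X.presheaf.map (homOfLE (X.basicOpen_le k)).op f) = _
    rw [Scheme.basicOpen_res]
    exact le_antisymm (le_inf inf_le_left (inf_le_right.trans hfU)) (le_inf inf_le_left hkU)
  obtain ⟨hMfin, -⟩ := finite_gens_and_exists (X := X) (Z := Set.univ) isClosed_univ
  obtain ⟨g, hgW, hg⟩ := Groth.Agent.FlatMorPush.exists_basicOpen_finite hU W1
    (hMfin.subset (Set.sep_subset _ fun m => m ⤳ z))
    (fun m hm => hm.2.mem_open W1.2 hkz) (fun m hm => hMU hm.1)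
  have hgf : X.basicOpen g ≤ X.basicOpen f1 := hf1 ▸ le_inf hgW (X.basicOpen_le g)
  have hf1U : X.basicOpen f1 ≤ U := hf1.le.trans inf_le_right
  obtain ⟨c, hc⟩ : ∃ c : Γ(X, W1), X.basicOpen c ⊓ X.basicOpen f1 = X.basicOpen g := by
    letI := (PicLib.res (X.basicOpen_le f1)).toAlgebra
    haveI := hW1.isLocalization_basicOpen f1
    obtain ⟨⟨c, _, m, rfl⟩, hc⟩ := IsLocalization.surj (Submonoid.powers f1) (PicLib.res hf1U g)
    refine ⟨c, ?_⟩
    have h := congrArg (fun t => X.basicOpen t) hc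
    simp only [Scheme.basicOpen_mul] at h
    have h1 : X.basicOpen (PicLib.res hf1U g) = X.basicOpen f1 ⊓ X.basicOpen g := Scheme.basicOpen_res _ _ _
    have h2 : X.basicOpen (PicLib.res (X.basicOpen_le f1) c) = X.basicOpen f1 ⊓ X.basicOpen c :=
      Scheme.basicOpen_res _ _ _
    have h3 : X.basicOpen (PicLib.res (X.basicOpen_le f1) (f1 ^ m)) = X.basicOpen f1 := by
      refine Scheme.basicOpen_of_isUnit _ ?_
      rw [map_pow]
      exact ((RingedSpace.isUnit_res_basicOpen X.toRingedSpace f1)).pow m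
    rw [inf_comm, ← h2]
    refine (h.symm.trans ?_)
    show X.basicOpen (PicLib.res hf1U g) ⊓ X.basicOpen (PicLib.res (X.basicOpen_le f1) (f1 ^ m)) = _
    rw [h1, h3, inf_eq_right.2 hgf, inf_eq_left.2 hgf]
  let q1 := hW1.primeIdealOf ⟨z, hkz⟩
  obtain ⟨s, hs, n, d, hd⟩ := exists_dvd_of_forall q1.asIdeal f1 c fun P hP hle hfP hcP => by
    obtain ⟨y, rfl⟩ := exists_point_of_prime hW1 P hP
    have hyf : y.1 ∈ X.basicOpen f1 := (mem_basicOpen_iff_notMem hW1 y f1).2 hfP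
    have hyz : y.1 ⤳ z := (specializes_iff_le hW1 y ⟨z, hkz⟩).2 hle
    have hym := mem_gens_univ_of_dim_le_one hdim hyz fun h => hz.1 (h ▸ hf1U hyf)
    have : y.1 ∈ X.basicOpen g := hg ⟨hym, hyz⟩
    exact (mem_basicOpen_iff_notMem hW1 y c).1 (hc.ge this).1 hcP
  let W := X.basicOpen s
  have hWU : W ⊓ U ≤ X.basicOpen g := by
    rw [← hc]
    have h1 : W ⊓ U ≤ X.basicOpen f1 := (inf_le_inf_right U (X.basicOpen_le s)).trans hf1.ge
    refine le_inf ?_ h1
    have h2 : W ⊓ U ≤ X.basicOpen (s * f1 ^ (n + 1)) := by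
      rw [X.basicOpen_mul]
      refine le_inf inf_le_left ?_
      intro y hy
      have hy1 : y ∈ W1 := X.basicOpen_le s hy.1
      refine (X.mem_basicOpen (f1 ^ (n + 1)) y hy1).2 ?_
      rw [map_pow]
      exact ((X.mem_basicOpen f1 y hy1).1 (h1 hy)).pow _
    rw [hd, X.basicOpen_mul] at h2
    exact h2.trans inf_le_left
  refine ⟨W, PicLib.res (X.basicOpen_le s) f1, ?_⟩
  letI := (PicLib.res (X.basicOpen_le g)).toAlgebra
  haveI := hU.isLocalization_basicOpen g
  obtain ⟨⟨a, _, m, rfl⟩, ha⟩ := IsLocalization.surj (Submonoid.powers g) (PicLib.res hgW s)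
  refine ⟨a * g, hW1.basicOpen s, (mem_basicOpen_iff_notMem hW1 ⟨z, hkz⟩ s).2 hs,
    fun y hy => huniq y (X.basicOpen_le k (X.basicOpen_le s hy)), ?_, ?_⟩
  · show X.basicOpen (X.presheaf.map (homOfLE (X.basicOpen_le s)).op f1) = _
    rw [Scheme.basicOpen_res, hf1, ← inf_assoc, inf_eq_left.2 (X.basicOpen_le s)]
  · have h := congrArg (fun t => X.basicOpen t) ha
    simp only [Scheme.basicOpen_mul] at h
    have h1 : X.basicOpen (PicLib.res hgW s) = X.basicOpen g ⊓ W := Scheme.basicOpen_res _ _ _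
    have h2 : X.basicOpen (PicLib.res (X.basicOpen_le g) a) = X.basicOpen g ⊓ X.basicOpen a :=
      Scheme.basicOpen_res _ _ _
    have h3 : X.basicOpen (PicLib.res (X.basicOpen_le g) (g ^ m)) = X.basicOpen g := by
      refine Scheme.basicOpen_of_isUnit _ ?_
      rw [map_pow]
      exact ((RingedSpace.isUnit_res_basicOpen X.toRingedSpace g)).pow m
    have h4 : X.basicOpen (PicLib.res hgW s) ⊓ X.basicOpen (PicLib.res (X.basicOpen_le g) (g ^ m)) =
        X.basicOpen (PicLib.res (X.basicOpen_le g) a) := h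
    rw [h1, h2, h3] at h4
    rw [X.basicOpen_mul, inf_comm, ← h4]
    apply le_antisymm
    · exact le_inf (inf_le_left.trans inf_le_right) (inf_le_right.trans (X.basicOpen_le g))
    · exact le_inf (le_inf hWU inf_le_left) hWU

/-- An open containing a given point and all points of codimension at most one, with an ample family. -/
theorem exists_open_hasAmpleFamily [IsNoetherian X] [QuasiSeparatedSpace X] (x : X) :
    ∃ V : X.Opens, x ∈ V ∧ (∀ y : X, ringKrullDim (X.presheaf.stalk y) ≤ 1 → y ∈ V) ∧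
      MoreMor.HasAmpleFamily (V : Scheme.{u}) := by
  classical
  obtain ⟨U, hU, hxU, hMU⟩ := exists_affine_mem_gens x
  let S := {z : X // z ∈ gens (U : Set X)ᶜ ∧ ringKrullDim (X.presheaf.stalk z) ≤ 1}
  choose W f a hW hzW huniq hf ha using fun z : S => exists_star U hU hMU z.1 z.2.1 z.2.2
  refine ⟨U ⊔ iSup W, Or.inl hxU, fun y hy => ?_, ?_⟩
  · by_cases hyU : y ∈ U
    · exact Or.inl hyU
    · refine Or.inr (Opens.mem_iSup.2 ⟨⟨y, ⟨hyU, fun w hw hwy => ?_⟩, hy⟩, hzW _⟩)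
      by_contra hne
      exact hw (hMU (mem_gens_univ_of_dim_le_one hy hwy hne))
  · have hpair : Pairwise fun i j => W i ⊓ W j ≤ U := fun i j hij y hy => by
      by_contra hyU
      exact hij (Subtype.ext ((huniq j y hy.2 hyU).2 i.1 i.2.1 (huniq i y hy.1 hyU).1))
    let V := U ⊔ iSup W
    haveI : CompactSpace V.toScheme :=
      isCompact_iff_compactSpace.1 (NoetherianSpace.isCompact (V : Set X))
    have hUV : U ≤ V.ι.opensRange := (Scheme.Opens.opensRange_ι V).symm ▸ le_sup_left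
    have hWV : ∀ z, W z ≤ V.ι.opensRange := fun z =>
      (Scheme.Opens.opensRange_ι V).symm ▸ (le_iSup W z).trans le_sup_right
    refine hasAmpleFamily_of_star (V.ι ⁻¹ᵁ U) (hU.preimage_of_isOpenImmersion _ hUV) (fun z => V.ι ⁻¹ᵁ W z)
      (fun z => (hW z).preimage_of_isOpenImmersion _ (hWV z)) ?_ (fun i j hij y hy => hpair hij hy)
      (fun z => V.ι.app (W z) (f z)) (fun z => ?_) (fun z => V.ι.app U (a z)) (fun z => ?_)
    · refine top_le_iff.1 fun y _ => ?_
      rcases (y.2 : y.1 ∈ U ⊔ iSup W) with h | h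
      · exact Or.inl h
      · exact Or.inr (Opens.mem_iSup.2 ((Opens.mem_iSup.1 h).imp fun _ h => h))
    · rw [← Scheme.preimage_basicOpen, hf]; rfl
    · rw [← Scheme.preimage_basicOpen, ha]; rfl

end Groth.Agent.CAlgH3.AmpleOne
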