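import Mathlib

/-!
Artinian local rings with a flatness property over `(q)` and a socle line modulo `q`.
-/

set_option autoImplicit false

universe u

open Polynomial IsLocalRing

namespace Groth.Agent.CAlgH3

/-- An Artinian local ring `T` in which the annihilator of `q^i` is generated by `q^(a-i)` and
whose quotient by `q` has a socle line. -/
structure IsArtinModel (q a : ℕ) (T : Type u) [CommRing T] : Prop where
  isLocalRing : IsLocalRing T
  isArtinianRing : IsArtinianRing T
  pow_eq_zero : (q : T) ^ a = 0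
  dvd : ∀ (i : ℕ) (z : T), i ≤ a → (q : T) ^ i * z = 0 → (q : T) ^ (a - i) ∣ z
  socle : ∃ e : T, ¬ (q : T) ∣ e ∧ (∀ m : T, ¬ IsUnit m → (q : T) ∣ m * e) ∧
    ∀ z : T, (∀ m : T, ¬ IsUnit m → (q : T) ∣ m * z) → ∃ t : T, (q : T) ∣ z - t * e

namespace ArtinModelStep

variable {T : Type u} [CommRing T]

theorem dvd_mk_iff (N : ℕ) (c : T) (p : T[X]) :
    AdjoinRoot.of ((X : T[X]) ^ N) c ∣ AdjoinRoot.mk ((X : T[X]) ^ N) p ↔
      ∀ j < N, c ∣ p.coeff j := by
  constructor
  · rintro ⟨w, hw⟩ j hj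
    obtain ⟨r, rfl⟩ := AdjoinRoot.mk_surjective w
    rw [← AdjoinRoot.mk_C, ← map_mul, AdjoinRoot.mk_eq_mk, X_pow_dvd_iff] at hw
    have := hw j hj
    rw [coeff_sub, coeff_C_mul, sub_eq_zero] at this
    exact ⟨_, this⟩
  · intro h
    choose w hw using h
    classical
    refine ⟨AdjoinRoot.mk _ (∑ j : Fin N, monomial (j : ℕ) (w j j.2)), ?_⟩
    rw [← AdjoinRoot.mk_C, ← map_mul, AdjoinRoot.mk_eq_mk, X_pow_dvd_iff]
    intro j hj
    rw [coeff_sub, coeff_C_mul, finsetSum_coeff, sub_eq_zero, hw j hj]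
    congr 1
    rw [Finset.sum_eq_single (⟨j, hj⟩ : Fin N)]
    · rw [coeff_monomial, if_pos rfl]
    · intro b _ hb
      rw [coeff_monomial, if_neg]
      exact fun h => hb (Fin.ext h)
    · simp

theorem mk_eq_zero_iff (N : ℕ) (p : T[X]) :
    AdjoinRoot.mk ((X : T[X]) ^ N) p = 0 ↔ ∀ j < N, p.coeff j = 0 := by
  rw [AdjoinRoot.mk_eq_zero, X_pow_dvd_iff]

end ArtinModelStep

open ArtinModelStep in
/-- Adjoining a nilpotent variable keeps the model property. -/
theorem IsArtinModel.adjoinRoot {q a : ℕ} {T : Type u} [CommRing T] (h : IsArtinModel q a T)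
    (N : ℕ) : IsArtinModel q a (AdjoinRoot ((X : T[X]) ^ (N + 1))) := by
  classical
  have := h.isLocalRing
  have := h.isArtinianRing
  set T' := AdjoinRoot ((X : T[X]) ^ (N + 1))
  let x : T' := AdjoinRoot.root _
  let i : T →+* T' := AdjoinRoot.of _
  have hxN : x ^ (N + 1) = 0 := by
    show AdjoinRoot.mk _ X ^ (N + 1) = 0
    rw [← map_pow, AdjoinRoot.mk_self]
  let π : T' →+* T := AdjoinRoot.lift (RingHom.id T) 0 (by simp)
  have hπi : ∀ t, π (i t) = t := fun t => AdjoinRoot.lift_of _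
  have hπmk : ∀ p : T[X], π (AdjoinRoot.mk _ p) = p.coeff 0 := fun p => by
    rw [AdjoinRoot.lift_mk, eval₂_at_zero]; rfl
  have hdecomp : ∀ z : T', ∃ b, z = i (π z) + x * b := fun z => by
    obtain ⟨p, rfl⟩ := AdjoinRoot.mk_surjective z
    refine ⟨AdjoinRoot.mk _ p.divX, ?_⟩
    rw [hπmk]
    conv_lhs => rw [← X_mul_divX_add p, map_add, map_mul, AdjoinRoot.mk_C, AdjoinRoot.mk_X]
    rw [add_comm]
  have hπloc : ∀ z : T', IsUnit (π z) → IsUnit z := fun z hz => by
    obtain ⟨b, hb⟩ := hdecomp z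
    rw [hb]
    have hn : IsNilpotent (x * b) := (Commute.all x b).isNilpotent_mul_right ⟨N + 1, hxN⟩
    exact hn.isUnit_add_left_of_commute (hz.map i) (Commute.all _ _)
  have : Nontrivial T' := ⟨0, 1, fun h0 => zero_ne_one (α := T) (by simpa using congrArg π h0)⟩
  have hloc : IsLocalRing T' := IsLocalRing.of_isUnit_or_isUnit_one_sub_self fun z =>
    (IsLocalRing.isUnit_or_isUnit_one_sub_self (π z)).imp (hπloc _)
      (fun hz => hπloc _ (by rwa [map_sub, map_one]))
  have hfin : Module.Finite T T' := (monic_X_pow (N + 1)).finite_adjoinRoot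
  have hcast : (q : T') = i q := (map_natCast i q).symm
  obtain ⟨e, he, hme, hsoc⟩ := h.socle
  refine ⟨hloc, IsArtinianRing.of_finite T T', ?_, ?_, ?_⟩
  · rw [hcast, ← map_pow, h.pow_eq_zero, map_zero]
  · intro j z hj hz
    obtain ⟨p, rfl⟩ := AdjoinRoot.mk_surjective z
    rw [hcast, ← map_pow, ← AdjoinRoot.mk_C, ← map_mul, mk_eq_zero_iff] at hz
    rw [hcast, ← map_pow, dvd_mk_iff]
    intro k hk
    refine h.dvd j _ hj ?_
    simpa only [coeff_C_mul] using hz k hk
  · have hqu : ∀ m : T', ¬ IsUnit m → ¬ IsUnit (π m) := fun m hm hu => hm (hπloc m hu)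
    refine ⟨i e * x ^ N, ?_, ?_, ?_⟩
    · rw [hcast]
      intro hd
      have hd' : AdjoinRoot.of ((X : T[X]) ^ (N + 1)) (q : T) ∣
          AdjoinRoot.mk ((X : T[X]) ^ (N + 1)) (C e * X ^ N) := by
        rw [map_mul, map_pow, AdjoinRoot.mk_C, AdjoinRoot.mk_X]; exact hd
      rw [dvd_mk_iff] at hd'
      exact he (by simpa using hd' N (Nat.lt_succ_self N))
    · intro m hm
      obtain ⟨b, hb⟩ := hdecomp m
      have h1 : m * (i e * x ^ N) = i (π m * e) * x ^ N := by
        rw [map_mul]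
        nth_rw 1 [hb]
        linear_combination (b * i e) * hxN
      rw [h1, hcast]
      exact dvd_mul_of_dvd_left (map_dvd i (hme _ (hqu m hm))) _
    · intro z hz
      obtain ⟨p, rfl⟩ := AdjoinRoot.mk_surjective z
      have hlow : ∀ k < N, (q : T) ∣ p.coeff k := by
        have h1 := hz x (fun hu => (hu.pow (N + 1)).ne_zero hxN)
        rw [hcast, show x = AdjoinRoot.mk _ X from rfl, ← map_mul, dvd_mk_iff] at h1
        intro k hk
        simpa using h1 (k + 1) (by omega)
      obtain ⟨t, ht⟩ := hsoc (p.coeff N) (fun m hm => by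
        have h1 := hz (i m) (fun hu => hm (hπi m ▸ hu.map π))
        rw [hcast, show i m = AdjoinRoot.mk _ (C m) from (AdjoinRoot.mk_C m).symm, ← map_mul,
          dvd_mk_iff] at h1
        simpa using h1 N (Nat.lt_succ_self N))
      refine ⟨i t, ?_⟩
      have h2 : AdjoinRoot.mk ((X : T[X]) ^ (N + 1)) p - i t * (i e * x ^ N) =
          AdjoinRoot.mk _ (p - C (t * e) * X ^ N) := by
        rw [map_sub, map_mul (AdjoinRoot.mk _), map_pow (AdjoinRoot.mk _), AdjoinRoot.mk_C,
          AdjoinRoot.mk_X, map_mul, mul_assoc]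
      rw [h2, hcast, dvd_mk_iff]
      intro k hk
      rw [coeff_sub, coeff_C_mul_X_pow]
      rcases Nat.lt_succ_iff_lt_or_eq.mp hk with hk' | rfl
      · rw [if_neg hk'.ne, sub_zero]; exact hlow k hk'
      · rw [if_pos rfl]; exact ht

/-- A field, or any local ring with maximal ideal `(q)` in which annihilators behave, is a model. -/
theorem IsArtinModel.of_maximal_eq_span {q a : ℕ} {T : Type u} [CommRing T] [IsLocalRing T]
    [IsArtinianRing T] (hq : maximalIdeal T = Ideal.span {(q : T)}) (h0 : (q : T) ^ a = 0)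
    (hd : ∀ (i : ℕ) (z : T), i ≤ a → (q : T) ^ i * z = 0 → (q : T) ^ (a - i) ∣ z) :
    IsArtinModel q a T := by
  have hmem : ∀ m : T, ¬ IsUnit m ↔ (q : T) ∣ m := fun m => by
    rw [← Ideal.mem_span_singleton, ← hq, mem_maximalIdeal, mem_nonunits_iff]
  exact ⟨‹_›, ‹_›, h0, hd, 1, fun h => (hmem 1).2 h isUnit_one,
    fun m hm => by rw [mul_one]; exact (hmem m).1 hm, fun z _ => ⟨z, by simp⟩⟩

/-- An Artinian local ring `S` with a map from a model hitting the residue field is a quotient of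
a model. -/
theorem exists_artinModel_surjective {q a : ℕ} {W : Type u} [CommRing W] (hW : IsArtinModel q a W)
    {S : Type u} [CommRing S] [IsLocalRing S] [IsArtinianRing S] (θ₀ : W →+* S)
    (hres : Function.Surjective ((residue S).comp θ₀)) :
    ∃ (T : Type u) (_ : CommRing T) (θ : T →+* S), IsArtinModel q a T ∧ Function.Surjective θ := by
  classical
  have key : ∀ L : List S, (∀ y ∈ L, IsNilpotent y) → ∃ (T : Type u) (_ : CommRing T) (θ : T →+* S),
      IsArtinModel q a T ∧ (∀ w, θ₀ w ∈ θ.range) ∧ ∀ y ∈ L, y ∈ θ.range := by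
    intro L
    induction L with
    | nil => exact fun _ => ⟨W, _, θ₀, hW, fun w => ⟨w, rfl⟩, by simp⟩
    | cons y L ih =>
      intro hL
      obtain ⟨T, _, θ, hT, hθ, hθL⟩ := ih fun z hz => hL z (List.mem_cons_of_mem _ hz)
      obtain ⟨n, hn⟩ := hL y List.mem_cons_self
      have hy : (X ^ (n + 1) : T[X]).eval₂ θ y = 0 := by
        rw [eval₂_X_pow, pow_succ, hn, zero_mul]
      refine ⟨_, _, AdjoinRoot.lift θ y hy, hT.adjoinRoot n, fun w => ?_, ?_⟩
      · obtain ⟨t, ht⟩ := hθ w
        exact ⟨AdjoinRoot.of _ t, by rw [AdjoinRoot.lift_of, ht]⟩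
      · intro z hz
        rcases List.mem_cons.mp hz with rfl | hz
        · exact ⟨AdjoinRoot.root _, AdjoinRoot.lift_root _⟩
        · obtain ⟨t, ht⟩ := hθL z hz
          exact ⟨AdjoinRoot.of _ t, by rw [AdjoinRoot.lift_of, ht]⟩
  obtain ⟨s, hs⟩ : (maximalIdeal S).FG := IsNoetherian.noetherian _
  have hnil : IsNilpotent (maximalIdeal S) :=
    (isArtinianRing_iff_isNilpotent_maximalIdeal S).mp ‹_›
  obtain ⟨k, hk⟩ := hnil
  obtain ⟨T, _, θ, hT, hθ, hθs⟩ := key s.toList fun y hy => ⟨k, by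
    have : y ∈ maximalIdeal S := hs ▸ Ideal.subset_span (Finset.mem_toList.mp hy)
    simpa [hk] using Ideal.pow_mem_pow this k⟩
  refine ⟨T, _, θ, hT, ?_⟩
  have hstep : ∀ n, ∀ z ∈ maximalIdeal S ^ n, ∃ r ∈ θ.range, z - r ∈ maximalIdeal S ^ (n + 1) := by
    intro n
    induction n with
    | zero =>
      intro z _
      obtain ⟨w, hw⟩ := hres (residue S z)
      refine ⟨θ₀ w, hθ w, ?_⟩
      rw [zero_add, pow_one, ← residue_eq_zero_iff, map_sub, sub_eq_zero]
      exact hw.symm
    | succ n ih =>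
      have hgen : maximalIdeal S ^ (n + 1) = Ideal.span (↑s : Set S) * maximalIdeal S ^ n := by
        rw [pow_succ', ← hs]
      intro z hz
      rw [hgen] at hz
      induction hz using Submodule.mul_induction_on' with
      | mem_mul_mem g hg b hb =>
        induction hg using Submodule.span_induction generalizing b with
        | mem g hg =>
          obtain ⟨r, hr, hbr⟩ := ih b hb
          refine ⟨g * r, θ.range.mul_mem (hθs g (Finset.mem_toList.mpr hg)) hr, ?_⟩
          rw [← mul_sub, pow_succ' (maximalIdeal S) (n + 1)]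
          exact Ideal.mul_mem_mul (hs ▸ Ideal.subset_span hg) hbr
        | zero => exact ⟨0, θ.range.zero_mem, by simp⟩
        | add g g' _ _ hg hg' =>
          obtain ⟨r, hr, h1⟩ := hg b hb
          obtain ⟨r', hr', h2⟩ := hg' b hb
          refine ⟨r + r', θ.range.add_mem hr hr', ?_⟩
          rw [show (g + g') * b - (r + r') = (g * b - r) + (g' * b - r') by ring]
          exact Ideal.add_mem _ h1 h2
        | smul c g _ hg =>
          obtain ⟨r, hr, h1⟩ := hg (c * b) (Ideal.mul_mem_left _ c hb)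
          refine ⟨r, hr, ?_⟩
          rwa [smul_eq_mul, show c * g * b = g * (c * b) by ring]
      | add x _ y _ hx hy =>
        obtain ⟨r, hr, h1⟩ := hx
        obtain ⟨r', hr', h2⟩ := hy
        refine ⟨r + r', θ.range.add_mem hr hr', ?_⟩
        rw [show x + y - (r + r') = (x - r) + (y - r') by ring]
        exact Ideal.add_mem _ h1 h2
  have hdesc : ∀ j, ∀ z ∈ maximalIdeal S ^ (k - j), z ∈ θ.range := by
    intro j
    induction j with
    | zero => intro z hz; rw [Nat.sub_zero, hk] at hz; simpa [show z = 0 by simpa using hz] using θ.range.zero_mem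
    | succ j ih =>
      intro z hz
      by_cases hj : j < k
      · obtain ⟨r, hr, hzr⟩ := hstep _ z hz
        rw [show k - (j + 1) + 1 = k - j by omega] at hzr
        simpa using θ.range.add_mem (ih _ hzr) hr
      · exact ih z (by rwa [show k - j = k - (j + 1) by omega])
  intro z
  simpa using hdesc k z (by simp)

end Groth.Agent.CAlgH3
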