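import Mathlib

/-! The trace form of a finite local algebra over a field is length times the residue trace. -/

set_option autoImplicit false
universe u

namespace Groth.Agent.CAlgH3.ArtinTrace

theorem trace_additive {k : Type u} [Field k] {V : Type u} [AddCommGroup V] [Module k V] [FiniteDimensional k V]
    (W : Submodule k V) (f : V →ₗ[k] V) (hW : W ≤ W.comap f) :
    LinearMap.trace k V f = LinearMap.trace k W (f.restrict hW) + LinearMap.trace k (V ⧸ W) (W.mapQ W f hW) := by
  obtain ⟨C, hC⟩ := Submodule.exists_isCompl W
  let pW : V →ₗ[k] W := W.projectionOnto C hC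
  let pC : V →ₗ[k] C := C.projectionOnto W hC.symm
  have hid : ∀ x, (pW x : V) + (pC x : V) = x := fun x => Submodule.projection_add_projection_eq_self hC x
  have h1 : f = W.subtype ∘ₗ (pW ∘ₗ f) + C.subtype ∘ₗ (pC ∘ₗ f) := LinearMap.ext fun x => (hid (f x)).symm
  conv_lhs => rw [h1]
  rw [map_add]
  refine congrArg₂ (· + ·) ((LinearMap.trace_comp_comm' (pW ∘ₗ f) W.subtype).trans ?_)
    ((LinearMap.trace_comp_comm' (pC ∘ₗ f) C.subtype).trans ?_)
  · congr 1
    ext w
    simp only [LinearMap.comp_apply, Submodule.subtype_apply, LinearMap.restrict_apply]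
    exact congrArg Subtype.val (Submodule.projectionOnto_apply_left hC ⟨f w, hW w.2⟩)
  · let e := Submodule.quotientEquivOfIsCompl W C hC
    rw [← LinearMap.trace_conj' (W.mapQ W f hW) e]
    congr 1

variable (k : Type u) [Field k] (C : Type u) [CommRing C] [Algebra k C] [IsLocalRing C] [Module.Finite k C]

/-- multiplication as a `k`-linear map -/
abbrev act (V : Type u) [AddCommGroup V] [Module k V] [Module C V] [IsScalarTower k C V] (y : C) : V →ₗ[k] V :=
  (LinearMap.lsmul C V y).restrictScalars k

theorem trace_act (y : C) : ∀ (n : ℕ) (V : Type u) [AddCommGroup V] [Module k V] [Module C V] [IsScalarTower k C V]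
    [Module.Finite C V], Module.finrank k V = n →
    LinearMap.trace k V (act k C V y) =
      ((Module.length C V).toNat : k) * Algebra.trace k (IsLocalRing.ResidueField C) (IsLocalRing.residue C y) := by
  intro n
  induction n using Nat.strong_induction_on with
  | _ n ih =>
    intro V _ _ _ _ _ hn
    haveI : Module.Finite k V := Module.Finite.trans C V
    haveI : IsArtinianRing C := IsArtinianRing.of_finite k C
    cases subsingleton_or_nontrivial V with
    | inl _ =>
      rw [Module.length_eq_zero, ENat.toNat_zero, Nat.cast_zero, zero_mul]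
      rw [Subsingleton.elim (act k C V y) 0, map_zero]
    | inr _ =>
      obtain ⟨S, hS⟩ := IsAtomic.exists_atom (Submodule C V)
      haveI hsimple : IsSimpleModule C S := isSimpleModule_iff_isAtom.2 hS
      obtain ⟨I, hI, ⟨e⟩⟩ := isSimpleModule_iff_quot_maximal.mp hsimple
      have hImax : I = IsLocalRing.maximalIdeal C := IsLocalRing.eq_maximalIdeal hI
      subst hImax
      have hWle : S.restrictScalars k ≤ (S.restrictScalars k).comap (act k C V y) := fun v hv => S.smul_mem y hv
      rw [trace_additive (S.restrictScalars k) _ hWle]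
      have hS1 : LinearMap.trace k S (act k C S y) =
          Algebra.trace k (IsLocalRing.ResidueField C) (IsLocalRing.residue C y) := by
        rw [Algebra.trace_apply, ← LinearMap.trace_conj' (act k C S y) (e.restrictScalars k)]
        congr 1
        refine LinearMap.ext fun q => ?_
        show e (y • e.symm q) = Ideal.Quotient.mk (IsLocalRing.maximalIdeal C) y * q
        rw [map_smul, e.apply_symm_apply, Algebra.smul_def]
        rfl
      haveI : Module.Finite C S := Module.Finite.of_injective S.subtype S.subtype_injective
      have hlt : Module.finrank k (V ⧸ S) < n := by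
        have h := Submodule.finrank_quotient_add_finrank (S.restrictScalars k)
        have hpos : 0 < Module.finrank k (S.restrictScalars k) := by
          haveI : Nontrivial (S.restrictScalars k) := IsSimpleModule.nontrivial C S
          exact Module.finrank_pos
        have e' : Module.finrank k (V ⧸ S) = Module.finrank k (V ⧸ S.restrictScalars k) :=
          LinearEquiv.finrank_eq (Submodule.Quotient.restrictScalarsEquiv k S).symm
        omega
      have hQ := ih _ hlt (V ⧸ S) rfl
      have hlen : (Module.length C V).toNat = 1 + (Module.length C (V ⧸ S)).toNat := by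
        rw [Module.length_eq_add_of_exact S.subtype S.mkQ S.subtype_injective (Submodule.mkQ_surjective S)
          (LinearMap.exact_subtype_mkQ S), ENat.toNat_add Module.length_ne_top Module.length_ne_top,
          Module.length_eq_one_iff.2 hsimple]
        rfl
      rw [hlen, Nat.cast_add, Nat.cast_one, add_mul, one_mul]
      refine congrArg₂ (· + ·) hS1 (Eq.trans ?_ hQ)
      rw [← LinearMap.trace_conj' (act k C (V ⧸ S) y) (Submodule.Quotient.restrictScalarsEquiv k S).symm]
      congr 1
      refine LinearMap.ext fun q => ?_
      obtain ⟨v, rfl⟩ := Submodule.Quotient.mk_surjective _ q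
      rfl

theorem trace_eq (y : C) : Algebra.trace k C y =
    ((Module.length C C).toNat : k) * Algebra.trace k (IsLocalRing.ResidueField C) (IsLocalRing.residue C y) := by
  rw [← trace_act k C y _ C rfl, Algebra.trace_apply]
  rfl

theorem surjective_trace_iff : Function.Surjective (Algebra.trace k C) ↔
      (Algebra.IsSeparable k (IsLocalRing.ResidueField C) ∧ ((Module.length C C).toNat : k) ≠ 0) := by
  haveI : Module.Finite k (IsLocalRing.ResidueField C) :=
    Module.Finite.of_surjective (IsScalarTower.toAlgHom k C (IsLocalRing.ResidueField C)).toLinearMap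
      IsLocalRing.residue_surjective
  refine ⟨fun h => ?_, fun ⟨h, hl⟩ => ?_⟩
  · obtain ⟨y, hy⟩ := h 1
    rw [trace_eq] at hy
    refine ⟨?_, left_ne_zero_of_mul_eq_one hy⟩
    by_contra hs
    rw [Algebra.trace_eq_zero_of_not_isSeparable hs] at hy
    simp at hy
  · intro c
    haveI := h
    obtain ⟨z, hz⟩ := Algebra.trace_surjective k (IsLocalRing.ResidueField C) (c / ((Module.length C C).toNat : k))
    obtain ⟨y, rfl⟩ := IsLocalRing.residue_surjective z
    exact ⟨y, by rw [trace_eq, hz, mul_div_cancel₀ _ hl]⟩

theorem trace_pi {R : Type u} [CommRing R] {ι : Type u} [Fintype ι] [DecidableEq ι] (S : ι → Type u) [∀ i, CommRing (S i)]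
    [∀ i, Algebra R (S i)] [∀ i, Module.Free R (S i)] [∀ i, Module.Finite R (S i)] (x : ∀ i, S i) :
    Algebra.trace R (∀ i, S i) x = ∑ i, Algebra.trace R (S i) (x i) := by
  classical
  let b := fun i => Module.Free.chooseBasis R (S i)
  rw [Algebra.trace_eq_matrix_trace (Pi.basis b)]
  rw [Matrix.trace, Fintype.sum_sigma]
  refine Finset.sum_congr rfl fun i _ => ?_
  rw [Algebra.trace_eq_matrix_trace (b i), Matrix.trace]
  refine Finset.sum_congr rfl fun j _ => ?_
  simp only [Matrix.diag_apply, Algebra.leftMulMatrix_eq_repr_mul, Pi.basis_repr, Pi.mul_apply, Pi.basis_apply,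
    Pi.single_eq_same]

end Groth.Agent.CAlgH3.ArtinTrace
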