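import Groth.Prelude.Def_ARSys
import Groth.Agent.LocCoh.Finiteness
import Mathlib

/-! Systems of Artinian modules satisfy the Mittag-Leffler condition. -/

set_option autoImplicit false
universe u

open CategoryTheory Limits Opposite

namespace Groth.Agent.CAlgH3.ArtinianML

variable {A : Type u} [CommRing A]

theorem imageSubobject_eq_of_range_eq {P Q N : ModuleCat.{u} A} (f : P ⟶ N) (g : Q ⟶ N)
    (h : LinearMap.range f.hom = LinearMap.range g.hom) : imageSubobject f = imageSubobject g := by
  have key : ∀ {P : ModuleCat.{u} A} (f : P ⟶ N),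
      LinearMap.range (imageSubobject f).arrow.hom = LinearMap.range f.hom := fun {P} f => by
    conv_rhs => rw [← imageSubobject_arrow_comp f, ModuleCat.hom_comp]
    exact (LinearMap.range_comp_of_range_eq_top _ (LinearMap.range_eq_top.2
      ((ModuleCat.epi_iff_surjective (factorThruImageSubobject f)).1 inferInstance))).symm
  exact (ModuleCat.subobjectModule N).injective ((key f).trans (h.trans (key g).symm))

theorem isML_of_isArtinian (X : ℕᵒᵖ ⥤ ModuleCat.{u} A) (h : ∀ n, IsArtinian A (X.obj n)) :
    ARSys.IsML X := fun n => by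
  haveI := h (op n)
  let R : ℕ →o (Submodule A (X.obj (op n)))ᵒᵈ :=
    { toFun := fun s => OrderDual.toDual (LinearMap.range (ARSys.shiftMap X s n).hom)
      monotone' := fun s t hst => by
        have e : ARSys.tr X (show n + s ≤ n + t by omega) ≫ ARSys.shiftMap X s n = ARSys.shiftMap X t n := by
          exact (X.map_comp _ _).symm
        show LinearMap.range (ARSys.shiftMap X t n).hom ≤ LinearMap.range (ARSys.shiftMap X s n).hom
        exact (congrArg (fun g => LinearMap.range (ModuleCat.Hom.hom g)) e).ge.trans
          (LinearMap.range_comp_le_range _ _) }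
  obtain ⟨r, hr⟩ := IsArtinian.monotone_stabilizes (M := X.obj (op n)) R
  exact ⟨r, fun s hs => imageSubobject_eq_of_range_eq _ _ (congrArg OrderDual.ofDual (hr s hs)).symm⟩

theorem isML_localCohomology [IsNoetherianRing A] [IsLocalRing A] (Msys : ℕᵒᵖ ⥤ ModuleCat.{u} A)
    (hfin : ∀ n, Module.Finite A (Msys.obj n)) (i : ℕ) :
    ARSys.IsML (Msys ⋙ localCohomology (IsLocalRing.maximalIdeal A) i) :=
  isML_of_isArtinian _ fun n => by
    haveI := hfin n
    exact Groth.Agent.LocCoh.isArtinian_H_maximalIdeal i (Msys.obj n)

end Groth.Agent.CAlgH3.ArtinianML
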