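import Mathlib
import Groth.Prelude.Def_CAlgX
import Groth.Agent.CAlgH3.BEAux

/-! The Buchsbaum-Eisenbud exactness criterion for complexes of finite free modules. -/

set_option autoImplicit false

universe u

namespace Groth.Agent.CAlgH3.BECriterion

open BEAux

section Basic

variable {R S : Type u} [CommRing R] [CommRing S] (f : R →+* S)

lemma minorIdeal_map {m n : ℕ} (A : Matrix (Fin m) (Fin n) R) (r : ℕ) :
    CAlgX.minorIdeal (A.map f) r = (CAlgX.minorIdeal A r).map f := by
  rw [CAlgX.minorIdeal, CAlgX.minorIdeal, Ideal.map_span, ← Set.range_comp]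
  congr 2
  funext fg
  exact (RingHom.map_det f _).symm

lemma minorIdeal_succ_le {m n : ℕ} (A : Matrix (Fin m) (Fin n) R) (r : ℕ) :
    CAlgX.minorIdeal A (r + 1) ≤ CAlgX.minorIdeal A r := by
  refine Ideal.span_le.2 ?_
  rintro _ ⟨⟨ρ, γ⟩, rfl⟩
  dsimp only
  rw [Matrix.det_succ_row_zero]
  refine Submodule.sum_mem _ fun j _ => Ideal.mul_mem_left _ _ ?_
  rw [Matrix.submatrix_submatrix]
  exact Ideal.subset_span ⟨(ρ ∘ Fin.succ, γ ∘ j.succAbove), rfl⟩

lemma minorIdeal_antitone {m n : ℕ} (A : Matrix (Fin m) (Fin n) R) :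
    Antitone (CAlgX.minorIdeal A) := antitone_nat_of_succ_le (minorIdeal_succ_le A)

lemma minorIdeal_eq_bot {m n : ℕ} (A : Matrix (Fin m) (Fin n) R) {r : ℕ} (h : m < r) :
    CAlgX.minorIdeal A r = ⊥ := by
  refine Ideal.span_eq_bot.2 ?_
  rintro _ ⟨⟨ρ, γ⟩, rfl⟩
  obtain ⟨i, j, hne, he⟩ := Fintype.exists_ne_map_eq_of_card_lt ρ (by simpa using h)
  exact Matrix.det_zero_of_row_eq hne (funext fun k => by simp [he])

lemma minorIdeal_rank_succ {m n : ℕ} (A : Matrix (Fin m) (Fin n) R) :
    CAlgX.minorIdeal A (CAlgX.matrixRank A + 1) = ⊥ := by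
  by_contra h
  have hb : BddAbove {r : ℕ | CAlgX.minorIdeal A r ≠ ⊥} :=
    ⟨m, fun r hr => not_lt.1 fun hlt => hr (minorIdeal_eq_bot A hlt)⟩
  have := le_csSup hb h
  rw [CAlgX.matrixRank] at this
  omega

lemma matrixRank_eq {m n : ℕ} {A : Matrix (Fin m) (Fin n) R} {r : ℕ} (h1 : CAlgX.minorIdeal A r ≠ ⊥)
    (h2 : CAlgX.minorIdeal A (r + 1) = ⊥) : CAlgX.matrixRank A = r := by
  refine IsGreatest.csSup_eq ⟨h1, fun k hk => ?_⟩
  by_contra hlt
  exact hk (eq_bot_iff.2 ((minorIdeal_antitone A (show r + 1 ≤ k by omega)).trans h2.le))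

/-- The alternating sum of ranks. -/
def sig (e : ℕ) (n : ℕ → ℕ) (j : ℕ) : ℤ := ∑ t ∈ Finset.Icc j e, (-1 : ℤ) ^ (t - j) * (n t : ℤ)

lemma sig_of_lt {e : ℕ} (n : ℕ → ℕ) {j : ℕ} (h : e < j) : sig e n j = 0 := by
  rw [sig, Finset.Icc_eq_empty (by omega), Finset.sum_empty]

lemma sig_step {e : ℕ} (n : ℕ → ℕ) {j : ℕ} (h : j ≤ e) : sig e n j + sig e n (j + 1) = n j := by
  rw [sig, sig, ← Finset.insert_Icc_add_one_left_eq_Icc h, Finset.sum_insert (by simp)]
  rw [Nat.sub_self, pow_zero, one_mul, add_assoc, ← Finset.sum_add_distrib]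
  have : ∀ t ∈ Finset.Icc (j + 1) e,
      (-1 : ℤ) ^ (t - j) * (n t : ℤ) + (-1 : ℤ) ^ (t - (j + 1)) * (n t : ℤ) = 0 := by
    intro t ht
    rw [Finset.mem_Icc] at ht
    rw [show t - j = t - (j + 1) + 1 by omega, pow_succ]
    ring
  rw [Finset.sum_eq_zero this, add_zero]

lemma sig_shift (e : ℕ) (n : ℕ → ℕ) (j : ℕ) :
    sig e (fun i => n (i + 1)) j = sig (e + 1) n (j + 1) := by
  rw [sig, sig, ← Finset.map_add_right_Icc j e 1, Finset.sum_map]
  refine Finset.sum_congr rfl fun t _ => ?_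
  simp

end Basic

variable {R : Type u} [CommRing R] {n : ℕ → ℕ} (A : (i : ℕ) → Matrix (Fin (n i)) (Fin (n (i + 1))) R)

/-- The expected cycles in degree `i + 1`. -/
def T (e i : ℕ) : Submodule R (Fin (n (i + 1)) → R) :=
  if i + 2 ≤ e then LinearMap.range (A (i + 1)).mulVecLin else ⊥

lemma T_of_le {e i : ℕ} (h : i + 2 ≤ e) : T A e i = LinearMap.range (A (i + 1)).mulVecLin := if_pos h
lemma T_of_not {e i : ℕ} (h : ¬ i + 2 ≤ e) : T A e i = ⊥ := if_neg h

/-- Exactness in positive degrees up to `e`. -/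
def IsExact (e : ℕ) : Prop := ∀ i, i < e → ∀ z, (A i).mulVec z = 0 → z ∈ T A e i

theorem exact_local [IsLocalRing R] (e : ℕ) (r : ℕ → ℕ)
    (hA : ∀ i, i + 2 ≤ e → A i * A (i + 1) = 0)
    (hr : ∀ j, 1 ≤ j → j ≤ e → (r j : ℤ) = sig e n j)
    (hzero : ∀ i, i < e → CAlgX.minorIdeal (A i) (r (i + 1) + 1) = ⊥)
    (hreg : ∀ i, i < e → CAlgX.minorIdeal (A i) (r (i + 1)) = ⊤ ∨
      ∃ rs : List R, rs.length = i + 1 ∧ (∀ x ∈ rs, x ∈ CAlgX.minorIdeal (A i) (r (i + 1))) ∧ Reg rs (⊥ : Ideal R))
    (hnil : ∀ x ∈ IsLocalRing.maximalIdeal R, ∀ i, i < e → ∀ z, (A i).mulVec z = 0 →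
      ∃ k : ℕ, x ^ k • z ∈ T A e i) : IsExact A e := by
  classical
  have hex : ∃ J, ∀ i, J ≤ i → i < e → CAlgX.minorIdeal (A i) (r (i + 1)) = ⊤ := ⟨e, fun i h1 h2 => by omega⟩
  set J := Nat.find hex
  have hJe : J ≤ e := Nat.find_min' hex fun i h1 h2 => by omega
  have hunit := Nat.find_spec hex
  have hdata : ∀ i, J ≤ i → i < e → HasData (A i) (r (i + 1)) := fun i h1 h2 =>
    ⟨exists_unit_minor (hunit i h1 h2), hzero i h2⟩
  intro i hi z hz
  rcases le_or_gt J i with hJi | hJi
  · by_cases h2 : i + 2 ≤ e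
    · rw [T_of_le A h2]
      have hsum : r (i + 1) + r (i + 2) = n (i + 1) := by
        have := sig_step n (j := i + 1) (e := e) (by omega)
        rw [← hr (i + 1) (by omega) (by omega), ← hr (i + 1 + 1) (by omega) (by omega)] at this
        exact_mod_cast this
      exact exact_of_data (A i) (A (i + 1)) (hA i h2) (hdata i hJi hi) (hdata (i + 1) (by omega) (by omega)) hsum hz
    · have hsum : r (i + 1) + 0 = n (i + 1) := by
        have := sig_step n (j := i + 1) (e := e) (by omega)
        rw [← hr (i + 1) (by omega) (by omega), sig_of_lt n (show e < i + 1 + 1 by omega), add_zero] at this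
        simpa using (by exact_mod_cast this : r (i + 1) = n (i + 1))
      obtain ⟨w, hw⟩ := exact_of_data (A i) (0 : Matrix (Fin (n (i + 1))) (Fin 0) R) (Matrix.mul_zero _)
        (hdata i hJi hi) (hasData_zero _) hsum hz
      rw [T_of_not A h2, Submodule.mem_bot, ← hw, Matrix.zero_mulVec]
  -- degrees up to `J`
  have hJ : CAlgX.minorIdeal (A (J - 1)) (r (J - 1 + 1)) ≠ ⊤ := by
    intro h
    have := Nat.find_min' hex (m := J - 1) fun k hk hke => by
      rcases eq_or_lt_of_le hk with rfl | hlt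
      · exact h
      · exact hunit k (by omega) hke
    change J ≤ J - 1 at this
    omega
  obtain ⟨rs, hlen, hrsI, hrs⟩ := (hreg (J - 1) (by omega)).resolve_left hJ
  have hrsm : ∀ x ∈ rs, x ∈ IsLocalRing.maximalIdeal R := fun x hx =>
    IsLocalRing.le_maximalIdeal hJ (hrsI x hx)
  let d : ∀ k, (Fin (n (k + 1)) → R) →ₗ[R] (Fin (n k) → R) := fun k => (A k).mulVecLin
  let N : ∀ k, Submodule R (Fin (n k) → R) := fun k =>
    if k = J ∧ J < e then LinearMap.range (d k) else ⊥
  have hN : ∀ k, k < J → N k = ⊥ := fun k hk => if_neg (by omega)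
  have hBd : ∀ k, k < J → Bd d N J k = T A e k := by
    intro k hk
    rw [Bd, T]
    by_cases h2 : k + 2 ≤ J
    · rw [if_pos h2, if_pos (by omega), hN (k + 1) (by omega), sup_bot_eq]
    · rw [if_neg h2, bot_sup_eq]
      by_cases h3 : k + 2 ≤ e
      · rw [if_pos h3]; exact if_pos ⟨by omega, by omega⟩
      · rw [if_neg h3]; exact if_neg (by omega)
  rw [← hBd i hJi]
  refine acyclic rs (fun k => Fin (n k) → R) d N J (by omega) ?_ ?_ ?_ ?_ i hJi z
    (by rw [hN i hJi]; exact hz)
  · intro k hk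
    rw [hN k hk, Submodule.map_le_iff_le_comap]
    intro v hv
    change d k v ∈ (⊥ : Submodule R _)
    change v ∈ (if k + 1 = J ∧ J < e then LinearMap.range (d (k + 1)) else ⊥) at hv
    split_ifs at hv with h
    · obtain ⟨w, rfl⟩ := hv
      simp [d, Matrix.mulVec_mulVec, hA k (by omega)]
    · rw [(Submodule.mem_bot R).1 hv, map_zero]; exact zero_mem _
  · intro k hk v
    rw [hN k (by omega)]
    simp [d, Matrix.mulVec_mulVec, hA k (by omega)]
  · intro k hk
    have hbot : Reg rs (⊥ : Submodule R (Fin (n k) → R)) := reg_fun rs hrs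
    change Reg rs (if k = J ∧ J < e then LinearMap.range (d k) else ⊥)
    split_ifs with h
    · obtain ⟨ρ, γ, hu⟩ := (hdata k (by omega) (by omega)).1
      have hgi := gen_inverse (A k) ρ γ hu (hzero k (by omega))
      set Q := (1 : Matrix (Fin (n (k + 1))) (Fin (n (k + 1))) R).submatrix id γ *
        ((A k).submatrix ρ γ)⁻¹ * (1 : Matrix (Fin (n k)) (Fin (n k)) R).submatrix ρ id
      have hgi' : A k * Q * A k = A k := by
        conv_rhs => rw [← hgi, submatrix_eq_mul (A k), submatrix_eq_mul' (A k)]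
        simp only [Q, Matrix.mul_assoc]
      have := reg_retract (LinearMap.id - (A k * Q).mulVecLin) (LinearMap.range (d k)) ?_ ?_ rs ⊥
        (by rw [Submodule.map_bot]) hbot
      · rwa [sup_bot_eq] at this
      · intro v
        constructor
        · intro hv
          refine ⟨Q.mulVec v, ?_⟩
          rw [LinearMap.sub_apply, LinearMap.id_apply, sub_eq_zero] at hv
          simp only [d, Matrix.mulVecLin_apply, Matrix.mulVec_mulVec]
          exact hv.symm
        · rintro ⟨w, rfl⟩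
          simp [d, Matrix.mulVec_mulVec, hgi', ← Matrix.mul_assoc]
      · intro v
        refine ⟨Q.mulVec v, ?_⟩
        simp [d, Matrix.mulVec_mulVec]
    · exact hbot
  · intro x hx k hk v hv
    rw [hN k hk, Submodule.mem_bot] at hv
    rw [hBd k hk]
    exact hnil x (hrsm x hx) k (by omega) v hv

section Localisation

variable (P : Ideal R) [P.IsPrime]

/-- The matrices over the local ring at a prime. -/
noncomputable abbrev AL (i : ℕ) : Matrix (Fin (n i)) (Fin (n (i + 1))) (Localization.AtPrime P) :=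
  (A i).map (algebraMap R (Localization.AtPrime P))

variable {P}

/-- The map on vectors. -/
noncomputable abbrev loc {ι : Type} (z : ι → R) : ι → Localization.AtPrime P :=
  (algebraMap R (Localization.AtPrime P)) ∘ z

lemma exists_clear {ι : Type} [Fintype ι] (z : ι → Localization.AtPrime P) :
    ∃ (s : R) (z₀ : ι → R), s ∉ P ∧ algebraMap R (Localization.AtPrime P) s • z = loc z₀ := by
  obtain ⟨⟨s, hs⟩, h⟩ := IsLocalization.exist_integer_multiples_of_finite P.primeCompl z
  choose z₀ hz₀ using h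
  exact ⟨s, z₀, hs, funext fun i => by
    show algebraMap R (Localization.AtPrime P) s * z i = algebraMap R (Localization.AtPrime P) (z₀ i)
    rw [hz₀ i, Algebra.smul_def]⟩

lemma exists_smul_of_loc_eq {ι : Type} [Fintype ι] {y z : ι → R} (h : loc (P := P) y = loc z) :
    ∃ u : R, u ∉ P ∧ u • y = u • z := by
  choose c hc using fun i => (IsLocalization.eq_iff_exists P.primeCompl _).1 (congrFun h i)
  refine ⟨∏ i, (c i : R), fun hh => ?_, funext fun i => ?_⟩
  · obtain ⟨i, -, hi⟩ := (Ideal.IsPrime.prod_mem_iff (p := P)).1 hh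
    exact (c i).2 hi
  · classical
    rw [Pi.smul_apply, Pi.smul_apply, smul_eq_mul, smul_eq_mul,
      ← Finset.prod_erase_mul _ _ (Finset.mem_univ i), mul_assoc, mul_assoc, hc i]

lemma AL_mulVec (i : ℕ) (z : Fin (n (i + 1)) → R) : (AL A P i).mulVec (loc z) = loc ((A i).mulVec z) := by
  funext k
  exact (RingHom.map_mulVec _ _ _ _).symm

lemma loc_smul {ι : Type} (c : R) (z : ι → R) :
    loc (P := P) (c • z) = algebraMap R (Localization.AtPrime P) c • loc z := by
  funext i; simp

lemma mem_T_loc {e i : ℕ} {z : Fin (n (i + 1)) → R} (h : z ∈ T A e i) : loc z ∈ T (AL A P) e i := by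
  by_cases h2 : i + 2 ≤ e
  · rw [T_of_le A h2] at h
    rw [T_of_le _ h2]
    obtain ⟨w, rfl⟩ := h
    exact ⟨loc w, AL_mulVec A (i + 1) w⟩
  · rw [T_of_not A h2, Submodule.mem_bot] at h
    rw [h]
    convert zero_mem (T (AL A P) e i)
    funext k; simp

lemma mem_T_of_loc {e i : ℕ} {z : Fin (n (i + 1)) → R} (h : loc z ∈ T (AL A P) e i) :
    ∃ u : R, u ∉ P ∧ u • z ∈ T A e i := by
  by_cases h2 : i + 2 ≤ e
  · rw [T_of_le _ h2] at h
    obtain ⟨w, hw⟩ := h
    obtain ⟨s, w₀, hs, hw₀⟩ := exists_clear w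
    have : loc (P := P) ((A (i + 1)).mulVec w₀) = loc (s • z) := by
      rw [← AL_mulVec, ← hw₀, Matrix.mulVec_smul, loc_smul, ← hw]; rfl
    obtain ⟨u, hu, he⟩ := exists_smul_of_loc_eq this
    refine ⟨u * s, fun hh => (Ideal.IsPrime.mem_or_mem inferInstance hh).elim hu hs, ?_⟩
    rw [T_of_le A h2, mul_smul, ← he]
    exact Submodule.smul_mem _ _ ⟨w₀, rfl⟩
  · rw [T_of_not _ h2, Submodule.mem_bot] at h
    obtain ⟨u, hu, he⟩ := exists_smul_of_loc_eq (show loc (P := P) z = loc 0 by rw [h]; funext k; simp)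
    exact ⟨u, hu, by rw [he, smul_zero]; exact zero_mem _⟩

lemma exists_cycle {i : ℕ} {z : Fin (n (i + 1)) → Localization.AtPrime P} (h : (AL A P i).mulVec z = 0) :
    ∃ (s : R) (z₀ : Fin (n (i + 1)) → R), s ∉ P ∧ algebraMap R (Localization.AtPrime P) s • z = loc z₀ ∧
      (A i).mulVec z₀ = 0 := by
  obtain ⟨s, z₀, hs, hz₀⟩ := exists_clear z
  have : loc (P := P) ((A i).mulVec z₀) = loc (0 : Fin (n i) → R) := by
    rw [← AL_mulVec, ← hz₀, Matrix.mulVec_smul, h, smul_zero]; funext k; simp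
  obtain ⟨u, hu, he⟩ := exists_smul_of_loc_eq this
  refine ⟨u * s, u • z₀, fun hh => (Ideal.IsPrime.mem_or_mem inferInstance hh).elim hu hs, ?_, ?_⟩
  · rw [map_mul, mul_smul, hz₀, loc_smul]
  · rw [Matrix.mulVec_smul, he, smul_zero]

lemma isUnit_loc {s : R} (hs : s ∉ P) : IsUnit (algebraMap R (Localization.AtPrime P) s) :=
  IsLocalization.map_units (Localization.AtPrime P) (⟨s, hs⟩ : P.primeCompl)

lemma exact_loc {e : ℕ} (h : IsExact A e) : IsExact (AL A P) e := by
  intro i hi z hz
  obtain ⟨s, z₀, hs, hz₀, hc⟩ := exists_cycle A hz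
  have := mem_T_loc A (P := P) (h i hi z₀ hc)
  rw [← hz₀] at this
  exact (Submodule.smul_mem_iff_of_isUnit _ (isUnit_loc hs)).1 this

end Localisation

theorem exact_of_criterion [IsNoetherianRing R] (e : ℕ)
    (hA : ∀ i, i + 2 ≤ e → A i * A (i + 1) = 0)
    (hrank : ∀ j, 1 ≤ j → j ≤ e → (CAlgX.matrixRank (A (j - 1)) : ℤ) = sig e n j)
    (hdet : ∀ j, 1 ≤ j → j ≤ e → CAlgX.detIdeal (A (j - 1)) = ⊤ ∨
      ∃ rs : List R, rs.length = j ∧ (∀ x ∈ rs, x ∈ CAlgX.detIdeal (A (j - 1))) ∧
        RingTheory.Sequence.IsRegular R rs) : IsExact A e := by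
  classical
  have key : ∀ (P : Ideal R), P.IsPrime → ∀ i, i < e → ∀ z, (A i).mulVec z = 0 →
      ∃ s, s ∉ P ∧ s • z ∈ T A e i := by
    intro P hP
    induction hh : P.height using WellFoundedLT.induction generalizing P with
    | _ hgt ih =>
    subst hh
    let L := Localization.AtPrime P
    have hLex : IsExact (AL A P) e := by
      refine exact_local (AL A P) e (fun j => CAlgX.matrixRank (A (j - 1))) ?_ hrank ?_ ?_ ?_
      · intro i hi
        rw [← Matrix.map_mul, hA i hi]
        simp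
      · intro i hi
        rw [minorIdeal_map, show i + 1 - 1 = i from rfl, minorIdeal_rank_succ, Ideal.map_bot]
      · intro i hi
        rcases hdet (i + 1) (by omega) (by omega) with h | ⟨rs, hl, hrs, hreg⟩
        · refine Or.inl ?_
          rw [minorIdeal_map]
          exact (congrArg _ h).trans (Ideal.map_top _)
        · refine Or.inr ⟨rs.map (algebraMap R L), by simpa using hl, fun x hx => ?_, ?_⟩
          · obtain ⟨y, hy, rfl⟩ := List.mem_map.1 hx
            rw [minorIdeal_map]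
            exact Ideal.mem_map_of_mem _ (hrs y hy)
          · have h := reg_localization P.primeCompl L rs ⊥ ((reg_bot_iff rs).2 hreg.toIsWeaklyRegular)
            rwa [Ideal.map_bot] at h
      · intro x hx i hi z hz
        obtain ⟨⟨a, s⟩, hxs⟩ := IsLocalization.surj P.primeCompl x
        have ha : a ∈ P := by
          rw [← IsLocalization.AtPrime.to_map_mem_maximal_iff L P, ← hxs]
          exact Ideal.mul_mem_right _ _ hx
        obtain ⟨t, z₀, ht, hz₀, hc⟩ := exists_cycle A hz
        have : ∃ (k : ℕ) (u : R), u ∉ P ∧ (u * a ^ k) • z₀ ∈ T A e i := by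
          by_contra hcon
          push Not at hcon
          let K : Ideal R := (T A e i).comap (LinearMap.toSpanSingleton R _ z₀)
          have hdisj : Disjoint (K : Set R) ((Submonoid.powers a ⊔ P.primeCompl : Submonoid R) : Set R) := by
            rw [Set.disjoint_left]
            intro c hc hcS
            obtain ⟨_, ⟨k, rfl⟩, u, hu, rfl⟩ := Submonoid.mem_sup.1 hcS
            exact hcon k u hu (by rw [mul_comm]; exact hc)
          obtain ⟨Q, hQ, hKQ, hQS⟩ := Ideal.exists_le_prime_disjoint K _ hdisj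
          have hQP : Q < P := by
            refine lt_of_le_of_ne (fun c hc => ?_) fun h => ?_
            · by_contra hcP
              exact Set.disjoint_left.1 hQS hc (Submonoid.mem_sup_right hcP)
            · exact Set.disjoint_left.1 hQS (h ▸ ha) (Submonoid.mem_sup_left (Submonoid.mem_powers a))
          obtain ⟨c, hcQ, hcT⟩ := ih Q.height (Ideal.height_strict_mono_of_isPrime hQP) Q hQ rfl i hi z₀ hc
          exact hcQ (hKQ hcT)
        obtain ⟨k, u, hu, hmem⟩ := this
        refine ⟨k, ?_⟩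
        have h := mem_T_loc A (P := P) hmem
        rw [loc_smul, ← hz₀, map_mul, map_pow, ← hxs, mul_pow, smul_smul] at h
        have hun : IsUnit (algebraMap R L u * algebraMap R L ↑s ^ k * algebraMap R L t) :=
          ((isUnit_loc hu).mul ((isUnit_loc s.2).pow k)).mul (isUnit_loc ht)
        refine (Submodule.smul_mem_iff_of_isUnit _ hun).1 ?_
        rw [smul_smul]
        convert h using 2
        ring
    intro i hi z hz
    refine mem_T_of_loc A (P := P) (hLex i hi (loc z) ?_)
    rw [AL_mulVec, hz]; funext k; simp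
  intro i hi z hz
  by_contra hcon
  let K : Ideal R := (T A e i).comap (LinearMap.toSpanSingleton R _ z)
  have hK : K ≠ ⊤ := fun h => hcon (by
    have h1 : (1 : R) ∈ K := h ▸ trivial
    simpa [K] using h1)
  obtain ⟨P, hP, hKP⟩ := Ideal.exists_le_maximal K hK
  obtain ⟨s, hs, hsT⟩ := key P hP.isPrime i hi z hz
  exact hs (hKP hsT)

/-- Rank data at a prime of depth zero. -/
lemma data_of_exact [IsLocalRing R] {s : R} (hs : s ≠ 0) (hms : ∀ a ∈ IsLocalRing.maximalIdeal R, a * s = 0)
    (e : ℕ) (hA : ∀ i, i + 2 ≤ e → A i * A (i + 1) = 0) (hex : IsExact A e) :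
    ∀ (k i : ℕ), i + k + 1 = e → ∃ r : ℕ, (r : ℤ) = sig e n (i + 1) ∧ HasData (A i) r := by
  intro k
  induction k with
  | zero =>
    intro i hi
    obtain ⟨r, hr, hd⟩ := data_step hs hms (A i) (0 : Matrix (Fin (n (i + 1))) (Fin 0) R) (Matrix.mul_zero _)
      (hasData_zero _) (fun z hz => ⟨0, by
        have := hex i (by omega) z hz
        rw [T_of_not A (by omega), Submodule.mem_bot] at this
        rw [this, Matrix.mulVec_zero]⟩)
    refine ⟨r, ?_, hd⟩
    have := sig_step n (j := i + 1) (e := e) (by omega)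
    rw [sig_of_lt n (show e < i + 1 + 1 by omega)] at this
    omega
  | succ k ih =>
    intro i hi
    obtain ⟨r', hr', hd'⟩ := ih (i + 1) (by omega)
    obtain ⟨r, hr, hd⟩ := data_step hs hms (A i) (A (i + 1)) (hA i (by omega)) hd' (fun z hz => by
      have := hex i (by omega) z hz
      rwa [T_of_le A (by omega)] at this)
    refine ⟨r, ?_, hd⟩
    have := sig_step n (j := i + 1) (e := e) (by omega)
    omega

theorem rank_of_exact [IsLocalRing R] [IsNoetherianRing R] (e : ℕ)
    (hA : ∀ i, i + 2 ≤ e → A i * A (i + 1) = 0) (hex : IsExact A e) {i : ℕ} (hi : i < e) :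
    (CAlgX.matrixRank (A i) : ℤ) = sig e n (i + 1) ∧
      ∃ a ∈ CAlgX.detIdeal (A i), IsSMulRegular R a := by
  classical
  have hdata : ∀ P ∈ associatedPrimes R R, ∀ _ : P.IsPrime, ∃ r : ℕ,
      (r : ℤ) = sig e n (i + 1) ∧ HasData (AL A P i) r := by
    intro P hP _
    obtain ⟨y, hy⟩ := (isAssociatedPrime_iff.1 hP).2
    have hy' : ∀ a : R, a ∈ P ↔ a * y = 0 := fun a => by
      rw [hy, Submodule.mem_colon_singleton, Submodule.mem_bot, smul_eq_mul]
    refine data_of_exact (AL A P) (s := algebraMap R (Localization.AtPrime P) y) ?_ ?_ e ?_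
      (exact_loc A hex) (e - (i + 1)) i (by omega)
    · intro h
      obtain ⟨c, hc⟩ := (IsLocalization.map_eq_zero_iff P.primeCompl _ y).1 h
      exact c.2 ((hy' c).2 hc)
    · intro x hx
      obtain ⟨⟨a, c⟩, hxc⟩ := IsLocalization.surj P.primeCompl x
      have ha : a ∈ P := by
        rw [← IsLocalization.AtPrime.to_map_mem_maximal_iff (Localization.AtPrime P) P, ← hxc]
        exact Ideal.mul_mem_right _ _ hx
      refine (isUnit_loc (P := P) c.2).mul_left_eq_zero.1 ?_
      rw [mul_right_comm, hxc, ← map_mul, (hy' a).1 ha, map_zero]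
    · intro k hk
      rw [← Matrix.map_mul, hA k hk]
      simp
  obtain ⟨P₀, hP₀⟩ := associatedPrimes.nonempty R R
  haveI := hP₀.isPrime
  obtain ⟨r, hr, hd₀⟩ := hdata P₀ hP₀ inferInstance
  have hz : CAlgX.minorIdeal (A i) (r + 1) = ⊥ := by
    rw [eq_bot_iff]
    intro a ha
    rw [Submodule.mem_bot]
    by_contra hne
    obtain ⟨P, hP, hle⟩ := exists_le_isAssociatedPrime_of_isNoetherianRing R a hne
    haveI := hP.isPrime
    obtain ⟨r', hr', hd⟩ := hdata P hP inferInstance
    obtain rfl : r' = r := by omega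
    have h2 := hd.2
    rw [minorIdeal_map] at h2
    have h3 : algebraMap R (Localization.AtPrime P) a = 0 := by
      simpa [h2] using Ideal.mem_map_of_mem (algebraMap R (Localization.AtPrime P)) ha
    obtain ⟨c, hc⟩ := (IsLocalization.map_eq_zero_iff P.primeCompl _ a).1 h3
    refine c.2 (hle ?_)
    rw [Submodule.mem_colon_singleton, Submodule.mem_bot, smul_eq_mul]
    exact hc
  have hnle : ∀ P ∈ associatedPrimes R R, ¬ CAlgX.minorIdeal (A i) r ≤ P := by
    intro P hP hle
    haveI := hP.isPrime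
    obtain ⟨r', hr', ⟨ρ, γ, hu⟩, -⟩ := hdata P hP inferInstance
    obtain rfl : r' = r := by omega
    have h2 : ((AL A P i).submatrix ρ γ).det ∈ (CAlgX.minorIdeal (A i) r').map (algebraMap R (Localization.AtPrime P)) := by
      rw [← minorIdeal_map]
      exact Ideal.subset_span ⟨(ρ, γ), rfl⟩
    have h3 := (Ideal.map_mono hle) h2
    rw [Localization.AtPrime.map_eq_maximalIdeal] at h3
    exact (IsLocalRing.mem_maximalIdeal _).1 h3 hu
  have hne : CAlgX.minorIdeal (A i) r ≠ ⊥ := fun h => hnle P₀ hP₀ (h ▸ bot_le)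
  have hrk := matrixRank_eq hne hz
  refine ⟨by rw [hrk]; exact hr, ?_⟩
  rw [CAlgX.detIdeal, hrk]
  by_contra hcon
  push Not at hcon
  have hsub : (CAlgX.minorIdeal (A i) r : Set R) ⊆
      ⋃ P ∈ ((associatedPrimes.finite R R).toFinset : Set (Ideal R)), (P : Set R) := by
    intro a ha
    simp only [Set.Finite.coe_toFinset]
    rw [biUnion_associatedPrimes_eq_compl_regular]
    exact hcon a ha
  rw [Ideal.subset_union_prime (⊥ : Ideal R) (⊥ : Ideal R)
    (fun P hP _ _ => ((associatedPrimes.finite R R).mem_toFinset.1 hP).isPrime)] at hsub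
  obtain ⟨P, hP, hle⟩ := hsub
  exact hnle P ((associatedPrimes.finite R R).mem_toFinset.1 hP) hle

theorem criterion_of_exact : ∀ (e : ℕ) (R : Type u) [CommRing R] [IsLocalRing R] [IsNoetherianRing R]
    (n : ℕ → ℕ) (A : (i : ℕ) → Matrix (Fin (n i)) (Fin (n (i + 1))) R),
    (∀ i, i + 2 ≤ e → A i * A (i + 1) = 0) → IsExact A e → ∀ i, i < e →
      CAlgX.detIdeal (A i) = ⊤ ∨ ∃ rs : List R, rs.length = i + 1 ∧
        (∀ r ∈ rs, r ∈ CAlgX.detIdeal (A i)) ∧ RingTheory.Sequence.IsRegular R rs := by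
  intro e
  induction e with
  | zero => intro R _ _ _ n A _ _ i hi; omega
  | succ e ih =>
    intro R _ _ _ n A hA hex i hi
    classical
    by_cases htop : CAlgX.detIdeal (A i) = ⊤
    · exact Or.inl htop
    refine Or.inr ?_
    choose a ha hareg using fun k : Fin (e + 1) => (rank_of_exact A (e + 1) hA hex k.2).2
    let S := Finset.univ.filter fun k : Fin (e + 1) => CAlgX.detIdeal (A k) ≠ ⊤
    set x := ∏ k ∈ S, a k with hx
    have hxreg : IsSMulRegular R x := Finset.prod_induction _ (fun y => IsSMulRegular R y)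
      (fun b c hb hc => hb.mul hc) (IsSMulRegular.one R) fun k _ => hareg k
    have hxI : ∀ k : Fin (e + 1), CAlgX.detIdeal (A k) ≠ ⊤ → x ∈ CAlgX.detIdeal (A k) := fun k hk => by
      rw [hx, ← Finset.prod_erase_mul S a (a := k) (by simpa [S] using hk)]
      exact Ideal.mul_mem_left _ _ (ha k)
    have hxm : x ∈ IsLocalRing.maximalIdeal R :=
      IsLocalRing.le_maximalIdeal htop (hxI ⟨i, hi⟩ htop)
    have hweak : ∀ rs : List R, (∀ y ∈ rs, y ∈ CAlgX.detIdeal (A i)) →
        Reg rs (⊥ : Ideal R) → RingTheory.Sequence.IsRegular R rs := by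
      intro rs hrs hreg
      refine ⟨(reg_bot_iff rs).1 hreg, ?_⟩
      rw [smul_eq_mul, Ideal.mul_top]
      intro h
      exact (IsLocalRing.maximalIdeal.isMaximal R).ne_top (top_le_iff.1 (h ▸ Ideal.span_le.2
        fun y hy => IsLocalRing.le_maximalIdeal htop (hrs y hy)))
    rcases Nat.eq_zero_or_pos i with rfl | hipos
    · refine ⟨[x], rfl, by simpa using hxI ⟨0, hi⟩ htop, hweak _ (by simpa using hxI ⟨0, hi⟩ htop) ?_⟩
      exact ⟨fun z hz => (Submodule.mem_bot R).2 (hxreg.right_eq_zero_of_smul ((Submodule.mem_bot R).1 hz)), trivial⟩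
    obtain ⟨l, rfl⟩ : ∃ l, i = l + 1 := ⟨i - 1, by omega⟩
    let q := Ideal.Quotient.mk (Ideal.span {x})
    haveI : Nontrivial (R ⧸ Ideal.span {x}) := Ideal.Quotient.nontrivial_iff.2 fun h =>
      (IsLocalRing.mem_maximalIdeal x).1 hxm (Ideal.span_singleton_eq_top.1 h)
    haveI : IsLocalRing (R ⧸ Ideal.span {x}) := .of_surjective' q Ideal.Quotient.mk_surjective
    let A' : (k : ℕ) → Matrix (Fin (n (k + 1))) (Fin (n (k + 1 + 1))) (R ⧸ Ideal.span {x}) :=
      fun k => (A (k + 1)).map q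
    have hA' : ∀ k, k + 2 ≤ e → A' k * A' (k + 1) = 0 := fun k hk => by
      simp only [A']
      rw [← Matrix.map_mul, hA (k + 1) (by omega)]
      simp
    have hex' : IsExact (n := fun k => n (k + 1)) A' e := by
      intro k hk z hz
      obtain ⟨z, rfl⟩ : ∃ z', q ∘ z' = z :=
        ⟨fun j => (Ideal.Quotient.mk_surjective (z j)).choose,
          funext fun j => (Ideal.Quotient.mk_surjective (z j)).choose_spec⟩
      have hdiv : ∀ j, x ∣ (A (k + 1)).mulVec z j := fun j => by
        rw [← Ideal.mem_span_singleton, ← Ideal.Quotient.eq_zero_iff_mem, RingHom.map_mulVec]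
        exact congrFun hz j
      choose y hy using hdiv
      have hy' : (A (k + 1)).mulVec z = x • y := funext hy
      have hdy : (A k).mulVec y = 0 := by
        have h0 : x • (A k).mulVec y = 0 := by
          rw [← Matrix.mulVec_smul, ← hy', Matrix.mulVec_mulVec, hA k (by omega), Matrix.zero_mulVec]
        funext j
        exact hxreg.right_eq_zero_of_smul (congrFun h0 j)
      have hyT := hex k (by omega) y hdy
      rw [T_of_le A (by omega)] at hyT
      obtain ⟨w, hw⟩ := hyT
      rw [Matrix.mulVecLin_apply] at hw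
      have hzT := hex (k + 1) (by omega) (z - x • w) (by
        rw [Matrix.mulVec_sub, Matrix.mulVec_smul, hw, hy', sub_self])
      have hqz : q ∘ z = q ∘ (z - x • w) := by
        funext j
        simp [q, Ideal.Quotient.eq_zero_iff_mem.2 (Ideal.mem_span_singleton_self x)]
      rw [hqz]
      by_cases h2 : k + 2 ≤ e
      · rw [T_of_le _ (by omega)] at hzT
        rw [T_of_le _ h2]
        obtain ⟨v, hv⟩ := hzT
        refine ⟨q ∘ v, ?_⟩
        funext j
        rw [← hv]
        exact (RingHom.map_mulVec q (A (k + 1 + 1)) v j).symm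
      · rw [T_of_not _ (by omega), Submodule.mem_bot] at hzT
        rw [T_of_not _ h2, Submodule.mem_bot, hzT]
        funext j; simp
    obtain ⟨hrk', -⟩ := rank_of_exact (n := fun k => n (k + 1)) A' e hA' hex' (i := l) (by omega)
    rw [sig_shift] at hrk'
    obtain ⟨hrk, -⟩ := rank_of_exact A (e + 1) hA hex (i := l + 1) hi
    have hdet' : CAlgX.detIdeal (A' l) = (CAlgX.detIdeal (A (l + 1))).map q := by
      rw [CAlgX.detIdeal, CAlgX.detIdeal,
        show CAlgX.matrixRank (A' l) = CAlgX.matrixRank (A (l + 1)) by exact_mod_cast hrk'.trans hrk.symm]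
      exact minorIdeal_map q _ _
    rcases ih (R ⧸ Ideal.span {x}) (fun k => n (k + 1)) A' hA' hex' l (by omega) with h | ⟨rs, hl, hrs, hreg⟩
    · rw [hdet'] at h
      exfalso
      have h1 : (CAlgX.detIdeal (A (l + 1))).map q ≤ (IsLocalRing.maximalIdeal R).map q :=
        Ideal.map_mono (IsLocalRing.le_maximalIdeal htop)
      rw [h, top_le_iff, ← Ideal.comap_eq_top_iff (f := q),
        Ideal.comap_map_of_surjective q Ideal.Quotient.mk_surjective, ← RingHom.ker_eq_comap_bot,
        Ideal.mk_ker, sup_eq_left.2 (by simpa [Ideal.span_le] using hxm)] at h1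
      exact (IsLocalRing.maximalIdeal.isMaximal R).ne_top h1
    rw [hdet'] at hrs
    have hlift : ∀ y : {y // y ∈ rs}, ∃ z ∈ CAlgX.detIdeal (A (l + 1)), q z = y.1 := fun y =>
      (Ideal.mem_map_iff_of_surjective q Ideal.Quotient.mk_surjective).1 (hrs y.1 y.2)
    choose g hg hgq using hlift
    have hmap : (rs.attach.map g).map q = rs := by
      rw [List.map_map, show q ∘ g = Subtype.val from funext hgq, List.attach_map_subtype_val]
    have hall : ∀ y ∈ x :: rs.attach.map g, y ∈ CAlgX.detIdeal (A (l + 1)) := by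
      intro y hy
      rcases List.mem_cons.1 hy with rfl | hy
      · exact hxI ⟨l + 1, hi⟩ htop
      · obtain ⟨z, -, rfl⟩ := List.mem_map.1 hy
        exact hg z
    refine ⟨x :: rs.attach.map g, by simp [hl], hall, hweak _ hall
      ⟨fun z hz => (Submodule.mem_bot R).2 (hxreg.right_eq_zero_of_smul ((Submodule.mem_bot R).1 hz)), ?_⟩⟩
    have h := reg_comap q Ideal.Quotient.mk_surjective (rs.attach.map g) (⊥ : Ideal (R ⧸ Ideal.span {x}))
      (by rw [hmap]; exact (reg_bot_iff rs).2 hreg.toIsWeaklyRegular)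
    rw [← RingHom.ker_eq_comap_bot, Ideal.mk_ker] at h
    rw [bot_sup_eq, smul_eq_mul, Ideal.mul_top]
    exact h

lemma isExact_iff (e : ℕ) (he : 1 ≤ e) (hA : ∀ i, i + 2 ≤ e → A i * A (i + 1) = 0) :
    IsExact A e ↔ (LinearMap.ker (A (e - 1)).mulVecLin = ⊥ ∧
      ∀ i, i + 2 ≤ e → LinearMap.ker (A i).mulVecLin = LinearMap.range (A (i + 1)).mulVecLin) := by
  constructor
  · intro h
    refine ⟨eq_bot_iff.2 fun z hz => ?_, fun i hi => le_antisymm (fun z hz => ?_) ?_⟩
    · have := h (e - 1) (by omega) z hz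
      rwa [T_of_not A (by omega)] at this
    · have := h i (by omega) z hz
      rwa [T_of_le A hi] at this
    · rintro _ ⟨w, rfl⟩
      simp [Matrix.mulVec_mulVec, hA i hi]
  · rintro ⟨h1, h2⟩ i hi z hz
    by_cases h : i + 2 ≤ e
    · rw [T_of_le A h, ← h2 i h]; exact hz
    · obtain rfl : i = e - 1 := by omega
      rw [T_of_not A h, ← h1]; exact hz

end Groth.Agent.CAlgH3.BECriterion
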