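import Groth.Agent.CAlgH3.CechQis
import Mathlib.RingTheory.Ideal.AssociatedPrime.Finiteness
import Mathlib.RingTheory.Support
import Mathlib.Algebra.Homology.HomologySequenceLemmas

/-!
A chain level biduality map from local cohomology to `Hom(M^∨, Γ E)`; finiteness of one local
cohomology module from finiteness of the dual pieces.
-/

set_option autoImplicit false
set_option backward.isDefEq.respectTransparency false
set_option backward.isDefEq.respectTransparency.types false

universe u

open CategoryTheory CategoryTheory.Limits CochainComplex Abelian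
open Groth.Agent.CAlgH3.ExtCech Groth.Agent.CAlgH3.CechQis
open Groth.Agent.Misc15.Koszul (tor mem_tor)

namespace Groth.Agent.CAlgH3.BidualFinite

variable {R : Type u} [CommRing R]

section linear

variable {M N P : ModuleCat.{u} R}

theorem loc_hom_ext {K L : CochainComplex (ModuleCat.{u} R) ℤ} (f : R) (q : ℤ)
    (a b : ((DerCA.locCx (Submonoid.powers f)).obj K).X q →ₗ[R] ((DerCA.locCx (Submonoid.powers f)).obj L).X q)
    (h : ∀ c, a (((DerCA.locCxUnit (Submonoid.powers f) K).f q).hom c) =
      b (((DerCA.locCxUnit (Submonoid.powers f) K).f q).hom c))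
    (x : ((DerCA.locCx (Submonoid.powers f)).obj K).X q) : a x = b x := by
  obtain ⟨c, n, hc⟩ := exists_loc f K q x
  refine smul_pow_injective f L q n ?_
  simp only
  rw [← map_smul, ← map_smul, hc, h]

theorem loc_map_apply {K L : CochainComplex (ModuleCat.{u} R) ℤ} (a : K ⟶ L) (f : R) (q : ℤ) (c : K.X q) :
    (((DerCA.locCx (Submonoid.powers f)).map a).f q).hom (((DerCA.locCxUnit (Submonoid.powers f) K).f q).hom c) =
      ((DerCA.locCxUnit (Submonoid.powers f) L).f q).hom ((a.f q).hom c) :=
  congrArg (fun k => (k.f q).hom c) (locCxUnit_natural (Submonoid.powers f) a)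

theorem cMap_add_smul (r : R) (g h : M ⟶ N) : ∀ (fs : List R) (q : ℤ) (x : (DerCA.extCech M fs).X q),
    ((cMap (r • g + h) fs).f q).hom x = r • ((cMap g fs).f q).hom x + ((cMap h fs).f q).hom x
  | [], q, x => by
      rcases eq_or_ne q 0 with rfl | hq
      · show (((HomologicalComplex.single (ModuleCat.{u} R) (ComplexShape.up ℤ) 0).map (r • g + h)).f 0).hom x =
          r • (((HomologicalComplex.single (ModuleCat.{u} R) (ComplexShape.up ℤ) 0).map g).f 0).hom x +
            (((HomologicalComplex.single (ModuleCat.{u} R) (ComplexShape.up ℤ) 0).map h).f 0).hom x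
        simp only [HomologicalComplex.single_map_f_self, ModuleCat.hom_comp, ModuleCat.hom_add, ModuleCat.hom_smul,
          LinearMap.comp_apply, LinearMap.add_apply, LinearMap.smul_apply, map_add, map_smul]
      · haveI : Subsingleton ((DerCA.extCech N ([] : List R)).X q) :=
          ModuleCat.subsingleton_of_isZero (HomologicalComplex.isZero_single_obj_X _ _ _ _ hq)
        exact Subsingleton.elim _ _
  | f :: fs, q, x => by
      refine cocone_ext _ (show q - 1 + 1 = q by omega) ?_ ?_
      · rw [afst_add, afst_smul]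
        erw [afst_coconeMap, afst_coconeMap, afst_coconeMap]
        exact cMap_add_smul r g h fs q _
      · rw [asnd_add, asnd_smul]
        erw [asnd_coconeMap, asnd_coconeMap, asnd_coconeMap]
        exact loc_hom_ext f (q - 1) (((DerCA.locCx (Submonoid.powers f)).map (cMap (r • g + h) fs)).f (q - 1)).hom
          (r • (((DerCA.locCx (Submonoid.powers f)).map (cMap g fs)).f (q - 1)).hom +
            (((DerCA.locCx (Submonoid.powers f)).map (cMap h fs)).f (q - 1)).hom) (fun c => by
          rw [LinearMap.add_apply, LinearMap.smul_apply, loc_map_apply, loc_map_apply, loc_map_apply,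
            cMap_add_smul r g h fs (q - 1) c, map_add, map_smul]) _

theorem cMap_comp (g : M ⟶ N) (h : N ⟶ P) : ∀ (fs : List R) (q : ℤ) (x : (DerCA.extCech M fs).X q),
    ((cMap (g ≫ h) fs).f q).hom x = ((cMap h fs).f q).hom (((cMap g fs).f q).hom x)
  | [], q, x => by
      show (((HomologicalComplex.single (ModuleCat.{u} R) (ComplexShape.up ℤ) 0).map (g ≫ h)).f q).hom x = _
      rw [Functor.map_comp]
      rfl
  | f :: fs, q, x => by
      refine cocone_ext _ (show q - 1 + 1 = q by omega) ?_ ?_
      · erw [afst_coconeMap, afst_coconeMap, afst_coconeMap]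
        exact cMap_comp g h fs q _
      · erw [asnd_coconeMap, asnd_coconeMap, asnd_coconeMap]
        exact loc_hom_ext f (q - 1) (((DerCA.locCx (Submonoid.powers f)).map (cMap (g ≫ h) fs)).f (q - 1)).hom
          ((((DerCA.locCx (Submonoid.powers f)).map (cMap h fs)).f (q - 1)).hom.comp
            (((DerCA.locCx (Submonoid.powers f)).map (cMap g fs)).f (q - 1)).hom) (fun c => by
          rw [LinearMap.comp_apply, loc_map_apply, loc_map_apply, loc_map_apply, cMap_comp g h fs (q - 1) c]) _

theorem cMap_id : ∀ (fs : List R) (q : ℤ) (x : (DerCA.extCech M fs).X q), ((cMap (𝟙 M) fs).f q).hom x = x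
  | [], q, x => by
      show (((HomologicalComplex.single (ModuleCat.{u} R) (ComplexShape.up ℤ) 0).map (𝟙 M)).f q).hom x = _
      rw [CategoryTheory.Functor.map_id]
      rfl
  | f :: fs, q, x => by
      refine cocone_ext _ (show q - 1 + 1 = q by omega) ?_ ?_
      · erw [afst_coconeMap]
        exact cMap_id fs q _
      · erw [asnd_coconeMap]
        exact loc_hom_ext f (q - 1) (((DerCA.locCx (Submonoid.powers f)).map (cMap (𝟙 M) fs)).f (q - 1)).hom
          LinearMap.id (fun c => by rw [loc_map_apply, cMap_id fs (q - 1) c]; rfl) _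

/-- `cMap` as a linear map in the morphism. -/
noncomputable def cMapL (fs : List R) (q : ℤ) (x : (DerCA.extCech M fs).X q) :
    (M →ₗ[R] N) →ₗ[R] (DerCA.extCech N fs).X q where
  toFun φ := ((cMap (ModuleCat.ofHom φ) fs).f q).hom x
  map_add' φ ψ := by
    have h := cMap_add_smul (1 : R) (ModuleCat.ofHom φ) (ModuleCat.ofHom ψ) fs q x
    rw [one_smul, one_smul] at h
    exact h
  map_smul' r φ := by
    have h0 : ((cMap (0 : M ⟶ N) fs).f q).hom x = 0 := by
      have h := cMap_add_smul (1 : R) (0 : M ⟶ N) 0 fs q x
      rw [one_smul, one_smul, add_zero] at h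
      exact left_eq_add.1 h
    have h := cMap_add_smul r (ModuleCat.ofHom φ) 0 fs q x
    rw [add_zero, h0, add_zero] at h
    exact h

end linear

/-- `Hom(X, J)` as a complex. -/
noncomputable def homCx (J : CochainComplex (ModuleCat.{u} R) ℤ) (X : Type u) [AddCommGroup X] [Module R X] :
    CochainComplex (ModuleCat.{u} R) ℤ where
  X q := ModuleCat.of R (X →ₗ[R] J.X q)
  d p q := ModuleCat.ofHom (LinearMap.compRight R (J.d p q).hom)
  shape p q h := by
    ext φ x
    exact congrArg (fun k => k.hom (φ x)) (J.shape p q h)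
  d_comp_d' p q r _ _ := by
    ext φ x
    exact congrArg (fun k => k.hom (φ x)) (J.d_comp_d p q r)

variable {X Y Z : Type u} [AddCommGroup X] [Module R X] [AddCommGroup Y] [Module R Y] [AddCommGroup Z] [Module R Z]

/-- elements of the Hom complex are linear maps -/
abbrev toMap {J : CochainComplex (ModuleCat.{u} R) ℤ} {q : ℤ} (φ : (homCx J X).X q) : X →ₗ[R] J.X q := φ

theorem homCx_hom_ext {J : CochainComplex (ModuleCat.{u} R) ℤ} {K : CochainComplex (ModuleCat.{u} R) ℤ}
    {a b : K ⟶ homCx J X} (h : ∀ (q : ℤ) (c : K.X q) (x : X), toMap ((a.f q).hom c) x = toMap ((b.f q).hom c) x) :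
    a = b :=
  HomologicalComplex.hom_ext _ _ fun q => ModuleCat.hom_ext (LinearMap.ext fun c => LinearMap.ext fun x => h q c x)

/-- contravariance -/
noncomputable def homMap (J : CochainComplex (ModuleCat.{u} R) ℤ) (u : X →ₗ[R] Y) : homCx J Y ⟶ homCx J X where
  f q := ModuleCat.ofHom (LinearMap.lcomp R (J.X q) u)
  comm' _ _ _ := rfl

noncomputable def homShort (J : CochainComplex (ModuleCat.{u} R) ℤ) (u : X →ₗ[R] Y) (v : Y →ₗ[R] Z)
    (h : Function.Exact u v) : ShortComplex (CochainComplex (ModuleCat.{u} R) ℤ) :=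
  ShortComplex.mk (homMap J v) (homMap J u) (homCx_hom_ext fun q φ x =>
    (congrArg (toMap φ) (h.apply_apply_eq_zero x)).trans (map_zero (toMap φ)))

theorem homShort_shortExact (J : CochainComplex (ModuleCat.{u} R) ℤ) [∀ q, Injective (J.X q)]
    (u : X →ₗ[R] Y) (v : Y →ₗ[R] Z) (hu : Function.Injective u) (hv : Function.Surjective v)
    (h : Function.Exact u v) : (homShort J u v h).ShortExact := by
  refine HomologicalComplex.shortExact_of_degreewise_shortExact _ fun q => ?_
  haveI : Module.Injective R (J.X q) := (Module.injective_iff_injective_object R (J.X q)).2 inferInstance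
  refine { exact := (ShortComplex.ShortExact.moduleCat_exact_iff_function_exact _).2 ?_
           mono_f := (ModuleCat.mono_iff_injective _).2 fun φ ψ he => LinearMap.ext fun z => ?_
           epi_g := (ModuleCat.epi_iff_surjective _).2 fun φ => ?_ }
  · intro (φ : Y →ₗ[R] J.X q)
    constructor
    · intro hφ
      have hker : LinearMap.ker v ≤ LinearMap.ker φ := fun y hy => by
        obtain ⟨x, rfl⟩ := (h y).1 hy
        exact LinearMap.congr_fun hφ x
      let e := v.quotKerEquivOfSurjective hv
      refine ⟨((LinearMap.ker v).liftQ φ hker).comp e.symm.toLinearMap, LinearMap.ext fun y => ?_⟩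
      show (LinearMap.ker v).liftQ φ hker (e.symm (v y)) = φ y
      rw [show v y = e (Submodule.Quotient.mk y) from rfl, LinearEquiv.symm_apply_apply]
      rfl
    · rintro ⟨ψ, rfl⟩
      exact LinearMap.ext fun x => (congrArg (toMap ψ) (h.apply_apply_eq_zero x)).trans (map_zero (toMap ψ))
  · obtain ⟨y, rfl⟩ := hv z
    exact LinearMap.congr_fun he y
  · exact Module.Injective.extension_property R (J.X q) X Y u hu (toMap φ)

/-- the cohomology of `Hom(X, J)` -/
noncomputable abbrev T (J : CochainComplex (ModuleCat.{u} R) ℤ) (p : ℤ) (X : Type u) [AddCommGroup X] [Module R X] :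
    ModuleCat.{u} R := (homCx J X).homology p

section T

variable [IsNoetherianRing R] {J : CochainComplex (ModuleCat.{u} R) ℤ}

theorem finite_of_function_exact {A B C : Type u} [AddCommGroup A] [Module R A] [AddCommGroup B] [Module R B]
    [AddCommGroup C] [Module R C] (f : A →ₗ[R] B) (g : B →ₗ[R] C) (h : Function.Exact f g)
    [Module.Finite R A] [Module.Finite R C] : Module.Finite R B := by
  refine ⟨Submodule.fg_of_fg_map_of_fg_inf_ker g (IsNoetherian.noetherian _) ?_⟩
  rw [top_inf_eq, h.linearMap_ker_eq]
  exact Module.Finite.iff_fg.1 (Module.Finite.range f)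

theorem finite_of_exact {S : ShortComplex (ModuleCat.{u} R)} (hS : S.Exact) [Module.Finite R S.X₁]
    [Module.Finite R S.X₃] : Module.Finite R S.X₂ :=
  finite_of_function_exact S.f.hom S.g.hom ((ShortComplex.ShortExact.moduleCat_exact_iff_function_exact S).1 hS)

theorem finite_T_of_exact [∀ q, Injective (J.X q)] {u : X →ₗ[R] Y} {v : Y →ₗ[R] Z} (hu : Function.Injective u)
    (hv : Function.Surjective v) (h : Function.Exact u v) (p : ℤ) [Module.Finite R (T J p X)]
    [Module.Finite R (T J p Z)] : Module.Finite R (T J p Y) :=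
  @finite_of_exact _ _ _ _ ((homShort_shortExact J u v hu hv h).homology_exact₂ p) ‹_› ‹_›

theorem finite_T_congr (e : X ≃ₗ[R] Y) (p : ℤ) [Module.Finite R (T J p Y)] : Module.Finite R (T J p X) := by
  let i : homCx J Y ≅ homCx J X :=
    { hom := homMap J e.toLinearMap
      inv := homMap J e.symm.toLinearMap
      hom_inv_id := homCx_hom_ext fun q φ x => congrArg (toMap φ) (e.apply_symm_apply x)
      inv_hom_id := homCx_hom_ext fun q φ x => congrArg (toMap φ) (e.symm_apply_apply x) }
  exact Module.Finite.equiv (HomologicalComplex.homologyMapIso i p).toLinearEquiv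

theorem finite_T_of_isZero (p : ℤ) (h : Subsingleton ((homCx J X).X p)) : Module.Finite R (T J p X) := by
  haveI : Subsingleton ((homCx J X).cycles p) :=
    Function.Injective.subsingleton (f := ((homCx J X).iCycles p).hom) ((ModuleCat.mono_iff_injective _).1 inferInstance)
  exact Module.Finite.of_surjective ((homCx J X).homologyπ p).hom (homologyπ_surjective _ _)

end T

section resolution

variable [IsNoetherianRing R] (fs : List R) (Jr : InjectiveResolution (ModuleCat.of R R))

instance injective_tor (q : ℤ) : Injective ((torCx fs Jr.cochainComplex).X q) :=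
  injective_torCx fs Jr.cochainComplex q

theorem homCx_exactAt (F : Type u) [AddCommGroup F] [Module R F] [Module.Projective R F] (p : ℤ) (hp : p ≠ 0) :
    Subsingleton (T Jr.cochainComplex p F) := by
  refine subsingleton_of_forall_eq 0 fun c => ?_
  obtain ⟨z, rfl⟩ := homologyπ_surjective _ _ c
  rw [homologyπ_eq_zero_iff _ (p - 1) p (by omega)]
  set φ : F →ₗ[R] Jr.cochainComplex.X p := ((homCx Jr.cochainComplex F).iCycles p).hom z
  have hφ : (Jr.cochainComplex.d p (p + 1)).hom.comp φ = 0 :=
    congrArg (fun k => k.hom z) ((homCx Jr.cochainComplex F).iCycles_d p (p + 1))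
  have hrange : LinearMap.range φ ≤ LinearMap.range (Jr.cochainComplex.d (p - 1) p).hom := by
    rintro _ ⟨x, rfl⟩
    obtain ⟨a, w, ha, hw⟩ := (qi_of_quasiIso Jr.ι').surj (p - 1) p (p + 1) (by omega) rfl (φ x)
      (LinearMap.congr_fun hφ x)
    haveI := ModuleCat.subsingleton_of_isZero
      (HomologicalComplex.isZero_single_obj_X (ComplexShape.up ℤ) 0 (ModuleCat.of R R) p hp)
    refine ⟨w, ?_⟩
    haveI : Subsingleton (((CochainComplex.singleFunctor (ModuleCat.{u} R) 0).obj (ModuleCat.of R R)).X p) :=
      ‹Subsingleton _›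
    rw [hw, Subsingleton.elim a 0]
    erw [map_zero, zero_add]
  obtain ⟨ψ, hψ⟩ := Module.projective_lifting_property (Jr.cochainComplex.d (p - 1) p).hom.rangeRestrict
    (LinearMap.codRestrict _ φ fun x => hrange ⟨x, rfl⟩) (LinearMap.surjective_rangeRestrict _)
  exact ⟨ψ, LinearMap.ext fun x => congrArg Subtype.val (LinearMap.congr_fun hψ x)⟩

theorem finite_T_res : ∀ (n : ℕ) (p : ℤ), p ≤ n → ∀ (X : Type u) [AddCommGroup X] [Module R X] [Module.Finite R X],
    Module.Finite R (T Jr.cochainComplex p X) := by
  intro n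
  induction n with
  | zero =>
    intro p hp X _ _ _
    rcases hp.lt_or_eq with hp | hp
    · refine finite_T_of_isZero p ?_
      haveI := ModuleCat.subsingleton_of_isZero
        (CochainComplex.isZero_of_isStrictlyGE Jr.cochainComplex 0 p (by simpa using hp))
      exact ⟨fun a b => LinearMap.ext fun x => Subsingleton.elim _ _⟩
    · obtain rfl : p = 0 := by simpa using hp
      let v : (X →ₗ[R] R) →ₗ[R] T Jr.cochainComplex 0 X := by
        let e : (X →ₗ[R] R) →ₗ[R] (homCx Jr.cochainComplex X).cycles 0 := by
          let a : ModuleCat.of R (X →ₗ[R] R) ⟶ (homCx Jr.cochainComplex X).X 0 :=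
            ModuleCat.ofHom (LinearMap.compRight R ((HomologicalComplex.singleObjXSelf (ComplexShape.up ℤ) 0
              (ModuleCat.of R R)).inv ≫ Jr.ι'.f 0).hom)
          refine ((homCx Jr.cochainComplex X).liftCycles a 1 (CochainComplex.next _ _) ?_).hom
          refine ModuleCat.hom_ext (LinearMap.ext fun φ => LinearMap.ext fun x => ?_)
          have := congrArg (fun k => k.hom ((HomologicalComplex.singleObjXSelf (ComplexShape.up ℤ) 0
            (ModuleCat.of R R)).inv.hom (φ x))) (Jr.ι'.comm 0 1)
          refine this.trans ?_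
          show (Jr.ι'.f 1).hom ((((HomologicalComplex.single (ModuleCat.{u} R) (ComplexShape.up ℤ) 0).obj
            (ModuleCat.of R R)).d 0 1).hom _) = 0
          rw [HomologicalComplex.single_obj_d]
          exact map_zero _
        exact ((homCx Jr.cochainComplex X).homologyπ 0).hom.comp e
      haveI : Module.Finite R (X →ₗ[R] R) := by
        obtain ⟨m, f, hf⟩ := Module.Finite.exists_fin' R X
        exact Module.Finite.of_injective (LinearMap.lcomp R R f) (LinearMap.lcomp_injective_of_surjective f hf)
      refine Module.Finite.of_surjective v fun c => ?_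
      obtain ⟨z, rfl⟩ := homologyπ_surjective _ _ c
      set φ : X →ₗ[R] Jr.cochainComplex.X 0 := ((homCx Jr.cochainComplex X).iCycles 0).hom z
      have hφ : (Jr.cochainComplex.d 0 1).hom.comp φ = 0 :=
        congrArg (fun k => k.hom z) ((homCx Jr.cochainComplex X).iCycles_d 0 1)
      set a := ((HomologicalComplex.singleObjXSelf (ComplexShape.up ℤ) 0 (ModuleCat.of R R)).inv ≫ Jr.ι'.f 0).hom
      haveI := ModuleCat.subsingleton_of_isZero
        (CochainComplex.isZero_of_isStrictlyGE Jr.cochainComplex 0 (-1) (by omega))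
      have hainj : Function.Injective a := by
        refine (injective_iff_map_eq_zero a).2 fun r hr => ?_
        set s := (HomologicalComplex.singleObjXSelf (ComplexShape.up ℤ) 0 (ModuleCat.of R R)).inv.hom r
        obtain ⟨x', hx'⟩ := (qi_of_quasiIso Jr.ι').inj (-1) 0 1 (by omega) rfl s
          (by
            show (((HomologicalComplex.single (ModuleCat.{u} R) (ComplexShape.up ℤ) 0).obj (ModuleCat.of R R)).d 0 1).hom s = 0
            rw [HomologicalComplex.single_obj_d]; rfl) ⟨0, by rw [map_zero]; exact hr.symm⟩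
        have h0 : s = 0 := by
          rw [← hx']
          show (((HomologicalComplex.single (ModuleCat.{u} R) (ComplexShape.up ℤ) 0).obj (ModuleCat.of R R)).d (-1) 0).hom x' = 0
          rw [HomologicalComplex.single_obj_d]
          rfl
        exact (HomologicalComplex.singleObjXSelf (ComplexShape.up ℤ) 0 (ModuleCat.of R R)).symm.toLinearEquiv.injective
          (h0.trans (map_zero _).symm)
      have hsurj : ∀ x, ∃ r, a r = φ x := fun x => by
        obtain ⟨b, w, -, hw⟩ := (qi_of_quasiIso Jr.ι').surj (-1) 0 1 (by omega) rfl (φ x) (LinearMap.congr_fun hφ x)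
        refine ⟨(HomologicalComplex.singleObjXSelf (ComplexShape.up ℤ) 0 (ModuleCat.of R R)).hom.hom b, ?_⟩
        rw [hw, Subsingleton.elim w 0, map_zero, add_zero]
        exact congrArg (fun k => k.hom b) ((HomologicalComplex.singleObjXSelf (ComplexShape.up ℤ) 0
          (ModuleCat.of R R)).hom_inv_id_assoc (Jr.ι'.f 0))
      let ψ : X →ₗ[R] R := (LinearEquiv.ofInjective a hainj).symm.toLinearMap.comp
        (LinearMap.codRestrict _ φ fun x => hsurj x)
      refine ⟨ψ, congrArg ((homCx Jr.cochainComplex X).homologyπ 0).hom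
        ((ModuleCat.mono_iff_injective ((homCx Jr.cochainComplex X).iCycles 0)).1 inferInstance ?_)⟩
      refine (congrArg (fun (k : ModuleCat.of R (X →ₗ[R] R) ⟶ (homCx Jr.cochainComplex X).X 0) => k.hom ψ)
        (HomologicalComplex.liftCycles_i _ _ _ _ _)).trans (LinearMap.ext fun x => ?_)
      exact congrArg Subtype.val ((LinearEquiv.ofInjective a hainj).apply_symm_apply ⟨φ x, hsurj x⟩)
  | succ n ih =>
    intro p hp X _ _ _
    rcases hp.lt_or_eq with hp | hp
    · exact ih p (by push_cast at hp; omega) X
    · obtain ⟨m, f, hf⟩ := Module.Finite.exists_fin' R X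
      let K := LinearMap.ker f
      haveI := ih (p - 1) (by push_cast at hp; omega) K
      haveI := homCx_exactAt Jr (Fin m → R) p (by push_cast at hp; omega)
      have hS := homShort_shortExact Jr.cochainComplex K.subtype f K.injective_subtype hf
        (LinearMap.exact_subtype_ker_map f)
      have hex := hS.homology_exact₁ (p - 1) p (by simp)
      exact @finite_of_exact _ _ _ _ hex ‹_›
        (inferInstance : Module.Finite R (T Jr.cochainComplex p (Fin m → R)))

/-- torsion modules see the whole resolution -/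
theorem finite_T_torsion (X : Type u) [AddCommGroup X] [Module R X] [Module.Finite R X]
    (hX : ∀ x : X, x ∈ tor fs X) (p : ℤ) : Module.Finite R (T (torCx fs Jr.cochainComplex) p X) := by
  have hmem : ∀ (q : ℤ) (φ : X →ₗ[R] Jr.cochainComplex.X q) (x : X), φ x ∈ tor fs (Jr.cochainComplex.X q) :=
    fun q φ x => mem_tor.2 fun g hg => by
      obtain ⟨n, hn⟩ := mem_tor.1 (hX x) g hg
      exact ⟨n, by rw [← map_smul, hn, map_zero]⟩
  let i : homCx (torCx fs Jr.cochainComplex) X ≅ homCx Jr.cochainComplex X :=
    { hom := { f := fun q => ModuleCat.ofHom (LinearMap.compRight R (tor fs (Jr.cochainComplex.X q)).subtype)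
               comm' := fun _ _ _ => rfl }
      inv := { f := fun q => ModuleCat.ofHom
                { toFun := fun φ => LinearMap.codRestrict _ φ (hmem q φ)
                  map_add' := fun _ _ => rfl
                  map_smul' := fun _ _ => rfl }
               comm' := fun _ _ _ => rfl }
      hom_inv_id := homCx_hom_ext fun q φ x => rfl
      inv_hom_id := homCx_hom_ext fun q φ x => rfl }
  haveI := finite_T_res Jr p.toNat p (Int.self_le_toNat p) X
  exact Module.Finite.equiv (HomologicalComplex.homologyMapIso i p).symm.toLinearEquiv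

end resolution

section theta

variable {fs : List R} {J : CochainComplex (ModuleCat.{u} R) ℤ}
  (g : DerCA.extCech (ModuleCat.of R R) fs ⟶ J)

/-- the biduality map -/
noncomputable def theta (M : ModuleCat.{u} R) : DerCA.extCech M fs ⟶ homCx J (M →ₗ[R] R) where
  f q := ModuleCat.ofHom
    { toFun := fun x => (g.f q).hom.comp (cMapL (N := ModuleCat.of R R) fs q x)
      map_add' := fun x y => LinearMap.ext fun φ => by
        show (g.f q).hom (((cMap _ fs).f q).hom (x + y)) = _
        rw [map_add, map_add]; rfl
      map_smul' := fun r x => LinearMap.ext fun φ => by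
        show (g.f q).hom (((cMap _ fs).f q).hom (r • x)) = _
        rw [map_smul, map_smul]; rfl }
  comm' p q _ := by
    refine ModuleCat.hom_ext (LinearMap.ext fun x => LinearMap.ext fun φ => ?_)
    show (J.d p q).hom ((g.f p).hom (((cMap _ fs).f p).hom x)) =
      (g.f q).hom (((cMap _ fs).f q).hom (((DerCA.extCech M fs).d p q).hom x))
    rw [comm_apply g p q, comm_apply (cMap _ fs) p q]

theorem theta_f_apply (M : ModuleCat.{u} R) (q : ℤ) (x : (DerCA.extCech M fs).X q) (φ : M →ₗ[R] R) :
    toMap (((theta g M).f q).hom x) φ =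
      (g.f q).hom (((cMap (ModuleCat.ofHom φ : M ⟶ ModuleCat.of R R) fs).f q).hom x) := rfl

theorem theta_natural {M N : ModuleCat.{u} R} (u : M →ₗ[R] N) :
    theta g M ≫ homMap J (u.dualMap) = cMap (ModuleCat.ofHom u) fs ≫ theta g N := by
  refine homCx_hom_ext fun q x φ => ?_
  show toMap (((theta g M).f q).hom x) (φ.comp u) = _
  rw [theta_f_apply, show (ModuleCat.ofHom (φ.comp u) : M ⟶ ModuleCat.of R R) =
    ModuleCat.ofHom u ≫ (ModuleCat.ofHom φ : N ⟶ ModuleCat.of R R) from rfl, cMap_comp]
  rfl

/-- biduality for finite projective modules -/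
theorem qi_theta (hg : Qi g) (F : ModuleCat.{u} R) [Module.Finite R F] [Module.Projective R F] :
    Qi (theta g F) := by
  classical
  obtain ⟨n, f, hf⟩ := Module.Finite.exists_fin' R F
  obtain ⟨s, hs⟩ := Module.projective_lifting_property f (LinearMap.id : F →ₗ[R] F) hf
  let π : Fin n → (F →ₗ[R] R) := fun k => (LinearMap.proj k).comp s
  let e : Fin n → (R →ₗ[R] F) := fun k => LinearMap.toSpanSingleton R F (f (Pi.single k 1))
  have hsum : ∀ y : F, y = ∑ k, π k y • f (Pi.single k 1) := fun y => by
    conv_lhs => rw [show y = f (s y) from (LinearMap.congr_fun hs y).symm, pi_eq_sum_univ' (s y)]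
    rw [map_sum]
    exact Finset.sum_congr rfl fun k _ => map_smul _ _ _
  have hid : (LinearMap.id : F →ₗ[R] F) = ∑ k, (e k).comp (π k) := by
    refine LinearMap.ext fun y => ?_
    rw [LinearMap.sum_apply]
    exact hsum y
  have hdual : ∀ φ : F →ₗ[R] R, φ = ∑ k, φ (f (Pi.single k 1)) • π k := fun φ => LinearMap.ext fun y => by
    conv_lhs => rw [hsum y, map_sum]
    rw [LinearMap.sum_apply]
    exact Finset.sum_congr rfl fun k _ => by rw [map_smul, LinearMap.smul_apply, smul_eq_mul, smul_eq_mul, mul_comm]
  have hx : ∀ (q : ℤ) (x : (DerCA.extCech F fs).X q), x =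
      ∑ k, ((cMap (ModuleCat.ofHom (e k) : ModuleCat.of R R ⟶ F) fs).f q).hom
        (((cMap (ModuleCat.ofHom (π k) : F ⟶ ModuleCat.of R R) fs).f q).hom x) := fun q x => by
    refine (cMap_id fs q x).symm.trans ?_
    show cMapL (N := F) fs q x LinearMap.id = _
    rw [hid, map_sum]
    exact Finset.sum_congr rfl fun k _ => cMap_comp (ModuleCat.ofHom (π k) : F ⟶ ModuleCat.of R R)
      (ModuleCat.ofHom (e k) : ModuleCat.of R R ⟶ F) fs q x
  constructor
  · intro p q r hp hr x hx0 hy
    obtain ⟨w, hw⟩ := hy
    have hk : ∀ k, ∃ xk, ((DerCA.extCech (ModuleCat.of R R) fs).d p q).hom xk =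
        ((cMap (ModuleCat.ofHom (π k) : F ⟶ ModuleCat.of R R) fs).f q).hom x := fun k => by
      refine hg.inj p q r hp hr _ (by rw [comm_apply, hx0, map_zero]) ⟨toMap w (π k), ?_⟩
      exact LinearMap.congr_fun hw (π k)
    choose xk hxk using hk
    refine ⟨∑ k, ((cMap (ModuleCat.ofHom (e k) : ModuleCat.of R R ⟶ F) fs).f p).hom (xk k), ?_⟩
    rw [map_sum]
    refine (Finset.sum_congr rfl fun k _ => ?_).trans (hx q x).symm
    rw [comm_apply, hxk]
  · intro p q r hp hr y hy
    have hk : ∀ k, ∃ (xk : (DerCA.extCech (ModuleCat.of R R) fs).X q) (wk : J.X p),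
        ((DerCA.extCech (ModuleCat.of R R) fs).d q r).hom xk = 0 ∧
        toMap y (π k) = (g.f q).hom xk + (J.d p q).hom wk := fun k =>
      hg.surj p q r hp hr _ (LinearMap.congr_fun hy (π k))
    choose xk wk hxk hyk using hk
    refine ⟨∑ k, ((cMap (ModuleCat.ofHom (e k) : ModuleCat.of R R ⟶ F) fs).f q).hom (xk k),
      ∑ k, LinearMap.smulRight (LinearMap.applyₗ (f (Pi.single k 1))) (wk k), ?_, ?_⟩
    · rw [map_sum]
      exact Finset.sum_eq_zero fun k _ => by rw [comm_apply, hxk, map_zero]
    · refine LinearMap.ext fun φ => ?_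
      rw [LinearMap.add_apply, theta_f_apply, map_sum, map_sum]
      conv_lhs => rw [hdual φ, map_sum]
      show _ = _ + (J.d p q).hom ((∑ k, LinearMap.smulRight (LinearMap.applyₗ (f (Pi.single k 1))) (wk k)) φ)
      rw [LinearMap.sum_apply, map_sum, ← Finset.sum_add_distrib]
      refine Finset.sum_congr rfl fun k _ => ?_
      rw [map_smul, hyk, smul_add, LinearMap.smulRight_apply, map_smul]
      congr 1
      rw [← cMap_comp, show (ModuleCat.ofHom (e k) : ModuleCat.of R R ⟶ F) ≫
          (ModuleCat.ofHom φ : F ⟶ ModuleCat.of R R) = φ (f (Pi.single k 1)) • 𝟙 (ModuleCat.of R R) + 0 from by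
        rw [add_zero]
        ext
        simp [e]]
      rw [cMap_add_smul, cMap_id]
      have h0 : ((cMap (0 : ModuleCat.of R R ⟶ ModuleCat.of R R) fs).f q).hom (xk k) = 0 :=
        map_zero (cMapL (N := ModuleCat.of R R) fs q (xk k))
      rw [h0, add_zero, map_smul]

end theta

end Groth.Agent.CAlgH3.BidualFinite
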