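import Groth.Agent.CAlgH3.PuncturedCoh
import Groth.Agent.H8Lim.FibreDimVanish
import Groth.Agent.BlowUpLib.Proper
import Groth.Agent.BlowUpLib.StrictImage
import Groth.Agent.FlatMorAdm.ExtendLocFree
import Groth.Agent.Coherent.QcohOps
import Groth.Prelude.Def_Dual3
import Groth.Prelude.Def_CurvBase

/-! `cd(A, I)` is at most one more than the fibre dimension of the blow-up in `I`. -/

set_option autoImplicit false
set_option backward.isDefEq.respectTransparency.types false
set_option linter.style.haveILetI false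
universe u

open CategoryTheory AlgebraicGeometry TopologicalSpace

namespace Groth.Agent.CAlgH3.BlowUpCd

variable {A : Type u} [CommRing A]

theorem support_idealSheaf (I : Ideal A) :
    ((Curv2.idealSheaf A I).support : Set (Spec (CommRingCat.of A))) = PrimeSpectrum.zeroLocus (I : Set A) := by
  rw [Curv2.idealSheaf, Scheme.IdealSheafData.coe_support_ofIdealTop, Spec_zeroLocus, ← Ideal.coe_comap]
  congr 2
  exact Ideal.comap_map_of_bijective _ (ConcreteCategory.bijective_of_isIso _)

theorem main [IsNoetherianRing A] (I : Ideal A) {X : Scheme.{u}} (b : X ⟶ Spec (CommRingCat.of A))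
    (hb : BlowUp.IsBlowUp b (Curv2.idealSheaf A I)) (d : ℕ) (hd : Dual3.FibreDimLE b d) :
    _root_.LocCoh.CdLE A I (d + 1) := by
  intro M _ _ i hi
  obtain ⟨q, rfl⟩ : ∃ q, i = q + 1 + 1 := ⟨i - 2, by omega⟩
  let R := CommRingCat.of A
  haveI : IsNoetherianRing R := ‹IsNoetherianRing A›
  let U : (Spec R).Opens := _root_.LocCoh.puncturedOpen A I
  obtain ⟨e⟩ := PuncturedCoh.nonempty_main (R := R) I (ModuleCat.of R M) q
  let F := (tilde (ModuleCat.of R M)).restrict U.ι
  suffices Subsingleton (Coh.HH U F (q + 1)) from e.symm.toEquiv.subsingleton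
  have hsupp := support_idealSheaf I
  have hW : Disjoint ((Curv2.idealSheaf A I).support : Set (Spec R)) (U : Set (Spec R)) := by
    rw [hsupp]
    exact Set.disjoint_left.2 fun x hx hx' => hx' hx
  haveI : IsIso (b ∣_ U) := ProjLib.isIso_morphismRestrict hb U hW
  haveI : IsProper b := BlowUpLib.isProper_of_isBlowUp hb (FlatMorAdm.isFiniteTypeIdeal_of_noetherian _)
  haveI : IsAffineHom (b ⁻¹ᵁ U).ι := by
    refine BlowUpLib.isAffineHom_compl_ι hb.1 _ ?_
    rw [Scheme.IdealSheafData.support_comap, Closeds.coe_preimage, hsupp, ← Set.preimage_compl]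
    rfl
  let g : (U : Scheme.{u}) ⟶ X := inv (b ∣_ U) ≫ (b ⁻¹ᵁ U).ι
  haveI : IsAffineHom g := inferInstanceAs (IsAffineHom (inv (b ∣_ U) ≫ (b ⁻¹ᵁ U).ι))
  haveI : Coh.IsQCoh F := inferInstance
  haveI : Coh.IsQCoh ((Coh.push g).obj F) := Coherent.isQCoh_push g F
  haveI := H8Lim.subsingleton_HH_of_fibre_dim b d hd ((Coh.push g).obj F) (q + 1) (by omega)
  exact (Coherent.HHAffinePushEquiv g F (q + 1)).toEquiv.subsingleton

end Groth.Agent.CAlgH3.BlowUpCd
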