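import Groth.Agent.CAlgH3.CompletionHull
import Groth.Agent.CommAlg6.CompletionEquidim
import Groth.Agent.LocCoh.CanonicalCM
import Groth.Agent.GrSectLib.DenseSubring
import Groth.Agent.FlatCrit.SupportBC

/-! Canonical modules of arbitrary Noetherian local rings: annihilator and support. -/

set_option autoImplicit false

universe u

open IsLocalRing TensorProduct CategoryTheory CategoryTheory.Abelian

namespace Groth.Agent.CAlgH3.CanonicalGeneral

open LocCoh (Hmap)

/-- A complete Noetherian local ring is an image of a Gorenstein local ring. -/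
theorem exists_gorenstein_cover (R : Type u) [CommRing R] [IsLocalRing R] [IsNoetherianRing R]
    [IsAdicComplete (maximalIdeal R) R] :
    ∃ (R' : Type u) (_ : CommRing R') (f : R' →+* R),
      _root_.LocCoh.IsGorensteinLocalRing R' ∧ Function.Surjective f := by
  obtain ⟨Λ, _, φ, hreg, hres, -⟩ := CAlgH.exists_coefficient_ring R
  obtain ⟨n, a, ha⟩ := Submodule.fg_iff_exists_fin_generating_family.mp
    (IsNoetherian.noetherian (maximalIdeal R))
  have hI : ∀ i, a i ∈ maximalIdeal R := fun i => ha ▸ Submodule.subset_span ⟨i, rfl⟩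
  obtain ⟨f, hfC, hfX⟩ := CAlgH.exists_mvPowerSeries_eval φ (maximalIdeal R) a hI
  haveI := (CAlgH.isRegularLocalRing_mvPowerSeries Λ n).1
  refine ⟨MvPowerSeries (Fin n) Λ, inferInstance, f, GrSectLib.gorenstein_of_regular _, ?_⟩
  exact CAlgH.surjective_mvPowerSeries_hom f (maximalIdeal R) (fun i => (hfX i).symm ▸ hI i) (by
    rw [show (fun i => f (MvPowerSeries.X i)) = a from funext hfX, hfC,
      show Ideal.span (Set.range a) = maximalIdeal R from ha]
    exact hres)

section image

variable {R' R : Type u} [CommRing R'] [_root_.LocCoh.IsGorensteinLocalRing R'] [CommRing R]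
  [IsNoetherianRing R] [IsLocalRing R] (g : R' →+* R) (hg : Function.Surjective g)
include hg

/-- Below `dim R/P`, local cohomology is killed outside `P`. -/
theorem exists_ann_not_mem (X : Type u) [AddCommGroup X] [Module R X] [Module.Finite R X]
    (P : Ideal R) [P.IsPrime] {i : ℕ} (hi : (i : WithBot ℕ∞) < ringKrullDim (R ⧸ P)) :
    ∃ s ∉ P, ∀ x : _root_.LocCoh.H (maximalIdeal R) i X, s • x = 0 := by
  letI : Algebra R' R := g.toAlgebra
  letI : Module R' X := Module.compHom X g
  haveI : IsScalarTower R' R X := IsScalarTower.of_algebraMap_smul fun _ _ => rfl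
  haveI : Module.Finite R' R := Module.Finite.of_surjective (Algebra.linearMap R' R) hg
  haveI : Module.Finite R' X := Module.Finite.trans R X
  obtain ⟨h, hh⟩ := LocCoh.exists_dim_eq (R := R')
  obtain ⟨e, he⟩ := LocCoh.ringKrullDim_quotient_exists (P.comap g)
  obtain ⟨a, ha, hae⟩ := LocCoh.exists_height_eq hh (P.comap g) he
  have hie : i < e := by
    have hs : Function.Surjective ((Ideal.Quotient.mk P).comp g) := Ideal.Quotient.mk_surjective.comp hg
    have hd : ringKrullDim (R' ⧸ P.comap g) = ringKrullDim (R ⧸ P) := by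
      refine ringKrullDim_eq_of_ringEquiv ((Ideal.quotEquivOfEq ?_).trans
        (RingHom.quotientKerEquivOfSurjective hs))
      rw [← RingHom.comap_ker, Ideal.mk_ker]
    rw [← hd, he] at hi
    exact_mod_cast hi
  have hK : LocCoh.ExtKilledAt X (h - i) (P.comap g) :=
    (LocCoh.extKilledAt_iff _ ha (h - i)).2 fun j hj => absurd hj (by omega)
  classical
  obtain ⟨S, hS⟩ := (Module.Finite.fg_top :
    (⊤ : Submodule R' (Ext (ModuleCat.of R' X) (ModuleCat.of R' R') (h - i))).FG)
  choose s hs hs' using hK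
  have hmem : ∀ z, (∏ w ∈ S, s w) • z = (0 : Ext (ModuleCat.of R' X) (ModuleCat.of R' R') (h - i)) := by
    intro z
    have hz : z ∈ Submodule.span R' (S : Set _) := by rw [hS]; trivial
    induction hz using Submodule.span_induction with
    | mem z hz => rw [show (∏ w ∈ S, s w) = (∏ w ∈ S.erase z, s w) * s z from
        (Finset.prod_erase_mul S s hz).symm, mul_smul, hs', smul_zero]
    | zero => rw [smul_zero]
    | add u v _ _ hu hv => rw [smul_add, hu, hv, add_zero]
    | smul c u _ hu => rw [smul_comm, hu, smul_zero]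
  have hnot : ∏ w ∈ S, s w ∉ P.comap g := fun hc => by
    obtain ⟨z, -, hz⟩ := (Ideal.IsPrime.prod_mem_iff (hp := (inferInstance : (P.comap g).IsPrime))).1 hc
    exact hs z hz
  refine ⟨g (∏ w ∈ S, s w), hnot, ?_⟩
  obtain ⟨E, _, _, hE⟩ := Matlis6.exists_isHullAt (maximalIdeal R')
  obtain ⟨d⟩ := LocCoh.gorenstein_duality hh hE (h - i) i (by omega) X
  obtain ⟨φ, hφ⟩ : ∃ φ : _root_.LocCoh.H (maximalIdeal R) i X ≃+ _root_.LocCoh.H (maximalIdeal R') i X,
      ∀ (r : R') (x : _root_.LocCoh.H (maximalIdeal R) i X), φ (algebraMap R' R r • x) = r • φ x := by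
    rw [← IsLocalRing.map_maximalIdeal_of_surjective (algebraMap R' R) hg]
    exact LocCoh.exists_H_independence R' R (maximalIdeal R') i X
  intro x
  apply φ.injective
  rw [show g (∏ w ∈ S, s w) = algebraMap R' R (∏ w ∈ S, s w) from rfl, hφ, map_zero]
  apply d.injective
  rw [map_smul, map_zero]
  refine LinearMap.ext fun z => ?_
  rw [LinearMap.smul_apply, ← map_smul, hmem, map_zero, LinearMap.zero_apply]

/-- An element killing `H^n_m(R)` vanishes at the primes of maximal dimension. -/
theorem exists_mul_eq_zero_of_kill_image {n : ℕ} (hn : ringKrullDim R = n) (a : R)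
    (hkill : ∀ x : _root_.LocCoh.H (maximalIdeal R) n R, a • x = 0)
    (P : Ideal R) [P.IsPrime] (hP : ringKrullDim (R ⧸ P) = n) : ∃ t ∉ P, t * a = 0 := by
  by_contra hcon
  push Not at hcon
  set N : Submodule R R := Ideal.span {a} with hN
  have hann : Module.annihilator R N ≤ P := fun t ht => by
    by_contra htP
    exact hcon t htP (congrArg Subtype.val
      (Module.mem_annihilator.1 ht ⟨a, Ideal.mem_span_singleton_self a⟩))
  have hNd : Module.supportDim R N ≤ n :=
    (Module.supportDim_le_ringKrullDim R N).trans hn.le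
  obtain ⟨χ, hχ⟩ : ∃ χ : N →ₗ[R] R ⧸ P, χ ≠ 0 := by
    by_contra h
    push Not at h
    haveI : Nontrivial (R ⧸ P) := Ideal.Quotient.nontrivial_iff.2 Ideal.IsPrime.ne_top'
    refine not_subsingleton (R ⧸ P) (S5163.result R N (R ⧸ P) (fun q hq => ?_) ⟨fun a b => by rw [h a, h b]⟩)
    rw [Module.support_eq_zeroLocus, Ideal.annihilator_quotient] at hq
    rw [Module.support_eq_zeroLocus]
    exact fun x hx => hq (hann hx)
  obtain ⟨s₀, hs₀, hs₀'⟩ : ∃ s ∉ P, ∀ x : _root_.LocCoh.H (maximalIdeal R) n N, s • x = 0 := by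
    -- `H^n(N) → H^n(R)` vanishes
    let π : R →ₗ[R] N := (a • (LinearMap.id : R →ₗ[R] R)).codRestrict N fun r =>
      Ideal.mem_span_singleton'.2 ⟨r, mul_comm r a⟩
    have hπ : Function.Surjective π := fun ⟨x, hx⟩ => by
      obtain ⟨r, hr⟩ := Ideal.mem_span_singleton'.1 hx
      exact ⟨r, Subtype.ext (show a * r = x by rw [mul_comm]; exact hr)⟩
    have hzero : ∀ y : _root_.LocCoh.H (maximalIdeal R) n N, Hmap (maximalIdeal R) n N.subtype y = 0 := fun y => by
      obtain ⟨x, rfl⟩ := LocCoh.Hmap_surjective_of_surjective hπ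
        ((Module.supportDim_le_ringKrullDim R R).trans hn.le) y
      rw [← LinearMap.comp_apply, ← LocCoh.Hmap_comp,
        show N.subtype.comp π = a • (LinearMap.id : R →ₗ[R] R) from rfl, LocCoh.Hmap_smul, LocCoh.Hmap_id]
      exact hkill x
    rcases n with _ | k
    · refine ⟨1, Ideal.IsPrime.one_notMem inferInstance, fun y => ?_⟩
      rw [one_smul]
      exact LocCoh.Hmap_zero_injective N.injective_subtype (Submodule.mkQ_surjective N)
        (LinearMap.exact_subtype_mkQ N) ((hzero y).trans (map_zero _).symm)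
    · obtain ⟨s, hs, hs'⟩ := exists_ann_not_mem g hg (R ⧸ N) P (i := k)
        (by rw [hP]; exact_mod_cast Nat.lt_succ_self k)
      refine ⟨s, hs, fun y => ?_⟩
      obtain ⟨z, rfl⟩ := (LocCoh.connecting_Hmap_exact N.injective_subtype (Submodule.mkQ_surjective N)
        (LinearMap.exact_subtype_mkQ N) k y).1 (hzero y)
      rw [← map_smul, hs', map_zero]
  -- `H^n(R/P)` would be zero
  have hsurj : Function.Surjective (Hmap (maximalIdeal R) n χ) := fun y => by
    haveI := LocCoh.subsingleton_H_of_supportDim_lt (I := maximalIdeal R)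
      (LocCoh.supportDim_coker_lt P hP.le χ hχ)
    obtain ⟨z, rfl⟩ := (LocCoh.Hmap_exact (LinearMap.range χ).injective_subtype (Submodule.mkQ_surjective _)
      (LinearMap.exact_subtype_mkQ _) n y).1 (Subsingleton.elim _ _)
    obtain ⟨w, rfl⟩ := LocCoh.Hmap_surjective_of_surjective (LinearMap.surjective_rangeRestrict χ) hNd z
    exact ⟨w, by rw [← LinearMap.comp_apply, ← LocCoh.Hmap_comp]; rfl⟩
  haveI : IsLocalRing (R ⧸ P) := IsLocalRing.of_surjective' _ Ideal.Quotient.mk_surjective
  have hdim : Module.supportDim R (R ⧸ P) = n := by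
    rw [Module.supportDim_quotient_eq_ringKrullDim, hP]
  have hsm : Function.Surjective fun x : _root_.LocCoh.H (maximalIdeal R) n (R ⧸ P) => s₀ • x := by
    refine LocCoh.smul_H_surjective s₀ hdim.le ?_
    refine LocCoh.supportDim_lt_of_forall _ n fun q hq => ?_
    rw [Module.support_eq_zeroLocus] at hq
    have hPq : P ≤ q.asIdeal := fun r hr => hq (Module.mem_annihilator.2 fun z => by
      obtain ⟨z, rfl⟩ := Submodule.Quotient.mk_surjective _ z
      obtain ⟨z, rfl⟩ := Ideal.Quotient.mk_surjective z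
      rw [← Submodule.Quotient.mk_smul, Algebra.smul_def, Ideal.Quotient.algebraMap_eq, ← map_mul,
        Ideal.Quotient.eq_zero_iff_mem.2 (Ideal.mul_mem_right _ _ hr)]
      rfl)
    have hsq : s₀ ∈ q.asIdeal := hq (Module.mem_annihilator.2 fun z => by
      obtain ⟨z, rfl⟩ := Submodule.Quotient.mk_surjective _ z
      rw [← Submodule.Quotient.mk_smul, Submodule.Quotient.mk_eq_zero]
      exact Submodule.smul_mem_pointwise_smul z s₀ ⊤ trivial)
    exact LocCoh.lt_of_add_one_le hP.le (CAlgH3.ringKrullDim_quotient_add_one_le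
      (lt_of_le_of_ne hPq fun e => hs₀ (e ▸ hsq)))
  haveI := LocCoh.nontrivial_H_supportDim (R ⧸ P) n hdim
  refine not_subsingleton (_root_.LocCoh.H (maximalIdeal R) n (R ⧸ P)) (subsingleton_of_forall_eq 0 fun y => ?_)
  obtain ⟨x, rfl⟩ := hsm y
  obtain ⟨w, rfl⟩ := hsurj x
  show s₀ • Hmap (maximalIdeal R) n χ w = 0
  rw [← map_smul, hs₀', map_zero]

end image

section general

variable {R : Type u} [CommRing R] [IsNoetherianRing R] [IsLocalRing R] {n : ℕ}

/-- The same over any Noetherian local ring. -/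
theorem exists_mul_eq_zero_of_kill_aux {B : Type u} [CommRing B] [IsNoetherianRing B] [IsLocalRing B]
    [IsAdicComplete (maximalIdeal B) B] [Algebra R B] [Module.Flat R B] (hB : CompletionHull.IsCplLike R B)
    (hn : ringKrullDim R = n) (hnB : ringKrullDim B = n) (a : R)
    (hkill : ∀ x : _root_.LocCoh.H (maximalIdeal R) n R, a • x = 0)
    (p : Ideal R) [p.IsPrime] (hp : ringKrullDim (R ⧸ p) = n)
    (hdim : ringKrullDim (B ⧸ p.map (algebraMap R B)) = ringKrullDim (R ⧸ p)) :
    ∃ t ∉ p, t * a = 0 := by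
  obtain ⟨R', _, f, hG, hf⟩ := exists_gorenstein_cover B
  obtain ⟨ψ, hψ⟩ := CompletionHull.exists_H_completion hB n R
  let δ := LocCoh.Hequiv (maximalIdeal B) n (TensorProduct.AlgebraTensorModule.rid R B B)
  have hkillB : ∀ y : _root_.LocCoh.H (maximalIdeal B) n B, algebraMap R B a • y = 0 := fun y => by
    obtain ⟨z, rfl⟩ := δ.surjective y
    obtain ⟨x, rfl⟩ := ψ.surjective z
    rw [← map_smul, ← hψ, hkill, map_zero, map_zero]
  have hne : p.map (algebraMap R B) ≠ ⊤ := fun h => by
    rw [h, hp] at hdim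
    haveI : Subsingleton (B ⧸ (⊤ : Ideal B)) := Ideal.Quotient.subsingleton_iff.2 rfl
    rw [ringKrullDim_eq_bot_of_subsingleton] at hdim
    exact WithBot.bot_ne_coe hdim
  obtain ⟨Q, hQ, hQd⟩ := CommAlg6.exists_minimal_ringKrullDim_eq hne
  haveI := hQ.1.1
  obtain ⟨t, ht, hta⟩ := exists_mul_eq_zero_of_kill_image f hf hnB (algebraMap R B a) hkillB Q
    (hQd.trans (hdim.trans hp))
  by_contra hcon
  push Not at hcon
  -- the annihilator of `a` in `B` is extended from `R`
  let μ : R →ₗ[R] R := a • LinearMap.id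
  have hker : LinearMap.ker μ ≤ p := fun r hr => by
    by_contra hrp
    exact hcon r hrp (by rw [mul_comm]; exact hr)
  have he : Function.Exact (LinearMap.ker μ).subtype μ := LinearMap.exact_subtype_ker_map μ
  obtain ⟨z, hz⟩ := ((Module.Flat.lTensor_exact B he) (t ⊗ₜ[R] (1 : R))).1 (by
    rw [LinearMap.lTensor_tmul]
    apply (TensorProduct.rid R B).injective
    rw [map_zero]
    show (a • (1 : R)) • t = 0
    rw [smul_eq_mul, mul_one, Algebra.smul_def, mul_comm]
    exact hta)
  have hmem : TensorProduct.rid R B ((LinearMap.ker μ).subtype.lTensor B z) ∈ p.map (algebraMap R B) := by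
    clear hz
    induction z using TensorProduct.induction_on with
    | zero => rw [map_zero, map_zero]; exact zero_mem _
    | add u v hu hv => rw [map_add, map_add]; exact add_mem hu hv
    | tmul b r =>
      rw [LinearMap.lTensor_tmul, TensorProduct.rid_tmul, Algebra.smul_def]
      exact Ideal.mul_mem_right _ _ (Ideal.mem_map_of_mem _ (hker r.2))
  rw [hz, TensorProduct.rid_tmul, one_smul] at hmem
  exact ht (hQ.1.2 hmem)

theorem exists_mul_eq_zero_of_kill (hn : ringKrullDim R = n) (a : R)
    (hkill : ∀ x : _root_.LocCoh.H (maximalIdeal R) n R, a • x = 0)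
    (p : Ideal R) [p.IsPrime] (hp : ringKrullDim (R ⧸ p) = n) : ∃ t ∉ p, t * a = 0 := by
  haveI := Matlis6.isNoetherianRing_adicCompletion (maximalIdeal R)
  haveI : IsAdicComplete (maximalIdeal (AdicCompletion (maximalIdeal R) R))
      (AdicCompletion (maximalIdeal R) R) :=
    AdicCompletion.isAdicComplete_of_fg (maximalIdeal R).fg_of_isNoetherianRing
  exact exists_mul_eq_zero_of_kill_aux (CompletionHull.isCplLike_adicCompletion R) hn
    ((LocCoh.ringKrullDim_adicCompletion R).trans hn) a hkill p hp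
    (CommAlg6.ringKrullDim_quotient_map_eq (CommAlg6.ringKrullDim_fibre_completion R) Ideal.IsPrime.ne_top')

end general

section canonical

variable {R : Type u} [CommRing R] [IsNoetherianRing R] [IsLocalRing R] {n : ℕ}
  {E : Type u} [AddCommGroup E] [Module R E] {K : Type u} [AddCommGroup K] [Module R K] [Module.Finite R K]

/-- The annihilators of a canonical module and of `H^n_m(R)`. -/
theorem annihilator_eq (hn : ringKrullDim R = n) (hE : Matlis6.IsHullAt (maximalIdeal R) E)
    (eK : (K →ₗ[R] E) ≃ₗ[R] _root_.LocCoh.H (maximalIdeal R) n R)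
    (u : Ideal R) (hu : Module.supportDim R u < n)
    (humax : ∀ b : Ideal R, Module.supportDim R b < n → b ≤ u) :
    Module.annihilator R K = u ∧ Module.annihilator R (_root_.LocCoh.H (maximalIdeal R) n R) = u := by
  have hKH : Module.annihilator R (_root_.LocCoh.H (maximalIdeal R) n R) = Module.annihilator R K := by
    rw [← eK.annihilator_eq, LocCoh.annihilator_dual hE]
  suffices hH : Module.annihilator R (_root_.LocCoh.H (maximalIdeal R) n R) = u from ⟨hKH ▸ hH, hH⟩
  refine le_antisymm (fun a ha => humax (Ideal.span {a}) ?_ (Ideal.mem_span_singleton_self a))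
    fun a ha => Module.mem_annihilator.2 fun x => ?_
  · refine LocCoh.supportDim_lt_of_forall _ n fun q hq => lt_of_le_of_ne
      ((ringKrullDim_quotient_le _).trans hn.le) fun heq => ?_
    obtain ⟨t, ht, hta⟩ := exists_mul_eq_zero_of_kill hn a (Module.mem_annihilator.1 ha) q.asIdeal heq
    rw [Module.support_eq_zeroLocus] at hq
    refine ht (hq (Module.mem_annihilator.2 fun z => Subtype.ext ?_))
    obtain ⟨r, hr⟩ := Ideal.mem_span_singleton'.1 z.2
    show t * (z : R) = 0
    rw [← hr, mul_left_comm, hta, mul_zero]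
  · let π : R →ₗ[R] u := (a • (LinearMap.id : R →ₗ[R] R)).codRestrict u fun r => u.mul_mem_right r ha
    haveI : Subsingleton (_root_.LocCoh.H (maximalIdeal R) n u) := LocCoh.subsingleton_H_of_supportDim_lt hu
    have h1 : LocCoh.Hmap (maximalIdeal R) n ((Submodule.subtype u).comp π) x = 0 := by
      rw [LocCoh.Hmap_comp, LinearMap.comp_apply,
        Subsingleton.elim (LocCoh.Hmap (maximalIdeal R) n π x) 0, map_zero]
    rw [show (Submodule.subtype u).comp π = a • (LinearMap.id : R →ₗ[R] R) from rfl,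
      LocCoh.Hmap_smul, LocCoh.Hmap_id] at h1
    exact h1

/-- The height of a prime of a larger ring in a quotient. -/
theorem le_of_support_aux {B : Type u} [CommRing B] [IsNoetherianRing B] [IsLocalRing B]
    [IsAdicComplete (maximalIdeal B) B] [Algebra R B] [Module.Flat R B] (hB : CompletionHull.IsCplLike R B)
    (hnB : ringKrullDim B = n) (hE : Matlis6.IsHullAt (maximalIdeal R) E)
    (eK : (K →ₗ[R] E) ≃ₗ[R] _root_.LocCoh.H (maximalIdeal R) n R)
    (p : PrimeSpectrum R) (hp : p ∈ Module.support R K)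
    (hdim : ringKrullDim (B ⧸ p.asIdeal.map (algebraMap R B)) = ringKrullDim (R ⧸ p.asIdeal)) :
    (n : WithBot ℕ∞) ≤ (p.asIdeal.height : WithBot ℕ∞) + ringKrullDim (R ⧸ p.asIdeal) := by
  haveI := CompletionHull.faithfullyFlat hB
  obtain ⟨EB, _, _, hEB⟩ := Matlis6.exists_isHullAt (maximalIdeal B)
  obtain ⟨eB⟩ := CompletionHull.exists_canonical_completion hB hE hEB eK
  haveI : IsLocalHom (algebraMap R B) :=
    ((local_hom_TFAE (algebraMap R B)).out 0 2 rfl rfl).2 hB.1.ge
  have hne : p.asIdeal.map (algebraMap R B) ≠ ⊤ := fun h =>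
    (maximalIdeal.isMaximal B).ne_top (top_le_iff.1 (h ▸
      (Ideal.map_mono (le_maximalIdeal p.2.ne_top)).trans CommAlg6.map_maximalIdeal_le))
  obtain ⟨P, hP, hPd⟩ := CommAlg6.exists_minimal_ringKrullDim_eq hne
  haveI := hP.1.1
  haveI : P.LiesOver p.asIdeal := ⟨(CommAlg6.under_eq_of_mem_minimalPrimes p.asIdeal hP).symm⟩
  have hsupp : (⟨P, hP.1.1⟩ : PrimeSpectrum B) ∈ Module.support B (B ⊗[R] K) := by
    rw [FlatCrit.mem_support_baseChange_iff]
    have e : PrimeSpectrum.comap (algebraMap R B) ⟨P, hP.1.1⟩ = p :=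
      PrimeSpectrum.ext (CommAlg6.under_eq_of_mem_minimalPrimes p.asIdeal hP)
    rwa [e]
  haveI : Nontrivial (LocalizedModule P.primeCompl (B ⊗[R] K)) := hsupp
  obtain ⟨Q, hQ, hQP⟩ : ∃ Q ∈ associatedPrimes B (B ⊗[R] K), Q ≤ P := by
    rw [Module.support_eq_zeroLocus] at hsupp
    obtain ⟨Q, hQ, hQP⟩ := Ideal.exists_minimalPrimes_le (J := P) hsupp
    exact ⟨Q, Module.associatedPrimes.minimalPrimes_annihilator_subset_associatedPrimes B _ hQ, hQP⟩
  rw [LocCoh.associatedPrimes_canonical hnB hEB eB] at hQ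
  obtain ⟨hQp, hQd⟩ := hQ
  haveI := hQp
  have hcat := CommAlg6.isCatenary_of_isAdicComplete B
  have h1 := CommAlg6.hq_add_eq hcat hQP (le_maximalIdeal (Ideal.IsPrime.ne_top hP.1.1))
  have h2 : P.height = p.asIdeal.height := by
    rw [Ideal.height_eq_height_add_of_liesOver_of_hasGoingDown p.asIdeal P,
      CommAlg6.height_map_mk_eq_zero hP, add_zero]
  calc (n : WithBot ℕ∞) = ((LocCoh.hq Q (maximalIdeal B) : ℕ∞) : WithBot ℕ∞) := by
        rw [CommAlg6.hq_eq_ringKrullDim_quotient, hQd]
    _ = ((LocCoh.hq Q P : ℕ∞) : WithBot ℕ∞) + ringKrullDim (B ⧸ P) := by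
        rw [← h1, WithBot.coe_add, CommAlg6.hq_eq_ringKrullDim_quotient]
    _ ≤ (p.asIdeal.height : WithBot ℕ∞) + ringKrullDim (R ⧸ p.asIdeal) := by
        rw [← hdim, hPd, ← h2]
        exact add_le_add_left (WithBot.coe_le_coe.2 (CommAlg6.hq_le_height hQP)) _

/-- The support of a canonical module. -/
theorem support_eq (hn : ringKrullDim R = n) (hE : Matlis6.IsHullAt (maximalIdeal R) E)
    (eK : (K →ₗ[R] E) ≃ₗ[R] _root_.LocCoh.H (maximalIdeal R) n R) :
    Module.support R K =
      {p : PrimeSpectrum R | (p.asIdeal.height : WithBot ℕ∞) + ringKrullDim (R ⧸ p.asIdeal) = n} := by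
  ext p
  have hle : (p.asIdeal.height : WithBot ℕ∞) + ringKrullDim (R ⧸ p.asIdeal) ≤ n := by
    obtain ⟨q, hq, hqp, hqe⟩ := CommAlg6.exists_minimalPrimes_hq_eq_height p.asIdeal
    haveI := hq.1.1
    rw [← CommAlg6.hq_eq_ringKrullDim_quotient, ← hn, ← maximalIdeal_height_eq_ringKrullDim,
      ← hqe, ← WithBot.coe_add, WithBot.coe_le_coe]
    exact (LocCoh.hq_add_le hqp (le_maximalIdeal p.2.ne_top)).trans
      (CommAlg6.hq_le_height (le_maximalIdeal hq.1.1.ne_top))
  refine ⟨fun hp => le_antisymm hle ?_, fun hp => ?_⟩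
  · haveI := Matlis6.isNoetherianRing_adicCompletion (maximalIdeal R)
    haveI : IsAdicComplete (maximalIdeal (AdicCompletion (maximalIdeal R) R))
        (AdicCompletion (maximalIdeal R) R) :=
      AdicCompletion.isAdicComplete_of_fg (maximalIdeal R).fg_of_isNoetherianRing
    exact le_of_support_aux (CompletionHull.isCplLike_adicCompletion R)
      ((LocCoh.ringKrullDim_adicCompletion R).trans hn) hE eK p hp
      (CommAlg6.ringKrullDim_quotient_map_eq (CommAlg6.ringKrullDim_fibre_completion R) p.2.ne_top)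
  · obtain ⟨q, hq, hqp, hqe⟩ := CommAlg6.exists_minimalPrimes_hq_eq_height p.asIdeal
    haveI := hq.1.1
    have hqd : ringKrullDim (R ⧸ q) = n := by
      refine le_antisymm ((ringKrullDim_quotient_le q).trans hn.le) ?_
      rw [← show (p.asIdeal.height : WithBot ℕ∞) + ringKrullDim (R ⧸ p.asIdeal) = n from hp,
        ← CommAlg6.hq_eq_ringKrullDim_quotient, ← CommAlg6.hq_eq_ringKrullDim_quotient, ← hqe,
        ← WithBot.coe_add, WithBot.coe_le_coe]
      exact LocCoh.hq_add_le hqp (le_maximalIdeal p.2.ne_top)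
    have hqK : q ∈ associatedPrimes R K := by
      rw [LocCoh.associatedPrimes_canonical hn hE eK]
      exact ⟨inferInstance, hqd⟩
    rw [Module.support_eq_zeroLocus]
    exact fun r hr => hqp (IsAssociatedPrime.annihilator_le hqK (by rw [Submodule.annihilator_top]; exact hr))

end canonical

end Groth.Agent.CAlgH3.CanonicalGeneral
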