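import Groth.Agent.LocCoh.CanonicalExist
import Groth.Agent.LocCoh.CanonicalEnd
import Groth.Agent.CAlgH3.RegularCore

/-!
The canonical module of a Cohen–Macaulay local domain is an ideal, whose quotient is pure of height one.
-/

set_option autoImplicit false

universe u

open IsLocalRing

namespace Groth.Agent.CAlgH3.CanonicalIdeal

open LocCoh (Hmap)

variable {A : Type u} [CommRing A] [IsDomain A] [_root_.LocCoh.IsCohenMacaulayLocalRing A] {n : ℕ}
  {E : Type u} [AddCommGroup E] [Module A E] {K : Type u} [AddCommGroup K] [Module A K] [Module.Finite A K]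

omit [_root_.LocCoh.IsCohenMacaulayLocalRing A] in
/-- A finite torsion-free module over a domain has separating functionals. -/
theorem exists_functional_ne_zero (htf : ∀ (a : A) (k : K), a • k = 0 → a = 0 ∨ k = 0) {k₀ : K} (hk : k₀ ≠ 0) :
    ∃ φ : K →ₗ[A] A, φ k₀ ≠ 0 := by
  classical
  let F := FractionRing A
  let V := LocalizedModule (nonZeroDivisors A) K
  let ι : K →ₗ[A] V := LocalizedModule.mkLinearMap (nonZeroDivisors A) K
  have hι : ι k₀ ≠ 0 := by
    intro h
    obtain ⟨s, hs⟩ := (IsLocalizedModule.eq_zero_iff (nonZeroDivisors A) ι).1 h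
    rcases htf _ _ hs with h1 | h1
    · exact nonZeroDivisors.coe_ne_zero s h1
    · exact hk h1
  obtain ⟨g, hg⟩ : ∃ g : V →ₗ[F] F, g (ι k₀) ≠ 0 := by
    obtain ⟨g, hg⟩ := Module.Projective.exists_dual_eq_one F hι
    exact ⟨g, hg.symm ▸ one_ne_zero⟩
  obtain ⟨s, hs⟩ := Module.finite_def.1 (inferInstance : Module.Finite A K)
  obtain ⟨b, hb⟩ := IsLocalization.exist_integer_multiples (nonZeroDivisors A) s (fun x => g (ι x))
  let ψ : K →ₗ[A] F := ((g.restrictScalars A).comp ι)
  have hr : LinearMap.range ((b : A) • ψ) ≤ LinearMap.range (Algebra.linearMap A F) := by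
    rw [LinearMap.range_eq_map, ← hs, Submodule.map_span, Submodule.span_le]
    rintro _ ⟨x, hx, rfl⟩
    obtain ⟨a, ha⟩ := hb x hx
    exact ⟨a, ha⟩
  have hinj : Function.Injective (Algebra.linearMap A F) := IsFractionRing.injective A F
  let e := LinearEquiv.ofInjective (Algebra.linearMap A F) hinj
  refine ⟨e.symm.toLinearMap.comp (LinearMap.codRestrict _ ((b : A) • ψ) fun x => hr ⟨x, rfl⟩), fun h => ?_⟩
  have h1 : (b : A) • g (ι k₀) = 0 := congrArg Subtype.val (e.symm.map_eq_zero_iff.1 h)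
  rw [Algebra.smul_def] at h1
  rcases mul_eq_zero.1 h1 with h2 | h2
  · exact nonZeroDivisors.coe_ne_zero b (IsFractionRing.injective A F (h2.trans (map_zero _).symm))
  · exact hg h2

variable (hn : ringKrullDim A = n) (hE : Matlis6.IsHullAt (maximalIdeal A) E)
  (eK : (K →ₗ[A] E) ≃ₗ[A] _root_.LocCoh.H (maximalIdeal A) n A)
include hn hE eK

/-- The canonical module of a Cohen–Macaulay local domain is `A` or an ideal with quotient pure of height one. -/
theorem exists_ideal : Nonempty (K ≃ₗ[A] A) ∨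
    ∃ I : Ideal A, I ≠ ⊤ ∧ (∀ q ∈ associatedPrimes A (A ⧸ I), q.height = 1) ∧ Nonempty (K ≃ₗ[A] I) := by
  obtain ⟨-, -, hcmK, hdimK⟩ := LocCoh.canonical_structure hn hE eK
  haveI := CAlgH3.nontrivial_of_cm hcmK
  have hass := LocCoh.associatedPrimes_canonical hn hE eK
  have htf : ∀ (a : A) (k : K), a • k = 0 → a = 0 ∨ k = 0 := by
    intro a k h
    by_contra hcon
    push Not at hcon
    have hmem : a ∈ ⋃ p ∈ associatedPrimes A K, (p : Set A) := by
      rw [biUnion_associatedPrimes_eq_zero_divisors]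
      exact ⟨k, hcon.2, h⟩
    simp only [Set.mem_iUnion] at hmem
    obtain ⟨p, hp, hap⟩ := hmem
    rw [hass] at hp
    haveI := hp.1
    by_cases hp0 : p = ⊥
    · exact hcon.1 (by simpa [hp0] using hap)
    · have h1 := CAlgH3.ringKrullDim_quotient_add_one_le (R := A) (bot_lt_iff_ne_bot.2 hp0)
      have h2 : ringKrullDim (A ⧸ (⊥ : Ideal A)) = n :=
        (ringKrullDim_eq_of_ringEquiv (RingEquiv.quotientBot A)).trans hn
      rw [hp.2, h2] at h1
      have h3 : n + 1 ≤ n := by exact_mod_cast h1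
      omega
  obtain ⟨k₀, hk₀⟩ := exists_ne (0 : K)
  obtain ⟨φ, hφ⟩ := exists_functional_ne_zero htf hk₀
  obtain ⟨c, hc⟩ := (LocCoh.toEnd_canonical_bijective hE hn eK).2 (φ.smulRight k₀)
  have hc0 : c ≠ 0 := by
    rintro rfl
    have h1 := (LinearMap.congr_fun hc k₀).symm
    simp only [LinearMap.smulRight_apply, LinearMap.smul_apply, zero_smul] at h1
    exact (htf _ _ h1).elim hφ hk₀
  have hinj : Function.Injective φ := (injective_iff_map_eq_zero φ).2 fun k hk => by
    have h1 := LinearMap.congr_fun hc k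
    simp only [LinearMap.smulRight_apply, LinearMap.smul_apply, LinearMap.id_apply, hk, zero_smul] at h1
    exact (htf _ _ h1).resolve_left hc0
  let e := LinearEquiv.ofInjective φ hinj
  let I : Ideal A := LinearMap.range φ
  by_cases hI : I = ⊤
  · exact Or.inl ⟨e.trans (LinearEquiv.ofTop _ hI)⟩
  refine Or.inr ⟨I, hI, fun q hq => ?_, ⟨e⟩⟩
  have hI0 : I ≠ ⊥ := fun h => hφ ((Submodule.mem_bot A).1 (h ▸ LinearMap.mem_range_self φ k₀ : φ k₀ ∈ (⊥ : Ideal A)))
  haveI := hq.isPrime
  have hIq : I ≤ q := by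
    have h1 := IsAssociatedPrime.annihilator_le hq
    rwa [Submodule.annihilator_top, Ideal.annihilator_quotient] at h1
  have hq0 : q ≠ ⊥ := fun h => hI0 (le_bot_iff.1 (h ▸ hIq))
  have hqh := CAlgH3.height_add_ringKrullDim_quotient q
  haveI : Nontrivial (A ⧸ q) := Ideal.Quotient.nontrivial_iff.2 Ideal.IsPrime.ne_top'
  haveI : IsLocalRing (A ⧸ q) := IsLocalRing.of_surjective' (Ideal.Quotient.mk q) Ideal.Quotient.mk_surjective
  obtain ⟨d, hd⟩ := LocCoh.exists_dim_eq (R := A ⧸ q)
  rw [hd, hn] at hqh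
  have hdn : d + 1 ≤ n := by
    have h1 := CAlgH3.ringKrullDim_quotient_add_one_le (R := A) (bot_lt_iff_ne_bot.2 hq0)
    rw [hd, (ringKrullDim_eq_of_ringEquiv (RingEquiv.quotientBot A)).trans hn] at h1
    exact_mod_cast h1
  -- the quotient has depth at least `n - 1`
  have hdep : ((n - 1 : ℕ) : ℕ∞) ≤ _root_.LocCoh.depth A (A ⧸ I) := by
    rw [_root_.LocCoh.depth, LocCoh.natCast_le_idealDepth_iff_H]
    intro i hi
    have hA : Subsingleton (_root_.LocCoh.H (maximalIdeal A) i A) := by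
      refine (LocCoh.natCast_le_idealDepth_iff_H (maximalIdeal A) A n).1 ?_ i (by omega)
      have h1 : Module.supportDim A A = _ := LocCoh.cm_self (R := A)
      rw [Module.supportDim_self_eq_ringKrullDim, hn] at h1
      exact (WithBot.coe_inj.1 h1).le
    have hK : Subsingleton (_root_.LocCoh.H (maximalIdeal A) (i + 1) I) := by
      haveI : Subsingleton (_root_.LocCoh.H (maximalIdeal A) (i + 1) K) := by
        refine (LocCoh.natCast_le_idealDepth_iff_H (maximalIdeal A) K n).1 ?_ (i + 1) (by omega)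
        have h1 : Module.supportDim A K = _ := hcmK
        rw [hdimK] at h1
        exact (WithBot.coe_inj.1 h1).le
      exact (LocCoh.Hequiv (I := maximalIdeal A) (i + 1) e).symm.toEquiv.subsingleton
    refine ⟨fun x y => sub_eq_zero.1 ?_⟩
    obtain ⟨z, hz⟩ := (LocCoh.Hmap_connecting_exact (I := maximalIdeal A) I.injective_subtype
      (Submodule.mkQ_surjective I) (LinearMap.exact_subtype_mkQ I) i (x - y)).1 (Subsingleton.elim _ _)
    rw [← hz, Subsingleton.elim z 0, map_zero]
  have h2 : ((n - 1 : ℕ) : WithBot ℕ∞) ≤ (d : WithBot ℕ∞) :=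
    hd ▸ (WithBot.coe_le_coe.2 hdep).trans (CAlgH3.depth_le_ringKrullDim_quotient hq)
  have h3 : n - 1 ≤ d := by exact_mod_cast h2
  obtain ⟨g, hg⟩ : ∃ g : ℕ, q.height = g := ⟨q.height.toNat, (ENat.natCast_toNat (Ideal.height_ne_top Ideal.IsPrime.ne_top')).symm⟩
  rw [hg] at hqh ⊢
  have h4 : g + d = n := by exact_mod_cast hqh
  exact_mod_cast (show g = 1 by omega)

end Groth.Agent.CAlgH3.CanonicalIdeal
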