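import Mathlib

/-!
Flat base change of `Ext` for finite modules over Noetherian rings.
-/

set_option autoImplicit false

universe u

open CategoryTheory CategoryTheory.Abelian TensorProduct

namespace Groth.Agent.CAlgH3

section dimensionShift

variable {A : Type u} [CommRing A] {K F M : Type u} [AddCommGroup K] [Module A K] [AddCommGroup F]
  [Module A F] [AddCommGroup M] [Module A M] (N : Type u) [AddCommGroup N] [Module A N]

/-- `Ext⁰` is `Hom`. -/
noncomputable def extZeroEquiv : Ext (ModuleCat.of A M) (ModuleCat.of A N) 0 ≃ₗ[A] (M →ₗ[A] N) :=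
  Ext.linearEquiv₀.trans ModuleCat.homLinearEquiv

theorem extZeroEquiv_symm_apply (φ : M →ₗ[A] N) :
    (extZeroEquiv N).symm φ = Ext.mk₀ (ModuleCat.ofHom φ) := rfl

variable [Module.Projective A F] {ι : K →ₗ[A] F} {π : F →ₗ[A] M}

/-- `Ext¹` as a quotient of `Hom`. -/
theorem exists_ext_one_presentation (hι : Function.Injective ι) (hπ : Function.Surjective π)
    (hex : Function.Exact ι π) :
    ∃ p : (K →ₗ[A] N) →ₗ[A] Ext (ModuleCat.of A M) (ModuleCat.of A N) 1,
      Function.Surjective p ∧ LinearMap.ker p = LinearMap.range (ι.lcomp A N) := by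
  haveI : Projective (ModuleCat.of A F) := ModuleCat.projective_of_categoryTheory_projective _
  have hS : (ShortComplex.mk (ModuleCat.ofHom ι) (ModuleCat.ofHom π)
      (by ext x; exact hex.apply_apply_eq_zero x)).ShortExact :=
    { exact := (ShortComplex.ShortExact.moduleCat_exact_iff_function_exact _).2 hex
      mono_f := (ModuleCat.mono_iff_injective _).2 hι
      epi_g := (ModuleCat.epi_iff_surjective _).2 hπ }
  let p : (K →ₗ[A] N) →ₗ[A] Ext (ModuleCat.of A M) (ModuleCat.of A N) 1 :=
    (hS.extClass.precompOfLinear A (ModuleCat.of A N) (show 1 + 0 = 1 from rfl)) ∘ₗ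
      (extZeroEquiv N).symm.toLinearMap
  refine ⟨p, fun x => ?_, ?_⟩
  · obtain ⟨y, hy⟩ := Ext.contravariant_sequence_exact₃ hS (ModuleCat.of A N) x
      (Ext.eq_zero_of_projective _) (show 1 + 0 = 1 from rfl)
    refine ⟨extZeroEquiv N y, ?_⟩
    show hS.extClass.comp ((extZeroEquiv N).symm (extZeroEquiv N y)) (show 1 + 0 = 1 from rfl) = x
    rw [LinearEquiv.symm_apply_apply]
    exact hy
  · refine le_antisymm (fun φ hφ => ?_) ?_
    · obtain ⟨y, hy⟩ := Ext.contravariant_sequence_exact₁ hS (ModuleCat.of A N)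
        (Ext.mk₀ (ModuleCat.ofHom φ)) (show 1 + 0 = 1 from rfl) hφ
      obtain ⟨f, rfl⟩ := (Ext.mk₀_bijective _ _).2 y
      rw [Ext.mk₀_comp_mk₀] at hy
      exact ⟨f.hom, congrArg ModuleCat.Hom.hom ((Ext.mk₀_bijective _ _).1 hy)⟩
    · rintro _ ⟨g, rfl⟩
      show hS.extClass.comp (Ext.mk₀ (ModuleCat.ofHom (g ∘ₗ ι))) (show 1 + 0 = 1 from rfl) = 0
      rw [show ModuleCat.ofHom (g ∘ₗ ι) = ModuleCat.ofHom ι ≫ ModuleCat.ofHom g from rfl,
        ← Ext.mk₀_comp_mk₀, ← Ext.comp_assoc_of_second_deg_zero]
      erw [hS.extClass_comp]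
      rw [Ext.zero_comp]

/-- Dimension shifting in degrees at least two. -/
theorem nonempty_ext_succ_equiv (hι : Function.Injective ι) (hπ : Function.Surjective π)
    (hex : Function.Exact ι π) (k : ℕ) :
    Nonempty (Ext (ModuleCat.of A K) (ModuleCat.of A N) (k + 1) ≃ₗ[A]
      Ext (ModuleCat.of A M) (ModuleCat.of A N) (k + 2)) := by
  haveI : Projective (ModuleCat.of A F) := ModuleCat.projective_of_categoryTheory_projective _
  have hS : (ShortComplex.mk (ModuleCat.ofHom ι) (ModuleCat.ofHom π)
      (by ext x; exact hex.apply_apply_eq_zero x)).ShortExact :=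
    { exact := (ShortComplex.ShortExact.moduleCat_exact_iff_function_exact _).2 hex
      mono_f := (ModuleCat.mono_iff_injective _).2 hι
      epi_g := (ModuleCat.epi_iff_surjective _).2 hπ }
  refine ⟨LinearEquiv.ofBijective
    (hS.extClass.precompOfLinear A (ModuleCat.of A N) (show 1 + (k + 1) = k + 2 by omega)) ⟨?_, ?_⟩⟩
  · rw [injective_iff_map_eq_zero]
    intro x hx
    obtain ⟨y, rfl⟩ := Ext.contravariant_sequence_exact₁ hS (ModuleCat.of A N) x
      (show 1 + (k + 1) = k + 2 by omega) hx
    rw [Ext.eq_zero_of_projective y, Ext.comp_zero]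
  · intro x
    obtain ⟨y, hy⟩ := Ext.contravariant_sequence_exact₃ hS (ModuleCat.of A N) x
      (Ext.eq_zero_of_projective _) (show 1 + (k + 1) = k + 2 by omega)
    exact ⟨y, hy⟩

end dimensionShift

theorem lTensor_range_eq_baseChange_range {A B : Type u} [CommRing A] [CommRing B] [Algebra A B]
    {P Q : Type u} [AddCommGroup P] [Module A P] [AddCommGroup Q] [Module A Q] (f : P →ₗ[A] Q) :
    ((LinearMap.range (f.baseChange B)).restrictScalars A) = LinearMap.range (f.lTensor B) := rfl

/-- Flat base change for `Ext`. -/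
theorem nonempty_baseChange_ext {A B : Type u} [CommRing A] [CommRing B] [Algebra A B]
    [Module.Flat A B] [IsNoetherianRing A] (N : Type u) [AddCommGroup N] [Module A N] :
    ∀ (r : ℕ) (M : Type u) [AddCommGroup M] [Module A M] [Module.Finite A M],
    Nonempty ((B ⊗[A] Ext (ModuleCat.of A M) (ModuleCat.of A N) r) ≃ₗ[B]
      Ext (ModuleCat.of B (B ⊗[A] M)) (ModuleCat.of B (B ⊗[A] N)) r) := by
  intro r
  induction r with
  | zero =>
    intro M _ _ _
    haveI : Module.FinitePresentation A M := Module.finitePresentation_of_finite A M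
    exact ⟨(LinearEquiv.baseChange A B _ _ (extZeroEquiv N)) ≪≫ₗ
      (Module.FinitePresentation.isBaseChange_map A M N B).equiv ≪≫ₗ (extZeroEquiv _).symm⟩
  | succ k ih =>
    intro M _ _ _
    obtain ⟨n, π, hπ⟩ := Module.Finite.exists_fin' A M
    haveI : Module.Finite A (LinearMap.ker π) := Module.Finite.of_fg (IsNoetherian.noetherian _)
    let ι := (LinearMap.ker π).subtype
    have hι : Function.Injective ι := Subtype.val_injective
    have hex : Function.Exact ι π := LinearMap.exact_subtype_ker_map π
    have hι' : Function.Injective (ι.baseChange B) :=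
      Module.Flat.lTensor_preserves_injective_linearMap (M := B) ι hι
    have hπ' : Function.Surjective (π.baseChange B) := LinearMap.lTensor_surjective B hπ
    have hex' : Function.Exact (ι.baseChange B) (π.baseChange B) := lTensor_exact B hex hπ
    cases k with
    | zero =>
      haveI : Module.FinitePresentation A (LinearMap.ker π) := Module.finitePresentation_of_finite A _
      obtain ⟨p, hp, hpker⟩ := exists_ext_one_presentation N hι hπ hex
      obtain ⟨q, hq, hqker⟩ := exists_ext_one_presentation (B ⊗[A] N) hι' hπ' hex'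
      let Ψ := (Module.FinitePresentation.isBaseChange_map A (LinearMap.ker π) N B).equiv
      let Φ := (Module.FinitePresentation.isBaseChange_map A (Fin n → A) N B).equiv
      have hsq : ((ι.baseChange B).lcomp B (B ⊗[A] N)) ∘ₗ Φ.toLinearMap =
          Ψ.toLinearMap ∘ₗ (ι.lcomp A N).baseChange B := by
        refine TensorProduct.AlgebraTensorModule.curry_injective (LinearMap.ext fun b => LinearMap.ext fun g => ?_)
        refine TensorProduct.AlgebraTensorModule.curry_injective (LinearMap.ext fun c => LinearMap.ext fun x => ?_)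
        simp [Ψ, Φ, IsBaseChange.equiv_tmul]
      have hpB : Function.Surjective (p.baseChange B) := LinearMap.lTensor_surjective B hp
      have hkerB : LinearMap.ker (p.baseChange B) = LinearMap.range ((ι.lcomp A N).baseChange B) := by
        have he : Function.Exact (ι.lcomp A N) p := LinearMap.exact_iff.2 hpker
        exact LinearMap.exact_iff.1
          (show Function.Exact ((ι.lcomp A N).baseChange B) (p.baseChange B) from lTensor_exact B he hp)
      have hker : LinearMap.ker (q ∘ₗ Ψ.toLinearMap) = LinearMap.ker (p.baseChange B) := by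
        rw [LinearMap.ker_comp, hqker, hkerB]
        have h1 : LinearMap.range ((ι.baseChange B).lcomp B (B ⊗[A] N)) =
            (LinearMap.range ((ι.lcomp A N).baseChange B)).map Ψ.toLinearMap := by
          rw [← LinearMap.range_comp_of_range_eq_top _ (LinearEquiv.range Φ), hsq, LinearMap.range_comp]
        rw [h1, Submodule.comap_map_eq_of_injective Ψ.injective]
      exact ⟨(LinearMap.quotKerEquivOfSurjective _ hpB).symm ≪≫ₗ Submodule.quotEquivOfEq _ _ hker.symm ≪≫ₗ
        LinearMap.quotKerEquivOfSurjective _ (hq.comp Ψ.surjective)⟩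
    | succ k =>
      obtain ⟨e₁⟩ := nonempty_ext_succ_equiv N hι hπ hex k
      obtain ⟨e₂⟩ := ih (LinearMap.ker π)
      obtain ⟨e₃⟩ := nonempty_ext_succ_equiv (B ⊗[A] N) hι' hπ' hex' k
      exact ⟨(LinearEquiv.baseChange A B _ _ e₁.symm) ≪≫ₗ e₂ ≪≫ₗ e₃⟩

end Groth.Agent.CAlgH3
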