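import Groth.Agent.CAlgH3.ExtProVanish
import Mathlib

/-! Cohomological dimension one: powers of the ideal lift linearly along the generators. -/

set_option autoImplicit false
set_option backward.isDefEq.respectTransparency.types false
universe u

open CategoryTheory CategoryTheory.Limits CategoryTheory.Abelian

namespace Groth.Agent.CAlgH3.CdOneLift

variable {A : Type u} [CommRing A]

/-- `I → A → A/I` -/
noncomputable def idealSeq (J : Ideal A) : ShortComplex (ModuleCat.{u} A) :=
  ShortComplex.mk (ModuleCat.ofHom (Submodule.subtype J) : ModuleCat.of A J ⟶ ModuleCat.of A A)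
    (ModuleCat.ofHom (Submodule.mkQ J) : ModuleCat.of A A ⟶ ModuleCat.of A (A ⧸ J))
    (ModuleCat.hom_ext (LinearMap.ext fun x => (Submodule.Quotient.mk_eq_zero J).2 x.2))

theorem idealSeq_shortExact (J : Ideal A) : (idealSeq J).ShortExact :=
  { exact := (ShortComplex.ShortExact.moduleCat_exact_iff_function_exact _).2 (LinearMap.exact_subtype_mkQ J)
    mono_f := (ModuleCat.mono_iff_injective _).2 (Submodule.injective_subtype J)
    epi_g := (ModuleCat.epi_iff_surjective _).2 (Submodule.mkQ_surjective J) }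

theorem exists_lift [IsNoetherianRing A] (r : ℕ) (f : Fin r → A)
    (h₁ : _root_.LocCoh.CdLE A (Ideal.span (Set.range f)) 1) :
    ∃ (c : ℕ) (φ : Fin r → (↥(Ideal.span (Set.range f) ^ (c + 1)) →ₗ[A] A)),
      ∀ x : ↥(Ideal.span (Set.range f) ^ (c + 1)), (x : A) = ∑ j, f j * φ j x := by
  classical
  set I := Ideal.span (Set.range f)
  obtain ⟨m, hm, hvan⟩ := ExtProVanish.main I h₁ 1
  let π : (Fin r → A) →ₗ[A] I :=
    LinearMap.codRestrict I (Fintype.linearCombination A f) fun v => by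
      rw [Fintype.linearCombination_apply]
      exact Ideal.sum_mem _ fun i _ => Ideal.mul_mem_left _ _ (Ideal.subset_span ⟨i, rfl⟩)
  have hπ : Function.Surjective π := fun x => by
    obtain ⟨v, hv⟩ := Ideal.mem_span_range_iff_exists_fun.1 x.2
    exact ⟨v, Subtype.ext (by simpa [π, Fintype.linearCombination_apply] using hv)⟩
  let S : ShortComplex (ModuleCat.{u} A) := ShortComplex.mk
    (ModuleCat.ofHom (LinearMap.ker π).subtype : ModuleCat.of A (LinearMap.ker π) ⟶ ModuleCat.of A (Fin r → A))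
    (ModuleCat.ofHom π : ModuleCat.of A (Fin r → A) ⟶ ModuleCat.of A I)
    (ModuleCat.hom_ext (LinearMap.ext fun x => x.2))
  have hS : S.ShortExact :=
    { exact := (ShortComplex.ShortExact.moduleCat_exact_iff_function_exact _).2 (LinearMap.exact_subtype_ker_map π)
      mono_f := (ModuleCat.mono_iff_injective _).2 (Submodule.injective_subtype _)
      epi_g := (ModuleCat.epi_iff_surjective _).2 hπ }
  have hle : I ^ m ≤ I := Ideal.pow_le_self (by omega)
  let ι : ModuleCat.of A (I ^ m : Ideal A) ⟶ ModuleCat.of A I := ModuleCat.ofHom (Submodule.inclusion hle)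
  let q : ModuleCat.of A (A ⧸ I ^ m) ⟶ ModuleCat.of A (A ⧸ I) := ModuleCat.ofHom (Submodule.factor hle)
  let p : ModuleCat.of A (A ⧸ I ^ 1) ⟶ ModuleCat.of A (A ⧸ I) := ModuleCat.ofHom (Submodule.factor (pow_one I).le)
  let w : idealSeq (I ^ m) ⟶ idealSeq I := ShortComplex.homMk ι (𝟙 _) q rfl rfl
  have hnat := ShortComplex.ShortExact.extClass_naturality (idealSeq_shortExact (I ^ m)) (idealSeq_shortExact I) w
  have h1 : (Ext.mk₀ q).comp ((idealSeq_shortExact I).extClass.comp hS.extClass (rfl : 1 + 1 = 2)) (zero_add 2) = 0 := by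
    have hq : ModuleCat.ofHom (Submodule.mapQ (I ^ m) (I ^ 1) LinearMap.id
        (Ideal.pow_le_pow_right (Nat.le_of_lt hm))) ≫ p = q :=
      ModuleCat.hom_ext (Submodule.linearMap_qext _ (LinearMap.ext fun _ => rfl))
    rw [← hq, ← Ext.mk₀_comp_mk₀_assoc]
    exact hvan _ 2 (by omega) _
  have h2 : (idealSeq_shortExact (I ^ m)).extClass.comp ((Ext.mk₀ ι).comp hS.extClass (zero_add 1)) (rfl : 1 + 1 = 2) = 0 := by
    refine ((Ext.comp_assoc_of_second_deg_zero _ _ _ _).symm.trans
      ((congrArg (fun t => Ext.comp t hS.extClass (rfl : 1 + 1 = 2)) hnat).trans ?_))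
    exact (Ext.comp_assoc _ _ _ (zero_add 1) (rfl : 1 + 1 = 2) (by omega)).trans h1
  obtain ⟨y, hy⟩ := Ext.contravariant_sequence_exact₁ (idealSeq_shortExact (I ^ m)) _
    ((Ext.mk₀ ι).comp hS.extClass (zero_add 1)) (rfl : 1 + 1 = 2) h2
  haveI : Projective (idealSeq (I ^ m)).X₂ :=
    (inferInstance : Projective (ModuleCat.of A A))
  rw [Ext.eq_zero_of_projective y, Ext.comp_zero] at hy
  obtain ⟨z, hz⟩ := Ext.covariant_sequence_exact₃ _ hS (Ext.mk₀ ι) (rfl : 0 + 1 = 1) hy.symm
  obtain ⟨g, rfl⟩ := (Ext.mk₀_bijective _ _).2 z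
  rw [Ext.mk₀_comp_mk₀] at hz
  have hg : g ≫ S.g = ι := (Ext.mk₀_bijective _ _).1 hz
  obtain ⟨c, rfl⟩ : ∃ c, m = c + 1 := ⟨m - 1, by omega⟩
  refine ⟨c, fun j => (LinearMap.proj j).comp g.hom, fun x => ?_⟩
  have h3 : (Fintype.linearCombination A f (g.hom x) : A) = (x : A) :=
    congrArg Subtype.val (LinearMap.congr_fun (congrArg ModuleCat.Hom.hom hg) x)
  rw [← h3, Fintype.linearCombination_apply]
  exact Finset.sum_congr rfl fun j _ => mul_comm _ _

end Groth.Agent.CAlgH3.CdOneLift
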