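import Groth.Agent.Misc15.KoszulLimit
import Groth.Agent.Misc15.KoszulBridge
import Groth.Agent.Misc15.KoszulPoly
import Groth.Agent.LocCoh.BaseChange
import Groth.Prelude.Def_ega3

/-! Local cohomology as the limit of Koszul cohomology. -/

set_option autoImplicit false
set_option backward.isDefEq.respectTransparency false
set_option backward.isDefEq.respectTransparency.types false
universe u

open CategoryTheory CategoryTheory.Limits CochainComplex
open CohIII (koszulCx koszulTrans koszulHLim koszulHPow)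
open Groth.Agent.Misc15.Koszul Groth.Agent.LocCoh

namespace Groth.Agent.CAlgH3.KoszulLocCoh

variable {A : Type u} [CommRing A]

/-- limit Koszul cohomology kills injectives -/
def VanishInj (fs : List A) : Prop :=
  ∀ (E : ModuleCat.{u} A), Module.Injective A E → ∀ p : ℕ, 1 ≤ p → Subsingleton (koszulHLim fs E p)

theorem vanishInj_of_regPow {fs : List A} (h : RegPow fs) : VanishInj fs := by
  intro E hE p hp
  refine subsingleton_of_forall_eq 0 fun z => ?_
  obtain ⟨n, x, rfl⟩ := Module.DirectLimit.exists_of z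
  haveI := ModuleCat.subsingleton_of_isZero (isZero_of_injective (I := E) fs h n p hp)
  rw [Subsingleton.elim x 0, map_zero]

theorem trans_self (M : ModuleCat.{u} A) (n : ℕ) : ∀ (fs : List A),
    koszulTrans M n n le_rfl fs = 𝟙 (koszulCx M (fs.map (· ^ n)))
  | [] => rfl
  | f :: fs => by
      have h := trans_self M n fs
      simp only [koszulTrans, h, Nat.sub_self, pow_zero, one_smul]
      exact mappingCone.map_id _

theorem trans_trans (M : ModuleCat.{u} A) (n m k : ℕ) (h₁ : n ≤ m) (h₂ : m ≤ k) : ∀ (fs : List A),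
    koszulTrans M n m h₁ fs ≫ koszulTrans M m k h₂ fs = koszulTrans M n k (h₁.trans h₂) fs
  | [] => Category.comp_id _
  | f :: fs => by
      have h := trans_trans M n m k h₁ h₂ fs
      simp only [koszulTrans, List.map_cons]
      refine (mappingCone.map_comp ..).symm.trans ?_
      congr 1
      rw [Linear.comp_smul, Linear.smul_comp, smul_smul, h, ← pow_add,
        show k - m + (m - n) = k - n by omega]

instance directedSystem (M : ModuleCat.{u} A) (fs : List A) (p : ℕ) :
    DirectedSystem (fun n : ℕ => (koszulHPow fs M p n : Type u))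
      (fun n m h => ⇑(HomologicalComplex.homologyMap (koszulTrans M n m h fs) ((p : ℤ) - fs.length)).hom) where
  map_self n x := by
    rw [trans_self, HomologicalComplex.homologyMap_id]
    rfl
  map_map k j i hij hjk x := by
    rw [← trans_trans M _ _ _ hij hjk fs, HomologicalComplex.homologyMap_comp]
    rfl

theorem exists_trans_eq_zero {fs : List A} (hv : VanishInj fs) {E : ModuleCat.{u} A}
    (hE : Module.Injective A E) {p : ℕ} (hp : 1 ≤ p) (n : ℕ) (x : koszulHPow fs E p n) :
    ∃ (m : ℕ) (h : n ≤ m), (HomologicalComplex.homologyMap (koszulTrans E n m h fs) _).hom x = 0 := by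
  have hs : Subsingleton (koszulHLim fs E p) := hv E hE p hp
  exact Module.DirectLimit.of.zero_exact (G := fun k => (koszulHPow fs E p k : Type u))
    (f := fun k l hkl => (HomologicalComplex.homologyMap (koszulTrans E k l hkl fs) ((p : ℤ) - fs.length)).hom)
    (@Subsingleton.elim (koszulHLim fs E p) hs _ _)

variable {M I Q : ModuleCat.{u} A} (fs : List A)

theorem nonempty_shift' (g : M ⟶ I) (h : I ⟶ Q) (hg : Function.Injective g.hom) (hh : Function.Surjective h.hom)
    (hgh : Function.Exact g.hom h.hom) [Module.Injective A I] (hv : VanishInj fs) (p : ℕ) (hp : 1 ≤ p) :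
    Nonempty (koszulHLim fs Q p ≃ₗ[A] koszulHLim fs M (p + 1)) := by
  have hrel : (ComplexShape.up ℤ).Rel ((p : ℤ) - fs.length) (((p + 1 : ℕ) : ℤ) - fs.length) := by
    show _ + 1 = _; push_cast; ring
  let hS := fun n => kShort_shortExact fs g h hg hh hgh n
  have hnat := fun n m (hnm : n ≤ m) =>
    (congrArg ModuleCat.Hom.hom (HomologicalComplex.HomologySequence.δ_naturality
      (kShortTrans fs g h hgh n m hnm) (hS n) (hS m) _ _ hrel)).symm
  let D : koszulHLim fs Q p →ₗ[A] koszulHLim fs M (p + 1) :=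
    Module.DirectLimit.map (fun n => ((hS n).δ _ _ hrel).hom) fun n m hnm => hnat n m hnm
  have hD : ∀ (n : ℕ) (a : koszulHPow fs Q p n), D (Module.DirectLimit.of A ℕ _ _ n a) =
      Module.DirectLimit.of A ℕ _ _ n (((hS n).δ _ _ hrel).hom a) := fun n a =>
    Module.DirectLimit.map_apply_of _ _ _
  refine ⟨LinearEquiv.ofBijective D ⟨?_, ?_⟩⟩
  · refine (injective_iff_map_eq_zero _).2 fun z hz => ?_
    obtain ⟨n, a, rfl⟩ := Module.DirectLimit.exists_of z
    rw [hD] at hz
    obtain ⟨m, hnm, hm⟩ := Module.DirectLimit.of.zero_exact hz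
    obtain ⟨b, hb⟩ := (ShortComplex.moduleCat_exact_iff _).1 ((hS m).homology_exact₃ _ _ hrel)
      ((HomologicalComplex.homologyMap (koszulTrans Q n m hnm fs) _).hom a)
      ((LinearMap.congr_fun (hnat n m hnm) a).trans hm)
    obtain ⟨k, hmk, hk⟩ := exists_trans_eq_zero hv ‹Module.Injective A I› hp m b
    have e1 := congrArg (fun f => f.hom b) ((HomologicalComplex.homologyMap_comp
      (kShort fs g h hgh m).g (koszulTrans Q m k hmk fs) ((p : ℤ) - fs.length)).symm.trans
      ((congrArg (fun f => HomologicalComplex.homologyMap f ((p : ℤ) - fs.length))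
        (kShortTrans fs g h hgh m k hmk).comm₂₃).symm.trans (HomologicalComplex.homologyMap_comp _ _ _)))
    simp only [ModuleCat.hom_comp, LinearMap.comp_apply] at e1
    erw [hb, hk, map_zero] at e1
    refine (Module.DirectLimit.of_f (hij := hnm)).symm.trans
      ((Module.DirectLimit.of_f (hij := hmk)).symm.trans ?_)
    exact (congrArg (Module.DirectLimit.of A ℕ (fun k => (koszulHPow fs Q p k : Type u)) _ k) e1).trans (map_zero _)
  · intro z
    obtain ⟨n, x, rfl⟩ := Module.DirectLimit.exists_of z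
    obtain ⟨m, hnm, hm⟩ := exists_trans_eq_zero hv ‹Module.Injective A I› (p := p + 1) (by omega)
      n ((HomologicalComplex.homologyMap (kShort fs g h hgh n).f _).hom x)
    have e1 := congrArg (fun f => f.hom x) ((HomologicalComplex.homologyMap_comp
      (kShort fs g h hgh n).f (koszulTrans I n m hnm fs) (((p + 1 : ℕ) : ℤ) - fs.length)).symm.trans
      ((congrArg (fun f => HomologicalComplex.homologyMap f (((p + 1 : ℕ) : ℤ) - fs.length))
        (kShortTrans fs g h hgh n m hnm).comm₁₂).symm.trans (HomologicalComplex.homologyMap_comp _ _ _)))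
    simp only [ModuleCat.hom_comp, LinearMap.comp_apply] at e1
    erw [hm] at e1
    obtain ⟨a, ha⟩ := (ShortComplex.moduleCat_exact_iff _).1 ((hS m).homology_exact₁ _ _ hrel)
      ((HomologicalComplex.homologyMap (koszulTrans M n m hnm fs) _).hom x) e1.symm
    refine ⟨Module.DirectLimit.of A ℕ _ _ m a, (hD m a).trans ?_⟩
    erw [ha]
    exact Module.DirectLimit.of_f

theorem nonempty_one' (g : M ⟶ I) (h : I ⟶ Q) (hg : Function.Injective g.hom) (hh : Function.Surjective h.hom)
    (hgh : Function.Exact g.hom h.hom) [Module.Injective A I] (hv : VanishInj fs) :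
    Nonempty ((tor fs Q ⧸ ((tor fs I).map h.hom).comap (tor fs Q).subtype) ≃ₗ[A] koszulHLim fs M 1) := by
  have hrel : (ComplexShape.up ℤ).Rel (((0 : ℕ) : ℤ) - fs.length) (((1 : ℕ) : ℤ) - fs.length) := by
    show _ + 1 = _; push_cast; ring
  let hS := fun n => kShort_shortExact fs g h hg hh hgh n
  have hnat' := fun n m (hnm : n ≤ m) =>
    (congrArg ModuleCat.Hom.hom (HomologicalComplex.HomologySequence.δ_naturality
      (kShortTrans fs g h hgh n m hnm) (hS n) (hS m) _ _ hrel)).symm
  let D : koszulHLim fs Q 0 →ₗ[A] koszulHLim fs M 1 :=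
    Module.DirectLimit.map (fun n => ((hS n).δ _ _ hrel).hom) fun n m hnm => hnat' n m hnm
  have hD : ∀ (n : ℕ) (a : koszulHPow fs Q 0 n), D (Module.DirectLimit.of A ℕ _ _ n a) =
      Module.DirectLimit.of A ℕ _ _ n (((hS n).δ _ _ hrel).hom a) := fun n a =>
    Module.DirectLimit.map_apply_of _ _ _
  let e := LinearEquiv.ofBijective _ (limZero_bijective fs Q)
  let φ : tor fs Q →ₗ[A] koszulHLim fs M 1 := D.comp e.symm.toLinearMap
  have hφ : ∀ (n : ℕ) (a : koszulHPow fs Q 0 n), φ (limZero fs Q (Module.DirectLimit.of A ℕ _ _ n a)) =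
      Module.DirectLimit.of A ℕ _ _ n (((hS n).δ _ _ hrel).hom a) := fun n a => by
    show D (e.symm (e _)) = _
    rw [e.symm_apply_apply, hD]
  have hnat : ∀ (n : ℕ) (b : koszulHPow fs I 0 n),
      h0 fs Q n ((HomologicalComplex.homologyMap (kMap h (fs.map (· ^ n))) _).hom b) = h.hom (h0 fs I n b) := fun n b =>
    h0_homologyMap fs _ h.hom (fun hi _ x => bot_kMap h _ _ hi x) b
  let R : Submodule A (tor fs Q) := ((tor fs I).map h.hom).comap (tor fs Q).subtype
  have hker : LinearMap.ker φ = R := by
    refine le_antisymm (fun q hq => ?_) ?_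
    · obtain ⟨z, rfl⟩ := (limZero_bijective fs Q).2 q
      obtain ⟨n, a, rfl⟩ := Module.DirectLimit.exists_of z
      rw [LinearMap.mem_ker, hφ] at hq
      obtain ⟨m, hnm, hm⟩ := Module.DirectLimit.of.zero_exact hq
      obtain ⟨b, hb⟩ := (ShortComplex.moduleCat_exact_iff _).1 ((hS m).homology_exact₃ _ _ hrel)
        ((HomologicalComplex.homologyMap (koszulTrans Q n m hnm fs) _).hom a)
        ((LinearMap.congr_fun (hnat' n m hnm) a).trans hm)
      refine ⟨h0 fs I m b, mem_tor.2 fun f hf => ⟨m, (mem_range_h0 fs I m _).1 ⟨b, rfl⟩ f hf⟩, ?_⟩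
      refine (hnat m b).symm.trans ?_
      erw [hb]
      refine (limZero_of fs Q m _).symm.trans ?_
      exact congrArg (fun z => (limZero fs Q z : Q)) Module.DirectLimit.of_f
    · rintro q ⟨x, hx, hxq⟩
      obtain ⟨n, hn⟩ := exists_uniform_pow hx
      obtain ⟨b, hb⟩ := (mem_range_h0 fs I n x).2 hn
      have hq : q = limZero fs Q (Module.DirectLimit.of A ℕ _ _ n
          ((HomologicalComplex.homologyMap (kMap h (fs.map (· ^ n))) _).hom b)) :=
        Subtype.ext (by rw [limZero_of, hnat, hb]; exact hxq.symm)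
      rw [LinearMap.mem_ker, hq, hφ]
      have h0 : ((hS n).δ _ _ hrel).hom ((HomologicalComplex.homologyMap (kMap h (fs.map (· ^ n))) _).hom b) = 0 :=
        congrArg (fun k => k.hom b) ((hS n).comp_δ _ _ hrel)
      rw [h0, map_zero]
  have hsurj : Function.Surjective φ := by
    intro z
    obtain ⟨n, x, rfl⟩ := Module.DirectLimit.exists_of z
    obtain ⟨m, hnm, hm⟩ := exists_trans_eq_zero hv ‹Module.Injective A I› (p := 1) le_rfl
      n ((HomologicalComplex.homologyMap (kShort fs g h hgh n).f _).hom x)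
    have e1 := congrArg (fun f => f.hom x) ((HomologicalComplex.homologyMap_comp
      (kShort fs g h hgh n).f (koszulTrans I n m hnm fs) (((1 : ℕ) : ℤ) - fs.length)).symm.trans
      ((congrArg (fun f => HomologicalComplex.homologyMap f (((1 : ℕ) : ℤ) - fs.length))
        (kShortTrans fs g h hgh n m hnm).comm₁₂).symm.trans (HomologicalComplex.homologyMap_comp _ _ _)))
    simp only [ModuleCat.hom_comp, LinearMap.comp_apply] at e1
    erw [hm] at e1
    obtain ⟨a, ha⟩ := (ShortComplex.moduleCat_exact_iff _).1 ((hS m).homology_exact₁ _ _ hrel)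
      ((HomologicalComplex.homologyMap (koszulTrans M n m hnm fs) _).hom x) e1.symm
    refine ⟨limZero fs Q (Module.DirectLimit.of A ℕ _ _ m a), (hφ m a).trans ?_⟩
    erw [ha]
    exact Module.DirectLimit.of_f
  exact ⟨(Submodule.quotEquivOfEq _ _ hker.symm).trans (LinearMap.quotKerEquivOfSurjective φ hsurj)⟩

theorem powTorsion_eq_tor (fs : List A) (M : Type u) [AddCommGroup M] [Module A M] :
    powTorsion (Ideal.span {a : A | a ∈ fs}) M = tor fs M := by
  ext x
  rw [mem_powTorsion, mem_tor]
  refine ⟨fun ⟨n, hn⟩ f hf => ⟨n, hn (f ^ n) (Ideal.pow_mem_pow (Ideal.subset_span (α := A) (s := {a : A | a ∈ fs}) hf) n)⟩, fun h => ?_⟩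
  obtain ⟨n, hn⟩ := exists_uniform_pow (mem_tor.2 h)
  have hle : Ideal.span ((fun f : A => f ^ n) '' {a : A | a ∈ fs}) ≤
      LinearMap.ker (LinearMap.toSpanSingleton A M x) := by
    rw [Ideal.span_le]
    rintro _ ⟨f, hf, rfl⟩
    exact hn f hf
  have hrad : Ideal.span {a : A | a ∈ fs} ≤ (Ideal.span ((fun f : A => f ^ n) '' {a : A | a ∈ fs})).radical :=
    Ideal.span_le.2 fun f hf => ⟨n, Ideal.subset_span ⟨f, hf, rfl⟩⟩
  obtain ⟨k, hk⟩ := Ideal.exists_pow_le_of_le_radical_of_fg hrad
    (Submodule.fg_span fs.finite_toSet)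
  exact ⟨k, fun a ha => hle (hk ha)⟩

/-- comparison in the presence of vanishing on injectives -/
theorem nonempty_H_equiv {fs : List A} (hv : VanishInj fs) : ∀ (p : ℕ) (M : ModuleCat.{u} A),
    Nonempty (_root_.LocCoh.H (Ideal.span {a : A | a ∈ fs}) p M ≃ₗ[A] koszulHLim fs M p) := by
  intro p
  induction p with
  | zero =>
    intro M
    exact ⟨((H0Equiv _ M).trans (LinearEquiv.ofEq _ _ (powTorsion_eq_tor fs M))).trans
      (LinearEquiv.ofBijective _ (limZero_bijective fs M)).symm⟩
  | succ i ih =>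
    intro M
    obtain ⟨E, _, _, f, hE, hf⟩ := exists_injective_embedding (R := A) M
    let g : E →ₗ[A] E ⧸ LinearMap.range f := Submodule.mkQ _
    have hg : Function.Surjective g := Submodule.mkQ_surjective _
    have hfg : Function.Exact f g := LinearMap.exact_map_mkQ_range f
    haveI : Module.Injective A (ModuleCat.of A E) := hE
    let f' : M ⟶ ModuleCat.of A E := ModuleCat.ofHom f
    let g' : ModuleCat.of A E ⟶ ModuleCat.of A (E ⧸ LinearMap.range f) := ModuleCat.ofHom g
    rcases i with _ | i
    · haveI := subsingleton_H_of_injective (I := Ideal.span {a : A | a ∈ fs}) E (i := 1) one_pos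
      obtain ⟨e⟩ := nonempty_one' fs f' g' hf hg hfg hv
      let T : powTorsion (Ideal.span {a : A | a ∈ fs}) (E ⧸ LinearMap.range f) ≃ₗ[A]
          tor fs (E ⧸ LinearMap.range f) := LinearEquiv.ofEq _ _ (powTorsion_eq_tor fs _)
      let e2 : (powTorsion (Ideal.span {a : A | a ∈ fs}) (E ⧸ LinearMap.range f) ⧸
            LinearMap.range (gammaMap (Ideal.span {a : A | a ∈ fs}) g)) ≃ₗ[A]
          (tor fs (E ⧸ LinearMap.range f) ⧸
            ((tor fs E).map g).comap (tor fs (E ⧸ LinearMap.range f)).subtype) :=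
        Submodule.Quotient.equiv _ _ T (by
          ext q
          simp only [Submodule.mem_map, Submodule.mem_comap, LinearMap.mem_range]
          constructor
          · rintro ⟨_, ⟨x, rfl⟩, rfl⟩
            exact ⟨x.1, powTorsion_eq_tor fs E ▸ x.2, rfl⟩
          · rintro ⟨x, hx, hxq⟩
            exact ⟨_, ⟨⟨x, (powTorsion_eq_tor fs E).symm ▸ hx⟩, rfl⟩, Subtype.ext hxq⟩)
      exact ⟨((H1Equiv (I := Ideal.span {a : A | a ∈ fs}) hf hg hfg).symm.trans e2).trans e⟩
    · haveI := subsingleton_H_of_injective (I := Ideal.span {a : A | a ∈ fs}) E (i := i + 1) (by omega)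
      haveI := subsingleton_H_of_injective (I := Ideal.span {a : A | a ∈ fs}) E (i := i + 1 + 1) (by omega)
      obtain ⟨e⟩ := nonempty_shift' fs f' g' hf hg hfg hv (i + 1) (by omega)
      obtain ⟨e0⟩ := ih (ModuleCat.of A (E ⧸ LinearMap.range f))
      exact ⟨((shiftEquiv (I := Ideal.span {a : A | a ∈ fs}) hf hg hfg (i + 1)).symm.trans e0).trans e⟩

/-- over a Noetherian ring the limit Koszul cohomology kills injectives -/
theorem vanishInj [IsNoetherianRing A] (fs : List A) : VanishInj fs := by
  intro E hE p hp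
  let φ : MvPolynomial (Fin fs.length) A →+* A := MvPolynomial.eval fs.get
  let ts : List (MvPolynomial (Fin fs.length) A) :=
    List.ofFn fun i : Fin fs.length => (MvPolynomial.X i : MvPolynomial (Fin fs.length) A)
  have hts : ts.map φ = fs := by
    rw [List.map_ofFn]
    refine (List.ofFn_inj.2 (funext fun i => ?_)).trans (List.ofFn_get fs)
    simp [φ]
  letI : Algebra (MvPolynomial (Fin fs.length) A) A := φ.toAlgebra
  obtain ⟨e⟩ := nonempty_bridge φ E ts p
  obtain ⟨e'⟩ := nonempty_H_equiv (vanishInj_of_regPow (regPow_ofFn fs.length)) p (res φ E)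
  letI : Module (MvPolynomial (Fin fs.length) A) E := Module.compHom E φ
  haveI : IsScalarTower (MvPolynomial (Fin fs.length) A) A E :=
    IsScalarTower.of_algebraMap_smul fun _ _ => rfl
  haveI := subsingleton_H_of_injective_algebra (MvPolynomial (Fin fs.length) A) A
    (Ideal.span {a | a ∈ ts}) E (i := p) hp
  haveI : Subsingleton (koszulHLim ts (res φ E) p) :=
    e'.toEquiv.subsingleton_congr.1 (this : Subsingleton
      (_root_.LocCoh.H (Ideal.span {a | a ∈ ts}) p (res φ E)))
  rw [hts] at e
  exact e.toEquiv.subsingleton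

end Groth.Agent.CAlgH3.KoszulLocCoh
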