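import Groth.Agent.CAlgH3.ExtCechShift
import Groth.Agent.CAlgH3.KoszulLocCoh
import Groth.Agent.LocCoh.BSeq
import Mathlib.CategoryTheory.Abelian.Injective.Extend
import Mathlib.Algebra.Homology.DerivedCategory.KInjective

/-! Čech complexes of complexes, and comparison with the torsion subcomplex of an injective complex. -/

set_option autoImplicit false
set_option backward.isDefEq.respectTransparency false
set_option backward.isDefEq.respectTransparency.types false

universe u

open CategoryTheory CategoryTheory.Limits CochainComplex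
open Groth.Agent.CAlgH3.ExtCech
open Groth.Agent.Misc15.Koszul (tor mem_tor)

namespace Groth.Agent.CAlgH3.CechQis

variable {R : Type u} [CommRing R]
set_option quotPrecheck false


local notation "Cx" => CochainComplex (ModuleCat R) ℤ

/-- element-level quasi-isomorphisms -/
structure Qi {K L : CochainComplex (ModuleCat.{u} R) ℤ} (a : K ⟶ L) : Prop where
  inj : ∀ p q r : ℤ, p + 1 = q → q + 1 = r → ∀ x : K.X q, (K.d q r).hom x = 0 →
    (∃ y : L.X p, (L.d p q).hom y = (a.f q).hom x) → ∃ x' : K.X p, (K.d p q).hom x' = x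
  surj : ∀ p q r : ℤ, p + 1 = q → q + 1 = r → ∀ y : L.X q, (L.d q r).hom y = 0 →
    ∃ (x : K.X q) (w : L.X p), (K.d q r).hom x = 0 ∧ y = (a.f q).hom x + (L.d p q).hom w

theorem homologyπ_surjective (K : Cx) (q : ℤ) : Function.Surjective (K.homologyπ q).hom :=
  (ModuleCat.epi_iff_surjective _).1 inferInstance

theorem homologyπ_eq_zero_iff (K : Cx) (p q : ℤ) (hp : p + 1 = q) (z : K.cycles q) :
    (K.homologyπ q).hom z = 0 ↔ ∃ y : K.X p, (K.d p q).hom y = (K.iCycles q).hom z := by
  have hpq : (ComplexShape.up ℤ).prev q = p := CochainComplex.prev _ _ |>.trans (by omega)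
  have hex := (ShortComplex.mk (K.toCycles p q) (K.homologyπ q) (K.toCycles_comp_homologyπ p q)).exact_of_g_is_cokernel
    (K.homologyIsCokernel p q hpq)
  rw [ShortComplex.ShortExact.moduleCat_exact_iff_function_exact] at hex
  refine (hex z).trans ⟨?_, ?_⟩
  · rintro ⟨y, rfl⟩
    exact ⟨y, (congrArg (fun k => k.hom y) (K.toCycles_i p q)).symm⟩
  · rintro ⟨y, hy⟩
    refine ⟨y, (ModuleCat.mono_iff_injective (K.iCycles q)).1 inferInstance ?_⟩
    exact (congrArg (fun k => k.hom y) (K.toCycles_i p q)).trans hy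

theorem homologyMap_π {K L : Cx} (a : K ⟶ L) (q : ℤ) (z : K.cycles q) :
    (HomologicalComplex.homologyMap a q).hom ((K.homologyπ q).hom z) =
      (L.homologyπ q).hom ((HomologicalComplex.cyclesMap a q).hom z) :=
  congrArg (fun k => k.hom z) (HomologicalComplex.homologyπ_naturality a q)

theorem cyclesMap_i_apply {K L : Cx} (a : K ⟶ L) (q : ℤ) (z : K.cycles q) :
    (L.iCycles q).hom ((HomologicalComplex.cyclesMap a q).hom z) = (a.f q).hom ((K.iCycles q).hom z) :=
  congrArg (fun k => k.hom z) (HomologicalComplex.cyclesMap_i a q)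

theorem Qi.bijective_homologyMap {K L : Cx} {a : K ⟶ L} (h : Qi a) (q : ℤ) :
    Function.Bijective (HomologicalComplex.homologyMap a q).hom := by
  refine ⟨(injective_iff_map_eq_zero _).2 fun c hc => ?_, fun c => ?_⟩
  · obtain ⟨z, rfl⟩ := homologyπ_surjective K q c
    rw [homologyMap_π, homologyπ_eq_zero_iff L (q - 1) q (by omega), cyclesMap_i_apply] at hc
    exact (homologyπ_eq_zero_iff K (q - 1) q (by omega) z).2 (h.inj (q - 1) q (q + 1) (by omega) rfl _
      (congrArg (fun k => k.hom z) (K.iCycles_d q (q + 1))) hc)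
  · obtain ⟨z, rfl⟩ := homologyπ_surjective L q c
    obtain ⟨x, w, hx, hy⟩ := h.surj (q - 1) q (q + 1) (by omega) rfl _
      (congrArg (fun k => k.hom z) (L.iCycles_d q (q + 1)))
    obtain ⟨t, ht⟩ := exists_cycle K q (q + 1) rfl x hx
    refine ⟨(K.homologyπ q).hom t, ?_⟩
    rw [homologyMap_π, ← sub_eq_zero, ← map_sub, homologyπ_eq_zero_iff L (q - 1) q (by omega)]
    exact ⟨-w, by
      rw [map_sub, cyclesMap_i_apply, ht, map_neg]
      erw [hy]
      abel⟩

theorem Qi.quasiIso {K L : Cx} {a : K ⟶ L} (h : Qi a) : QuasiIso a :=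
  ⟨fun q => by
    rw [quasiIsoAt_iff_isIso_homologyMap, ConcreteCategory.isIso_iff_bijective]
    exact h.bijective_homologyMap q⟩

theorem qi_of_quasiIso {K L : Cx} (a : K ⟶ L) [QuasiIso a] : Qi a := by
  have hb : ∀ q, Function.Bijective (HomologicalComplex.homologyMap a q).hom := fun q =>
    (ConcreteCategory.isIso_iff_bijective (HomologicalComplex.homologyMap a q)).1 inferInstance
  refine ⟨fun p q r hp hr x hx hy => ?_, fun p q r hp hr y hy => ?_⟩
  · obtain ⟨z, rfl⟩ := exists_cycle K q r hr x hx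
    rw [← homologyπ_eq_zero_iff K p q hp]
    refine (hb q).1 ?_
    rw [map_zero, homologyMap_π, homologyπ_eq_zero_iff L p q hp, cyclesMap_i_apply]
    exact hy
  · obtain ⟨z, rfl⟩ := exists_cycle L q r hr y hy
    obtain ⟨c, hc⟩ := (hb q).2 ((L.homologyπ q).hom z)
    obtain ⟨t, rfl⟩ := homologyπ_surjective K q c
    rw [homologyMap_π, eq_comm, ← sub_eq_zero, ← map_sub, homologyπ_eq_zero_iff L p q hp, map_sub,
      cyclesMap_i_apply] at hc
    obtain ⟨w, hw⟩ := hc
    exact ⟨(K.iCycles q).hom t, w, congrArg (fun k => k.hom t) (K.iCycles_d q r), by rw [hw]; abel⟩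

theorem afst_add {K L : Cx} (φ : K ⟶ L) {q : ℤ} (x y : (mappingCocone φ).X q) :
    afst φ (x + y) = afst φ x + afst φ y :=
  map_add ((mappingCone.fst φ).1.v (q + -1) q (by omega)).hom x y

theorem asnd_add {K L : Cx} (φ : K ⟶ L) {q p : ℤ} (hp : p + 1 = q) (x y : (mappingCocone φ).X q) :
    asnd φ hp (x + y) = asnd φ hp x + asnd φ hp y :=
  (congrArg (L.XIsoOfEq (show q + -1 = p by omega)).hom.hom
    (map_add ((mappingCone.snd φ).v (q + -1) (q + -1) (add_zero _)).hom x y)).trans (map_add _ _ _)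

section cocone

variable {K K' L L' : CochainComplex (ModuleCat.{u} R) ℤ} (φ : K ⟶ L) (φ' : K' ⟶ L')
  (a : K ⟶ K') (b : L ⟶ L') (comm : φ ≫ b = a ≫ φ')

theorem comm_apply (c : K ⟶ L) (p q : ℤ) (x : K.X p) :
    (L.d p q).hom ((c.f p).hom x) = (c.f q).hom ((K.d p q).hom x) :=
  congrArg (fun k => k.hom x) (c.comm p q)

include comm in
theorem sq_apply (q : ℤ) (x : K.X q) : (b.f q).hom ((φ.f q).hom x) = (φ'.f q).hom ((a.f q).hom x) :=
  congrArg (fun k => (k.f q).hom x) comm

theorem qi_coconeMap (ha : Qi a) (hb : Qi b) : Qi (coconeMap φ φ' a b comm) := by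
  constructor
  · intro p q r hp hr z hz hw
    obtain ⟨w, hw⟩ := hw
    set z1 := afst φ z with hz1
    set z2 := asnd φ hp z with hz2
    have h1 : (K.d q r).hom z1 = 0 := by
      rw [hz1, ← afst_d φ q r hr z, hz]
      exact afst_zero _
    have h2 : (L.d p q).hom z2 = -(φ.f q).hom z1 := by
      have h := asnd_d φ p q r hp hr z
      rw [hz, asnd_zero] at h
      rw [eq_neg_iff_add_eq_zero, add_comm]
      exact neg_eq_zero.1 h.symm
    have hw1 : (K'.d p q).hom (afst φ' w) = (a.f q).hom z1 := by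
      rw [← afst_d φ' p q hp w, hw, afst_coconeMap]
    obtain ⟨c, hc⟩ := ha.inj p q r hp hr z1 h1 ⟨_, hw1⟩
    obtain ⟨t, v, ht, htv⟩ := ha.surj (p - 1) p q (by omega) hp (afst φ' w - (a.f p).hom c) (by
      rw [map_sub, hw1, comm_apply a p q, hc, sub_self])
    set c' := c + t with hc'
    have hc'd : (K.d p q).hom c' = z1 := by rw [hc', map_add, hc, ht, add_zero]
    have hw2 : asnd φ' hp ((coconeMap φ φ' a b comm).f q |>.hom z) =
        -((φ'.f p).hom (afst φ' w) + (L'.d (p - 1) p).hom (asnd φ' (show p - 1 + 1 = p by omega) w)) := by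
      rw [← hw]
      exact asnd_d φ' (p - 1) p q (by omega) hp w
    rw [asnd_coconeMap, ← hz2] at hw2
    obtain ⟨e, he⟩ := hb.inj (p - 1) p q (by omega) hp (z2 + (φ.f p).hom c') (by
      rw [map_add, h2, comm_apply φ p q, hc'd, neg_add_cancel])
      ⟨-asnd φ' (show p - 1 + 1 = p by omega) w - (φ'.f (p - 1)).hom v, by
        rw [map_sub, map_neg, comm_apply φ' (p - 1) p, map_add, hw2, sq_apply φ φ' a b comm,
          show afst φ' w = (a.f p).hom c' + (K'.d (p - 1) p).hom v by
            rw [hc', map_add, add_assoc, ← htv]; abel,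
          map_add]
        abel⟩
    refine ⟨amk φ (show p - 1 + 1 = p by omega) c' (-e), cocone_ext φ hp ?_ ?_⟩
    · rw [afst_d φ p q hp, afst_amk, hc'd]
    · rw [asnd_d φ (p - 1) p q (by omega) hp, afst_amk, asnd_amk, map_neg, he]
      abel
  · intro p q r hp hr y hy
    set y1 := afst φ' y with hy1
    set y2 := asnd φ' hp y with hy2
    have h1 : (K'.d q r).hom y1 = 0 := by
      rw [hy1, ← afst_d φ' q r hr y, hy]
      exact afst_zero _
    have h2 : (L'.d p q).hom y2 = -(φ'.f q).hom y1 := by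
      have h := asnd_d φ' p q r hp hr y
      rw [hy, asnd_zero] at h
      rw [eq_neg_iff_add_eq_zero, add_comm]
      exact neg_eq_zero.1 h.symm
    obtain ⟨x, v, hx, hxv⟩ := ha.surj p q r hp hr y1 h1
    obtain ⟨u, hu⟩ := hb.inj p q r hp hr (-(φ.f q).hom x) (by
      rw [map_neg, comm_apply φ q r, hx, map_zero, neg_zero])
      ⟨y2 + (φ'.f p).hom v, by
        rw [map_add, h2, comm_apply φ' p q, map_neg, sq_apply φ φ' a b comm, hxv, map_add]
        abel⟩
    obtain ⟨s, e, hs, hse⟩ := hb.surj (p - 1) p q (by omega) hp (y2 + (φ'.f p).hom v - (b.f p).hom u) (by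
      rw [map_sub, map_add, h2, comm_apply φ' p q, comm_apply b p q, hu, map_neg,
        sq_apply φ φ' a b comm, hxv, map_add]
      abel)
    refine ⟨amk φ hp x (u + s), amk φ' (show p - 1 + 1 = p by omega) v (-e), ?_, ?_⟩
    · refine cocone_ext φ hr ?_ ?_
      · rw [afst_d φ q r hr, afst_amk, hx]
        exact (afst_zero _).symm
      · rw [asnd_d φ p q r hp hr, afst_amk, asnd_amk, map_add, hu, hs, add_zero, add_neg_cancel,
          neg_zero]
        exact (asnd_zero _ _).symm
    · refine cocone_ext φ' hp ?_ ?_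
      · rw [← hy1, hxv, afst_add, afst_coconeMap, afst_amk, afst_d φ' p q hp, afst_amk]
      · rw [← hy2, asnd_add, asnd_coconeMap, asnd_d φ' (p - 1) p q (by omega) hp, afst_amk, asnd_amk, asnd_amk,
          map_neg, map_add, eq_comm, ← sub_eq_zero]
        rw [← sub_eq_zero, ← neg_eq_zero] at hse
        rw [← hse]
        abel

end cocone

/-- the Čech complex of a complex -/
noncomputable def CF : List R → Cx → Cx
  | [], K => K
  | f :: fs, K => mappingCocone (DerCA.locCxUnit (Submonoid.powers f) (CF fs K))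

noncomputable def CFmap {K L : Cx} (a : K ⟶ L) : ∀ fs : List R, CF fs K ⟶ CF fs L
  | [] => a
  | _ :: fs => coconeMap _ _ (CFmap a fs) ((DerCA.locCx _).map (CFmap a fs)) (locCxUnit_natural _ _)

theorem qi_loc {K L : Cx} {a : K ⟶ L} (h : Qi a) (f : R) :
    Qi ((DerCA.locCx (Submonoid.powers f)).map a) := by
  have hnat : ∀ (q : ℤ) (x : K.X q), (((DerCA.locCx (Submonoid.powers f)).map a).f q).hom
      (((DerCA.locCxUnit (Submonoid.powers f) K).f q).hom x) =
      ((DerCA.locCxUnit (Submonoid.powers f) L).f q).hom ((a.f q).hom x) := fun q x =>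
    congrArg (fun k => (k.f q).hom x) (locCxUnit_natural (Submonoid.powers f) a)
  constructor
  · intro p q r hp hr x hx hy
    obtain ⟨y, hy⟩ := hy
    obtain ⟨c, n, hc⟩ := exists_loc f K q x
    obtain ⟨c', n', hc'⟩ := exists_loc f L p y
    have h1 := congrArg (((DerCA.locCx (Submonoid.powers f)).obj K).d q r).hom hc
    rw [map_smul, hx, smul_zero, locUnit_d] at h1
    obtain ⟨m, hm⟩ := (locUnit_eq_zero f K r _).1 h1.symm
    have h2 : ((DerCA.locCxUnit (Submonoid.powers f) L).f q).hom
        ((a.f q).hom (f ^ n' • c) - (L.d p q).hom (f ^ n • c')) = 0 := by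
      rw [map_sub, ← hnat, ← locUnit_d, map_smul, map_smul, map_smul, ← hc, ← hc', map_smul, map_smul,
        map_smul, hy, smul_comm, sub_self]
    obtain ⟨m', hm'⟩ := (locUnit_eq_zero f L q _).1 h2
    obtain ⟨x', hx'⟩ := h.inj p q r hp hr (f ^ (m + m' + n') • c)
      (by rw [map_smul, show m + m' + n' = m' + n' + m by omega, pow_add, mul_smul, hm, smul_zero])
      ⟨f ^ (m + m' + n) • c', by
        rw [smul_sub, sub_eq_zero] at hm'
        rw [pow_add, mul_smul, map_smul, pow_add _ (m + m') n', mul_smul, map_smul (a.f q).hom,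
          pow_add, mul_smul, mul_smul, ← hm']⟩
    obtain ⟨z, hz⟩ := smul_pow_surjective f K p (m + m' + n' + n)
      (((DerCA.locCxUnit (Submonoid.powers f) K).f p).hom x')
    refine ⟨z, smul_pow_injective f K q (m + m' + n' + n) ?_⟩
    simp only at hz ⊢
    rw [← map_smul, hz, locUnit_d, hx', map_smul, ← hc, smul_smul, ← pow_add]
  · intro p q r hp hr y hy
    obtain ⟨c, n, hc⟩ := exists_loc f L q y
    have h1 := congrArg (((DerCA.locCx (Submonoid.powers f)).obj L).d q r).hom hc
    rw [map_smul, hy, smul_zero, locUnit_d] at h1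
    obtain ⟨m, hm⟩ := (locUnit_eq_zero f L r _).1 h1.symm
    obtain ⟨x, w, hx, hxw⟩ := h.surj p q r hp hr (f ^ m • c) (by rw [map_smul, hm])
    obtain ⟨x', hx'⟩ := smul_pow_surjective f K q (m + n) (((DerCA.locCxUnit (Submonoid.powers f) K).f q).hom x)
    obtain ⟨w', hw'⟩ := smul_pow_surjective f L p (m + n) (((DerCA.locCxUnit (Submonoid.powers f) L).f p).hom w)
    simp only at hx' hw'
    refine ⟨x', w', smul_pow_injective f K r (m + n) ?_, smul_pow_injective f L q (m + n) ?_⟩
    · simp only
      rw [smul_zero, ← map_smul, hx', locUnit_d, hx, map_zero]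
    · simp only
      rw [smul_add, ← map_smul, ← map_smul, hx', hw', hnat, locUnit_d, ← map_add, ← hxw, map_smul, ← hc,
        smul_smul, ← pow_add]

theorem qi_CFmap {K L : Cx} {a : K ⟶ L} (h : Qi a) : ∀ fs : List R, Qi (CFmap a fs)
  | [] => h
  | f :: fs => qi_coconeMap _ _ _ _ _ (qi_CFmap h fs) (qi_loc (qi_CFmap h fs) f)

theorem Qi.comp {K L M : Cx} {a : K ⟶ L} {b : L ⟶ M} (ha : Qi a) (hb : Qi b) : Qi (a ≫ b) := by
  haveI := ha.quasiIso
  haveI := hb.quasiIso
  exact qi_of_quasiIso _

theorem CF_single (M : ModuleCat.{u} R) : ∀ fs : List R,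
    CF fs ((HomologicalComplex.single (ModuleCat.{u} R) (ComplexShape.up ℤ) 0).obj M) = DerCA.extCech M fs
  | [] => rfl
  | f :: fs => by
      show mappingCocone (DerCA.locCxUnit (Submonoid.powers f) _) = mappingCocone _
      rw [CF_single M fs]

/-- the torsion subcomplex -/
noncomputable def torCx (fs : List R) (K : Cx) : Cx where
  X q := ModuleCat.of R (tor fs (K.X q))
  d p q := ModuleCat.ofHom (((K.d p q).hom.comp (tor fs (K.X p)).subtype).codRestrict _ fun x =>
    mem_tor.2 fun g hg => by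
      obtain ⟨n, hn⟩ := mem_tor.1 x.2 g hg
      exact ⟨n, (map_smul (K.d p q).hom _ _).symm.trans ((congrArg (K.d p q).hom hn).trans (map_zero (K.d p q).hom))⟩)
  shape p q h := by
    ext x
    exact congrArg (fun k => k.hom x.1) (K.shape p q h)
  d_comp_d' p q r _ _ := by
    ext x
    exact congrArg (fun k => k.hom x.1) (K.d_comp_d p q r)

/-- the inclusion of the torsion subcomplex -/
noncomputable def torIncl (fs : List R) (K : Cx) : torCx fs K ⟶ K where
  f q := ModuleCat.ofHom (tor fs (K.X q)).subtype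
  comm' _ _ _ := rfl

noncomputable def torCons (f : R) (fs : List R) (K : Cx) : torCx (f :: fs) K ⟶ torCx fs K where
  f q := ModuleCat.ofHom (Submodule.inclusion fun x hx =>
    mem_tor.2 fun g hg => mem_tor.1 hx g (List.mem_cons_of_mem _ hg))
  comm' _ _ _ := rfl

/-- the inclusion in the cocone -/
noncomputable def intoCocone {K L : Cx} (φ : K ⟶ L) {T : Cx} (i : T ⟶ K) (h : i ≫ φ = 0) :
    T ⟶ mappingCocone φ where
  f q := ModuleCat.ofHom
    { toFun := fun x => amk φ (show q - 1 + 1 = q by omega) ((i.f q).hom x) 0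
      map_add' := fun x y => cocone_ext φ (show q - 1 + 1 = q by omega)
        (by rw [afst_add, afst_amk, afst_amk, afst_amk, map_add])
        (by rw [asnd_add, asnd_amk, asnd_amk, asnd_amk, add_zero])
      map_smul' := fun r x => cocone_ext φ (show q - 1 + 1 = q by omega)
        (by rw [RingHom.id_apply, afst_smul, afst_amk, afst_amk, map_smul])
        (by rw [RingHom.id_apply, asnd_smul, asnd_amk, asnd_amk, smul_zero]) }
  comm' p q hpq := by
    simp only [ComplexShape.up_Rel] at hpq
    ext x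
    refine cocone_ext φ hpq ?_ ?_
    · show afst φ (((mappingCocone φ).d p q).hom (amk φ (show p - 1 + 1 = p by omega) _ _)) = afst φ (amk φ (show q - 1 + 1 = q by omega) _ _)
      rw [afst_d φ p q hpq, afst_amk, afst_amk]
      exact comm_apply i p q x
    · show asnd φ hpq (((mappingCocone φ).d p q).hom (amk φ (show p - 1 + 1 = p by omega) _ _)) = asnd φ hpq (amk φ (show q - 1 + 1 = q by omega) _ _)
      rw [asnd_d φ (p - 1) p q (by omega) hpq, afst_amk, asnd_amk, map_zero, add_zero]
      obtain rfl : p = q - 1 := by omega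
      rw [asnd_amk, show (φ.f (q - 1)).hom ((i.f (q - 1)).hom x) = 0 from
        congrArg (fun k => (k.f (q - 1)).hom x) h, neg_zero]

section tor

variable [IsNoetherianRing R]

theorem locUnit_tor_surjective (K : CochainComplex (ModuleCat.{u} R) ℤ) [∀ q, Injective (K.X q)] (f : R) (fs : List R) (q : ℤ) :
    Function.Surjective ((DerCA.locCxUnit (Submonoid.powers f) (torCx fs K)).f q).hom := by
  haveI : Module.Injective R (K.X q) := (Module.injective_iff_injective_object R (K.X q)).2 inferInstance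
  haveI : Module.Injective R (tor fs (K.X q)) := by
    rw [← KoszulLocCoh.powTorsion_eq_tor fs (K.X q)]
    exact LocCoh.injective_powTorsion _ _
  obtain ⟨U, -, hU⟩ := LocCoh.exists_loc_injective (b := f) (tor fs (K.X q))
  intro y
  obtain ⟨u, hu⟩ := hU.2 y
  exact ⟨u.1, hu⟩

theorem torCons_comp (K : Cx) (f : R) (fs : List R) :
    torCons f fs K ≫ DerCA.locCxUnit (Submonoid.powers f) (torCx fs K) = 0 := by
  ext q x
  obtain ⟨n, hn⟩ := mem_tor.1 x.2 f (List.mem_cons_self ..)
  exact (locUnit_eq_zero f (torCx fs K) q _).2 ⟨n, Subtype.ext hn⟩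

theorem qi_intoCocone (K : Cx) [∀ q, Injective (K.X q)] (f : R) (fs : List R) :
    Qi (intoCocone _ (torCons f fs K) (torCons_comp K f fs)) := by
  set φ := DerCA.locCxUnit (Submonoid.powers f) (torCx fs K)
  have hker : ∀ (q : ℤ) (a : (torCx fs K).X q), (φ.f q).hom a = 0 →
      ∃ t : (torCx (f :: fs) K).X q, ((torCons f fs K).f q).hom t = a := fun q a ha => by
    obtain ⟨n, hn⟩ := (locUnit_eq_zero f _ q a).1 ha
    refine ⟨⟨a.1, mem_tor.2 fun g hg => ?_⟩, Subtype.ext rfl⟩
    rcases List.mem_cons.1 hg with rfl | hg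
    · exact ⟨n, congrArg Subtype.val hn⟩
    · exact mem_tor.1 a.2 g hg
  have hinj : ∀ q, Function.Injective ((torCons f fs K).f q).hom := fun q x y h =>
    Subtype.ext (congrArg (fun z => (z : tor fs (K.X q)).1) h)
  constructor
  · intro p q r hp hr x _ hy
    obtain ⟨w, hw⟩ := hy
    have h1 := congrArg (afst φ) hw
    rw [afst_d φ p q hp] at h1
    have h2 := congrArg (asnd φ hp) hw
    rw [asnd_d φ (p - 1) p q (by omega) hp] at h2
    obtain ⟨d, hd⟩ := locUnit_tor_surjective K f fs (p - 1) (asnd φ (show p - 1 + 1 = p by omega) w)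
    have h3 : (φ.f p).hom (afst φ w + ((torCx fs K).d (p - 1) p).hom d) = 0 := by
      rw [map_add, ← comm_apply φ (p - 1) p d, hd, ← neg_eq_zero, h2]
      obtain rfl : p = q - 1 := by omega
      exact asnd_amk φ (show q - 1 + 1 = q by omega) _ _
    obtain ⟨t, ht⟩ := hker p _ h3
    refine ⟨t, hinj q ?_⟩
    rw [← comm_apply (torCons f fs K) p q, ht, map_add, h1,
      show ((torCx fs K).d p q).hom (((torCx fs K).d (p - 1) p).hom d) = 0 from
        congrArg (fun k => k.hom d) ((torCx fs K).d_comp_d (p - 1) p q), add_zero]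
    exact afst_amk φ (show q - 1 + 1 = q by omega) _ _
  · intro p q r hp hr y hy
    have h1 : ((torCx fs K).d q r).hom (afst φ y) = 0 := by
      rw [← afst_d φ q r hr y, hy]
      exact afst_zero _
    have h2 : (φ.f q).hom (afst φ y) + _ = 0 := neg_eq_zero.1 ((asnd_d φ p q r hp hr y).symm.trans
      ((congrArg (asnd φ hr) hy).trans (asnd_zero φ hr)))
    obtain ⟨d, hd⟩ := locUnit_tor_surjective K f fs p (asnd φ hp y)
    rw [← hd, comm_apply φ p q, ← map_add] at h2
    obtain ⟨t, ht⟩ := hker q _ h2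
    refine ⟨t, amk φ (show p - 1 + 1 = p by omega) (-d) 0, hinj r ?_, ?_⟩
    · rw [← comm_apply (torCons f fs K) q r, ht, map_add, h1, zero_add, map_zero]
      exact congrArg (fun k => k.hom d) ((torCx fs K).d_comp_d p q r)
    · refine cocone_ext φ hp ?_ ?_
      · rw [afst_add, afst_d φ p q hp, afst_amk, map_neg,
          show afst φ ((intoCocone φ (torCons f fs K) (torCons_comp K f fs)).f q |>.hom t) =
            ((torCons f fs K).f q).hom t from afst_amk φ (show q - 1 + 1 = q by omega) _ _, ht]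
        abel
      · obtain rfl : p = q - 1 := by omega
        rw [asnd_add, asnd_d φ (q - 1 - 1) (q - 1) q (by omega) hp, afst_amk, asnd_amk, map_neg, map_zero,
          add_zero, neg_neg, hd]
        exact (zero_add _).symm.trans (congrArg (· + _) (asnd_amk φ _ _ _).symm)

/-- the comparison map -/
theorem exists_torCx_qi (K : Cx) [∀ q, Injective (K.X q)] : ∀ fs : List R,
    ∃ j : torCx fs K ⟶ CF fs K, Qi j
  | [] => by
      refine ⟨torIncl [] K, ?_⟩
      constructor
      · rintro p q r _ _ x _ ⟨y, hy⟩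
        exact ⟨⟨y, mem_tor.2 fun g hg => absurd hg List.not_mem_nil⟩, Subtype.ext hy⟩
      · intro p q r _ _ y hy
        exact ⟨⟨y, mem_tor.2 fun g hg => absurd hg List.not_mem_nil⟩, 0, Subtype.ext hy, by
          rw [map_zero, add_zero]; rfl⟩
  | f :: fs => by
      obtain ⟨j, hj⟩ := exists_torCx_qi K fs
      exact ⟨intoCocone _ (torCons f fs K) (torCons_comp K f fs) ≫
        coconeMap _ _ j ((DerCA.locCx _).map j) (locCxUnit_natural _ _),
        (qi_intoCocone K f fs).comp (qi_coconeMap _ _ _ _ _ hj (qi_loc hj f))⟩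

theorem isStrictlyGE_torCx (fs : List R) (K : Cx) [K.IsStrictlyGE 0] : (torCx fs K).IsStrictlyGE 0 := by
  rw [CochainComplex.isStrictlyGE_iff]
  intro i hi
  haveI := ModuleCat.subsingleton_of_isZero (CochainComplex.isZero_of_isStrictlyGE K 0 i hi)
  exact @ModuleCat.isZero_of_subsingleton _ _ _ (inferInstanceAs (Subsingleton (tor fs (K.X i))))

theorem injective_torCx (fs : List R) (K : CochainComplex (ModuleCat.{u} R) ℤ) [∀ q, Injective (K.X q)] (q : ℤ) :
    Injective ((torCx fs K).X q) := by
  haveI : Module.Injective R (K.X q) := (Module.injective_iff_injective_object R (K.X q)).2 inferInstance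
  have : Module.Injective R (tor fs (K.X q)) := by
    rw [← KoszulLocCoh.powTorsion_eq_tor fs (K.X q)]
    exact LocCoh.injective_powTorsion _ _
  exact (Module.injective_iff_injective_object R (ModuleCat.of R (tor fs (K.X q)))).1 this

/-- the Čech complex maps quasi-isomorphically to the torsion part of an injective resolution -/
theorem exists_cech_qi (M : ModuleCat.{u} R) (J : InjectiveResolution M) (fs : List R) :
    ∃ g : DerCA.extCech M fs ⟶ torCx fs J.cochainComplex, Qi g := by
  obtain ⟨j, hj⟩ := exists_torCx_qi J.cochainComplex fs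
  haveI := hj.quasiIso
  haveI := isStrictlyGE_torCx fs J.cochainComplex
  haveI := injective_torCx fs J.cochainComplex
  haveI : (torCx fs J.cochainComplex).IsKInjective :=
    CochainComplex.isKInjective_of_injective _ 0
  obtain ⟨h, hh⟩ : ∃ h : CF fs J.cochainComplex ⟶ torCx fs J.cochainComplex,
      Nonempty (Homotopy (j ≫ h) (𝟙 _)) := by
    letI := HasDerivedCategory.standard (ModuleCat.{u} R)
    let q := HomotopyCategory.quotient (ModuleCat.{u} R) (ComplexShape.up ℤ)
    haveI : IsIso (DerivedCategory.Qh.map (q.map j)) := by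
      have : IsIso (DerivedCategory.Q.map j) := inferInstance
      exact (NatIso.isIso_map_iff (DerivedCategory.quotientCompQhIso (ModuleCat.{u} R)) j).2 this
    obtain ⟨H, hH⟩ := (CochainComplex.IsKInjective.Qh_map_bijective (q.obj (CF fs J.cochainComplex))
      (torCx fs J.cochainComplex)).2 (inv (DerivedCategory.Qh.map (q.map j)))
    obtain ⟨h, rfl⟩ := q.map_surjective H
    refine ⟨h, ⟨HomotopyCategory.homotopyOfEq _ _
      ((CochainComplex.IsKInjective.Qh_map_bijective _ _).1 ?_)⟩⟩
    show DerivedCategory.Qh.map (q.map (j ≫ h)) = DerivedCategory.Qh.map (q.map (𝟙 _))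
    rw [q.map_comp, Functor.map_comp, hH, IsIso.hom_inv_id, q.map_id, DerivedCategory.Qh.map_id]
  have hh' : Qi h := by
    haveI : QuasiIso (j ≫ h) := ⟨fun q => by
      rw [quasiIsoAt_iff_isIso_homologyMap, hh.some.homologyMap_eq q, HomologicalComplex.homologyMap_id]
      infer_instance⟩
    haveI := quasiIso_of_comp_left j h
    exact qi_of_quasiIso h
  have hι : Qi J.ι' := qi_of_quasiIso J.ι'
  exact ⟨eqToHom (CF_single M fs).symm ≫ CFmap J.ι' fs ≫ h,
    (qi_of_quasiIso _).comp ((qi_CFmap hι fs).comp hh')⟩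

end tor

end Groth.Agent.CAlgH3.CechQis
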