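import Groth.Agent.CAlgH3.ConnDepthTwo
import Groth.Agent.FEtFF.Punctured

/-!
# Extending clopen subsets from a closed subscheme

If every irreducible component meets a closed subscheme in a connected set, non-closed points off it
specialize into it, and closed points off it have connected punctured local spectra, then clopen subsets
of the closed subscheme extend uniquely.
-/

set_option autoImplicit false
set_option linter.style.haveILetI false

universe u

open CategoryTheory AlgebraicGeometry TopologicalSpace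

namespace Groth.Agent.CAlgH3.ClopenSection

/-- Depth at least two at a point: its strict generizations form a preconnected set. -/
theorem isPreconnected_generizations {Z : Scheme.{u}} [IsLocallyNoetherian Z] (z : Z)
    (hz : (2 : ℕ∞) ≤ _root_.LocCoh.depth (Z.presheaf.stalk z) (Z.presheaf.stalk z)) :
    _root_.IsPreconnected {y : Z | y ⤳ z ∧ y ≠ z} := by
  let R := Z.presheaf.stalk z
  let U := FEt.puncturedSpec R
  let c : Spec R := IsLocalRing.closedPoint R
  have hcc : connectedComponent c = Set.univ := Set.eq_univ_of_forall fun y => by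
    have h : c ∈ connectedComponent y :=
      (IsLocalRing.specializes_closedPoint (y : PrimeSpectrum R)).mem_closed isClosed_connectedComponent
        mem_connectedComponent
    rw [← connectedComponent_eq h]
    exact mem_connectedComponent
  have hp : _root_.IsPreconnected (U : Set (Spec R)) := by
    have h := ConnDepthTwo.isPreconnected_inter U
      (fun x hx => FEtFF.Hartogs.two_le_depth_stalk hz x hx) c
    rwa [hcc, Set.univ_inter] at h
  have himg : Z.fromSpecStalk z '' (U : Set (Spec R)) = {y : Z | y ⤳ z ∧ y ≠ z} := by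
    ext y
    constructor
    · rintro ⟨p, hp, rfl⟩
      refine ⟨Scheme.range_fromSpecStalk.le ⟨p, rfl⟩, fun h => hp ?_⟩
      exact (Z.fromSpecStalk z).isEmbedding.injective (h.trans Scheme.fromSpecStalk_closedPoint.symm)
    · rintro ⟨hy, hne⟩
      obtain ⟨p, rfl⟩ := Scheme.range_fromSpecStalk.ge (show y ∈ {y | y ⤳ z} from hy)
      exact ⟨p, fun h => hne (by rw [show p = IsLocalRing.closedPoint R from h, Scheme.fromSpecStalk_closedPoint]), rfl⟩
  exact himg ▸ hp.image _ (Z.fromSpecStalk z).continuous.continuousOn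

/-- Unique extension of clopen subsets of a closed subscheme. -/
theorem existsUnique_clopen {Z P : Scheme.{u}} [IsNoetherian Z] (j : P ⟶ Z) [IsClosedImmersion j]
    (hcomp : ∀ C ∈ irreducibleComponents Z, _root_.IsConnected (C ∩ Set.range j))
    (hmeet : ∀ z : Z, z ∉ Set.range j → ¬ IsClosed ({z} : Set Z) → (closure {z} ∩ Set.range j).Nonempty)
    (hdepth : ∀ z : Z, z ∉ Set.range j → IsClosed ({z} : Set Z) →
      (2 : ℕ∞) ≤ _root_.LocCoh.depth (Z.presheaf.stalk z) (Z.presheaf.stalk z))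
    (V : Set P) (hV : IsClopen V) : ∃! W : Set Z, IsClopen W ∧ j.base ⁻¹' W = V := by
  classical
  have hfin : (irreducibleComponents Z).Finite := NoetherianSpace.finite_irreducibleComponents
  have hside : ∀ C ∈ irreducibleComponents Z, (j ⁻¹' C).Nonempty ∧ (j ⁻¹' C ⊆ V ∨ j ⁻¹' C ⊆ Vᶜ) := by
    intro C hC
    have hc := hcomp C hC
    rw [← Set.image_preimage_eq_inter_range] at hc
    have hp := (j.isClosedEmbedding.isInducing.isPreconnected_image).1 hc.2
    refine ⟨hc.nonempty.of_image, ?_⟩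
    by_cases h : (j ⁻¹' C ∩ V).Nonempty
    · exact Or.inl (hp.subset_isClopen hV h)
    · exact Or.inr fun z hz hzV => h ⟨z, hz, hzV⟩
  let S := {C ∈ irreducibleComponents Z | j ⁻¹' C ⊆ V}
  let S' := {C ∈ irreducibleComponents Z | ¬ j ⁻¹' C ⊆ V}
  have hcl : ∀ T ⊆ irreducibleComponents Z, IsClosed (⋃₀ T) := fun T hT => by
    rw [Set.sUnion_eq_biUnion]
    exact (hfin.subset hT).isClosed_biUnion fun C hC => isClosed_of_mem_irreducibleComponents C (hT hC)
  have hW := hcl S fun C hC => hC.1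
  have hW' := hcl S' fun C hC => hC.1
  have hcover : ∀ z, z ∈ ⋃₀ S ∨ z ∈ ⋃₀ S' := fun z => by
    by_cases h : j ⁻¹' irreducibleComponent z ⊆ V
    · exact Or.inl ⟨_, ⟨irreducibleComponent_mem_irreducibleComponents z, h⟩, mem_irreducibleComponent⟩
    · exact Or.inr ⟨_, ⟨irreducibleComponent_mem_irreducibleComponents z, h⟩, mem_irreducibleComponent⟩
  -- opposite sides do not meet inside the closed subscheme
  have hnot : ∀ z, z ∈ ⋃₀ S → z ∈ ⋃₀ S' → z ∉ Set.range j := by
    rintro _ ⟨C, ⟨hC, hCV⟩, hz⟩ ⟨C', ⟨hC', hC'V⟩, hz'⟩ ⟨v, rfl⟩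
    exact ((hside C' hC').2.resolve_left hC'V) hz' (hCV hz)
  have hclosedpt : ∀ z, z ∈ ⋃₀ S → z ∈ ⋃₀ S' → IsClosed ({z} : Set Z) := by
    intro z hz hz'
    by_contra hcl'
    obtain ⟨w, hw, hwr⟩ := hmeet z (hnot z hz hz') hcl'
    exact hnot w (closure_minimal (Set.singleton_subset_iff.2 hz) hW hw)
      (closure_minimal (Set.singleton_subset_iff.2 hz') hW' hw) hwr
  have hdisj : ∀ z, z ∈ ⋃₀ S → z ∈ ⋃₀ S' → False := by
    intro z hz hz'
    have hzr := hnot z hz hz'
    have hzc := hclosedpt z hz hz'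
    have hgen : ∀ {T : Set (Set Z)}, T ⊆ irreducibleComponents Z → z ∈ ⋃₀ T →
        ∃ y, y ⤳ z ∧ y ≠ z ∧ y ∈ ⋃₀ T := by
      rintro T hT ⟨C, hC, hzC⟩
      have hg := (hT hC).1.isGenericPoint_genericPoint (isClosed_of_mem_irreducibleComponents C (hT hC))
      refine ⟨_, hg.specializes hzC, fun h => ?_, C, hC, hg.mem⟩
      have hCz : C = {z} := by rw [← hg.def, h, hzc.closure_eq]
      obtain ⟨v, hv⟩ := (hside C (hT hC)).1
      exact hzr ⟨v, by rw [hCz] at hv; exact hv⟩
    obtain ⟨a, ha, hane, haW⟩ := hgen (fun C hC => hC.1) hz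
    obtain ⟨b, hb, hbne, hbW⟩ := hgen (fun C hC => hC.1) hz'
    obtain ⟨w, ⟨hwz, hwne⟩, hw, hw'⟩ := isPreconnected_closed_iff.1
      (isPreconnected_generizations z (hdepth z hzr hzc)) _ _ hW hW' (fun y _ => hcover y)
      ⟨a, ⟨ha, hane⟩, haW⟩ ⟨b, ⟨hb, hbne⟩, hbW⟩
    exact hwne (((hclosedpt w hw hw').closure_eq ▸ hwz.mem_closure : z ∈ ({w} : Set Z))).symm
  have hcompl : (⋃₀ S)ᶜ = ⋃₀ S' := Set.Subset.antisymm (fun z hz => (hcover z).resolve_left hz)
    fun z hz' hz => hdisj z hz hz'
  refine ⟨⋃₀ S, ⟨⟨hW, isClosed_compl_iff.1 (hcompl ▸ hW')⟩, Set.Subset.antisymm ?_ fun v hv => ?_⟩, ?_⟩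
  · rintro v ⟨C, ⟨-, hCV⟩, hvC⟩
    exact hCV hvC
  · rcases hcover (j v) with h | ⟨C, ⟨hC, hCV⟩, hvC⟩
    · exact h
    · exact absurd hv (((hside C hC).2.resolve_left hCV) hvC)
  · rintro W ⟨hWc, hWV⟩
    ext y
    constructor
    · intro hy
      refine ⟨irreducibleComponent y, ⟨irreducibleComponent_mem_irreducibleComponents y, fun w hw => ?_⟩,
        mem_irreducibleComponent⟩
      exact hWV.le ((irreducibleComponent_mem_irreducibleComponents y).1.isConnected.isPreconnected.subset_isClopen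
        hWc ⟨y, mem_irreducibleComponent, hy⟩ hw)
    · rintro ⟨C', ⟨hC', hC'V⟩, hy⟩
      obtain ⟨w, hw⟩ := (hside C' hC').1
      exact hC'.1.isConnected.isPreconnected.subset_isClopen hWc ⟨j w, hw, hWV.ge (hC'V hw)⟩ hy

end Groth.Agent.CAlgH3.ClopenSection
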