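import Mathlib
import Groth.Agent.CAlgMisc2.LocalFinite

/-! Dedekind domains finite over complete discrete valuation rings. -/

set_option autoImplicit false
universe u
open IsLocalRing

attribute [local instance] FractionRing.liftAlgebra

namespace Groth.Agent.CAlgH3.CompleteDedekindExt

variable (K : Type u) [Field K]
variable {A B : Type u} [CommRing A] [IsDomain A] [IsDiscreteValuationRing A]
  [IsAdicComplete (maximalIdeal A) A]
  [CommRing B] [IsDedekindDomain B] [Algebra A B] [Module.Finite A B] [Module.IsTorsionFree A B]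
  (M : Ideal B) [M.IsMaximal]

include A in
theorem eq_maximal : ∃ _ : IsLocalRing B, M = maximalIdeal B := by
  haveI : IsLocalRing B := CAlgMisc2.isLocalRing_of_finite_domain_complete (A := A)
  exact ⟨inferInstance, IsLocalRing.eq_maximalIdeal inferInstance⟩

theorem liesOver : M.LiesOver (maximalIdeal A) := by
  refine ⟨(IsLocalRing.eq_maximalIdeal ?_).symm⟩
  exact Ideal.IsMaximal.under A M

include A in
theorem ne_bot : M ≠ ⊥ := by
  haveI := liesOver (A := A) M
  exact Ideal.ne_bot_of_liesOver_of_ne_bot (IsDiscreteValuationRing.not_a_field A) M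

theorem map_eq_pow : (maximalIdeal A).map (algebraMap A B) = M ^ M.ramificationIdx A := by
  obtain ⟨_, rfl⟩ := eq_maximal (A := A) M
  haveI := liesOver (A := A) (maximalIdeal B)
  have hne := Ideal.map_ne_bot_of_ne_bot (S := B) (IsDiscreteValuationRing.not_a_field A)
  haveI : IsDiscreteValuationRing B := { not_a_field' := ne_bot (A := A) (maximalIdeal B) }
  obtain ⟨π, hπ⟩ := IsDiscreteValuationRing.exists_irreducible B
  obtain ⟨n, hn⟩ := IsDiscreteValuationRing.ideal_eq_span_pow_irreducible hne hπ
  have hn' : (maximalIdeal A).map (algebraMap A B) = maximalIdeal B ^ n := by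
    rw [hn, hπ.maximalIdeal_eq, Ideal.span_singleton_pow]
  rw [Ideal.IsDedekindDomain.ramificationIdx_eq_multiplicity (maximalIdeal A) (maximalIdeal B) hne, hn',
    multiplicity_pow_self_of_prime ((Ideal.prime_iff_isPrime (ne_bot (A := A) _)).2 inferInstance) n]

theorem e_mul_f : M.ramificationIdx A * M.inertiaDeg A = Module.finrank A B := by
  classical
  obtain ⟨_, rfl⟩ := eq_maximal (A := A) M
  haveI := liesOver (A := A) (maximalIdeal B)
  have huniq : ∀ Q : (maximalIdeal A).primesOver B, Q.1 = maximalIdeal B := by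
    rintro ⟨Q, hQ, hQo⟩
    have : Q ≠ ⊥ := Ideal.ne_bot_of_liesOver_of_ne_bot (IsDiscreteValuationRing.not_a_field A) Q
    exact IsLocalRing.eq_maximalIdeal (hQ.isMaximal this)
  letI : Unique ((maximalIdeal A).primesOver B) :=
    ⟨⟨⟨maximalIdeal B, inferInstance, inferInstance⟩⟩, fun Q => Subtype.ext (huniq Q)⟩
  rw [← Ideal.sum_ramification_inertia_eq_finrank (maximalIdeal A) B, Fintype.sum_unique]
  rfl

theorem emultiplicity_norm [Algebra.IsSeparable (FractionRing A) (FractionRing B)] (x : B) (hx : x ≠ 0) :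
    emultiplicity (maximalIdeal A) (Ideal.span {Algebra.intNorm A B x}) =
      (M.inertiaDeg A : ℕ∞) * emultiplicity M (Ideal.span {x}) := by
  have hMne := ne_bot (A := A) M
  have hp : Prime (maximalIdeal A) := (Ideal.prime_iff_isPrime (IsDiscreteValuationRing.not_a_field A)).2 inferInstance
  obtain ⟨_, rfl⟩ := eq_maximal (A := A) M
  haveI : IsDiscreteValuationRing B := { not_a_field' := hMne }
  obtain ⟨ϖ, hϖ⟩ := IsDiscreteValuationRing.exists_irreducible A
  have hM : Prime (maximalIdeal B) := (Ideal.prime_iff_isPrime hMne).2 inferInstance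
  have hrel : Ideal.relNorm A (maximalIdeal B) = maximalIdeal A ^ (maximalIdeal B).inertiaDeg A := by
    obtain ⟨s, hs⟩ := IsDiscreteValuationRing.ideal_eq_span_pow_irreducible
      (mt Ideal.relNorm_eq_bot_iff.1 hMne) hϖ
    rw [← Ideal.span_singleton_pow, ← hϖ.maximalIdeal_eq] at hs
    have h1 := congrArg (Ideal.relNorm A) (map_eq_pow (A := A) (maximalIdeal B))
    rw [Ideal.relNorm_algebraMap, map_pow, hs, ← pow_mul, ← e_mul_f (A := A) (maximalIdeal B)] at h1
    have h2 := congrArg (fun I => emultiplicity (maximalIdeal A) I) h1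
    simp only [emultiplicity_pow_self hp.ne_zero hp.not_isUnit, Nat.cast_inj] at h2
    have he : 0 < (maximalIdeal B).ramificationIdx A := Ideal.ramificationIdx_pos _ _
    rw [hs, Nat.eq_of_mul_eq_mul_left he (h2.trans (mul_comm _ _))]
  obtain ⟨π, hπ⟩ := IsDiscreteValuationRing.exists_irreducible B
  obtain ⟨n, hn⟩ := IsDiscreteValuationRing.ideal_eq_span_pow_irreducible
    (show Ideal.span {x} ≠ ⊥ by simpa using hx) hπ
  rw [← Ideal.span_singleton_pow, ← hπ.maximalIdeal_eq] at hn
  rw [← Ideal.relNorm_singleton, hn, map_pow, hrel, ← pow_mul, emultiplicity_pow_self hp.ne_zero hp.not_isUnit,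
    emultiplicity_pow_self hM.ne_zero hM.not_isUnit, Nat.cast_mul]

include A in
theorem henselian : ∃ _ : HenselianLocalRing B, M = maximalIdeal B := by
  obtain ⟨_, rfl⟩ := eq_maximal (A := A) M
  haveI : IsNoetherianRing A := inferInstance
  haveI : IsAdicComplete (maximalIdeal B) B := CAlgMisc2.isAdicComplete_maximalIdeal_of_finite (A := A)
  haveI : HenselianRing B (maximalIdeal B) := inferInstance
  exact ⟨{ is_henselian := fun f hf a h1 h2 =>
      HenselianRing.is_henselian f hf a h1 (h2.map (Ideal.Quotient.mk (maximalIdeal B))) }, rfl⟩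

omit [IsAdicComplete (maximalIdeal A) A] in
theorem eq_zero_of_algebraic [Algebra K B] {d : B} (hd : IsAlgebraic K d) (hdM : d ∈ M) : d = 0 := by
  by_contra h0
  obtain ⟨q, hq0, hqd⟩ := hd.isIntegral.isAlgebraic.exists_nonzero_coeff_and_aeval_eq_zero
    (mem_nonZeroDivisors_of_ne_zero h0)
  refine (inferInstance : M.IsMaximal).ne_top (Ideal.eq_top_of_isUnit_mem M ?_ ((IsUnit.mk0 _ hq0).map (algebraMap K B)))
  have h1 := hqd
  rw [← Polynomial.X_mul_divX_add q, map_add, map_mul, Polynomial.aeval_X, Polynomial.aeval_C] at h1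
  rw [eq_neg_of_add_eq_zero_right h1]
  exact neg_mem (M.mul_mem_right _ hdM)

theorem existsUnique_algebraic [PerfectField K] [Algebra K A]
    (hK : Function.Bijective ((residue A).comp (algebraMap K A))) [Algebra K B] [IsScalarTower K A B]
    (b : B) : ∃! c : B, IsAlgebraic K c ∧ b - c ∈ M := by
  obtain ⟨_, hM'⟩ := henselian (A := A) M
  subst hM'
  haveI := liesOver (A := A) (maximalIdeal B)
  have hfin : Module.Finite K (ResidueField B) := by
    haveI : Module.Finite A (ResidueField B) := Module.Finite.of_surjective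
      (IsScalarTower.toAlgHom A B (ResidueField B)).toLinearMap IsLocalRing.residue_surjective
    obtain ⟨s, hs⟩ := Module.Finite.fg_top (R := A) (M := ResidueField B)
    refine ⟨⟨s, top_unique fun z _ => ?_⟩⟩
    have hz : z ∈ Submodule.span A (s : Set (ResidueField B)) := hs ▸ Submodule.mem_top
    induction hz using Submodule.span_induction with
    | mem z hz => exact Submodule.subset_span hz
    | zero => exact zero_mem _
    | add z z' _ _ ih ih' => exact add_mem (ih trivial) (ih' trivial)
    | smul a z _ ih =>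
      obtain ⟨c, hc⟩ := hK.2 (residue A a)
      have hac : a • z = c • z := by
        rw [IsScalarTower.algebraMap_smul (R := K) (A := A) c z |>.symm, ← sub_eq_zero, ← sub_smul,
          Algebra.smul_def, IsScalarTower.algebraMap_apply A B (ResidueField B),
          IsLocalRing.ResidueField.algebraMap_eq, (residue_eq_zero_iff _).2, zero_mul]
        rw [← Ideal.mem_comap, show (maximalIdeal B).comap (algebraMap A B) = maximalIdeal A from (Ideal.LiesOver.over (P := maximalIdeal B) (p := maximalIdeal A)).symm]
        refine (residue_eq_zero_iff _).1 ?_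
        rw [map_sub, ← hc, RingHom.comp_apply, sub_self]
      rw [hac]
      exact Submodule.smul_mem _ _ (ih trivial)
  have hint : IsIntegral K (residue B b) := IsIntegral.of_finite K _
  let m := minpoly K (residue B b)
  have hsep : m.Separable := PerfectField.separable_of_irreducible (minpoly.irreducible hint)
  have h0 : (m.map (algebraMap K B)).eval b ∈ maximalIdeal B := by
    rw [Polynomial.eval_map_algebraMap, ← residue_eq_zero_iff]
    show algebraMap B (ResidueField B) _ = 0
    rw [← Polynomial.aeval_algebraMap_apply]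
    exact minpoly.aeval K (residue B b)
  have h1 : IsUnit ((m.map (algebraMap K B)).derivative.eval b) := by
    rw [← IsLocalRing.notMem_maximalIdeal, Polynomial.derivative_map, Polynomial.eval_map_algebraMap,
      ← residue_eq_zero_iff]
    show algebraMap B (ResidueField B) _ ≠ 0
    rw [← Polynomial.aeval_algebraMap_apply]
    exact hsep.aeval_derivative_ne_zero (minpoly.aeval K (residue B b))
  obtain ⟨c, hc, hcb⟩ := HenselianLocalRing.is_henselian _ ((minpoly.monic hint).map (algebraMap K B)) b h0 h1
  have halg : IsAlgebraic K c := ⟨m, minpoly.ne_zero hint, by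
    rw [← Polynomial.eval_map_algebraMap]; exact hc⟩
  refine ⟨c, ⟨halg, by rw [← neg_sub]; exact neg_mem hcb⟩, fun c' hc' => ?_⟩
  refine sub_eq_zero.1 (eq_zero_of_algebraic K (maximalIdeal B) (hc'.1.sub halg) ?_)
  rw [show c' - c = (b - c) - (b - c') by ring]
  exact sub_mem (by rw [← neg_sub]; exact neg_mem hcb) hc'.2

theorem tame (hram : M.ramificationIdx A = Module.finrank A B)
    (hm : IsUnit ((Module.finrank A B : ℕ) : A)) :
    ∃ u : B, u ∈ M ∧ u ∉ M ^ 2 ∧ u ^ Module.finrank A B ∈ (algebraMap A B).range ∧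
      (minpoly A u).natDegree = Module.finrank A B := by
  obtain ⟨_, hM'⟩ := henselian (A := A) M
  subst hM'
  haveI := liesOver (A := A) (maximalIdeal B)
  set n := Module.finrank A B
  have hn : 0 < n := Module.finrank_pos
  have hf : (maximalIdeal B).inertiaDeg A = 1 := by
    have := e_mul_f (A := A) (maximalIdeal B)
    rw [hram] at this
    exact Nat.eq_of_mul_eq_mul_left hn (this.trans (mul_one _).symm)
  have hMne := ne_bot (A := A) (maximalIdeal B)
  haveI : IsDiscreteValuationRing B := { not_a_field' := hMne }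
  obtain ⟨π, hπ⟩ := IsDiscreteValuationRing.exists_irreducible B
  obtain ⟨ϖ, hϖ⟩ := IsDiscreteValuationRing.exists_irreducible A
  have hspan : Ideal.span {algebraMap A B ϖ} = Ideal.span {π ^ n} := by
    rw [← Ideal.span_singleton_pow, ← hπ.maximalIdeal_eq, ← Set.image_singleton, ← Ideal.map_span, ← hϖ.maximalIdeal_eq,
      map_eq_pow (A := A) (maximalIdeal B), hram]
  obtain ⟨w, hw⟩ := (Ideal.span_singleton_eq_span_singleton.1 hspan)
  have hsurj : Function.Surjective (algebraMap (A ⧸ maximalIdeal A) (B ⧸ maximalIdeal B)) := by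
    letI := Ideal.Quotient.field (maximalIdeal A)
    letI := Ideal.Quotient.field (maximalIdeal B)
    have h1 : Module.finrank (A ⧸ maximalIdeal A) (B ⧸ maximalIdeal B) = 1 := by
      rw [← Ideal.inertiaDeg_eq_of_isMaximal (maximalIdeal A) (maximalIdeal B), hf]
    exact Algebra.surjective_algebraMap_iff.2 (Subalgebra.bot_eq_top_iff_finrank_eq_one.2 h1).symm
  obtain ⟨c₀, hc₀⟩ := hsurj (Ideal.Quotient.mk _ (w : B))
  obtain ⟨c, rfl⟩ := Ideal.Quotient.mk_surjective c₀
  have hc : algebraMap A B c - w ∈ maximalIdeal B := by rw [← Ideal.Quotient.eq]; exact hc₀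
  have hcu : IsUnit (algebraMap A B c) := by
    rw [← IsLocalRing.notMem_maximalIdeal]
    intro h
    exact (IsLocalRing.notMem_maximalIdeal.2 w.isUnit) (by simpa using sub_mem h hc)
  obtain ⟨ci, hci⟩ := hcu.exists_right_inv
  let f : Polynomial B := Polynomial.X ^ n - Polynomial.C ((w : B) * ci)
  obtain ⟨v, hv, hv1⟩ := HenselianLocalRing.is_henselian f (Polynomial.monic_X_pow_sub_C _ hn.ne') 1 (by
      simp only [f, Polynomial.eval_sub, Polynomial.eval_pow, Polynomial.eval_X, one_pow, Polynomial.eval_C]
      rw [show (1 : B) - w * ci = (algebraMap A B c - w) * ci by rw [sub_mul, hci]]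
      exact Ideal.mul_mem_right _ _ hc) (by
      simp only [f, Polynomial.derivative_sub, Polynomial.derivative_C, sub_zero, Polynomial.derivative_X_pow,
        Polynomial.eval_mul, Polynomial.eval_C, Polynomial.eval_pow, Polynomial.eval_X, one_pow, mul_one]
      simpa using hm.map (algebraMap A B))
  have hvu : IsUnit v := by
    rw [← IsLocalRing.notMem_maximalIdeal]
    exact fun h => (maximalIdeal.isMaximal B).ne_top ((Ideal.eq_top_iff_one _).2 (by simpa using sub_mem h hv1))
  have hvn : v ^ n = w * ci := by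
    simpa [f, sub_eq_zero] using hv
  have hwn : algebraMap A B ϖ * (w : B) = π ^ n := hw
  obtain ⟨vi, hvi⟩ := hvu.exists_right_inv
  have hu : (π * vi) ^ n = algebraMap A B (ϖ * c) := by
    refine (hvu.pow n).mul_left_injective ?_
    show (π * vi) ^ n * v ^ n = algebraMap A B (ϖ * c) * v ^ n
    rw [mul_pow, mul_assoc, ← mul_pow vi v, mul_comm vi v, hvi, one_pow, mul_one, hvn, map_mul, ← hwn]
    linear_combination (-(algebraMap A B ϖ * (w : B))) * hci
  refine ⟨π * vi, ?_, ?_, ⟨_, hu.symm⟩, ?_⟩
  · rw [hπ.maximalIdeal_eq]; exact Ideal.mul_mem_right _ _ (Ideal.mem_span_singleton_self π)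
  · rw [hπ.maximalIdeal_eq, Ideal.span_singleton_pow, Ideal.mem_span_singleton]
    rintro ⟨z, hz⟩
    refine hπ.not_isUnit (IsUnit.of_mul_eq_one (v * z) (mul_left_cancel₀ hπ.ne_zero ?_))
    linear_combination (-v) * hz + π * hvi
  · let g : Polynomial A := Polynomial.X ^ n - Polynomial.C (ϖ * c)
    have hg : g.Monic := Polynomial.monic_X_pow_sub_C _ hn.ne'
    have hgd : g.natDegree = n := Polynomial.natDegree_X_pow_sub_C
    have hcA : IsUnit c := by
      rw [← IsLocalRing.notMem_maximalIdeal]
      intro h
      exact (IsLocalRing.notMem_maximalIdeal.2 hcu) (by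
        rwa [← Ideal.mem_comap, show (maximalIdeal B).comap (algebraMap A B) = maximalIdeal A from (Ideal.LiesOver.over (P := maximalIdeal B) (p := maximalIdeal A)).symm])
    have heis : g.IsEisensteinAt (maximalIdeal A) := by
      refine hg.isEisensteinAt_of_mem_of_notMem (maximalIdeal.isMaximal A).ne_top (fun {i} hi => ?_) ?_
      · rw [hgd] at hi
        rw [Polynomial.coeff_sub, Polynomial.coeff_X_pow, if_neg hi.ne, zero_sub, Polynomial.coeff_C]
        split_ifs
        · rw [hϖ.maximalIdeal_eq]; exact neg_mem (Ideal.mul_mem_right _ _ (Ideal.mem_span_singleton_self ϖ))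
        · simp
      · rw [Polynomial.coeff_sub, Polynomial.coeff_X_pow, if_neg hn.ne, zero_sub, Polynomial.coeff_C_zero,
          hϖ.maximalIdeal_eq, Ideal.span_singleton_pow, Ideal.neg_mem_iff, Ideal.mem_span_singleton]
        rintro ⟨z, hz⟩
        refine hϖ.not_isUnit (isUnit_of_mul_isUnit_left (y := z) ?_)
        rw [show c = ϖ * z from mul_left_cancel₀ hϖ.ne_zero (by rw [hz]; ring)] at hcA
        exact hcA
    have hirr : Irreducible g := heis.irreducible inferInstance hg.isPrimitive (hgd.symm ▸ hn)
    have hint : IsIntegral A (π * vi) := IsIntegral.of_finite A _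
    have hdvd : minpoly A (π * vi) ∣ g := minpoly.isIntegrallyClosed_dvd hint (by
      simp [g, hu])
    rw [Polynomial.eq_of_monic_of_associated (minpoly.monic hint) hg
      ((hirr.dvd_iff.1 hdvd).resolve_left (minpoly.not_isUnit A _)).symm, hgd]

end Groth.Agent.CAlgH3.CompleteDedekindExt
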