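import Mathlib.RingTheory.AdicCompletion.Exactness

namespace Groth.Agent.CAlgH3

open Submodule

universe u v w x

variable {R : Type u} [CommRing R] (I : Ideal R) {K : Type v} {M : Type w} {N : Type x}
  [AddCommGroup K] [Module R K] [AddCommGroup M] [Module R M] [AddCommGroup N] [Module R N]

/-- Completion is exact when the induced filtration on the submodule is controlled up to a shift. -/
theorem completion_shortExact_of_shift (i : K →ₗ[R] M) (g : M →ₗ[R] N) (hg : Function.Surjective g)
    (hig : Function.Exact i g) (c : ℕ)
    (h : ∀ (n : ℕ) (k : K), i k ∈ (I ^ (n + c) • ⊤ : Submodule R M) → k ∈ (I ^ n • ⊤ : Submodule R K)) :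
    Function.Injective (AdicCompletion.map I i) ∧
      Function.Exact (AdicCompletion.map I i) (AdicCompletion.map I g) ∧
      Function.Surjective (AdicCompletion.map I g) := by
  refine ⟨?_, ?_, AdicCompletion.map_surjective I hg⟩
  · rw [injective_iff_map_eq_zero]
    intro x hx
    induction x using AdicCompletion.induction_on with
    | h a =>
      apply AdicCompletion.ext
      intro n
      rw [AdicCompletion.val_zero_apply]
      change Submodule.Quotient.mk (a n) = 0
      have h1 := congrArg (fun y => y.1 (n + c)) hx
      simp only [AdicCompletion.map_mk, AdicCompletion.val_zero_apply] at h1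
      have h1' : i (a (n + c)) ∈ (I ^ (n + c) • ⊤ : Submodule R M) := (Submodule.Quotient.mk_eq_zero _).1 h1
      rw [Submodule.Quotient.mk_eq_zero]
      have h2 := SModEq.sub_mem.1 (a.2 (Nat.le_add_right n c))
      simpa using Submodule.add_mem _ h2 (h n _ h1')
  · intro y
    constructor
    · intro hy
      induction y using AdicCompletion.induction_on with
      | h b =>
        have hb : ∀ j, ∃ k, i k - b j ∈ (I ^ j • ⊤ : Submodule R M) := by
          intro j
          have h1 := congrArg (fun y => y.1 j) hy
          simp only [AdicCompletion.map_mk, AdicCompletion.val_zero_apply] at h1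
          have h1' : g (b j) ∈ (I ^ j • ⊤ : Submodule R N) := (Submodule.Quotient.mk_eq_zero _).1 h1
          rw [← LinearMap.range_eq_top.2 hg, ← Submodule.map_top, ← Submodule.map_smul''] at h1'
          obtain ⟨e, he, hee⟩ := h1'
          obtain ⟨k, hk⟩ := (hig (b j - e)).1 (by rw [map_sub, hee, sub_self])
          exact ⟨k, by rw [hk]; simpa using Submodule.neg_mem _ he⟩
        choose k hk using hb
        have hx : AdicCompletion.IsAdicCauchy I K (fun n => k (n + c)) := by
          intro m n hmn
          rw [SModEq.sub_mem]
          refine h m _ ?_
          rw [map_sub]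
          have h1 := hk (m + c)
          have h2 : i (k (n + c)) - b (n + c) ∈ (I ^ (m + c) • ⊤ : Submodule R M) :=
            Submodule.smul_mono_left (Ideal.pow_le_pow_right (by omega)) (hk (n + c))
          have h3 := SModEq.sub_mem.1 (b.2 (show m + c ≤ n + c by omega))
          convert Submodule.add_mem _ (Submodule.sub_mem _ h1 h2) h3 using 1
          abel
        refine ⟨AdicCompletion.mk I K ⟨_, hx⟩, ?_⟩
        apply AdicCompletion.ext
        intro n
        rw [AdicCompletion.map_mk]
        change Submodule.Quotient.mk (i (k (n + c))) = Submodule.Quotient.mk (b n)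
        rw [Submodule.Quotient.eq]
        have h2 : i (k (n + c)) - b (n + c) ∈ (I ^ n • ⊤ : Submodule R M) :=
          Submodule.smul_mono_left (Ideal.pow_le_pow_right (by omega)) (hk (n + c))
        have h3 := SModEq.sub_mem.1 (b.2 (Nat.le_add_right n c))
        convert Submodule.sub_mem _ h2 h3 using 1
        abel
    · rintro ⟨x, rfl⟩
      rw [AdicCompletion.map_comp_apply, hig.linearMap_comp_eq_zero]
      induction x using AdicCompletion.induction_on with
      | h a =>
        apply AdicCompletion.ext
        intro n
        rw [AdicCompletion.map_mk]
        simp [AdicCompletion.val_zero_apply]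

end Groth.Agent.CAlgH3
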