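import Groth.Agent.LocCoh.CanonicalExist
import Groth.Agent.LocCoh.BaseChange
import Groth.Agent.FSchLib.Completion

/-! Canonical modules and completion: transfer along `R → R̂`. -/

set_option autoImplicit false

universe u

open IsLocalRing TensorProduct

namespace Groth.Agent.CAlgH3.CompletionHull

section general

variable {R B : Type u} [CommRing R] [CommRing B] [Algebra R B]

theorem injective_restrict_flat [Module.Flat R B] (E : Type u) [AddCommGroup E] [Module B E] [Module R E]
    [IsScalarTower R B E] (hE : Module.Injective B E) : Module.Injective R E := by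
  refine ⟨fun X Y _ _ _ _ f hf g => ?_⟩
  obtain ⟨h, hh⟩ := hE.out (f.baseChange B)
    (Module.Flat.lTensor_preserves_injective_linearMap (M := B) f hf) (g.liftBaseChange B)
  refine ⟨(h.restrictScalars R).comp (TensorProduct.mk R B Y 1), fun x => ?_⟩
  refine ((congrArg h (LinearMap.baseChange_tmul f (1 : B) x).symm).trans (hh _)).trans ?_
  rw [LinearMap.liftBaseChange_tmul, one_smul]

/-- `m B`-torsion modules see `B` as `R` when `R → B/m^k B` is surjective. -/
theorem smul_comm_of_torsion (m : Ideal R)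
    (happ : ∀ (k : ℕ) (b : B), ∃ r : R, b - algebraMap R B r ∈ (m.map (algebraMap R B)) ^ k)
    {X Y : Type u} [AddCommGroup X] [Module R X] [Module B X] [IsScalarTower R B X]
    [AddCommGroup Y] [Module R Y] [Module B Y] [IsScalarTower R B Y]
    (hX : _root_.LocCoh.IsPowerTorsion (m.map (algebraMap R B)) X)
    (hY : _root_.LocCoh.IsPowerTorsion (m.map (algebraMap R B)) Y) (f : X →ₗ[R] Y) (b : B) (x : X) :
    f (b • x) = b • f x := by
  obtain ⟨k, hk⟩ := hX x
  obtain ⟨l, hl⟩ := hY (f x)
  obtain ⟨r, hr⟩ := happ (k + l) b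
  have h1 : b • x = r • x := by
    rw [← IsScalarTower.algebraMap_smul B r x, ← sub_eq_zero, ← sub_smul]
    exact hk _ (Ideal.pow_le_pow_right (Nat.le_add_right k l) hr)
  have h2 : b • f x = r • f x := by
    rw [← IsScalarTower.algebraMap_smul B r (f x), ← sub_eq_zero, ← sub_smul]
    exact hl _ (Ideal.pow_le_pow_right (Nat.le_add_left l k) hr)
  rw [h1, map_smul, h2]

theorem isPowerTorsion_map (m : Ideal R) {X : Type u} [AddCommGroup X] [Module R X] [Module B X]
    [IsScalarTower R B X] (hX : _root_.LocCoh.IsPowerTorsion m X) :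
    _root_.LocCoh.IsPowerTorsion (m.map (algebraMap R B)) X := by
  intro x
  obtain ⟨k, hk⟩ := hX x
  refine ⟨k, fun a ha => ?_⟩
  rw [← Ideal.map_pow] at ha
  refine Submodule.span_induction (p := fun a _ => a • x = 0) ?_ (zero_smul B x) ?_ ?_ ha
  · rintro _ ⟨r, hr, rfl⟩
    rw [IsScalarTower.algebraMap_smul]
    exact hk r hr
  · intro a b _ _ h1 h2; rw [add_smul, h1, h2, add_zero]
  · intro c a _ h; rw [smul_eq_mul, mul_smul, h, smul_zero]

theorem mk_one_bijective [Module.FaithfullyFlat R B] (m : Ideal R)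
    (happ : ∀ (k : ℕ) (b : B), ∃ r : R, b - algebraMap R B r ∈ (m.map (algebraMap R B)) ^ k)
    (H : Type u) [AddCommGroup H] [Module R H] (hH : _root_.LocCoh.IsPowerTorsion m H) :
    Function.Bijective (TensorProduct.mk R B H 1) := by
  refine ⟨Module.FaithfullyFlat.tensorProduct_mk_injective H, fun z => ?_⟩
  induction z using TensorProduct.induction_on with
  | zero => exact ⟨0, map_zero _⟩
  | add a b ha hb =>
    obtain ⟨x, rfl⟩ := ha
    obtain ⟨y, rfl⟩ := hb
    exact ⟨x + y, map_add _ _ _⟩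
  | tmul b x =>
    obtain ⟨k, hk⟩ := hH x
    obtain ⟨r, hr⟩ := happ k b
    refine ⟨r • x, ?_⟩
    rw [← Ideal.map_pow] at hr
    have hz : ∀ c ∈ (m ^ k).map (algebraMap R B), c ⊗ₜ[R] x = 0 := fun c hc => by
      refine Submodule.span_induction (p := fun a _ => a ⊗ₜ[R] x = 0) ?_ (zero_tmul _ _) ?_ ?_ hc
      · rintro _ ⟨s, hs, rfl⟩
        rw [Algebra.algebraMap_eq_smul_one, smul_tmul, hk s hs, tmul_zero]
      · intro a b _ _ h1 h2; rw [add_tmul, h1, h2, add_zero]
      · intro c a _ h
        rw [smul_eq_mul, show (c * a) ⊗ₜ[R] x = c • (a ⊗ₜ[R] x) from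
          (TensorProduct.smul_tmul' c a x).symm, h, smul_zero]
    have := hz _ hr
    rw [sub_tmul, sub_eq_zero, Algebra.algebraMap_eq_smul_one, smul_tmul] at this
    exact this.symm

theorem isPowerTorsion_dual {K E : Type u} [AddCommGroup K] [Module R K] [Module.Finite R K] [AddCommGroup E]
    [Module R E] (I : Ideal R) (hE : _root_.LocCoh.IsPowerTorsion I E) :
    _root_.LocCoh.IsPowerTorsion I (K →ₗ[R] E) := by
  intro φ
  obtain ⟨n, s, hs⟩ := Module.Finite.exists_fin (R := R) (M := K)
  choose k hk using fun i => hE (φ (s i))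
  refine ⟨Finset.univ.sup k, fun a ha => LinearMap.ext_on_range hs fun i => ?_⟩
  rw [LinearMap.smul_apply, LinearMap.zero_apply]
  exact hk i a (Ideal.pow_le_pow_right (Finset.le_sup (Finset.mem_univ i)) ha)

theorem exists_equiv_of_mk_bijective {H H' : Type u} [AddCommGroup H] [Module R H] [AddCommGroup H'] [Module B H']
    (hb : Function.Bijective (TensorProduct.mk R B H 1)) (e : B ⊗[R] H ≃ₗ[B] H') :
    ∃ ψ : H ≃+ H', ∀ (r : R) x, ψ (r • x) = algebraMap R B r • ψ x := by
  refine ⟨(LinearEquiv.ofBijective _ hb).toAddEquiv.trans e.toAddEquiv, fun r x => ?_⟩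
  show e ((TensorProduct.mk R B _ 1) (r • x)) = algebraMap R B r • e ((TensorProduct.mk R B _ 1) x)
  rw [← map_smul e, map_smul, algebraMap_smul]

theorem nonempty_dual_equiv {K E EB H₀ H : Type u} [AddCommGroup K] [Module R K]
    [AddCommGroup E] [Module R E] [AddCommGroup EB] [Module B EB] [Module R EB] [IsScalarTower R B EB]
    [AddCommGroup H₀] [Module R H₀] [AddCommGroup H] [Module B H] (m : Ideal R)
    (happ : ∀ (k : ℕ) (b : B), ∃ r : R, b - algebraMap R B r ∈ (m.map (algebraMap R B)) ^ k)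
    (hD : _root_.LocCoh.IsPowerTorsion (m.map (algebraMap R B)) (B ⊗[R] K →ₗ[B] EB))
    (hH : _root_.LocCoh.IsPowerTorsion (m.map (algebraMap R B)) H)
    (ε : EB ≃ₗ[R] E) (eK : (K →ₗ[R] E) ≃ₗ[R] H₀) (ψ : H₀ ≃+ H)
    (hψ : ∀ (r : R) x, ψ (r • x) = algebraMap R B r • ψ x) :
    Nonempty ((B ⊗[R] K →ₗ[B] EB) ≃ₗ[B] H) := by
  letI : Module R H := Module.compHom H (algebraMap R B)
  haveI : IsScalarTower R B H := IsScalarTower.of_algebraMap_smul fun _ _ => rfl
  let χ : (B ⊗[R] K →ₗ[B] EB) ≃ₗ[R] H :=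
    (((LinearMap.liftBaseChangeEquiv B).symm.restrictScalars R).trans (ε.congrRight (M := K))).trans
      (eK.trans (ψ.toLinearEquiv hψ))
  exact ⟨{ χ with map_smul' := fun b x => smul_comm_of_torsion m happ hD hH χ.toLinearMap b x }⟩

end general


section completed

variable {R B : Type u} [CommRing R] [IsNoetherianRing R] [IsLocalRing R]
  [CommRing B] [IsNoetherianRing B] [IsLocalRing B] [Algebra R B] [Module.Flat R B]

/-- `B` behaves like the completion of `R`. -/
def IsCplLike (R B : Type u) [CommRing R] [IsLocalRing R] [CommRing B] [IsLocalRing B] [Algebra R B] : Prop :=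
  maximalIdeal B = (maximalIdeal R).map (algebraMap R B) ∧
    ∀ (k : ℕ) (b : B), ∃ r : R, b - algebraMap R B r ∈ ((maximalIdeal R).map (algebraMap R B)) ^ k

variable (hB : IsCplLike R B)
variable {E : Type u} [AddCommGroup E] [Module R E] {EB : Type u} [AddCommGroup EB] [Module B EB]

include hB in
omit [IsNoetherianRing R] [IsNoetherianRing B] in
theorem faithfullyFlat : Module.FaithfullyFlat R B := by
  haveI : IsLocalHom (algebraMap R B) :=
    ((local_hom_TFAE (algebraMap R B)).out 0 2 rfl rfl).2 hB.1.ge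
  exact Module.FaithfullyFlat.of_flat_of_isLocalHom

include hB in
/-- A hull over `B` is a hull over `R`. -/
theorem nonempty_hull_equiv_completion [Module R EB] [IsScalarTower R B EB]
    (hE : Matlis6.IsHullAt (maximalIdeal R) E)
    (hEB : Matlis6.IsHullAt (maximalIdeal B) EB) : Nonempty (EB ≃ₗ[R] E) := by
  obtain ⟨hmax, happ⟩ := hB
  refine LocCoh.nonempty_hull_equiv ?_ hE
  obtain ⟨e, he, hme, hsoc⟩ := hEB.eq_smul_of_killed
  refine Matlis6.IsHullAt.of_torsion (injective_restrict_flat EB hEB.inj) (fun x => ?_) he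
    (fun a ha => ?_) fun x hx => ?_
  · obtain ⟨k, hk⟩ := hEB.isPowerTorsion x
    refine ⟨k, fun a ha => ?_⟩
    rw [← IsScalarTower.algebraMap_smul B a x]
    refine hk _ ?_
    rw [hmax, ← Ideal.map_pow]
    exact Ideal.mem_map_of_mem _ ha
  · rw [← IsScalarTower.algebraMap_smul B a e]
    exact hme _ (by rw [hmax]; exact Ideal.mem_map_of_mem _ ha)
  · obtain ⟨c, hc⟩ := hsoc x fun a ha => by
      rw [hmax] at ha
      refine Submodule.span_induction (p := fun a _ => a • x = 0) ?_ (zero_smul B x) ?_ ?_ ha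
      · rintro _ ⟨r, hr, rfl⟩
        rw [IsScalarTower.algebraMap_smul]
        exact hx r hr
      · intro a b _ _ h1 h2; rw [add_smul, h1, h2, add_zero]
      · intro c a _ h; rw [smul_eq_mul, mul_smul, h, smul_zero]
    obtain ⟨r, hr⟩ := happ 1 c
    refine ⟨r, ?_⟩
    rw [hc, ← IsScalarTower.algebraMap_smul B r e, ← sub_eq_zero, ← sub_smul]
    exact hme _ (by rwa [hmax, ← pow_one ((maximalIdeal R).map (algebraMap R B))])

include hB in
/-- `H^i_m(M) ≅ H^i_n(B ⊗ M)`. -/
theorem exists_H_completion (i : ℕ) (M : Type u) [AddCommGroup M] [Module R M] :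
    ∃ ψ : _root_.LocCoh.H (maximalIdeal R) i M ≃+
        _root_.LocCoh.H (maximalIdeal B) i (B ⊗[R] M),
      ∀ (r : R) x, ψ (r • x) = algebraMap R B r • ψ x := by
  haveI := faithfullyFlat hB
  obtain ⟨e⟩ := LocCoh.nonempty_H_baseChange R B (maximalIdeal R) i M
  rw [← hB.1] at e
  have hb := mk_one_bijective (B := B) (maximalIdeal R) hB.2
    (_root_.LocCoh.H (maximalIdeal R) i M) (LocCoh.isPowerTorsion_H i)
  exact exists_equiv_of_mk_bijective hb e

variable {K : Type u} [AddCommGroup K] [Module R K] [Module.Finite R K] {n : ℕ}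

include hB in
/-- The completion of a canonical module is a canonical module of the completion. -/
theorem exists_canonical_completion
    (hE : Matlis6.IsHullAt (maximalIdeal R) E) (hEB : Matlis6.IsHullAt (maximalIdeal B) EB)
    (eK : (K →ₗ[R] E) ≃ₗ[R] _root_.LocCoh.H (maximalIdeal R) n R) :
    Nonempty ((B ⊗[R] K →ₗ[B] EB) ≃ₗ[B] _root_.LocCoh.H (maximalIdeal B) n B) := by
  letI : Module R EB := Module.compHom EB (algebraMap R B)
  haveI : IsScalarTower R B EB := IsScalarTower.of_algebraMap_smul fun _ _ => rfl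
  obtain ⟨ε⟩ := nonempty_hull_equiv_completion hB hE hEB
  obtain ⟨ψ, hψ⟩ := exists_H_completion hB n R
  let δ := LocCoh.Hequiv (maximalIdeal B) n (TensorProduct.AlgebraTensorModule.rid R B B)
  refine nonempty_dual_equiv (maximalIdeal R) hB.2 ?_ ?_ ε eK (ψ.trans δ.toAddEquiv) fun r x => ?_
  · rw [← hB.1]
    exact isPowerTorsion_dual _ hEB.isPowerTorsion
  · rw [← hB.1]
    exact LocCoh.isPowerTorsion_H n
  · exact (congrArg δ (hψ r x)).trans (map_smul δ _ _)

end completed

theorem isCplLike_adicCompletion (R : Type u) [CommRing R] [IsNoetherianRing R] [IsLocalRing R] :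
    IsCplLike R (AdicCompletion (maximalIdeal R) R) := by
  refine ⟨AdicCompletion.maximalIdeal_eq_map, fun k b => ?_⟩
  obtain ⟨r, hr⟩ := Ideal.Quotient.mk_surjective (AdicCompletion.evalₐ (maximalIdeal R) k b)
  refine ⟨r, ?_⟩
  rw [← FSchLib.ker_evalₐ (maximalIdeal R) (IsNoetherian.noetherian _) k, RingHom.mem_ker]
  show AdicCompletion.evalₐ (maximalIdeal R) k _ = 0
  rw [map_sub, sub_eq_zero, FSchLib.evalₐ_algebraMap]
  exact hr.symm

end Groth.Agent.CAlgH3.CompletionHull
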