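import Groth.Agent.FEtFF.Hartogs
import Groth.Agent.SGA3cLib.ArtinComponent
import Mathlib.Topology.Connected.Clopen

/-! Connected components and depth two along a closed subset. -/

set_option autoImplicit false
universe u

open CategoryTheory AlgebraicGeometry TopologicalSpace Opposite

namespace Groth.Agent.CAlgH3.ConnDepthTwo

variable {X : Scheme.{u}} [IsLocallyNoetherian X] (U : X.Opens)
  (h : ∀ x : X, x ∉ (U : Set X) → (2 : ℕ∞) ≤ _root_.LocCoh.depth (X.presheaf.stalk x) (X.presheaf.stalk x))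

include h in
theorem inter_nonempty (N : X.Opens) (hN : (N : Set X).Nonempty) : ((N : Set X) ∩ (U : Set X)).Nonempty := by
  obtain ⟨x, hx⟩ := hN
  obtain ⟨W, hW, hxW, hWN⟩ := exists_isAffineOpen_mem_and_subset (x := x) (U := N) hx
  by_contra hne
  have hbot : W ⊓ U = ⊥ := by
    rw [eq_bot_iff]
    exact fun y hy => (hne ⟨y, hWN hy.1, hy.2⟩).elim
  obtain ⟨hinj, -⟩ := FEtFF.Hartogs.bijective_restrict U h hW rfl (inf_le_left : W ⊓ U ≤ W)
  haveI : Subsingleton Γ(X, W ⊓ U) := by rw [hbot]; infer_instance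
  have h1 : (1 : Γ(X, W)) = 0 := hinj (Subsingleton.elim _ _)
  have := congrArg X.basicOpen h1
  rw [X.basicOpen_of_isUnit isUnit_one, Scheme.basicOpen_zero] at this
  exact (this ▸ hxW : x ∈ (⊥ : X.Opens))

include h in
theorem exists_nhd {C : X.Opens} {A B : X.Opens} (hd : A ⊓ B = ⊥) (hcov : C ⊓ U ≤ A ⊔ B) {x : X} (hx : x ∈ C) :
    ∃ N : X.Opens, x ∈ N ∧ (N ⊓ U ⊓ A = ⊥ ∨ N ⊓ U ⊓ B = ⊥) := by
  obtain ⟨W, hW, hxW, hWC⟩ := exists_isAffineOpen_mem_and_subset (x := x) (U := C) hx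
  let O : Bool → X.Opens := fun b => cond b (W ⊓ U ⊓ A) (W ⊓ U ⊓ B)
  let sf : ∀ b, Γ(X, O b) := fun b => cond b 1 0
  have hcompat : TopCat.Presheaf.IsCompatible X.sheaf.1 O sf := fun b c => by
    by_cases hbc : b = c
    · subst hbc; rfl
    · have hb : O b ⊓ O c = ⊥ := by
        rw [eq_bot_iff, ← hd]
        cases b <;> cases c
        · exact absurd rfl hbc
        · exact fun y hy => ⟨hy.2.2, hy.1.2⟩
        · exact fun y hy => ⟨hy.1.2, hy.2.2⟩
        · exact absurd rfl hbc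
      have : Subsingleton Γ(X, O b ⊓ O c) := by rw [hb]; infer_instance
      exact this.elim _ _
  have hcov' : W ⊓ U ≤ iSup O := fun y hy => by
    rcases hcov ⟨hWC hy.1, hy.2⟩ with ha | hb
    · exact Opens.mem_iSup.mpr ⟨true, hy, ha⟩
    · exact Opens.mem_iSup.mpr ⟨false, hy, hb⟩
  have glue : ∃! s : Γ(X, W ⊓ U), ∀ b, X.presheaf.map (homOfLE (show O b ≤ W ⊓ U by cases b <;> exact inf_le_left)).op s = sf b :=
    X.sheaf.existsUnique_gluing' O (W ⊓ U) (fun b => homOfLE (by cases b <;> exact inf_le_left)) hcov' sf hcompat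
  obtain ⟨e₀, hres, huniq⟩ := glue
  obtain ⟨hinj, hsurj⟩ := FEtFF.Hartogs.bijective_restrict U h hW rfl (inf_le_left : W ⊓ U ≤ W)
  obtain ⟨e, rfl⟩ := hsurj e₀
  have hee : e * e = e := hinj (huniq _ fun b => by
    rw [map_mul, map_mul, hres]
    cases b <;> simp [sf])
  have hA : W ⊓ U ⊓ A ≤ X.basicOpen e := fun y hy => by
    have h1 : y ∈ X.basicOpen (sf true) := by rw [X.basicOpen_of_isUnit (f := sf true) isUnit_one]; exact hy
    rw [← hres true, Scheme.basicOpen_res, Scheme.basicOpen_res] at h1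
    exact h1.2.2
  have hB : W ⊓ U ⊓ B ≤ X.basicOpen (1 - e) := fun y hy => by
    have h1 : y ∈ X.basicOpen (1 - sf false) := by
      rw [show (1 - sf false : Γ(X, O false)) = 1 from sub_zero _, X.basicOpen_of_isUnit isUnit_one]
      exact hy
    rw [← hres false, ← map_one (X.presheaf.map (homOfLE (inf_le_left : O false ≤ W ⊓ U)).op).hom, ← map_sub,
      ← map_one (X.presheaf.map (homOfLE (inf_le_left : W ⊓ U ≤ W)).op).hom, ← map_sub,
      Scheme.basicOpen_res, Scheme.basicOpen_res] at h1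
    exact h1.2.2
  have hdisj : X.basicOpen e ⊓ X.basicOpen (1 - e) = ⊥ := by
    rw [← Scheme.basicOpen_mul, mul_sub, mul_one, hee, sub_self, Scheme.basicOpen_zero]
  by_cases hxe : x ∈ X.basicOpen e
  · refine ⟨X.basicOpen e, hxe, Or.inr ?_⟩
    rw [eq_bot_iff]
    intro y hy
    have : y ∈ X.basicOpen e ⊓ X.basicOpen (1 - e) := ⟨hy.1.1, hB ⟨⟨X.basicOpen_le e hy.1.1, hy.1.2⟩, hy.2⟩⟩
    rwa [hdisj] at this
  · refine ⟨X.basicOpen (1 - e), ?_, Or.inl ?_⟩
    · rw [Scheme.mem_basicOpen X _ _ hxW] at hxe ⊢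
      rw [map_sub, map_one]
      exact (IsLocalRing.isUnit_or_isUnit_one_sub_self _).resolve_left hxe
    · rw [eq_bot_iff]
      intro y hy
      have : y ∈ X.basicOpen e ⊓ X.basicOpen (1 - e) := ⟨hA ⟨⟨X.basicOpen_le _ hy.1.1, hy.1.2⟩, hy.2⟩, hy.1.1⟩
      rwa [hdisj] at this

include h in
theorem isPreconnected_inter (x : X) : IsPreconnected (connectedComponent x ∩ (U : Set X)) := by
  intro u v hu hv hcov hne₁ hne₂
  by_contra hempty
  let C : X.Opens := ⟨connectedComponent x, SGA3cLib.isOpen_connectedComponent x⟩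
  let A : X.Opens := C ⊓ U ⊓ ⟨u, hu⟩
  let B : X.Opens := C ⊓ U ⊓ ⟨v, hv⟩
  have hd : A ⊓ B = ⊥ := by
    rw [eq_bot_iff]
    exact fun y hy => (hempty ⟨y, hy.1.1, hy.1.2, hy.2.2⟩).elim
  have hcov' : C ⊓ U ≤ A ⊔ B := fun y hy => (hcov hy).elim (fun a => Or.inl ⟨hy, a⟩) (fun b => Or.inr ⟨hy, b⟩)
  have hsub : connectedComponent x ⊆ closure (A : Set X) ∪ closure (B : Set X) := by
    intro y hy
    rw [← closure_union, mem_closure_iff]
    intro o ho hyo
    obtain ⟨z, hz, hzU⟩ := inter_nonempty U h (C ⊓ ⟨o, ho⟩) ⟨y, hy, hyo⟩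
    exact ⟨z, hz.2, hcov' ⟨hz.1, hzU⟩⟩
  have hAcl : ((connectedComponent x) ∩ closure (A : Set X)).Nonempty := by
    obtain ⟨y, hy, hyu⟩ := hne₁
    exact ⟨y, hy.1, subset_closure (show y ∈ (A : Set X) from ⟨⟨hy.1, hy.2⟩, hyu⟩)⟩
  have hBcl : ((connectedComponent x) ∩ closure (B : Set X)).Nonempty := by
    obtain ⟨y, hy, hyv⟩ := hne₂
    exact ⟨y, hy.1, subset_closure (show y ∈ (B : Set X) from ⟨⟨hy.1, hy.2⟩, hyv⟩)⟩
  obtain ⟨y, hy, hyA, hyB⟩ := isPreconnected_closed_iff.1 isPreconnected_connectedComponent _ _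
    isClosed_closure isClosed_closure hsub hAcl hBcl
  obtain ⟨N, hyN, hN⟩ := exists_nhd U h hd hcov' (C := C) (x := y) hy
  rcases hN with hN | hN
  · obtain ⟨z, hzN, hzA⟩ := mem_closure_iff.1 hyA (N : Set X) N.isOpen hyN
    have : z ∈ N ⊓ U ⊓ A := ⟨⟨hzN, hzA.1.2⟩, hzA⟩
    rwa [hN] at this
  · obtain ⟨z, hzN, hzB⟩ := mem_closure_iff.1 hyB (N : Set X) N.isOpen hyN
    have : z ∈ N ⊓ U ⊓ B := ⟨⟨hzN, hzB.1.2⟩, hzB⟩
    rwa [hN] at this

include h in
theorem bijective : Function.Bijective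
    (Continuous.connectedComponentsMap (continuous_subtype_val : Continuous (fun x : U => (x : X)))) := by
  constructor
  · intro a b hab
    obtain ⟨a, rfl⟩ := ConnectedComponents.surjective_coe a
    obtain ⟨b, rfl⟩ := ConnectedComponents.surjective_coe b
    have hab' : connectedComponent (a : X) = connectedComponent (b : X) := ConnectedComponents.coe_eq_coe.1 hab
    refine ConnectedComponents.coe_eq_coe'.2 ?_
    have hpre : _root_.IsPreconnected {y : U | (y : X) ∈ connectedComponent (b : X)} := by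
      refine Topology.IsInducing.subtypeVal.isPreconnected_image.1 ?_
      have himg : Subtype.val '' {y : U | (y : X) ∈ connectedComponent (b : X)} =
          connectedComponent (b : X) ∩ (U : Set X) := by
        ext z
        exact ⟨fun ⟨w, hw, e⟩ => e ▸ ⟨hw, w.2⟩, fun hz => ⟨⟨z, hz.2⟩, hz.1, rfl⟩⟩
      exact himg.symm ▸ isPreconnected_inter U h (b : X)
    exact hpre.subset_connectedComponent (show (b : X) ∈ connectedComponent (b : X) from mem_connectedComponent)
      (show (a : X) ∈ connectedComponent (b : X) from hab' ▸ mem_connectedComponent)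
  · intro c
    obtain ⟨x, rfl⟩ := ConnectedComponents.surjective_coe c
    obtain ⟨y, hy, hyU⟩ := inter_nonempty U h ⟨connectedComponent x, SGA3cLib.isOpen_connectedComponent x⟩
      ⟨x, mem_connectedComponent⟩
    exact ⟨ConnectedComponents.mk (⟨y, hyU⟩ : U), ConnectedComponents.coe_eq_coe'.2 hy⟩

end Groth.Agent.CAlgH3.ConnDepthTwo
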