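import Mathlib
import Groth.Agent.CAlgH3.ProjDim
import Groth.Agent.CAlgH3.RegularLocal
import Groth.Agent.CAlgH3.TorBridge
import Groth.Agent.FlatCrit.Tor
import Groth.Agent.LocCoh.Depth

/-! Modules of depth one on a plane curve singularity: matrix factorisations, and vanishing of `Ext²`
and `Tor₁` between modules living on complementary components. -/

set_option autoImplicit false

universe u

namespace Groth.Agent.CAlgH3.CurveExt

open CategoryTheory TensorProduct

variable {R : Type u} [CommRing R]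

/-- A two periodic free presentation, with homotopies for the annihilator. -/
structure Periodic (I : Ideal R) (M : Type u) [AddCommGroup M] [Module R M] (k : ℕ) where
  φ : (Fin k → R) →ₗ[R] (Fin k → R)
  ψ : (Fin k → R) →ₗ[R] (Fin k → R)
  ρ : (Fin k → R) →ₗ[R] M
  surj : Function.Surjective ρ
  hker : LinearMap.ker ρ = LinearMap.range φ
  hφ : LinearMap.ker φ = LinearMap.range ψ
  hψ : LinearMap.ker ψ = LinearMap.range φ
  homotopy : ∀ a ∈ I, ∃ h : (Fin k → R) →ₗ[R] (Fin k → R), h ∘ₗ φ = a • LinearMap.id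

theorem exists_periodic (S : Type u) [CommRing S] [IsRegularLocalRing S] (hS : ringKrullDim S = 2)
    (f : S) (hf : f ≠ 0) [IsLocalRing R] (π : S →+* R) (hπ : Function.Surjective π)
    (hker : RingHom.ker π = Ideal.span {f}) (I : Ideal R) (M : Type u) [AddCommGroup M] [Module R M]
    [Module.Finite R M] (hI : I ≤ Module.annihilator R M) (x : R) (hx : x ∈ IsLocalRing.maximalIdeal R)
    (hxM : IsSMulRegular M x) : ∃ k, Nonempty (Periodic I M k) := by
  classical
  letI : Algebra S R := π.toAlgebra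
  letI : Module S M := Module.compHom M π
  haveI : IsScalarTower S R M := IsScalarTower.of_algebraMap_smul fun _ _ => rfl
  haveI : Module.Finite S R :=
    Module.Finite.of_surjective (Algebra.linearMap S R) hπ
  haveI : Module.Finite S M := Module.Finite.trans R M
  haveI : IsDomain S := Groth.Agent.CAlgH3.isDomain_of_isRegularLocalRing S
  have hsmul : ∀ (s : S) (m : M), s • m = π s • m := fun _ _ => rfl
  -- depth at least one
  obtain ⟨x', hx'⟩ := hπ x
  have hx'm : x' ∈ IsLocalRing.maximalIdeal S := by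
    by_contra h
    exact (IsLocalRing.mem_maximalIdeal _).1 hx (hx' ▸ ((IsLocalRing.notMem_maximalIdeal.1 h).map π))
  have hdepth : ((1 : ℕ) : ℕ∞) ≤ _root_.LocCoh.depth S M := by
    rw [_root_.LocCoh.depth]
    by_cases htop : IsLocalRing.maximalIdeal S • (⊤ : Submodule S M) = ⊤
    · rw [Groth.Agent.LocCoh.idealDepth_eq_top _ _ htop]; exact le_top
    refine (Groth.Agent.LocCoh.natCast_le_idealDepth_iff_exists _ _ htop 1).2 ⟨[x'], le_rfl, by simpa using hx'm, ?_, ?_⟩
    · refine (RingTheory.Sequence.isWeaklyRegular_cons_iff M x' []).2 ⟨fun a b h => hxM ?_, RingTheory.Sequence.IsWeaklyRegular.nil S _⟩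
      simp only [hsmul, hx'] at h
      exact h
    · intro h
      refine htop (top_le_iff.1 (h.le.trans (Submodule.smul_mono_left ?_)))
      rw [Ideal.ofList_singleton, Ideal.span_singleton_le_iff_mem]
      exact hx'm
  have hdim : (IsLocalRing.maximalIdeal S).spanFinrank = 2 := by
    have h := IsRegularLocalRing.spanFinrank_maximalIdeal (R := S)
    rw [hS] at h
    exact_mod_cast h
  have hpd : Groth.Agent.CAlgH3.PD S 2 M := Groth.Agent.CAlgH3.pd_of_depth 1 M (by
    rw [hdim]
    calc ((2 : ℕ) : ℕ∞) = ((1 : ℕ) : ℕ∞) + ((1 : ℕ) : ℕ∞) := by norm_num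
      _ ≤ _root_.LocCoh.depth S M + ((1 : ℕ) : ℕ∞) := by gcongr)
  obtain ⟨k, ρ, hρ⟩ := Module.Finite.exists_fin' S M
  haveI : Module.Projective S (LinearMap.ker ρ) :=
    Groth.Agent.CAlgH3.pd_one_iff.1 ((Groth.Agent.CAlgH3.pd_ker_iff hρ 0).1 hpd)
  haveI : Module.Free S (LinearMap.ker ρ) := Module.free_of_flat_of_isLocalRing
  have hfM : ∀ m : M, f • m = 0 := fun m => by
    have hf0 : π f = 0 := RingHom.mem_ker.1 (hker ▸ Ideal.mem_span_singleton_self f)
    rw [hsmul, hf0, zero_smul]
  let mulf : (Fin k → S) →ₗ[S] LinearMap.ker ρ :=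
    (f • LinearMap.id).codRestrict (LinearMap.ker ρ) fun v => by simp [hfM]
  have hmulf : Function.Injective mulf := fun a b h => by
    have h' := congrArg Subtype.val h
    simp only [mulf, LinearMap.codRestrict_apply, LinearMap.smul_apply, LinearMap.id_apply] at h'
    exact smul_right_injective _ hf h'
  have hrank : Module.finrank S (LinearMap.ker ρ) = k := by
    refine le_antisymm ?_ ?_
    · have := LinearMap.finrank_le_finrank_of_injective (f := (LinearMap.ker ρ).subtype) (Submodule.injective_subtype _)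
      simpa using this
    · have := LinearMap.finrank_le_finrank_of_injective hmulf
      simpa using this
  let e : (Fin k → S) ≃ₗ[S] LinearMap.ker ρ :=
    (Module.finBasisOfFinrankEq S (LinearMap.ker ρ) hrank).equivFun.symm
  let φ : (Fin k → S) →ₗ[S] (Fin k → S) := (LinearMap.ker ρ).subtype ∘ₗ e.toLinearMap
  have hφinj : Function.Injective φ := Subtype.val_injective.comp e.injective
  have hφrange : ∀ v, ρ v = 0 → ∃ w, φ w = v := fun v hv => ⟨e.symm ⟨v, hv⟩, by simp [φ]⟩
  have hρφ : ∀ w, ρ (φ w) = 0 := fun w => (e w).2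
  have hlift : ∀ a : S, (∀ m : M, a • m = 0) →
      ∃ h : (Fin k → S) →ₗ[S] (Fin k → S), (∀ v, φ (h v) = a • v) ∧ ∀ v, h (φ v) = a • v := by
    intro a ha
    let h : (Fin k → S) →ₗ[S] (Fin k → S) :=
      e.symm.toLinearMap ∘ₗ (a • LinearMap.id).codRestrict (LinearMap.ker ρ) fun v => by simp [ha]
    have h1 : ∀ v, φ (h v) = a • v := fun v => by simp [φ, h]
    exact ⟨h, h1, fun v => hφinj (by rw [h1, map_smul])⟩
  obtain ⟨ψ, hψ1, hψ2⟩ := hlift f hfM
  -- reduce modulo `f`
  let q : (Fin k → S) → (Fin k → R) := fun v => π ∘ v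
  have hqsurj : Function.Surjective q := fun v =>
    ⟨fun i => (hπ (v i)).choose, funext fun i => (hπ (v i)).choose_spec⟩
  have hq0 : ∀ v, q v = 0 → ∃ w, v = f • w := by
    intro v hv
    have : ∀ i, ∃ c, v i = f * c := fun i => by
      have hi : v i ∈ RingHom.ker π := congrFun hv i
      rw [hker] at hi
      exact Ideal.mem_span_singleton.1 hi
    choose w hw using this
    exact ⟨w, funext hw⟩
  have hqf : ∀ w, q (f • w) = 0 := fun w => funext fun i => by
    have hf0 : π f = 0 := RingHom.mem_ker.1 (hker ▸ Ideal.mem_span_singleton_self f)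
    simp [q, hf0]
  let bar : ((Fin k → S) →ₗ[S] (Fin k → S)) → ((Fin k → R) →ₗ[R] (Fin k → R)) := fun g =>
    ((LinearMap.toMatrix' g).map π).mulVecLin
  have hbar : ∀ g v, bar g (q v) = q (g v) := by
    intro g v
    funext i
    simp only [bar, q, Matrix.mulVecLin_apply, Function.comp_apply]
    rw [← RingHom.map_mulVec π, LinearMap.toMatrix'_mulVec]
  let ρ' : (Fin k → R) →ₗ[R] M := Fintype.linearCombination R fun i => ρ (Pi.single i 1)
  have hρ' : ∀ v, ρ' (q v) = ρ v := by
    intro v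
    conv_rhs => rw [← Finset.univ_sum_single v]
    rw [map_sum, Fintype.linearCombination_apply]
    refine Finset.sum_congr rfl fun i _ => ?_
    rw [show (Pi.single i (v i) : Fin k → S) = v i • Pi.single i 1 by
      rw [← Pi.single_smul', smul_eq_mul, mul_one], map_smul]
    rfl
  refine ⟨k, ⟨⟨bar φ, bar ψ, ρ', fun m => ?_, ?_, ?_, ?_, ?_⟩⟩⟩
  · obtain ⟨v, hv⟩ := hρ m
    exact ⟨q v, (hρ' v).trans hv⟩
  · ext w
    obtain ⟨v, rfl⟩ := hqsurj w
    constructor
    · intro hv
      rw [LinearMap.mem_ker, hρ'] at hv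
      obtain ⟨u, rfl⟩ := hφrange v hv
      exact ⟨q u, hbar φ u⟩
    · rintro ⟨u, hu⟩
      obtain ⟨u, rfl⟩ := hqsurj u
      rw [LinearMap.mem_ker, ← hu, hbar, hρ', hρφ]
  · ext w
    obtain ⟨v, rfl⟩ := hqsurj w
    constructor
    · intro hv
      rw [LinearMap.mem_ker, hbar] at hv
      obtain ⟨u, hu⟩ := hq0 _ hv
      refine ⟨q u, ?_⟩
      rw [hbar, hφinj (show φ v = φ (ψ u) by rw [hu, hψ1])]
    · rintro ⟨u, hu⟩
      obtain ⟨u, rfl⟩ := hqsurj u
      rw [LinearMap.mem_ker, ← hu, hbar, hbar, hψ1, hqf]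
  · ext w
    obtain ⟨v, rfl⟩ := hqsurj w
    constructor
    · intro hv
      rw [LinearMap.mem_ker, hbar] at hv
      obtain ⟨u, hu⟩ := hq0 _ hv
      refine ⟨q u, ?_⟩
      rw [hbar]
      congr 1
      refine smul_right_injective _ hf ?_
      show f • φ u = f • v
      rw [← hψ1 v, hu, map_smul]
    · rintro ⟨u, hu⟩
      obtain ⟨u, rfl⟩ := hqsurj u
      rw [LinearMap.mem_ker, ← hu, hbar, hbar, hψ2, hqf]
  · intro a ha
    obtain ⟨a', rfl⟩ := hπ a
    obtain ⟨h, -, h2⟩ := hlift a' fun m => by rw [hsmul]; exact Module.mem_annihilator.1 (hI ha) m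
    refine ⟨bar h, LinearMap.ext fun w => ?_⟩
    obtain ⟨v, rfl⟩ := hqsurj w
    rw [LinearMap.comp_apply, hbar, hbar, h2]
    funext i
    simp [q]

lemma eq_zero_of_pow_smul {N : Type u} [AddCommGroup N] [Module R N] [IsLocalRing R] {y : R}
    (hy : y ∈ IsLocalRing.maximalIdeal R) (hyN : IsSMulRegular N y) (n : ℕ) {z : N}
    (h : ∀ c ∈ IsLocalRing.maximalIdeal R ^ n, c • z = 0) : z = 0 :=
  (hyN.pow n).right_eq_zero_of_smul (h _ (Ideal.pow_mem_pow hy n))

lemma smul_eq_zero_of_sup {N : Type u} [AddCommGroup N] [Module R N] [IsLocalRing R] {I J : Ideal R}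
    {n : ℕ} (hIJ : IsLocalRing.maximalIdeal R ^ n ≤ I ⊔ J) {z : N} (hI : ∀ a ∈ I, a • z = 0)
    (hJ : ∀ a ∈ J, a • z = 0) : ∀ c ∈ IsLocalRing.maximalIdeal R ^ n, c • z = 0 := by
  intro c hc
  obtain ⟨a, ha, b, hb, rfl⟩ := Submodule.mem_sup.1 (hIJ hc)
  rw [add_smul, hI a ha, hJ b hb, add_zero]

theorem subsingleton_ext_two [IsLocalRing R] {I J : Ideal R} {n : ℕ}
    (hIJ : IsLocalRing.maximalIdeal R ^ n ≤ I ⊔ J) {M N : Type u} [AddCommGroup M] [Module R M]
    [AddCommGroup N] [Module R N] (hI : I ≤ Module.annihilator R M) (hJ : J ≤ Module.annihilator R N)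
    {y : R} (hy : y ∈ IsLocalRing.maximalIdeal R) (hyN : IsSMulRegular N y) {k : ℕ} (P : Periodic I M k) :
    Subsingleton (Abelian.Ext (ModuleCat.of R M) (ModuleCat.of R N) 2) := by
  have hhom : ∀ g : M →ₗ[R] N, g = 0 := fun g => LinearMap.ext fun m => by
    refine eq_zero_of_pow_smul hy hyN n (smul_eq_zero_of_sup hIJ (fun a ha => ?_) fun a ha => ?_)
    · rw [← map_smul, Module.mem_annihilator.1 (hI ha) m, map_zero]
    · exact Module.mem_annihilator.1 (hJ ha) _
  let e : ((Fin k → R) ⧸ LinearMap.range P.φ) ≃ₗ[R] M :=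
    (Submodule.quotEquivOfEq _ _ P.hker.symm).trans (P.ρ.quotKerEquivOfSurjective P.surj)
  let ι : M →ₗ[R] (Fin k → R) := (LinearMap.range P.φ).liftQ P.ψ P.hψ.ge ∘ₗ e.symm.toLinearMap
  have hι : Function.Injective ι :=
    (LinearMap.ker_eq_bot.1 (Submodule.ker_liftQ_eq_bot (LinearMap.range P.φ) P.ψ P.hψ.ge P.hψ.le)).comp e.symm.injective
  have hιrange : LinearMap.range ι = LinearMap.range P.ψ := by
    rw [LinearMap.range_comp, LinearEquiv.range, Submodule.map_top, Submodule.range_liftQ]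
  let g : (Fin k → R) →ₗ[R] LinearMap.ker P.ρ :=
    P.φ.codRestrict (LinearMap.ker P.ρ) fun v => by rw [P.hker]; exact ⟨v, rfl⟩
  let S₁ : ShortComplex (ModuleCat.{u} R) := ShortComplex.mk (ModuleCat.ofHom (LinearMap.ker P.ρ).subtype)
    (ModuleCat.ofHom P.ρ) (ModuleCat.hom_ext (LinearMap.ext fun z => z.2))
  have hS₁ : S₁.ShortExact := LinearMap.shortExact_shortComplexKer P.surj
  have hex : Function.Exact ι g := fun v => by
    rw [← LinearMap.mem_ker, LinearMap.ker_codRestrict, P.hφ, ← hιrange]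
    rfl
  let S₂ : ShortComplex (ModuleCat.{u} R) := ShortComplex.mk (ModuleCat.ofHom ι) (ModuleCat.ofHom g)
    (ModuleCat.hom_ext hex.linearMap_comp_eq_zero)
  have hS₂ : S₂.ShortExact :=
    { exact := (CategoryTheory.ShortComplex.ShortExact.moduleCat_exact_iff_function_exact _).2 hex
      mono_f := (ModuleCat.mono_iff_injective _).2 hι
      epi_g := (ModuleCat.epi_iff_surjective _).2 fun z => by
        obtain ⟨v, hv⟩ := (P.hker ▸ z.2 : z.1 ∈ LinearMap.range P.φ)
        exact ⟨v, Subtype.ext hv⟩ }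
  haveI : Projective (ModuleCat.of R (Fin k → R)) := ModuleCat.projective_of_free (Pi.basisFun R (Fin k))
  refine subsingleton_of_forall_eq 0 fun x => ?_
  obtain ⟨x₁, rfl⟩ := Abelian.Ext.contravariant_sequence_exact₃ hS₁ _ x
    (Abelian.Ext.eq_zero_of_projective _) (n₀ := 1) rfl
  obtain ⟨x₀, rfl⟩ := Abelian.Ext.contravariant_sequence_exact₃ hS₂ _ x₁
    (Abelian.Ext.eq_zero_of_projective _) (n₀ := 0) rfl
  obtain ⟨g₀, rfl⟩ := Abelian.Ext.homEquiv₀.symm.surjective x₀
  have : g₀ = 0 := ModuleCat.hom_ext (hhom g₀.hom)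
  subst this
  simp

theorem isZero_tor_one [IsLocalRing R] [IsReduced R] {I J : Ideal R} {n : ℕ}
    (hIJ : IsLocalRing.maximalIdeal R ^ n ≤ I ⊔ J) {M N : Type u} [AddCommGroup M] [Module R M]
    [AddCommGroup N] [Module R N] (hJ : J ≤ Module.annihilator R N)
    {y : R} (hy : y ∈ IsLocalRing.maximalIdeal R) (hyN : IsSMulRegular N y) {k : ℕ} (P : Periodic I M k) :
    Limits.IsZero (((Tor (ModuleCat.{u} R) 1).obj (ModuleCat.of R M)).obj (ModuleCat.of R (Module.Dual R N))) := by
  rw [Groth.Agent.CAlgH3.isZero_tor_one_iff]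
  refine FlatCrit.TorVanish.of_presentation (LinearMap.range P.φ).subtype P.ρ
    (fun v => by rw [← LinearMap.mem_ker, P.hker]; simp) P.surj FlatCrit.torVanish_of_projective ?_
  rw [injective_iff_map_eq_zero]
  intro z hz
  obtain ⟨w, rfl⟩ := LinearMap.rTensor_surjective (Module.Dual R N) P.φ.surjective_rangeRestrict z
  have hw : LinearMap.rTensor (Module.Dual R N) P.φ w = 0 := by
    rw [← LinearMap.rTensor_comp_apply] at hz
    exact hz
  suffices w = 0 by rw [this, map_zero]
  let e : (Fin k → R) ⊗[R] Module.Dual R N ≃ₗ[R] (Fin k → Module.Dual R N) :=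
    (TensorProduct.comm R _ _).trans (TensorProduct.piScalarRight R R (Module.Dual R N) (Fin k))
  refine e.injective (funext fun i => ?_)
  rw [map_zero, Pi.zero_apply]
  have hkill : ∀ c ∈ IsLocalRing.maximalIdeal R ^ n, c • w = 0 := by
    refine smul_eq_zero_of_sup (R := R) (N := (Fin k → R) ⊗[R] Module.Dual R N) (z := w) hIJ (fun a ha => ?_) fun a ha => ?_
    · obtain ⟨h, hh⟩ := P.homotopy a ha
      have := congrArg (fun g : (Fin k → R) →ₗ[R] (Fin k → R) => LinearMap.rTensor (Module.Dual R N) g w) hh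
      simp only [LinearMap.rTensor_comp, LinearMap.comp_apply, hw, map_zero] at this
      rw [LinearMap.rTensor_smul, LinearMap.smul_apply, LinearMap.rTensor_id, LinearMap.id_apply] at this
      exact this.symm
    · refine e.injective (funext fun i => LinearMap.ext fun z => ?_)
      rw [map_smul, map_zero, Pi.smul_apply, LinearMap.smul_apply, ← map_smul,
        Module.mem_annihilator.1 (hJ ha) z, map_zero]
      rfl
  refine LinearMap.ext fun z => ?_
  rw [LinearMap.zero_apply]
  set c := e w i z with hcdef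
  have hc : ∀ b ∈ IsLocalRing.maximalIdeal R ^ n, b * c = 0 := fun b hb => by
    have := congrArg (fun w => e w i z) (hkill b hb)
    simp only [map_smul, map_zero, Pi.smul_apply, LinearMap.smul_apply, Pi.zero_apply, LinearMap.zero_apply] at this
    exact this
  by_cases hm : IsLocalRing.maximalIdeal R = ⊥
  · -- over a field `N` vanishes
    have hy0 : y = 0 := by rw [hm] at hy; exact (Submodule.mem_bot R).1 hy
    have hz0 : z = 0 := hyN (by rw [hy0]; simp)
    rw [hcdef, hz0, map_zero]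
  clear_value c
  clear hcdef hkill hIJ
  induction n generalizing c with
  | zero => simpa using hc 1 (by simp)
  | succ n ih =>
    refine ih c ?_
    intro b hb
    by_contra hne
    have hm1 : ∀ a ∈ IsLocalRing.maximalIdeal R, a * (b * c) = 0 := fun a ha => by
      rw [← mul_assoc]
      exact hc _ (by rw [pow_succ']; exact Ideal.mul_mem_mul ha hb)
    by_cases hu : IsUnit (b * c)
    · refine hm (eq_bot_iff.2 fun a ha => ?_)
      exact (Submodule.mem_bot R).2 (hu.mul_left_eq_zero.1 (hm1 a ha))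
    · exact hne ((IsReduced.eq_zero (b * c) ⟨2, by
        rw [pow_two]; exact hm1 _ ((IsLocalRing.mem_maximalIdeal _).2 hu)⟩))

end Groth.Agent.CAlgH3.CurveExt
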