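import Groth.Agent.CAlgH.RegularSmooth
import Groth.Agent.CAlgH3.RegularCore
import Mathlib.RingTheory.Smooth.Basic
import Mathlib.RingTheory.Polynomial.Quotient
import Mathlib.Algebra.TrivSqZeroExt.Basic

/-! Smoothness of a hypersurface and of cyclic covers. -/

universe u

open TensorProduct KaehlerDifferential Polynomial

namespace Groth.Agent.CAlgH3.CyclicCover

variable {k P : Type u} [CommRing k] [CommRing P] [Algebra k P] [Algebra.FormallySmooth k P] (g : P)

theorem mem_ker : g ∈ RingHom.ker (algebraMap P (P ⧸ Ideal.span {g})) := by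
  rw [Ideal.Quotient.algebraMap_eq, Ideal.mk_ker]; exact Ideal.mem_span_singleton_self g

theorem formallySmooth_of_derivation (D : Derivation k P (P ⧸ Ideal.span {g})) (hD : D g = 1) :
    Algebra.FormallySmooth k (P ⧸ Ideal.span {g}) := by
  let B := P ⧸ Ideal.span {g}
  rw [Algebra.FormallySmooth.iff_split_injection (P := P) Ideal.Quotient.mk_surjective]
  let c : (RingHom.ker (algebraMap P (P ⧸ Ideal.span {g}))).Cotangent := Ideal.toCotangent (RingHom.ker (algebraMap P (P ⧸ Ideal.span {g}))) ⟨g, mem_ker g⟩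
  let φ : P →ₗ[P] (RingHom.ker (algebraMap P (P ⧸ Ideal.span {g}))).Cotangent := LinearMap.toSpanSingleton P _ c
  have hle : Ideal.span {g} ≤ LinearMap.ker φ := by
    rw [Ideal.span_singleton_le_iff_mem, LinearMap.mem_ker]
    change g • c = 0
    simp only [c]
    rw [← map_smul, Ideal.toCotangent_eq_zero, pow_two]
    exact Ideal.mul_mem_mul (mem_ker g) (mem_ker g)
  let lam : B ⊗[P] Ω[P⁄k] →ₗ[P] B :=
    TensorProduct.lift ((LinearMap.mul P B).compl₂ D.liftKaehlerDifferential)
  refine ⟨Submodule.liftQ (Ideal.span {g}) φ hle ∘ₗ lam, LinearMap.ext fun x => ?_⟩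
  obtain ⟨⟨x, hx⟩, rfl⟩ := Ideal.toCotangent_surjective _ x
  obtain ⟨p, rfl⟩ := Ideal.mem_span_singleton'.1 (show x ∈ Ideal.span {g} by rwa [Ideal.Quotient.algebraMap_eq, Ideal.mk_ker] at hx)
  rw [LinearMap.comp_apply, LinearMap.comp_apply, kerCotangentToTensor_toCotangent, LinearMap.id_apply]
  have h1 : lam ((1 : B) ⊗ₜ KaehlerDifferential.D k P (p * g)) = Ideal.Quotient.mk _ p := by
    have h2 : lam ((1 : B) ⊗ₜ KaehlerDifferential.D k P (p * g)) = 1 * D (p * g) := by
      simp [lam, Derivation.liftKaehlerDifferential_comp_D]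
    rw [h2, one_mul, D.leibniz, hD, show g • D p = 0 from by
      rw [Algebra.smul_def, Ideal.Quotient.algebraMap_eq, Ideal.Quotient.eq_zero_iff_mem.2 (Ideal.mem_span_singleton_self g), zero_mul],
      add_zero, Algebra.smul_def, mul_one]
    rfl
  rw [h1]
  change φ p = _
  rw [LinearMap.toSpanSingleton_apply]
  change p • Ideal.toCotangent _ _ = _
  rw [← map_smul]
  rfl

theorem exists_derivation (hg : g ∈ nonZeroDivisors P) (h : Algebra.FormallySmooth k (P ⧸ Ideal.span {g})) :
    ∃ D : Derivation k P (P ⧸ Ideal.span {g}), D g = 1 := by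
  let B := P ⧸ Ideal.span {g}
  obtain ⟨l, hl⟩ := (Algebra.FormallySmooth.iff_split_injection (P := P) Ideal.Quotient.mk_surjective).1 h
  let c : (RingHom.ker (algebraMap P (P ⧸ Ideal.span {g}))).Cotangent := Ideal.toCotangent (RingHom.ker (algebraMap P (P ⧸ Ideal.span {g}))) ⟨g, mem_ker g⟩
  let φ : P →ₗ[P] (RingHom.ker (algebraMap P (P ⧸ Ideal.span {g}))).Cotangent := LinearMap.toSpanSingleton P _ c
  have hI : RingHom.ker (algebraMap P (P ⧸ Ideal.span {g})) = Ideal.span {g} := by rw [Ideal.Quotient.algebraMap_eq, Ideal.mk_ker]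
  have hφs : Function.Surjective φ := fun x => by
    obtain ⟨⟨x, hx⟩, rfl⟩ := Ideal.toCotangent_surjective _ x
    obtain ⟨p, rfl⟩ := Ideal.mem_span_singleton'.1 (hI ▸ hx)
    exact ⟨p, by rw [LinearMap.toSpanSingleton_apply]; change p • Ideal.toCotangent _ _ = _; rw [← map_smul]; rfl⟩
  have hker : LinearMap.ker φ = Ideal.span {g} := by
    ext p
    rw [LinearMap.mem_ker, LinearMap.toSpanSingleton_apply]
    change p • Ideal.toCotangent _ _ = 0 ↔ _
    rw [← map_smul, Ideal.toCotangent_eq_zero]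
    change p * g ∈ (RingHom.ker (algebraMap P (P ⧸ Ideal.span {g}))) ^ 2 ↔ _
    rw [hI, Ideal.span_singleton_pow, Ideal.mem_span_singleton', Ideal.mem_span_singleton']
    constructor
    · rintro ⟨a, ha⟩
      exact ⟨a, mul_cancel_right_mem_nonZeroDivisors hg |>.1 (by rw [← ha]; ring)⟩
    · rintro ⟨a, rfl⟩
      exact ⟨a, by ring⟩
  let e : B ≃ₗ[P] (RingHom.ker (algebraMap P (P ⧸ Ideal.span {g}))).Cotangent := (Submodule.quotEquivOfEq _ _ hker.symm).trans (φ.quotKerEquivOfSurjective hφs)
  let L : Ω[P⁄k] →ₗ[P] B := (e.symm.toLinearMap ∘ₗ l) ∘ₗ (TensorProduct.mk P B Ω[P⁄k] 1)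
  refine ⟨L.compDer (KaehlerDifferential.D k P), ?_⟩
  change e.symm (l ((1 : B) ⊗ₜ KaehlerDifferential.D k P g)) = 1
  rw [← kerCotangentToTensor_toCotangent (R := k) (A := P) (B := B) ⟨g, mem_ker g⟩, ← LinearMap.comp_apply l, hl,
    LinearMap.id_apply, LinearEquiv.symm_apply_eq]
  change c = φ 1
  exact (one_smul P c).symm

variable {A : Type u} [CommRing A] [Algebra k A] [Algebra.FormallySmooth k A]

theorem forward (s : A) (hs : s ∈ nonZeroDivisors A) (e : ℕ) (he : 2 ≤ e) (hB : Algebra.FormallySmooth k (AdjoinRoot (X ^ e - C s))) :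
    Algebra.FormallySmooth k (A ⧸ Ideal.span {s}) := by
  have : Algebra.FormallySmooth k (Polynomial A) := Algebra.FormallySmooth.comp k A (Polynomial A)
  obtain ⟨D, hD⟩ := exists_derivation (X ^ e - C s) (monic_X_pow_sub_C s (by omega)).mem_nonZeroDivisors hB
  let π : (Polynomial A ⧸ Ideal.span {X ^ e - C s}) →+* A ⧸ Ideal.span {s} :=
    Ideal.Quotient.lift _ ((Ideal.Quotient.mk _).comp (Polynomial.evalRingHom 0)) fun p hp => by
      obtain ⟨q, rfl⟩ := Ideal.mem_span_singleton.1 hp
      simp [show e ≠ 0 by omega, Ideal.Quotient.eq_zero_iff_mem, Ideal.mem_span_singleton_self]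
  have hπ : ∀ p, π (Ideal.Quotient.mk _ p) = Ideal.Quotient.mk _ (p.eval 0) := fun p => rfl
  have hsmul : ∀ (p : Polynomial A) y, π (p • y) = p.eval 0 • π y := fun p y => by
    obtain ⟨y, rfl⟩ := Ideal.Quotient.mk_surjective y
    change π (Ideal.Quotient.mk _ (p * y)) = p.eval 0 • π (Ideal.Quotient.mk _ y)
    rw [hπ, hπ, eval_mul]; rfl
  let δ : Derivation k A (A ⧸ Ideal.span {s}) := Derivation.mk'
    { toFun := fun a => -π (D (C a))
      map_add' := fun a b => by rw [map_add, map_add, map_add, neg_add]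
      map_smul' := fun c a => by
        rw [RingHom.id_apply, ← Polynomial.smul_C, D.map_smul, smul_neg]
        congr 1
        obtain ⟨y, hy⟩ := Ideal.Quotient.mk_surjective (D (C a))
        rw [← hy]
        change π (Ideal.Quotient.mk _ (c • y)) = c • π (Ideal.Quotient.mk _ y)
        rw [hπ, hπ, Polynomial.eval_smul]
        rfl }
    (fun a b => by
      change -π (D (C (a * b))) = a • -π (D (C b)) + b • -π (D (C a))
      rw [map_mul, D.leibniz, map_add, hsmul, hsmul, eval_C, eval_C, smul_neg, smul_neg, neg_add])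
  refine formallySmooth_of_derivation s δ ?_
  change -π (D (C s)) = 1
  have h1 : D (X ^ e) - D (C s) = 1 := by rw [← map_sub]; exact hD
  have h2 : π (D (X ^ e)) = 0 := by
    rw [D.leibniz_pow, map_nsmul, hsmul, eval_pow, eval_X, zero_pow (by omega), zero_smul, smul_zero]
  have h3 := congrArg π h1
  rw [map_sub, h2, map_one, zero_sub] at h3
  exact h3

theorem backward (s : A) (hs : s ∈ nonZeroDivisors A) (e : ℕ) (he : IsUnit (e : k)) (h : Algebra.FormallySmooth k (A ⧸ Ideal.span {s})) :
    Algebra.FormallySmooth k (AdjoinRoot (X ^ e - C s)) := by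
  have : Algebra.FormallySmooth k (Polynomial A) := Algebra.FormallySmooth.comp k A (Polynomial A)
  obtain ⟨D, hD⟩ := exists_derivation s hs h
  obtain ⟨L, hL⟩ := Module.projective_lifting_property (Submodule.mkQ (Ideal.span {s})) D.liftKaehlerDifferential (Submodule.mkQ_surjective _)
  let δ : Derivation k A A := L.compDer (KaehlerDifferential.D k A)
  have hδ : Ideal.Quotient.mk (Ideal.span {s}) (δ s) = 1 := by
    change Submodule.mkQ _ (L (KaehlerDifferential.D k A s)) = 1
    rw [← LinearMap.comp_apply, hL, Derivation.liftKaehlerDifferential_comp_D, hD]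
  obtain ⟨a, ha⟩ := Ideal.mem_span_singleton'.1 (Ideal.Quotient.eq.1 (hδ.trans (map_one _).symm))
  let B := Polynomial A ⧸ Ideal.span {X ^ e - C s}
  let q : A →+* B := (Ideal.Quotient.mk _).comp C
  let x : B := Ideal.Quotient.mk _ X
  have hx : x ^ e = q s := by
    rw [← map_pow]; exact Ideal.Quotient.eq.2 (Ideal.mem_span_singleton_self _)
  obtain ⟨ue, hue⟩ := (he.map (algebraMap k A))
  let cT : B := -(q (a * ↑ue⁻¹)) * x
  let ψ : A →+* TrivSqZeroExt B B :=
    { toFun := fun b => TrivSqZeroExt.inl (q b) + TrivSqZeroExt.inr (-(q (δ b)))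
      map_one' := by ext <;> simp
      map_zero' := by ext <;> simp
      map_add' := fun b c => by
        ext
        · simp; ring
        · simp; ring
      map_mul' := fun b c => by ext <;> simp [δ.leibniz] <;> ring }
  let Φ : Polynomial A →+* TrivSqZeroExt B B := Polynomial.eval₂RingHom ψ (TrivSqZeroExt.inl x + TrivSqZeroExt.inr cT)
  have hfst : ∀ p, (Φ p).fst = Ideal.Quotient.mk _ p := fun p => by
    have : (TrivSqZeroExt.fstHom B B B).toRingHom.comp Φ = Ideal.Quotient.mk (Ideal.span {X ^ e - C s}) :=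
      Polynomial.ringHom_ext (fun b => by simp [Φ, ψ, q]) (by simp [Φ, x])
    exact RingHom.congr_fun this p
  let Dv : Derivation k (Polynomial A) B := Derivation.mk'
    { toFun := fun p => (Φ p).snd
      map_add' := fun p r => by simp
      map_smul' := fun c p => by
        rw [RingHom.id_apply, Algebra.smul_def, map_mul, TrivSqZeroExt.snd_mul, hfst,
          IsScalarTower.algebraMap_apply k A (Polynomial A), Polynomial.algebraMap_apply, Algebra.algebraMap_self_apply]
        generalize hy : (Φ p).snd = y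
        obtain ⟨y, rfl⟩ := Ideal.Quotient.mk_surjective y
        simp [Φ, ψ]
        change Ideal.Quotient.mk _ (C (algebraMap k A c) * y) = Ideal.Quotient.mk _ (c • y)
        rw [Algebra.smul_def, IsScalarTower.algebraMap_apply k A (Polynomial A), Polynomial.algebraMap_apply, Algebra.algebraMap_self_apply] }
    (fun p r => by
      change (Φ (p * r)).snd = p • (Φ r).snd + r • (Φ p).snd
      rw [map_mul, TrivSqZeroExt.snd_mul, hfst, hfst]
      simp [Algebra.smul_def, mul_comm]
      rfl)
  refine formallySmooth_of_derivation (X ^ e - C s) Dv ?_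
  change (Φ (X ^ e - C s)).snd = 1
  have h1 : (Φ (X ^ e)).snd = (e : B) * x ^ (e - 1) * cT := by
    rw [map_pow, TrivSqZeroExt.snd_pow]
    simp [Φ, mul_assoc]
  have h2 : (Φ (C s)).snd = -(q (δ s)) := by simp [Φ, ψ]
  rw [map_sub, TrivSqZeroExt.snd_sub, h1, h2]
  rcases Nat.eq_zero_or_pos e with h0 | hpos
  · subst h0
    rw [Nat.cast_zero] at he
    have : Subsingleton k := subsingleton_of_zero_eq_one (isUnit_zero_iff.1 he)
    have : Subsingleton B := (algebraMap k B).codomain_trivial
    exact Subsingleton.elim _ _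
  have he' : (e : B) * q (↑ue⁻¹ : A) = 1 := by
    rw [← map_natCast q e, ← map_mul, ← map_natCast (algebraMap k A) e, ← hue, Units.mul_inv, map_one]
  have h3 : (e : B) * x ^ (e - 1) * cT = -(q a * q s) := by
    rw [← hx]
    have hxe : x ^ (e - 1 + 1) = x ^ e := congrArg (x ^ ·) (Nat.sub_add_cancel hpos)
    rw [← hxe, pow_succ]
    simp only [cT, map_mul]
    linear_combination (-(q a * x ^ (e - 1) * x)) * he'
  rw [h3, sub_neg_eq_add, ← map_mul, ← map_neg, ← map_add, ← map_one q]
  congr 1
  linear_combination -ha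

theorem mem_nonZeroDivisors_of_irreducible (k A : Type u) [Field k] [CommRing A] [Algebra k A] [Algebra.Smooth k A]
    (s : A) (hs : Irreducible s) : s ∈ nonZeroDivisors A := by
  classical
  have : IsNoetherianRing A := Algebra.FiniteType.isNoetherianRing k A
  have : IsReduced A := Groth.Agent.CAlgH.isReduced_of_smooth k A
  have : IsRegularRing A := Groth.Agent.CAlgH.isRegularRing_of_smooth k A
  rw [mem_nonZeroDivisors_iff_right]
  by_contra! h
  obtain ⟨t, hts, ht⟩ := h
  have hco : ∀ p ∈ minimalPrimes A, ∀ p' ∈ minimalPrimes A, p ≠ p' → p ⊔ p' = ⊤ := by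
    intro p hp p' hp' hne
    by_contra htop
    obtain ⟨m, hm, hle⟩ := Ideal.exists_le_maximal _ htop
    have := hm.isPrime
    have : IsDomain (Localization.AtPrime m) := CAlgH3.isDomain_of_isRegularLocalRing _
    have hk : ∀ r ∈ minimalPrimes A, r ≤ m → r = RingHom.ker (algebraMap A (Localization.AtPrime m)) := by
      intro r hr hrm
      refine le_antisymm (hr.2 ⟨RingHom.ker_isPrime _, bot_le⟩ fun b hb => ?_) fun b hb => ?_
      · obtain ⟨⟨c, hc⟩, hcb⟩ := (IsLocalization.map_eq_zero_iff m.primeCompl _ b).1 (RingHom.mem_ker.1 hb)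
        exact (hr.1.1.mem_or_mem (show c * b ∈ r from hcb ▸ r.zero_mem)).resolve_left fun h => hc (hrm h)
      · obtain ⟨⟨c, hc⟩, hcb⟩ := (IsLocalization.map_eq_zero_iff m.primeCompl _ b).1 (RingHom.mem_ker.1 hb)
        exact (hr.1.1.mem_or_mem (show c * b ∈ r from hcb ▸ r.zero_mem)).resolve_left fun h => hc (hrm h)
    exact hne ((hk p hp (le_sup_left.trans hle)).trans (hk p' hp' (le_sup_right.trans hle)).symm)
  have hinf : (⨅ p ∈ minimalPrimes A, p) = (⊥ : Ideal A) := by
    rw [← sInf_eq_iInf, minimalPrimes, Ideal.sInf_minimalPrimes]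
    exact nilradical_eq_zero A
  obtain ⟨p, hp, hp'⟩ : ∃ p ∈ minimalPrimes A, t ∉ p := by
    by_contra! hall
    exact ht ((Submodule.mem_bot A).1 (hinf ▸ (Submodule.mem_iInf _).2 fun p => (Submodule.mem_iInf _).2 fun hp => hall p hp))
  have hsp : s ∈ p := (hp.1.1.mem_or_mem (hts ▸ p.zero_mem)).resolve_left hp'
  -- an idempotent supported on the component where `s` vanishes
  let J : Ideal A := ⨅ q ∈ (minimalPrimes A \ {p}), q
  have hsup : p ⊔ J = ⊤ := by
    have : Fintype ↥(minimalPrimes A \ {p}) := ((minimalPrimes.finite_of_isNoetherianRing A).subset Set.sdiff_subset).fintype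
    rw [show J = ⨅ q ∈ (minimalPrimes A \ {p}).toFinset, q by simp [J]]
    exact Ideal.sup_iInf_eq_top fun q hq => by
      rw [Set.mem_toFinset] at hq
      exact hco p hp q hq.1 (Ne.symm hq.2)
  obtain ⟨u, hu, v, hv, huv⟩ := Submodule.mem_sup.1 ((Ideal.eq_top_iff_one _).1 hsup)
  have hzero : ∀ b, b ∈ p → b ∈ J → b = 0 := fun b hb hbJ => by
    rw [← Submodule.mem_bot A, ← hinf, Submodule.mem_iInf]
    intro q
    rw [Submodule.mem_iInf]
    intro hq
    by_cases hqp : q = p
    · exact hqp ▸ hb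
    · exact (Submodule.mem_iInf _).1 ((Submodule.mem_iInf _).1 hbJ q) ⟨hq, hqp⟩
  have hsv : s * v = 0 := hzero _ (p.mul_mem_right v hsp) (J.mul_mem_left s hv)
  have hfac : s = s * u := by linear_combination (-s) * huv + hsv
  rcases hs.isUnit_or_isUnit hfac with hu' | hu'
  · exact hs.not_isUnit hu'
  · exact hp.1.1.ne_top (Ideal.eq_top_of_isUnit_mem _ hu hu')

end Groth.Agent.CAlgH3.CyclicCover
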