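import Groth.Agent.CommAlg6.DepthOne
import Mathlib

/-! Quotient by the sections supported in a specialisation closed set. -/

set_option autoImplicit false
universe u

namespace Groth.Agent.CAlgH3.GammaQuot

variable {A : Type u} [CommRing A] (T : Set (PrimeSpectrum A)) (M : Type u) [AddCommGroup M] [Module A M]

/-- elements supported in `T` -/
noncomputable def gam : Submodule A M :=
  ⨅ q : {q : PrimeSpectrum A // q ∉ T}, LinearMap.ker (LocalizedModule.mkLinearMap q.1.asIdeal.primeCompl M)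

theorem mem_gam {x : M} : x ∈ gam T M ↔ ∀ q : PrimeSpectrum A, q ∉ T → ∃ s ∉ q.asIdeal, s • x = 0 := by
  simp only [gam, Submodule.mem_iInf, LinearMap.mem_ker, Subtype.forall]
  refine forall_congr' fun q => forall_congr' fun hq => ?_
  rw [IsLocalizedModule.eq_zero_iff q.asIdeal.primeCompl]
  exact ⟨fun ⟨⟨s, hs⟩, h⟩ => ⟨s, hs, h⟩, fun ⟨s, hs, h⟩ => ⟨⟨s, hs⟩, h⟩⟩

theorem bijective (q : PrimeSpectrum A) (hq : q ∉ T) :
    Function.Bijective (LocalizedModule.map q.asIdeal.primeCompl (gam T M).mkQ) := by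
  refine ⟨(injective_iff_map_eq_zero _).2 fun x hx => ?_,
    LocalizedModule.map_surjective _ _ (Submodule.mkQ_surjective _)⟩
  induction x using LocalizedModule.induction_on with
  | h m s =>
    rw [LocalizedModule.map_mk, ← LocalizedModule.zero_mk s, LocalizedModule.mk_eq] at hx
    obtain ⟨⟨u, hu⟩, hu'⟩ := hx
    simp only [smul_zero, Submonoid.smul_def, Submodule.mkQ_apply, ← Submodule.Quotient.mk_smul,
      Submodule.Quotient.mk_eq_zero] at hu'
    obtain ⟨t, ht, htm⟩ := (mem_gam T M).1 hu' q hq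
    rw [← LocalizedModule.zero_mk s, LocalizedModule.mk_eq]
    refine ⟨⟨t * u, q.asIdeal.primeCompl.mul_mem ht hu⟩, ?_⟩
    simp only [smul_zero, Submonoid.smul_def, mul_smul]
    exact htm

theorem result [IsNoetherianRing A] (hT : StableUnderSpecialization T) [Module.Finite A M] :
    ∃ (M' : Type u) (_ : AddCommGroup M') (_ : Module A M') (_ : Module.Finite A M') (f : M →ₗ[A] M'),
      Function.Surjective f ∧ (∀ p : PrimeSpectrum A, p ∉ T → Function.Bijective (LocalizedModule.map p.asIdeal.primeCompl f)) ∧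
        ∀ p : PrimeSpectrum A, p ∈ T →
          1 ≤ LocCoh.depth (Localization.AtPrime p.asIdeal) (LocalizedModule p.asIdeal.primeCompl M') := by
  refine ⟨M ⧸ gam T M, inferInstance, inferInstance, inferInstance, (gam T M).mkQ,
    Submodule.mkQ_surjective _, bijective T M, fun p hp => ?_⟩
  refine (CommAlg6.one_le_depth_localized_iff p.asIdeal).2 fun hass => ?_
  obtain ⟨-, x, hx⟩ := (isAssociatedPrime_iff).1 hass
  obtain ⟨m, rfl⟩ := Submodule.Quotient.mk_surjective _ x
  have hm : m ∉ gam T M := fun h => p.2.ne_top ((Ideal.eq_top_iff_one _).2 (by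
    rw [hx, Submodule.mem_colon_singleton, one_smul, Submodule.mem_bot]
    exact (Submodule.Quotient.mk_eq_zero _).2 h))
  rw [mem_gam] at hm
  push Not at hm
  obtain ⟨q, hq, hqm⟩ := hm
  have hle : ¬ p.asIdeal ≤ q.asIdeal := fun h => hq (hT ((PrimeSpectrum.le_iff_specializes p q).1 h) hp)
  obtain ⟨a, ha, haq⟩ := Set.not_subset.1 hle
  rw [hx, SetLike.mem_coe, Submodule.mem_colon_singleton, Submodule.mem_bot, ← Submodule.Quotient.mk_smul,
    Submodule.Quotient.mk_eq_zero] at ha
  obtain ⟨t, ht, htm⟩ := (mem_gam T M).1 ha q hq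
  rw [← mul_smul] at htm
  exact hqm (t * a) (q.asIdeal.primeCompl.mul_mem ht haq) htm

end Groth.Agent.CAlgH3.GammaQuot
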