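import Groth.Agent.LocCoh.Finiteness
import Groth.Agent.CAlgH3.GammaQuot
import Groth.Prelude.Def_DualLC
import Mathlib

/-! Finiteness of local cohomology with supports in a specialisation closed set. -/

set_option autoImplicit false
set_option backward.isDefEq.respectTransparency.types false
universe u

open CategoryTheory Limits Opposite Abelian
open scoped Pointwise

namespace Groth.Agent.CAlgH3.LocCohSupportFin

open Groth.Agent.LocCoh

variable {A : Type u} [CommRing A] (T : Set (PrimeSpectrum A))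

abbrev D : Type u := Dual2.IdealsIn T

noncomputable abbrev F : D T ⥤ Ideal A := Dual2.idealsInDiagram T

/-- the colimit functor -/
noncomputable abbrev HT (i : ℕ) : ModuleCat.{u} A ⥤ ModuleCat.{u} A := Hf (F T) i

def mkD (J : Ideal A) (h : PrimeSpectrum.zeroLocus (J : Set A) ⊆ T) : D T := ⟨J, h⟩

theorem zeroLocus_mul_subset {J J' : Ideal A} (h : PrimeSpectrum.zeroLocus (J : Set A) ⊆ T)
    (h' : PrimeSpectrum.zeroLocus (J' : Set A) ⊆ T) :
    PrimeSpectrum.zeroLocus ((J * J' : Ideal A) : Set A) ⊆ T := by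
  rw [PrimeSpectrum.zeroLocus_mul]
  exact Set.union_subset h h'

theorem zeroLocus_pow_subset {J : Ideal A} (h : PrimeSpectrum.zeroLocus (J : Set A) ⊆ T) (n : ℕ) :
    PrimeSpectrum.zeroLocus ((J ^ n : Ideal A) : Set A) ⊆ T := by
  induction n with
  | zero => simp
  | succ n ih => rw [pow_succ]; exact zeroLocus_mul_subset T ih h

def homD {d d' : D T} (h : d'.obj ≤ d.obj) : d' ⟶ d := ObjectProperty.homMk (homOfLE h)

instance : Nonempty (D T) := ⟨mkD T ⊤ (by simp)⟩

instance : IsCofiltered (D T) where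
  cone_objs d d' := ⟨mkD T (d.obj * d'.obj) (zeroLocus_mul_subset T d.property d'.property),
    homD T Ideal.mul_le_left, homD T Ideal.mul_le_right, trivial⟩
  cone_maps d d' f g := ⟨d, 𝟙 d, ObjectProperty.hom_ext _ (Subsingleton.elim _ _)⟩

theorem quot_smul_eq_zero (d : D T) {a : A} (ha : a ∈ d.obj) (x : quot (F T) d) : a • x = 0 := by
  obtain ⟨r, rfl⟩ := Submodule.Quotient.mk_surjective d.obj x
  show Submodule.Quotient.mk (a • r) = (0 : A ⧸ d.obj)
  exact (Submodule.Quotient.mk_eq_zero _).2 (Ideal.mul_mem_right _ _ ha)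

theorem exists_kill_elem {i : ℕ} {M : ModuleCat.{u} A} (h : (HT T i).obj M) :
    ∃ J : Ideal A, PrimeSpectrum.zeroLocus (J : Set A) ⊆ T ∧ ∀ a ∈ J, a • h = 0 := by
  obtain ⟨d, x, rfl⟩ := exists_toH h
  refine ⟨d.obj, d.property, fun a ha => ?_⟩
  rw [← map_smul]
  exact (congrArg _ (ext_smul_eq_zero_left (M := quot (F T) d) (N := M) (quot_smul_eq_zero T d ha) x)).trans
    (map_zero _)

theorem exists_kill {E : Type*} [AddCommGroup E] [Module A E] [Module.Finite A E]
    (h : ∀ x : E, ∃ J : Ideal A, PrimeSpectrum.zeroLocus (J : Set A) ⊆ T ∧ ∀ a ∈ J, a • x = 0) :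
    ∃ J : Ideal A, PrimeSpectrum.zeroLocus (J : Set A) ⊆ T ∧ ∀ a ∈ J, ∀ x : E, a • x = 0 := by
  classical
  obtain ⟨S, hS⟩ := Module.Finite.fg_top (R := A) (M := E)
  choose J hJ hJx using h
  suffices ∃ K : Ideal A, PrimeSpectrum.zeroLocus (K : Set A) ⊆ T ∧ ∀ y ∈ S, K ≤ J y by
    obtain ⟨K, hK, hKy⟩ := this
    refine ⟨K, hK, fun a ha x => ?_⟩
    have hx : x ∈ Submodule.span A (S : Set E) := hS.symm ▸ trivial
    induction hx using Submodule.span_induction with
    | mem y hy => exact hJx y a (hKy y hy ha)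
    | zero => exact smul_zero _
    | add y z _ _ hy hz => rw [smul_add, hy, hz, add_zero]
    | smul r y _ hy => rw [smul_comm, hy, smul_zero]
  clear hS
  induction S using Finset.induction with
  | empty => exact ⟨⊤, by simp, by simp⟩
  | insert y S _ ih =>
    obtain ⟨K, hK, hKy⟩ := ih
    exact ⟨J y * K, zeroLocus_mul_subset T (hJ y) hK, Finset.forall_mem_insert _ _ _ |>.2
      ⟨Ideal.mul_le_left, fun z hz => Ideal.mul_le_right.trans (hKy z hz)⟩⟩

variable {T}

theorem Hf_map_smul {i : ℕ} {M : ModuleCat.{u} A} (r : A) (h : (HT T i).obj M) :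
    ((HT T i).map (r • 𝟙 M)).hom h = r • h := by
  obtain ⟨d, x, rfl⟩ := exists_toH h
  rw [toH_map, ← Ext.smul_eq_comp_mk₀, map_smul]

variable (T) in
theorem finite_zero (M : Type u) [AddCommGroup M] [Module A M] [IsNoetherianRing A] [Module.Finite A M] :
    Module.Finite A ((HT T 0).obj (ModuleCat.of A M)) := by
  let ev : ∀ d : D T, Ext (quot (F T) d) (ModuleCat.of A M) 0 →ₗ[A] M := fun d =>
    (LinearMap.applyₗ (R := A) (M := quot (F T) d) (M₂ := M) (Submodule.Quotient.mk (1 : A) : A ⧸ d.obj)).comp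
      ((ModuleCat.homLinearEquiv (S := A) (M := quot (F T) d) (N := ModuleCat.of A M)).toLinearMap.comp
        Ext.linearEquiv₀.toLinearMap)
  have hev : ∀ (d : D T) (φ : quot (F T) d ⟶ ModuleCat.of A M),
      ev d (Ext.mk₀ φ) = φ.hom (Submodule.Quotient.mk (1 : A) : A ⧸ d.obj) := fun d φ => by
    show (Ext.linearEquiv₀ (R := A) (Ext.mk₀ φ)).hom _ = _
    rw [show Ext.linearEquiv₀ (R := A) (Ext.mk₀ φ) = φ from (Ext.linearEquiv₀ (R := A)).apply_symm_apply φ]
  let e : (HT T 0).obj (ModuleCat.of A M) →ₗ[A] M := descH (F := F T) (M := ModuleCat.of A M) ev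
    fun {d d'} w x => by
      obtain ⟨φ, rfl⟩ : ∃ φ, Ext.mk₀ φ = x := ⟨_, Ext.mk₀_addEquiv₀_apply x⟩
      rw [Ext.mk₀_comp_mk₀, hev, hev]
      rfl
  refine Module.Finite.of_injective e ((injective_iff_map_eq_zero e).2 fun h hh => ?_)
  obtain ⟨d, x, rfl⟩ := exists_toH h
  obtain ⟨φ, rfl⟩ : ∃ φ, Ext.mk₀ φ = x := ⟨_, Ext.mk₀_addEquiv₀_apply x⟩
  rw [show e (toH d 0 _ (Ext.mk₀ φ)) = ev d (Ext.mk₀ φ) from descH_toH _ _ _ _, hev] at hh
  have : φ = 0 := ModuleCat.hom_ext (Submodule.linearMap_qext _ (LinearMap.ext_ring hh))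
  rw [this, Ext.mk₀_zero, map_zero]

variable [IsNoetherianRing A]

variable (T) in
/-- Modules killed by an ideal cutting out a subset of `T` are acyclic. -/
theorem subsingleton_of_killed (N : Type u) [AddCommGroup N] [Module A N] {J₀ : Ideal A}
    (hJ₀ : PrimeSpectrum.zeroLocus (J₀ : Set A) ⊆ T) (hN : ∀ a ∈ J₀, ∀ x : N, a • x = 0) (i : ℕ) :
    Subsingleton ((HT T (i + 1)).obj (ModuleCat.of A N)) := by
  refine subsingleton_of_forall_eq 0 fun h => ?_
  obtain ⟨d, x, rfl⟩ := exists_toH h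
  let I := d.obj * J₀
  have hI : PrimeSpectrum.zeroLocus (I : Set A) ⊆ T := zeroLocus_mul_subset T d.property hJ₀
  have hpt : _root_.LocCoh.IsPowerTorsion I N := fun m =>
    ⟨1, fun a ha => hN a ((Ideal.mul_le_right : I ≤ J₀) (by rwa [pow_one] at ha)) m⟩
  haveI := subsingleton_H_of_powerTorsion (i + 1) N hpt (Nat.succ_pos i)
  have hle : I ^ 1 ≤ d.obj := (pow_one I).le.trans Ideal.mul_le_left
  let g : quot (localCohomology.idealPowersDiagram I) (op 1) ⟶ quot (F T) d :=
    ModuleCat.ofHom (Submodule.mapQ (I ^ 1) d.obj LinearMap.id (by simpa using hle))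
  have h0 : toH (F := localCohomology.idealPowersDiagram I) (op 1) (i + 1) (ModuleCat.of A N)
      ((Ext.mk₀ g).comp x (zero_add _)) = 0 := Subsingleton.elim (α := _root_.LocCoh.H I (i + 1) N) _ _
  obtain ⟨k, w, hw⟩ := (toH_eq_zero_iff (F := localCohomology.idealPowersDiagram I) _).1 h0
  have hk : (I ^ k.unop) ≤ d.obj := (Ideal.pow_le_pow_right (leOfHom w.unop)).trans hle
  refine (toH_eq_zero_iff x).2 ⟨mkD T (I ^ k.unop) (zeroLocus_pow_subset T hI _), homD T hk, ?_⟩
  rw [← Ext.comp_assoc_of_second_deg_zero, Ext.mk₀_comp_mk₀] at hw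
  refine Eq.trans ?_ hw
  refine congrArg (fun g => (Ext.mk₀ g).comp x (zero_add _)) ?_
  exact ModuleCat.hom_ext (Submodule.linearMap_qext _ (LinearMap.ext fun _ => rfl))

variable (T) in
theorem finite_of_killed : ∀ (n : ℕ) (J : Ideal A), PrimeSpectrum.zeroLocus (J : Set A) ⊆ T →
    ∀ (M : Type u) [AddCommGroup M] [Module A M] [Module.Finite A M],
      (∀ i ≤ n, ∀ a ∈ J, ∀ z : (HT T i).obj (ModuleCat.of A M), a • z = 0) →
        Module.Finite A ((HT T n).obj (ModuleCat.of A M)) := by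
  intro n
  induction n with
  | zero => intro J _ M _ _ _ _; exact finite_zero T M
  | succ n ih =>
    intro J hJ M _ _ _ hM
    let G := GammaQuot.gam T M
    haveI : Module.Finite A G := Module.Finite.iff_fg.2 (IsNoetherian.noetherian _)
    obtain ⟨J₀, hJ₀, hG⟩ : ∃ J₀ : Ideal A, PrimeSpectrum.zeroLocus (J₀ : Set A) ⊆ T ∧
        ∀ a ∈ J₀, ∀ x : G, a • x = 0 := by
      refine ⟨Module.annihilator A G, fun q hq => ?_, fun a ha x => Module.mem_annihilator.1 ha x⟩
      rw [← Module.support_eq_zeroLocus, Module.mem_support_iff'] at hq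
      obtain ⟨x, hx⟩ := hq
      by_contra hqT
      obtain ⟨s, hs, hsx⟩ := (GammaQuot.mem_gam T M).1 x.2 q hqT
      exact hx s hs (Subtype.ext hsx)
    let S : ShortComplex (ModuleCat.{u} A) := ShortComplex.mk
      (ModuleCat.ofHom G.subtype) (ModuleCat.ofHom G.mkQ)
      (ModuleCat.hom_ext (LinearMap.ext fun x => (Submodule.Quotient.mk_eq_zero G).2 x.2))
    haveI : Mono S.f := (ModuleCat.mono_iff_injective S.f).2 Subtype.val_injective
    haveI : Epi S.g := (ModuleCat.epi_iff_surjective S.g).2 (Submodule.mkQ_surjective G)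
    have hS : S.ShortExact := ShortComplex.ShortExact.mk ((ShortComplex.moduleCat_exact_iff S).2
      fun x hx => ⟨⟨x, (Submodule.Quotient.mk_eq_zero G).1 hx⟩, rfl⟩)
    have hvan : ∀ i, Subsingleton ((HT T (i + 1)).obj S.X₁) := subsingleton_of_killed T G hJ₀ hG
    -- the quotient inherits the hypothesis
    have hMb : ∀ i ≤ n + 1, ∀ a ∈ J, ∀ z : (HT T i).obj S.X₃, a • z = 0 := fun i hi a ha z => by
      haveI := hvan i
      obtain ⟨y, rfl⟩ := (exact₃ hS (i := i) rfl z).1 (Subsingleton.elim _ _)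
      rw [← map_smul, hM i hi a ha y, map_zero]
    have hbot : powTorsion J (M ⧸ G) = ⊥ := by
      refine eq_bot_iff.2 fun m hm => ?_
      obtain ⟨k, hk⟩ := hm
      obtain ⟨m, rfl⟩ := Submodule.Quotient.mk_surjective G m
      refine (Submodule.Quotient.mk_eq_zero G).2 ((GammaQuot.mem_gam T M).2 fun q hq => ?_)
      have hJq : ¬ J ^ k ≤ q.asIdeal := fun h => hq (zeroLocus_pow_subset T hJ k h)
      obtain ⟨a, ha, haq⟩ := Set.not_subset.1 hJq
      have h1 := hk a ha
      rw [← Submodule.Quotient.mk_smul, Submodule.Quotient.mk_eq_zero] at h1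
      obtain ⟨t, ht, htm⟩ := (GammaQuot.mem_gam T M).1 h1 q hq
      exact ⟨t * a, q.asIdeal.primeCompl.mul_mem ht haq, by rw [mul_smul]; exact htm⟩
    obtain ⟨x, hx, hreg⟩ := exists_regular_of_powTorsion_eq_bot hbot
    have hS' : (ModuleCat.smulShortComplex S.X₃ x).ShortExact :=
      IsSMulRegular.smulShortComplex_shortExact (M := S.X₃) hreg
    haveI : Module.Finite A (QuotSMulTop x (M ⧸ G)) := inferInstance
    haveI hQ : Module.Finite A ((HT T n).obj (ModuleCat.of A (QuotSMulTop x (M ⧸ G)))) := by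
      refine ih (J * J) (zeroLocus_mul_subset T hJ hJ) _ fun i hi a ha z => ?_
      induction ha using Submodule.mul_induction_on' with
      | mem_mul_mem b hb c hc =>
        have h1 : δ (F T) hS' rfl (c • z) = 0 := by
          exact (map_smul _ c z).trans (hMb (i + 1) (Nat.succ_le_succ hi) c hc _)
        obtain ⟨w, hw⟩ := (exact₃ hS' (i := i) rfl (c • z)).1 h1
        rw [mul_smul]
        refine (congrArg (b • ·) hw.symm).trans ?_
        show b • ((HT T i).map _).hom w = 0
        exact (map_smul _ b w).symm.trans ((congrArg _ (hMb i (Nat.le_succ_of_le hi) b hb w)).trans (map_zero _))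
      | add b _ c _ hb hc => rw [add_smul, hb, hc, add_zero]
    haveI : Module.Finite A ((HT T n).obj (ModuleCat.smulShortComplex S.X₃ x).X₃) := hQ
    haveI : Module.Finite A ((HT T (n + 1)).obj S.X₃) := by
      refine Module.Finite.of_surjective (δ (F T) hS' (i := n) rfl) fun z => ?_
      refine (exact₁ hS' (i := n) rfl z).1 ?_
      exact (Hf_map_smul x z).trans (hMb (n + 1) le_rfl x hx z)
    haveI := hvan n
    refine Module.Finite.of_injective ((HT T (n + 1)).map S.g).hom
      ((injective_iff_map_eq_zero _).2 fun z hz => ?_)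
    obtain ⟨w, rfl⟩ := (exact₂ hS (n + 1) z).1 hz
    rw [Subsingleton.elim w 0, map_zero]

theorem finite_iff_annihilated (M : Type u) [AddCommGroup M] [Module A M] [Module.Finite A M] (n : ℕ) :
    (∀ i : ℕ, i ≤ n → Module.Finite A (Dual2.HT T i M)) ↔
      ∃ J : Ideal A, PrimeSpectrum.zeroLocus (J : Set A) ⊆ T ∧
        ∀ i : ℕ, i ≤ n → ∀ a ∈ J, ∀ x : Dual2.HT T i M, a • x = 0 := by
  refine ⟨fun h => ?_, fun ⟨J, hJ, hk⟩ i hi =>
    finite_of_killed T i J hJ M fun j hj => hk j (hj.trans hi)⟩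
  induction n with
  | zero =>
    haveI : Module.Finite A ((HT T 0).obj (ModuleCat.of A M)) := h 0 le_rfl
    obtain ⟨J, hJ, hk⟩ := exists_kill T (E := (HT T 0).obj (ModuleCat.of A M)) (exists_kill_elem T)
    exact ⟨J, hJ, fun i hi => by obtain rfl := Nat.le_zero.1 hi; exact hk⟩
  | succ n ih =>
    haveI : Module.Finite A ((HT T (n + 1)).obj (ModuleCat.of A M)) := h (n + 1) le_rfl
    obtain ⟨J, hJ, hk⟩ := exists_kill T (E := (HT T (n + 1)).obj (ModuleCat.of A M)) (exists_kill_elem T)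
    obtain ⟨J', hJ', hk'⟩ := ih fun i hi => h i (Nat.le_succ_of_le hi)
    refine ⟨J * J', zeroLocus_mul_subset T hJ hJ', fun i hi a ha z => ?_⟩
    rcases Nat.le_succ_iff.1 hi with h1 | rfl
    · exact hk' i h1 a (Ideal.mul_le_right ha) z
    · exact hk a (Ideal.mul_le_left ha) z

end Groth.Agent.CAlgH3.LocCohSupportFin
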