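import Groth.Agent.CAlgH3.ExtCech
import Groth.Agent.CAlgH3.KoszulLocCoh
import Groth.Agent.LocCoh.IdealTransform
import Groth.Agent.LocCoh.TransformExact
import Groth.Agent.LocCoh.TransformMisc

/-! Dimension shifting for the extended Čech complex. -/

set_option autoImplicit false
set_option backward.isDefEq.respectTransparency false
set_option backward.isDefEq.respectTransparency.types false
universe u

open CategoryTheory CategoryTheory.Limits CochainComplex
open Groth.Agent.Misc15.Koszul (tor mem_tor)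

namespace Groth.Agent.CAlgH3.ExtCech

variable {R : Type u} [CommRing R]

section Map

variable {K K' L L' : CochainComplex (ModuleCat.{u} R) ℤ} (φ : K ⟶ L) (φ' : K' ⟶ L')
  (a : K ⟶ K') (b : L ⟶ L') (comm : φ ≫ b = a ≫ φ')

/-- functoriality of the cocone -/
noncomputable def coconeMap : mappingCocone φ ⟶ mappingCocone φ' :=
  (CategoryTheory.shiftFunctor (CochainComplex (ModuleCat.{u} R) ℤ) (-1 : ℤ)).map (mappingCone.map φ φ' a b comm)

theorem afst_coconeMap {q : ℤ} (x : (mappingCocone φ).X q) :
    afst φ' (((coconeMap φ φ' a b comm).f q).hom x) = (a.f q).hom (afst φ x) :=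
  Misc15.Koszul.cfst_map φ φ' a b comm (i := q + -1) q (by omega) x

theorem asnd_coconeMap {q p : ℤ} (hp : p + 1 = q) (x : (mappingCocone φ).X q) :
    asnd φ' hp (((coconeMap φ φ' a b comm).f q).hom x) = (b.f p).hom (asnd φ hp x) := by
  obtain rfl : p = q + -1 := by omega
  simp only [asnd, HomologicalComplex.XIsoOfEq, eqToIso_refl, Iso.refl_hom, ModuleCat.hom_id,
    LinearMap.id_apply]
  exact Misc15.Koszul.csnd_map φ φ' a b comm x

end Map

theorem locCxUnit_natural {K K' : CochainComplex (ModuleCat.{u} R) ℤ} (S : Submonoid R) (a : K ⟶ K') :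
    DerCA.locCxUnit S K ≫ (DerCA.locCx S).map a = a ≫ DerCA.locCxUnit S K' := by
  ext i : 1
  exact ((DerCA.locUnit S).naturality (a.f i)).symm

/-- functoriality of the extended Čech complex -/
noncomputable def cMap {M N : ModuleCat.{u} R} (g : M ⟶ N) :
    ∀ fs : List R, DerCA.extCech M fs ⟶ DerCA.extCech N fs
  | [] => (HomologicalComplex.single (ModuleCat.{u} R) (ComplexShape.up ℤ) 0).map g
  | _ :: fs => coconeMap _ _ (cMap g fs) ((DerCA.locCx _).map (cMap g fs)) (locCxUnit_natural _ _)

theorem bot_cMap {M N : ModuleCat.{u} R} (g : M ⟶ N) : ∀ (fs : List R) (x : (DerCA.extCech M fs).X 0),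
    bot N fs (((cMap g fs).f 0).hom x) = g.hom (bot M fs x)
  | [], x => Misc15.Koszul.bot0_kMap g x
  | f :: fs, x => by
      rw [bot_cons, bot_cons, ← bot_cMap g fs]
      exact congrArg (bot N fs) (afst_coconeMap _ _ _ _ _ x)

section Exact

variable {M N P : ModuleCat.{u} R}

theorem cMap_exact (g : M ⟶ N) (h : N ⟶ P) (hgh : Function.Exact g.hom h.hom) :
    ∀ (fs : List R) (q : ℤ), Function.Exact ((cMap g fs).f q).hom ((cMap h fs).f q).hom
  | [], q => Misc15.Koszul.kMap_exact g h hgh [] q
  | f :: fs, q => by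
      have h1 := cMap_exact g h hgh fs q
      have h2 := IsLocalizedModule.map_exact (Submonoid.powers f)
        (LocalizedModule.mkLinearMap (Submonoid.powers f) ((DerCA.extCech M fs).X (q - 1)))
        (LocalizedModule.mkLinearMap (Submonoid.powers f) ((DerCA.extCech N fs).X (q - 1)))
        (LocalizedModule.mkLinearMap (Submonoid.powers f) ((DerCA.extCech P fs).X (q - 1)))
        _ _ (cMap_exact g h hgh fs (q - 1))
      intro x
      constructor
      · intro hx
        obtain ⟨a, ha⟩ := (h1 (afst _ x)).1 (by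
          rw [← afst_coconeMap _ _ (cMap h fs) _ (locCxUnit_natural _ _) x]
          exact (congrArg _ hx).trans (afst_zero _))
        obtain ⟨b, hb⟩ := (h2 (asnd _ (show q - 1 + 1 = q by omega) x)).1 (by
          refine (asnd_coconeMap _ _ (cMap h fs) _ (locCxUnit_natural _ _) (show q - 1 + 1 = q by omega) x).symm.trans ?_
          exact (congrArg _ hx).trans (asnd_zero _ _))
        refine ⟨amk _ (show q - 1 + 1 = q by omega) a b, cocone_ext _ (show q - 1 + 1 = q by omega) ?_ ?_⟩
        · exact (afst_coconeMap _ _ _ _ _ _).trans (by rw [afst_amk, ha])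
        · refine (asnd_coconeMap _ _ _ _ _ _ _).trans ?_
          rw [asnd_amk]
          exact hb
      · rintro ⟨y, rfl⟩
        refine cocone_ext _ (show q - 1 + 1 = q by omega) ?_ ?_
        · refine (afst_coconeMap _ _ _ _ _ _).trans (Eq.trans ?_ (afst_zero _).symm)
          erw [afst_coconeMap]
          exact h1.apply_apply_eq_zero _
        · refine (asnd_coconeMap _ _ _ _ _ _ _).trans (Eq.trans ?_ (asnd_zero _ _).symm)
          erw [asnd_coconeMap]
          exact h2.apply_apply_eq_zero _

theorem cMap_injective (g : M ⟶ N) (hg : Function.Injective g.hom) :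
    ∀ (fs : List R) (q : ℤ), Function.Injective ((cMap g fs).f q).hom
  | [], q => Misc15.Koszul.kMap_injective g hg [] q
  | f :: fs, q => fun x y hxy => cocone_ext _ (show q - 1 + 1 = q by omega)
      (cMap_injective g hg fs q (((afst_coconeMap _ _ _ _ _ x).symm.trans (congrArg _ hxy)).trans
        (afst_coconeMap _ _ _ _ _ y)))
      (IsLocalizedModule.map_injective (Submonoid.powers f)
        (LocalizedModule.mkLinearMap (Submonoid.powers f) ((DerCA.extCech M fs).X (q - 1)))
        (LocalizedModule.mkLinearMap (Submonoid.powers f) ((DerCA.extCech N fs).X (q - 1)))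
        _ (cMap_injective g hg fs (q - 1))
        (((asnd_coconeMap _ _ _ _ _ _ x).symm.trans (congrArg _ hxy)).trans (asnd_coconeMap _ _ _ _ _ _ y)))

theorem cMap_surjective (g : M ⟶ N) (hg : Function.Surjective g.hom) :
    ∀ (fs : List R) (q : ℤ), Function.Surjective ((cMap g fs).f q).hom
  | [], q => Misc15.Koszul.kMap_surjective g hg [] q
  | f :: fs, q => fun y => by
      obtain ⟨a, ha⟩ := cMap_surjective g hg fs q (afst _ y)
      obtain ⟨b, hb⟩ := IsLocalizedModule.map_surjective (Submonoid.powers f)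
        (LocalizedModule.mkLinearMap (Submonoid.powers f) ((DerCA.extCech M fs).X (q - 1)))
        (LocalizedModule.mkLinearMap (Submonoid.powers f) ((DerCA.extCech N fs).X (q - 1)))
        _ (cMap_surjective g hg fs (q - 1)) (asnd _ (show q - 1 + 1 = q by omega) y)
      refine ⟨amk _ (show q - 1 + 1 = q by omega) a b, cocone_ext _ (show q - 1 + 1 = q by omega) ?_ ?_⟩
      · exact (afst_coconeMap _ _ _ _ _ _).trans (by rw [afst_amk, ha])
      · refine (asnd_coconeMap _ _ _ _ _ _ _).trans ?_
        rw [asnd_amk]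
        exact hb

end Exact

/-- zero cycles as torsion elements -/
noncomputable def toTor (M : ModuleCat.{u} R) (fs : List R) : (DerCA.extCech M fs).cycles 0 →ₗ[R] tor fs M :=
  LinearMap.codRestrict _ ((bot M fs).comp ((DerCA.extCech M fs).iCycles 0).hom) fun z =>
    (d_zero_eq_zero_iff M fs _).1 (congrArg (fun k => k.hom z) ((DerCA.extCech M fs).iCycles_d 0 1))

/-- a cycle from an element -/
theorem exists_cycle (K : CochainComplex (ModuleCat.{u} R) ℤ) (q r : ℤ) (hr : q + 1 = r) (x : K.X q)
    (hx : (K.d q r).hom x = 0) : ∃ z : K.cycles q, (K.iCycles q).hom z = x := by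
  subst hr
  let α : ModuleCat.of R R ⟶ K.X q := ModuleCat.ofHom (LinearMap.toSpanSingleton R _ x)
  have hα : α ≫ K.d q (q + 1) = 0 := by
    ext
    simp [α, hx]
  refine ⟨(K.liftCycles α (q + 1) (CochainComplex.next _ _) hα).hom (1 : R), ?_⟩
  have h := congrArg (fun k => k.hom (1 : R)) (K.liftCycles_i α (q + 1) (CochainComplex.next _ _) hα)
  simp only [ModuleCat.hom_comp, LinearMap.comp_apply] at h
  rw [h]
  simp [α]

theorem toTor_bijective (M : ModuleCat.{u} R) (fs : List R) : Function.Bijective (toTor M fs) := by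
  refine ⟨fun a b hab => ((ModuleCat.mono_iff_injective _).1 inferInstance)
    ((bot_bijective M fs).1 (congrArg Subtype.val hab)), fun t => ?_⟩
  obtain ⟨x, hx⟩ := (bot_bijective M fs).2 t.1
  obtain ⟨z, hz⟩ := exists_cycle _ 0 1 rfl x ((d_zero_eq_zero_iff M fs x).2 (hx ▸ t.2))
  refine ⟨z, Subtype.ext ?_⟩
  show bot M fs (((DerCA.extCech M fs).iCycles 0).hom z) = t.1
  rw [hz, hx]

theorem homologyπ_bijective (M : ModuleCat.{u} R) (fs : List R) :
    Function.Bijective ((DerCA.extCech M fs).homologyπ 0).hom := by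
  have hd : (DerCA.extCech M fs).d (-1) 0 = 0 :=
    haveI := subsingleton_X M fs (-1) (by omega)
    (ModuleCat.isZero_of_subsingleton _).eq_of_src _ _
  haveI := (DerCA.extCech M fs).isIso_homologyπ (-1) 0 (CochainComplex.prev _ _) hd
  exact (asIso ((DerCA.extCech M fs).homologyπ 0)).toLinearEquiv.bijective

section Shift

variable {M E Q : ModuleCat.{u} R} (fs : List R) (g : M ⟶ E) (h : E ⟶ Q)
  (hg : Function.Injective g.hom) (hh : Function.Surjective h.hom) (hgh : Function.Exact g.hom h.hom)

/-- the sequence of complexes -/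
noncomputable def cShort : ShortComplex (CochainComplex (ModuleCat.{u} R) ℤ) :=
  ShortComplex.mk (cMap g fs) (cMap h fs) (by
    ext i x
    exact (cMap_exact g h hgh fs i).apply_apply_eq_zero x)

include hg hh in
theorem cShort_shortExact : (cShort fs g h hgh).ShortExact := by
  refine HomologicalComplex.shortExact_of_degreewise_shortExact _ fun i => ?_
  exact { exact := (ShortComplex.ShortExact.moduleCat_exact_iff_function_exact _).2 (cMap_exact g h hgh _ i)
          mono_f := (ModuleCat.mono_iff_injective _).2 (cMap_injective g hg fs i)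
          epi_g := (ModuleCat.epi_iff_surjective _).2 (cMap_surjective h hh fs i) }

include hg hh hgh in
theorem nonempty_shift [IsNoetherianRing R] [Module.Injective R E] (q : ℤ) (hq : 1 ≤ q) :
    Nonempty ((DerCA.extCech Q fs).homology q ≃ₗ[R] (DerCA.extCech M fs).homology (q + 1)) := by
  have hS := cShort_shortExact fs g h hg hh hgh
  have h1 := (ex_of_injective E ‹_› fs q hq).isZero_homology
  have h2 := (ex_of_injective E ‹_› fs (q + 1) (by omega)).isZero_homology
  have : Mono (hS.δ q (q + 1) rfl) := (hS.homology_exact₃ q (q + 1) rfl).mono_g (h1.eq_of_src _ _)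
  have : Epi (hS.δ q (q + 1) rfl) := (hS.homology_exact₁ q (q + 1) rfl).epi_f (h2.eq_of_tgt _ _)
  haveI := isIso_of_mono_of_epi (hS.δ q (q + 1) rfl)
  exact ⟨(asIso (hS.δ q (q + 1) rfl)).toLinearEquiv⟩

include hg hh hgh in
theorem nonempty_one [IsNoetherianRing R] [Module.Injective R E] :
    Nonempty ((tor fs Q ⧸ ((tor fs E).map h.hom).comap (tor fs Q).subtype) ≃ₗ[R]
      (DerCA.extCech M fs).homology 1) := by
  have hS := cShort_shortExact fs g h hg hh hgh
  let eQ := (LinearEquiv.ofBijective _ (toTor_bijective Q fs)).symm.trans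
    (LinearEquiv.ofBijective _ (homologyπ_bijective Q fs))
  let φ : tor fs Q →ₗ[R] (DerCA.extCech M fs).homology 1 :=
    (hS.δ 0 1 rfl).hom.comp eQ.toLinearMap
  have hnat : ∀ x : (DerCA.extCech E fs).cycles 0,
      (toTor Q fs ((HomologicalComplex.cyclesMap (cMap h fs) 0).hom x) : Q) = h.hom (toTor E fs x : E) := by
    intro x
    have e := congrArg (fun k => k.hom x) (HomologicalComplex.cyclesMap_i (cMap h fs) 0)
    simp only [ModuleCat.hom_comp, LinearMap.comp_apply] at e
    show bot Q fs _ = _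
    rw [e, bot_cMap]
    rfl
  have himg : ∀ t : tor fs Q, t ∈ ((tor fs E).map h.hom).comap (tor fs Q).subtype ↔
      eQ t ∈ LinearMap.range (HomologicalComplex.homologyMap (cMap h fs) 0).hom := by
    intro t
    obtain ⟨z, rfl⟩ := (toTor_bijective Q fs).2 t
    have he : eQ (toTor Q fs z) = ((DerCA.extCech Q fs).homologyπ 0).hom z := by
      exact congrArg (fun y => ((DerCA.extCech Q fs).homologyπ 0).hom y)
        ((LinearEquiv.ofBijective (toTor Q fs) (toTor_bijective Q fs)).symm_apply_apply z)
    rw [he]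
    have hn : ∀ y : (DerCA.extCech E fs).cycles 0, (HomologicalComplex.homologyMap (cMap h fs) 0).hom
        (((DerCA.extCech E fs).homologyπ 0).hom y) =
        ((DerCA.extCech Q fs).homologyπ 0).hom ((HomologicalComplex.cyclesMap (cMap h fs) 0).hom y) :=
      fun y => congrArg (fun k => k.hom y) (HomologicalComplex.homologyπ_naturality (cMap h fs) 0)
    constructor
    · rintro ⟨e, he', hez⟩
      obtain ⟨y, hy⟩ := (toTor_bijective E fs).2 ⟨e, he'⟩
      refine ⟨((DerCA.extCech E fs).homologyπ 0).hom y, (hn y).trans (congrArg _ ?_)⟩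
      refine (toTor_bijective Q fs).1 (Subtype.ext ((hnat y).trans ?_))
      rw [hy]
      exact hez
    · rintro ⟨w, hw⟩
      obtain ⟨y, rfl⟩ := (homologyπ_bijective E fs).2 w
      refine ⟨(toTor E fs y : E), (toTor E fs y).2, ?_⟩
      rw [hn] at hw
      have hz := (homologyπ_bijective Q fs).1 hw
      rw [← hz]
      exact (hnat y).symm
  have hker : LinearMap.ker φ = ((tor fs E).map h.hom).comap (tor fs Q).subtype := by
    ext t
    rw [himg, LinearMap.mem_ker]
    exact ((ShortComplex.ShortExact.moduleCat_exact_iff_function_exact _).1 (hS.homology_exact₃ 0 1 rfl)) (eQ t)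
  have hsurj : Function.Surjective φ := by
    have : Epi (hS.δ 0 1 rfl) :=
      (hS.homology_exact₁ 0 1 rfl).epi_f ((ex_of_injective E ‹_› fs 1 le_rfl).isZero_homology.eq_of_tgt _ _)
    exact ((ModuleCat.epi_iff_surjective _).1 this).comp eQ.surjective
  exact ⟨(Submodule.quotEquivOfEq _ _ hker.symm).trans (LinearMap.quotKerEquivOfSurjective φ hsurj)⟩

end Shift

open Groth.Agent.LocCoh in
theorem nonempty_H_equiv [IsNoetherianRing R] (fs : List R) : ∀ (i : ℕ) (M : ModuleCat.{u} R),
    Nonempty ((DerCA.extCech M fs).homology (i : ℤ) ≃ₗ[R]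
      _root_.LocCoh.H (Ideal.span {a : R | a ∈ fs}) i M) := by
  intro i
  induction i with
  | zero =>
    intro M
    exact ⟨((LinearEquiv.ofBijective _ (homologyπ_bijective M fs)).symm.trans
      ((LinearEquiv.ofBijective _ (toTor_bijective M fs)).trans
        (LinearEquiv.ofEq _ _ (KoszulLocCoh.powTorsion_eq_tor fs M).symm))).trans (H0Equiv _ M).symm⟩
  | succ i ih =>
    intro M
    obtain ⟨E, _, _, f, hE, hf⟩ := exists_injective_embedding (R := R) M
    let g : E →ₗ[R] E ⧸ LinearMap.range f := Submodule.mkQ _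
    have hg : Function.Surjective g := Submodule.mkQ_surjective _
    have hfg : Function.Exact f g := LinearMap.exact_map_mkQ_range f
    haveI : Module.Injective R (ModuleCat.of R E) := hE
    let f' : M ⟶ ModuleCat.of R E := ModuleCat.ofHom f
    let g' : ModuleCat.of R E ⟶ ModuleCat.of R (E ⧸ LinearMap.range f) := ModuleCat.ofHom g
    rcases i with _ | i
    · haveI := subsingleton_H_of_injective (I := Ideal.span {a : R | a ∈ fs}) E (i := 1) one_pos
      obtain ⟨e⟩ := nonempty_one fs f' g' hf hg hfg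
      let T : powTorsion (Ideal.span {a : R | a ∈ fs}) (E ⧸ LinearMap.range f) ≃ₗ[R]
          tor fs (E ⧸ LinearMap.range f) := LinearEquiv.ofEq _ _ (KoszulLocCoh.powTorsion_eq_tor fs _)
      let e2 : (powTorsion (Ideal.span {a : R | a ∈ fs}) (E ⧸ LinearMap.range f) ⧸
            LinearMap.range (gammaMap (Ideal.span {a : R | a ∈ fs}) g)) ≃ₗ[R]
          (tor fs (E ⧸ LinearMap.range f) ⧸
            ((tor fs E).map g).comap (tor fs (E ⧸ LinearMap.range f)).subtype) :=
        Submodule.Quotient.equiv _ _ T (by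
          ext q
          simp only [Submodule.mem_map, Submodule.mem_comap, LinearMap.mem_range]
          constructor
          · rintro ⟨_, ⟨x, rfl⟩, rfl⟩
            exact ⟨x.1, KoszulLocCoh.powTorsion_eq_tor fs E ▸ x.2, rfl⟩
          · rintro ⟨x, hx, hxq⟩
            exact ⟨_, ⟨⟨x, (KoszulLocCoh.powTorsion_eq_tor fs E).symm ▸ hx⟩, rfl⟩, Subtype.ext hxq⟩)
      exact ⟨e.symm.trans (e2.symm.trans (H1Equiv (I := Ideal.span {a : R | a ∈ fs}) hf hg hfg))⟩
    · haveI := subsingleton_H_of_injective (I := Ideal.span {a : R | a ∈ fs}) E (i := i + 1) (by omega)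
      haveI := subsingleton_H_of_injective (I := Ideal.span {a : R | a ∈ fs}) E (i := i + 1 + 1) (by omega)
      obtain ⟨e⟩ := nonempty_shift fs f' g' hf hg hfg ((i + 1 : ℕ) : ℤ) (by omega)
      obtain ⟨e0⟩ := ih (ModuleCat.of R (E ⧸ LinearMap.range f))
      exact ⟨(e.symm.trans e0).trans (shiftEquiv (I := Ideal.span {a : R | a ∈ fs}) hf hg hfg (i + 1))⟩

section Transform

/-- comparison of two left exact constructions -/
theorem nonempty_equiv_of_leftExact {E E' : Type u} [AddCommGroup E] [Module R E] [AddCommGroup E'] [Module R E']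
    {Z ZE ZE' : Type u} [AddCommGroup Z] [Module R Z] [AddCommGroup ZE] [Module R ZE] [AddCommGroup ZE'] [Module R ZE']
    (T : Submodule R E) (T' : Submodule R E') (k : E →ₗ[R] E') (θ : E →ₗ[R] ZE) (θ' : E' →ₗ[R] ZE')
    (hθ : Function.Surjective θ) (hT : LinearMap.ker θ = T) (hT' : LinearMap.ker θ' = T')
    (i : Z →ₗ[R] ZE) (z : ZE →ₗ[R] ZE') (hi : Function.Injective i) (hiz : Function.Exact i z)
    (hcomm : ∀ e, z (θ e) = θ' (k e)) :
    Nonempty (Z ≃ₗ[R] (T'.comap k ⧸ T.comap (T'.comap k).subtype)) := by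
  have hmem : ∀ s : T'.comap k, θ (s : E) ∈ LinearMap.range i := fun s => by
    obtain ⟨y, hy⟩ := (hiz (θ (s : E))).1 (by
      rw [hcomm, ← LinearMap.mem_ker, hT']
      exact s.2)
    exact ⟨y, hy⟩
  let φ : T'.comap k →ₗ[R] Z := (LinearEquiv.ofInjective i hi).symm.toLinearMap.comp
    (LinearMap.codRestrict _ (θ.comp (T'.comap k).subtype) hmem)
  have hφ : ∀ s, i (φ s) = θ (s : E) := fun s =>
    congrArg Subtype.val ((LinearEquiv.ofInjective i hi).apply_symm_apply ⟨_, hmem s⟩)
  have hker : LinearMap.ker φ = T.comap (T'.comap k).subtype := by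
    ext s
    rw [LinearMap.mem_ker, Submodule.mem_comap, ← hT, LinearMap.mem_ker, Submodule.coe_subtype, ← hφ,
      map_eq_zero_iff i hi]
  have hsurj : Function.Surjective φ := fun y => by
    obtain ⟨e, he⟩ := hθ (i y)
    refine ⟨⟨e, ?_⟩, hi (by rw [hφ]; exact he)⟩
    rw [Submodule.mem_comap, ← hT', LinearMap.mem_ker, ← hcomm, he]
    exact hiz.apply_apply_eq_zero y
  exact ⟨((Submodule.quotEquivOfEq _ _ hker.symm).trans (LinearMap.quotKerEquivOfSurjective φ hsurj)).symm⟩

/-- the map to one cycles -/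
noncomputable def toZ (M : ModuleCat.{u} R) (fs : List R) : M →ₗ[R] (DerCA.extCech M fs).cycles 1 :=
  ((DerCA.extCech M fs).toCycles 0 1).hom.comp (LinearEquiv.ofBijective _ (bot_bijective M fs)).symm.toLinearMap

theorem iCycles_toZ (M : ModuleCat.{u} R) (fs : List R) (x : (DerCA.extCech M fs).X 0) :
    ((DerCA.extCech M fs).iCycles 1).hom (toZ M fs (bot M fs x)) = ((DerCA.extCech M fs).d 0 1).hom x := by
  have h := congrArg (fun k => k.hom x) ((DerCA.extCech M fs).toCycles_i 0 1)
  simp only [ModuleCat.hom_comp, LinearMap.comp_apply] at h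
  rw [← h]
  exact congrArg (fun y => ((DerCA.extCech M fs).iCycles 1).hom (((DerCA.extCech M fs).toCycles 0 1).hom y))
    ((LinearEquiv.ofBijective _ (bot_bijective M fs)).symm_apply_apply x)

theorem ker_toZ (M : ModuleCat.{u} R) (fs : List R) : LinearMap.ker (toZ M fs) = tor fs M := by
  ext m
  obtain ⟨x, rfl⟩ := (bot_bijective M fs).2 m
  rw [LinearMap.mem_ker, ← d_zero_eq_zero_iff, ← iCycles_toZ,
    map_eq_zero_iff _ ((ModuleCat.mono_iff_injective _).1 inferInstance)]

theorem toZ_surjective [IsNoetherianRing R] (E : ModuleCat.{u} R) [Module.Injective R E] (fs : List R) :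
    Function.Surjective (toZ E fs) := fun z => by
  have hz : ((DerCA.extCech E fs).d 1 2).hom (((DerCA.extCech E fs).iCycles 1).hom z) = 0 :=
    congrArg (fun k => k.hom z) ((DerCA.extCech E fs).iCycles_d 1 2)
  obtain ⟨x, hx⟩ := ex_of_injective E ‹_› fs 1 le_rfl 0 2 rfl rfl _ hz
  exact ⟨bot E fs x, (ModuleCat.mono_iff_injective _).1 inferInstance ((iCycles_toZ E fs x).trans hx)⟩

theorem toZ_natural {M N : ModuleCat.{u} R} (g : M ⟶ N) (fs : List R) (m : M) :
    (HomologicalComplex.cyclesMap (cMap g fs) 1).hom (toZ M fs m) = toZ N fs (g.hom m) := by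
  obtain ⟨x, rfl⟩ := (bot_bijective M fs).2 m
  apply (ModuleCat.mono_iff_injective ((DerCA.extCech N fs).iCycles 1)).1 inferInstance
  have e := congrArg (fun k => k.hom (toZ M fs (bot M fs x))) (HomologicalComplex.cyclesMap_i (cMap g fs) 1)
  simp only [ModuleCat.hom_comp, LinearMap.comp_apply] at e
  rw [e, iCycles_toZ, ← bot_cMap g fs, iCycles_toZ]
  exact (congrArg (fun k => k.hom x) ((cMap g fs).comm 0 1)).symm

theorem cyclesMap_injective {M N : ModuleCat.{u} R} (g : M ⟶ N) (hg : Function.Injective g.hom)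
    (fs : List R) (q : ℤ) : Function.Injective (HomologicalComplex.cyclesMap (cMap g fs) q).hom := by
  intro a b hab
  have e := fun z => congrArg (fun k => k.hom z) (HomologicalComplex.cyclesMap_i (cMap g fs) q)
  simp only [ModuleCat.hom_comp, LinearMap.comp_apply] at e
  refine (ModuleCat.mono_iff_injective ((DerCA.extCech M fs).iCycles q)).1 inferInstance ?_
  refine cMap_injective g hg fs q ?_
  rw [← e, ← e, hab]

theorem cyclesMap_exact {M N P : ModuleCat.{u} R} (g : M ⟶ N) (h : N ⟶ P) (hg : Function.Injective g.hom)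
    (hgh : Function.Exact g.hom h.hom) (fs : List R) (q : ℤ) :
    Function.Exact (HomologicalComplex.cyclesMap (cMap g fs) q).hom
      (HomologicalComplex.cyclesMap (cMap h fs) q).hom := by
  have eg := fun z => congrArg (fun k => k.hom z) (HomologicalComplex.cyclesMap_i (cMap g fs) q)
  have eh := fun z => congrArg (fun k => k.hom z) (HomologicalComplex.cyclesMap_i (cMap h fs) q)
  simp only [ModuleCat.hom_comp, LinearMap.comp_apply] at eg eh
  intro z
  constructor
  · intro hz
    obtain ⟨x, hx⟩ := (cMap_exact g h hgh fs q _).1 (by rw [← eh, hz, map_zero])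
    have hd : ((DerCA.extCech M fs).d q (q + 1)).hom x = 0 := by
      apply cMap_injective g hg fs (q + 1)
      have hc := congrArg (fun k => k.hom x) ((cMap g fs).comm q (q + 1))
      simp only [ModuleCat.hom_comp, LinearMap.comp_apply] at hc
      rw [map_zero, ← hc, hx]
      exact congrArg (fun k => k.hom z) ((DerCA.extCech N fs).iCycles_d q (q + 1))
    obtain ⟨y, hy⟩ := exists_cycle _ q (q + 1) rfl x hd
    exact ⟨y, (ModuleCat.mono_iff_injective ((DerCA.extCech N fs).iCycles q)).1 inferInstance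
      (by rw [eg, hy, hx])⟩
  · rintro ⟨y, rfl⟩
    apply (ModuleCat.mono_iff_injective ((DerCA.extCech P fs).iCycles q)).1 inferInstance
    rw [map_zero, eh, eg]
    exact (cMap_exact g h hgh fs q).apply_apply_eq_zero _

open Groth.Agent.LocCoh in
theorem nonempty_cycles_equiv_DT [IsNoetherianRing R] (fs : List R) (M : ModuleCat.{u} R) :
    Nonempty ((DerCA.extCech M fs).cycles 1 ≃ₗ[R] _root_.LocCoh.DT (Ideal.span {a : R | a ∈ fs}) M) := by
  obtain ⟨E, _, _, f, hE, hf⟩ := exists_injective_embedding (R := R) M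
  obtain ⟨E', _, _, j, hE', hj⟩ := exists_injective_embedding (R := R) (E ⧸ LinearMap.range f)
  let k : E →ₗ[R] E' := j.comp (Submodule.mkQ _)
  have hfk : Function.Exact f k := fun x => by
    show j (Submodule.Quotient.mk x) = 0 ↔ _
    rw [map_eq_zero_iff j hj, Submodule.Quotient.mk_eq_zero]
    rfl
  haveI : Module.Injective R (ModuleCat.of R E) := hE
  let f' : M ⟶ ModuleCat.of R E := ModuleCat.ofHom f
  let k' : ModuleCat.of R E ⟶ ModuleCat.of R E' := ModuleCat.ofHom k
  obtain ⟨e1⟩ := nonempty_equiv_of_leftExact (tor fs E) (tor fs E') k (toZ (ModuleCat.of R E) fs)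
    (toZ (ModuleCat.of R E') fs) (toZ_surjective _ fs) (ker_toZ _ fs) (ker_toZ _ fs)
    (HomologicalComplex.cyclesMap (cMap f' fs) 1).hom (HomologicalComplex.cyclesMap (cMap k' fs) 1).hom
    (cyclesMap_injective f' hf fs 1) (cyclesMap_exact f' k' hf hfk fs 1) (toZ_natural k' fs)
  obtain ⟨e2⟩ := nonempty_equiv_of_leftExact (tor fs E) (tor fs E') k
    (_root_.LocCoh.toDT (Ideal.span {a : R | a ∈ fs}) E) (_root_.LocCoh.toDT (Ideal.span {a : R | a ∈ fs}) E')
    (toDT_surjective_of_injective E) (by rw [ker_toDT, KoszulLocCoh.powTorsion_eq_tor])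
    (by rw [ker_toDT, KoszulLocCoh.powTorsion_eq_tor])
    (DTmap f) (DTmap k) (DTmap_injective f (by rw [LinearMap.ker_eq_bot.2 hf]; exact bot_le))
    (exact_DTmap (Ideal.span {a : R | a ∈ fs}) hf hfk) (toDT_natural k)
  exact ⟨e1.trans e2.symm⟩

end Transform

end Groth.Agent.CAlgH3.ExtCech
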