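import Mathlib

/-!
Residual and generic ranks of finite modules over a discrete valuation ring.
-/

set_option autoImplicit false
set_option linter.style.haveILetI false

universe u

open scoped TensorProduct
open IsLocalRing

namespace Groth.Agent.CAlgH3.DVRRank

variable {R : Type u} [CommRing R] [IsDomain R] [IsDiscreteValuationRing R] {ϖ : R} (hϖ : Irreducible ϖ)
variable {N : Type u} [AddCommGroup N] [Module R N]

theorem length_residue (X : Type u) [AddCommGroup X] [Module R X] [Module.Finite R X] :
    Module.length R (ResidueField R ⊗[R] X) = (Module.finrank (ResidueField R) (ResidueField R ⊗[R] X) : ℕ∞) := by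
  rw [Module.length_eq_of_surjective (R := ResidueField R) (S := R) IsLocalRing.residue_surjective]
  exact Module.length_eq_finrank _ _

include hϖ in
/-- The residual module is the quotient by the uniformizer. -/
theorem nonempty_residue_equiv (X : Type u) [AddCommGroup X] [Module R X] :
    Nonempty (ResidueField R ⊗[R] X ≃ₗ[R] (X ⧸ LinearMap.range (LinearMap.lsmul R X ϖ))) := by
  refine ⟨(TensorProduct.quotTensorEquivQuotSMul X (maximalIdeal R)).trans (Submodule.quotEquivOfEq _ _ ?_)⟩
  rw [hϖ.maximalIdeal_eq, Submodule.ideal_span_singleton_smul]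
  exact le_antisymm (fun y hy => by
    obtain ⟨x, -, rfl⟩ := hy
    exact ⟨x, rfl⟩) (fun y ⟨x, hx⟩ => ⟨x, trivial, hx⟩)

include hϖ in
/-- The torsion kernel and cokernel of the uniformizer have equal dimension. -/
theorem finrank_torsion [Module.Finite R N] (htor : Module.IsTorsion R N) :
    Module.finrank (ResidueField R) (ResidueField R ⊗[R] N) =
      Module.finrank (ResidueField R) (ResidueField R ⊗[R] Submodule.torsionBy R N ϖ) := by
  haveI hfl : IsFiniteLength R N := by
    classical
    obtain ⟨G, hG⟩ := Module.finite_def.1 (inferInstance : Module.Finite R N)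
    choose a ha using fun x : N => @htor x
    let b : R := ∏ x ∈ G, (a x : R)
    have hb : b ∈ nonZeroDivisors R := prod_mem fun x _ => (a x).2
    haveI : IsArtinian R (R ⧸ Ideal.span {b}) :=
      (isFiniteLength_iff_isNoetherian_isArtinian.1 (isFiniteLength_quotient_span_singleton R hb)).2
    let q : (x : G) → (R ⧸ Ideal.span {b}) →ₗ[R] N := fun x =>
      Submodule.liftQ (Ideal.span {b}) (LinearMap.toSpanSingleton R N x.1) fun r hr => by
        obtain ⟨c, rfl⟩ := Ideal.mem_span_singleton'.1 hr
        show (c * b) • x.1 = 0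
        have h0 : (a x.1 : R) • x.1 = 0 := ha x.1
        rw [mul_smul, show b = (∏ y ∈ G.erase x.1, (a y : R)) * a x.1 from
          (Finset.prod_erase_mul G (fun y => (a y : R)) x.2).symm, mul_smul, h0, smul_zero, smul_zero]
    have hsurj : Function.Surjective (LinearMap.lsum R (fun _ : G => R ⧸ Ideal.span {b}) R q) := by
      rw [← LinearMap.range_eq_top, eq_top_iff, ← hG, Submodule.span_le]
      intro x hx
      refine ⟨Pi.single ⟨x, hx⟩ (Submodule.Quotient.mk 1), ?_⟩
      rw [LinearMap.lsum_piSingle]
      show (1 : R) • x = x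
      rw [one_smul]
    exact isFiniteLength_iff_isNoetherian_isArtinian.2 ⟨inferInstance, isArtinian_of_surjective _ _ hsurj⟩
  obtain ⟨e1⟩ := nonempty_residue_equiv hϖ N
  obtain ⟨e2⟩ := nonempty_residue_equiv hϖ (Submodule.torsionBy R N ϖ)
  have hlen : Module.length R (N ⧸ LinearMap.range (LinearMap.lsmul R N ϖ)) =
      Module.length R (Submodule.torsionBy R N ϖ) := by
    have h1 := Module.length_eq_add_of_exact (LinearMap.ker (LinearMap.lsmul R N ϖ)).subtype
      (LinearMap.lsmul R N ϖ).rangeRestrict Subtype.coe_injective (LinearMap.surjective_rangeRestrict _)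
      (fun x => ⟨fun hx => ⟨⟨x, congrArg Subtype.val hx⟩, rfl⟩, fun ⟨y, hy⟩ => hy ▸ Subtype.ext y.2⟩)
    have h2 := Module.length_eq_add_of_exact (LinearMap.range (LinearMap.lsmul R N ϖ)).subtype
      (LinearMap.range (LinearMap.lsmul R N ϖ)).mkQ Subtype.coe_injective (Submodule.mkQ_surjective _)
      (LinearMap.exact_subtype_mkQ _)
    have hr : Module.length R (LinearMap.range (LinearMap.lsmul R N ϖ)) ≠ ⊤ :=
      ne_top_of_le_ne_top (Module.length_ne_top_iff.2 hfl) (Module.length_le_of_injective (LinearMap.range (LinearMap.lsmul R N ϖ)).subtype Subtype.coe_injective)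
    rw [h2, add_comm] at h1
    exact WithTop.add_right_cancel hr h1
  have hz : LinearMap.range (LinearMap.lsmul R (Submodule.torsionBy R N ϖ) ϖ) = ⊥ :=
    LinearMap.range_eq_bot.2 (LinearMap.ext fun x => Subtype.ext x.2)
  have := (e1.length_eq.trans hlen).trans ((e2.trans (Submodule.quotEquivOfEqBot _ hz)).length_eq).symm
  rw [length_residue, length_residue] at this
  exact_mod_cast this

include hϖ in
/-- The residual rank is the rank plus the residual rank of the torsion. -/
theorem finrank_eq (M : Type u) [AddCommGroup M] [Module R M] [Module.Finite R M] :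
    Module.finrank (ResidueField R) (ResidueField R ⊗[R] M) =
      Module.finrank (ResidueField R) (ResidueField R ⊗[R] ↥(Submodule.torsionBy R M ϖ)) +
        Module.finrank (FractionRing R) (FractionRing R ⊗[R] M) := by
  let T := Submodule.torsion R M
  haveI : Module.Free R (M ⧸ T) := Module.free_of_finite_type_torsion_free'
  obtain ⟨s, hs⟩ := Module.projective_lifting_property T.mkQ LinearMap.id (Submodule.mkQ_surjective T)
  let e : (T × (M ⧸ T)) ≃ₗ[R] M := LinearEquiv.ofBijective (T.subtype.coprod s) (by
    refine ⟨(injective_iff_map_eq_zero _).2 fun x hx => ?_, fun m => ?_⟩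
    · have h2 : x.2 = 0 := by
        have h := congrArg T.mkQ hx
        rw [LinearMap.coprod_apply, map_add, map_zero, show T.mkQ (T.subtype x.1) = 0 from
          (Submodule.Quotient.mk_eq_zero T).2 x.1.2, zero_add] at h
        rwa [show T.mkQ (s x.2) = x.2 from LinearMap.congr_fun hs x.2] at h
      have h1 : x.1 = 0 := Subtype.ext (by simpa [h2] using hx)
      exact Prod.ext h1 h2
    · refine ⟨(⟨m - s (T.mkQ m), (Submodule.Quotient.mk_eq_zero T).1 ?_⟩, T.mkQ m), by simp⟩
      rw [Submodule.Quotient.mk_sub, show Submodule.Quotient.mk (s (T.mkQ m)) = T.mkQ m from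
        LinearMap.congr_fun hs _, Submodule.mkQ_apply, sub_self])
  have hfr : ∀ (L : Type u) [Field L] [Algebra R L],
      Module.finrank L (L ⊗[R] M) = Module.finrank L (L ⊗[R] T) + Module.finrank R (M ⧸ T) := by
    intro L _ _
    rw [((LinearEquiv.baseChange R L _ _ e).symm.trans (TensorProduct.prodRight R L L T (M ⧸ T))).finrank_eq,
      Module.finrank_prod]
    congr 1
    exact Module.finrank_baseChange
  have hK : Subsingleton (FractionRing R ⊗[R] T) := by
    refine subsingleton_of_forall_eq 0 fun x => ?_
    induction x using TensorProduct.induction_on with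
    | zero => rfl
    | tmul c t =>
      obtain ⟨a, ha⟩ := Submodule.torsion_isTorsion (R := R) (M := M) (x := t)
      have hu : IsUnit (algebraMap R (FractionRing R) a) := IsLocalization.map_units _ a
      obtain ⟨d, rfl⟩ : ∃ d, d * algebraMap R (FractionRing R) a = c := ⟨c * ↑hu.unit⁻¹, by
        rw [mul_assoc, IsUnit.val_inv_mul, mul_one]⟩
      rw [← Algebra.commutes, ← Algebra.smul_def, TensorProduct.smul_tmul]
      rw [show (a : R) • t = 0 from ha, TensorProduct.tmul_zero]
    | add x y hx hy => rw [hx, hy, add_zero]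
  rw [hfr (ResidueField R), hfr (FractionRing R), finrank_torsion hϖ (Submodule.torsion_isTorsion)]
  rw [Module.finrank_zero_of_subsingleton (R := FractionRing R) (M := FractionRing R ⊗[R] T), zero_add]
  congr 1
  refine LinearEquiv.finrank_eq (LinearEquiv.baseChange R (ResidueField R) _ _ ?_)
  exact
    { toFun := fun x => ⟨x.1.1, congrArg Subtype.val x.2⟩
      invFun := fun x => ⟨⟨x.1, ⟨⟨ϖ, mem_nonZeroDivisors_of_ne_zero hϖ.ne_zero⟩, x.2⟩⟩, Subtype.ext x.2⟩
      left_inv := fun _ => rfl
      right_inv := fun _ => rfl
      map_add' := fun _ _ => rfl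
      map_smul' := fun _ _ => rfl }

end Groth.Agent.CAlgH3.DVRRank
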