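import Mathlib
import Groth.Agent.CAlgH3.ArtinTrace

/-! Trace modulo a prime of a Dedekind extension. -/

set_option autoImplicit false
universe u

open UniqueFactorizationMonoid

namespace Groth.Agent.CAlgH3.DedekindTrace

variable {B : Type u} [CommRing B] [IsDedekindDomain B]

theorem length_quotient_pow {P : Ideal B} [P.IsPrime] (hP : P ≠ ⊥) : ∀ n : ℕ, Module.length B (B ⧸ P ^ n) = n := by
  intro n
  induction n with
  | zero =>
    rw [pow_zero, Ideal.one_eq_top]
    haveI : Subsingleton (B ⧸ (⊤ : Ideal B)) := Ideal.Quotient.subsingleton_iff.2 rfl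
    simp
  | succ n ih =>
    let N := P ^ n
    let L := P ^ (n + 1)
    have hle : L ≤ N := (Ideal.pow_succ_lt_pow hP n).le
    let f : (N ⧸ Submodule.comap N.subtype L) →ₗ[B] B ⧸ L :=
      Submodule.mapQ _ L N.subtype le_rfl
    let g : (B ⧸ L) →ₗ[B] B ⧸ N := Submodule.factor hle
    have hsimple : IsSimpleModule B (N ⧸ Submodule.comap N.subtype L) :=
      (covBy_iff_quot_is_simple hle).1 ⟨Ideal.pow_succ_lt_pow hP n, fun I h1 h2 =>
        h2.ne (Ideal.eq_prime_pow_of_succ_lt_of_le hP h1 h2.le)⟩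
    have hf : Function.Injective f := by
      refine (injective_iff_map_eq_zero f).2 fun q hq => ?_
      obtain ⟨x, rfl⟩ := Submodule.Quotient.mk_surjective _ q
      exact (Submodule.Quotient.mk_eq_zero _).2 ((Submodule.Quotient.mk_eq_zero L).1 hq)
    have hg : Function.Surjective g := Submodule.factor_surjective hle
    have hex : Function.Exact f g := by
      intro q
      obtain ⟨x, rfl⟩ := Submodule.Quotient.mk_surjective _ q
      refine ⟨fun h => ⟨Submodule.Quotient.mk ⟨x, (Submodule.Quotient.mk_eq_zero N).1 h⟩, rfl⟩, ?_⟩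
      rintro ⟨y, hy⟩
      obtain ⟨y, rfl⟩ := Submodule.Quotient.mk_surjective _ y
      rw [← hy]
      exact (Submodule.Quotient.mk_eq_zero N).2 y.2
    rw [Module.length_eq_add_of_exact f g hf hg hex, Module.length_eq_one_iff.2 hsimple, ih]
    push_cast
    rw [add_comm]

theorem trace_pow {A : Type u} [CommRing A] [Algebra A B] [Module.Finite A B] (p : Ideal A) [p.IsMaximal]
    {P : Ideal B} [P.IsPrime] (hP : P ≠ ⊥) [Algebra (A ⧸ p) (B ⧸ P)] [IsScalarTower A (A ⧸ p) (B ⧸ P)]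
    {n : ℕ} (hn : n ≠ 0) [Algebra (A ⧸ p) (B ⧸ P ^ n)] [IsScalarTower A (A ⧸ p) (B ⧸ P ^ n)] (y : B) :
    Algebra.trace (A ⧸ p) (B ⧸ P ^ n) (Ideal.Quotient.mk _ y) =
      n • Algebra.trace (A ⧸ p) (B ⧸ P) (Ideal.Quotient.mk P y) := by
  letI := Ideal.Quotient.field p
  haveI : P.IsMaximal := Ideal.IsPrime.isMaximal ‹_› hP
  haveI : Nontrivial (B ⧸ P ^ n) := Ideal.Quotient.nontrivial_iff.2 fun h =>
    (inferInstance : P.IsPrime).ne_top (top_unique (h ▸ Ideal.pow_le_self hn))
  haveI : IsLocalRing (B ⧸ P ^ n) :=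
    IsLocalRing.of_unique_max_ideal ⟨P.map (Ideal.Quotient.mk _),
      Ideal.IsMaximal.map_of_surjective_of_ker_le Ideal.Quotient.mk_surjective (by
        rw [Ideal.mk_ker]; exact Ideal.pow_le_self hn), fun J hJ => by
      haveI : (J.comap (Ideal.Quotient.mk (P ^ n))).IsMaximal := Ideal.comap_isMaximal_of_surjective _ Ideal.Quotient.mk_surjective
      have h1 : P ^ n ≤ J.comap (Ideal.Quotient.mk (P ^ n)) := fun x hx => by
        rw [Ideal.mem_comap, Ideal.Quotient.eq_zero_iff_mem.2 hx]; exact zero_mem _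
      have h2 : P = J.comap (Ideal.Quotient.mk (P ^ n)) :=
        (inferInstance : P.IsMaximal).eq_of_le (inferInstance : (J.comap (Ideal.Quotient.mk (P ^ n))).IsMaximal).ne_top
          (Ideal.IsPrime.le_of_pow_le h1)
      rw [← Ideal.map_comap_of_surjective _ Ideal.Quotient.mk_surjective J]
      exact congrArg (Ideal.map (Ideal.Quotient.mk (P ^ n))) h2.symm⟩
  haveI : Module.Finite (A ⧸ p) (B ⧸ P ^ n) := Module.Finite.of_restrictScalars_finite A _ _
  rw [ArtinTrace.trace_eq, ← Module.length_eq_of_surjective (M := B ⧸ P ^ n) (show Function.Surjective (algebraMap B (B ⧸ P ^ n)) from Ideal.Quotient.mk_surjective),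
    length_quotient_pow hP, ENat.toNat_natCast, nsmul_eq_mul]
  congr 1
  have hker : IsLocalRing.maximalIdeal (B ⧸ P ^ n) = P.map (Ideal.Quotient.mk (P ^ n)) :=
    (IsLocalRing.eq_maximalIdeal (Ideal.IsMaximal.map_of_surjective_of_ker_le Ideal.Quotient.mk_surjective (by
        rw [Ideal.mk_ker]; exact Ideal.pow_le_self hn))).symm
  let φ : (B ⧸ P ^ n) →ₐ[A ⧸ p] B ⧸ P :=
    { Ideal.Quotient.factor (Ideal.pow_le_self hn) with
      commutes' := fun r => by
        obtain ⟨a, rfl⟩ := Ideal.Quotient.mk_surjective r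
        show Ideal.Quotient.factor _ (algebraMap (A ⧸ p) (B ⧸ P ^ n) (algebraMap A (A ⧸ p) a)) =
          algebraMap (A ⧸ p) (B ⧸ P) (algebraMap A (A ⧸ p) a)
        rw [← IsScalarTower.algebraMap_apply A (A ⧸ p) (B ⧸ P ^ n), ← IsScalarTower.algebraMap_apply A (A ⧸ p) (B ⧸ P)]
        rfl }
  let ψ : IsLocalRing.ResidueField (B ⧸ P ^ n) →ₐ[A ⧸ p] B ⧸ P :=
    Ideal.Quotient.liftₐ _ φ fun a ha => by
      obtain ⟨b, rfl⟩ := Ideal.Quotient.mk_surjective a
      rw [hker, Ideal.mem_map_iff_of_surjective _ Ideal.Quotient.mk_surjective] at ha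
      obtain ⟨c, hc, hcb⟩ := ha
      rw [← hcb]
      exact Ideal.Quotient.eq_zero_iff_mem.2 hc
  have hψ : Function.Bijective ψ := ⟨(ψ : IsLocalRing.ResidueField (B ⧸ P ^ n) →+* B ⧸ P).injective,
    fun z => by
      obtain ⟨b, rfl⟩ := Ideal.Quotient.mk_surjective z
      exact ⟨IsLocalRing.residue _ (Ideal.Quotient.mk _ b), rfl⟩⟩
  rw [← Algebra.trace_eq_of_algEquiv (AlgEquiv.ofBijective ψ hψ)]
  rfl

theorem main {A : Type u} [CommRing A] [IsDedekindDomain A] [Algebra A B] [Module.Finite A B] [Module.IsTorsionFree A B]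
    (p : Ideal A) [p.IsMaximal] (hp : p ≠ ⊥) (y : B) :
    Ideal.Quotient.mk p (Algebra.intTrace A B y) =
      ∑ᶠ Q : p.primesOver B, Q.1.ramificationIdx A • Algebra.trace (A ⧸ p) (B ⧸ Q.1) (Ideal.Quotient.mk Q.1 y) := by
  classical
  letI := Ideal.Quotient.field p
  rw [← Algebra.trace_quotient_eq_of_isDedekindDomain]
  let I := p.map (algebraMap A B)
  have hI : I ≠ ⊥ := Ideal.map_ne_bot_of_ne_bot hp
  let F := (factors I).toFinset
  have hFprime : ∀ P : F, (P.1).IsPrime := fun P => Ideal.isPrime_of_prime (prime_of_factor _ (Multiset.mem_toFinset.1 P.2))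
  have hFne : ∀ P : F, P.1 ≠ ⊥ := fun P => (prime_of_factor _ (Multiset.mem_toFinset.1 P.2)).ne_zero
  have hle : ∀ P : F, I ≤ P.1 ^ (factors I).count P.1 := fun P => by
    refine Ideal.le_of_dvd ?_
    refine dvd_trans ?_ (factors_prod hI).dvd
    rw [← Multiset.prod_replicate]
    exact Multiset.prod_dvd_prod_of_le (Multiset.le_count_iff_replicate_le.1 le_rfl)
  let S : F → Type u := fun P => B ⧸ P.1 ^ (factors I).count P.1
  letI algS : ∀ P : F, Algebra (A ⧸ p) (S P) := fun P =>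
    ((Ideal.Quotient.factor (hle P)).comp (algebraMap (A ⧸ p) (B ⧸ I))).toAlgebra
  haveI : ∀ P : F, IsScalarTower A (A ⧸ p) (S P) := fun P => IsScalarTower.of_algebraMap_eq fun a => rfl
  haveI : ∀ P : F, Module.Finite (A ⧸ p) (S P) := fun P =>
    Module.Finite.of_restrictScalars_finite A _ _
  let e : (B ⧸ I) ≃ₐ[A ⧸ p] (∀ P : F, S P) := AlgEquiv.ofRingEquiv (f := IsDedekindDomain.quotientEquivPiFactors hI) (fun r => by
    obtain ⟨a, rfl⟩ := Ideal.Quotient.mk_surjective r
    rfl)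
  rw [← Algebra.trace_eq_of_algEquiv e]
  rw [ArtinTrace.trace_pi]
  let T := fun Q : Ideal B => Q ∈ p.primesOver B
  let E : F ≃ p.primesOver B :=
    { toFun := fun P => ⟨P.1, hFprime P, ⟨(Ideal.IsMaximal.eq_of_le ‹_› (Ideal.IsPrime.comap (hK := hFprime P) _).ne_top
        (Ideal.le_comap_of_map_le (Ideal.le_of_dvd (dvd_of_mem_factors (Multiset.mem_toFinset.1 P.2)))))⟩⟩
      invFun := fun Q => ⟨Q.1, Multiset.mem_toFinset.2 (by
        haveI := Q.2.1
        haveI := Q.2.2
        have hQle : I ≤ Q.1 := Ideal.map_le_of_le_comap (Ideal.LiesOver.over (P := Q.1) (p := p)).le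
        have hQne : Q.1 ≠ ⊥ := ne_bot_of_le_ne_bot hI hQle
        rw [factors_eq_normalizedFactors]
        exact (Ideal.mem_normalizedFactors_iff hI).2 ⟨inferInstance, hQle⟩)⟩
      left_inv := fun P => rfl
      right_inv := fun Q => rfl }
  letI : Fintype (p.primesOver B) := Fintype.ofEquiv F E
  rw [finsum_eq_sum_of_fintype, ← E.sum_comp]
  refine Finset.sum_congr rfl fun P _ => ?_
  haveI := hFprime P
  haveI : P.1.LiesOver p := (E P).2.2
  have hcount : P.1.ramificationIdx A = (factors I).count P.1 :=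
    Ideal.IsDedekindDomain.ramificationIdx_eq_factors_count p P.1 hI
  show Algebra.trace (A ⧸ p) (S P) (Ideal.Quotient.mk _ y) = P.1.ramificationIdx A • _
  rw [hcount]
  exact trace_pow p (hFne P) (Multiset.count_ne_zero.2 (Multiset.mem_toFinset.1 P.2)) y

end Groth.Agent.CAlgH3.DedekindTrace
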