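import Mathlib
import Groth.Agent.Misc15.DivDescentAlg
import Groth.Agent.CAlgMisc2.Normal
import Groth.Agent.CAlgH3.Serre

/-!
# A principal ideal generically coming from the base comes from the base

`A` normal Noetherian local domain, `A → B` flat local with `PB` prime for all height one primes `P`:
a divisor in `B` of a nonzero element of `A` is associated to an element of `A`.
-/

set_option autoImplicit false
universe u

open IsLocalRing Groth.Agent.Misc15.DivDescent

namespace Groth.Agent.CAlgH3.DescPic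

variable {A B : Type u} [CommRing A] [IsDomain A] [CommRing B] [Algebra A B]

/-- Every nonzero element factors as a power of `t` times a unit at `P`. -/
structure Unif (P : Ideal A) (t : A) : Prop where
  mem : t ∈ P
  ne_zero : t ≠ 0
  sat : ∀ x ∈ P, ∃ s ∉ P, ∃ a, s * x = t * a
  fac : ∀ h : A, h ≠ 0 → ∃ k : ℕ, ∃ s ∉ P, ∃ s' ∉ P, h * s = t ^ k * s'

/-- A uniformizer lying outside finitely many other height one primes. -/
theorem exists_unif [IsNoetherianRing A] [IsIntegrallyClosed A] (P : Ideal A) [P.IsPrime] (hP : P.height = 1)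
    (S : Finset (Ideal A)) (hS : ∀ Q ∈ S, Q.IsPrime ∧ ¬ P ≤ Q) :
    ∃ t, Unif P t ∧ ∀ Q ∈ S, t ∉ Q := by
  classical
  let L := Localization.AtPrime P
  haveI : IsIntegrallyClosed L :=
    isIntegrallyClosed_of_isLocalization L P.primeCompl P.primeCompl_le_nonZeroDivisors
  have hdim : ringKrullDim L = 1 := by
    rw [IsLocalization.AtPrime.ringKrullDim_eq_height P L, hP]; rfl
  have hnf : ¬ IsField L := fun h => by
    have : ringKrullDim L = 0 := ringKrullDim_eq_zero_of_isField h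
    rw [hdim] at this
    exact one_ne_zero this
  haveI : IsDiscreteValuationRing L := by
    have h03 : IsDiscreteValuationRing L ↔ (IsIntegrallyClosed L ∧ ∃! Q : Ideal L, Q ≠ ⊥ ∧ Q.IsPrime) :=
      (IsDiscreteValuationRing.TFAE L hnf).out 0 3
    refine h03.2
      ⟨inferInstance, maximalIdeal L, ⟨fun h => hnf (isField_iff_maximalIdeal_eq.2 h), inferInstance⟩, ?_⟩
    rintro Q ⟨hQ0, hQ⟩
    by_contra hne
    have h1 := Ideal.height_add_one_le_of_lt_of_isPrime (bot_lt_iff_ne_bot.2 hQ0)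
    have h2 := Ideal.height_add_one_le_of_lt_of_isPrime (lt_of_le_of_ne (le_maximalIdeal hQ.ne_top) hne)
    have h3 : (maximalIdeal L).height = 1 := by
      have := IsLocalRing.maximalIdeal_height_eq_ringKrullDim (R := L)
      rw [hdim] at this
      exact_mod_cast this
    rw [h3] at h2
    have h4 : (1 : ℕ∞) ≤ Q.height := le_trans le_add_self h1
    have h5 : (2 : ℕ∞) ≤ 1 := le_trans (by rw [← one_add_one_eq_two]; gcongr) h2
    exact absurd h5 (by decide)
  obtain ⟨π, hπ⟩ := IsDiscreteValuationRing.exists_irreducible L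
  obtain ⟨⟨t₀, s₀⟩, e₀⟩ := IsLocalization.surj P.primeCompl π
  have hs₀ : IsUnit (algebraMap A L s₀) := IsLocalization.map_units L s₀
  have ht₀ : Irreducible (algebraMap A L t₀) :=
    e₀ ▸ (irreducible_mul_isUnit hs₀).2 hπ
  have hinj : Function.Injective (algebraMap A L) :=
    IsLocalization.injective L P.primeCompl_le_nonZeroDivisors
  have key : ∀ t : A, Irreducible (algebraMap A L t) → Unif P t := by
    intro t ht
    have htP : t ∈ P := by
      by_contra h
      exact ht.not_isUnit (IsLocalization.map_units L (⟨t, h⟩ : P.primeCompl))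
    refine ⟨htP, fun h => ht.ne_zero (by rw [h, map_zero]), fun x hx => ?_, fun h hh => ?_⟩
    · have : algebraMap A L x ∈ Ideal.span {algebraMap A L t} := by
        rw [← ht.maximalIdeal_eq, IsLocalization.AtPrime.to_map_mem_maximal_iff L P]; exact hx
      obtain ⟨c, hc⟩ := Ideal.mem_span_singleton'.1 this
      obtain ⟨⟨a, s⟩, e⟩ := IsLocalization.surj P.primeCompl c
      refine ⟨s, s.2, a, hinj ?_⟩
      rw [map_mul, map_mul, ← hc, ← e]; ring
    · obtain ⟨k, u, hu⟩ := IsDiscreteValuationRing.eq_unit_mul_pow_irreducible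
        (fun e => hh (hinj (e.trans (map_zero _).symm))) ht
      obtain ⟨⟨a, s⟩, e⟩ := IsLocalization.surj P.primeCompl (u : L)
      refine ⟨k, s, s.2, a, fun ha => ?_, hinj ?_⟩
      · have hua : IsUnit (algebraMap A L a) := e ▸ u.isUnit.mul (IsLocalization.map_units L s)
        exact (IsLocalization.AtPrime.isUnit_to_map_iff L P a).1 hua ha
      · simp only at e
        rw [map_mul, hu, map_mul, map_pow, ← e]; ring
  -- avoidance
  let J : Ideal A := (maximalIdeal L ^ 2).comap (algebraMap A L)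
  have hav : ¬ ((P : Set A) ⊆ ⋃ Q ∈ (↑(insert J S) : Set (Ideal A)), (Q : Set A)) := by
    rw [Ideal.subset_union_prime (f := fun Q : Ideal A => Q) J J (fun Q hQ h _ => (hS Q ((Finset.mem_insert.1 hQ).resolve_left h)).1)]
    rintro ⟨Q, hQ, hle⟩
    rcases Finset.mem_insert.1 hQ with rfl | hQ
    · have : algebraMap A L t₀ ∈ maximalIdeal L ^ 2 := hle (key t₀ ht₀).mem
      rw [ht₀.maximalIdeal_eq, Ideal.span_singleton_pow, Ideal.mem_span_singleton] at this
      obtain ⟨c, hc⟩ := this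
      refine ht₀.not_isUnit (IsUnit.of_mul_eq_one c ?_)
      refine mul_left_cancel₀ ht₀.ne_zero ?_
      rw [mul_one, ← mul_assoc, ← sq, ← hc]
    · exact (hS Q hQ).2 hle
  obtain ⟨t, htP, ht⟩ := Set.not_subset.1 hav
  have hout : ∀ Q ∈ insert J S, t ∉ Q := fun Q hQ h => ht (Set.mem_biUnion (Finset.mem_coe.2 hQ) h)
  refine ⟨t, key t ?_, fun Q hQ => hout Q (Finset.mem_insert_of_mem hQ)⟩
  have hm : algebraMap A L t ∈ maximalIdeal L := (IsLocalization.AtPrime.to_map_mem_maximal_iff L P t).2 htP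
  have h0 : algebraMap A L t ≠ 0 := fun e =>
    hout J (Finset.mem_insert_self _ _) (Ideal.mem_comap.2 (by rw [e]; exact zero_mem _))
  obtain ⟨k, u, hu⟩ := IsDiscreteValuationRing.eq_unit_mul_pow_irreducible h0 ht₀
  rcases k with _ | _ | k
  · rw [pow_zero, mul_one] at hu
    exact absurd (hu ▸ u.isUnit) hm
  · rw [pow_one] at hu
    rw [hu]
    exact (irreducible_units_mul u).2 ht₀
  · refine absurd ?_ (hout J (Finset.mem_insert_self _ _))
    show algebraMap A L t ∈ maximalIdeal L ^ 2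
    rw [hu, ht₀.maximalIdeal_eq, Ideal.span_singleton_pow, Ideal.mem_span_singleton]
    exact ⟨u * algebraMap A L t₀ ^ k, by ring⟩

/-- A regular pair in a normal domain: `d`, and any element outside the height one primes through `d`. -/
theorem dvd_of_forall_height_one [IsNoetherianRing A] [IsIntegrallyClosed A] {d b : A} (hd : d ≠ 0)
    (hb : ∀ P : Ideal A, P.IsPrime → P.height = 1 → d ∈ P → b ∉ P) {z : A} (h : d ∣ b * z) : d ∣ z := by
  obtain ⟨c, hc⟩ := h
  let K := FractionRing A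
  have hd' : algebraMap A K d ≠ 0 := fun e => hd (IsFractionRing.injective A K (e.trans (map_zero _).symm))
  obtain ⟨a, ha⟩ := CAlgMisc2.mem_range_of_forall_height_one (algebraMap A K z / algebraMap A K d)
    (fun p hp hp1 => by
      by_cases hdp : d ∈ p
      · exact ⟨c, b, hb p hp hp1 hdp, by
          rw [div_mul_eq_mul_div, div_eq_iff hd', ← map_mul, ← map_mul, mul_comm z, hc, mul_comm c]⟩
      · exact ⟨z, d, hdp, div_mul_cancel₀ _ hd'⟩)
  rw [eq_div_iff hd', ← map_mul] at ha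
  exact ⟨a, by rw [← IsFractionRing.injective A K ha, mul_comm]⟩

section

variable [IsLocalRing A] [IsLocalRing B] [IsLocalHom (algebraMap A B)] [Module.Flat A B]

local notation "φ" => algebraMap A B

theorem comap_map_eq (P : Ideal A) : (P.map φ).comap φ = P :=
  haveI : Module.FaithfullyFlat A B := Module.FaithfullyFlat.of_flat_of_isLocalHom
  Ideal.comap_map_eq_self_of_faithfullyFlat P

theorem notMem_map {P : Ideal A} {s : A} (hs : s ∉ P) : φ s ∉ P.map φ := fun h =>
  hs ((comap_map_eq (B := B) P).le h)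

theorem isNZD {a : A} (ha : a ≠ 0) : φ a ∈ nonZeroDivisors B :=
  mem_nonZeroDivisors_iff_right.2 fun x hx => (regular_pair_map (B := B) (a := a) (b := 1)
    (fun _ h => (mul_eq_zero.1 h).resolve_left ha) (fun _ h => by rwa [one_mul] at h)).1 x
    ((mul_comm _ _).trans hx)

/-- Splitting the exponent of `t` between two factors. -/
theorem split_exponent {P : Ideal A} [P.IsPrime] {t : A} (ht : Unif P t) (hPB : (P.map φ).IsPrime)
    (k : ℕ) : ∀ (x y v : B), v ∉ P.map φ → x * y = φ t ^ k * v →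
      ∃ n m : ℕ, n + m = k ∧ ∃ s ∉ P, ∃ x' ∉ P.map φ, ∃ y' ∉ P.map φ,
        φ s * x = φ t ^ n * x' ∧ φ s * y = φ t ^ m * y' := by
  induction k with
  | zero =>
    intro x y v hv h
    rw [pow_zero, one_mul] at h
    refine ⟨0, 0, rfl, 1, ‹P.IsPrime›.one_notMem, x, fun hx => hv (h ▸ Ideal.mul_mem_right _ _ hx), y,
      fun hy => hv (h ▸ Ideal.mul_mem_left _ _ hy), by simp, by simp⟩
  | succ k ih =>
    have hsat : ∀ z ∈ P.map φ, ∃ s ∉ P, ∃ z', φ s * z = φ t * z' := by
      intro z hz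
      induction hz using Submodule.span_induction with
      | mem z hz =>
        obtain ⟨a, ha, rfl⟩ := hz
        obtain ⟨s, hs, a', e⟩ := ht.sat a ha
        exact ⟨s, hs, φ a', by rw [← map_mul, e, map_mul]⟩
      | zero => exact ⟨1, ‹P.IsPrime›.one_notMem, 0, by simp⟩
      | add a b _ _ ha hb =>
        obtain ⟨s, hs, a', ea⟩ := ha
        obtain ⟨s', hs', b', eb⟩ := hb
        refine ⟨s * s', fun h => (‹P.IsPrime›.mem_or_mem h).elim hs hs', φ s' * a' + φ s * b', ?_⟩
        rw [map_mul]; linear_combination φ s' * ea + φ s * eb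
      | smul c a _ ha =>
        obtain ⟨s, hs, a', ea⟩ := ha
        exact ⟨s, hs, c * a', by rw [smul_eq_mul]; linear_combination c * ea⟩
    intro x y v hv h
    have hmem : x * y ∈ P.map φ := by
      rw [h, pow_succ', mul_assoc]
      exact Ideal.mul_mem_right _ _ (Ideal.mem_map_of_mem _ ht.mem)
    have hc : ∀ {a b : B}, φ t * a = φ t * b → a = b := fun h =>
      (mul_cancel_left_mem_nonZeroDivisors (isNZD (B := B) ht.ne_zero)).1 h
    rcases hPB.mem_or_mem hmem with hx | hy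
    · obtain ⟨s, hs, x₁, e⟩ := hsat x hx
      obtain ⟨n, m, hnm, s', hs', x', hx', y', hy', e1, e2⟩ := ih x₁ y (φ s * v)
        (fun hh => (hPB.mem_or_mem hh).elim (notMem_map hs) hv)
        (hc (by linear_combination -(y * e) + φ s * h))
      refine ⟨n + 1, m, by omega, s * s', fun hh => (‹P.IsPrime›.mem_or_mem hh).elim hs hs', x', hx', φ s * y',
        fun hh => (hPB.mem_or_mem hh).elim (notMem_map hs) hy', ?_, ?_⟩
      · rw [map_mul]; linear_combination φ s' * e + φ t * e1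
      · rw [map_mul]; linear_combination φ s * e2
    · obtain ⟨s, hs, y₁, e⟩ := hsat y hy
      obtain ⟨n, m, hnm, s', hs', x', hx', y', hy', e1, e2⟩ := ih x y₁ (φ s * v)
        (fun hh => (hPB.mem_or_mem hh).elim (notMem_map hs) hv)
        (hc (by linear_combination -(x * e) + φ s * h))
      refine ⟨n, m + 1, by omega, s * s', fun hh => (‹P.IsPrime›.mem_or_mem hh).elim hs hs', φ s * x',
        fun hh => (hPB.mem_or_mem hh).elim (notMem_map hs) hx', y', hy', ?_, ?_⟩
      · rw [map_mul]; linear_combination φ s * e1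
      · rw [map_mul]; linear_combination φ s' * e + φ t * e2

variable [IsNoetherianRing A] [IsIntegrallyClosed A] [IsNoetherianRing B]

/-- Divisibility by a divisor of `d ∈ A` is tested at the primes `PB`. -/
theorem dvd_of_forall (hP : ∀ P : Ideal A, P.IsPrime → P.height = 1 → (P.map φ).IsPrime)
    {d : A} (hd : d ≠ 0) {r r' x : B} (hrr : r * r' = φ d)
    (h : ∀ P : Ideal A, P.IsPrime → P.height = 1 → d ∈ P → ∃ u ∉ P.map φ, r ∣ u * x) : r ∣ x := by
  classical
  by_contra hx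
  let z : B ⧸ Ideal.span {r} := Ideal.Quotient.mk _ x
  have hz : z ≠ 0 := fun e => hx (Ideal.mem_span_singleton.1 (Ideal.Quotient.eq_zero_iff_mem.1 e))
  obtain ⟨q, ⟨hq, w, hw⟩, hle⟩ := exists_le_isAssociatedPrime_of_isNoetherianRing B z hz
  obtain ⟨y, rfl⟩ := Ideal.Quotient.mk_surjective w
  have hmk : ∀ a b : B, a • (Ideal.Quotient.mk (Ideal.span {r}) b) = 0 ↔ r ∣ a * b := fun a b => by
    rw [Algebra.smul_def, Ideal.Quotient.algebraMap_eq, ← map_mul, Ideal.Quotient.eq_zero_iff_mem,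
      Ideal.mem_span_singleton]
  -- `q` is the radical of the annihilator of `y`
  have hq2 : ∀ a, r ∣ a * y → a ∈ q := fun a ha => by
    rw [hw]
    exact Ideal.le_radical (Submodule.mem_colon_singleton.2 (Submodule.mem_bot _ |>.2 ((hmk a y).2 ha)))
  have hq1 : ∀ a ∈ q, ∃ N : ℕ, r ∣ a ^ N * y := fun a ha => by
    rw [hw] at ha
    obtain ⟨N, hN⟩ := ha
    exact ⟨N, (hmk _ y).1 ((Submodule.mem_bot _).1 (Submodule.mem_colon_singleton.1 hN))⟩
  have hxq : ∀ u, r ∣ u * x → u ∈ q := fun u hu =>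
    hle (Submodule.mem_colon_singleton.2 (Submodule.mem_bot _ |>.2 ((hmk u x).2 hu)))
  have hyq : ¬ r ∣ y := fun e => hq.ne_top ((Ideal.eq_top_iff_one _).2 (hq2 1 (by rwa [one_mul])))
  let p : Ideal A := q.comap φ
  have hdp : d ∈ p := hq2 _ ⟨r' * y, by rw [← hrr]; ring⟩
  have hr0 : r ∈ nonZeroDivisors B := (mul_mem_nonZeroDivisors.1 (hrr ▸ isNZD (B := B) hd)).1
  -- `p` has height one
  have hp1 : ∃ P : Ideal A, P.IsPrime ∧ P.height = 1 ∧ d ∈ P ∧ P = p := by
    have hfin : {P : Ideal A | P.IsPrime ∧ P.height = 1 ∧ d ∈ P}.Finite := by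
      refine (Ideal.finite_minimalPrimes_of_isNoetherianRing A (Ideal.span {d})).subset ?_
      rintro P ⟨hPp, hP1, hdP⟩
      refine ⟨⟨hPp, (Ideal.span_singleton_le_iff_mem _).2 hdP⟩, fun Q ⟨hQ, hdQ⟩ hQP => ?_⟩
      rcases hQP.lt_or_eq with hlt | e
      · exfalso
        have hlt' := Ideal.height_strict_mono_of_isPrime hlt
        rw [hP1, Order.lt_one_iff, Ideal.height_eq_zero_iff, IsDomain.minimalPrimes_eq_singleton_bot,
          Set.mem_singleton_iff] at hlt'
        rw [hlt', le_bot_iff, Ideal.span_singleton_eq_bot] at hdQ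
        exact hd hdQ
      · exact e.ge
    by_contra hne
    push Not at hne
    have hav : ¬ ((p : Set A) ⊆ ⋃ Q ∈ (↑hfin.toFinset : Set (Ideal A)), (Q : Set A)) := by
      rw [Ideal.subset_union_prime (f := fun Q : Ideal A => Q) ⊥ ⊥ (fun Q hQ _ _ => (hfin.mem_toFinset.1 hQ).1)]
      rintro ⟨P, hPS, hpP⟩
      obtain ⟨hPp, hP1, hdP⟩ := hfin.mem_toFinset.1 hPS
      refine hne P hPp hP1 hdP ?_
      rcases hpP.lt_or_eq with hlt | e
      · exfalso
        have hlt' := Ideal.height_strict_mono_of_isPrime (I := p) hlt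
        rw [hP1, Order.lt_one_iff, Ideal.height_eq_zero_iff, IsDomain.minimalPrimes_eq_singleton_bot,
          Set.mem_singleton_iff] at hlt'
        rw [hlt', Ideal.mem_bot] at hdp
        exact hd hdp
      · exact e.symm
    obtain ⟨b, hbp, hb⟩ := Set.not_subset.1 hav
    have hb' : ∀ P : Ideal A, P.IsPrime → P.height = 1 → d ∈ P → b ∉ P := fun P h1 h2 h3 h4 =>
      hb (Set.mem_biUnion (Finset.mem_coe.2 (hfin.mem_toFinset.2 ⟨h1, h2, h3⟩)) h4)
    obtain ⟨ha1, hb1⟩ := regular_pair_map (B := B) (a := d) (b := b)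
      (fun _ h => (mul_eq_zero.1 h).resolve_left hd) (fun _ h => dvd_of_forall_height_one hd hb' h)
    obtain ⟨N, hN⟩ := hq1 (φ b) hbp
    have hbN : ∀ M : ℕ, ∀ w : B, φ d ∣ φ b ^ M * w → φ d ∣ w := by
      intro M
      induction M with
      | zero => simp
      | succ M ih => exact fun w hw => hb1 w (ih _ (by rwa [pow_succ, mul_assoc] at hw))
    refine hyq (Ideal.mem_span_singleton.1 (mem_span_of_regular_pair (a := φ d) (b := φ b ^ N) ha1 (hbN N) hr0
      (Ideal.mem_span_singleton.2 ⟨r' * y, by rw [← hrr]; ring⟩) (Ideal.mem_span_singleton.2 hN)))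
  obtain ⟨P, hPp, hP1, hdP, rfl⟩ := hp1
  haveI := hPp
  have hle' : (p.map φ) ≤ q := Ideal.map_comap_le
  obtain ⟨t, ht, -⟩ := exists_unif p hP1 ∅ (by simp)
  obtain ⟨k, s₀, hs₀, s₀', hs₀', e₀⟩ := ht.fac d hd
  have hPB := hP p hPp hP1
  -- `q = pB`
  have hqe : q = p.map φ := by
    refine le_antisymm (fun z hz => ?_) hle'
    by_contra hzn
    obtain ⟨N, c, hc⟩ := hq1 z hz
    have hzN : z ^ N ∉ p.map φ := fun hh => hzn (hPB.mem_of_pow_mem N hh)
    -- cancel an element outside `pB` modulo powers of `t`, up to `A ∖ p`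
    have cancel : ∀ (j : ℕ) (w : B), φ t ^ j ∣ z ^ N * w → ∃ s ∉ p, φ t ^ j ∣ φ s * w := by
      intro j
      induction j with
      | zero => exact fun w _ => ⟨1, hPp.one_notMem, by simp⟩
      | succ j ih =>
        rintro w ⟨e, he⟩
        obtain ⟨n, m, hnm, s, hs, z', hz', w', hw', e1, e2⟩ := split_exponent ht hPB 1 (φ t) (1 : B) 1
          ((Ideal.ne_top_iff_one _).1 hPB.ne_top) (by ring)
        have hw1 : w ∈ p.map φ := (hPB.mem_or_mem (show z ^ N * w ∈ p.map φ by
          rw [he, pow_succ', mul_assoc]; exact Ideal.mul_mem_right _ _ (Ideal.mem_map_of_mem _ ht.mem))).resolve_left hzN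
        obtain ⟨s₁, hs₁, w₁, ew⟩ : ∃ s ∉ p, ∃ w₁, φ s * w = φ t * w₁ := by
          clear he e1 e2
          induction hw1 using Submodule.span_induction with
          | mem w hw =>
            obtain ⟨a, ha, rfl⟩ := hw
            obtain ⟨s, hs, a', e⟩ := ht.sat a ha
            exact ⟨s, hs, φ a', by rw [← map_mul, e, map_mul]⟩
          | zero => exact ⟨1, hPp.one_notMem, 0, by simp⟩
          | add a b _ _ ha hb =>
            obtain ⟨s, hs, a', ea⟩ := ha
            obtain ⟨s', hs', b', eb⟩ := hb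
            refine ⟨s * s', fun h => (hPp.mem_or_mem h).elim hs hs', φ s' * a' + φ s * b', ?_⟩
            rw [map_mul]; linear_combination φ s' * ea + φ s * eb
          | smul c a _ ha =>
            obtain ⟨s, hs, a', ea⟩ := ha
            exact ⟨s, hs, c * a', by rw [smul_eq_mul]; linear_combination c * ea⟩
        obtain ⟨s₂, hs₂, c₂, hc₂⟩ := ih w₁ ⟨φ s₁ * e, (mul_cancel_left_mem_nonZeroDivisors (isNZD (B := B) ht.ne_zero)).1
          (by linear_combination -(z ^ N * ew) + φ s₁ * he)⟩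
        exact ⟨s₁ * s₂, fun hh => (hPp.mem_or_mem hh).elim hs₁ hs₂, c₂,
          by rw [map_mul]; linear_combination φ s₂ * ew + φ t * hc₂⟩
    obtain ⟨s, hs, c', hc'⟩ := cancel k (y * r' * φ s₀) ⟨φ s₀' * c, by
      have : φ d * φ s₀ = φ t ^ k * φ s₀' := by rw [← map_mul, e₀, map_mul, map_pow]
      linear_combination (r' * φ s₀) * hc + c * φ s₀ * hrr + c * this⟩
    have hmem : φ (s * s₀') ∈ q := by
      refine hq2 _ ⟨c', (mul_cancel_right_mem_nonZeroDivisors
        (mul_mem (mul_mem_nonZeroDivisors.1 (hrr ▸ isNZD (B := B) hd)).2 (isNZD (B := B)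
          (fun e : s₀ = 0 => hs₀ (e ▸ zero_mem _))))).1 ?_⟩
      have : φ d * φ s₀ = φ t ^ k * φ s₀' := by rw [← map_mul, e₀, map_mul, map_pow]
      rw [map_mul]
      linear_combination φ s₀' * hc' - c' * this - c' * φ s₀ * hrr
    exact (fun hh => (hPp.mem_or_mem hh).elim hs hs₀') (show s * s₀' ∈ p from hmem)
  obtain ⟨u, hu, hux⟩ := h p hPp hP1 hdP
  exact hu (hqe ▸ hxq u hux)

/-- The main algebraic statement. -/
theorem exists_associated (hP : ∀ P : Ideal A, P.IsPrime → P.height = 1 → (P.map φ).IsPrime)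
    {d : A} (hd : d ≠ 0) {r r' : B} (hrr : r * r' = φ d) : ∃ c : A, c ≠ 0 ∧ Associated (φ c) r := by
  classical
  have hfin : {P : Ideal A | P.IsPrime ∧ P.height = 1 ∧ d ∈ P}.Finite := by
    refine (Ideal.finite_minimalPrimes_of_isNoetherianRing A (Ideal.span {d})).subset ?_
    rintro P ⟨hPp, hP1, hdP⟩
    refine ⟨⟨hPp, (Ideal.span_singleton_le_iff_mem _).2 hdP⟩, fun Q ⟨hQ, hdQ⟩ hQP => ?_⟩
    rcases hQP.lt_or_eq with hlt | e
    · exfalso
      have hlt' := Ideal.height_strict_mono_of_isPrime hlt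
      rw [hP1, Order.lt_one_iff, Ideal.height_eq_zero_iff, IsDomain.minimalPrimes_eq_singleton_bot,
        Set.mem_singleton_iff] at hlt'
      rw [hlt', le_bot_iff, Ideal.span_singleton_eq_bot] at hdQ
      exact hd hdQ
    · exact e.ge
  let S := hfin.toFinset
  have hS : ∀ {P}, P ∈ S ↔ P.IsPrime ∧ P.height = 1 ∧ d ∈ P := fun {P} => hfin.mem_toFinset
  have hincomp : ∀ P ∈ S, ∀ Q ∈ S, P ≤ Q → P = Q := fun P hP Q hQ hPQ => by
    haveI := (hS.1 hP).1
    haveI := (hS.1 hQ).1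
    rcases hPQ.lt_or_eq with hlt | e
    · have := Ideal.height_strict_mono_of_isPrime (I := P) hlt
      rw [(hS.1 hP).2.1, (hS.1 hQ).2.1] at this
      exact absurd this (lt_irrefl _)
    · exact e
  have hun : ∀ P : Ideal A, ∃ t : A, P ∈ S → Unif P t ∧ ∀ Q ∈ S.erase P, t ∉ Q := by
    intro P
    by_cases hPS : P ∈ S
    · haveI := (hS.1 hPS).1
      obtain ⟨t, ht⟩ := exists_unif P (hS.1 hPS).2.1 (S.erase P) fun Q hQ =>
        ⟨(hS.1 (Finset.mem_of_mem_erase hQ)).1, fun hle =>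
          Finset.ne_of_mem_erase hQ (hincomp P hPS Q (Finset.mem_of_mem_erase hQ) hle).symm⟩
      exact ⟨t, fun _ => ht⟩
    · exact ⟨0, fun h => absurd h hPS⟩
  choose t ht using hun
  have hdat : ∀ P : Ideal A, ∃ n m : ℕ, P ∈ S → ∃ s₀ ∉ P, ∃ s₀' ∉ P, ∃ s ∉ P, ∃ x' ∉ P.map φ, ∃ y' ∉ P.map φ,
      d * s₀ = t P ^ (n + m) * s₀' ∧ φ s * r = φ (t P) ^ n * x' ∧ φ s * (r' * φ s₀) = φ (t P) ^ m * y' := by
    intro P
    by_cases hPS : P ∈ S
    · haveI := (hS.1 hPS).1
      obtain ⟨k, s₀, hs₀, s₀', hs₀', e₀⟩ := (ht P hPS).1.fac d hd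
      obtain ⟨n, m, hnm, s, hs, x', hx', y', hy', e1, e2⟩ := split_exponent (ht P hPS).1 (hP P (hS.1 hPS).1 (hS.1 hPS).2.1)
        k r (r' * φ s₀) (φ s₀') (notMem_map hs₀') (by rw [← mul_assoc, hrr, ← map_mul, e₀, map_mul, map_pow])
      exact ⟨n, m, fun _ => ⟨s₀, hs₀, s₀', hs₀', s, hs, x', hx', y', hy', hnm ▸ e₀, e1, e2⟩⟩
    · exact ⟨0, 0, fun h => absurd h hPS⟩
  choose n m hdat using hdat
  let h₀ : A := ∏ Q ∈ S, t Q ^ m Q
  have hh₀ : ∀ P ∈ S, ∃ c ∉ P, h₀ = t P ^ m P * c := fun P hPS => by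
    haveI := (hS.1 hPS).1
    refine ⟨∏ Q ∈ S.erase P, t Q ^ m Q, fun hc => ?_, (Finset.mul_prod_erase S _ hPS).symm⟩
    obtain ⟨Q, hQ, hQP⟩ := (Ideal.IsPrime.prod_mem_iff).1 hc
    have hQS := Finset.mem_of_mem_erase hQ
    exact (ht Q hQS).2 P (Finset.mem_erase.2 ⟨(Finset.ne_of_mem_erase hQ).symm, hPS⟩)
      ((hS.1 hPS).1.mem_of_pow_mem _ hQP)
  have hd' := isNZD (B := B) hd
  obtain ⟨hrn, hrn'⟩ := mul_mem_nonZeroDivisors.1 (hrr ▸ hd')
  have hr' : r' ∣ φ h₀ := by
    refine dvd_of_forall hP hd ((mul_comm r' r).trans hrr) fun P hPp hP1 hdP => ?_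
    haveI := hPp
    obtain ⟨s₀, -, s₀', -, s, -, x', -, y', hy', -, -, e2⟩ := hdat P (hS.2 ⟨hPp, hP1, hdP⟩)
    obtain ⟨c, -, hc⟩ := hh₀ P (hS.2 ⟨hPp, hP1, hdP⟩)
    exact ⟨y', hy', φ s * φ s₀ * φ c, by rw [hc, map_mul, map_pow]; linear_combination -(φ c) * e2⟩
  let I : Ideal A := colon1 (Ideal.span {d}) h₀
  have h1 : r ∈ I.map φ := mem_map_colon1 (by
    obtain ⟨w, hw⟩ := hr'
    rw [Ideal.map_span, Set.image_singleton, Ideal.mem_span_singleton]
    exact ⟨w, by rw [hw, ← hrr]; ring⟩)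
  have h2 : ∀ i ∈ I, r ∣ φ i := by
    intro i hi
    rw [mem_colon1, Ideal.mem_span_singleton] at hi
    obtain ⟨e, he⟩ := hi
    refine dvd_of_forall hP hd hrr fun P hPp hP1 hdP => ?_
    haveI := hPp
    have hPS := hS.2 ⟨hPp, hP1, hdP⟩
    have hPB := hP P hPp hP1
    obtain ⟨s₀, hs₀, s₀', -, s, -, x', hx', -, -, e₀, e1, -⟩ := hdat P hPS
    obtain ⟨c, hc, hc'⟩ := hh₀ P hPS
    have key : φ i * φ c * φ s₀ = φ (t P) ^ n P * (φ s₀' * φ e) := by
      rw [← map_mul, ← map_mul, ← map_pow, ← map_mul, ← map_mul]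
      refine congrArg φ (mul_left_cancel₀ (pow_ne_zero (m P) (ht P hPS).1.ne_zero) ?_)
      calc t P ^ m P * (i * c * s₀) = i * h₀ * s₀ := by rw [hc']; ring
        _ = e * (d * s₀) := by rw [he]; ring
        _ = t P ^ m P * (t P ^ n P * (s₀' * e)) := by rw [e₀]; ring
    refine ⟨φ c * φ s₀ * x', fun hh => (hPB.mem_or_mem hh).elim
      (fun hh' => (hPB.mem_or_mem hh').elim (notMem_map hc) (notMem_map hs₀)) hx', φ s * φ s₀' * φ e, ?_⟩
    linear_combination x' * key - (φ s₀' * φ e) * e1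
  by_contra hne
  push Not at hne
  have hle : I.map φ ≤ Ideal.span {r} * maximalIdeal B := Ideal.map_le_iff_le_comap.2 fun i hi => by
    obtain ⟨w, hw⟩ := h2 i hi
    rw [Ideal.mem_comap, Ideal.mem_span_singleton_mul]
    refine ⟨w, fun hu : IsUnit w => ?_, hw.symm⟩
    refine hne i (fun h0 => ?_) (Associated.symm ⟨hu.unit, hw.symm⟩)
    rw [h0, map_zero] at hw
    exact nonZeroDivisors.ne_zero hrn ((mul_right_mem_nonZeroDivisors_eq_zero_iff
      (IsUnit.mem_nonZeroDivisors hu)).1 hw.symm)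
  obtain ⟨w, hw, e⟩ := Ideal.mem_span_singleton_mul.1 (hle h1)
  exact hw ((mul_cancel_left_mem_nonZeroDivisors hrn).1 (e.trans (mul_one r).symm) ▸ isUnit_one)

end

end Groth.Agent.CAlgH3.DescPic
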