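import Mathlib
import Groth.Agent.CAlgH3.DescPicAlg
import Groth.Agent.Misc15.DivDescentMain
import Groth.Agent.PicLib.PullbackGen
import Groth.Agent.EGA43.IdemFibre.Main
import Groth.Agent.NeronLib.NormalSmooth
import Groth.Agent.H8Coh.TransClass

/-!
# Invertible modules trivial on a generic fibre: local descent of a trivialisation

For `U ⊆ Y` affine integral with generic point `η` and a trivialisation `e` of `L` on the fibre at `η`,
generators `t` of `L` with `c t = a e` on the fibre, `a, c ∈ Γ(U)`.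
-/

set_option autoImplicit false
set_option backward.isDefEq.respectTransparency false
set_option backward.isDefEq.respectTransparency.types false
set_option maxHeartbeats 400000
universe u

open AlgebraicGeometry CategoryTheory CategoryTheory.Limits TopologicalSpace IsLocalRing Opposite
open Groth.Agent.Coherent Groth.Agent.PicLib Groth.Agent.Misc15.DivDescent

namespace Groth.Agent.CAlgH3.DescPic

variable {X Y : Scheme.{u}} {f : X ⟶ Y}

/-- `U` is an affine integral open with generic point `η`. -/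
structure Chart (η : Y) (U : Y.Opens) : Prop where
  affine : IsAffineOpen U
  mem : η ∈ U
  gen : ∀ z ∈ U, η ⤳ z
  integral : IsIntegral U.toScheme

namespace Chart

variable {η : Y} {U : Y.Opens} (C : Chart η U)
include C

theorem maximal {z : Y} (hz : z ⤳ η) : z = η :=
  (hz.antisymm (C.gen z (hz.mem_open U.2 C.mem))).eq

theorem isDomain : IsDomain Γ(Y, U) :=
  haveI := C.integral
  haveI : Nonempty U := ⟨⟨η, C.mem⟩⟩
  haveI : IsDomain Γ(U.toScheme, ⊤) := inferInstance
  U.topIso.symm.commRingCatIsoToRingEquiv.toMulEquiv.isDomain _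

theorem primeIdealOf_eq : (C.affine.primeIdealOf ⟨η, C.mem⟩).asIdeal = ⊥ := by
  haveI := C.isDomain
  let P₀ : PrimeSpectrum Γ(Y, U) := ⟨⊥, Ideal.isPrime_bot⟩
  have hz : C.affine.fromSpec P₀ ∈ U := by
    rw [← SetLike.mem_coe, ← C.affine.range_fromSpec]; exact Set.mem_range_self _
  have hs := C.gen _ hz
  replace hs : C.affine.fromSpec (C.affine.primeIdealOf ⟨η, C.mem⟩) ⤳ C.affine.fromSpec P₀ :=
    (C.affine.fromSpec_primeIdealOf ⟨η, C.mem⟩).symm ▸ hs
  exact le_bot_iff.1 ((PrimeSpectrum.le_iff_specializes _ P₀).2 (C.affine.fromSpec.isOpenEmbedding.isInducing.specializes_iff.1 hs))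

theorem germ_injective {y : Y} (hy : y ∈ U) : Function.Injective (Y.presheaf.germ U y hy) := by
  haveI := C.isDomain
  letI := Y.presheaf.algebra_section_stalk (⟨y, hy⟩ : U)
  haveI := C.affine.isLocalization_stalk ⟨y, hy⟩
  exact IsLocalization.injective (Y.presheaf.stalk y)
    (C.affine.primeIdealOf ⟨y, hy⟩).asIdeal.primeCompl_le_nonZeroDivisors

theorem germ_ne_zero {y : Y} (hy : y ∈ U) {a : Γ(Y, U)} (ha : a ≠ 0) : Y.presheaf.germ U y hy a ≠ 0 :=
  fun h => ha (C.germ_injective hy (h.trans (map_zero _).symm))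

theorem isUnit_germ {a : Γ(Y, U)} (ha : a ≠ 0) : IsUnit (Y.presheaf.germ U η C.mem a) := by
  letI := Y.presheaf.algebra_section_stalk (⟨η, C.mem⟩ : U)
  haveI := C.affine.isLocalization_stalk ⟨η, C.mem⟩
  refine (IsLocalization.AtPrime.isUnit_to_map_iff (Y.presheaf.stalk η)
    (C.affine.primeIdealOf ⟨η, C.mem⟩).asIdeal a).2 fun h => ha ?_
  rw [C.primeIdealOf_eq] at h
  exact Ideal.mem_bot.1 h

theorem restrict {U' : Y.Opens} (hU' : IsAffineOpen U') (hle : U' ≤ U) {y : Y} (hy : y ∈ U') : Chart η U' :=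
  ⟨hU', (C.gen y (hle hy)).mem_open U'.2 hy, fun z hz => C.gen z (hle hz), by
    haveI := C.integral
    haveI : Nonempty U'.toScheme := ⟨⟨y, hy⟩⟩
    exact isIntegral_of_isOpenImmersion (Y.homOfLE hle)⟩

/-- Sections over the residue field at `η` are fractions. -/
theorem exists_frac (hl : (⊤ : (Spec (Y.residueField η)).Opens) ≤ Y.fromSpecResidueField η ⁻¹ᵁ U)
    (d : Γ(Spec (Y.residueField η), ⊤)) : ∃ a c : Γ(Y, U), c ≠ 0 ∧
      (Y.fromSpecResidueField η).appLE U ⊤ hl a = (Y.fromSpecResidueField η).appLE U ⊤ hl c * d := by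
  haveI := C.isDomain
  obtain ⟨a₀, ha₀⟩ := IsLocalRing.residue_surjective ((Scheme.ΓSpecIso (Y.residueField η)).hom.hom d)
  letI := Y.presheaf.algebra_section_stalk (⟨η, C.mem⟩ : U)
  haveI := C.affine.isLocalization_stalk ⟨η, C.mem⟩
  obtain ⟨⟨a, c⟩, h⟩ := IsLocalization.surj (C.affine.primeIdealOf ⟨η, C.mem⟩).asIdeal.primeCompl a₀
  refine ⟨a, c, fun hc => c.2 (hc ▸ zero_mem _), ?_⟩
  refine (Scheme.ΓSpecIso (Y.residueField η)).commRingCatIsoToRingEquiv.injective ?_
  have hk : (Y.fromSpecResidueField η).appLE U ⊤ hl =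
      Y.presheaf.germ U η C.mem ≫ Y.residue η ≫ (Scheme.ΓSpecIso (Y.residueField η)).inv :=
    EGA43.IdemFibre.fromSpecResidueField_appLE η U C.mem hl
  have hv : ∀ r : Γ(Y, U), (Scheme.ΓSpecIso (Y.residueField η)).hom.hom ((Y.fromSpecResidueField η).appLE U ⊤ hl r) =
      (Y.residue η).hom (Y.presheaf.germ U η C.mem r) := fun r => by
    rw [hk]
    exact Iso.inv_hom_id_apply (Scheme.ΓSpecIso (Y.residueField η)) _
  show (Scheme.ΓSpecIso (Y.residueField η)).hom.hom _ = (Scheme.ΓSpecIso (Y.residueField η)).hom.hom _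
  rw [map_mul, hv, hv, show (Scheme.ΓSpecIso (Y.residueField η)).hom.hom d = (Y.residue η).hom a₀ from ha₀.symm,
    ← map_mul]
  exact congrArg (Y.residue η).hom (h.symm.trans (mul_comm _ _))

end Chart

/-- The functions of the base on an open over `U`. -/
noncomputable abbrev base (f : X ⟶ Y) {U : Y.Opens} (W : X.Opens) (hW : W ≤ f ⁻¹ᵁ U) : Γ(Y, U) →+* Γ(X, W) :=
  (f.appLE U W hW).hom

theorem res_base {U : Y.Opens} {W W' : X.Opens} (hW : W ≤ f ⁻¹ᵁ U) (h : W' ≤ W) (a : Γ(Y, U)) :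
    PicLib.res h (base f W hW a) = base f W' (h.trans hW) a :=
  congrArg (fun k : Γ(Y, U) ⟶ Γ(X, W') => k.hom a) (Scheme.Hom.appLE_map f hW (homOfLE h).op)

theorem base_res {U U' : Y.Opens} {W : X.Opens} (h : U' ≤ U) (hW : W ≤ f ⁻¹ᵁ U') (a : Γ(Y, U)) :
    base f W hW (PicLib.res h a) = base f W (hW.trans ((Opens.map f.base).map (homOfLE h)).le) a :=
  congrArg (fun k : Γ(Y, U) ⟶ Γ(X, W) => k.hom a) (Scheme.Hom.map_appLE f hW (homOfLE h).op)

theorem germ_base {U : Y.Opens} {W : X.Opens} (hW : W ≤ f ⁻¹ᵁ U) {x : X} (hx : x ∈ W) {y : Y} (hy : f x = y)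
    (a : Γ(Y, U)) :
    X.presheaf.germ W x hx (base f W hW a) =
      φ f hy (Y.presheaf.germ U y (hy ▸ hW hx) a) := by
  rw [φ_germ]
  exact (TopCat.Presheaf.germ_res_apply X.presheaf (homOfLE hW) x hx (f.app U a))

theorem appFib_res {η : Y} {W W' : X.Opens} (h : W' ≤ W) (r : Γ(X, W)) :
    (f.fiberι η).app W' (PicLib.res h r) =
      PicLib.res ((Opens.map (f.fiberι η).base).map (homOfLE h)).le ((f.fiberι η).app W r) :=
  ConcreteCategory.congr_hom ((f.fiberι η).naturality (homOfLE h).op) r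

theorem smul_right_cancel {S : Scheme.{u}} {M : S.Modules} {U V : S.Opens} {g : Γ(M, U)} (hg : IsGen M U g)
    (h : V ≤ U) {a b : Γ(S, V)} (e : a • resM M h g = b • resM M h g) : a = b :=
  (hg V h).1 e

section Fibre

variable {η : Y} {U : Y.Opens} (C : Chart η U)
include C

theorem isUnit_appFib {W : X.Opens} (hW : W ≤ f ⁻¹ᵁ U) {a : Γ(Y, U)} (ha : a ≠ 0) :
    IsUnit ((f.fiberι η).app W (base f W hW a)) := by
  refine RingedSpace.isUnit_of_isUnit_germ (f.fiber η).toRingedSpace _ _ fun z hz => ?_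
  have hη : f (f.fiberι η z) = η := (f.range_fiberι η).le ⟨z, rfl⟩
  have h1 : IsUnit (X.presheaf.germ W (f.fiberι η z) hz (base f W hW a)) := by
    rw [germ_base hW hz hη]
    exact (C.isUnit_germ ha).map _
  have h2 := h1.map ((f.fiberι η).stalkMap z).hom
  rw [Scheme.Hom.germ_stalkMap_apply] at h2
  exact h2

/-- The functions on an affine piece of the fibre are fractions, and restriction to the fibre is injective. -/
theorem fibre_affine [Flat f] {W : X.Opens} (hWa : IsAffineOpen W) (hW : W ≤ f ⁻¹ᵁ U) :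
    (∀ r : Γ(X, W), (f.fiberι η).app W r = 0 → r = 0) ∧
      ∀ d : Γ(f.fiber η, f.fiberι η ⁻¹ᵁ W), ∃ (a : Γ(Y, U)) (r : Γ(X, W)), a ≠ 0 ∧
        (f.fiberι η).app W r = (f.fiberι η).app W (base f W hW a) * d := by
  haveI := C.isDomain
  set k := Y.fromSpecResidueField η with hk
  have hl : (⊤ : (Spec (Y.residueField η)).Opens) ≤ k ⁻¹ᵁ U := fun z _ => by
    show k z ∈ U
    rw [hk, Scheme.fromSpecResidueField_apply]; exact C.mem
  have H : IsPullback (f.fiberι η) (f.fiberToSpecResidueField η) f k := IsPullback.of_hasPullback _ _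
  have hUY : f.fiberι η ⁻¹ᵁ W = f.fiberι η ⁻¹ᵁ W ⊓ f.fiberToSpecResidueField η ⁻¹ᵁ ⊤ := by
    simp
  have hpo := (isIso_pushoutSection_iff H hl hW hUY).1
    (isIso_pushoutSection_of_isAffineOpen H hl hW hUY C.affine (isAffineOpen_top _) hWa)
  have hsq := hpo.w
  have happ : (f.fiberι η).appLE W (f.fiberι η ⁻¹ᵁ W) le_rfl = (f.fiberι η).app W := by
    rw [Scheme.Hom.appLE_eq_app]
  rw [happ] at hpo hsq
  let T := Γ(Spec (Y.residueField η), ⊤)
  let D := Γ(f.fiber η, f.fiberι η ⁻¹ᵁ W)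
  letI a1 : Algebra Γ(Y, U) Γ(X, W) := (base f W hW).toAlgebra
  letI a2 : Algebra Γ(Y, U) T := (k.appLE U ⊤ hl).hom.toAlgebra
  letI a3 : Algebra Γ(X, W) D := ((f.fiberι η).app W).hom.toAlgebra
  letI a4 : Algebra T D :=
    ((f.fiberToSpecResidueField η).appLE ⊤ (f.fiberι η ⁻¹ᵁ W) (by simp)).hom.toAlgebra
  letI a5 : Algebra Γ(Y, U) D := (((f.fiberι η).app W).hom.comp (base f W hW)).toAlgebra
  haveI : IsScalarTower Γ(Y, U) Γ(X, W) D := IsScalarTower.of_algebraMap_eq' rfl
  haveI : IsScalarTower Γ(Y, U) T D := IsScalarTower.of_algebraMap_eq fun r =>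
    congrArg (fun m => m.hom r) hsq
  haveI : IsLocalization (nonZeroDivisors Γ(Y, U)) T := by
    have hunit : ∀ c : Γ(Y, U), c ≠ 0 → IsUnit (algebraMap Γ(Y, U) T c) := fun c hc => by
      have hv : k.appLE U ⊤ hl = Y.presheaf.germ U η C.mem ≫ Y.residue η ≫ (Scheme.ΓSpecIso (Y.residueField η)).inv :=
        EGA43.IdemFibre.fromSpecResidueField_appLE η U C.mem hl
      show IsUnit ((k.appLE U ⊤ hl).hom c)
      rw [hv]
      exact ((C.isUnit_germ hc).map (Y.residue η).hom).map (Scheme.ΓSpecIso (Y.residueField η)).inv.hom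
    refine { map_units := fun s => hunit s (nonZeroDivisors.ne_zero s.2), surj := fun d => ?_, exists_of_eq := ?_ }
    · obtain ⟨a, c, hc, h⟩ := C.exists_frac hl d
      exact ⟨⟨a, c, mem_nonZeroDivisors_of_ne_zero hc⟩, (mul_comm _ _).trans h.symm⟩
    · intro x y hxy
      by_contra hne
      push Not at hne
      have hxy0 := hne ⟨1, one_mem _⟩
      simp only [one_mul] at hxy0
      haveI : Nontrivial T := (Scheme.ΓSpecIso (Y.residueField η)).commRingCatIsoToRingEquiv.toEquiv.nontrivial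
      have h0 := (hunit (x - y) (sub_ne_zero.2 hxy0)).ne_zero
      exact h0 (by rw [map_sub, hxy, sub_self])
  have hpo' : Algebra.IsPushout Γ(Y, U) Γ(X, W) T D := CommRingCat.isPushout_iff_isPushout.1 hpo
  have hloc : IsLocalization (Algebra.algebraMapSubmonoid Γ(X, W) (nonZeroDivisors Γ(Y, U))) D :=
    (Algebra.isLocalization_iff_isPushout (nonZeroDivisors Γ(Y, U)) T).2 hpo'
  have hflat : Module.Flat Γ(Y, U) Γ(X, W) := Scheme.Hom.flat_appLE f C.affine hWa hW
  refine ⟨fun r hr => ?_, fun d => ?_⟩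
  · obtain ⟨⟨_, s, hs, rfl⟩, h⟩ := (IsLocalization.map_eq_zero_iff
      (Algebra.algebraMapSubmonoid Γ(X, W) (nonZeroDivisors Γ(Y, U))) D r).1 hr
    exact (regular_pair_map (A := Γ(Y, U)) (B := Γ(X, W)) (a := s) (b := 1)
      (fun _ h => (mul_eq_zero.1 h).resolve_left (nonZeroDivisors.ne_zero hs))
      (fun _ h => by rwa [one_mul] at h)).1 r h
  · obtain ⟨⟨r, _, s, hs, rfl⟩, h⟩ := IsLocalization.surj
      (Algebra.algebraMapSubmonoid Γ(X, W) (nonZeroDivisors Γ(Y, U))) d
    exact ⟨s, r, nonZeroDivisors.ne_zero hs, (h.symm.trans (mul_comm _ _))⟩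

/-- Sections of an invertible module are determined on the fibre at `η`. -/
theorem eq_of_pullSec [Flat f] {L : X.Modules} (hL : PicF.IsInvertible L) {W : X.Opens} (hW : W ≤ f ⁻¹ᵁ U)
    {m m' : Γ(L, W)} (h : pullSec (f.fiberι η) m = pullSec (f.fiberι η) m') : m = m' := by
  refine AmpleLib.sec_ext L m m' fun x hx => ?_
  obtain ⟨V, hxV, g, hg⟩ := exists_isGen hL x
  obtain ⟨W', hW', hxW', hle⟩ := exists_isAffineOpen_mem_and_subset (x := x) (U := W ⊓ V) ⟨hx, hxV⟩
  have hl1 : W' ≤ W := fun z hz => (hle hz).1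
  have hl2 : W' ≤ V := fun z hz => (hle hz).2
  refine ⟨W', hl1, hxW', ?_⟩
  have hg' := hg.restrict hl2
  have hg'' := isGen_pullSec (f.fiberι η) hg' hL
  have h1 := congrArg (resM _ ((Opens.map (f.fiberι η).base).map (homOfLE hl1)).le) h
  rw [resM_pullSec (f.fiberι η) hl1, resM_pullSec (f.fiberι η) hl1] at h1
  rw [← hg'.coef_spec le_rfl (resM L hl1 m), ← hg'.coef_spec le_rfl (resM L hl1 m'), pullSec_smul, pullSec_smul,
    ← resM_pullSec (f.fiberι η) (le_refl W') (resM L hl2 g)] at h1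
  have h2 := smul_right_cancel hg'' _ h1
  have h3 : hg'.coef le_rfl (resM L hl1 m) = hg'.coef le_rfl (resM L hl1 m') :=
    sub_eq_zero.1 ((fibre_affine C hW' (hl1.trans hW)).1 _ (by rw [map_sub, h2, sub_self]))
  rw [← hg'.coef_spec le_rfl (resM L hl1 m), h3, hg'.coef_spec]

/-- `c t = a e` on the fibre at `η`. -/
def Rel {L : X.Modules} (e : Γ((Scheme.Modules.pullback (f.fiberι η)).obj L, ⊤)) (W : X.Opens)
    (hW : W ≤ f ⁻¹ᵁ U) (t : Γ(L, W)) (a c : Γ(Y, U)) : Prop :=
  (f.fiberι η).app W (base f W hW c) • pullSec (f.fiberι η) t =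
    (f.fiberι η).app W (base f W hW a) • resM _ (le_top : f.fiberι η ⁻¹ᵁ W ≤ ⊤) e

variable {L : X.Modules} {e : Γ((Scheme.Modules.pullback (f.fiberι η)).obj L, ⊤)}

omit C in
theorem Rel.res {W : X.Opens} {hW : W ≤ f ⁻¹ᵁ U} {t : Γ(L, W)} {a c : Γ(Y, U)} (h : Rel e W hW t a c)
    {W' : X.Opens} (hle : W' ≤ W) : Rel e W' (hle.trans hW) (resM L hle t) a c := by
  unfold Rel at *
  have h1 := congrArg (resM _ ((Opens.map (f.fiberι η).base).map (homOfLE hle)).le) h
  rw [resM_smul, resM_smul, resM_resM, resM_pullSec, ← appFib_res hle, ← appFib_res hle, res_base, res_base] at h1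
  exact h1

omit C in
theorem Rel.resBase {W : X.Opens} {hW : W ≤ f ⁻¹ᵁ U} {t : Γ(L, W)} {a c : Γ(Y, U)} (h : Rel e W hW t a c)
    {U' : Y.Opens} (hle : U' ≤ U) (hW' : W ≤ f ⁻¹ᵁ U') : Rel e W hW' t (PicLib.res hle a) (PicLib.res hle c) := by
  unfold Rel at *
  rwa [base_res, base_res]

/-- Two generators with proportions to `e`: the ratio of the proportions at the base is their ratio. -/
theorem coef_eq [Flat f] (he : IsGen _ ⊤ e) {W : X.Opens} {hW : W ≤ f ⁻¹ᵁ U}
    {t t' : Γ(L, W)} {a c a' c' : Γ(Y, U)} (ht : Rel e W hW t a c) (ht' : Rel e W hW t' a' c') {u : Γ(X, W)}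
    (hu : t' = u • t) : u * base f W hW (a * c') = base f W hW (a' * c) := by
  unfold Rel at ht ht'
  set α := (f.fiberι η).app W
  have e1 : α (u * base f W hW (a * c')) = α (base f W hW (a' * c)) := by
    refine smul_right_cancel he (le_top : f.fiberι η ⁻¹ᵁ W ≤ ⊤) ?_
    calc α (u * base f W hW (a * c')) • resM _ le_top e
        = (α u * α (base f W hW c')) • α (base f W hW a) • resM _ le_top e := by
          rw [← mul_smul, map_mul, map_mul, map_mul]; congr 1; ring
      _ = (α u * α (base f W hW c')) • α (base f W hW c) • pullSec (f.fiberι η) t := by rw [ht]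
      _ = α (base f W hW c) • α (base f W hW c') • pullSec (f.fiberι η) t' := by
          rw [hu, pullSec_smul, ← mul_smul, ← mul_smul, ← mul_smul]; congr 1; ring
      _ = α (base f W hW (a' * c)) • resM _ le_top e := by
          rw [ht', ← mul_smul, map_mul, map_mul]; congr 1; ring
  refine sub_eq_zero.1 ?_
  refine TopCat.Presheaf.section_ext X.sheaf W _ _ fun x hx => ?_
  obtain ⟨W', hW', hxW', hle⟩ := exists_isAffineOpen_mem_and_subset (x := x) (U := W) hx
  have h0 : PicLib.res (hle : W' ≤ W) (u * base f W hW (a * c') - base f W hW (a' * c)) = 0 :=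
    (fibre_affine C hW' ((hle : W' ≤ W).trans hW)).1 _ (by
      rw [appFib_res, map_sub, e1, sub_self, map_zero])
  have := congrArg (X.presheaf.germ W' x hxW') h0
  rw [map_zero, show X.presheaf.germ W' x hxW' (PicLib.res (hle : W' ≤ W) _) = _ from
    TopCat.Presheaf.germ_res_apply X.presheaf (homOfLE hle) x hxW' _] at this
  exact this.trans (map_zero _).symm

end Fibre

end Groth.Agent.CAlgH3.DescPic
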