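import Mathlib
import Groth.Agent.CAlgH3.DescPicChart
import Groth.Agent.PicNormal23.Section

/-!
# Invertible modules trivial on generic fibres: generators over opens of the base
-/

set_option autoImplicit false
set_option backward.isDefEq.respectTransparency false
set_option backward.isDefEq.respectTransparency.types false
set_option maxHeartbeats 400000
universe u

open AlgebraicGeometry CategoryTheory CategoryTheory.Limits TopologicalSpace IsLocalRing Opposite
open Groth.Agent.Coherent Groth.Agent.PicLib Groth.Agent.Misc15.DivDescent Groth.Agent.VarietyLib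

namespace Groth.Agent.CAlgH3.DescPic

variable {X Y : Scheme.{u}} {f : X ⟶ Y}

/-- The fibres over points of codimension one are integral. -/
def FibresOne (f : X ⟶ Y) : Prop :=
  ∀ y : Y, ringKrullDim (Y.presheaf.stalk y) = 1 → IsIntegral (f.fiber y)

/-- A height one prime of a local ring is a point of codimension one. -/
theorem exists_point_one {y : Y} (P : Ideal (Y.presheaf.stalk y)) [P.IsPrime] (hP : P.height = 1) :
    ∃ (w : Y) (h : w ⤳ y), primeOf h = P ∧ ringKrullDim (Y.presheaf.stalk w) = 1 := by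
  obtain ⟨w, h, hw⟩ := exists_point P ‹_›
  refine ⟨w, h, hw, ?_⟩
  letI := (Y.presheaf.stalkSpecializes h).hom.toAlgebra
  haveI := Misc15.isLocalization_stalkSpecializes (X := Y) h
  have hM : (IsUnit.submonoid (Y.presheaf.stalk w)).comap (Y.presheaf.stalkSpecializes h).hom = P.primeCompl := by
    ext s
    rw [Ideal.mem_primeCompl_iff, ← hw, notMem_primeOf]
    rfl
  haveI : IsLocalization.AtPrime (Y.presheaf.stalk w) P := by
    unfold IsLocalization.AtPrime
    rw [← hM]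
    infer_instance
  rw [IsLocalization.AtPrime.ringKrullDim_eq_height P (Y.presheaf.stalk w), hP]
  rfl

/-- The generic point of a fibre over `w` generizes every point of which `w` is an image of a generization. -/
theorem exists_gen_fibre [Flat f] {x : X} {y w : Y} (hx : f x = y) (h : w ⤳ y) [IsIntegral (f.fiber w)] :
    f.fiberι w (genericPoint (f.fiber w)) ⤳ x ∧ f (f.fiberι w (genericPoint (f.fiber w))) = w := by
  refine ⟨?_, (f.range_fiberι w).le ⟨_, rfl⟩⟩
  obtain ⟨z, hz, hzw⟩ := (Flat.generalizingMap f) (hx.symm ▸ h : w ⤳ f x)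
  obtain ⟨t, rfl⟩ : ∃ t, f.fiberι w t = z := ⟨_, f.fiberι_fiberHomeo_symm w ⟨z, hzw⟩⟩
  exact ((genericPoint_specializes t).map (f.fiberι w).continuous).trans hz

theorem isPrime_map [IsLocallyNoetherian X] [Flat f] (hfib : FibresOne f) {x : X} {y : Y} (hx : f x = y)
    (P : Ideal (Y.presheaf.stalk y)) [P.IsPrime] (hP : P.height = 1) : (P.map (φ f hx)).IsPrime := by
  obtain ⟨w, h, hw, hdim⟩ := exists_point_one P hP
  haveI := hfib w hdim
  obtain ⟨hξ, hξw⟩ := exists_gen_fibre (f := f) hx h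
  set ξ := f.fiberι w (genericPoint (f.fiber w)) with hξd
  have hle : P.map (φ f hx) ≤ primeOf hξ := Ideal.map_le_iff_le_comap.2 (by rw [primeOf_comap f hξ hξw hx h, hw])
  suffices hge : primeOf hξ ≤ P.map (φ f hx) by
    rw [le_antisymm hle hge]; exact isPrime_primeOf hξ
  intro u hu
  by_contra hne
  letI := (φ f hx).toAlgebra
  haveI : Module.Flat (Y.presheaf.stalk y) (X.presheaf.stalk x) := flat_φ f hx
  let B := X.presheaf.stalk x
  let I : Ideal B := P.map (φ f hx)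
  let z : B ⧸ I := Ideal.Quotient.mk _ u
  have hz : z ≠ 0 := fun e => hne (Ideal.Quotient.eq_zero_iff_mem.1 e)
  obtain ⟨q, ⟨hq, v, hv⟩, hqle⟩ := exists_le_isAssociatedPrime_of_isNoetherianRing B z hz
  obtain ⟨v, rfl⟩ := Ideal.Quotient.mk_surjective v
  have hmk : ∀ a b : B, a • (Ideal.Quotient.mk I b) = 0 ↔ a * b ∈ I := fun a b => by
    rw [Algebra.smul_def, Ideal.Quotient.algebraMap_eq, ← map_mul, Ideal.Quotient.eq_zero_iff_mem]
  have huq : ∀ a, a * u ∈ I → a ∈ q := fun a ha =>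
    hqle (Submodule.mem_colon_singleton.2 (Submodule.mem_bot _ |>.2 ((hmk a u).2 ha)))
  have hvI : v ∉ I := fun e => hq.ne_top (by
    rw [hv, Ideal.Quotient.eq_zero_iff_mem.2 e]
    exact Ideal.radical_eq_top.2 ((Ideal.eq_top_iff_one _).2 (Submodule.mem_colon_singleton.2 (by simp))))
  have hqP : q.comap (φ f hx) = P := by
    refine le_antisymm (fun s hs => ?_) fun s hs => huq _ (Ideal.mul_mem_right _ _ (Ideal.mem_map_of_mem _ hs))
    by_contra hsP
    rw [Ideal.mem_comap, hv] at hs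
    obtain ⟨N, hN⟩ := hs
    have hN' := (hmk _ v).1 ((Submodule.mem_bot _).1 (Submodule.mem_colon_singleton.1 hN))
    rw [← map_pow, mul_comm] at hN'
    have h1 := mem_map_colon1 (I := P) (a := s ^ N) (x := v) hN'
    exact hvI (Ideal.map_mono (fun r hr => (‹P.IsPrime›.mem_or_mem (mem_colon1.1 hr)).resolve_right
      fun e => hsP (‹P.IsPrime›.mem_of_pow_mem N e)) h1)
  obtain ⟨z', hz', rfl⟩ := exists_point q hq
  have hzw : f z' = w := by
    have h2 := primeOf_comap f hz' rfl hx (hx ▸ hz'.map f.continuous)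
    rw [hqP, ← hw] at h2
    exact (eq_of_primeOf_eq _ _ h2.symm)
  obtain ⟨t, rfl⟩ : ∃ t, f.fiberι w t = z' := ⟨_, f.fiberι_fiberHomeo_symm w ⟨z', hzw⟩⟩
  -- the kernel to the fibre at `t`
  have hξt : ξ ⤳ f.fiberι w t := (genericPoint_specializes t).map (f.fiberι w).continuous
  set uz := (X.presheaf.stalkSpecializes hz').hom u with huz
  have huξ : ¬ IsUnit ((X.presheaf.stalkSpecializes hξt).hom uz) := by
    rw [huz, show (X.presheaf.stalkSpecializes hξt).hom ((X.presheaf.stalkSpecializes hz').hom u) =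
      (X.presheaf.stalkSpecializes hξ).hom u from
        ConcreteCategory.congr_hom (X.presheaf.stalkSpecializes_comp hξt hz') u]
    exact fun e => (notMem_primeOf hξ u).2 e hu
  have h0 : ((f.fiberι w).stalkMap t).hom uz = 0 := by
    apply PicNormal23.toK_injective t
    rw [map_zero]
    show (f.fiber w).presheaf.stalkSpecializes (genericPoint_specializes t) ((f.fiberι w).stalkMap t uz) = 0
    rw [← Scheme.Hom.stalkSpecializes_stalkMap_apply]
    by_contra hne0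
    exact huξ (isUnit_of_map_unit ((f.fiberι w).stalkMap (genericPoint (f.fiber w))).hom _
      (Ne.isUnit (a := (((f.fiberι w).stalkMap (genericPoint (f.fiber w))).hom _ : (f.fiber w).functionField)) hne0))
  have hker := (Props12.stalkMap_fiberι f w t).2
  have hmem : uz ∈ (P.map (φ f hx)).map (X.presheaf.stalkSpecializes hz').hom := by
    have hm : uz ∈ RingHom.ker ((f.fiberι w).stalkMap t).hom := h0
    rw [hker] at hm
    refine (Ideal.map_le_iff_le_comap.2 (fun s hs => ?_) : _ ≤ _) hm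
    obtain ⟨⟨p, q'⟩, hpq⟩ : ∃ pq : (Y.presheaf.stalk y) × (Y.presheaf.stalk y),
        IsUnit ((Y.presheaf.stalkSpecializes (hx ▸ hz'.map f.continuous)).hom pq.2) ∧
        s * (Y.presheaf.stalkSpecializes (hx ▸ hz'.map f.continuous)).hom pq.2 =
          (Y.presheaf.stalkSpecializes (hx ▸ hz'.map f.continuous)).hom pq.1 := by
      letI := (Y.presheaf.stalkSpecializes (hx ▸ hz'.map f.continuous : f (f.fiberι w t) ⤳ y)).hom.toAlgebra
      haveI := Misc15.isLocalization_stalkSpecializes (X := Y) (hx ▸ hz'.map f.continuous : f (f.fiberι w t) ⤳ y)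
      obtain ⟨⟨p, q'⟩, hpq⟩ := IsLocalization.surj ((IsUnit.submonoid (Y.presheaf.stalk (f (f.fiberι w t)))).comap
        (Y.presheaf.stalkSpecializes (hx ▸ hz'.map f.continuous : f (f.fiberι w t) ⤳ y)).hom) s
      exact ⟨⟨p, q'⟩, q'.2, hpq⟩
    have hpP : p ∈ P := by
      rw [← hqP, primeOf_comap f hz' rfl hx (hx ▸ hz'.map f.continuous)]
      show (Y.presheaf.stalkSpecializes _).hom p ∈ maximalIdeal _
      rw [← hpq.2]
      exact Ideal.mul_mem_right _ _ hs
    rw [Ideal.mem_comap]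
    refine (Ideal.mul_unit_mem_iff_mem _ (hpq.1.map ((f.stalkMap (f.fiberι w t)).hom))).1 ?_
    rw [← map_mul, hpq.2]
    have hnat : (f.stalkMap (f.fiberι w t)).hom ((Y.presheaf.stalkSpecializes (hx ▸ hz'.map f.continuous)).hom p) =
        (X.presheaf.stalkSpecializes hz').hom (φ f hx p) := by
      subst hx
      rw [φ_rfl]
      exact Scheme.Hom.stalkSpecializes_stalkMap_apply f (f.fiberι w t) x hz' p
    rw [hnat]
    exact Ideal.mem_map_of_mem _ (Ideal.mem_map_of_mem _ hpP)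
  letI := (X.presheaf.stalkSpecializes hz').hom.toAlgebra
  haveI := Misc15.isLocalization_stalkSpecializes (X := X) hz'
  obtain ⟨⟨⟨i, hi⟩, s⟩, hs⟩ := (IsLocalization.mem_map_algebraMap_iff
    ((IsUnit.submonoid (X.presheaf.stalk (f.fiberι w t))).comap (X.presheaf.stalkSpecializes hz').hom)
    (X.presheaf.stalk (f.fiberι w t))).1 hmem
  obtain ⟨s', hs'⟩ := (IsLocalization.eq_iff_exists
    ((IsUnit.submonoid (X.presheaf.stalk (f.fiberι w t))).comap (X.presheaf.stalkSpecializes hz').hom)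
    (X.presheaf.stalk (f.fiberι w t))).1 (show algebraMap B _ (u * s) = algebraMap B _ i by rw [map_mul]; exact hs)
  have hmemI : (s' : B) * s * u ∈ I := by
    rw [mul_assoc, mul_comm (s : B) u, hs']; exact Ideal.mul_mem_left _ _ hi
  refine (notMem_primeOf hz' _).2 ?_ (huq _ hmemI)
  rw [map_mul]
  exact IsUnit.mul s'.2 s.2

/-- Associates of germs spread. -/
theorem exists_unit_near {W : X.Opens} {x : X} (hx : x ∈ W) {p q : Γ(X, W)}
    (h : Associated (X.presheaf.germ W x hx p) (X.presheaf.germ W x hx q)) :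
    ∃ (W' : X.Opens) (hle : W' ≤ W), x ∈ W' ∧ ∃ u : Γ(X, W')ˣ, PicLib.res hle q = u * PicLib.res hle p := by
  obtain ⟨v, hv⟩ := h
  obtain ⟨V, hV, v₀, hv₀⟩ := X.presheaf.exists_germ_eq (v : X.presheaf.stalk x)
  have hxB : x ∈ X.basicOpen v₀ := (X.mem_basicOpen v₀ x hV).2 (hv₀ ▸ v.isUnit)
  let O : X.Opens := W ⊓ X.basicOpen v₀
  have e1 : O ≤ W := inf_le_left
  have e2 : O ≤ V := inf_le_right.trans (X.basicOpen_le v₀)
  obtain ⟨W', hW', i1, i2, heq⟩ := X.presheaf.germ_eq x (⟨hx, hxB⟩ : x ∈ O) (⟨hx, hxB⟩ : x ∈ O)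
    (PicLib.res e1 q) (PicLib.res e2 v₀ * PicLib.res e1 p) (by
      rw [map_mul, StarGlue.germ_resO, StarGlue.germ_resO, StarGlue.germ_resO, ← hv, hv₀, mul_comm])
  have hu : IsUnit (PicLib.res (i1.le.trans e2) v₀) := by
    have := (RingedSpace.isUnit_res_basicOpen X.toRingedSpace v₀).map
      (PicLib.res (i1.le.trans inf_le_right : W' ≤ X.basicOpen v₀))
    convert this using 1
    exact ConcreteCategory.congr_hom (X.presheaf.map_comp _ _) v₀
  refine ⟨W', i1.le.trans e1, hW', hu.unit, ?_⟩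
  have h1 : PicLib.res i1.le (PicLib.res e1 q) = PicLib.res i1.le (PicLib.res e2 v₀ * PicLib.res e1 p) := heq
  rw [map_mul, PicLib.res_res, PicLib.res_res, PicLib.res_res] at h1
  exact h1

variable {η : Y} {U : Y.Opens} {L : X.Modules} {e : Γ((Scheme.Modules.pullback (f.fiberι η)).obj L, ⊤)}

section

variable [IsLocallyNoetherian X] [IsLocallyNoetherian Y] [Flat f] (hY : Pi1.IsNormalScheme Y)
  (hfib : FibresOne f) (C : Chart η U) (hL : PicF.IsInvertible L) (he : IsGen _ ⊤ e)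
include hY hfib C hL he

/-- Near every point there is a generator proportional to `e`. -/
theorem exists_rel (x : X) (hx : f x ∈ U) : ∃ (W : X.Opens) (hW : W ≤ f ⁻¹ᵁ U) (t : Γ(L, W)) (a c : Γ(Y, U)),
    x ∈ W ∧ IsGen L W t ∧ a ≠ 0 ∧ c ≠ 0 ∧ Rel e W hW t a c := by
  haveI := C.isDomain
  obtain ⟨V, hxV, g, hg⟩ := exists_isGen hL x
  obtain ⟨W, hWa, hxW, hle⟩ := exists_isAffineOpen_mem_and_subset (x := x) (U := f ⁻¹ᵁ U ⊓ V) ⟨hx, hxV⟩
  have hW : W ≤ f ⁻¹ᵁ U := fun z hz => (hle hz).1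
  have hWV : W ≤ V := fun z hz => (hle hz).2
  let l := resM L hWV g
  have hl : IsGen L W l := hg.restrict hWV
  let α := (f.fiberι η).app W
  have hl' := isGen_pullSec (f.fiberι η) hl hL
  have he' := he.restrict (le_top : f.fiberι η ⁻¹ᵁ W ≤ ⊤)
  obtain ⟨b, hb⟩ : ∃ b : Γ(f.fiber η, f.fiberι η ⁻¹ᵁ W)ˣ,
      pullSec (f.fiberι η) l = (b : Γ(f.fiber η, f.fiberι η ⁻¹ᵁ W)) • resM _ le_top e := by
    refine ⟨(he'.isUnit_coef hl').unit, ?_⟩
    rw [IsUnit.unit_spec]
    have h0 := he'.coef_spec le_rfl (pullSec (f.fiberι η) l)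
    rw [resM_self] at h0
    exact h0.symm
  obtain ⟨hinj, hfrac⟩ := fibre_affine C hWa hW
  obtain ⟨a, r, ha, hr⟩ := hfrac (b : Γ(f.fiber η, f.fiberι η ⁻¹ᵁ W))
  obtain ⟨a', r', ha', hr'⟩ := hfrac ((b⁻¹ : _ˣ) : Γ(f.fiber η, f.fiberι η ⁻¹ᵁ W))
  have hrr : r * r' = base f W hW (a * a') := sub_eq_zero.1 (hinj _ (by
    rw [map_sub, map_mul, map_mul, map_mul, hr, hr', mul_mul_mul_comm, Units.mul_inv, mul_one, sub_self]))
  haveI := (hY (f x)).1
  haveI := (hY (f x)).2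
  letI := (φ f (rfl : f x = f x)).toAlgebra
  haveI : Module.Flat (Y.presheaf.stalk (f x)) (X.presheaf.stalk x) := flat_φ f rfl
  haveI : IsLocalHom (algebraMap (Y.presheaf.stalk (f x)) (X.presheaf.stalk x)) := isLocalHom_φ f rfl
  obtain ⟨c₀, hc₀, hass⟩ := exists_associated (A := Y.presheaf.stalk (f x)) (B := X.presheaf.stalk x)
    (fun P hP hP1 => @isPrime_map X Y f _ _ hfib x (f x) rfl P hP hP1)
    (d := Y.presheaf.germ U (f x) hx (a * a')) (C.germ_ne_zero hx (mul_ne_zero ha ha'))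
    (r := X.presheaf.germ W x hxW r) (r' := X.presheaf.germ W x hxW r')
    (by rw [← map_mul, hrr, germ_base hW hxW rfl]; rfl)
  letI := Y.presheaf.algebra_section_stalk (⟨f x, hx⟩ : U)
  haveI := C.affine.isLocalization_stalk ⟨f x, hx⟩
  obtain ⟨⟨c₁, s⟩, hcs⟩ := IsLocalization.surj (C.affine.primeIdealOf ⟨f x, hx⟩).asIdeal.primeCompl c₀
  have hc₁ : Associated c₀ (Y.presheaf.germ U (f x) hx c₁) :=
    ⟨(IsLocalization.map_units (Y.presheaf.stalk (f x)) s).unit, by rw [IsUnit.unit_spec]; exact hcs⟩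
  have hc₁0 : c₁ ≠ 0 := fun h => hc₀ (by
    rw [h, map_zero, associated_zero_iff_eq_zero] at hc₁; exact hc₁)
  have hass' : Associated (X.presheaf.germ W x hxW (base f W hW c₁)) (X.presheaf.germ W x hxW r) := by
    rw [germ_base hW hxW rfl]
    exact (hc₁.map (φ f (rfl : f x = f x))).symm.trans hass
  obtain ⟨W', hle', hxW', u, hu⟩ := exists_unit_near hxW hass'
  refine ⟨W', hle'.trans hW, ((u⁻¹ : _ˣ) : Γ(X, W')) • resM L hle' l, c₁, a, hxW', (hl.restrict hle').smul_unit _,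
    hc₁0, ha, ?_⟩
  unfold Rel
  have h1 : α r • resM _ (le_top : f.fiberι η ⁻¹ᵁ W ≤ ⊤) e = α (base f W hW a) • pullSec (f.fiberι η) l := by
    rw [hb, ← mul_smul]; exact congrArg (· • _) hr
  have h2 := congrArg (resM _ ((Opens.map (f.fiberι η).base).map (homOfLE hle')).le) h1
  rw [resM_smul, resM_smul, resM_resM, resM_pullSec (f.fiberι η) hle', ← appFib_res hle', ← appFib_res hle', res_base, hu,
    res_base, map_mul] at h2
  rw [pullSec_smul, ← mul_smul, mul_comm, mul_smul, ← h2, ← mul_smul, ← mul_assoc, ← map_mul, Units.inv_mul,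
    map_one, one_mul]

omit hfib hL in
/-- The proportions at a common point agree up to units. -/
theorem assoc_of_rel {W W' : X.Opens} {hW : W ≤ f ⁻¹ᵁ U} {hW' : W' ≤ f ⁻¹ᵁ U} {t : Γ(L, W)} {t' : Γ(L, W')}
    {a c a' c' : Γ(Y, U)} (ht : IsGen L W t) (ht' : IsGen L W' t') (h : Rel e W hW t a c)
    (h' : Rel e W' hW' t' a' c') {x : X} (hx : x ∈ W) (hx' : x ∈ W') {y : Y} (hy : f x = y) :
    Associated (Y.presheaf.germ U y (hy ▸ hW hx) (a * c')) (Y.presheaf.germ U y (hy ▸ hW hx) (a' * c)) := by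
  let g := ht.restrict (inf_le_left : W ⊓ W' ≤ W)
  let u := g.coef le_rfl (resM L inf_le_right t')
  have hu : resM L (inf_le_right : W ⊓ W' ≤ W') t' = u • resM L (inf_le_left : W ⊓ W' ≤ W) t := by
    have := g.coef_spec le_rfl (resM L inf_le_right t')
    rw [resM_self] at this
    exact this.symm
  have huu : IsUnit u := g.isUnit_coef (ht'.restrict inf_le_right)
  have key := coef_eq C he (h.res inf_le_left) (h'.res inf_le_right) hu
  have key' := congrArg (X.presheaf.germ (W ⊓ W') x ⟨hx, hx'⟩) key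
  rw [map_mul, germ_base (W := W ⊓ W') _ ⟨hx, hx'⟩ hy, germ_base (W := W ⊓ W') _ ⟨hx, hx'⟩ hy] at key'
  haveI := (flat_φ f hy)
  have hideal : ∀ p q : Y.presheaf.stalk y, φ f hy p ∣ φ f hy q → p ∣ q := fun p q hpq => by
    have h1 : φ f hy q ∈ (Ideal.span {p}).map (φ f hy) := by
      rw [Ideal.map_span, Set.image_singleton, Ideal.mem_span_singleton]; exact hpq
    exact Ideal.mem_span_singleton.1 ((comap_map_φ f hy (Ideal.span {p})).le h1)
  haveI := (hY y).1
  refine associated_of_dvd_dvd (hideal _ _ (Dvd.intro_left _ key')) (hideal _ _ ?_)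
  refine Dvd.intro ((huu.map (X.presheaf.germ (W ⊓ W') x ⟨hx, hx'⟩).hom).unit⁻¹ : _ˣ) ?_
  rw [← key', mul_comm _ (φ f hy _), mul_assoc, IsUnit.mul_val_inv, mul_one]

/-- The proportions at two points over the same point agree up to units. -/
theorem assoc_of_rel_fibre {W W' : X.Opens} {hW : W ≤ f ⁻¹ᵁ U} {hW' : W' ≤ f ⁻¹ᵁ U} {t : Γ(L, W)} {t' : Γ(L, W')}
    {a c a' c' : Γ(Y, U)} (ht : IsGen L W t) (ht' : IsGen L W' t') (h : Rel e W hW t a c)
    (h' : Rel e W' hW' t' a' c') (h0 : a * c' ≠ 0) (h0' : a' * c ≠ 0) {x x' : X} (hx : x ∈ W) (hx' : x' ∈ W')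
    {y : Y} (hy : f x = y) (hy' : f x' = y) :
    Associated (Y.presheaf.germ U y (hy ▸ hW hx) (a * c')) (Y.presheaf.germ U y (hy ▸ hW hx) (a' * c)) := by
  haveI := (hY y).1
  haveI := (hY y).2
  have hyU : y ∈ U := hy ▸ hW hx
  let A := Y.presheaf.stalk y
  let K := FractionRing A
  have key : ∀ p q : Γ(Y, U), p ≠ 0 →
      (∀ (w : Y) (hw : w ⤳ y), ringKrullDim (Y.presheaf.stalk w) = 1 →
        Associated (Y.presheaf.germ U w (hw.mem_open U.2 hyU) p) (Y.presheaf.germ U w (hw.mem_open U.2 hyU) q)) →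
      Y.presheaf.germ U y hyU p ∣ Y.presheaf.germ U y hyU q := by
    intro p q hp H
    have hp0 : algebraMap A K (Y.presheaf.germ U y hyU p) ≠ 0 := fun e0 =>
      C.germ_ne_zero hyU hp (IsFractionRing.injective A K (e0.trans (map_zero _).symm))
    obtain ⟨r, hr⟩ := CAlgMisc2.mem_range_of_forall_height_one (R := A)
      (algebraMap A K (Y.presheaf.germ U y hyU q) / algebraMap A K (Y.presheaf.germ U y hyU p)) fun P hP hP1 => by
        obtain ⟨w, hw, rfl, hdim⟩ := exists_point_one P hP1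
        have hass := H w hw hdim
        rw [← TopCat.Presheaf.germ_stalkSpecializes_apply Y.presheaf hyU hw,
          ← TopCat.Presheaf.germ_stalkSpecializes_apply Y.presheaf hyU hw] at hass
        obtain ⟨s, hs, r, hr⟩ := (specializes_dvd hw).1 hass.dvd
        exact ⟨r, s, hs, by rw [div_mul_eq_mul_div, div_eq_iff hp0, ← map_mul, ← map_mul, mul_comm _ s, hr, mul_comm]⟩
    rw [eq_div_iff hp0, ← map_mul] at hr
    exact ⟨r, by rw [← IsFractionRing.injective A K hr, mul_comm]⟩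
  have H : ∀ (w : Y) (hw : w ⤳ y), ringKrullDim (Y.presheaf.stalk w) = 1 →
      Associated (Y.presheaf.germ U w (hw.mem_open U.2 hyU) (a * c'))
        (Y.presheaf.germ U w (hw.mem_open U.2 hyU) (a' * c)) := by
    intro w hw hdim
    haveI := hfib w hdim
    obtain ⟨h1, h2⟩ := exists_gen_fibre (f := f) hy hw
    obtain ⟨h3, -⟩ := exists_gen_fibre (f := f) hy' hw
    exact assoc_of_rel hY C he ht ht' h h' (h1.mem_open W.2 hx) (h3.mem_open W'.2 hx') h2
  exact associated_of_dvd_dvd (key _ _ h0 H) (key _ _ h0' fun w hw hd => (H w hw hd).symm)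

/-- Changing the proportion at a point of the fibre. -/
theorem exists_rel_same {W W' : X.Opens} {hW : W ≤ f ⁻¹ᵁ U} {hW' : W' ≤ f ⁻¹ᵁ U} {t : Γ(L, W)} {t' : Γ(L, W')}
    {a c a' c' : Γ(Y, U)} (ht : IsGen L W t) (ht' : IsGen L W' t') (h : Rel e W hW t a c)
    (h' : Rel e W' hW' t' a' c') (h0 : a ≠ 0 ∧ c ≠ 0 ∧ a' ≠ 0 ∧ c' ≠ 0) {x x' : X} (hx : x ∈ W) (hx' : x' ∈ W')
    (hfx : f x' = f x) :
    ∃ (W'' : X.Opens) (hW'' : W'' ≤ f ⁻¹ᵁ U) (t'' : Γ(L, W'')), x' ∈ W'' ∧ IsGen L W'' t'' ∧ Rel e W'' hW'' t'' a c := by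
  haveI := C.isDomain
  have hass := assoc_of_rel_fibre hY hfib C hL he ht ht' h h' (mul_ne_zero h0.1 h0.2.2.2)
    (mul_ne_zero h0.2.2.1 h0.2.1) hx hx' rfl hfx
  obtain ⟨V, hVU, hyV, v, hv⟩ := exists_unit_near (X := Y) (hW hx) hass
  let W'' : X.Opens := W' ⊓ f ⁻¹ᵁ V
  have e1 : W'' ≤ W' := inf_le_left
  have hWV : W'' ≤ f ⁻¹ᵁ V := inf_le_right
  let v' : Γ(X, W'')ˣ := Units.map (base f W'' hWV : Γ(Y, V) →* Γ(X, W'')) v
  refine ⟨W'', e1.trans hW', ((v'⁻¹ : _ˣ) : Γ(X, W'')) • resM L e1 t', ⟨hx', show f x' ∈ V by rwa [hfx]⟩,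
    (ht'.restrict e1).smul_unit _, ?_⟩
  have hr := h'.res e1
  have hv' : base f W'' (e1.trans hW') (a' * c) = (v' : Γ(X, W'')) * base f W'' (e1.trans hW') (a * c') := by
    have := congrArg (base f W'' hWV) hv
    simp only [map_mul, base_res hVU hWV] at this ⊢
    exact this
  unfold Rel at hr ⊢
  set α := (f.fiberι η).app W''
  set bs := base f W'' (e1.trans hW')
  have hc' := isUnit_appFib C (W := W'') (e1.trans hW') h0.2.2.2
  apply (hc'.smul_left_cancel).1
  rw [pullSec_smul]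
  calc α (bs c') • α (bs c) • α ((v'⁻¹ : _ˣ) : Γ(X, W'')) • pullSec (f.fiberι η) (resM L e1 t')
      = (α (bs c) * α ((v'⁻¹ : _ˣ) : Γ(X, W''))) • α (bs c') • pullSec (f.fiberι η) (resM L e1 t') := by
        simp only [← mul_smul]; congr 1; ring
    _ = (α ((v'⁻¹ : _ˣ) : Γ(X, W'')) * α (bs (a' * c))) • resM _ le_top e := by
        rw [hr, ← mul_smul, map_mul, map_mul]; congr 1; ring
    _ = α (bs c') • α (bs a) • resM _ le_top e := by
        rw [hv', ← map_mul, Units.inv_mul_cancel_left, ← mul_smul, map_mul, map_mul]; congr 1; ring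

/-- A generator over the preimage of an open neighbourhood, proportional to `e`. -/
theorem exists_gen_nhd [Surjective f] (hf : QuasiCompact f ∨ IsOpenMap f) (y : Y) (hy : y ∈ U) :
    ∃ (T : Y.Opens) (hTU : T ≤ U) (t : Γ(L, f ⁻¹ᵁ T)) (a c : Γ(Y, U)), y ∈ T ∧ IsGen L (f ⁻¹ᵁ T) t ∧
      a ≠ 0 ∧ c ≠ 0 ∧ Rel e (f ⁻¹ᵁ T) (fun _ hz => hTU hz) t a c := by
  haveI := C.isDomain
  obtain ⟨x, rfl⟩ := f.surjective y
  obtain ⟨W₀, hW₀, t₀, a, c, hx, ht₀, ha, hc, h₀⟩ := exists_rel hY hfib C hL he x hy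
  let S : Set X := {x' | ∃ (W : X.Opens) (hW : W ≤ f ⁻¹ᵁ U) (t : Γ(L, W)), x' ∈ W ∧ IsGen L W t ∧ Rel e W hW t a c}
  have hS : IsOpen S := isOpen_iff_forall_mem_open.2 fun x' ⟨W, hW, t, hx', ht, h⟩ =>
    ⟨W, fun z hz => ⟨W, hW, t, hz, ht, h⟩, W.2, hx'⟩
  have hsat : f ⁻¹' (f '' S) = S := by
    refine subset_antisymm ?_ (Set.subset_preimage_image _ _)
    rintro x' ⟨z, ⟨W, hW, t, hz, ht, h⟩, hfz⟩
    obtain ⟨W', hW', t', a', c', hx', ht', ha', hc', h'⟩ := exists_rel hY hfib C hL he x' (hfz ▸ hW hz)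
    exact exists_rel_same hY hfib C hL he ht ht' h h' ⟨ha, hc, ha', hc'⟩ hz hx' hfz.symm
  have hT : IsOpen (f '' S) := by
    rcases hf with hqc | ho
    · exact (Flat.isQuotientMap_of_surjective f).isOpen_preimage.1 (hsat.symm ▸ hS)
    · exact ho S hS
  let T : Y.Opens := ⟨f '' S, hT⟩
  have hTU : T ≤ U := by rintro _ ⟨z, ⟨W, hW, t, hz, -⟩, rfl⟩; exact hW hz
  have hmem : ∀ z : f ⁻¹ᵁ T, z.1 ∈ S := fun z => hsat.le z.2
  choose W hW t hzW ht hrel using hmem
  have hWT : ∀ z, W z ≤ f ⁻¹ᵁ T := fun z w hw => ⟨w, ⟨W z, hW z, t z, hw, ht z, hrel z⟩, rfl⟩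
  obtain ⟨s, hs, -⟩ := TopCat.Sheaf.existsUnique_gluing' (⟨L.presheaf, L.isSheaf⟩ : TopCat.Sheaf Ab X)
    W (f ⁻¹ᵁ T) (fun z => homOfLE (hWT z)) (fun z hz => Opens.mem_iSup.2 ⟨⟨z, hz⟩, hzW ⟨z, hz⟩⟩) t (fun i j => by
      show resM L inf_le_left (t i) = resM L inf_le_right (t j)
      refine eq_of_pullSec C hL (inf_le_left.trans (hW i)) ?_
      have h1 := (hrel i).res (inf_le_left : W i ⊓ W j ≤ W i)
      have h2 := (hrel j).res (inf_le_right : W i ⊓ W j ≤ W j)
      unfold Rel at h1 h2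
      exact (isUnit_appFib C (inf_le_left.trans (hW i)) hc).smul_left_cancel.1 (h1.trans h2.symm))
  have hs' : ∀ z, resM L (hWT z) s = t z := hs
  refine ⟨T, hTU, s, a, c, ⟨x, ⟨W₀, hW₀, t₀, hx, ht₀, h₀⟩, rfl⟩,
    isGen_of_cover W hWT (fun z hz => Opens.mem_iSup.2 ⟨⟨z, hz⟩, hzW ⟨z, hz⟩⟩) (fun z => (hs' z).symm ▸ ht z),
    ha, hc, ?_⟩
  refine AmpleLib.sec_ext _ _ _ fun z hz => ?_
  refine ⟨f.fiberι η ⁻¹ᵁ W ⟨f.fiberι η z, hz⟩, ((Opens.map (f.fiberι η).base).map (homOfLE (hWT _))).le,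
    hzW ⟨f.fiberι η z, hz⟩, ?_⟩
  have h := hrel ⟨f.fiberι η z, hz⟩
  unfold Rel at h
  rw [resM_smul, resM_smul, resM_resM, resM_pullSec (f.fiberι η) (hWT _), ← appFib_res (hWT _),
    ← appFib_res (hWT _), res_base, res_base, hs']
  exact h

omit hfib hL in
/-- The ratio of two generators proportional to `e` comes from the base, near any point. -/
theorem exists_ratio_nhd [Surjective f] {T : Y.Opens} (hTU : T ≤ U) {t t' : Γ(L, f ⁻¹ᵁ T)}
    {a c a' c' : Γ(Y, U)} (h0 : a * c' ≠ 0)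
    (h : Rel e (f ⁻¹ᵁ T) (fun _ hz => hTU hz) t a c) (h' : Rel e (f ⁻¹ᵁ T) (fun _ hz => hTU hz) t' a' c')
    (u : Γ(X, f ⁻¹ᵁ T)) (hu : t' = u • t) (y : Y) (hy : y ∈ T) :
    ∃ (V : Y.Opens) (hVT : V ≤ T) (v : Γ(Y, V)), y ∈ V ∧
      f.app V v = PicLib.res ((Opens.map f.base).map (homOfLE hVT)).le u := by
  haveI := C.isDomain
  let p : Γ(Y, U) := a * c'
  let q : Γ(Y, U) := a' * c
  have key := coef_eq C he h h' hu
  have hx : ∀ (x : X) (hxT : f x ∈ T), X.presheaf.germ (f ⁻¹ᵁ T) x hxT u *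
      (f.stalkMap x).hom (Y.presheaf.germ U (f x) (hTU hxT) p) =
        (f.stalkMap x).hom (Y.presheaf.germ U (f x) (hTU hxT) q) := by
    intro x hxT
    have hkey := congrArg (X.presheaf.germ (f ⁻¹ᵁ T) x hxT) key
    rw [map_mul, germ_base (W := f ⁻¹ᵁ T) _ hxT rfl, germ_base (W := f ⁻¹ᵁ T) _ hxT rfl, φ_rfl] at hkey
    exact hkey
  obtain ⟨x, rfl⟩ := f.surjective y
  have hdvd : Y.presheaf.germ U (f x) (hTU hy) p ∣ Y.presheaf.germ U (f x) (hTU hy) q := by
    refine Ideal.mem_span_singleton.1 ((comap_map_φ f (rfl : f x = f x) (Ideal.span {_})).le ?_)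
    rw [Ideal.mem_comap, Ideal.map_span, Set.image_singleton, Ideal.mem_span_singleton, φ_rfl]
    exact Dvd.intro_left _ (hx x hy)
  obtain ⟨w, hw⟩ := hdvd
  obtain ⟨V₀, hV₀, v₀, rfl⟩ := Y.presheaf.exists_germ_eq w
  let O : Y.Opens := V₀ ⊓ T
  have e1 : O ≤ V₀ := inf_le_left
  have e2 : O ≤ U := inf_le_right.trans hTU
  obtain ⟨V, hxV, i1, i2, heq⟩ := Y.presheaf.germ_eq (f x) (⟨hV₀, hy⟩ : f x ∈ O) (⟨hV₀, hy⟩ : f x ∈ O)
    (PicLib.res e1 v₀ * PicLib.res e2 p) (PicLib.res e2 q) (by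
      rw [map_mul, StarGlue.germ_resO, StarGlue.germ_resO, StarGlue.germ_resO, hw, mul_comm])
  have hVT : V ≤ T := i1.le.trans inf_le_right
  have hVV : V ≤ V₀ := i1.le.trans e1
  refine ⟨V, hVT, PicLib.res hVV v₀, hxV, ?_⟩
  refine TopCat.Presheaf.section_ext X.sheaf _ _ _ fun z (hz : f z ∈ V) => ?_
  show X.presheaf.germ (f ⁻¹ᵁ V) z hz _ = X.presheaf.germ (f ⁻¹ᵁ V) z hz _
  rw [← Scheme.Hom.germ_stalkMap_apply f V z hz, StarGlue.germ_resO, StarGlue.germ_resO]
  have hnzd : (f.stalkMap z).hom (Y.presheaf.germ U (f z) (hTU (hVT hz)) p) ∈ nonZeroDivisors (X.presheaf.stalk z) := by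
    haveI := (hY (f z)).1
    letI := (f.stalkMap z).hom.toAlgebra
    haveI : Module.Flat (Y.presheaf.stalk (f z)) (X.presheaf.stalk z) := Flat.stalkMap f z
    haveI : IsLocalHom (algebraMap (Y.presheaf.stalk (f z)) (X.presheaf.stalk z)) :=
      inferInstanceAs (IsLocalHom (f.stalkMap z).hom)
    exact isNZD (A := Y.presheaf.stalk (f z)) (B := X.presheaf.stalk z) (C.germ_ne_zero (hTU (hVT hz)) h0)
  refine (mul_cancel_right_mem_nonZeroDivisors hnzd).1 ?_
  refine Eq.trans ?_ (hx z (hVT hz)).symm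
  rw [← map_mul]
  refine congrArg (f.stalkMap z).hom ?_
  have h3 : Y.presheaf.germ V (f z) hz (PicLib.res i1.le (PicLib.res e1 v₀ * PicLib.res e2 p)) =
      Y.presheaf.germ V (f z) hz (PicLib.res i2.le (PicLib.res e2 q)) := congrArg _ heq
  rw [StarGlue.germ_resO, StarGlue.germ_resO, map_mul, StarGlue.germ_resO, StarGlue.germ_resO,
    StarGlue.germ_resO] at h3
  exact h3

end

end Groth.Agent.CAlgH3.DescPic
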