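import Mathlib
import Groth.Agent.CAlgH3.DescPicLocal

/-!
# Descent of invertible modules trivial on the maximal fibres (EGA IV 21.4.13)
-/

set_option autoImplicit false
set_option backward.isDefEq.respectTransparency false
set_option backward.isDefEq.respectTransparency.types false
set_option maxHeartbeats 400000
universe u

open AlgebraicGeometry CategoryTheory CategoryTheory.Limits TopologicalSpace IsLocalRing Opposite
open Groth.Agent.Coherent Groth.Agent.PicLib Groth.Agent.Misc15.DivDescent Groth.Agent.VarietyLib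
open Groth.Agent.H8Coh

namespace Groth.Agent.CAlgH3.DescPic

variable {X Y : Scheme.{u}}

theorem exists_gen_of_iso {S : Scheme.{u}} {M : S.Modules} (i : M ≅ Coh.structureModule S) :
    ∃ t : Γ(M, ⊤), IsGen M ⊤ t := by
  refine ⟨i.inv.app ⊤ (1 : Γ(S, ⊤)), fun V hV => ?_⟩
  have hb := (ConcreteCategory.bijective_of_isIso (i.inv.app V)).comp (TransClass.isGen_one (⊤ : S.Opens) V hV)
  convert hb using 1
  funext r
  show r • resM M hV _ = i.inv.app V (r • _)
  rw [← app_resM, Scheme.Modules.Hom.app_smul]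

theorem exists_chart [IsLocallyNoetherian Y] (hY : Pi1.IsNormalScheme Y) (y : Y) :
    ∃ (U : Y.Opens) (η : Y), y ∈ U ∧ Chart η U := by
  obtain ⟨W, hyW, hW⟩ := NeronLib.exists_isIntegral_nhd hY y
  obtain ⟨U, hU, hyU, hUW⟩ := exists_isAffineOpen_mem_and_subset (x := y) (U := W) hyW
  haveI : Nonempty U.toScheme := ⟨⟨y, hyU⟩⟩
  haveI : IsIntegral U.toScheme := isIntegral_of_isOpenImmersion (Y.homOfLE (hUW : U ≤ W))
  refine ⟨U, U.ι (genericPoint U.toScheme), hyU, hU, (genericPoint U.toScheme).2, fun z hz => ?_, ‹_›⟩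
  exact ((genericPoint_specializes (α := U.toScheme)) ⟨z, hz⟩).map U.ι.continuous

theorem app_injective (f : X ⟶ Y) [Flat f] [Surjective f] {V : Y.Opens} {v v' : Γ(Y, V)}
    (h : f.app V v = f.app V v') : v = v' := by
  refine TopCat.Presheaf.section_ext Y.sheaf _ _ _ fun y hy => ?_
  obtain ⟨x, rfl⟩ := f.surjective y
  refine φ_injective f (rfl : f x = f x) ?_
  erw [φ_germ f (rfl : f x = f x) hy v, φ_germ f (rfl : f x = f x) hy v', h]

variable {f : X ⟶ Y} {L : X.Modules}

/-- Two generators over charts with the same generic point have a ratio from the base. -/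
theorem exists_ratio_two [IsLocallyNoetherian X] [IsLocallyNoetherian Y] [Flat f] [Surjective f]
    (hY : Pi1.IsNormalScheme Y)
    (E : ∀ η : Y, (∀ z, z ⤳ η → z = η) → Γ((Scheme.Modules.pullback (f.fiberι η)).obj L, ⊤))
    (hE : ∀ η h, IsGen _ ⊤ (E η h))
    {η η' : Y} {U U' : Y.Opens} (C : Chart η U) (C' : Chart η' U') {T T' : Y.Opens} (hT : T ≤ U) (hT' : T' ≤ U')
    {t : Γ(L, f ⁻¹ᵁ T)} {t' : Γ(L, f ⁻¹ᵁ T')} {a c : Γ(Y, U)} {a' c' : Γ(Y, U')} (h0 : a ≠ 0 ∧ c' ≠ 0)
    (h : Rel (E η fun _ hz => C.maximal hz) (f ⁻¹ᵁ T) (fun _ hz => hT hz) t a c)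
    (h' : Rel (E η' fun _ hz => C'.maximal hz) (f ⁻¹ᵁ T') (fun _ hz => hT' hz) t' a' c')
    (u : Γ(X, f ⁻¹ᵁ (T ⊓ T')))
    (hu : resM L ((Opens.map f.base).map (homOfLE inf_le_right)).le t' =
      u • resM L ((Opens.map f.base).map (homOfLE inf_le_left)).le t)
    (y : Y) (hy : y ∈ T ⊓ T') :
    ∃ (V : Y.Opens) (hVT : V ≤ T ⊓ T') (v : Γ(Y, V)), y ∈ V ∧
      f.app V v = PicLib.res ((Opens.map f.base).map (homOfLE hVT)).le u := by
  have h1 : η' ∈ U := (C'.gen y (hT' hy.2)).mem_open U.2 (hT hy.1)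
  have h2 : η ∈ U' := (C.gen y (hT hy.1)).mem_open U'.2 (hT' hy.2)
  obtain rfl : η = η' := ((C.gen η' h1).antisymm (C'.gen η h2)).eq
  obtain ⟨U'', hU'', hyU'', hle⟩ := exists_isAffineOpen_mem_and_subset (x := y) (U := T ⊓ T') hy
  have hle1 : U'' ≤ U := fun z hz => hT (hle hz).1
  have hle2 : U'' ≤ U' := fun z hz => hT' (hle hz).2
  have hleT : U'' ≤ T ⊓ T' := hle
  have C'' : Chart η U'' := C.restrict hU'' hle1 hyU''
  have hsub1 : f ⁻¹ᵁ U'' ≤ f ⁻¹ᵁ T := fun z hz => (hle hz).1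
  have hsub2 : f ⁻¹ᵁ U'' ≤ f ⁻¹ᵁ T' := fun z hz => (hle hz).2
  have hne : ∀ (U₀ : Y.Opens) (C₀ : Chart η U₀) (h₀ : U'' ≤ U₀) (r : Γ(Y, U₀)), r ≠ 0 → PicLib.res h₀ r ≠ 0 := by
    intro U₀ C₀ h₀ r hr he
    refine C₀.germ_ne_zero (h₀ hyU'') hr ?_
    rw [← StarGlue.germ_resO h₀ hyU'', he, map_zero]
  haveI := C''.isDomain
  obtain ⟨V, hV, v, hyV, hv⟩ := exists_ratio_nhd hY C'' (hE η _) (le_refl U'')
    (t := resM L hsub1 t) (t' := resM L hsub2 t')
    (a := PicLib.res hle1 a) (c := PicLib.res hle1 c) (a' := PicLib.res hle2 a') (c' := PicLib.res hle2 c')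
    (mul_ne_zero (hne U C hle1 a h0.1) (hne U' C' hle2 c' h0.2))
    ((h.res hsub1).resBase hle1 le_rfl) ((h'.res hsub2).resBase hle2 le_rfl)
    (PicLib.res ((Opens.map f.base).map (homOfLE hleT)).le u) (by
      have := congrArg (resM L ((Opens.map f.base).map (homOfLE hleT)).le) hu
      rw [resM_smul, resM_resM, resM_resM] at this
      exact this) y hyU''
  refine ⟨V, hV.trans hleT, v, hyV, ?_⟩
  rw [hv, PicLib.res_res]

/-- An invertible module trivial on the maximal fibres comes from the base. -/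
theorem exists_descent [IsLocallyNoetherian X] [IsLocallyNoetherian Y] (f : X ⟶ Y) [Flat f] [Surjective f]
    (hf : QuasiCompact f ∨ IsOpenMap f) (hY : Pi1.IsNormalScheme Y) (hfib : FibresOne f)
    (L : X.Modules) (hL : PicF.IsInvertible L)
    (htriv : ∀ η : Y, (∀ z, z ⤳ η → z = η) →
      Nonempty ((Scheme.Modules.pullback (f.fiberι η)).obj L ≅ Coh.structureModule (f.fiber η))) :
    ∃ M : Y.Modules, PicF.IsInvertible M ∧ Nonempty ((Scheme.Modules.pullback f).obj M ≅ L) := by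
  choose E hE using fun (η : Y) (h : ∀ z, z ⤳ η → z = η) => exists_gen_of_iso (htriv η h).some
  choose U η hyU C using exists_chart hY
  choose T hTU t a c hyT ht ha hc hrel using fun y =>
    exists_gen_nhd hY hfib (C y) hL (hE (η y) fun _ hz => (C y).maximal hz) hf y (hyU y)
  -- transition functions
  have hη : ∀ i j, ∃ v : Γ(Y, T i ⊓ T j), resM L ((Opens.map f.base).map (homOfLE inf_le_left)).le (t i) =
      f.app (T i ⊓ T j) v • resM L ((Opens.map f.base).map (homOfLE inf_le_right)).le (t j) := by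
    intro i j
    have hg := (ht j).restrict ((Opens.map f.base).map (homOfLE (inf_le_right : T i ⊓ T j ≤ T j))).le
    let u := hg.coef le_rfl (resM L ((Opens.map f.base).map (homOfLE (inf_le_left : T i ⊓ T j ≤ T i))).le (t i))
    have hu : resM L ((Opens.map f.base).map (homOfLE (inf_le_left : T i ⊓ T j ≤ T i))).le (t i) =
        u • resM L ((Opens.map f.base).map (homOfLE (inf_le_right : T i ⊓ T j ≤ T j))).le (t j) := by
      have := hg.coef_spec le_rfl (resM L ((Opens.map f.base).map (homOfLE (inf_le_left : T i ⊓ T j ≤ T i))).le (t i))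
      rw [resM_self] at this
      exact this.symm
    have hloc : ∀ y : ↥(T i ⊓ T j), ∃ (V : Y.Opens) (hVT : V ≤ T i ⊓ T j) (v : Γ(Y, V)), y.1 ∈ V ∧
        f.app V v = PicLib.res ((Opens.map f.base).map (homOfLE hVT)).le u := by
      intro y
      have hle1 : T i ⊓ T j ≤ T j ⊓ T i := le_of_eq (inf_comm _ _)
      have hle2 : T j ⊓ T i ≤ T i ⊓ T j := le_of_eq (inf_comm _ _)
      obtain ⟨V, hV, v, hy, hv⟩ := exists_ratio_two hY E hE (C j) (C i) (hTU j) (hTU i) ⟨ha j, hc i⟩ (hrel j) (hrel i)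
        (PicLib.res ((Opens.map f.base).map (homOfLE hle2)).le u) (by
          have := congrArg (resM L ((Opens.map f.base).map (homOfLE hle2)).le) hu
          rw [resM_smul, resM_resM, resM_resM] at this
          exact this) y.1 (hle1 y.2)
      exact ⟨V, hV.trans hle2, v, hy, by rw [hv, PicLib.res_res]⟩
    choose V hV v hyV hv using hloc
    obtain ⟨w, hw, -⟩ := TopCat.Sheaf.existsUnique_gluing' Y.sheaf V (T i ⊓ T j) (fun y => homOfLE (hV y))
      (fun y hy => Opens.mem_iSup.2 ⟨⟨y, hy⟩, hyV ⟨y, hy⟩⟩) v (fun p q => by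
        refine app_injective f ?_
        show f.app _ (PicLib.res inf_le_left (v p)) = f.app _ (PicLib.res inf_le_right (v q))
        have e1 := ConcreteCategory.congr_hom (f.naturality (homOfLE (inf_le_left : V p ⊓ V q ≤ V p)).op) (v p)
        have e2 := ConcreteCategory.congr_hom (f.naturality (homOfLE (inf_le_right : V p ⊓ V q ≤ V q)).op) (v q)
        refine (e1.trans ?_).trans e2.symm
        show PicLib.res _ (f.app (V p) (v p)) = PicLib.res _ (f.app (V q) (v q))
        rw [hv, hv, PicLib.res_res, PicLib.res_res])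
    refine ⟨w, hu.trans (congrArg (· • _) ?_)⟩
    refine TopCat.Presheaf.section_ext X.sheaf _ _ _ fun z (hz : f z ∈ T i ⊓ T j) => ?_
    have hz' : f z ∈ V ⟨f z, hz⟩ := hyV _
    have h1 := congrArg (X.presheaf.germ (f ⁻¹ᵁ V ⟨f z, hz⟩) z hz') (hv ⟨f z, hz⟩)
    have hwv : PicLib.res (hV ⟨f z, hz⟩) w = v ⟨f z, hz⟩ := hw _
    rw [← hwv, StarGlue.germ_resO] at h1
    have e1 := ConcreteCategory.congr_hom (f.naturality (homOfLE (hV ⟨f z, hz⟩)).op) w
    rw [show f.app (V ⟨f z, hz⟩) (PicLib.res (hV ⟨f z, hz⟩) w) = _ from e1] at h1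
    refine h1.symm.trans ?_
    exact StarGlue.germ_resO ((Opens.map f.base).map (homOfLE (hV ⟨f z, hz⟩))).le hz' _
  choose v hv using hη
  have hpre : ∀ i j (W : Y.Opens) (hi : W ≤ T i) (hj : W ≤ T j),
      resM L ((Opens.map f.base).map (homOfLE hi)).le (t i) =
        f.app W (PicLib.res (le_inf hi hj) (v i j)) • resM L ((Opens.map f.base).map (homOfLE hj)).le (t j) := by
    intro i j W hi hj
    have h1 := congrArg (resM L ((Opens.map f.base).map (homOfLE (le_inf hi hj))).le) (hv i j)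
    rw [resM_smul, resM_resM, resM_resM] at h1
    rw [show f.app W (PicLib.res (le_inf hi hj) (v i j)) = _ from
      ConcreteCategory.congr_hom (f.naturality (homOfLE (le_inf hi hj)).op) (v i j)]
    exact h1
  have hcocyc : ∀ i j k (W : Y.Opens) (hi : W ≤ T i) (hj : W ≤ T j) (hk : W ≤ T k),
      PicLib.res (le_inf hi hk) (v i k) = PicLib.res (le_inf hi hj) (v i j) * PicLib.res (le_inf hj hk) (v j k) := by
    intro i j k W hi hj hk
    refine app_injective f (((ht k) (f ⁻¹ᵁ W) ((Opens.map f.base).map (homOfLE hk)).le).1 ?_)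
    show f.app W _ • resM L _ (t k) = f.app W _ • resM L _ (t k)
    rw [map_mul, mul_smul, ← hpre i k W hi hk, ← hpre j k W hj hk, ← hpre i j W hi hj]
  have hself : ∀ i (W : Y.Opens) (hi : W ≤ T i), PicLib.res (le_inf hi hi) (v i i) = 1 := by
    intro i W hi
    refine app_injective f (((ht i) (f ⁻¹ᵁ W) ((Opens.map f.base).map (homOfLE hi)).le).1 ?_)
    show f.app W _ • resM L _ (t i) = f.app W 1 • resM L _ (t i)
    rw [← hpre i i W hi hi, map_one, one_smul]
  have hunit : ∀ i j, IsUnit (v i j) := by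
    intro i j
    have h := hcocyc i j i (T i ⊓ T j) inf_le_left inf_le_right inf_le_left
    rw [hself i _ inf_le_left] at h
    have e : PicLib.res (le_inf inf_le_left inf_le_right : T i ⊓ T j ≤ T i ⊓ T j) (v i j) = v i j :=
      ConcreteCategory.congr_hom (Y.presheaf.map_id (op (T i ⊓ T j))) (v i j)
    rw [e] at h
    exact IsUnit.of_mul_eq_one _ h.symm
  have hcov : iSup T = ⊤ := eq_top_iff.2 fun y _ => Opens.mem_iSup.2 ⟨y, hyT y⟩
  obtain ⟨α, hα⟩ := TransClass.exists_trans hcov v hunit hcocyc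
  have hcov' : (⨆ i, f ⁻¹ᵁ T i) = ⊤ := eq_top_iff.2 fun x _ => Opens.mem_iSup.2 ⟨f x, hyT (f x)⟩
  have hLt : TransClass.HasTrans (fun i => f ⁻¹ᵁ T i) (PicM.of hL) (fun i j => f.app (T i ⊓ T j) (v i j)) :=
    ⟨L, hL, t, rfl, ht, fun i j => hv i j⟩
  have heq := TransClass.HasTrans.unique hcov' (hα.pull f) hLt
  obtain ⟨M, hM, rfl⟩ := PicM.exists_eq_of α
  rw [PicM.pull_of] at heq
  exact ⟨M, hM, (PicM.of_eq_iff _ _).1 heq⟩

end Groth.Agent.CAlgH3.DescPic
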