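import Mathlib

/-! The different ideal commutes with localization. -/

set_option autoImplicit false
universe u

open scoped nonZeroDivisors

attribute [local instance] FractionRing.liftAlgebra

namespace Groth.Agent.CAlgH3.DifferentLocalization

theorem mem_differentIdeal_iff (A B K L : Type u) [CommRing A] [CommRing B] [Field K] [Field L] [IsDomain A] [IsDomain B]
    [Algebra A K] [IsFractionRing A K] [Algebra B L] [IsFractionRing B L] [Algebra A B] [Algebra K L] [Algebra A L]
    [IsScalarTower A K L] [IsScalarTower A B L] [IsIntegrallyClosed A] [IsDedekindDomain B] [Module.IsTorsionFree A B]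
    [IsIntegralClosure B A L] [FiniteDimensional K L] [Algebra.IsSeparable K L] (x : B) :
    x ∈ differentIdeal A B ↔ ∀ z ∈ Submodule.traceDual A K (1 : Submodule B L), ∃ b, algebraMap B L b = algebraMap B L x * z := by
  have h := coeSubmodule_differentIdeal A K (B := B) (L := L)
  constructor
  · intro hx z hz
    have : algebraMap B L x ∈ IsLocalization.coeSubmodule L (differentIdeal A B) := ⟨x, hx, rfl⟩
    rw [h, Submodule.mem_div_iff_forall_mul_mem] at this
    exact Submodule.mem_one.1 (this z hz)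
  · intro hx
    have : algebraMap B L x ∈ IsLocalization.coeSubmodule L (differentIdeal A B) := by
      rw [h, Submodule.mem_div_iff_forall_mul_mem]
      exact fun z hz => Submodule.mem_one.2 (hx z hz)
    obtain ⟨y, hy, hyx⟩ := this
    exact IsFractionRing.injective B L hyx ▸ hy

theorem main (A B : Type u) [CommRing A] [CommRing B]
    [IsDedekindDomain A] [IsDedekindDomain B] [Algebra A B] [Module.Finite A B] [Module.IsTorsionFree A B]
    [Algebra.IsSeparable (FractionRing A) (FractionRing B)]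
    (S : Submonoid A) (hS : S ≤ nonZeroDivisors A)
    (Aₛ Bₛ : Type u) [CommRing Aₛ] [CommRing Bₛ] [Algebra A Aₛ] [Algebra B Bₛ] [Algebra Aₛ Bₛ]
    [Algebra A Bₛ] [IsScalarTower A Aₛ Bₛ] [IsScalarTower A B Bₛ]
    [IsLocalization S Aₛ] [IsLocalization (Algebra.algebraMapSubmonoid B S) Bₛ]
    [IsDomain Aₛ] [IsIntegrallyClosed Aₛ] [IsDedekindDomain Bₛ] [Module.IsTorsionFree Aₛ Bₛ] :
    Ideal.map (algebraMap B Bₛ) (differentIdeal A B) = differentIdeal Aₛ Bₛ := by
  classical
  let K := FractionRing A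
  let L := FractionRing B
  have hM : Algebra.algebraMapSubmonoid B S ≤ B⁰ := by
    rintro _ ⟨s, hs, rfl⟩
    exact mem_nonZeroDivisors_of_ne_zero ((map_ne_zero_iff _ (FaithfulSMul.algebraMap_injective A B)).2
      (nonZeroDivisors.ne_zero (hS hs)))
  have hu : ∀ s : S, IsUnit (algebraMap A K s) := fun s => IsLocalization.map_units K ⟨s.1, hS s.2⟩
  have huB : ∀ s : Algebra.algebraMapSubmonoid B S, IsUnit (algebraMap B L s) := fun s =>
    IsLocalization.map_units L ⟨s.1, hM s.2⟩
  letI : Algebra Aₛ K := (IsLocalization.lift hu).toAlgebra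
  letI : Algebra Bₛ L := (IsLocalization.lift huB).toAlgebra
  haveI : IsScalarTower A Aₛ K := IsScalarTower.of_algebraMap_eq fun a => (IsLocalization.lift_eq hu a).symm
  haveI : IsScalarTower B Bₛ L := IsScalarTower.of_algebraMap_eq fun a => (IsLocalization.lift_eq huB a).symm
  letI : Algebra Aₛ L := ((algebraMap K L).comp (algebraMap Aₛ K)).toAlgebra
  haveI : IsScalarTower Aₛ K L := IsScalarTower.of_algebraMap_eq fun _ => rfl
  haveI : IsScalarTower A Aₛ L := IsScalarTower.of_algebraMap_eq fun a => by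
    rw [IsScalarTower.algebraMap_apply Aₛ K L, ← IsScalarTower.algebraMap_apply A Aₛ K, ← IsScalarTower.algebraMap_apply A K L]
  haveI : IsScalarTower Aₛ Bₛ L := IsScalarTower.of_algebraMap_eq' (IsLocalization.ringHom_ext S (RingHom.ext fun a => by
    simp only [RingHom.comp_apply]
    rw [← IsScalarTower.algebraMap_apply A Aₛ Bₛ, IsScalarTower.algebraMap_apply A B Bₛ,
      ← IsScalarTower.algebraMap_apply B Bₛ L, ← IsScalarTower.algebraMap_apply A Aₛ L, ← IsScalarTower.algebraMap_apply A B L]))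
  haveI : IsFractionRing Aₛ K := IsFractionRing.isFractionRing_of_isDomain_of_isLocalization S Aₛ K
  haveI : IsFractionRing Bₛ L :=
    IsFractionRing.isFractionRing_of_isDomain_of_isLocalization (Algebra.algebraMapSubmonoid B S) Bₛ L
  haveI : Module.Finite Aₛ Bₛ := Module.Finite.of_isLocalization A B S
  haveI : FiniteDimensional K L := Module.Finite.of_isLocalization A B A⁰
  haveI : IsIntegralClosure B A L := IsIntegralClosure.of_isIntegrallyClosed B A L
  haveI : IsIntegralClosure Bₛ Aₛ L := IsIntegralClosure.of_isIntegrallyClosed Bₛ Aₛ L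
  have htr : ∀ z : L, z ∈ Submodule.traceDual A K (1 : Submodule B L) ↔
      ∀ b : B, ∃ a, algebraMap A K a = Algebra.trace K L (z * algebraMap B L b) := fun z => by
    rw [Submodule.mem_traceDual]
    exact ⟨fun h b => h _ (Submodule.mem_one.2 ⟨b, rfl⟩), fun h w hw => by
      obtain ⟨b, rfl⟩ := Submodule.mem_one.1 hw; exact h b⟩
  have htrs : ∀ z : L, z ∈ Submodule.traceDual Aₛ K (1 : Submodule Bₛ L) ↔
      ∀ b : Bₛ, ∃ a, algebraMap Aₛ K a = Algebra.trace K L (z * algebraMap Bₛ L b) := fun z => by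
    rw [Submodule.mem_traceDual]
    exact ⟨fun h b => h _ (Submodule.mem_one.2 ⟨b, rfl⟩), fun h w hw => by
      obtain ⟨b, rfl⟩ := Submodule.mem_one.1 hw; exact h b⟩
  have hscale : ∀ (s : A) (w : L), Algebra.trace K L (algebraMap A L s * w) = algebraMap A K s * Algebra.trace K L w := fun s w => by
    rw [IsScalarTower.algebraMap_apply A K L, ← Algebra.smul_def, map_smul, smul_eq_mul]
  have hup : ∀ z ∈ Submodule.traceDual A K (1 : Submodule B L), z ∈ Submodule.traceDual Aₛ K (1 : Submodule Bₛ L) := by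
    intro z hz
    rw [htrs]
    intro w
    obtain ⟨⟨b, _, s, hs, rfl⟩, hb⟩ := IsLocalization.surj (Algebra.algebraMapSubmonoid B S) w
    obtain ⟨a, ha⟩ := (htr z).1 hz b
    refine ⟨IsLocalization.mk' Aₛ a ⟨s, hs⟩, (hu ⟨s, hs⟩).mul_left_cancel ?_⟩
    show algebraMap A K s * algebraMap Aₛ K _ = algebraMap A K s * _
    rw [← hscale, IsScalarTower.algebraMap_apply A Aₛ K, ← map_mul, IsLocalization.mk'_spec'_mk,
      ← IsScalarTower.algebraMap_apply A Aₛ K, ha]
    congr 1
    rw [IsScalarTower.algebraMap_apply B Bₛ L, ← hb, map_mul, ← IsScalarTower.algebraMap_apply B Bₛ L,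
      ← IsScalarTower.algebraMap_apply A B L]
    ring
  obtain ⟨g, hg⟩ := Module.Finite.fg_top (R := A) (M := B)
  have hdown : ∀ z ∈ Submodule.traceDual Aₛ K (1 : Submodule Bₛ L), ∃ s ∈ S,
      algebraMap A L s * z ∈ Submodule.traceDual A K (1 : Submodule B L) := by
    intro z hz
    have : ∀ b : B, ∃ s ∈ S, ∃ a, algebraMap A K a = algebraMap A K s * Algebra.trace K L (z * algebraMap B L b) := fun b => by
      obtain ⟨a', ha'⟩ := (htrs z).1 hz (algebraMap B Bₛ b)
      obtain ⟨⟨a, s, hs⟩, hh⟩ := IsLocalization.surj S a'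
      refine ⟨s, hs, a, ?_⟩
      rw [IsScalarTower.algebraMap_apply A Aₛ K, ← hh, map_mul, ha', ← IsScalarTower.algebraMap_apply A Aₛ K,
        ← IsScalarTower.algebraMap_apply B Bₛ L, mul_comm]
    choose s hs a ha using this
    refine ⟨∏ b ∈ g, s b, prod_mem fun b _ => hs b, (htr _).2 fun b => ?_⟩
    have hbmem : b ∈ Submodule.span A (g : Set B) := hg ▸ Submodule.mem_top
    induction hbmem using Submodule.span_induction with
    | mem b hb =>
      refine ⟨(∏ c ∈ g.erase b, s c) * a b, ?_⟩
      rw [mul_assoc, hscale, map_mul (algebraMap A K), ha, ← Finset.prod_erase_mul g s hb, map_mul (algebraMap A K), mul_assoc]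
    | zero => exact ⟨0, by simp⟩
    | add b c _ _ ih ih' =>
      obtain ⟨x, hx⟩ := ih; obtain ⟨y, hy⟩ := ih'
      exact ⟨x + y, by rw [map_add, map_add, mul_add, map_add, hx, hy]⟩
    | smul r b _ ih =>
      obtain ⟨x, hx⟩ := ih
      exact ⟨r * x, by rw [map_mul (algebraMap A K), hx, Algebra.smul_def, map_mul (algebraMap B L), ← IsScalarTower.algebraMap_apply A B L, mul_left_comm _ (algebraMap A L r), ← hscale]⟩
  refine le_antisymm (Ideal.map_le_iff_le_comap.2 fun x hx => ?_) fun w hw => ?_
  · rw [Ideal.mem_comap, mem_differentIdeal_iff Aₛ Bₛ K L]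
    intro z hz
    obtain ⟨s, hs, hsz⟩ := hdown z hz
    obtain ⟨b, hb⟩ := (mem_differentIdeal_iff A B K L x).1 hx _ hsz
    refine ⟨IsLocalization.mk' Bₛ b ⟨algebraMap A B s, Algebra.mem_algebraMapSubmonoid_of_mem ⟨s, hs⟩⟩, (huB ⟨algebraMap A B s, Algebra.mem_algebraMapSubmonoid_of_mem ⟨s, hs⟩⟩).mul_left_cancel ?_⟩
    show algebraMap B L (algebraMap A B s) * algebraMap Bₛ L _ = algebraMap B L (algebraMap A B s) * _
    rw [IsScalarTower.algebraMap_apply B Bₛ L (algebraMap A B s), ← map_mul, IsLocalization.mk'_spec'_mk,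
      ← IsScalarTower.algebraMap_apply B Bₛ L, hb, ← IsScalarTower.algebraMap_apply B Bₛ L,
      ← IsScalarTower.algebraMap_apply B Bₛ L, ← IsScalarTower.algebraMap_apply A B L]
    ring
  · obtain ⟨⟨b, _, s, hs, rfl⟩, hb⟩ := IsLocalization.surj (Algebra.algebraMapSubmonoid B S) w
    have hbd : algebraMap B Bₛ b ∈ differentIdeal Aₛ Bₛ := hb ▸ Ideal.mul_mem_right _ _ hw
    have hfg : (Submodule.traceDual A K (1 : Submodule B L)).FG := by
      haveI : IsNoetherianRing B := inferInstance
      have h1 : ((FractionalIdeal.dual A K (1 : FractionalIdeal B⁰ L)) : Submodule B L).FG := by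
        haveI := FractionalIdeal.isNoetherian (FractionalIdeal.dual A K (1 : FractionalIdeal B⁰ L))
        exact Module.Finite.iff_fg.1 inferInstance
      rwa [FractionalIdeal.coe_dual_one] at h1
    obtain ⟨Z, hZ⟩ := hfg
    have : ∀ z : Z, ∃ t ∈ S, ∃ c, algebraMap B L c = algebraMap A L t * (algebraMap B L b * z.1) := fun z => by
      obtain ⟨c', hc'⟩ := (mem_differentIdeal_iff Aₛ Bₛ K L _).1 hbd z.1 (hup _ (hZ ▸ Submodule.subset_span z.2))
      obtain ⟨⟨c, _, t, ht, rfl⟩, hh⟩ := IsLocalization.surj (Algebra.algebraMapSubmonoid B S) c'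
      refine ⟨t, ht, c, ?_⟩
      rw [IsScalarTower.algebraMap_apply B Bₛ L c, ← hh, map_mul, hc', ← IsScalarTower.algebraMap_apply B Bₛ L,
        ← IsScalarTower.algebraMap_apply B Bₛ L, ← IsScalarTower.algebraMap_apply A B L, mul_comm]
    choose t ht c hc using this
    let T := ∏ z, t z
    have hT : algebraMap A B T * b ∈ differentIdeal A B := by
      rw [mem_differentIdeal_iff A B K L]
      intro z hz
      rw [← hZ] at hz
      induction hz using Submodule.span_induction with
      | mem z hz =>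
        refine ⟨algebraMap A B (∏ y ∈ Finset.univ.erase ⟨z, hz⟩, t y) * c ⟨z, hz⟩, ?_⟩
        rw [map_mul, hc, map_mul, ← IsScalarTower.algebraMap_apply A B L, ← IsScalarTower.algebraMap_apply A B L,
          show algebraMap A L T = algebraMap A L (∏ y ∈ Finset.univ.erase (⟨z, hz⟩ : Z), t y) * algebraMap A L (t ⟨z, hz⟩) by
            rw [← map_mul, Finset.prod_erase_mul _ _ (Finset.mem_univ _)]]
        ring
      | zero => exact ⟨0, by simp⟩
      | add y z _ _ ih ih' =>
        obtain ⟨p, hp⟩ := ih; obtain ⟨q, hq⟩ := ih'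
        exact ⟨p + q, by rw [map_add, hp, hq, mul_add]⟩
      | smul r z _ ih =>
        obtain ⟨p, hp⟩ := ih
        exact ⟨r * p, by rw [map_mul, hp, Algebra.smul_def, mul_left_comm]⟩
    obtain ⟨u, hu'⟩ := (IsLocalization.map_units Bₛ (⟨algebraMap A B (T * s), Algebra.mem_algebraMapSubmonoid_of_mem ⟨T * s, mul_mem (prod_mem fun z _ => ht z) hs⟩⟩ :
      Algebra.algebraMapSubmonoid B S)).exists_right_inv
    have : w = algebraMap B Bₛ (algebraMap A B T * b) * u := by
      rw [map_mul (algebraMap B Bₛ) _ b, ← hb]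
      change algebraMap B Bₛ (algebraMap A B (T * s)) * u = 1 at hu'
      rw [map_mul (algebraMap A B), map_mul (algebraMap B Bₛ)] at hu'
      linear_combination (-w) * hu'
    rw [this]
    exact Ideal.mul_mem_right _ _ (Ideal.mem_map_of_mem _ hT)

end Groth.Agent.CAlgH3.DifferentLocalization
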