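import Groth.Agent.CAlgH3.DualSix
import Groth.Agent.SpecSeq.RightDerivedPlus
import Groth.Agent.SiteCoh.Cohomology

/-!
# The five lemma for double duals on big sites
-/

set_option autoImplicit false
set_option linter.all false
set_option backward.isDefEq.respectTransparency false
set_option backward.isDefEq.respectTransparency.types false
set_option synthInstance.maxHeartbeats 400000
set_option maxHeartbeats 200000

universe u

open CategoryTheory CategoryTheory.Limits Opposite AlgebraicGeometry

namespace Groth.Agent.CAlgH3.DualSix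

variable {X : Scheme.{u}}

/-- If `F₁` and `F₃` are reflexive and the local `Ext¹(F₃, 𝔾_m)` vanishes, `F₂` is reflexive. -/
theorem isIso_toDoubleDual {S : ShortComplex (BigSite.Ab Scheme.fppfPrecoverage X)} (hS : S.ShortExact)
    (hExt : IsZero ((HomSh.extSh (QuotSh.J Scheme.fppfPrecoverage X) S.X₃ 1).obj
      (CGrpSh2.Gm Scheme.fppfPrecoverage X)))
    (h₁ : IsIso (CGrpSh2.toDoubleDual Scheme.fppfPrecoverage S.X₁))
    (h₃ : IsIso (CGrpSh2.toDoubleDual Scheme.fppfPrecoverage S.X₃)) :
    IsIso (CGrpSh2.toDoubleDual Scheme.fppfPrecoverage S.X₂) := by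
  let J := QuotSh.J Scheme.fppfPrecoverage X
  let M := CGrpSh2.Gm Scheme.fppfPrecoverage X
  haveI : ∀ U : Over X, HasSheafify (J.over U) AddCommGrpCat.{u + 1} := fun U => inferInstance
  let T := ShortComplex.mk (Injective.ι M) (cokernel.π (Injective.ι M)) (cokernel.condition _)
  have hT : T.ShortExact :=
    { exact := ShortComplex.exact_cokernel _
      mono_f := inferInstanceAs (Mono (Injective.ι _))
      epi_g := inferInstanceAs (Epi (cokernel.π _)) }
  have hls : Sheaf.IsLocallySurjective (HomSh.homShMap J (𝟙 S.X₃) T.g) :=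
    locallySurjective_of_extSh (J := J) S.X₃ T.f T.g T.zero hT hExt
  exact isIso_bidualMap S.f S.g S.zero hS M (homSeq_locallySurjective hS T.f T.g T.zero hT hls) h₁ h₃

end Groth.Agent.CAlgH3.DualSix
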