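import Groth.Agent.CAlgH3.CanonicalGeneral
import Groth.Agent.Matlis6.Local

/-! Matlis duals of local cohomology over complete local rings: support and associated primes. -/

set_option autoImplicit false

universe u

open IsLocalRing

namespace Groth.Agent.CAlgH3.DualTop

open LocCoh (Hmap)

variable {A : Type u} [CommRing A] [IsNoetherianRing A] [IsLocalRing A] {M : Type u} [AddCommGroup M] [Module A M]
  [Module.Finite A M]

theorem le_dim_of_mem_support {n : ℕ} (hn : Module.supportDim A M ≤ n) {q : PrimeSpectrum A}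
    (hq : q ∈ Module.support A M) : ringKrullDim (A ⧸ q.asIdeal) ≤ n := by
  rw [Module.supportDim_eq_ringKrullDim_quotient_annihilator] at hn
  rw [Module.support_eq_zeroLocus] at hq
  exact (ringKrullDim_le_of_surjective (Ideal.Quotient.factor hq)
    (Ideal.Quotient.factor_surjective hq)).trans hn

theorem mem_associatedPrimes_of_dim_eq {n : ℕ} (hn : Module.supportDim A M ≤ n) {p : Ideal A} [p.IsPrime]
    (hpM : Module.annihilator A M ≤ p) (hp : ringKrullDim (A ⧸ p) = n) : p ∈ associatedPrimes A M := by
  obtain ⟨q, hq, hqp⟩ := Ideal.exists_minimalPrimes_le hpM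
  have hqA := Module.associatedPrimes.minimalPrimes_annihilator_subset_associatedPrimes A M hq
  haveI := hq.1.1
  rcases eq_or_lt_of_le hqp with rfl | hlt
  · exact hqA
  exfalso
  have h1 := CAlgH3.ringKrullDim_quotient_add_one_le hlt
  rw [hp] at h1
  have h2 : ringKrullDim (A ⧸ q) ≤ n := le_dim_of_mem_support hn (q := ⟨q, hq.1.1⟩) (by
    rw [Module.support_eq_zeroLocus]; exact hq.1.2)
  have h3 : n + 1 ≤ n := by exact_mod_cast h1.trans h2
  omega

/-- The annihilator of the top local cohomology lies in every prime of top dimension of the support. -/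
theorem annihilator_H_le {n : ℕ} (hn : Module.supportDim A M ≤ n) (p : Ideal A) [p.IsPrime]
    (hpM : Module.annihilator A M ≤ p) (hp : ringKrullDim (A ⧸ p) = n) :
    Module.annihilator A (_root_.LocCoh.H (maximalIdeal A) n M) ≤ p := by
  intro s hs
  by_contra hsp
  obtain ⟨χ, hχ⟩ : ∃ χ : M →ₗ[A] A ⧸ p, χ ≠ 0 := by
    by_contra h
    push Not at h
    haveI : Nontrivial (A ⧸ p) := Ideal.Quotient.nontrivial_iff.2 Ideal.IsPrime.ne_top'
    refine not_subsingleton (A ⧸ p) (S5163.result A M (A ⧸ p) (fun q hq => ?_) ⟨fun a b => by rw [h a, h b]⟩)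
    rw [Module.support_eq_zeroLocus, Ideal.annihilator_quotient] at hq
    rw [Module.support_eq_zeroLocus]
    exact fun x hx => hq (hpM hx)
  have hsurj : Function.Surjective (Hmap (maximalIdeal A) n χ) := fun y => by
    haveI := LocCoh.subsingleton_H_of_supportDim_lt (I := maximalIdeal A)
      (LocCoh.supportDim_coker_lt p hp.le χ hχ)
    obtain ⟨z, rfl⟩ := (LocCoh.Hmap_exact (LinearMap.range χ).injective_subtype (Submodule.mkQ_surjective _)
      (LinearMap.exact_subtype_mkQ _) n y).1 (Subsingleton.elim _ _)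
    obtain ⟨w, rfl⟩ := LocCoh.Hmap_surjective_of_surjective (LinearMap.surjective_rangeRestrict χ) hn z
    exact ⟨w, by rw [← LinearMap.comp_apply, ← LocCoh.Hmap_comp]; rfl⟩
  haveI : IsLocalRing (A ⧸ p) := IsLocalRing.of_surjective' _ Ideal.Quotient.mk_surjective
  have hdim : Module.supportDim A (A ⧸ p) = n := by
    rw [Module.supportDim_quotient_eq_ringKrullDim, hp]
  have hsm : Function.Surjective fun x : _root_.LocCoh.H (maximalIdeal A) n (A ⧸ p) => s • x := by
    refine LocCoh.smul_H_surjective s hdim.le ?_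
    refine LocCoh.supportDim_lt_of_forall _ n fun q hq => ?_
    rw [Module.support_eq_zeroLocus] at hq
    have hPq : p ≤ q.asIdeal := fun r hr => hq (Module.mem_annihilator.2 fun z => by
      obtain ⟨z, rfl⟩ := Submodule.Quotient.mk_surjective _ z
      obtain ⟨z, rfl⟩ := Ideal.Quotient.mk_surjective z
      rw [← Submodule.Quotient.mk_smul, Algebra.smul_def, Ideal.Quotient.algebraMap_eq, ← map_mul,
        Ideal.Quotient.eq_zero_iff_mem.2 (Ideal.mul_mem_right _ _ hr)]
      rfl)
    have hsq : s ∈ q.asIdeal := hq (Module.mem_annihilator.2 fun z => by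
      obtain ⟨z, rfl⟩ := Submodule.Quotient.mk_surjective _ z
      rw [← Submodule.Quotient.mk_smul, Submodule.Quotient.mk_eq_zero]
      exact Submodule.smul_mem_pointwise_smul z s ⊤ trivial)
    exact LocCoh.lt_of_add_one_le hp.le (CAlgH3.ringKrullDim_quotient_add_one_le
      (lt_of_le_of_ne hPq fun e => hsp (e ▸ hsq)))
  haveI := LocCoh.nontrivial_H_supportDim (A ⧸ p) n hdim
  refine not_subsingleton (_root_.LocCoh.H (maximalIdeal A) n (A ⧸ p)) (subsingleton_of_forall_eq 0 fun y => ?_)
  obtain ⟨x, rfl⟩ := hsm y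
  obtain ⟨w, rfl⟩ := hsurj x
  show s • Hmap (maximalIdeal A) n χ w = 0
  rw [← map_smul, Module.mem_annihilator.1 hs, map_zero]

/-- A functional on `H^n` killed by `p` vanishes when `H^n(M/pM) = 0`. -/
theorem eq_zero_of_killed {E : Type u} [AddCommGroup E] [Module A E] {n : ℕ}
    (hn : Module.supportDim A M ≤ n) (p : Ideal A)
    (hH : Subsingleton (_root_.LocCoh.H (maximalIdeal A) n (M ⧸ (p • (⊤ : Submodule A M)))))
    (f : _root_.LocCoh.H (maximalIdeal A) n M →ₗ[A] E) (hf : ∀ r ∈ p, r • f = 0) : f = 0 := by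
  classical
  obtain ⟨k, a, ha⟩ := Submodule.fg_iff_exists_fin_generating_family.mp (IsNoetherian.noetherian p)
  let σ : (Fin k → M) →ₗ[A] M := ∑ i, a i • LinearMap.proj i
  have hσm : ∀ v, σ v ∈ (p • (⊤ : Submodule A M)) := fun v => by
    simp only [σ, LinearMap.sum_apply, LinearMap.smul_apply, LinearMap.proj_apply]
    exact Submodule.sum_mem _ fun i _ => Submodule.smul_mem_smul (ha ▸ Submodule.subset_span ⟨i, rfl⟩) trivial
  let π : (Fin k → M) →ₗ[A] (p • (⊤ : Submodule A M) : Submodule A M) := σ.codRestrict _ hσm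
  have hπ : Function.Surjective π := fun ⟨x, hx⟩ => by
    have hx' : x ∈ LinearMap.range σ := by
      refine Submodule.smul_induction_on hx (fun r hr m _ => ?_) fun u v hu hv => add_mem hu hv
      rw [← ha, Submodule.mem_span_range_iff_exists_fun] at hr
      obtain ⟨c, rfl⟩ := hr
      refine ⟨fun i => c i • m, ?_⟩
      simp only [σ, LinearMap.sum_apply, LinearMap.smul_apply, LinearMap.proj_apply, Finset.sum_smul,
        smul_eq_mul, mul_smul]
      exact Finset.sum_congr rfl fun i _ => smul_comm _ _ _
    obtain ⟨v, hv⟩ := hx'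
    exact ⟨v, Subtype.ext hv⟩
  have hpi : Module.supportDim A (Fin k → M) ≤ n := by
    refine le_trans ?_ hn
    have hle : Module.annihilator A M ≤ Module.annihilator A (Fin k → M) := fun r hr =>
      Module.mem_annihilator.2 fun v => funext fun i => Module.mem_annihilator.1 hr (v i)
    rw [Module.supportDim_eq_ringKrullDim_quotient_annihilator,
      Module.supportDim_eq_ringKrullDim_quotient_annihilator]
    exact ringKrullDim_le_of_surjective (Ideal.Quotient.factor hle) (Ideal.Quotient.factor_surjective hle)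
  refine LinearMap.ext fun y => ?_
  obtain ⟨z, rfl⟩ := (LocCoh.Hmap_exact (Submodule.injective_subtype _) (Submodule.mkQ_surjective _)
    (LinearMap.exact_subtype_mkQ (p • (⊤ : Submodule A M))) n y).1 (Subsingleton.elim _ _)
  obtain ⟨w, rfl⟩ := LocCoh.Hmap_surjective_of_surjective hπ hpi z
  rw [LinearMap.zero_apply, ← LinearMap.comp_apply, ← LinearMap.comp_apply (g := Hmap _ _ π),
    LinearMap.comp_assoc, ← LocCoh.Hmap_comp,
    show (Submodule.subtype _).comp π = ∑ i, a i • LinearMap.proj i from LinearMap.subtype_comp_codRestrict _ _ _]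
  have hsum : ∀ s : Finset (Fin k), f (Hmap (maximalIdeal A) n (∑ i ∈ s, a i • (LinearMap.proj i : (Fin k → M) →ₗ[A] M)) w) = 0 := fun s => by
    induction s using Finset.induction_on with
    | empty => rw [Finset.sum_empty, LocCoh.Hmap_zero, LinearMap.zero_apply, map_zero]
    | insert j s hj ih =>
      rw [Finset.sum_insert hj, LocCoh.Hmap_add, LinearMap.add_apply, map_add, ih, add_zero,
        LocCoh.Hmap_smul, LinearMap.smul_apply, map_smul, ← LinearMap.smul_apply,
        hf _ (ha ▸ Submodule.subset_span ⟨j, rfl⟩), LinearMap.zero_apply]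
  exact hsum _

variable {E : Type u} [AddCommGroup E] [Module A E]

theorem main [IsAdicComplete (maximalIdeal A) A] (hE : Matlis6.IsHullAt (maximalIdeal A) E)
    [Nontrivial M] {n : ℕ} (hn : Module.supportDim A M = n) :
    (∀ i : ℕ, Module.Finite A (_root_.LocCoh.H (maximalIdeal A) i M →ₗ[A] E) ∧
      Module.supportDim A (_root_.LocCoh.H (maximalIdeal A) i M →ₗ[A] E) ≤ (i : WithBot ℕ∞)) ∧
    Module.supportDim A (_root_.LocCoh.H (maximalIdeal A) n M →ₗ[A] E) = n ∧
    associatedPrimes A (_root_.LocCoh.H (maximalIdeal A) n M →ₗ[A] E) =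
      {p | p ∈ associatedPrimes A M ∧ ringKrullDim (A ⧸ p) = n} := by
  have hfin : ∀ i, Module.Finite A (_root_.LocCoh.H (maximalIdeal A) i M →ₗ[A] E) := fun i => by
    haveI := LocCoh.isArtinian_H_maximalIdeal (R := A) i M
    exact (hE.dual_finite_of_isArtinian _).1
  obtain ⟨R', _, g, hG, hg⟩ := CanonicalGeneral.exists_gorenstein_cover A
  have hsupp : ∀ (i : ℕ) (q : PrimeSpectrum A),
      q ∈ Module.support A (_root_.LocCoh.H (maximalIdeal A) i M →ₗ[A] E) →
        ringKrullDim (A ⧸ q.asIdeal) ≤ i := fun i q hq => by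
    haveI := hfin i
    by_contra hlt
    obtain ⟨s, hs, hs'⟩ := CanonicalGeneral.exists_ann_not_mem g hg M q.asIdeal (i := i) (not_le.1 hlt)
    rw [Module.support_eq_zeroLocus] at hq
    exact hs (hq (Module.mem_annihilator.2 fun f => LinearMap.ext fun x => by
      rw [LinearMap.smul_apply, ← map_smul, hs', map_zero, LinearMap.zero_apply]))
  have hle : ∀ i, Module.supportDim A (_root_.LocCoh.H (maximalIdeal A) i M →ₗ[A] E) ≤ (i : WithBot ℕ∞) := fun i => by
    haveI := hfin i
    rcases subsingleton_or_nontrivial (_root_.LocCoh.H (maximalIdeal A) i M →ₗ[A] E) with hs | hnt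
    · rw [(Module.supportDim_eq_bot_iff_subsingleton _ _).2 hs]
      exact bot_le
    obtain ⟨q, hq, hqe⟩ := LocCoh.exists_prime_ringKrullDim_eq_supportDim (R := A)
      (_root_.LocCoh.H (maximalIdeal A) i M →ₗ[A] E)
    exact hqe ▸ hsupp i q hq
  haveI := hfin n
  set D := _root_.LocCoh.H (maximalIdeal A) n M →ₗ[A] E with hD
  have hann : Module.annihilator A D = Module.annihilator A (_root_.LocCoh.H (maximalIdeal A) n M) :=
    LocCoh.annihilator_dual hE _
  have hAss : associatedPrimes A D = {p | p ∈ associatedPrimes A M ∧ ringKrullDim (A ⧸ p) = n} := by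
    have hfwd : ∀ p ∈ associatedPrimes A D, Module.annihilator A M ≤ p ∧ ringKrullDim (A ⧸ p) = n := by
      intro p hp
      haveI := hp.isPrime
      have hpD : Module.annihilator A D ≤ p := by
        have h := IsAssociatedPrime.annihilator_le hp
        rwa [Submodule.annihilator_top] at h
      have hpM : Module.annihilator A M ≤ p := by
        refine le_trans (fun r hr => Module.mem_annihilator.2 fun f => LinearMap.ext fun x => ?_) hpD
        rw [LinearMap.smul_apply, ← map_smul, LinearMap.zero_apply]
        have h0 : r • (LinearMap.id : M →ₗ[A] M) = 0 := LinearMap.ext fun m => Module.mem_annihilator.1 hr m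
        have h1 : r • x = 0 := by
          have := congrArg (fun φ : M →ₗ[A] M => Hmap (maximalIdeal A) n φ x) h0
          simpa only [LocCoh.Hmap_smul, LocCoh.Hmap_id, LocCoh.Hmap_zero, LinearMap.smul_apply,
            LinearMap.id_apply, LinearMap.zero_apply] using this
        rw [h1, map_zero]
      refine ⟨hpM, le_antisymm (hsupp n ⟨p, inferInstance⟩ (by rw [Module.support_eq_zeroLocus]; exact hpD)) ?_⟩
      by_contra hlt
      obtain ⟨_, φ, hφ⟩ := (isAssociatedPrime_iff_exists_injective_linearMap p D).1 hp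
      have hH : Subsingleton (_root_.LocCoh.H (maximalIdeal A) n (M ⧸ (p • (⊤ : Submodule A M)))) := by
        refine LocCoh.subsingleton_H_of_supportDim_lt (LocCoh.supportDim_lt_of_forall _ n fun q hq => ?_)
        rw [Module.support_eq_zeroLocus] at hq
        have hpq : p ≤ q.asIdeal := fun r hr => hq (Module.mem_annihilator.2 fun z => by
          obtain ⟨z, rfl⟩ := Submodule.Quotient.mk_surjective _ z
          rw [← Submodule.Quotient.mk_smul, Submodule.Quotient.mk_eq_zero]
          exact Submodule.smul_mem_smul hr trivial)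
        exact lt_of_le_of_lt (ringKrullDim_le_of_surjective (Ideal.Quotient.factor hpq)
          (Ideal.Quotient.factor_surjective hpq)) (not_le.1 hlt)
      have hf0 := eq_zero_of_killed hn.le p hH (φ (Submodule.Quotient.mk 1)) fun r hr => by
        rw [← map_smul, ← Submodule.Quotient.mk_smul, smul_eq_mul, mul_one,
          (Submodule.Quotient.mk_eq_zero p).2 hr, map_zero]
      refine Ideal.IsPrime.ne_top' (I := p) ((Ideal.eq_top_iff_one _).2 ((Submodule.Quotient.mk_eq_zero p).1 ?_))
      exact hφ (hf0.trans (map_zero φ).symm)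
    ext p
    constructor
    · intro hp
      haveI := hp.isPrime
      obtain ⟨h1, h2⟩ := hfwd p hp
      exact ⟨mem_associatedPrimes_of_dim_eq hn.le h1 h2, h2⟩
    · rintro ⟨hpM, hpd⟩
      haveI := hpM.isPrime
      have hpM' : Module.annihilator A M ≤ p := by
        have h := IsAssociatedPrime.annihilator_le hpM
        rwa [Submodule.annihilator_top] at h
      have hpD : Module.annihilator A D ≤ p := hann ▸ annihilator_H_le hn.le p hpM' hpd
      obtain ⟨q, hq, hqp⟩ := Ideal.exists_minimalPrimes_le hpD
      have hqA := Module.associatedPrimes.minimalPrimes_annihilator_subset_associatedPrimes A D hq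
      haveI := hqA.isPrime
      rcases eq_or_lt_of_le hqp with rfl | hlt
      · exact hqA
      exfalso
      have h1 := CAlgH3.ringKrullDim_quotient_add_one_le hlt
      rw [hpd, (hfwd q hqA).2] at h1
      have h3 : n + 1 ≤ n := by exact_mod_cast h1
      omega
  refine ⟨fun i => ⟨hfin i, hle i⟩, le_antisymm (hle n) ?_, hAss⟩
  obtain ⟨p, hp, hpd⟩ := LocCoh.exists_prime_ringKrullDim_eq_supportDim (R := A) M
  rw [hn] at hpd
  rw [Module.support_eq_zeroLocus] at hp
  have hpD : Module.annihilator A D ≤ p.asIdeal := hann ▸ annihilator_H_le hn.le p.asIdeal hp hpd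
  rw [Module.supportDim_eq_ringKrullDim_quotient_annihilator, ← hpd]
  exact ringKrullDim_le_of_surjective (Ideal.Quotient.factor hpD) (Ideal.Quotient.factor_surjective hpD)

end Groth.Agent.CAlgH3.DualTop
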