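import Groth.Agent.CAlgH3.DualTop
import Groth.Agent.LocCoh.HLV
import Groth.Agent.LocCoh.Sum

/-! Associated primes of the Matlis dual of `H^n_I(M)` over a complete local ring. -/

set_option autoImplicit false

universe u

open IsLocalRing

namespace Groth.Agent.CAlgH3.DualTopIdeal

open LocCoh (Hmap)

variable {A : Type u} [CommRing A] [IsNoetherianRing A] [IsLocalRing A]

theorem dim_quotient_pos {J : Ideal A} (hJ : J ≠ ⊤) (hrad : J.radical ≠ maximalIdeal A) :
    1 ≤ ringKrullDim (A ⧸ J) := by
  obtain ⟨q, hq, hJq, hqd⟩ := LocCoh.exists_prime_ringKrullDim_quotient_eq (R := A) hJ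
  haveI := hq
  by_cases hall : ∀ P ∈ J.minimalPrimes, P = maximalIdeal A
  · exfalso
    refine hrad (le_antisymm ((IsLocalRing.maximalIdeal.isMaximal A).isPrime.radical_le_iff.2
      (le_maximalIdeal hJ)) ?_)
    rw [← Ideal.sInf_minimalPrimes]
    exact le_sInf fun P hP => (hall P hP).ge
  push Not at hall
  obtain ⟨P, hP, hne⟩ := hall
  haveI := hP.1.1
  have h1 := CAlgH3.ringKrullDim_quotient_add_one_le (R := A)
    (lt_of_le_of_ne (le_maximalIdeal hP.1.1.ne_top) hne)
  have h0 : ringKrullDim (A ⧸ maximalIdeal A) = 0 :=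
    ringKrullDim_eq_zero_of_isField ((Ideal.Quotient.maximal_ideal_iff_isField_quotient _).1 inferInstance)
  rw [h0, zero_add] at h1
  exact h1.trans (ringKrullDim_le_of_surjective (Ideal.Quotient.factor hP.1.2)
    (Ideal.Quotient.factor_surjective hP.1.2))

variable [IsAdicComplete (maximalIdeal A) A] {I : Ideal A} {n : ℕ}

theorem subsingleton_H_quotient_prime (q : Ideal A) [q.IsPrime] (hd : ringKrullDim (A ⧸ q) ≤ n)
    (hI : ringKrullDim (A ⧸ q) = n → (I ⊔ q).radical ≠ maximalIdeal A) :
    Subsingleton (_root_.LocCoh.H I n (A ⧸ q)) := by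
  rcases hd.eq_or_lt with heq | hlt
  swap
  · exact LocCoh.subsingleton_H_of_supportDim_lt (by rwa [Module.supportDim_quotient_eq_ringKrullDim])
  haveI : IsLocalRing (A ⧸ q) :=
    IsLocalRing.of_surjective' (Ideal.Quotient.mk q) Ideal.Quotient.mk_surjective
  have hmap : (maximalIdeal A).map (algebraMap A (A ⧸ q)) = maximalIdeal (A ⧸ q) :=
    IsLocalRing.map_maximalIdeal_of_surjective _ Ideal.Quotient.mk_surjective
  haveI : IsAdicComplete (maximalIdeal (A ⧸ q)) (A ⧸ q) := by
    rw [← hmap]
    exact (IsAdicComplete.map_algebraMap_iff _ _).2 (AdicRing.isAdicComplete_of_finite _ _)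
  obtain ⟨φ, -⟩ := LocCoh.exists_H_independence A (A ⧸ q) I n (A ⧸ q)
  by_cases htop : I ⊔ q = ⊤
  · have hmtop : I.map (algebraMap A (A ⧸ q)) = ⊤ := by
      rw [Ideal.Quotient.algebraMap_eq, ← Ideal.map_top (Ideal.Quotient.mk q), ← htop, Ideal.map_sup,
        Ideal.map_quotient_self, sup_bot_eq]
    haveI : Subsingleton (_root_.LocCoh.H (I.map (algebraMap A (A ⧸ q))) n (A ⧸ q)) :=
      subsingleton_of_forall_eq 0 fun x => by
        obtain ⟨k, hk⟩ := LocCoh.isPowerTorsion_H (I := I.map (algebraMap A (A ⧸ q))) n x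
        have := hk 1 (by rw [hmtop, ← Ideal.one_eq_top, one_pow, Ideal.one_eq_top]; trivial)
        rwa [one_smul] at this
    exact φ.symm.toEquiv.subsingleton
  haveI : Subsingleton (_root_.LocCoh.H (I.map (algebraMap A (A ⧸ q))) n (A ⧸ q)) := by
    refine LocCoh.subsingleton_H_complete (A ⧸ q) n heq.le _ fun p hp hpd => ?_
    have hbot : p = ⊥ := by
      by_contra hne
      have h1 := CAlgH3.ringKrullDim_quotient_add_one_le (R := A ⧸ q) (p := ⊥) (q := p) (bot_lt_iff_ne_bot.2 hne)
      rw [hpd, ringKrullDim_eq_of_ringEquiv (RingEquiv.quotientBot (A ⧸ q)), heq] at h1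
      have : n + 1 ≤ n := by exact_mod_cast h1
      omega
    subst hbot
    rw [sup_bot_eq, Ideal.Quotient.algebraMap_eq,
      ringKrullDim_eq_of_ringEquiv (DoubleQuot.quotQuotEquivQuotSup q I), sup_comm]
    exact dim_quotient_pos htop (hI heq)
  exact φ.symm.toEquiv.subsingleton

theorem subsingleton_H_of_forall (N : Type u) [AddCommGroup N] [Module A N] [Module.Finite A N] :
    (∀ q : PrimeSpectrum A, q ∈ Module.support A N → ringKrullDim (A ⧸ q.asIdeal) ≤ n ∧
      (ringKrullDim (A ⧸ q.asIdeal) = n → (I ⊔ q.asIdeal).radical ≠ maximalIdeal A)) →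
    Subsingleton (_root_.LocCoh.H I n N) := by
  refine IsNoetherianRing.induction_on_isQuotientEquivQuotientPrime A (motive := fun N _ _ _ =>
    (∀ q : PrimeSpectrum A, q ∈ Module.support A N → ringKrullDim (A ⧸ q.asIdeal) ≤ n ∧
      (ringKrullDim (A ⧸ q.asIdeal) = n → (I ⊔ q.asIdeal).radical ≠ maximalIdeal A)) →
    Subsingleton (_root_.LocCoh.H I n N)) ‹Module.Finite A N› ?_ ?_ ?_
  · intro N _ _ _ _ _
    exact LocCoh.subsingleton_H_of_subsingleton n
  · intro N _ _ _ p e h
    have hp : p ∈ Module.support A N := by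
      rw [e.support_eq, Module.support_eq_zeroLocus, Ideal.annihilator_quotient]
      exact le_refl p.asIdeal
    haveI := subsingleton_H_quotient_prime (I := I) p.asIdeal (h p hp).1 (h p hp).2
    exact (LocCoh.Hequiv I n e).toEquiv.subsingleton
  · intro N₁ _ _ _ N₂ _ _ _ N₃ _ _ _ f g hf hg hfg h₁ h₃ h
    haveI := h₁ fun q hq => h q (Module.support_subset_of_injective f hf hq)
    haveI := h₃ fun q hq => h q (Module.support_subset_of_surjective g hg hq)
    exact LocCoh.subsingleton_mid hf hg hfg n

variable {M : Type u} [AddCommGroup M] [Module A M] [Module.Finite A M]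

theorem eq_zero_of_killed {E : Type u} [AddCommGroup E] [Module A E]
    (hn : Module.supportDim A M ≤ n) (p : Ideal A)
    (hH : Subsingleton (_root_.LocCoh.H I n (M ⧸ (p • (⊤ : Submodule A M)))))
    (f : _root_.LocCoh.H I n M →ₗ[A] E) (hf : ∀ r ∈ p, r • f = 0) : f = 0 := by
  classical
  obtain ⟨k, a, ha⟩ := Submodule.fg_iff_exists_fin_generating_family.mp (IsNoetherian.noetherian p)
  let σ : (Fin k → M) →ₗ[A] M := ∑ i, a i • LinearMap.proj i
  have hσm : ∀ v, σ v ∈ (p • (⊤ : Submodule A M)) := fun v => by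
    simp only [σ, LinearMap.sum_apply, LinearMap.smul_apply, LinearMap.proj_apply]
    exact Submodule.sum_mem _ fun i _ => Submodule.smul_mem_smul (ha ▸ Submodule.subset_span ⟨i, rfl⟩) trivial
  let π : (Fin k → M) →ₗ[A] (p • (⊤ : Submodule A M) : Submodule A M) := σ.codRestrict _ hσm
  have hπ : Function.Surjective π := fun ⟨x, hx⟩ => by
    have hx' : x ∈ LinearMap.range σ := by
      refine Submodule.smul_induction_on hx (fun r hr m _ => ?_) fun u v hu hv => add_mem hu hv
      rw [← ha, Submodule.mem_span_range_iff_exists_fun] at hr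
      obtain ⟨c, rfl⟩ := hr
      refine ⟨fun i => c i • m, ?_⟩
      simp only [σ, LinearMap.sum_apply, LinearMap.smul_apply, LinearMap.proj_apply, Finset.sum_smul,
        smul_eq_mul, mul_smul]
      exact Finset.sum_congr rfl fun i _ => smul_comm _ _ _
    obtain ⟨v, hv⟩ := hx'
    exact ⟨v, Subtype.ext hv⟩
  have hpi : Module.supportDim A (Fin k → M) ≤ n := by
    refine le_trans ?_ hn
    have hle : Module.annihilator A M ≤ Module.annihilator A (Fin k → M) := fun r hr =>
      Module.mem_annihilator.2 fun v => funext fun i => Module.mem_annihilator.1 hr (v i)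
    rw [Module.supportDim_eq_ringKrullDim_quotient_annihilator,
      Module.supportDim_eq_ringKrullDim_quotient_annihilator]
    exact ringKrullDim_le_of_surjective (Ideal.Quotient.factor hle) (Ideal.Quotient.factor_surjective hle)
  refine LinearMap.ext fun y => ?_
  obtain ⟨z, rfl⟩ := (LocCoh.Hmap_exact (Submodule.injective_subtype _) (Submodule.mkQ_surjective _)
    (LinearMap.exact_subtype_mkQ (p • (⊤ : Submodule A M))) n y).1 (Subsingleton.elim _ _)
  obtain ⟨w, rfl⟩ := LocCoh.Hmap_surjective_of_surjective hπ hpi z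
  rw [LinearMap.zero_apply, ← LinearMap.comp_apply, ← LinearMap.comp_apply (g := Hmap _ _ π),
    LinearMap.comp_assoc, ← LocCoh.Hmap_comp,
    show (Submodule.subtype _).comp π = ∑ i, a i • LinearMap.proj i from LinearMap.subtype_comp_codRestrict _ _ _]
  have hsum : ∀ s : Finset (Fin k), f (Hmap I n (∑ i ∈ s, a i • (LinearMap.proj i : (Fin k → M) →ₗ[A] M)) w) = 0 := fun s => by
    induction s using Finset.induction_on with
    | empty => rw [Finset.sum_empty, LocCoh.Hmap_zero, LinearMap.zero_apply, map_zero]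
    | insert j s hj ih =>
      rw [Finset.sum_insert hj, LocCoh.Hmap_add, LinearMap.add_apply, map_add, ih, add_zero,
        LocCoh.Hmap_smul, LinearMap.smul_apply, map_smul, ← LinearMap.smul_apply,
        hf _ (ha ▸ Submodule.subset_span ⟨j, rfl⟩), LinearMap.zero_apply]
  exact hsum _

theorem main {E : Type u} [AddCommGroup E] [Module A E] (hE : Matlis6.IsHullAt (maximalIdeal A) E)
    (hn : Module.supportDim A M = n) :
    associatedPrimes A (_root_.LocCoh.H I n M →ₗ[A] E) = {p : Ideal A | p.IsPrime ∧ Module.annihilator A M ≤ p ∧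
      ringKrullDim (A ⧸ p) = n ∧ (I ⊔ p).radical = maximalIdeal A} := by
  ext p
  constructor
  · intro hp
    haveI := hp.isPrime
    obtain ⟨_, φ, hφ⟩ := (isAssociatedPrime_iff_exists_injective_linearMap p _).1 hp
    have hf1 : φ (Submodule.Quotient.mk 1) ≠ 0 := fun h0 => Ideal.IsPrime.ne_top' (I := p)
      ((Ideal.eq_top_iff_one _).2 ((Submodule.Quotient.mk_eq_zero p).1 (hφ (h0.trans (map_zero φ).symm))))
    have hpM : Module.annihilator A M ≤ p := fun r hr => by
      refine (Submodule.Quotient.mk_eq_zero p).1 (hφ ?_)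
      rw [map_zero, show (Submodule.Quotient.mk r : A ⧸ p) = r • Submodule.Quotient.mk 1 by
        rw [← Submodule.Quotient.mk_smul, smul_eq_mul, mul_one], map_smul]
      refine LinearMap.ext fun x => ?_
      have h0 : r • (LinearMap.id : M →ₗ[A] M) = 0 := LinearMap.ext fun m => Module.mem_annihilator.1 hr m
      have h1 : r • x = 0 := by
        have := congrArg (fun ψ : M →ₗ[A] M => Hmap I n ψ x) h0
        simpa only [LocCoh.Hmap_smul, LocCoh.Hmap_id, LocCoh.Hmap_zero, LinearMap.smul_apply,
          LinearMap.id_apply, LinearMap.zero_apply] using this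
      rw [LinearMap.smul_apply, ← map_smul, h1, map_zero, LinearMap.zero_apply]
    obtain ⟨q, hq, hqd, hqI⟩ : ∃ q : PrimeSpectrum A, q ∈ Module.support A (M ⧸ (p • (⊤ : Submodule A M))) ∧
        ringKrullDim (A ⧸ q.asIdeal) = n ∧ (I ⊔ q.asIdeal).radical = maximalIdeal A := by
      by_contra hne
      push Not at hne
      refine hf1 (eq_zero_of_killed hn.le p (subsingleton_H_of_forall _ fun q hq => ⟨?_, fun h => hne q hq h⟩)
        _ fun r hr => ?_)
      · exact DualTop.le_dim_of_mem_support hn.le
          (Module.support_subset_of_surjective _ (Submodule.mkQ_surjective _) hq)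
      · rw [← map_smul, ← Submodule.Quotient.mk_smul, smul_eq_mul, mul_one,
          (Submodule.Quotient.mk_eq_zero p).2 hr, map_zero]
    rw [Module.support_eq_zeroLocus] at hq
    have hpq : p ≤ q.asIdeal := fun r hr => hq (Module.mem_annihilator.2 fun z => by
      obtain ⟨z, rfl⟩ := Submodule.Quotient.mk_surjective _ z
      rw [← Submodule.Quotient.mk_smul, Submodule.Quotient.mk_eq_zero]
      exact Submodule.smul_mem_smul hr trivial)
    obtain rfl : p = q.asIdeal := by
      rcases eq_or_lt_of_le hpq with h | h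
      · exact h
      exfalso
      have h1 := CAlgH3.ringKrullDim_quotient_add_one_le h
      rw [hqd] at h1
      have h2 : ringKrullDim (A ⧸ p) ≤ n := DualTop.le_dim_of_mem_support hn.le (q := ⟨p, inferInstance⟩)
        (by rw [Module.support_eq_zeroLocus]; exact hpM)
      have h3 : n + 1 ≤ n := by exact_mod_cast h1.trans h2
      omega
    exact ⟨inferInstance, hpM, hqd, hqI⟩
  · rintro ⟨hp, hpM, hpd, hpI⟩
    haveI := hp
    obtain ⟨χ, hχ⟩ : ∃ χ : M →ₗ[A] A ⧸ p, χ ≠ 0 := by
      by_contra h
      push Not at h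
      haveI : Nontrivial (A ⧸ p) := Ideal.Quotient.nontrivial_iff.2 Ideal.IsPrime.ne_top'
      refine not_subsingleton (A ⧸ p) (S5163.result A M (A ⧸ p) (fun q hq => ?_) ⟨fun a b => by rw [h a, h b]⟩)
      rw [Module.support_eq_zeroLocus, Ideal.annihilator_quotient] at hq
      rw [Module.support_eq_zeroLocus]
      exact fun x hx => hq (hpM hx)
    have hsurj : Function.Surjective (Hmap I n χ) := fun y => by
      haveI := LocCoh.subsingleton_H_of_supportDim_lt (I := I) (LocCoh.supportDim_coker_lt p hpd.le χ hχ)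
      obtain ⟨z, rfl⟩ := (LocCoh.Hmap_exact (LinearMap.range χ).injective_subtype (Submodule.mkQ_surjective _)
        (LinearMap.exact_subtype_mkQ _) n y).1 (Subsingleton.elim _ _)
      obtain ⟨w, rfl⟩ := LocCoh.Hmap_surjective_of_surjective (LinearMap.surjective_rangeRestrict χ) hn.le z
      exact ⟨w, by rw [← LinearMap.comp_apply, ← LocCoh.Hmap_comp]; rfl⟩
    haveI : IsLocalRing (A ⧸ p) := IsLocalRing.of_surjective' _ Ideal.Quotient.mk_surjective
    have hdim : Module.supportDim A (A ⧸ p) = n := by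
      rw [Module.supportDim_quotient_eq_ringKrullDim, hpd]
    have hkilled : ∀ r ∈ p, ∀ z : A ⧸ p, r • z = 0 := fun r hr z => by
      obtain ⟨z, rfl⟩ := Ideal.Quotient.mk_surjective z
      rw [Algebra.smul_def, Ideal.Quotient.algebraMap_eq, ← map_mul,
        Ideal.Quotient.eq_zero_iff_mem.2 (Ideal.mul_mem_right _ _ hr)]
    -- `H^n_I(A/p) ≠ 0`
    obtain ⟨e₁⟩ := LocCoh.nonempty_H_sup_equiv_of_torsion I p n (A ⧸ p)
      (fun z => ⟨1, fun r hr => hkilled r (by rwa [pow_one] at hr) z⟩)
    obtain ⟨e₂⟩ := LocCoh.nonempty_H_equiv_of_radical (I := maximalIdeal A) (J := I ⊔ p)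
      (by rw [hpI]; exact (IsLocalRing.maximalIdeal.isMaximal A).isPrime.radical) n (A ⧸ p)
    haveI := LocCoh.nontrivial_H_supportDim (A ⧸ p) n hdim
    haveI : Nontrivial (_root_.LocCoh.H I n (A ⧸ p)) := (e₂.trans e₁).symm.toEquiv.nontrivial
    obtain ⟨x, hx⟩ := exists_ne (0 : _root_.LocCoh.H I n (A ⧸ p))
    obtain ⟨ξ, hξ⟩ := hE.exists_apply_ne_zero_local hx
    let f : _root_.LocCoh.H I n M →ₗ[A] E := ξ.comp (Hmap I n χ)
    have hker : LinearMap.ker (LinearMap.toSpanSingleton A _ f) = p := by
      ext s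
      rw [LinearMap.mem_ker, LinearMap.toSpanSingleton_apply]
      constructor
      · intro hs
        by_contra hsp
        obtain ⟨y, hy⟩ : ∃ y, s • y = x := by
          refine LocCoh.smul_H_surjective s hdim.le (LocCoh.supportDim_lt_of_forall _ n fun q hq => ?_) x
          rw [Module.support_eq_zeroLocus] at hq
          have hPq : p ≤ q.asIdeal := fun r hr => hq (Module.mem_annihilator.2 fun z => by
            obtain ⟨z, rfl⟩ := Submodule.Quotient.mk_surjective _ z
            rw [← Submodule.Quotient.mk_smul, hkilled r hr]; rfl)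
          have hsq : s ∈ q.asIdeal := hq (Module.mem_annihilator.2 fun z => by
            obtain ⟨z, rfl⟩ := Submodule.Quotient.mk_surjective _ z
            rw [← Submodule.Quotient.mk_smul, Submodule.Quotient.mk_eq_zero]
            exact Submodule.smul_mem_pointwise_smul z s ⊤ trivial)
          exact LocCoh.lt_of_add_one_le hpd.le (CAlgH3.ringKrullDim_quotient_add_one_le
            (lt_of_le_of_ne hPq fun e => hsp (e ▸ hsq)))
        obtain ⟨w, rfl⟩ := hsurj y
        refine hξ ?_
        rw [← hy, map_smul]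
        exact LinearMap.congr_fun hs w
      · intro hs
        refine LinearMap.ext fun w => ?_
        rw [LinearMap.smul_apply, LinearMap.zero_apply, LinearMap.comp_apply, ← map_smul ξ, ← map_smul,
          ← map_zero ξ]
        congr 1
        have h0 : s • χ = 0 := LinearMap.ext fun m => hkilled s hs (χ m)
        rw [map_smul, ← LinearMap.smul_apply, ← LocCoh.Hmap_smul, h0, LocCoh.Hmap_zero, LinearMap.zero_apply]
    refine (isAssociatedPrime_iff_exists_injective_linearMap p _).2 ⟨hp,
      Submodule.liftQ p (LinearMap.toSpanSingleton A _ f) hker.ge, ?_⟩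
    rw [← LinearMap.ker_eq_bot, Submodule.ker_liftQ_eq_bot']
    exact hker.symm

end Groth.Agent.CAlgH3.DualTopIdeal
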