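import Groth.Agent.CAlgH3.DualUnbounded
import Groth.Agent.DRingLib.PCPerf
import Groth.Agent.DCat.Amplitude

/-!
Finite tor dimension of `G` is finite injective dimension of `RHom(G, ω)`.
-/

set_option autoImplicit false
set_option backward.isDefEq.respectTransparency false
set_option backward.defeqAttrib.useBackward true
set_option linter.style.haveILetI false

universe u

open CategoryTheory CategoryTheory.Limits HomologicalComplex

attribute [local instance] HasDerivedCategory.standard

namespace Groth.Agent.CAlgH3.DualTorDim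

open Groth.Agent.DCat Groth.Agent.DualLib

variable {A : Type u} [CommRing A]

/-- A pseudo-coherent object without maps to high shifts of finite modules has finite tor dimension. -/
theorem hasFiniteTorDim_of_vanish [IsNoetherianRing A] {G : Dual.D A} (hG : DRing.IsPseudoCoherent' A G) (ga : ℤ) [G.IsGE ga]
    (i0 : ℤ) (h : ∀ (N : Type u) [AddCommGroup N] [Module A N] [Module.Finite A N] (i : ℤ), i0 < i →
      Subsingleton (G ⟶ (Dual.inD A N)⟦i⟧)) : DRing.HasFiniteTorDimCx A G := by
  obtain ⟨E, bE, hb, hE, ⟨e⟩⟩ := hG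
  haveI : E.IsStrictlyLE bE := (CochainComplex.isStrictlyLE_iff E bE).2 hb
  haveI : ∀ n : ℤ, Projective (E.X n) := fun n => by
    haveI := (hE n).2
    haveI : Module.Projective A (E.X n) := Module.Projective.of_free
    exact (IsProjective.iff_projective (E.X n)).1 inferInstance
  haveI : E.IsKProjective := CochainComplex.isKProjective_of_projective E bE
  let m : ℤ := min ga (-i0) - 1
  let B : Submodule A (E.X m) := LinearMap.range (E.d (m - 1) m).hom
  haveI : ∀ n, Module.Finite A (E.X n) := fun n => (hE n).1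
  haveI : Module.Finite A B := Module.Finite.range _
  let f : E.X (m - 1) ⟶ ModuleCat.of A B := ModuleCat.ofHom (E.d (m - 1) m).hom.rangeRestrict
  have hf : ∀ k, (ComplexShape.up ℤ).Rel k (m - 1) → E.d k (m - 1) ≫ f = 0 := fun k _ =>
    ModuleCat.hom_ext (LinearMap.ext fun x => Subtype.ext
      (congrArg (fun φ : E.X k ⟶ E.X m => φ.hom x) (E.d_comp_d k (m - 1) m)))
  let g := HomologicalComplex.mkHomToSingle (K := E) f hf
  let S := (HomologicalComplex.single (ModuleCat.{u} A) (ComplexShape.up ℤ) (m - 1)).obj (ModuleCat.of A B)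
  have h0 : DerivedCategory.Q.map g = 0 := by
    let a : (Dual.inD A B)⟦1 - m⟧ ≅ (DerivedCategory.singleFunctor (ModuleCat.{u} A) (m - 1)).obj (ModuleCat.of A B) :=
      ((DerivedCategory.singleFunctors (ModuleCat.{u} A)).shiftIso (1 - m) (m - 1) 0 (by omega)).app (ModuleCat.of A B)
    let a' : DerivedCategory.Q.obj S ≅ (Dual.inD A B)⟦1 - m⟧ :=
      ((DerivedCategory.singleFunctorIsoCompQ _ (m - 1)).app (ModuleCat.of A B)).symm ≪≫ a.symm
    haveI := h B (1 - m) (by omega)
    have h1 : e.inv ≫ DerivedCategory.Q.map g ≫ a'.hom = 0 := Subsingleton.elim _ _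
    rwa [← cancel_epi e.inv, ← cancel_mono a'.hom, Category.assoc, comp_zero, zero_comp]
  have h2 : (HomotopyCategory.quotient (ModuleCat.{u} A) (ComplexShape.up ℤ)).map g =
      (HomotopyCategory.quotient (ModuleCat.{u} A) (ComplexShape.up ℤ)).map 0 := by
    apply (CochainComplex.IsKProjective.Qh_map_bijective E _).1
    have n1 := (DerivedCategory.quotientCompQhIso (ModuleCat.{u} A)).hom.naturality g
    rw [h0, comp_zero] at n1
    show DerivedCategory.Qh.map _ = DerivedCategory.Qh.map _
    rw [Functor.map_zero, Functor.map_zero, ← cancel_mono ((DerivedCategory.quotientCompQhIso (ModuleCat.{u} A)).hom.app _)]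
    exact n1.trans zero_comp.symm
  let H := HomotopyCategory.homotopyOfEq _ _ h2
  have hc := H.comm (m - 1)
  rw [dNext_eq H.hom (show (ComplexShape.up ℤ).Rel (m - 1) m by simp),
    prevD_eq H.hom (show (ComplexShape.up ℤ).Rel (m - 1 - 1) (m - 1) by simp),
    HomologicalComplex.zero_f, add_zero, (HomologicalComplex.single_obj_d _ _ _ _ _), comp_zero, add_zero] at hc
  let r : E.X m →ₗ[A] B := (H.hom m (m - 1) ≫ (singleObjXSelf (ComplexShape.up ℤ) (m - 1) (ModuleCat.of A B)).hom).hom
  have hr : ∀ x : B, r x.1 = x := fun ⟨_, y, rfl⟩ => by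
    have h3 : g.f (m - 1) ≫ (singleObjXSelf (ComplexShape.up ℤ) (m - 1) (ModuleCat.of A B)).hom =
        (E.d (m - 1) m ≫ H.hom m (m - 1)) ≫ (singleObjXSelf (ComplexShape.up ℤ) (m - 1) (ModuleCat.of A B)).hom := by
      rw [hc]
    rw [HomologicalComplex.mkHomToSingle_f, Category.assoc, Iso.inv_hom_id, Category.comp_id, Category.assoc] at h3
    exact (congrArg (fun φ : E.X (m - 1) ⟶ ModuleCat.of A B => φ.hom y) h3).symm
  haveI : ∀ n, Module.Flat A (E.X n) := fun n => by
    haveI := (hE n).2
    haveI : Module.Projective A (E.X n) := Module.Projective.of_free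
    exact Module.Flat.of_projective
  have hflat : Module.Flat A (E.X m ⧸ B) := by
    let j : (E.X m ⧸ B) →ₗ[A] E.X m := B.liftQ (LinearMap.id - B.subtype ∘ₗ r) fun x hx => by
      rw [LinearMap.mem_ker, LinearMap.sub_apply, LinearMap.id_apply, LinearMap.comp_apply, Submodule.subtype_apply,
        hr ⟨x, hx⟩, sub_self]
    refine Module.Flat.of_retract j B.mkQ (LinearMap.ext fun x => ?_)
    obtain ⟨x, rfl⟩ := Submodule.mkQ_surjective B x
    show B.mkQ (x - (r x).1) = B.mkQ x
    rw [map_sub, Submodule.mkQ_apply, Submodule.mkQ_apply, (Submodule.Quotient.mk_eq_zero B).2 (r x).2, sub_zero]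
  haveI hop : Module.Flat A (E.opcycles m) := by
    haveI := hflat
    exact Module.Flat.of_linearEquiv
      ((E.opcyclesIsCokernel (m - 1) m (by simp)).coconePointUniqueUpToIso (cokernelIsCokernel (E.d (m - 1) m)) ≪≫
        ModuleCat.cokernelIsoRangeQuotient (E.d (m - 1) m)).toLinearEquiv
  haveI : (DerivedCategory.Q.obj E).IsGE m :=
    haveI : G.IsGE m := DerivedCategory.TStructure.t.isGE_of_ge _ m ga (by omega)
    DerivedCategory.TStructure.t.isGE_of_iso e.symm m
  haveI : CochainComplex.IsGE E m := (DerivedCategory.isGE_Q_obj_iff E m).1 inferInstance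
  haveI : QuasiIso (E.πTruncGE m) := (CochainComplex.quasiIso_πTruncGE_iff E m).2 inferInstance
  haveI := isIso_Q_map_of_qis (E.πTruncGE m)
  refine ⟨m, max bE m, E.truncGE m, fun i hi => ?_, fun i => ?_,
    ⟨(asIso (DerivedCategory.Q.map (E.πTruncGE m))).symm ≪≫ e⟩⟩
  · rcases hi with hi | hi
    · exact CochainComplex.isZero_of_isStrictlyGE _ m i hi
    · exact (hb i (by omega)).of_iso (E.truncGEXIso m i (by omega))
  · rcases lt_trichotomy i m with hi | rfl | hi
    · haveI := ModuleCat.subsingleton_of_isZero (CochainComplex.isZero_of_isStrictlyGE (E.truncGE m) m i hi)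
      infer_instance
    · exact Module.Flat.of_linearEquiv (E.truncGEXIsoOpcycles m).toLinearEquiv
    · exact Module.Flat.of_linearEquiv (E.truncGEXIso m i hi).toLinearEquiv

end Groth.Agent.CAlgH3.DualTorDim
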