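import Groth.Agent.DualLib.ResidueHom
import Groth.Agent.DCat.DTenTriple

/-!
Biduality with respect to a dualizing complex for unbounded objects with finite cohomology.
-/

set_option autoImplicit false
set_option backward.isDefEq.respectTransparency false
set_option backward.defeqAttrib.useBackward true
set_option linter.style.haveILetI false

universe u

open CategoryTheory CategoryTheory.Limits CategoryTheory.Pretriangulated

attribute [local instance] HasDerivedCategory.standard

namespace Groth.Agent.CAlgH3.DualUnbounded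

open Groth.Agent.DCat Groth.Agent.DualLib

variable {A : Type u} [CommRing A] [IsNoetherianRing A] [DTen.HasLTen A] [DTen.HasLTen₃ A] [DTen.HasRHom A]

/-- The dual has finite cohomology. -/
theorem finite_dual {ω : Dual.D A} (hω : Dual.IsDualizing A ω) (K : Dual.D A)
    (hK : ∀ q, Module.Finite A (Dual.HD A K q)) (i : ℤ) :
    Module.Finite A (Dual.HD A ((DTen.RHomR A K).obj ω) i) := by
  obtain ⟨a, b, hab⟩ := exists_injAmplitude hω
  haveI := finite_hom_of_injAmp hab hω.finite_cohomology K hK i
  exact Module.Finite.equiv (hdRHom K ω i).symm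

/-- Biduality. -/
theorem nonempty_biduality [DTen.IsSymMonoidal A] {ω : Dual.D A} (hω : Dual.IsDualizing A ω) (K : Dual.D A)
    (hK : ∀ q, Module.Finite A (Dual.HD A K q)) :
    Nonempty ((DTen.RHomR A ((DTen.RHomR A K).obj ω)).obj ω ≅ K) := by
  obtain ⟨a, b, hab⟩ := exists_injAmplitude hω
  obtain ⟨a', b', hge, -⟩ := exists_bound hω
  obtain ⟨eω⟩ := exists_iso_RHom_self hω
  let F := (DTen.LTen A).obj ((DTen.RHomR A ω).obj ω)
  let G : Dual.D A ⥤ Dual.D A := ((DTen.RHom A).flip.obj ω).rightOp ⋙ (DTen.RHom A).flip.obj ω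
  have hG : MapsTri G := fun T hT => (mapsTriOp_RHom ω).pair (mapsTriOp_RHom ω T hT)
  let η : ∀ X, F.obj X ⟶ G.obj X := fun X => DTen.evalHom X ω ω
  have nat : ∀ {X X'} (m : X ⟶ X'), F.map m ≫ η X' = η X ≫ G.map m := fun {X X'} m => evalHom_natural ω ω m
  let eF : ∀ X, F.obj X ≅ X := fun X =>
    (DTen.LTen₂ A).mapIso (Iso.prod eω (Iso.refl X)) ≪≫ DTen.leftUnitor X
  let H := fun i : ℤ => DerivedCategory.homologyFunctor (ModuleCat.{u} A) i
  haveI : IsIso (η K) := (DerivedCategory.isIso_iff (ModuleCat.{u} A) _).2 fun i => by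
    let n : ℤ := max (i + 2) (i + 2 + b - a)
    let T := ((ts A).triangleLTGE n).obj K
    have hT : T ∈ distTriang _ := (ts A).triangleLTGE_distinguished n K
    let L := ((ts A).truncLT n).obj K
    haveI hL : L.IsLE (n - 1) := (ts A).isLE_truncLT_obj _ _ _ (by omega)
    have hLfin : ∀ q, Module.Finite A (Dual.HD A L q) := fun q => by
      rcases lt_or_ge q n with hq | hq
      · haveI := hK q
        exact Module.Finite.equiv (hTruncLT K n q hq).symm
      · haveI := ModuleCat.subsingleton_of_isZero (DerivedCategory.isZero_of_isLE L (n - 1) q (by omega))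
        infer_instance
    haveI : IsIso (η T.obj₁) :=
      isIso_evalHom_of_pseudoCoherent (K := L) ω ω (isPseudoCoherent' L (n - 1) hLfin) a' a b hab
    haveI h3 : T.obj₃.IsGE n := inferInstanceAs ((((ts A).truncGE n).obj K).IsGE n)
    haveI h4 : T.invRotate.obj₁.IsGE (n + 1) := (ts A).isGE_shift T.obj₃ n (-1) (n + 1) (by omega)
    have hF0 : ∀ (C : Dual.D A) (t : ℤ) [C.IsGE t], i < t → IsZero ((H i).obj (F.obj C)) := fun C t _ ht =>
      IsZero.of_iso (DerivedCategory.isZero_of_isGE C t i ht) ((H i).mapIso (eF C))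
    have hG0 : ∀ (C : Dual.D A) (t : ℤ) [C.IsGE t], i < a - (b - t) → IsZero ((H i).obj (G.obj C)) := by
      intro C t _ ht
      haveI := isLE_RHomR C ω a b t hab
      haveI := isGE_of_injAmp hab
      haveI := isGE_RHomR ((DTen.RHomR A C).obj ω) ω (b - t) a
      exact DerivedCategory.isZero_of_isGE ((DTen.RHomR A ((DTen.RHomR A C).obj ω)).obj ω) (a - (b - t)) i ht
    haveI : IsIso ((H i).map (F.map T.mor₁)) :=
      mapsTri_vanish (mapsTri_tensorLeft _) hT i (hF0 _ n (by omega)) (hF0 _ (n + 1) (by omega))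
    haveI : IsIso ((H i).map (G.map T.mor₁)) :=
      mapsTri_vanish hG hT i (hG0 _ n (by omega)) (hG0 _ (n + 1) (by omega))
    have sq := congrArg (H i).map (nat T.mor₁)
    rw [Functor.map_comp, Functor.map_comp] at sq
    haveI : IsIso ((H i).map (η T.obj₁) ≫ (H i).map (G.map T.mor₁)) := inferInstance
    rw [← sq] at this
    change IsIso ((H i).map (η T.obj₂))
    exact IsIso.of_isIso_comp_left ((H i).map (F.map T.mor₁)) _
  exact ⟨(asIso (η K)).symm ≪≫ eF K⟩

end Groth.Agent.CAlgH3.DualUnbounded
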