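import Groth.Agent.CAlgH3.PSheafSeq

/-!
# Regularity through a complex with small homology
-/

set_option autoImplicit false
set_option linter.unusedSectionVars false
set_option backward.isDefEq.respectTransparency.types false

universe u

open AlgebraicGeometry CategoryTheory CategoryTheory.Limits TopologicalSpace Opposite
open Groth.Agent.Coherent Groth.Agent.AmpleLib
open Groth.Agent.CAlgH3 Groth.Agent.CAlgH3.ModCohSeq Groth.Agent.CAlgH3.PSheafSeq Groth.Agent.CAlgH3.PSheafGen

noncomputable section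

namespace Groth.Agent.CAlgH3.PSheafCx

variable {k : Type u} [Field k] {n : ℕ}

theorem nonempty_image_iso {C : Type*} [Category C] [Abelian C] {A B D : C} (e : A ⟶ B) [Epi e] (m : B ⟶ D) [Mono m]
    {f : A ⟶ D} (h : e ≫ m = f) : Nonempty (B ≅ Abelian.image f) := by
  subst h
  let φ : B ⟶ Abelian.image (e ≫ m) := kernel.lift _ m (by
    rw [← cancel_epi e, ← Category.assoc, cokernel.condition, comp_zero])
  have hφ : φ ≫ Abelian.image.ι (e ≫ m) = m := kernel.lift_ι _ _ _
  have : Mono φ := mono_of_mono_fac hφ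
  have he : e ≫ φ = Abelian.factorThruImage (e ≫ m) := by
    rw [← cancel_mono (Abelian.image.ι (e ≫ m)), Category.assoc, hφ, Abelian.image.fac]
  have : Epi φ := epi_of_epi_fac he
  haveI := isIso_of_mono_of_epi φ
  exact ⟨asIso φ⟩

theorem W_of_isZero {F : (CohB1.ProjSpace n k).Modules} (h : IsZero F) (t : ℤ) (i : ℕ) : W F t i := by
  refine EulerLib.subsingleton_HH_of_isZero ((IsZero.iff_id_eq_zero _).2 ?_) i
  refine AmpleLib.hom_ext fun U a b => ?_
  have ha : a = 0 :=
    ConcreteCategory.congr_hom (congrArg (fun φ => Scheme.Modules.Hom.app φ U) ((IsZero.iff_id_eq_zero _).1 h)) a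
  rw [ha, tmul_zero_left]
  rfl

theorem isZero_image {A B : (CohB1.ProjSpace n k).Modules} (f : A ⟶ B) (h : IsZero A) : IsZero (Abelian.image f) :=
  (IsZero.iff_id_eq_zero _).2 ((cancel_epi (Abelian.factorThruImage f)).1 (h.eq_of_src _ _))

theorem shortExact_image {A B : (CohB1.ProjSpace n k).Modules} (f : A ⟶ B) :
    (ShortComplex.mk (Abelian.image.ι f) (cokernel.π f) (kernel.condition _)).ShortExact :=
  { exact := ShortComplex.exact_kernel (cokernel.π f) }

theorem shortExact_factor {A B : (CohB1.ProjSpace n k).Modules} (f : A ⟶ B) :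
    (ShortComplex.mk (kernel.ι f) (Abelian.factorThruImage f) (by
      rw [← cancel_mono (Abelian.image.ι f), Category.assoc, Abelian.image.fac, kernel.condition, zero_comp])).ShortExact :=
  { exact := ShortComplex.exact_of_f_is_kernel _ (isKernelOfComp _ _ (kernelIsKernel f) _ (Abelian.image.fac f)) }

variable (E : ChainComplex ((CohB1.ProjSpace n k).Modules) ℕ)

/-- The comparison of the homology with the cokernel into the cycles. -/
def homologyIso (s : ℕ) :
    cokernel (kernel.lift (E.d (s + 1) s) (E.d (s + 2) (s + 1)) (E.d_comp_d _ _ _)) ≅ E.homology (s + 1) :=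
  (ShortComplex.LeftHomologyData.ofHasKernelOfHasCokernel (E.sc' (s + 2) (s + 1) s)).homologyIso.symm ≪≫
    (ShortComplex.homologyMapIso (E.isoSc' (s + 2) (s + 1) s (by simp) (by simp))).symm

variable {E}

theorem regular_images {t : ℕ} (hbdd : ∀ s : ℕ, t < s → IsZero (E.X s))
    (hcoh : ∀ s : ℕ, Coh.IsCoh (E.X s)) {d : ℤ}
    (hreg : ∀ s : ℕ, Curv2.IsMRegular k n (E.X s) (d + s))
    (hsupp : ∀ i : ℕ, 0 < i → topologicalKrullDim (CohB1.support (E.homology i)) ≤ 1) :
    ∀ (m s : ℕ), t ≤ s + m → ∀ i : ℕ, 1 ≤ i → W (Abelian.image (E.d (s + 1) s)) (d + (s + 1 : ℕ) - i) i := by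
  intro m
  induction m with
  | zero => exact fun s hs i _ => W_of_isZero (isZero_image _ (hbdd _ (by omega))) _ _
  | succ m ih =>
    intro s hs i hi
    haveI := isProper_projSpace_toSpec n k
    haveI := LocallyOfFiniteType.isLocallyNoetherian (CohB1.ProjSpace.toSpec n k)
    refine W_right (shortExact_factor (E.d (s + 1) s)) (W_of_le (hcoh _).1 (hreg (s + 1)) hi (by omega)) ?_
    let l := kernel.lift (E.d (s + 1) s) (E.d (s + 2) (s + 1)) (E.d_comp_d _ _ _)
    have hker : Coh.IsCoh (kernel (E.d (s + 1) s)) := isCoh_kernel _ (hcoh _) (hcoh _).1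
    refine W_mid (shortExact_image l) ?_ (W_of_support (d := 1) (isCoh_cokernel l (hcoh _).1 hker) ?_ _ (by omega))
    · obtain ⟨e⟩ := nonempty_image_iso (Abelian.factorThruImage l) (Abelian.image.ι l ≫ kernel.ι (E.d (s + 1) s))
        (f := E.d (s + 2) (s + 1)) (by rw [← Category.assoc, Abelian.image.fac, kernel.lift_ι])
      refine V_of_iso (tensorIso e (Iso.refl _)).symm ?_
      have := ih (s + 1) (by omega) (i + 1) (by omega)
      rwa [show d + ((s + 1 + 1 : ℕ) : ℤ) - ((i + 1 : ℕ) : ℤ) = d + ((s + 1 : ℕ) : ℤ) - (i : ℤ) by push_cast; ring]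
        at this
    · have := hsupp (s + 1) (by omega)
      rwa [← Coherent.support_eq_of_iso (homologyIso E s)] at this

end Groth.Agent.CAlgH3.PSheafCx

end
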