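import Groth.Agent.CAlgH3.PSheafH1
import Groth.Agent.Coherent.ProjSpaceFinite

/-!
# Regularity through a presentation by `O(-m)`
-/

set_option autoImplicit false
set_option linter.unusedSectionVars false
set_option backward.isDefEq.respectTransparency.types false

universe u

open AlgebraicGeometry CategoryTheory CategoryTheory.Limits TopologicalSpace Opposite
open Groth.Agent.Coherent Groth.Agent.AmpleLib Groth.Agent.PicLib
open Groth.Agent.CAlgH3.ModCohSeq Groth.Agent.CAlgH3.PSheaf Groth.Agent.CAlgH3.PSheafGen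
open Groth.Agent.CAlgH3.PSheafSeq Groth.Agent.CAlgH3.PRing

noncomputable section

namespace Groth.Agent.CAlgH3.PSheafPres

attribute [local instance] hasFiniteBiproducts

section general

variable {X : Scheme.{u}} {S : ShortComplex X.Modules}

theorem V_left_of_surjective (hS : S.ShortExact) (hg : Function.Surjective (S.g.app (⊤ : X.Opens)))
    (h : V S.X₂ 1) : V S.X₁ 1 := by
  haveI : Subsingleton (HA (RingHom.id Γ(X, ⊤)) S.X₂ (⊤ : X.Opens) 1) := (V_iff_HMod _ 1).1 h
  exact (V_iff_HMod _ 1).2 (PSheafH1.postA_injective_of_surjective (RingHom.id Γ(X, ⊤)) hS hg).subsingleton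

end general

section general

variable {X : Scheme.{u}} {κ : Type} [Fintype κ]

theorem hom_app_sum {M N : X.Modules} (s : Finset κ) (F : κ → (M ⟶ N))
    (U : X.Opens) (x : Γ(M, U)) : (∑ i ∈ s, F i).app U x = ∑ i ∈ s, (F i).app U x := by
  classical
  induction s using Finset.induction with
  | empty => rw [Finset.sum_empty, Finset.sum_empty]; rfl
  | insert a s ha ih => rw [Finset.sum_insert ha, Finset.sum_insert ha, ← ih]; rfl

theorem tmul_sum_left {M N : X.Modules} (s : Finset κ) {U : X.Opens}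
    (a : κ → Γ(M, U)) (b : Γ(N, U)) : tmul (∑ i ∈ s, a i) b = ∑ i ∈ s, tmul (a i) b := by
  classical
  induction s using Finset.induction with
  | empty => rw [Finset.sum_empty, Finset.sum_empty, tmul_zero_left]
  | insert a s ha ih => rw [Finset.sum_insert ha, Finset.sum_insert ha, tmul_add_left, ih]

/-- Twisting commutes with finite sums. -/
def twistBiproduct (F : κ → X.Modules) (L : X.Modules) :
    CohB1.tensorMod (⨁ F) L ≅ ⨁ fun i => CohB1.tensorMod (F i) L where
  hom := biproduct.lift fun i => tensorMap (biproduct.π F i) (𝟙 L)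
  inv := biproduct.desc fun i => tensorMap (biproduct.ι F i) (𝟙 L)
  hom_inv_id := by
    classical
    rw [biproduct.lift_desc]
    refine AmpleLib.hom_ext fun U a b => ?_
    rw [hom_app_sum]
    simp only [Scheme.Modules.Hom.comp_app, ConcreteCategory.comp_apply, tensorMap_tmul]
    rw [← tmul_sum_left Finset.univ (fun i => (biproduct.ι F i).app U ((biproduct.π F i).app U a)),
      biproduct_sections_total]
    rfl
  inv_hom_id := by
    classical
    refine biproduct.hom_ext' _ _ fun i => biproduct.hom_ext _ _ fun j => ?_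
    rw [biproduct.ι_desc_assoc, Category.assoc, biproduct.lift_π, Category.comp_id]
    rcases eq_or_ne i j with rfl | hij
    · rw [biproduct.ι_π_self]
      refine AmpleLib.hom_ext fun U a b => ?_
      rw [Scheme.Modules.Hom.comp_app, ConcreteCategory.comp_apply, tensorMap_tmul, tensorMap_tmul,
        show (biproduct.π F i).app U ((biproduct.ι F i).app U a) = (biproduct.ι F i ≫ biproduct.π F i).app U a
          from rfl, biproduct.ι_π_self]
      rfl
    · rw [biproduct.ι_π_ne _ hij]
      refine AmpleLib.hom_ext fun U a b => ?_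
      rw [Scheme.Modules.Hom.comp_app, ConcreteCategory.comp_apply, tensorMap_tmul, tensorMap_tmul,
        show (biproduct.π F j).app U ((biproduct.ι F i).app U a) = (biproduct.ι F i ≫ biproduct.π F j).app U a
          from rfl, biproduct.ι_π_ne _ hij]
      exact tmul_zero_left _

theorem V_biproduct {G : κ → X.Modules} (q : ℕ) (h : ∀ i, V (G i) q) : V (⨁ G) q := by
  classical
  refine (V_iff_HMod _ q).2 (subsingleton_of_forall_eq 0 fun x => ?_)
  have key : ∀ t : Finset κ, postHM (∑ i ∈ t, biproduct.π G i ≫ biproduct.ι G i) q (⊤ : X.Opens) x = 0 := by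
    intro t
    induction t using Finset.induction with
    | empty => rw [Finset.sum_empty]; exact postHM_zero q _ x
    | insert a t ha ih =>
      rw [Finset.sum_insert ha]
      refine (postHM_add _ _ q _ x).trans ?_
      have h0 : postHM (biproduct.π G a ≫ biproduct.ι G a) q (⊤ : X.Opens) x = 0 := by
        refine (postHM_comp _ _ q _ x).trans ?_
        have h0 : postHM (biproduct.π G a) q (⊤ : X.Opens) x = 0 := ((V_iff_HMod _ q).1 (h a)).elim _ _
        exact (congrArg (postHM (biproduct.ι G a) q (⊤ : X.Opens)) h0).trans (map_zero _)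
      rw [h0, ih]
      exact add_zero _
  have hx := key Finset.univ
  rw [biproduct.total] at hx
  exact (postHM_id _ q _ x).symm.trans hx

end general

variable {k : Type u} [Field k] {n : ℕ}

theorem nonempty_twist_zero {F : (CohB1.ProjSpace n k).Modules} (hF : Coh.IsQCoh F) :
    Nonempty (CohB1.tensorMod F (Twist.twistProjSpace n k 0) ≅ F) := by
  obtain ⟨e⟩ := TwistLib.G.nonempty_twist_pow_iso (𝒜 := CohB1.polyGrading n k) covers 0
  exact ⟨tensorIso (Iso.refl F) ((twistCompare (k := k) (r := n) 0).symm ≪≫ e) ≪≫ tensorComm _ _ ≪≫ unitTensorIso _⟩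

theorem W_free (b : ℕ) (a t : ℤ) {i : ℕ} (hi : 1 ≤ i) (h : -(n : ℤ) ≤ a + t) :
    W (∐ fun _ : Fin b => Twist.twistProjSpace n k a) t i := by
  obtain ⟨e⟩ := TwistLib.G.nonempty_tensor_twist_iso (𝒜 := CohB1.polyGrading n k) covers (show a + t = a + t from rfl)
  exact V_of_iso ((tensorIso (biproduct.isoCoproduct _) (Iso.refl _)).symm ≪≫ twistBiproduct _ _).symm
    (V_biproduct i fun _ => V_of_iso e.symm (subsingleton_HH_twist (n := n) (R := k) (d := a + t) i (by omega) (by omega)))

theorem exists_sections {F : (CohB1.ProjSpace n k).Modules} (hF : Coh.IsCoh F) :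
    ∃ (b : ℕ) (s : Fin b → Γ(F, (⊤ : (CohB1.ProjSpace n k).Opens))), ∀ a, ∃ c : Fin b → Γ(CohB1.ProjSpace n k, ⊤),
      a = ∑ j, c j • s j := by
  haveI : Module.Finite k (HA (baseHom k (CohB1.ProjSpace n k)) F (⊤ : (CohB1.ProjSpace n k).Opens) 0) :=
    finCoh_projSpace (n := n) (R := k) _ hF 0
  haveI : Module.Finite k (GA (baseHom k (CohB1.ProjSpace n k)) F) := Module.Finite.equiv (secA _ F)
  obtain ⟨b, s, hs⟩ := Module.Finite.exists_fin (R := k) (M := GA (baseHom k (CohB1.ProjSpace n k)) F)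
  refine ⟨b, s, fun a => ?_⟩
  obtain ⟨c, hc⟩ := (Submodule.mem_span_range_iff_exists_fun k).1
    (hs.ge (Submodule.mem_top (x := (show GA (baseHom k (CohB1.ProjSpace n k)) F from a))))
  exact ⟨fun j => baseHom k (CohB1.ProjSpace n k) (c j), hc.symm⟩

/-- A regular sheaf is a quotient of sums of `O(-m)` with an `(m+1)`-regular kernel. -/
theorem exists_presentation {F : (CohB1.ProjSpace n k).Modules} (hF : Coh.IsCoh F) {m : ℤ}
    (h : Curv2.IsMRegular k n F m) :
    ∃ (b : ℕ) (φ : (∐ fun _ : Fin b => Twist.twistProjSpace n k (-m)) ⟶ F),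
      Epi φ ∧ Curv2.IsMRegular k n (kernel φ) (m + 1) := by
  classical
  have hG : Coh.IsCoh (CohB1.tensorMod F (Twist.twistProjSpace n k m)) := isCoh_twistProj hF m
  obtain ⟨b, s, hs⟩ := exists_sections hG
  let O := Coh.structureModule (CohB1.ProjSpace n k)
  let ψ : (⨁ fun _ : Fin b => O) ⟶ CohB1.tensorMod F (Twist.twistProjSpace n k m) :=
    biproduct.desc fun j => unitDesc _ (s j)
  have hψ : Function.Surjective (ψ.app (⊤ : (CohB1.ProjSpace n k).Opens)) := fun a => by
    obtain ⟨c, rfl⟩ := hs a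
    refine ⟨∑ j, c j • (biproduct.ι (fun _ : Fin b => O) j).app ⊤ (1 : Γ(CohB1.ProjSpace n k, ⊤)), ?_⟩
    rw [map_sum]
    refine Finset.sum_congr rfl fun j _ => ?_
    rw [Scheme.Modules.Hom.app_smul]
    refine congrArg (c j • ·) ?_
    refine (ConcreteCategory.congr_hom (congrArg (fun χ => Scheme.Modules.Hom.app χ ⊤)
      (biproduct.ι_desc (fun j => unitDesc _ (s j)) j)) (1 : Γ(CohB1.ProjSpace n k, ⊤))).trans ?_
    exact (unitVal_unitDesc _ (s j) ⊤).trans (resM_self _ _ _)
  haveI : Epi ψ := Preadditive.epi_of_cancel_zero _ fun {C} f hf => eq_zero_of_kills hF.1 h hG f fun a => by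
    obtain ⟨x, rfl⟩ := hψ a
    exact ConcreteCategory.congr_hom (congrArg (fun χ => Scheme.Modules.Hom.app χ ⊤) hf) x
  have hS₀ : (ShortComplex.mk (kernel.ι ψ) ψ (kernel.condition ψ)).ShortExact :=
    { exact := ShortComplex.exact_kernel ψ }
  haveI : Coh.IsQCoh (CohB1.tensorMod F (Twist.twistProjSpace n k m)) := hG.1
  haveI : Coh.IsQCoh (⨁ fun _ : Fin b => O) :=
    isQCoh_biproduct _ fun _ => Coherent.isQCoh_structureModule
  have hK₀ : Coh.IsQCoh (kernel ψ) := isQCoh_kernel ψ
  obtain ⟨e₁⟩ := nonempty_twist_assoc hF.1 (show m + -m = 0 by ring)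
  obtain ⟨e₂⟩ := nonempty_twist_zero hF.1
  let e₀ : CohB1.tensorMod (⨁ fun _ : Fin b => O) (Twist.twistProjSpace n k (-m)) ≅
      ∐ fun _ : Fin b => Twist.twistProjSpace n k (-m) :=
    twistBiproduct _ _ ≪≫ biproduct.mapIso (fun _ => unitTensorIso _) ≪≫ biproduct.isoCoproduct _
  let ψ' := tensorMap ψ (𝟙 (Twist.twistProjSpace n k (-m)))
  let φ : (∐ fun _ : Fin b => Twist.twistProjSpace n k (-m)) ⟶ F := e₀.inv ≫ ψ' ≫ (e₁ ≪≫ e₂).hom
  have hS₁ := twist_shortExact hS₀ (-m)
  haveI : Epi ψ' := hS₁.epi_g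
  haveI : Epi φ := inferInstance
  refine ⟨b, φ, inferInstance, fun i hi hin => ?_⟩
  have hker := hS₁.fIsKernel
  let eK : kernel φ ≅ CohB1.tensorMod (kernel ψ) (Twist.twistProjSpace n k (-m)) :=
    kernelIsIsoComp _ _ ≪≫ kernelCompMono _ _ ≪≫
      (limit.isLimit (parallelPair ψ' 0)).conePointUniqueUpToIso hker
  refine V_of_iso (tensorIso eK.symm (Iso.refl _)) ?_
  refine (W_iff_twist hK₀ (show -m + (m + 1 - i) = 1 - i by ring) i).2 ?_
  obtain ⟨j, rfl⟩ : ∃ j, i = j + 1 := ⟨i - 1, by omega⟩
  rcases Nat.eq_zero_or_pos j with rfl | hj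
  · refine (V_of_iso (Classical.choice (nonempty_twist_zero hK₀)).symm ?_ : W (kernel ψ) (1 - ((1 : ℕ) : ℤ)) 1)
    exact V_left_of_surjective hS₀ hψ
      (V_biproduct 1 fun _ => subsingleton_HH_structureModule n k 1 one_pos)
  · refine W_left hS₀ ?_ ?_
    · exact (W_iff_twist hF.1 (show m + (1 - ((j + 1 : ℕ) : ℤ)) = m - j by push_cast; ring) j).2 (h j hj (by omega))
    · refine V_of_iso (twistBiproduct _ _ ≪≫ biproduct.mapIso fun _ => unitTensorIso _).symm ?_
      exact V_biproduct _ fun _ => subsingleton_HH_twist (n := n) (R := k) (d := _) (j + 1) (by omega) (by omega)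

/-- A quotient of sums of `O(-m)` with an `(m+1)`-regular kernel is regular. -/
theorem isMRegular_of_presentation {F : (CohB1.ProjSpace n k).Modules} {m : ℤ} {b : ℕ}
    (φ : (∐ fun _ : Fin b => Twist.twistProjSpace n k (-m)) ⟶ F) [Epi φ] (hF : Coh.IsCoh F)
    (hK : Curv2.IsMRegular k n (kernel φ) (m + 1)) : Curv2.IsMRegular k n F m := by
  intro i hi hin
  have hS : (ShortComplex.mk (kernel.ι φ) φ (kernel.condition φ)).ShortExact :=
    { exact := ShortComplex.exact_kernel φ }
  refine W_right hS (W_free b (-m) _ hi (by omega)) ?_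
  rcases Nat.lt_or_ge i n with hlt | hge
  · have := hK (i + 1) (by omega) (by omega)
    rwa [show m + 1 - ((i + 1 : ℕ) : ℤ) = m - i by push_cast; ring] at this
  · haveI : Coh.IsQCoh F := hF.1
    haveI : Coh.IsQCoh (∐ fun _ : Fin b => Twist.twistProjSpace n k (-m)) :=
      isQCoh_of_iso (biproduct.isoCoproduct _) (h := isQCoh_biproduct _ fun _ => isQCoh_of_isInvertible (isInvertible_twistProj (-m)))
    exact V_above _ (isQCoh_twistProj (isQCoh_kernel φ) _) (i + 1) (by omega)

end Groth.Agent.CAlgH3.PSheafPres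

end
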