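import Groth.Prelude.Def_DerCA
import Mathlib.RingTheory.Artinian.Module

/-! A tower of Artinian modules with Artinian limit is essentially constant. -/

set_option autoImplicit false
set_option backward.isDefEq.respectTransparency.types false
universe u

open CategoryTheory Opposite

namespace Groth.Agent.CAlgH3.EssConstantArtinian

theorem result {A : Type u} [CommRing A] (X : ℕᵒᵖ ⥤ ModuleCat.{u} A) (hX : ∀ n, IsArtinian A (X.obj n))
    (L : ModuleCat.{u} A) [IsArtinian A L] (c : (Functor.const ℕᵒᵖ).obj L ⟶ X)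
    (hinj : ∀ x : L, (∀ n : ℕᵒᵖ, (c.app n).hom x = 0) → x = 0)
    (hsurj : ∀ y : (∀ n : ℕ, X.obj (op n)),
      (∀ (n m : ℕ) (h : n ≤ m), (X.map (homOfLE h).op).hom (y m) = y n) → ∃ x : L, ∀ n : ℕ, (c.app (op n)).hom x = y n) :
    DerCA.IsEssConstant X L c := by
  let t : ∀ (n m : ℕ), n ≤ m → (X.obj (op m) →ₗ[A] X.obj (op n)) := fun n m h => (X.map (homOfLE h).op).hom
  let γ : ∀ n : ℕ, L →ₗ[A] X.obj (op n) := fun n => (c.app (op n)).hom
  have tt : ∀ (a b d : ℕ) (h₁ : a ≤ b) (h₂ : b ≤ d) (x : X.obj (op d)), t a b h₁ (t b d h₂ x) = t a d (h₁.trans h₂) x := by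
    intro a b d h₁ h₂ x
    have : X.map (homOfLE h₂).op ≫ X.map (homOfLE h₁).op = X.map (homOfLE (h₁.trans h₂)).op := by
      rw [← Functor.map_comp]; rfl
    exact congrArg (fun g => g.hom x) this
  have tid : ∀ (a : ℕ) (x : X.obj (op a)), t a a le_rfl x = x := fun a x =>
    congrArg (fun g => g.hom x) (X.map_id (op a))
  have ct : ∀ (a b : ℕ) (h : a ≤ b) (x : L), t a b h (γ b x) = γ a x := fun a b h x =>
    (congrArg (fun g => g.hom x) (c.naturality (homOfLE h).op)).symm
  let im : ∀ n : ℕ, ℕ →o (Submodule A (X.obj (op n)))ᵒᵈ := fun n =>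
    ⟨fun k => OrderDual.toDual (LinearMap.range (t n (n + k) (by omega))), fun a b hab => by
      rintro _ ⟨x, rfl⟩
      exact ⟨t (n + a) (n + b) (by omega) x, tt _ _ _ _ _ x⟩⟩
  choose e he using fun n => (haveI := hX (op n); IsArtinian.monotone_stabilizes (im n))
  let P : ∀ n : ℕ, Submodule A (X.obj (op n)) := fun n => LinearMap.range (t n (n + e n) (by omega))
  have hP : ∀ n m (h : n ≤ m), n + e n ≤ m → LinearMap.range (t n m h) = P n := by
    intro n m h hm
    obtain ⟨k, rfl⟩ := Nat.exists_eq_add_of_le h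
    exact (congrArg OrderDual.ofDual (he n k (by omega))).symm
  have hstep : ∀ n, ∀ y ∈ P n, ∃ z ∈ P (n + 1), t n (n + 1) (by omega) z = y := by
    intro n y hy
    rw [← hP n ((n + 1) + e (n + 1) + e n) (by omega) (by omega)] at hy
    obtain ⟨x, rfl⟩ := hy
    refine ⟨t (n + 1) _ (by omega) x, ?_, tt _ _ _ _ _ x⟩
    rw [← hP (n + 1) ((n + 1) + e (n + 1) + e n) (by omega) (by omega)]
    exact ⟨x, rfl⟩
  have hrange : ∀ n, ∀ y ∈ P n, ∃ l, γ n l = y := by
    intro n y hy
    choose nx hnx1 hnx2 using hstep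
    let z : ∀ k : ℕ, P (n + k) := fun k => Nat.rec ⟨y, hy⟩ (fun k p => ⟨nx (n + k) p.1 p.2, hnx1 _ _ _⟩) k
    have hz : ∀ a b (h : a ≤ b), t (n + a) (n + b) (by omega) (z b).1 = (z a).1 := by
      intro a b h
      induction b with
      | zero => obtain rfl : a = 0 := by omega
                exact tid _ _
      | succ b ih =>
        rcases Nat.lt_or_eq_of_le h with hlt | rfl
        · rw [← tt (n + a) (n + b) (n + (b + 1)) (by omega) (by omega)]
          rw [show t (n + b) (n + (b + 1)) (by omega) (z (b + 1)).1 = (z b).1 from hnx2 _ _ _]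
          exact ih (by omega)
        · exact tid _ _
    obtain ⟨l, hl⟩ := hsurj (fun k => t k (n + k) (by omega) (z k).1) (fun a b h => by
      show t a b h (t b (n + b) _ (z b).1) = t a (n + a) _ (z a).1
      rw [tt, ← hz a b h, tt])
    refine ⟨l, (hl n).trans ?_⟩
    show t n (n + n) _ (z n).1 = y
    exact hz 0 n (Nat.zero_le n)
  obtain ⟨i0, hi0⟩ := IsArtinian.monotone_stabilizes (M := L) (R := A)
    (⟨fun n => OrderDual.toDual (LinearMap.ker (γ n)), fun a b hab x hx => by
      show γ a x = 0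
      rw [← ct a b hab, LinearMap.mem_ker.1 hx, map_zero]⟩ : ℕ →o (Submodule A L)ᵒᵈ)
  have hγ : Function.Injective (γ i0) := by
    refine (injective_iff_map_eq_zero _).2 fun x hx => hinj x fun n => ?_
    show γ n.unop x = 0
    by_cases h : i0 ≤ n.unop
    · have := congrArg OrderDual.ofDual (hi0 n.unop h)
      exact LinearMap.mem_ker.1 ((show LinearMap.ker (γ i0) = LinearMap.ker (γ n.unop) from this) ▸ LinearMap.mem_ker.2 hx)
    · rw [← ct n.unop i0 (by omega), hx, map_zero]
  let eL : L ≃ₗ[A] LinearMap.range (γ i0) := LinearEquiv.ofInjective _ hγ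
  let k0 := i0 + e i0
  let s : X.obj (op k0) →ₗ[A] L := eL.symm.toLinearMap ∘ₗ LinearMap.codRestrict (LinearMap.range (γ i0))
    (t i0 k0 (by omega)) fun x => by
      obtain ⟨l, hl⟩ := hrange i0 _ (⟨x, rfl⟩ : t i0 k0 (by omega) x ∈ P i0)
      exact ⟨l, hl⟩
  have hs : ∀ x, γ i0 (s x) = t i0 k0 (by omega) x := fun x =>
    congrArg Subtype.val (eL.apply_symm_apply _)
  refine ⟨k0, ModuleCat.ofHom s, ModuleCat.hom_ext (LinearMap.ext fun l => hγ ?_), fun j => ?_⟩
  · show γ i0 (s (γ k0 l)) = γ i0 l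
    rw [hs, ct]
  · let j' := max j i0
    refine ⟨k0 + j' + e j', by omega, by omega, ModuleCat.hom_ext (LinearMap.ext fun x => ?_)⟩
    obtain ⟨l, hl⟩ := hrange j' (t j' (k0 + j' + e j') (by omega) x)
      (by rw [← hP j' (k0 + j' + e j') (by omega) (by omega)]; exact ⟨x, rfl⟩)
    show t j _ _ x = γ j (s (t k0 _ _ x))
    have h1 : t j (k0 + j' + e j') (by omega) x = γ j l := by
      rw [← tt j j' _ (le_max_left _ _) (by omega), ← hl, ct]
    have h2 : s (t k0 (k0 + j' + e j') (by omega) x) = l := hγ (by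
      rw [hs, tt, ← tt i0 j' _ (le_max_right _ _) (by omega), ← hl, ct])
    rw [h1, h2]

end Groth.Agent.CAlgH3.EssConstantArtinian
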