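import Groth.Agent.CAlgH3.EtPicEpiZar
import Groth.Agent.Desc19b.EtQCoh.Zar
import Groth.Agent.PicH127.Units
import Groth.Prelude.Def_UnitsSh
import Groth.Prelude.Def_PicGrp

/-!
# The first étale cohomology group of the multiplicative group is the Picard group
-/

set_option autoImplicit false
set_option linter.all false
set_option backward.isDefEq.respectTransparency false
set_option backward.isDefEq.respectTransparency.types false
set_option backward.defeqAttrib.useBackward true
set_option synthInstance.maxHeartbeats 400000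
set_option maxHeartbeats 1000000

universe w w' v v' u u'

open CategoryTheory CategoryTheory.Limits CategoryTheory.Abelian

namespace Groth.Agent.CAlgH3.EtPic

section Adj

variable {A : Type u} [Category.{v} A] [Abelian A] [HasExt.{w} A]
  {B : Type u'} [Category.{v'} B] [Abelian B] [HasExt.{w'} B] [EnoughInjectives B] [HasInjectiveResolutions B]
  {L : A ⥤ B} {R : B ⥤ A} (adj : L ⊣ R) [L.Additive] [R.Additive]
  [PreservesFiniteLimits L] [PreservesFiniteColimits L] [PreservesFiniteLimits R]

open Groth.Agent.EtCmp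

theorem bijective_adjExtHom_zero (M : A) (F : B) : Function.Bijective (adjExtHom adj M F 0) := by
  have h : ∀ f : M ⟶ R.obj F, adjExtHom adj M F 0 (Ext.mk₀ f) = Ext.mk₀ ((adj.homEquiv M F).symm f) := fun f => by
    rw [adjExtHom_apply, Ext.mapExactFunctor_mk₀, Ext.mk₀_comp_mk₀, Adjunction.homEquiv_counit]
  refine ⟨fun x y hxy => ?_, fun x => ?_⟩
  · obtain ⟨f, rfl⟩ := (Ext.mk₀_bijective _ _).2 x
    obtain ⟨g, rfl⟩ := (Ext.mk₀_bijective _ _).2 y
    rw [h, h] at hxy
    rw [(adj.homEquiv M F).symm.injective ((Ext.mk₀_bijective _ _).1 hxy)]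
  · obtain ⟨f, rfl⟩ := (Ext.mk₀_bijective _ _).2 x
    exact ⟨Ext.mk₀ (adj.homEquiv M F f), by rw [h, Equiv.symm_apply_apply]⟩

/-- The adjunction isomorphism in degree one needs only one epimorphism to be preserved. -/
theorem bijective_adjExtHom_one (M : A) (F : B) (hepi : Epi (R.map (SiteCoh.injEmbed F).g)) :
    Function.Bijective (adjExtHom adj M F 1) := by
  let _ := HasDerivedCategory.standard A
  let _ := HasDerivedCategory.standard B
  let S := SiteCoh.injEmbed F
  have hS : S.ShortExact := SiteCoh.injEmbed_shortExact F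
  haveI : Injective S.X₂ := inferInstanceAs (Injective (Injective.under F))
  have hRS : (S.map R).ShortExact :=
    { exact := hS.exact.map_of_mono_of_preservesKernel R hS.mono_f inferInstance
      mono_f := by
        haveI := hS.mono_f
        exact inferInstanceAs (Mono (R.map S.f))
      epi_g := hepi }
  have hLRS : ((S.map R).map L).ShortExact := hRS.map_of_exact L
  let φ : (S.map R).map L ⟶ S :=
    { τ₁ := adj.counit.app _
      τ₂ := adj.counit.app _
      τ₃ := adj.counit.app _
      comm₁₂ := (adj.counit.naturality S.f).symm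
      comm₂₃ := (adj.counit.naturality S.g).symm }
  haveI : Injective (R.obj S.X₂) := Injective.injective_of_adjoint adj _
  haveI : Injective (S.map R).X₂ := Injective.injective_of_adjoint adj S.X₂
  have hδ : ∀ y : Ext.{w} M (R.obj S.X₃) 0, adjExtHom adj M F (0 + 1) (y.comp hRS.extClass rfl) =
      (adjExtHom adj M S.X₃ 0 y).comp hS.extClass rfl := fun y => by
    have e1 : (y.comp hRS.extClass rfl).mapExactFunctor L = (y.mapExactFunctor L).comp hLRS.extClass rfl := by
      rw [Ext.mapExactFunctor_comp, Ext.mapExactFunctor_extClass]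
    have e2 : (Ext.mk₀ (adj.counit.app S.X₃)).comp hS.extClass (zero_add 1) =
        hLRS.extClass.comp (Ext.mk₀ (adj.counit.app S.X₁)) (add_zero 1) :=
      (ShortComplex.ShortExact.extClass_naturality hLRS hS φ).symm
    rw [adjExtHom_apply, adjExtHom_apply, e1, Ext.comp_assoc_of_second_deg_zero, e2]
    exact Ext.comp_assoc_of_third_deg_zero _ _ _ _
  have hg : ∀ w' : Ext.{w} M (R.obj S.X₂) 0,
      adjExtHom adj M S.X₃ 0 (w'.comp (Ext.mk₀ (R.map S.g)) (add_zero 0)) =
        (adjExtHom adj M S.X₂ 0 w').comp (Ext.mk₀ S.g) (add_zero 0) := fun w' => by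
    rw [adjExtHom_apply, adjExtHom_apply, Ext.mapExactFunctor_comp, Ext.mapExactFunctor_mk₀,
      Ext.comp_assoc_of_third_deg_zero, Ext.comp_assoc_of_third_deg_zero, Ext.mk₀_comp_mk₀, Ext.mk₀_comp_mk₀]
    exact congrArg (fun t => (w'.mapExactFunctor L).comp (Ext.mk₀ t) (add_zero 0)) (adj.counit.naturality S.g)
  refine ⟨(injective_iff_map_eq_zero _).2 fun z hz => ?_, fun x => ?_⟩
  · obtain ⟨y, rfl⟩ := Ext.covariant_sequence_exact₁ M hRS z (Ext.eq_zero_of_injective _) rfl
    erw [hδ] at hz
    obtain ⟨w₀, hw⟩ := Ext.covariant_sequence_exact₃ _ hS _ rfl hz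
    obtain ⟨w', rfl⟩ := (bijective_adjExtHom_zero adj M S.X₂).2 w₀
    have hy : y = w'.comp (Ext.mk₀ (R.map S.g)) (add_zero 0) :=
      (bijective_adjExtHom_zero adj M S.X₃).1 ((hg w').trans hw).symm
    subst hy
    rw [Ext.comp_assoc_of_second_deg_zero]
    erw [hRS.comp_extClass]
    exact Ext.comp_zero w' _ _ _ _
  · obtain ⟨y, hy⟩ := Ext.covariant_sequence_exact₁ _ hS x (Ext.eq_zero_of_injective _) rfl
    obtain ⟨y', rfl⟩ := (bijective_adjExtHom_zero adj M S.X₃).2 y
    exact ⟨y'.comp hRS.extClass rfl, (hδ y').trans hy⟩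

end Adj

open AlgebraicGeometry Opposite TopologicalSpace

variable (X : Scheme.{u})

/-- Units over an open, two ways. -/
noncomputable def openUnits (U : X.Opens) :
    ULift.{u + 1} (Additive Γ(X, U)ˣ) ≃+ ULift.{u + 1} (Additive Γ((U : Scheme.{u}), ⊤)ˣ) :=
  (AddEquiv.ulift.trans
    (Units.mapEquiv U.topIso.symm.commRingCatIsoToRingEquiv.toMulEquiv).toAdditive).trans AddEquiv.ulift.symm

theorem topIso_inv_naturality {U V : X.Opens} (h : V ≤ U) (s : Γ(X, U)) :
    (X.homOfLE h).appTop.hom (U.topIso.inv.hom s) = V.topIso.inv.hom ((X.presheaf.map (homOfLE h).op).hom s) := by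
  rw [← CommRingCat.comp_apply, ← CommRingCat.comp_apply]
  congr 2
  simp only [Scheme.Opens.topIso_inv, Scheme.Hom.appTop, Scheme.homOfLE_app]
  erw [← Functor.map_comp, ← Functor.map_comp]
  congr 1

/-- The Zariski sheaf of units, one universe up, is the restriction of the étale `G_m`. -/
noncomputable def unitsIso : (UnitsSh.unitsAb X).obj ⋙ AddCommGrpCat.uliftFunctor.{u + 1, u} ≅
    (EtZar.zarToEt X).op ⋙ (EtCoh.Gm X).obj :=
  NatIso.ofComponents (fun U => AddEquiv.toAddCommGrpIso (openUnits X U.unop)) fun {U V} m => by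
    ext t
    refine ULift.ext _ _ (Additive.toMul.injective (Units.ext ?_))
    exact (topIso_inv_naturality X m.unop.le _).symm

/-- The same on sheaves. -/
noncomputable def resZarGmIso [EtZar.ZarCont X] :
    (Desc19b.EtQCoh.lift X).obj (UnitsSh.unitsAb X) ≅ (EtZar.resZar X).obj (EtCoh.Gm X) :=
  (fullyFaithfulSheafToPresheaf _ _).preimageIso (unitsIso X)

/-- Étale and Zariski cohomology of the multiplicative group agree in degree one. -/
theorem nonempty_H1_iso :
    Nonempty (EtCoh.H X (EtCoh.Gm X) 1 ≃+ ULift.{u + 1} (CohTop.H (UnitsSh.unitsAb X) 1)) := by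
  haveI := Desc19b.EtQCoh.zarCont X
  let c := (constantSheaf (Opens.grothendieckTopology X) AddCommGrpCat.{u + 1}).obj
    (AddCommGrpCat.of (ULift.{u + 1} ℤ))
  have hepi : Epi ((EtZar.resZar X).map (SiteCoh.injEmbed (EtCoh.Gm X)).g) :=
    EtPicLocal.epi_resZar_map (SiteCoh.injEmbed (EtCoh.Gm X)).f (SiteCoh.injEmbed (EtCoh.Gm X)).g
      (SiteCoh.injEmbed (EtCoh.Gm X)).zero (SiteCoh.injEmbed_shortExact (EtCoh.Gm X))
  have h := bijective_adjExtHom_one (EtZarCmp.zarAdj X) c (EtCoh.Gm X) hepi
  have a : EtCoh.H X (EtCoh.Gm X) 1 ≃+ EtZar.H ((EtZar.resZar X).obj (EtCoh.Gm X)) 1 :=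
    ((AddEquiv.ofBijective _ h).trans (EtZarCmp.extIsoLeft (EtZarCmp.pullConstIso X _) 1)).symm
  obtain ⟨b⟩ := Desc19b.EtQCoh.nonempty_H_lift 1 (UnitsSh.unitsAb X)
  exact ⟨a.trans (((Sheaf.functorH _ 1).mapIso (resZarGmIso X).symm).addCommGroupIsoToAddEquiv.trans b)⟩

/-- The Picard group is the first étale cohomology group of the multiplicative group. -/
theorem nonempty_pic_addEquiv [PicGrp.Law X] :
    Nonempty (Additive (PicLoc.PicSet X) ≃+ EtCoh.H X (EtCoh.Gm X) 1) := by
  obtain ⟨e⟩ := nonempty_H1_iso X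
  exact ⟨(AddEquiv.ofBijective (PicH127.picToH1 (PicH127.hasTriv_id (X := X)))
    (PicH127.picToH1_bijective _)).trans (AddEquiv.ulift.symm.trans e.symm)⟩

end Groth.Agent.CAlgH3.EtPic
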