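import Groth.Agent.CommAlg4.WittDescMat

/-!
# A unit cocycle on a faithfully flat algebra is locally on the base a coboundary
-/

set_option autoImplicit false
set_option linter.all false

universe u

open TensorProduct

namespace Groth.Agent.CAlgH3.EtPicAlg

open Groth.Agent.CommAlg4.WittDescMat

variable {A B : Type u} [CommRing A] [CommRing B] [Algebra A B]

theorem mu_eq_one (η : (T2 A B)ˣ)
    (hη : d12 (η : T2 A B) * d23 (η : T2 A B) = d13 (η : T2 A B)) : μ (η : T2 A B) = 1 := by
  let m : T3 A B →+* B := (μ (R := A) (R' := B)).comp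
    (Algebra.TensorProduct.map (AlgHom.id A B) (Algebra.TensorProduct.lmul' A (S := B))).toRingHom
  have h12 : ∀ t : T2 A B, m (d12 t) = μ t := fun t => by
    induction t using TensorProduct.induction_on with
    | zero => simp
    | tmul a b => simp [m, d12_tmul, μ_tmul]
    | add x y hx hy => simp only [map_add, hx, hy]
  have h13 : ∀ t : T2 A B, m (d13 t) = μ t := fun t => by
    induction t using TensorProduct.induction_on with
    | zero => simp
    | tmul a b => simp [m, d13_tmul, μ_tmul]
    | add x y hx hy => simp only [map_add, hx, hy]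
  have h23 : ∀ t : T2 A B, m (d23 t) = μ t := fun t => by
    induction t using TensorProduct.induction_on with
    | zero => simp
    | tmul a b => simp [m, d23_apply, μ_tmul]
    | add x y hx hy => simp only [map_add, hx, hy]
  have h := congrArg m hη
  rw [map_mul, h12, h13, h23] at h
  exact (η.isUnit.map (μ (R := A) (R' := B))).mul_eq_left.1 h

/-- A unit cocycle is, near every prime of the base, a coboundary. -/
theorem exists_local_primitive [Module.FaithfullyFlat A B] (η : (T2 A B)ˣ)
    (hη : d12 (η : T2 A B) * d23 (η : T2 A B) = d13 (η : T2 A B)) (p : Ideal A) (hp : p ≠ ⊤) :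
    ∃ f : A, f ∉ p ∧ ∃ g y : B, g * y = algebraMap A B f ∧ i1 g * (η : T2 A B) = i2 g := by
  let E : Matrix Unit Unit B := 1
  let M : Matrix Unit Unit (T2 A B) := fun _ _ => (η : T2 A B)
  have hM : IsDatum E M := by
    refine ⟨?_, ?_, ?_, ?_⟩
    · simp [E, Matrix.map_one]
    · simp [E, Matrix.map_one]
    · ext i j; simpa [M, Matrix.mul_apply] using hη
    · ext i j; simpa [M, E, Matrix.one_apply] using mu_eq_one η hη
  obtain ⟨s, Q, G, Y, -, -, hG, -, hYG, hGY⟩ := exists_effective hM
  have hsum : ∑ k, G k () * Y () k = 1 := by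
    have h := congrFun (congrFun hYG ()) ()
    rw [Matrix.mul_apply] at h
    rw [← show E () () = 1 from Matrix.one_apply_eq (), ← h]
    exact Finset.sum_congr rfl fun k _ => mul_comm _ _
  have hkk : ∀ k, G k () * Y () k = algebraMap A B (Q k k) := fun k => by
    have h := congrFun (congrFun hGY k) k
    rw [Matrix.mul_apply, Fintype.sum_unique] at h
    exact h
  have htr : ∑ k, Q k k = 1 := by
    refine FaithfulSMul.algebraMap_injective A B ?_
    rw [map_one, map_sum, ← hsum]
    exact Finset.sum_congr rfl fun k _ => (hkk k).symm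
  obtain ⟨k, hk⟩ : ∃ k, Q k k ∉ p := by
    by_contra h
    push Not at h
    exact hp (p.eq_top_iff_one.2 (htr ▸ p.sum_mem fun k _ => h k))
  refine ⟨Q k k, hk, G k (), Y () k, hkk k, ?_⟩
  have h := congrFun (congrFun hG k) ()
  change ∑ j, G.map i1 k j * (η : T2 A B) = i2 (G k ()) at h
  rw [Fintype.sum_unique] at h
  exact h

end Groth.Agent.CAlgH3.EtPicAlg
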