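import Groth.Agent.CAlgH3.EtPicLocal
import Groth.Agent.Desc19b.EtQCoh.Restr

/-!
# Torsors of the multiplicative group on the small étale site are Zariski locally trivial, II
-/

set_option autoImplicit false
set_option linter.all false
set_option backward.isDefEq.respectTransparency false
set_option backward.isDefEq.respectTransparency.types false
set_option synthInstance.maxHeartbeats 400000
set_option maxHeartbeats 2000000

universe u

open CategoryTheory CategoryTheory.Limits AlgebraicGeometry Opposite TopologicalSpace TensorProduct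

namespace Groth.Agent.CAlgH3.EtPicLocal

open Groth.Agent.CommAlg4.WittDescMat (T2 T3 i1 i2)

variable {X : Scheme.{u}} {V : X.Opens} (hV : IsAffineOpen V) {G₂ G₃ : EtCoh.Ab X}
  (f : EtCoh.Gm X ⟶ G₂) (g : G₂ ⟶ G₃) (w : f ≫ g = 0) (hS : (ShortComplex.mk f g w).ShortExact)

include hS in
/-- A section of the quotient which lifts on a faithfully flat étale algebra lifts Zariski locally. -/
theorem exists_local_lift (B : Type u) [CommRing B] [Algebra Γ(X, V) B] [Algebra.Etale Γ(X, V) B]
    [Module.FaithfullyFlat Γ(X, V) B] {U : X.Opens} (hVU : V ≤ U)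
    (q : EtCoh.sect G₃ ((EtZar.zarToEt X).obj U)) (y₀ : EtCoh.sect G₂ (E hV B))
    (hy₀ : g.hom.app (op (E hV B)) y₀ = G₃.obj.map (toU hV hVU B).op q) {x : X} (hx : x ∈ V) :
    ∃ (W : X.Opens) (hWU : W ≤ U), x ∈ W ∧ ∃ y : EtCoh.sect G₂ ((EtZar.zarToEt X).obj W),
      g.hom.app (op ((EtZar.zarToEt X).obj W)) y =
        G₃.obj.map ((EtZar.zarToEt X).map (homOfLE hWU)).op q := by
  have gnat : ∀ {P P' : X.Etale} (m : P' ⟶ P) (s : EtCoh.sect G₂ P),
      g.hom.app (op P') (G₂.obj.map m.op s) = G₃.obj.map m.op (g.hom.app (op P) s) :=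
    fun m s => NatTrans.naturality_apply g.hom m.op s
  have fnat : ∀ {P P' : X.Etale} (m : P' ⟶ P) (s : EtCoh.sect (EtCoh.Gm X) P),
      f.hom.app (op P') ((EtCoh.Gm X).obj.map m.op s) = G₂.obj.map m.op (f.hom.app (op P) s) :=
    fun m s => NatTrans.naturality_apply f.hom m.op s
  have fg : ∀ (P : X.Etale) (s : EtCoh.sect (EtCoh.Gm X) P),
      g.hom.app (op P) (f.hom.app (op P) s) = 0 := fun P s => by
    have h := congrArg (fun m : EtCoh.Gm X ⟶ G₃ => m.hom.app (op P) s) w
    exact h
  -- the difference of the two restrictions to `B ⊗ B`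
  set d := G₂.obj.map (emap hV (j2 B)).op y₀ - G₂.obj.map (emap hV (j1 B)).op y₀ with hd
  have hgd : g.hom.app (op (E hV (T2 Γ(X, V) B))) d = 0 := by
    rw [hd, map_sub, gnat, gnat, hy₀, ← Functor.map_comp_apply, ← op_comp, ← Functor.map_comp_apply, ← op_comp,
      EtZarCmp.hom_zar_ext X (emap hV (j2 B) ≫ toU hV hVU B) (emap hV (j1 B) ≫ toU hV hVU B), sub_self]
  obtain ⟨t, ht⟩ := exists_eq_of_g_eq_zero hS _ d hgd
  change f.hom.app (op (E hV (T2 Γ(X, V) B))) t = d at ht
  obtain ⟨η, rfl⟩ := us_surjective hV (T2 Γ(X, V) B) t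
  -- it is a cocycle
  have hcd : G₂.obj.map (emap hV (e12 B)).op d + G₂.obj.map (emap hV (e23 B)).op d =
      G₂.obj.map (emap hV (e13 B)).op d := by
    simp only [hd, map_sub, map_emap_comp, e12_j2, e13_j1, e13_j2]
    abel
  have hη' : Units.map (e12 (X := X) (V := V) B).toRingHom.toMonoidHom η *
      Units.map (e23 (X := X) (V := V) B).toRingHom.toMonoidHom η =
      Units.map (e13 (X := X) (V := V) B).toRingHom.toMonoidHom η := by
    refine us_injective hV _ (f_injective hS _ ?_)
    show f.hom.app _ _ = f.hom.app _ _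
    rw [us_mul, map_add, ← map_us, ← map_us, ← map_us, fnat, fnat, fnat, ht]
    exact hcd
  -- hence locally a coboundary
  obtain ⟨p, hp⟩ : x ∈ Set.range hV.fromSpec := by rw [hV.range_fromSpec]; exact hx
  obtain ⟨r, hr, c, c', hcc, hc⟩ := EtPicAlg.exists_local_primitive η (congrArg Units.val hη')
    p.asIdeal p.2.ne_top
  let B' : Type u := Localization.Away (algebraMap Γ(X, V) B r)
  haveI : IsScalarTower Γ(X, V) B B' := inferInstance
  haveI : Algebra.Etale Γ(X, V) B' := Algebra.Etale.comp Γ(X, V) B B'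
  let ι : B →ₐ[Γ(X, V)] B' := IsScalarTower.toAlgHom Γ(X, V) B B'
  have hcu : IsUnit (algebraMap B B' c) := by
    refine isUnit_of_mul_isUnit_left (y := algebraMap B B' c') ?_
    rw [← map_mul, hcc]
    exact IsLocalization.Away.algebraMap_isUnit _
  let b : B'ˣ := hcu.unit
  let β : T2 Γ(X, V) B →ₐ[Γ(X, V)] T2 Γ(X, V) B' := Algebra.TensorProduct.map ι ι
  have hβ1 : β.comp (j1 B) = (j1 B').comp ι := by ext z; simp [β, j1]
  have hβ2 : β.comp (j2 B) = (j2 B').comp ι := by ext z; simp [β, j2]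
  have hb : Units.map (j1 (X := X) (V := V) B').toRingHom.toMonoidHom b *
      Units.map β.toRingHom.toMonoidHom η = Units.map (j2 (X := X) (V := V) B').toRingHom.toMonoidHom b := by
    refine Units.ext ?_
    show j1 B' (algebraMap B B' c) * β (η : T2 Γ(X, V) B) = j2 B' (algebraMap B B' c)
    have h := congrArg β hc
    rw [map_mul] at h
    rw [show j1 B' (algebraMap B B' c) = β (i1 c) from (AlgHom.congr_fun hβ1 c).symm, h]
    exact AlgHom.congr_fun hβ2 c
  set y' := G₂.obj.map (emap hV ι).op y₀ - f.hom.app (op (E hV B')) (us hV B' b) with hy'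
  have hy'd : G₂.obj.map (emap hV (j1 B')).op y' = G₂.obj.map (emap hV (j2 B')).op y' := by
    have h1 : G₂.obj.map (emap hV β).op d =
        G₂.obj.map (emap hV ((j2 B').comp ι)).op y₀ - G₂.obj.map (emap hV ((j1 B').comp ι)).op y₀ := by
      rw [hd, map_sub, map_emap_comp, map_emap_comp, hβ1, hβ2]
    have h2 : G₂.obj.map (emap hV β).op d = f.hom.app _ (us hV _ (Units.map β.toRingHom.toMonoidHom η)) := by
      rw [← ht, ← fnat, map_us]
    have h3 : f.hom.app _ (us hV _ (Units.map (j2 (X := X) (V := V) B').toRingHom.toMonoidHom b)) =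
        f.hom.app _ (us hV _ (Units.map (j1 (X := X) (V := V) B').toRingHom.toMonoidHom b)) +
          G₂.obj.map (emap hV β).op d := by
      rw [h2, ← map_add, ← us_mul, hb]
    simp only [hy', map_sub, map_emap_comp, ← fnat, map_us]
    rw [h3, h1]
    abel
  have hgy' : g.hom.app (op (E hV B')) y' = G₃.obj.map (toU hV hVU B').op q := by
    rw [hy', map_sub, fg, sub_zero, gnat, hy₀, ← Functor.map_comp_apply, ← op_comp,
      EtZarCmp.hom_zar_ext X (emap hV ι ≫ toU hV hVU B) (toU hV hVU B')]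
  -- descend
  have hWU : X.basicOpen r ≤ U := (X.basicOpen_le r).trans hVU
  have hrng : ∀ v, v ∈ X.basicOpen r ↔ v ∈ Set.range (strE hV B') := by
    intro v
    constructor
    · intro hv
      obtain ⟨P, rfl⟩ : v ∈ Set.range hV.fromSpec := by
        rw [hV.range_fromSpec]; exact X.basicOpen_le r hv
      have hP : r ∉ P.asIdeal := by
        have : P ∈ hV.fromSpec ⁻¹ᵁ X.basicOpen r := hv
        rw [hV.fromSpec_preimage_basicOpen] at this
        exact this
      obtain ⟨Q, hQ⟩ := PrimeSpectrum.comap_surjective_of_faithfullyFlat (A := Γ(X, V)) (B := B) P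
      have hQr : Q ∈ Set.range (PrimeSpectrum.comap (algebraMap B B')) := by
        rw [PrimeSpectrum.localization_away_comap_range B' (algebraMap Γ(X, V) B r)]
        intro hmem
        exact hP (by rw [← hQ]; exact hmem)
      obtain ⟨Q', rfl⟩ := hQr
      refine ⟨Q', ?_⟩
      rw [strE, Scheme.Hom.comp_apply]
      congr 1
    · rintro ⟨Q', rfl⟩
      rw [strE, Scheme.Hom.comp_apply]
      show Spec.map (CommRingCat.ofHom (algebraMap Γ(X, V) B')) Q' ∈ hV.fromSpec ⁻¹ᵁ X.basicOpen r
      rw [hV.fromSpec_preimage_basicOpen]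
      intro hmem
      refine Q'.2.ne_top ((Q'.asIdeal).eq_top_of_isUnit_mem hmem ?_)
      show IsUnit (algebraMap Γ(X, V) B' r)
      rw [IsScalarTower.algebraMap_apply Γ(X, V) B B']
      exact IsLocalization.Away.algebraMap_isUnit _
  let k : E hV B' ⟶ (EtZar.zarToEt X).obj (X.basicOpen r) := EtZarCmp.homTo X _ (by
    rw [Scheme.Opens.range_ι]
    exact fun v hv => (hrng v).2 hv)
  obtain ⟨y, hy, -⟩ := existsUnique_descent hV B' G₂ k (fun v hv => (hrng v).1 hv) y' hy'd
  refine ⟨X.basicOpen r, hWU, ?_, y, ?_⟩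
  · rw [← hp]
    show p ∈ hV.fromSpec ⁻¹ᵁ X.basicOpen r
    rw [hV.fromSpec_preimage_basicOpen]
    exact hr
  · obtain ⟨z, -, huniq⟩ := existsUnique_descent hV B' G₃ k (fun v hv => (hrng v).1 hv)
      (g.hom.app (op (E hV B')) y') (by rw [← gnat, ← gnat, hy'd])
    refine (huniq _ ?_).trans (huniq _ ?_).symm
    · show G₃.obj.map k.op (g.hom.app _ y) = g.hom.app _ y'
      rw [← gnat, hy]
    · show G₃.obj.map k.op (G₃.obj.map _ q) = g.hom.app _ y'
      rw [hgy', ← Functor.map_comp_apply, ← op_comp,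
        EtZarCmp.hom_zar_ext X (k ≫ (EtZar.zarToEt X).map (homOfLE hWU)) (toU hV hVU B')]

end Groth.Agent.CAlgH3.EtPicLocal
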