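import Groth.Agent.CAlgH3.EtPicEpi
import Groth.Agent.Desc19b.EtQCoh.Restr

/-!
# Torsors of the multiplicative group on the small étale site are Zariski locally trivial, III
-/

set_option autoImplicit false
set_option linter.all false
set_option backward.isDefEq.respectTransparency false
set_option backward.isDefEq.respectTransparency.types false
set_option synthInstance.maxHeartbeats 400000
set_option maxHeartbeats 2000000

universe u

open CategoryTheory CategoryTheory.Limits AlgebraicGeometry Opposite TopologicalSpace TensorProduct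

namespace Groth.Agent.CAlgH3.EtPicLocal

variable {X : Scheme.{u}} {G₂ G₃ : EtCoh.Ab X}
  (f : EtCoh.Gm X ⟶ G₂) (g : G₂ ⟶ G₃) (w : f ≫ g = 0) (hS : (ShortComplex.mk f g w).ShortExact)

include hS in
/-- Restriction to the Zariski site keeps `g` an epimorphism. -/
theorem epi_resZar_map [EtZar.ZarCont X] : Epi ((EtZar.resZar X).map g) := by
  haveI : Epi g := hS.epi_g
  haveI : Sheaf.IsLocallySurjective g :=
    (Sheaf.isLocallySurjective_iff_epi' (A := AddCommGrpCat.{u + 1}) g).2 inferInstance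
  haveI : Sheaf.IsLocallySurjective ((EtZar.resZar X).map g) := by
    refine ⟨fun {U} q x hxU => ?_⟩
    obtain ⟨Z, k, ⟨y, hy⟩, z, hz⟩ := EtCechLib.exists_mem_of_mem
      (Presheaf.imageSieve_mem X.smallEtaleTopology g.hom q) (⟨x, hxU⟩ : (U : X.Opens))
    haveI : AlgebraicGeometry.Etale Z.hom := Z.prop
    let h : Z.left ⟶ X := Z.hom
    haveI : AlgebraicGeometry.Etale h := Z.prop
    have hk : k.left ≫ Scheme.Opens.ι U = h := CategoryTheory.Over.w k.hom
    have hzx : h z = x := by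
      rw [← hk]
      exact congrArg Subtype.val hz
    obtain ⟨V₀, hV₀, hxV₀, -⟩ := exists_isAffineOpen_mem_and_subset (X := X) (x := x) (U := U) hxU
    obtain ⟨W₀, hW₀, hzW₀, hW₀V₀⟩ := exists_isAffineOpen_mem_and_subset (X := Z.left) (x := z)
      (U := h ⁻¹ᵁ V₀) (show h z ∈ V₀ by rw [hzx]; exact hxV₀)
    have hopen : IsOpen (h '' (W₀ : Set Z.left)) := h.isOpenMap _ W₀.2
    let O : X.Opens := ⟨h '' (W₀ : Set Z.left), hopen⟩ ⊓ U
    obtain ⟨r, hrO, hxr⟩ := hV₀.exists_basicOpen_le (V := O) (⟨x, ⟨⟨z, hzW₀, hzx⟩, hxU⟩⟩) hxV₀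
    let V := X.basicOpen r
    let W₁ := Z.left.basicOpen ((h.appLE V₀ W₀ hW₀V₀).hom r)
    have hW₁ : IsAffineOpen W₁ := hW₀.basicOpen _
    have hVa : IsAffineOpen V := hV₀.basicOpen r
    have hW₁eq : W₁ = W₀ ⊓ h ⁻¹ᵁ V := Scheme.basicOpen_appLE h W₀ V₀ hW₀V₀ r
    have hW₁V : W₁ ≤ h ⁻¹ᵁ V := hW₁eq ▸ inf_le_right
    algebraize [(h.appLE V W₁ hW₁V).hom]
    haveI : Algebra.Etale Γ(X, V) Γ(Z.left, W₁) := by
      rw [← RingHom.etale_algebraMap]
      exact Scheme.Hom.etale_appLE h hVa hW₁ hW₁V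
    have hstr : strE hVa Γ(Z.left, W₁) = hW₁.fromSpec ≫ h := hVa.SpecMap_appLE_fromSpec h hW₁ hW₁V
    haveI : Module.Flat Γ(X, V) Γ(Z.left, W₁) := inferInstance
    haveI : Module.FaithfullyFlat Γ(X, V) Γ(Z.left, W₁) := by
      refine Module.FaithfullyFlat.of_comap_surjective fun P => ?_
      have hP : hVa.fromSpec P ∈ V := by
        rw [← SetLike.mem_coe, ← hVa.range_fromSpec]; exact Set.mem_range_self P
      obtain ⟨v, hv, hve⟩ := (hrO hP).1
      have hv1 : v ∈ W₁ := by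
        rw [hW₁eq]
        exact ⟨hv, show h v ∈ V by rw [hve]; exact hP⟩
      obtain ⟨Q, hQ⟩ : v ∈ Set.range hW₁.fromSpec := by rw [hW₁.range_fromSpec]; exact hv1
      refine ⟨Q, hVa.fromSpec.isOpenEmbedding.injective ?_⟩
      rw [← hve, ← hQ, ← Scheme.Hom.comp_apply, ← hstr, strE, Scheme.Hom.comp_apply]
      rfl
    let e₀ : E hVa Γ(Z.left, W₁) ⟶ Z := MorphismProperty.Over.homMk hW₁.fromSpec hstr.symm trivial
    have hVU : V ≤ U := hrO.trans inf_le_right
    obtain ⟨W, hWU, hxW, y', hy'⟩ := exists_local_lift hVa f g w hS Γ(Z.left, W₁) hVU q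
      (G₂.obj.map e₀.op y) (by
        rw [NatTrans.naturality_apply g.hom e₀.op y, hy, ← Functor.map_comp_apply, ← op_comp,
          EtZarCmp.hom_zar_ext X (e₀ ≫ k) (toU hVa hVU _)]
        rfl) hxr
    exact ⟨W, homOfLE hWU, ⟨y', hy'⟩, hxW⟩
  exact Sheaf.epi_of_isLocallySurjective _

end Groth.Agent.CAlgH3.EtPicLocal
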