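import Groth.Prelude.Def_EtCore
import Groth.Agent.CAlgH3.EtPicEpiZar
import Groth.Agent.Desc19b.EtQCoh.Zar

/-!
# Classes in `H¹(X, 𝔾_m)` vanish Zariski locally
-/

set_option autoImplicit false
set_option linter.all false
set_option backward.isDefEq.respectTransparency false
set_option backward.isDefEq.respectTransparency.types false
set_option synthInstance.maxHeartbeats 400000
set_option maxHeartbeats 400000

universe u

open CategoryTheory CategoryTheory.Limits CategoryTheory.Abelian AlgebraicGeometry Opposite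

namespace Groth.Agent.CAlgH3.EtPicHpull

variable {X : Scheme.{u}} (U : X.Opens)

theorem isIso_bc_map (m : (EtZar.zarToEt X).obj U ⟶ (EtZar.zarToEt X).obj ⊤) :
    IsIso ((EtCoh.bc U.ι).map m) := by
  have sq := EtCoh.isPullback_bc_map U.ι m
  have hm : m.left ≫ Scheme.Opens.ι ⊤ = U.ι := CategoryTheory.Over.w m.hom
  haveI : IsOpenImmersion (m.left ≫ Scheme.Opens.ι ⊤) := hm ▸ inferInstance
  haveI : IsOpenImmersion m.left := IsOpenImmersion.of_comp m.left (Scheme.Opens.ι ⊤)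
  haveI : IsOpenImmersion ((EtCoh.bc U.ι).map m).left :=
    MorphismProperty.of_isPullback sq.flip inferInstance
  haveI : Surjective ((EtCoh.bc U.ι).map m).left := ⟨fun p => by
    let pt : ((⊤ : X.Opens) : Scheme.{u}) :=
      (pullback.fst ((EtZar.zarToEt X).obj ⊤).hom U.ι : ((EtCoh.bc U.ι).obj ((EtZar.zarToEt X).obj ⊤)).left ⟶ _) p
    let pu : (U : Scheme.{u}) :=
      (pullback.snd ((EtZar.zarToEt X).obj ⊤).hom U.ι : ((EtCoh.bc U.ι).obj ((EtZar.zarToEt X).obj ⊤)).left ⟶ _) p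
    have e : Scheme.Opens.ι ⊤ pt = U.ι pu := congrArg (fun f : pullback ((EtZar.zarToEt X).obj ⊤).hom U.ι ⟶ X => f p)
      pullback.condition
    have e' : m.left pu = pt :=
      (Scheme.Opens.ι ⊤).isOpenEmbedding.injective (((congrArg (fun f => f pu) hm)).trans e.symm)
    obtain ⟨z, -, hz⟩ := Scheme.exists_preimage_of_isPullback sq.flip pu p e'
    exact ⟨z, hz⟩⟩
  haveI : IsIso ((EtCoh.bc U.ι).map m).left := (isIso_iff_isOpenImmersion_and_surjective _).2 ⟨inferInstance, inferInstance⟩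
  haveI : IsIso ((Scheme.Etale.forget (U : Scheme.{u}) ⋙ CategoryTheory.Over.forget (U : Scheme.{u})).map
    ((EtCoh.bc U.ι).map m)) := by assumption
  exact isIso_of_reflects_iso _ (Scheme.Etale.forget (U : Scheme.{u}) ⋙ CategoryTheory.Over.forget (U : Scheme.{u}))

/-- A class in `H¹(X, 𝔾_m)` vanishes near every point. -/
theorem exists_Hpull_eq_zero (c : EtCoh.H X (EtCoh.Gm X) 1) (x : X) :
    ∃ U : X.Opens, x ∈ U ∧ ∀ [PreservesFiniteLimits (EtCoh.pull U.ι)],
      EtCore.Hpull U.ι (EtCoh.Gm X) 1 c = 0 := by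
  haveI := Desc19b.EtQCoh.zarCont X
  let S := SiteCoh.injEmbed (EtCoh.Gm X)
  have hS : S.ShortExact := SiteCoh.injEmbed_shortExact _
  haveI : Injective S.X₂ := inferInstanceAs (Injective (Injective.under _))
  obtain ⟨z, rfl⟩ := Ext.covariant_sequence_exact₁ _ hS c (Ext.eq_zero_of_injective _) rfl
  obtain ⟨φ, rfl⟩ := (Ext.mk₀_bijective _ _).2 z
  let adjC := constantSheafAdj X.smallEtaleTopology AddCommGrpCat.{u + 1} (EtZarCmp.isTerminalTop X)
  let Z := AddCommGrpCat.of (ULift.{u + 1} ℤ)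
  let q : S.X₃.obj.obj (op ((EtZar.zarToEt X).obj ⊤)) := adjC.homEquiv Z S.X₃ φ (ULift.up 1)
  haveI hepi : Epi ((EtZar.resZar X).map S.g) := EtPicLocal.epi_resZar_map S.f S.g S.zero hS
  haveI : Sheaf.IsLocallySurjective ((EtZar.resZar X).map S.g) :=
    (Sheaf.isLocallySurjective_iff_epi' (A := AddCommGrpCat.{u + 1}) _).2 inferInstance
  obtain ⟨U, i, ⟨y, hy⟩, hxU⟩ := Presheaf.imageSieve_mem (Opens.grothendieckTopology X)
    ((EtZar.resZar X).map S.g).hom (U := op (⊤ : X.Opens)) q x trivial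
  change X.Opens at U
  refine ⟨U, hxU, fun {_} => ?_⟩
  haveI : (EtCoh.pull U.ι).Additive := (EtCoh.pullPushAdj U.ι).left_adjoint_additive
  haveI := (EtCoh.pullPushAdj U.ι).leftAdjoint_preservesColimits
  let m := (EtZar.zarToEt X).map i
  haveI := isIso_bc_map U m
  let adj := EtCoh.pullPushAdj U.ι
  let F₂ := (EtCoh.pull U.ι).obj S.X₂
  let F₃ := (EtCoh.pull U.ι).obj S.X₃
  let yb : F₂.obj.obj (op ((EtCoh.bc U.ι).obj ((EtZar.zarToEt X).obj U))) := (adj.unit.app S.X₂).hom.app _ y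
  let yt : F₂.obj.obj (op ((EtCoh.bc U.ι).obj ((EtZar.zarToEt X).obj ⊤))) :=
    F₂.obj.map (inv ((EtCoh.bc U.ι).map m)).op yb
  have h1 : ((EtCoh.pull U.ι).map S.g).hom.app _ yb =
      F₃.obj.map ((EtCoh.bc U.ι).map m).op ((adj.unit.app S.X₃).hom.app _ q) := by
    refine ((ConcreteCategory.congr_hom
      (congrArg (fun k => k.hom.app (op ((EtZar.zarToEt X).obj U))) (adj.unit.naturality S.g)) y).symm).trans ?_
    refine Eq.trans (congrArg ((adj.unit.app S.X₃).hom.app _) hy) ?_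
    exact NatTrans.naturality_apply (adj.unit.app S.X₃).hom m.op q
  have h2 : ((EtCoh.pull U.ι).map S.g).hom.app _ yt = (adj.unit.app S.X₃).hom.app _ q := by
    rw [NatTrans.naturality_apply ((EtCoh.pull U.ι).map S.g).hom, h1, ← Functor.map_comp_apply, ← op_comp,
      IsIso.inv_hom_id, op_id, CategoryTheory.Functor.map_id]
    rfl
  let b' : Z ⟶ ((EtCoh.push U.ι).obj F₂).obj.obj (op ((EtZar.zarToEt X).obj ⊤)) :=
    AddCommGrpCat.ofHom (uliftZMultiplesHom _ yt)
  let b := (adjC.homEquiv Z ((EtCoh.push U.ι).obj F₂)).symm b'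
  have hb : b ≫ (EtCoh.push U.ι).map ((EtCoh.pull U.ι).map S.g) = φ ≫ adj.unit.app S.X₃ := by
    refine (adjC.homEquiv Z _).injective ?_
    rw [Adjunction.homEquiv_naturality_right, Adjunction.homEquiv_naturality_right, Equiv.apply_symm_apply]
    refine AddCommGrpCat.hom_ext ((uliftZMultiplesHom _).symm.injective ?_)
    show ((EtCoh.pull U.ι).map S.g).hom.app _ ((1 : ℤ) • yt) = (adj.unit.app S.X₃).hom.app _ q
    rw [one_zsmul, h2]
  have hψ : (EtCoh.pull U.ι).map φ = (adj.homEquiv _ _).symm b ≫ (EtCoh.pull U.ι).map S.g := by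
    rw [← Adjunction.homEquiv_naturality_right_symm, hb, Adjunction.homEquiv_counit, Functor.map_comp,
      Category.assoc, adj.left_triangle_components, Category.comp_id]
  have hPS : (S.map (EtCoh.pull U.ι)).ShortExact := hS.map_of_exact _
  have h0 : ((Ext.mk₀ φ).comp hS.extClass rfl).mapExactFunctor (EtCoh.pull U.ι) = 0 := by
    rw [Ext.mapExactFunctor_comp, Ext.mapExactFunctor_extClass, Ext.mapExactFunctor_mk₀, hψ,
      ← Ext.mk₀_comp_mk₀, Ext.comp_assoc_of_second_deg_zero]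
    erw [hPS.comp_extClass]
    exact Ext.comp_zero _ _ _ _ _
  show (Ext.mk₀ (EtCore.pullConst U.ι ℤ).inv).comp
    (((Ext.mk₀ φ).comp hS.extClass rfl).mapExactFunctor (EtCoh.pull U.ι)) (zero_add 1) = 0
  rw [h0, Ext.comp_zero]

end Groth.Agent.CAlgH3.EtPicHpull
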