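import Groth.Prelude.Def_EtZar
import Groth.Prelude.Def_EtGm
import Groth.Agent.CAlgH3.EtPicAlg
import Groth.Agent.EtCechLib.Etale
import Groth.Agent.EtZarCmp.Cohom
import Groth.Agent.HenselLib.KummerSheaf
import Mathlib.AlgebraicGeometry.Pullbacks

/-!
# Torsors of the multiplicative group on the small étale site are Zariski locally trivial

For a short exact sequence `0 → G_m → F → G → 0` of étale sheaves the map `F → G` stays an
epimorphism after restriction to the Zariski site.
-/

set_option autoImplicit false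
set_option linter.all false
set_option backward.isDefEq.respectTransparency false
set_option backward.isDefEq.respectTransparency.types false
set_option synthInstance.maxHeartbeats 400000
set_option maxHeartbeats 1000000

universe u

open CategoryTheory CategoryTheory.Limits AlgebraicGeometry Opposite TopologicalSpace TensorProduct

namespace Groth.Agent.CAlgH3.EtPicLocal

open Groth.Agent.CommAlg4.WittDescMat (T2 T3)

variable {X : Scheme.{u}} {V : X.Opens} (hV : IsAffineOpen V)

/-- The structure morphism of the étale `X`-scheme of an algebra over an affine open. -/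
noncomputable def strE (R : Type u) [CommRing R] [Algebra Γ(X, V) R] : Spec (CommRingCat.of R) ⟶ X :=
  Spec.map (CommRingCat.ofHom (algebraMap Γ(X, V) R)) ≫ hV.fromSpec

instance etale_strE (R : Type u) [CommRing R] [Algebra Γ(X, V) R] [Algebra.Etale Γ(X, V) R] :
    AlgebraicGeometry.Etale (strE hV R) := by
  haveI : AlgebraicGeometry.Etale (Spec.map (CommRingCat.ofHom (algebraMap Γ(X, V) R))) :=
    (HasRingHomProperty.Spec_iff (P := @AlgebraicGeometry.Etale)).mpr
      (RingHom.etale_algebraMap.mpr inferInstance)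
  exact MorphismProperty.comp_mem @AlgebraicGeometry.Etale _ _ inferInstance inferInstance

/-- The étale `X`-scheme of an étale algebra over an affine open. -/
noncomputable def E (R : Type u) [CommRing R] [Algebra Γ(X, V) R] [Algebra.Etale Γ(X, V) R] : X.Etale :=
  Scheme.Etale.mk (strE hV R)

/-- The morphism of an algebra map. -/
noncomputable def emap {R R' : Type u} [CommRing R] [Algebra Γ(X, V) R] [Algebra.Etale Γ(X, V) R]
    [CommRing R'] [Algebra Γ(X, V) R'] [Algebra.Etale Γ(X, V) R'] (φ : R →ₐ[Γ(X, V)] R') :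
    E hV R' ⟶ E hV R :=
  MorphismProperty.Over.homMk (Spec.map (CommRingCat.ofHom φ.toRingHom)) (by
    show Spec.map (CommRingCat.ofHom φ.toRingHom) ≫ strE hV R = strE hV R'
    rw [strE, strE, ← Spec.map_comp_assoc, ← CommRingCat.ofHom_comp]
    rw [show φ.toRingHom.comp (algebraMap Γ(X, V) R) = algebraMap Γ(X, V) R' from
      φ.comp_algebraMap]) trivial

theorem emap_left {R R' : Type u} [CommRing R] [Algebra Γ(X, V) R] [Algebra.Etale Γ(X, V) R]
    [CommRing R'] [Algebra Γ(X, V) R'] [Algebra.Etale Γ(X, V) R'] (φ : R →ₐ[Γ(X, V)] R') :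
    (emap hV φ).left = Spec.map (CommRingCat.ofHom φ.toRingHom) := rfl

theorem emap_comp {R R' R'' : Type u} [CommRing R] [Algebra Γ(X, V) R] [Algebra.Etale Γ(X, V) R]
    [CommRing R'] [Algebra Γ(X, V) R'] [Algebra.Etale Γ(X, V) R']
    [CommRing R''] [Algebra Γ(X, V) R''] [Algebra.Etale Γ(X, V) R'']
    (φ : R →ₐ[Γ(X, V)] R') (ψ : R' →ₐ[Γ(X, V)] R'') :
    emap hV (ψ.comp φ) = emap hV ψ ≫ emap hV φ := by
  refine (Scheme.Etale.forget X ⋙ CategoryTheory.Over.forget X).map_injective ?_
  show Spec.map (CommRingCat.ofHom (ψ.comp φ).toRingHom) =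
    Spec.map (CommRingCat.ofHom ψ.toRingHom) ≫ Spec.map (CommRingCat.ofHom φ.toRingHom)
  rw [← Spec.map_comp, ← CommRingCat.ofHom_comp]
  rfl

theorem map_emap_comp (F : EtCoh.Ab X) {R R' R'' : Type u}
    [CommRing R] [Algebra Γ(X, V) R] [Algebra.Etale Γ(X, V) R]
    [CommRing R'] [Algebra Γ(X, V) R'] [Algebra.Etale Γ(X, V) R']
    [CommRing R''] [Algebra Γ(X, V) R''] [Algebra.Etale Γ(X, V) R'']
    (φ : R →ₐ[Γ(X, V)] R') (ψ : R' →ₐ[Γ(X, V)] R'') (s : EtCoh.sect F (E hV R)) :
    F.obj.map (emap hV ψ).op (F.obj.map (emap hV φ).op s) = F.obj.map (emap hV (ψ.comp φ)).op s := by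
  rw [emap_comp, op_comp, Functor.map_comp_apply]

theorem range_strE_subset (R : Type u) [CommRing R] [Algebra Γ(X, V) R] :
    Set.range (strE hV R) ⊆ (V : Set X) := by
  rintro _ ⟨p, rfl⟩
  rw [← hV.range_fromSpec, strE, Scheme.Hom.comp_apply]
  exact Set.mem_range_self _

/-- The map to an open containing `V`. -/
noncomputable def toU {U : X.Opens} (hVU : V ≤ U) (R : Type u) [CommRing R] [Algebra Γ(X, V) R]
    [Algebra.Etale Γ(X, V) R] : E hV R ⟶ (EtZar.zarToEt X).obj U :=
  EtZarCmp.homTo X U (by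
    rw [Scheme.Opens.range_ι]
    exact (range_strE_subset hV R).trans hVU)

section Units

variable (R : Type u) [CommRing R] [Algebra Γ(X, V) R] [Algebra.Etale Γ(X, V) R]

/-- A unit as a section of `G_m`. -/
noncomputable def us (v : Rˣ) : EtCoh.sect (EtCoh.Gm X) (E hV R) :=
  HenselLib.Kummer.sec (U := E hV R)
    (Units.map (Scheme.ΓSpecIso (CommRingCat.of R)).inv.hom.toMonoidHom v)

theorem us_mul (v w : Rˣ) : us hV R (v * w) = us hV R v + us hV R w := by
  rw [us, map_mul]
  exact HenselLib.Kummer.sec_mul _ _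

theorem us_injective : Function.Injective (us hV R) := fun v w h => by
  have h1 := HenselLib.Kummer.sec_injective h
  refine Units.ext ?_
  exact (Scheme.ΓSpecIso (CommRingCat.of R)).commRingCatIsoToRingEquiv.symm.injective
    (congrArg Units.val h1)

theorem us_surjective (t : EtCoh.sect (EtCoh.Gm X) (E hV R)) : ∃ v, us hV R v = t := by
  obtain ⟨w, rfl⟩ := HenselLib.Kummer.sec_surjective t
  refine ⟨Units.map (Scheme.ΓSpecIso (CommRingCat.of R)).hom.hom.toMonoidHom w, ?_⟩
  unfold us
  congr 1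
  refine Units.ext ?_
  exact (Scheme.ΓSpecIso (CommRingCat.of R)).commRingCatIsoToRingEquiv.symm_apply_apply _

theorem map_us {R' : Type u} [CommRing R'] [Algebra Γ(X, V) R'] [Algebra.Etale Γ(X, V) R']
    (φ : R →ₐ[Γ(X, V)] R') (v : Rˣ) :
    (EtCoh.Gm X).obj.map (emap hV φ).op (us hV R v) = us hV R' (Units.map φ.toRingHom.toMonoidHom v) := by
  unfold us
  rw [HenselLib.Kummer.map_sec]
  congr 1
  refine Units.ext ?_
  show (Spec.map (CommRingCat.ofHom φ.toRingHom)).appTop.hom
      ((Scheme.ΓSpecIso (CommRingCat.of R)).inv.hom (v : R)) =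
    (Scheme.ΓSpecIso (CommRingCat.of R')).inv.hom (φ (v : R))
  exact (congrArg (fun f => f.hom (v : R))
    (Scheme.ΓSpecIso_inv_naturality (CommRingCat.ofHom φ.toRingHom))).symm

end Units

section Descent

variable (B : Type u) [CommRing B] [Algebra Γ(X, V) B] [Algebra.Etale Γ(X, V) B]

instance etale_T2 : Algebra.Etale Γ(X, V) (T2 Γ(X, V) B) :=
  Algebra.Etale.comp Γ(X, V) B (T2 Γ(X, V) B)

instance etale_T3 : Algebra.Etale Γ(X, V) (T3 Γ(X, V) B) :=
  Algebra.Etale.comp Γ(X, V) B (T3 Γ(X, V) B)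

/-- First projection. -/
noncomputable def j1 : B →ₐ[Γ(X, V)] T2 Γ(X, V) B :=
  Algebra.TensorProduct.includeLeft

/-- Second projection. -/
noncomputable def j2 : B →ₐ[Γ(X, V)] T2 Γ(X, V) B :=
  Algebra.TensorProduct.includeRight

noncomputable def e12 : T2 Γ(X, V) B →ₐ[Γ(X, V)] T3 Γ(X, V) B :=
  Algebra.TensorProduct.map (AlgHom.id _ B) (Algebra.TensorProduct.includeLeft)

noncomputable def e13 : T2 Γ(X, V) B →ₐ[Γ(X, V)] T3 Γ(X, V) B :=
  Algebra.TensorProduct.map (AlgHom.id _ B) (Algebra.TensorProduct.includeRight)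

noncomputable def e23 : T2 Γ(X, V) B →ₐ[Γ(X, V)] T3 Γ(X, V) B :=
  Algebra.TensorProduct.includeRight

theorem e12_j2 : (e12 (X := X) (V := V) B).comp (j2 B) = (e23 B).comp (j1 (X := X) (V := V) B) := by
  ext b; simp [e12, e23, j1, j2]

theorem e13_j1 : (e13 (X := X) (V := V) B).comp (j1 B) = (e12 B).comp (j1 (X := X) (V := V) B) := by
  ext b; simp [e12, e13, j1]

theorem e13_j2 : (e13 (X := X) (V := V) B).comp (j2 B) = (e23 B).comp (j2 (X := X) (V := V) B) := by
  ext b; simp [e13, e23, j2]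

/-- The sheaf condition along the morphism of a covering algebra. -/
theorem existsUnique_descent (F : EtCoh.Ab X) {W : X.Opens} (k : E hV B ⟶ (EtZar.zarToEt X).obj W)
    (hk : ∀ x ∈ W, x ∈ Set.range (strE hV B)) (s : EtCoh.sect F (E hV B))
    (hs : F.obj.map (emap hV (j1 B)).op s = F.obj.map (emap hV (j2 B)).op s) :
    ∃! t : EtCoh.sect F ((EtZar.zarToEt X).obj W), F.obj.map k.op t = s := by
  have hmem : Sieve.generate (Presieve.singleton k) ∈ X.smallEtaleTopology _ := by
    refine HenselLib.Kummer.mem_of_points _ _ fun (x : (W : Scheme.{u})) => ?_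
    obtain ⟨p, hp⟩ := hk x.1 x.2
    refine ⟨E hV B, k, p, Sieve.le_generate _ _ _ (Presieve.singleton_self _), Subtype.ext ?_⟩
    have e : k.left ≫ W.ι = strE hV B := CategoryTheory.Over.w k.hom
    exact ((Scheme.Hom.comp_apply k.left W.ι p).symm.trans (congrArg (fun m => m p) e)).trans hp
  have hF : Presieve.IsSheaf X.smallEtaleTopology (F.obj ⋙ forget AddCommGrpCat.{u + 1}) :=
    (isSheaf_iff_isSheaf_of_type _ _).1 ((sheafCompose _ (forget AddCommGrpCat.{u + 1})).obj F).property
  have h1 : Presieve.IsSheafFor (F.obj ⋙ forget AddCommGrpCat.{u + 1}) (Presieve.singleton k) :=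
    (Presieve.isSheafFor_iff_generate _).2 (hF _ hmem)
  refine (Presieve.isSheafFor_singleton.1 h1) s fun {Z} p₁ p₂ _ => ?_
  have hw : ∀ p : Z ⟶ E hV B, p.left ≫ strE hV B = Z.hom := fun p => CategoryTheory.Over.w p.hom
  have hcomp : p₁.left ≫ Spec.map (CommRingCat.ofHom (algebraMap Γ(X, V) B)) =
      p₂.left ≫ Spec.map (CommRingCat.ofHom (algebraMap Γ(X, V) B)) := by
    rw [← cancel_mono hV.fromSpec, Category.assoc, Category.assoc]
    exact (hw p₁).trans (hw p₂).symm
  let t : Z.left ⟶ Spec (CommRingCat.of (T2 Γ(X, V) B)) :=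
    pullback.lift p₁.left p₂.left hcomp ≫ (pullbackSpecIso Γ(X, V) B B).hom
  have ht1 : t ≫ Spec.map (CommRingCat.ofHom (j1 B).toRingHom) = p₁.left := by
    rw [Category.assoc]
    show pullback.lift _ _ _ ≫ (pullbackSpecIso Γ(X, V) B B).hom ≫
      Spec.map (CommRingCat.ofHom (Algebra.TensorProduct.includeLeftRingHom)) = _
    rw [pullbackSpecIso_hom_fst, pullback.lift_fst]
  have ht2 : t ≫ Spec.map (CommRingCat.ofHom (j2 B).toRingHom) = p₂.left := by
    rw [Category.assoc]
    show pullback.lift _ _ _ ≫ (pullbackSpecIso Γ(X, V) B B).hom ≫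
      Spec.map (CommRingCat.ofHom (R := B) (S := T2 Γ(X, V) B)
        (Algebra.TensorProduct.includeRight : B →ₐ[Γ(X, V)] T2 Γ(X, V) B).toRingHom) = _
    erw [pullbackSpecIso_hom_snd]
    exact pullback.lift_snd _ _ _
  have htE : t ≫ strE hV (T2 Γ(X, V) B) = Z.hom := by
    rw [← hw p₁, ← ht1]
    simp only [Category.assoc]
    congr 1
    exact (CategoryTheory.Over.w (emap hV (j1 (X := X) (V := V) B)).hom).symm
  let t' : Z ⟶ E hV (T2 Γ(X, V) B) := MorphismProperty.Over.homMk t htE trivial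
  have q1 : p₁ = t' ≫ emap hV (j1 B) :=
    (Scheme.Etale.forget X ⋙ CategoryTheory.Over.forget X).map_injective ht1.symm
  have q2 : p₂ = t' ≫ emap hV (j2 B) :=
    (Scheme.Etale.forget X ⋙ CategoryTheory.Over.forget X).map_injective ht2.symm
  show F.obj.map p₁.op s = F.obj.map p₂.op s
  rw [q1, q2, op_comp, op_comp, Functor.map_comp_apply, Functor.map_comp_apply, hs]

end Descent

section Exact

variable {S : ShortComplex (EtCoh.Ab X)} (hS : S.ShortExact)

include hS in
theorem exists_eq_of_g_eq_zero (W : X.Etale) (s : EtCoh.sect S.X₂ W) (h : S.g.hom.app (op W) s = 0) :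
    ∃ t, S.f.hom.app (op W) t = s := by
  haveI := hS.mono_f
  let Φ : EtCoh.Ab X ⥤ AddCommGrpCat.{u + 1} :=
    sheafToPresheaf X.smallEtaleTopology AddCommGrpCat.{u + 1} ⋙ (evaluation _ _).obj (op W)
  haveI : PreservesFiniteLimits (sheafToPresheaf X.smallEtaleTopology AddCommGrpCat.{u + 1}) :=
    inferInstance
  haveI : Φ.Additive := { map_add := rfl }
  haveI : PreservesFiniteLimits Φ := comp_preservesFiniteLimits _ _
  have hex := hS.exact.map_of_mono_of_preservesKernel Φ hS.mono_f inferInstance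
  exact (ShortComplex.ab_exact_iff _).1 hex s h

include hS in
theorem f_injective (W : X.Etale) : Function.Injective (S.f.hom.app (op W)) := by
  haveI := hS.mono_f
  let Φ : EtCoh.Ab X ⥤ AddCommGrpCat.{u + 1} :=
    sheafToPresheaf X.smallEtaleTopology AddCommGrpCat.{u + 1} ⋙ (evaluation _ _).obj (op W)
  haveI : PreservesFiniteLimits Φ := comp_preservesFiniteLimits _ _
  exact (AddCommGrpCat.mono_iff_injective (Φ.map S.f)).1 inferInstance

end Exact

end Groth.Agent.CAlgH3.EtPicLocal
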