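import Groth.Prelude.Def_Coh
import Mathlib.RingTheory.Etale.Basic
import Mathlib.RingTheory.Etale.Kaehler
import Mathlib.RingTheory.Derivation.Basic
import Mathlib.Algebra.TrivSqZeroExt.Basic
import Mathlib.AlgebraicGeometry.Morphisms.Etale
import Mathlib.Topology.Sheaves.SheafCondition.Sites

/-!
Derivations of the base extend to the structure sheaf of an étale scheme, hence act on its cohomology.
-/

set_option autoImplicit false
set_option backward.isDefEq.respectTransparency false

universe u

open CategoryTheory AlgebraicGeometry TopologicalSpace Opposite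

noncomputable section

namespace Groth.Agent.CAlgH3.EtaleDer

section Ring

variable {A : Type u} [CommRing A] (θ : Derivation ℤ A A) (B : Type u) [CommRing B] [Algebra A B]

/-- Dual numbers over `B` as an `A`-algebra twisted by `θ`. -/
def Tw (_θ : Derivation ℤ A A) (B : Type u) [CommRing B] [Algebra A B] : Type u := TrivSqZeroExt B B

instance : CommRing (Tw θ B) := inferInstanceAs (CommRing (TrivSqZeroExt B B))

/-- The twisted structure map. -/
def tw : A →+* TrivSqZeroExt B B where
  toFun a := TrivSqZeroExt.inl (algebraMap A B a) + TrivSqZeroExt.inr (algebraMap A B (θ a))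
  map_one' := by simp
  map_mul' a b := by
    refine TrivSqZeroExt.ext (by simp) ?_
    simp only [TrivSqZeroExt.snd_mul, TrivSqZeroExt.fst_add, TrivSqZeroExt.snd_add, TrivSqZeroExt.fst_inl,
      TrivSqZeroExt.fst_inr, TrivSqZeroExt.snd_inl, TrivSqZeroExt.snd_inr, add_zero, zero_add, Derivation.leibniz,
      smul_eq_mul, op_smul_eq_smul, map_add, map_mul]
  map_zero' := by simp
  map_add' a b := by
    refine TrivSqZeroExt.ext (by simp) ?_
    simp [map_add]

instance : Algebra A (Tw θ B) := RingHom.toAlgebra (tw θ B)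

/-- The projection to `B`. -/
def pr : Tw θ B →ₐ[A] B where
  toFun x := TrivSqZeroExt.fst (x : TrivSqZeroExt B B)
  map_one' := TrivSqZeroExt.fst_one
  map_mul' x y := TrivSqZeroExt.fst_mul _ _
  map_zero' := TrivSqZeroExt.fst_zero
  map_add' x y := TrivSqZeroExt.fst_add _ _
  commutes' a := by
    show TrivSqZeroExt.fst (tw θ B a) = _
    simp [tw]

/-- `θ` extends along a formally étale map. -/
theorem exists_der [Algebra.FormallyEtale A B] :
    ∃ D : B →+ B, (∀ x y, D (x * y) = x * D y + y * D x) ∧ ∀ a, D (algebraMap A B a) = algebraMap A B (θ a) := by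
  have hs : Function.Surjective (pr θ B) := fun b => ⟨(TrivSqZeroExt.inl b : TrivSqZeroExt B B), TrivSqZeroExt.fst_inl B b⟩
  have hn : IsNilpotent (RingHom.ker (pr θ B : Tw θ B →+* B)) := by
    refine ⟨2, ?_⟩
    rw [Submodule.zero_eq_bot, pow_two, eq_bot_iff, Ideal.mul_le]
    intro x hx y hy
    rw [Ideal.mem_bot]
    refine TrivSqZeroExt.ext (R := B) (M := B) ?_ ?_
    · show TrivSqZeroExt.fst ((x : TrivSqZeroExt B B) * y) = 0
      rw [TrivSqZeroExt.fst_mul, show TrivSqZeroExt.fst (x : TrivSqZeroExt B B) = 0 from hx, zero_mul]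
    · show TrivSqZeroExt.snd ((x : TrivSqZeroExt B B) * y) = 0
      rw [TrivSqZeroExt.snd_mul, show TrivSqZeroExt.fst (x : TrivSqZeroExt B B) = 0 from hx,
        show TrivSqZeroExt.fst (y : TrivSqZeroExt B B) = 0 from hy]
      simp
  let φ := Algebra.FormallySmooth.liftOfSurjective (AlgHom.id A B) (pr θ B) hs hn
  have hφ : ∀ b, TrivSqZeroExt.fst (φ b : TrivSqZeroExt B B) = b :=
    Algebra.FormallySmooth.liftOfSurjective_apply (AlgHom.id A B) (pr θ B) hs hn
  refine ⟨{ toFun := fun b => TrivSqZeroExt.snd (φ b : TrivSqZeroExt B B)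
            map_zero' := by rw [map_zero]; rfl
            map_add' := fun x y => by rw [map_add]; rfl }, fun x y => ?_, fun a => ?_⟩
  · show TrivSqZeroExt.snd (φ (x * y) : TrivSqZeroExt B B) = _
    rw [map_mul]
    refine (TrivSqZeroExt.snd_mul (φ x : TrivSqZeroExt B B) (φ y)).trans ?_
    simp only [hφ, op_smul_eq_smul, smul_eq_mul]
    rfl
  · show TrivSqZeroExt.snd (φ (algebraMap A B a) : TrivSqZeroExt B B) = _
    rw [φ.commutes]
    show TrivSqZeroExt.snd (tw θ B a) = _
    simp [tw]

/-- Extensions along an unramified map are unique. -/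
theorem der_unique [Algebra.FormallyUnramified A B] {B' : Type u} [CommRing B'] (ρ : B →+* B')
    (D₁ D₂ : B →+ B') (h₁ : ∀ x y, D₁ (x * y) = ρ x * D₁ y + ρ y * D₁ x)
    (h₂ : ∀ x y, D₂ (x * y) = ρ x * D₂ y + ρ y * D₂ x)
    (h : ∀ a, D₁ (algebraMap A B a) = D₂ (algebraMap A B a)) : D₁ = D₂ := by
  letI := ρ.toAlgebra
  letI : Algebra A B' := (ρ.comp (algebraMap A B)).toAlgebra
  haveI : IsScalarTower A B B' := IsScalarTower.of_algebraMap_eq fun a => rfl
  let δ : B →ₗ[A] B' :=
    { toFun := fun b => D₁ b - D₂ b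
      map_add' := fun x y => by rw [map_add, map_add]; abel
      map_smul' := fun a x => by
        rw [RingHom.id_apply, Algebra.smul_def, Algebra.smul_def, h₁, h₂, h]
        show _ = ρ (algebraMap A B a) * (D₁ x - D₂ x)
        ring }
  let d : Derivation A B B' :=
    Derivation.mk' δ fun x y => by
      show D₁ (x * y) - D₂ (x * y) = ρ x * (D₁ y - D₂ y) + ρ y * (D₁ x - D₂ x)
      rw [h₁, h₂]
      ring
  refine AddMonoidHom.ext fun b => sub_eq_zero.1 ?_
  show d b = 0
  rw [← d.liftKaehlerDifferential_comp_D b, Subsingleton.elim (KaehlerDifferential.D A B b) 0, map_zero]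

end Ring

section Scheme

variable {A : Type u} [CommRing A] (V : Scheme.{u}) [V.Over (Spec (CommRingCat.of A))]
  [Etale (V ↘ Spec (CommRingCat.of A))]

/-- The structure map on sections. -/
abbrev alg (U : V.Opens) : A →+* Γ(V, U) :=
  (Coh.resTop V (op U)).comp (Coh.toGlobal (V ↘ Spec (CommRingCat.of A)))

theorem formallyEtale (U : V.affineOpens) :
    letI := (alg (A := A) V U.1).toAlgebra
    Algebra.FormallyEtale A Γ(V, U.1) := by
  have h := HasRingHomProperty.appLE @Etale (V ↘ Spec (CommRingCat.of A)) inferInstance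
    ⟨⊤, isAffineOpen_top _⟩ U (le_top.trans_eq (Scheme.Hom.preimage_top _).symm)
  have h2 : (alg (A := A) V U.1).Etale := by
    have hi := RingHom.Etale.respectsIso.2 _ (Scheme.ΓSpecIso (CommRingCat.of A)).symm.commRingCatIsoToRingEquiv h
    exact hi
  letI := (alg (A := A) V U.1).toAlgebra
  exact h2.1

variable (θ : Derivation ℤ A A)

theorem exists_sheaf_der :
    ∃ D : Coh.toAb (Coh.structureModule V) ⟶ Coh.toAb (Coh.structureModule V), ∀ a : A,
      Coh.smulAb (Coh.structureModule V) (Coh.toGlobal (V ↘ Spec (CommRingCat.of A)) a) ≫ D =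
        Coh.smulAb (Coh.structureModule V) (Coh.toGlobal (V ↘ Spec (CommRingCat.of A)) (θ a)) +
        D ≫ Coh.smulAb (Coh.structureModule V) (Coh.toGlobal (V ↘ Spec (CommRingCat.of A)) a) := by
  have hex : ∀ U : V.affineOpens, ∃ D : Γ(V, U.1) →+ Γ(V, U.1),
      (∀ x y, D (x * y) = x * D y + y * D x) ∧ ∀ a, D (alg V U.1 a) = alg V U.1 (θ a) := fun U => by
    letI := (alg (A := A) V U.1).toAlgebra
    haveI := formallyEtale (A := A) V U
    exact exists_der θ Γ(V, U.1)
  choose D hD hDA using hex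
  have hnat : ∀ (U U' : V.affineOpens) (i : U'.1 ≤ U.1) (x : Γ(V, U.1)),
      V.presheaf.map (homOfLE i).op (D U x) = D U' (V.presheaf.map (homOfLE i).op x) := fun U U' i x => by
    letI := (alg (A := A) V U.1).toAlgebra
    haveI := formallyEtale (A := A) V U
    let ρ := (V.presheaf.map (homOfLE i).op).hom
    refine DFunLike.congr_fun (der_unique (A := A) Γ(V, U.1) ρ (ρ.toAddMonoidHom.comp (D U))
      ((D U').comp ρ.toAddMonoidHom) ?_ ?_ ?_) x
    · intro x y
      show ρ (D U (x * y)) = ρ x * ρ (D U y) + ρ y * ρ (D U x)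
      rw [hD, map_add, map_mul, map_mul]
    · intro x y
      show D U' (ρ (x * y)) = ρ x * D U' (ρ y) + ρ y * D U' (ρ x)
      rw [map_mul, hD]
    · intro a
      show ρ (D U (alg V U.1 a)) = D U' (ρ (alg V U.1 a))
      have e : ∀ b, ρ (alg V U.1 b) = alg V U'.1 b := fun b =>
        Coh.resTop_comp (op U.1) (op U'.1) (homOfLE i).op (Coh.toGlobal (V ↘ Spec (CommRingCat.of A)) b)
      rw [hDA, e, e, hDA]
  let B : V.affineOpens → V.Opens := fun U => U.1
  have hB : Opens.IsBasis (Set.range B) := by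
    have e : Set.range B = V.affineOpens := Subtype.range_coe
    rw [e]
    exact V.isBasis_affineOpens
  let F : TopCat.Sheaf AddCommGrpCat.{u} V.toTopCat := Coh.toAb (Coh.structureModule V)
  let τ : (inducedFunctor B).op ⋙ F.obj ⟶ (inducedFunctor B).op ⋙ F.obj :=
    { app := fun U => AddCommGrpCat.ofHom (D U.unop)
      naturality := fun U U' f => by
        ext x
        exact (hnat U.unop U'.unop (leOfHom ((inducedFunctor B).map f.unop)) x).symm }
  let d : F.obj ⟶ F.obj := TopCat.Sheaf.restrictHomEquivHom F.obj F hB τ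
  refine ⟨⟨d⟩, fun a => ?_⟩
  apply CategoryTheory.Sheaf.hom_ext
  refine TopCat.Sheaf.hom_ext (F := F.obj) (F' := F) hB fun U => ?_
  have hd : d.app (op (B U)) = AddCommGrpCat.ofHom (D U) := TopCat.Sheaf.extend_hom_app F.obj F hB τ U
  refine AddCommGrpCat.hom_ext (AddMonoidHom.ext fun (x : Γ(V, U.1)) => ?_)
  show d.app (op (B U)) ((Coh.smulAb (Coh.structureModule V) _).hom.app (op (B U)) x) =
    (Coh.smulAb (Coh.structureModule V) _).hom.app (op (B U)) x +
      (Coh.smulAb (Coh.structureModule V) _).hom.app (op (B U)) (d.app (op (B U)) x)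
  rw [hd]
  show D U (alg V U.1 a * x) = alg V U.1 (θ a) * x + alg V U.1 a * D U x
  rw [hD, hDA]
  ring

end Scheme

end Groth.Agent.CAlgH3.EtaleDer
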