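import Groth.Agent.Misc15.KoszulCone
import Groth.Agent.Misc15.KoszulExt
import Groth.Agent.Misc15.KoszulLimit
import Groth.Prelude.Def_DerCA

/-! Element level description of the extended Čech complex. -/

set_option autoImplicit false
set_option backward.isDefEq.respectTransparency false
set_option backward.isDefEq.respectTransparency.types false
universe u

open CategoryTheory CategoryTheory.Limits CochainComplex
open Groth.Agent.Misc15.Koszul

namespace Groth.Agent.CAlgH3.ExtCech

variable {R : Type u} [CommRing R]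

section Cocone

variable {K L : CochainComplex (ModuleCat.{u} R) ℤ} (φ : K ⟶ L)

/-- first component of an element of a cocone -/
noncomputable def afst {q : ℤ} (x : (mappingCocone φ).X q) : K.X q :=
  cfst φ (i := q + -1) q (by omega) x

/-- second component of an element of a cocone -/
noncomputable def asnd {q p : ℤ} (hp : p + 1 = q) (x : (mappingCocone φ).X q) : L.X p :=
  (L.XIsoOfEq (show q + -1 = p by omega)).hom.hom (csnd φ (i := q + -1) x)

/-- element of a cocone from components -/
noncomputable def amk {q p : ℤ} (hp : p + 1 = q) (a : K.X q) (b : L.X p) : (mappingCocone φ).X q :=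
  cmk φ (i := q + -1) q (by omega) a ((L.XIsoOfEq (show p = q + -1 by omega)).hom.hom b)

theorem afst_amk {q p : ℤ} (hp : p + 1 = q) (a : K.X q) (b : L.X p) :
    afst φ (amk φ hp a b) = a := cfst_cmk φ _ _ _ _

theorem asnd_amk {q p : ℤ} (hp : p + 1 = q) (a : K.X q) (b : L.X p) :
    asnd φ hp (amk φ hp a b) = b := by
  obtain rfl : p = q + -1 := by omega
  show (L.XIsoOfEq rfl).hom.hom (csnd φ (cmk φ _ _ _ _)) = b
  rw [csnd_cmk]
  simp [HomologicalComplex.XIsoOfEq]

theorem afst_zero {q : ℤ} : afst φ (0 : (mappingCocone φ).X q) = 0 :=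
  map_zero ((mappingCone.fst φ).1.v (q + -1) q (by omega)).hom

theorem afst_smul {q : ℤ} (r : R) (x : (mappingCocone φ).X q) : afst φ (r • x) = r • afst φ x :=
  map_smul ((mappingCone.fst φ).1.v (q + -1) q (by omega)).hom r x

theorem asnd_zero {q p : ℤ} (hp : p + 1 = q) : asnd φ hp (0 : (mappingCocone φ).X q) = 0 :=
  (congrArg (L.XIsoOfEq (show q + -1 = p by omega)).hom.hom
    (map_zero ((mappingCone.snd φ).v (q + -1) (q + -1) (add_zero _)).hom)).trans (map_zero _)

theorem asnd_smul {q p : ℤ} (hp : p + 1 = q) (r : R) (x : (mappingCocone φ).X q) :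
    asnd φ hp (r • x) = r • asnd φ hp x :=
  (congrArg (L.XIsoOfEq (show q + -1 = p by omega)).hom.hom
    (map_smul ((mappingCone.snd φ).v (q + -1) (q + -1) (add_zero _)).hom r x)).trans (map_smul _ _ _)

theorem cocone_ext {q p : ℤ} (hp : p + 1 = q) {x y : (mappingCocone φ).X q}
    (h1 : afst φ x = afst φ y) (h2 : asnd φ hp x = asnd φ hp y) : x = y := by
  obtain rfl : p = q + -1 := by omega
  refine cone_ext φ q (by omega) h1 ?_
  simpa [asnd, HomologicalComplex.XIsoOfEq] using h2

theorem afst_d (q r : ℤ) (hr : q + 1 = r) (x : (mappingCocone φ).X q) :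
    afst φ (((mappingCocone φ).d q r).hom x) = (K.d q r).hom (afst φ x) := by
  have e : ((mappingCocone φ).d q r).hom x = -((mappingCone φ).d (q + -1) (r + -1)).hom x := by
    show ((-1 : ℤ).negOnePow • (mappingCone φ).d (q + -1) (r + -1)).hom x = _
    simp
  obtain rfl : q = r + -1 := by omega
  rw [e]
  have h := cfst_d φ (i := r + -1 + -1) (r + -1) r (by omega) (by omega) x
  show cfst φ r _ (-_) = _
  have hneg : ∀ z : (mappingCone φ).X (r + -1), cfst φ r (by omega) (-z) = -cfst φ r (by omega) z :=
    fun z => map_neg _ _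
  rw [hneg, h, neg_neg]
  rfl

theorem asnd_d (p q r : ℤ) (hp : p + 1 = q) (hr : q + 1 = r) (x : (mappingCocone φ).X q) :
    asnd φ hr (((mappingCocone φ).d q r).hom x) =
      -((φ.f q).hom (afst φ x) + (L.d p q).hom (asnd φ hp x)) := by
  have e : ((mappingCocone φ).d q r).hom x = -((mappingCone φ).d (q + -1) (r + -1)).hom x := by
    show ((-1 : ℤ).negOnePow • (mappingCone φ).d (q + -1) (r + -1)).hom x = _
    simp
  obtain rfl : q = r + -1 := by omega
  obtain rfl : p = r + -1 + -1 := by omega
  rw [e]
  have h := csnd_d φ (i := r + -1 + -1) (r + -1) (by omega) x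
  have hneg : ∀ z : (mappingCone φ).X (r + -1), csnd φ (-z) = -csnd φ z := fun z => map_neg _ _
  simp only [asnd, afst, HomologicalComplex.XIsoOfEq, eqToIso_refl, Iso.refl_hom, ModuleCat.hom_id,
    LinearMap.id_apply]
  rw [hneg, h]

end Cocone

/-- elementwise exactness -/
def Ex (K : CochainComplex (ModuleCat.{u} R) ℤ) (q : ℤ) : Prop :=
  ∀ p r : ℤ, p + 1 = q → q + 1 = r → ∀ z : K.X q, (K.d q r).hom z = 0 → ∃ y : K.X p, (K.d p q).hom y = z

theorem Ex.isZero_homology {K : CochainComplex (ModuleCat.{u} R) ℤ} {q : ℤ} (h : Ex K q) :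
    IsZero (K.homology q) := by
  refine HomologicalComplex.ExactAt.isZero_homology ?_
  rw [HomologicalComplex.exactAt_iff' _ (q - 1) _ (q + 1) (CochainComplex.prev _ _) (CochainComplex.next _ _),
    ShortComplex.moduleCat_exact_iff]
  exact fun z hz => h (q - 1) (q + 1) (by omega) rfl z hz

/-- exactness of a cocone -/
theorem ex_cocone {K L : CochainComplex (ModuleCat.{u} R) ℤ} (φ : K ⟶ L) {p q : ℤ} (hp : p + 1 = q)
    (hinj : ∀ r, q + 1 = r → ∀ a : K.X q, (K.d q r).hom a = 0 →
      (∃ b : L.X p, (L.d p q).hom b = (φ.f q).hom a) → ∃ c : K.X p, (K.d p q).hom c = a)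
    (hsurj : ∀ o, o + 1 = p → ∀ b : L.X p, (L.d p q).hom b = 0 →
      ∃ (c : K.X p) (e : L.X o), (K.d p q).hom c = 0 ∧ b = (φ.f p).hom c + (L.d o p).hom e) :
    Ex (mappingCocone φ) q := by
  intro p' r hp' hr z hz
  obtain rfl : p' = p := by omega
  set a := afst φ z with ha
  set b := asnd φ hp' z with hb
  have h1 : (K.d q r).hom a = 0 := by
    rw [ha, ← afst_d φ q r hr z, hz]
    exact map_zero _
  have h2 : (φ.f q).hom a + (L.d p' q).hom b = 0 := by
    have h := asnd_d φ p' q r hp' hr z
    rw [hz] at h
    rw [ha, hb, ← neg_eq_zero, ← h]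
    simp [asnd, csnd]
  obtain ⟨c, hc⟩ := hinj r hr a h1 ⟨-b, by rw [map_neg]; exact (eq_neg_of_add_eq_zero_left h2).symm⟩
  have hcomm := congrArg (fun g => g.hom c) (φ.comm p' q)
  simp only [ModuleCat.hom_comp, LinearMap.comp_apply] at hcomm
  obtain ⟨c', e, hc', he⟩ := hsurj (p' - 1) (by omega) (b + (φ.f p').hom c) (by
    rw [map_add, hcomm, hc, add_comm]
    exact h2)
  refine ⟨amk φ (show p' - 1 + 1 = p' by omega) (c - c') (-e), cocone_ext φ hp' ?_ ?_⟩
  · rw [afst_d φ p' q hp', afst_amk, map_sub, hc, hc', sub_zero]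
  · rw [asnd_d φ (p' - 1) p' q (by omega) hp', afst_amk, asnd_amk, map_sub, map_neg,
      ← hb, eq_sub_of_add_eq he]
    abel

/-- the termwise localisation, on elements -/
theorem exists_loc (f : R) (K : CochainComplex (ModuleCat.{u} R) ℤ) (q : ℤ)
    (x : ((DerCA.locCx (Submonoid.powers f)).obj K).X q) :
    ∃ (c : K.X q) (n : ℕ), f ^ n • x = ((DerCA.locCxUnit (Submonoid.powers f) K).f q).hom c := by
  obtain ⟨⟨c, ⟨s, n, rfl⟩⟩, h⟩ :=
    IsLocalizedModule.surj (Submonoid.powers f) (LocalizedModule.mkLinearMap (Submonoid.powers f) (K.X q)) x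
  exact ⟨c, n, h⟩

theorem locUnit_eq_zero (f : R) (K : CochainComplex (ModuleCat.{u} R) ℤ) (q : ℤ) (c : K.X q) :
    ((DerCA.locCxUnit (Submonoid.powers f) K).f q).hom c = 0 ↔ ∃ n : ℕ, f ^ n • c = 0 := by
  refine (IsLocalizedModule.eq_zero_iff (Submonoid.powers f)
    (LocalizedModule.mkLinearMap (Submonoid.powers f) (K.X q))).trans ⟨?_, ?_⟩
  · rintro ⟨⟨s, n, rfl⟩, h⟩
    exact ⟨n, h⟩
  · rintro ⟨n, h⟩
    exact ⟨⟨f ^ n, n, rfl⟩, h⟩

theorem smul_pow_injective (f : R) (K : CochainComplex (ModuleCat.{u} R) ℤ) (q : ℤ) (n : ℕ) :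
    Function.Injective fun x : ((DerCA.locCx (Submonoid.powers f)).obj K).X q => f ^ n • x := by
  intro x y h
  exact ((Module.End.isUnit_iff _).1 (IsLocalizedModule.map_units
    (LocalizedModule.mkLinearMap (Submonoid.powers f) (K.X q)) ⟨f ^ n, pow_mem (Submonoid.mem_powers f) n⟩)).injective h

theorem smul_pow_surjective (f : R) (K : CochainComplex (ModuleCat.{u} R) ℤ) (q : ℤ) (n : ℕ) :
    Function.Surjective fun x : ((DerCA.locCx (Submonoid.powers f)).obj K).X q => f ^ n • x := by
  exact ((Module.End.isUnit_iff _).1 (IsLocalizedModule.map_units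
    (LocalizedModule.mkLinearMap (Submonoid.powers f) (K.X q)) ⟨f ^ n, pow_mem (Submonoid.mem_powers f) n⟩)).surjective

theorem locUnit_d (f : R) (K : CochainComplex (ModuleCat.{u} R) ℤ) (p q : ℤ) (c : K.X p) :
    (((DerCA.locCx (Submonoid.powers f)).obj K).d p q).hom
        (((DerCA.locCxUnit (Submonoid.powers f) K).f p).hom c) =
      ((DerCA.locCxUnit (Submonoid.powers f) K).f q).hom ((K.d p q).hom c) :=
  congrArg (fun g => g.hom c) ((DerCA.locCxUnit (Submonoid.powers f) K).comm p q)

/-- localisation preserves exactness -/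
theorem Ex.loc {K : CochainComplex (ModuleCat.{u} R) ℤ} {q : ℤ} (h : Ex K q) (f : R) :
    Ex ((DerCA.locCx (Submonoid.powers f)).obj K) q := by
  intro p r hp hr z hz
  obtain ⟨c, n, hc⟩ := exists_loc f K q z
  have h1 := congrArg (((DerCA.locCx (Submonoid.powers f)).obj K).d q r).hom hc
  rw [map_smul, hz, smul_zero, locUnit_d] at h1
  obtain ⟨m, hm⟩ := (locUnit_eq_zero f K r _).1 h1.symm
  obtain ⟨e, he⟩ := h p r hp hr (f ^ m • c) (by rw [map_smul, hm])
  obtain ⟨y, hy⟩ := smul_pow_surjective f K p (m + n) (((DerCA.locCxUnit (Submonoid.powers f) K).f p).hom e)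
  refine ⟨y, smul_pow_injective f K q (m + n) ?_⟩
  simp only at hy ⊢
  rw [← map_smul, hy, locUnit_d, he, map_smul, ← hc, smul_smul, ← pow_add]

theorem ex_single_zero (M : ModuleCat.{u} R) {q : ℤ} (hq : q ≠ 0) :
    Ex ((HomologicalComplex.single (ModuleCat.{u} R) (ComplexShape.up ℤ) 0).obj M) q := by
  intro p r _ _ z _
  have : Subsingleton (((HomologicalComplex.single (ModuleCat.{u} R) (ComplexShape.up ℤ) 0).obj M).X q) :=
    ModuleCat.subsingleton_of_isZero (HomologicalComplex.isZero_single_obj_X _ _ _ _ hq)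
  exact ⟨0, Subsingleton.elim _ _⟩

/-- the Čech complex lives in nonnegative degrees -/
theorem subsingleton_X (M : ModuleCat.{u} R) : ∀ (fs : List R) (q : ℤ), q < 0 →
    Subsingleton ((DerCA.extCech M fs).X q)
  | [], q, hq => ModuleCat.subsingleton_of_isZero (HomologicalComplex.isZero_single_obj_X _ _ _ _ hq.ne)
  | f :: fs, q, hq => by
      have h1 := subsingleton_X M fs q hq
      have h2 := subsingleton_X M fs (q - 1) (by omega)
      refine ⟨fun x y => cocone_ext (p := q - 1) _ (by omega) (h1.elim _ _) ?_⟩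
      have : Subsingleton (LocalizedModule (Submonoid.powers f) ((DerCA.extCech M fs).X (q - 1))) :=
        LocalizedModule.subsingleton_iff.2 fun m => ⟨1, Submonoid.one_mem _, Subsingleton.elim _ _⟩
      exact this.elim _ _

/-- degree zero is the module -/
noncomputable def bot (M : ModuleCat.{u} R) : ∀ fs : List R, (DerCA.extCech M fs).X 0 →ₗ[R] M
  | [] => (HomologicalComplex.singleObjXSelf (ComplexShape.up ℤ) (0 : ℤ) M).hom.hom
  | f :: fs => (bot M fs).comp
      ((mappingCone.fst (DerCA.locCxUnit (Submonoid.powers f) (DerCA.extCech M fs))).1.v ((0 : ℤ) + -1) 0 (by omega)).hom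

theorem bot_cons (M : ModuleCat.{u} R) (f : R) (fs : List R) (x : (DerCA.extCech M (f :: fs)).X 0) :
    bot M (f :: fs) x = bot M fs (afst _ x) := rfl

theorem bot_bijective (M : ModuleCat.{u} R) : ∀ fs : List R, Function.Bijective (bot M fs)
  | [] => (HomologicalComplex.singleObjXSelf (ComplexShape.up ℤ) (0 : ℤ) M).toLinearEquiv.bijective
  | f :: fs => by
      have h := bot_bijective M fs
      have hs : Subsingleton (LocalizedModule (Submonoid.powers f) ((DerCA.extCech M fs).X (-1))) :=
        LocalizedModule.subsingleton_iff.2 fun m => ⟨1, Submonoid.one_mem _, by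
          haveI := subsingleton_X M fs (-1) (by omega)
          exact Subsingleton.elim _ _⟩
      refine ⟨fun x y hxy => cocone_ext (p := -1) _ (by omega) (h.1 hxy) (hs.elim _ _), fun m => ?_⟩
      obtain ⟨a, ha⟩ := h.2 m
      refine ⟨amk _ (show (-1 : ℤ) + 1 = 0 by omega) a 0, ?_⟩
      rw [bot_cons]
      erw [afst_amk]
      exact ha

/-- the cycles of degree zero are the torsion elements -/
theorem d_zero_eq_zero_iff (M : ModuleCat.{u} R) : ∀ (fs : List R) (x : (DerCA.extCech M fs).X 0),
    ((DerCA.extCech M fs).d 0 1).hom x = 0 ↔ bot M fs x ∈ tor fs M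
  | [], x => by
      refine iff_of_true ?_ (mem_tor.2 fun f hf => absurd hf List.not_mem_nil)
      show (((HomologicalComplex.single (ModuleCat.{u} R) (ComplexShape.up ℤ) 0).obj M).d 0 1).hom x = 0
      rw [HomologicalComplex.single_obj_d]
      rfl
  | f :: fs, x => by
      have ih := d_zero_eq_zero_iff M fs (afst _ x)
      have hs : Subsingleton (((DerCA.locCx (Submonoid.powers f)).obj (DerCA.extCech M fs)).X (-1)) := by
        show Subsingleton (LocalizedModule (Submonoid.powers f) ((DerCA.extCech M fs).X (-1)))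
        exact LocalizedModule.subsingleton_iff.2 fun m => ⟨1, Submonoid.one_mem _, by
          haveI := subsingleton_X M fs (-1) (by omega)
          exact Subsingleton.elim _ _⟩
      have e1 := afst_d (DerCA.locCxUnit (Submonoid.powers f) (DerCA.extCech M fs)) 0 1 rfl x
      have e2 := asnd_d (DerCA.locCxUnit (Submonoid.powers f) (DerCA.extCech M fs)) (-1) 0 1 rfl rfl x
      rw [Subsingleton.elim (asnd _ (show (-1 : ℤ) + 1 = 0 from rfl) x) 0, map_zero, add_zero] at e2
      rw [mem_tor, bot_cons]
      constructor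
      · intro h g hg
        rcases List.mem_cons.1 hg with rfl | hg
        · have h2 : ((DerCA.locCxUnit (Submonoid.powers g) (DerCA.extCech M fs)).f 0).hom (afst _ x) = 0 := by
            rw [← neg_eq_zero, ← e2]
            erw [h]
            exact asnd_zero _ _
          obtain ⟨n, hn⟩ := (locUnit_eq_zero g _ 0 _).1 h2
          exact ⟨n, by rw [← map_smul, hn, map_zero]⟩
        · refine mem_tor.1 (ih.1 ?_) g hg
          rw [← e1]
          erw [h]
          exact map_zero _
      · intro h
        refine cocone_ext (p := 0) _ rfl ?_ ?_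
        · refine e1.trans ((ih.2 (mem_tor.2 fun g hg => h g (List.mem_cons_of_mem _ hg))).trans ?_)
          exact (map_zero _).symm
        · refine e2.trans ?_
          obtain ⟨n, hn⟩ := h f List.mem_cons_self
          rw [(locUnit_eq_zero f _ 0 _).2 ⟨n, (bot_bijective M fs).1 (by rw [map_smul, hn, map_zero])⟩,
            neg_zero]
          exact (asnd_zero _ _).symm

theorem bijective_smul_X (M : ModuleCat.{u} R) (g : R) (hg : Function.Bijective fun m : M => g • m) :
    ∀ (fs : List R) (q : ℤ), Function.Bijective fun x : (DerCA.extCech M fs).X q => g • x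
  | [], q => by
      rcases eq_or_ne q 0 with rfl | hq
      · let e := (HomologicalComplex.singleObjXSelf (ComplexShape.up ℤ) (0 : ℤ) M).toLinearEquiv
        have : (fun x : (DerCA.extCech M []).X 0 => g • x) = e.symm ∘ (fun m => g • m) ∘ e := by
          funext x
          exact (e.symm_apply_apply _).symm.trans (congrArg e.symm (map_smul e g x))
        rw [this]
        exact e.symm.bijective.comp (hg.comp e.bijective)
      · have : Subsingleton ((DerCA.extCech M []).X q) :=
          ModuleCat.subsingleton_of_isZero (HomologicalComplex.isZero_single_obj_X _ _ _ _ hq)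
        exact ⟨fun _ _ _ => Subsingleton.elim _ _, fun y => ⟨0, Subsingleton.elim _ _⟩⟩
  | f :: fs, q => by
      have h1 := bijective_smul_X M g hg fs q
      have h2 := bijective_smul_X M g hg fs (q - 1)
      let φ := DerCA.locCxUnit (Submonoid.powers f) (DerCA.extCech M fs)
      have hL : Function.Bijective fun y : ((DerCA.locCx (Submonoid.powers f)).obj (DerCA.extCech M fs)).X (q - 1) =>
          g • y := by
        constructor
        · intro a b hab
          rw [← sub_eq_zero]
          obtain ⟨c, n, hc⟩ := exists_loc f _ (q - 1) (a - b)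
          have h0 := congrArg (fun z => g • z) hc
          beta_reduce at h0
          rw [smul_comm, smul_sub g, show g • a = g • b from hab, sub_self, smul_zero, ← map_smul] at h0
          obtain ⟨m, hm⟩ := (locUnit_eq_zero f _ (q - 1) _).1 h0.symm
          rw [smul_comm] at hm
          have hz : f ^ m • c = 0 := h2.1 (by simp only [hm, smul_zero])
          apply smul_pow_injective f _ (q - 1) n
          simp only [smul_zero]
          rw [hc]
          exact (locUnit_eq_zero f _ (q - 1) _).2 ⟨m, hz⟩
        · intro y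
          obtain ⟨c, n, hc⟩ := exists_loc f _ (q - 1) y
          obtain ⟨c', hc'⟩ := h2.2 c
          obtain ⟨w, hw⟩ := smul_pow_surjective f _ (q - 1) n ((φ.f (q - 1)).hom c')
          refine ⟨w, smul_pow_injective f _ (q - 1) n ?_⟩
          simp only at hw hc' ⊢
          rw [smul_comm, hw, ← map_smul, hc', hc]
      constructor
      · intro x y hxy
        refine cocone_ext φ (show q - 1 + 1 = q by omega) (h1.1 ?_) (hL.1 ?_)
        · exact (afst_smul φ g x).symm.trans ((congrArg (afst φ) hxy).trans (afst_smul φ g y))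
        · exact (asnd_smul φ _ g x).symm.trans
            ((congrArg (asnd φ (show q - 1 + 1 = q by omega)) hxy).trans (asnd_smul φ _ g y))
      · intro y
        obtain ⟨a, ha⟩ := h1.2 (afst φ y)
        obtain ⟨b, hb⟩ := hL.2 (asnd φ (show q - 1 + 1 = q by omega) y)
        refine ⟨amk φ (show q - 1 + 1 = q by omega) a b, cocone_ext φ (show q - 1 + 1 = q by omega) ?_ ?_⟩
        · refine Eq.trans ?_ ha
          have : afst φ (g • amk φ (show q - 1 + 1 = q by omega) a b) =
              g • afst φ (amk φ (show q - 1 + 1 = q by omega) a b) := afst_smul φ g _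
          exact this.trans (by rw [afst_amk])
        · refine Eq.trans ?_ hb
          have : asnd φ (show q - 1 + 1 = q by omega) (g • amk φ (show q - 1 + 1 = q by omega) a b) =
              g • asnd φ (show q - 1 + 1 = q by omega) (amk φ (show q - 1 + 1 = q by omega) a b) :=
            asnd_smul φ _ g _
          exact this.trans (by rw [asnd_amk])

theorem ex_of_bijective_smul (M : ModuleCat.{u} R) (g : R) (hg : Function.Bijective fun m : M => g • m) :
    ∀ (fs : List R), g ∈ fs → ∀ q, Ex (DerCA.extCech M fs) q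
  | [], h, _ => absurd h List.not_mem_nil
  | f :: fs, h, q => by
      let φ := DerCA.locCxUnit (Submonoid.powers f) (DerCA.extCech M fs)
      rcases List.mem_cons.1 h with rfl | h
      · have hb : ∀ r, Function.Bijective (φ.f r).hom := fun r => by
          have hu : ∀ n : ℕ, Function.Bijective fun x : (DerCA.extCech M fs).X r => g ^ n • x := fun n => by
            induction n with
            | zero => exact ⟨fun a b h => by simpa using h, fun y => ⟨y, by simp⟩⟩
            | succ n ih =>
              have := (bijective_smul_X M g hg fs r).comp ih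
              simpa [Function.comp_def, smul_smul, pow_succ'] using this
          refine ⟨(injective_iff_map_eq_zero _).2 fun c hc => ?_, fun x => ?_⟩
          · obtain ⟨n, hn⟩ := (locUnit_eq_zero g _ r c).1 hc
            exact (hu n).1 (hn.trans (smul_zero _).symm)
          · obtain ⟨c, n, hc⟩ := exists_loc g _ r x
            obtain ⟨c', hc'⟩ := (hu n).2 c
            refine ⟨c', smul_pow_injective g _ r n ?_⟩
            simp only at hc' ⊢
            rw [hc, ← hc', map_smul]
        refine ex_cocone φ (show q - 1 + 1 = q by omega) (fun r hr a ha ⟨b, hb'⟩ => ?_) (fun o ho b hb' => ?_)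
        · obtain ⟨c, rfl⟩ := (hb (q - 1)).2 b
          rw [locUnit_d] at hb'
          exact ⟨c, (hb q).1 hb'⟩
        · obtain ⟨c, rfl⟩ := (hb (q - 1)).2 b
          rw [locUnit_d] at hb'
          exact ⟨c, 0, (hb q).1 (hb'.trans (map_zero _).symm), by rw [map_zero, add_zero]⟩
      · have ih := ex_of_bijective_smul M g hg fs h
        refine ex_cocone φ (show q - 1 + 1 = q by omega)
          (fun r hr a ha _ => ih q (q - 1) r (by omega) hr a ha) (fun o ho b hb' => ?_)
        obtain ⟨e, he⟩ := (ih (q - 1)).loc f o q ho (by omega) b hb'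
        exact ⟨0, e, map_zero _, by rw [map_zero, zero_add, he]⟩

theorem ex_of_injective [IsNoetherianRing R] (E : ModuleCat.{u} R) (hE : Module.Injective R E) :
    ∀ (fs : List R) (q : ℤ), 1 ≤ q → Ex (DerCA.extCech E fs) q
  | [], q, hq => ex_single_zero E (by omega)
  | f :: fs, q, hq => by
      have ih := ex_of_injective E hE fs
      let φ := DerCA.locCxUnit (Submonoid.powers f) (DerCA.extCech E fs)
      rcases eq_or_lt_of_le hq with rfl | hq2
      · refine ex_cocone φ (show (0 : ℤ) + 1 = 1 from rfl)
          (fun r hr a ha _ => ih 1 le_rfl 0 r rfl hr a ha) (fun o ho b hb' => ?_)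
        obtain ⟨c, n, hc⟩ := exists_loc f _ 0 b
        have h1 := congrArg ((((DerCA.locCx (Submonoid.powers f)).obj (DerCA.extCech E fs)).d 0 1)).hom hc
        rw [map_smul, hb', smul_zero, locUnit_d] at h1
        obtain ⟨m, hm⟩ := (locUnit_eq_zero f _ 1 _).1 h1.symm
        have hz : bot E fs (f ^ m • c) ∈ tor fs E :=
          (d_zero_eq_zero_iff E fs _).1 (by rw [map_smul, hm])
        have hinj : Module.Injective R (tor fs E) := by
          have h := LocCoh.injective_powTorsion (Ideal.span {a : R | a ∈ fs}) E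
          have he : LocCoh.powTorsion (Ideal.span {a : R | a ∈ fs}) E = tor fs E := by
            ext x
            rw [LocCoh.mem_powTorsion, mem_tor]
            refine ⟨fun ⟨n, hn⟩ g hg => ⟨n, hn (g ^ n)
              (Ideal.pow_mem_pow (Ideal.subset_span (α := R) (s := {a : R | a ∈ fs}) hg) n)⟩, fun h => ?_⟩
            obtain ⟨n, hn⟩ := exists_uniform_pow (mem_tor.2 h)
            have hle : Ideal.span ((fun g : R => g ^ n) '' {a : R | a ∈ fs}) ≤
                LinearMap.ker (LinearMap.toSpanSingleton R E x) := by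
              rw [Ideal.span_le]
              rintro _ ⟨g, hg, rfl⟩
              exact hn g hg
            have hrad : Ideal.span {a : R | a ∈ fs} ≤
                (Ideal.span ((fun g : R => g ^ n) '' {a : R | a ∈ fs})).radical :=
              Ideal.span_le.2 fun g hg => ⟨n, Ideal.subset_span ⟨g, hg, rfl⟩⟩
            obtain ⟨k, hk⟩ := Ideal.exists_pow_le_of_le_radical_of_fg hrad
              (Submodule.fg_span fs.finite_toSet)
            exact ⟨k, fun a ha => hle (hk ha)⟩
          rw [← he]
          exact h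
        obtain ⟨y, k, hk⟩ := exists_smul_eq_of_injective (f ^ (n + m)) (⟨_, hz⟩ : tor fs E)
        obtain ⟨y', hy'⟩ := (bot_bijective E fs).2 (y : E)
        have hk' : (f ^ (n + m)) ^ k • (f ^ (n + m) • y' - f ^ m • c) = 0 :=
          (bot_bijective E fs).1 (by
            rw [map_smul, map_sub, map_smul, hy', map_zero]
            exact congrArg Subtype.val hk)
        refine ⟨y', 0, (d_zero_eq_zero_iff E fs y').2 (hy'.symm ▸ y.2), ?_⟩
        rw [map_zero, add_zero]
        apply smul_pow_injective f _ 0 (n + m)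
        have h3 := congrArg (φ.f 0).hom hk'
        rw [map_zero, map_smul, map_sub, map_smul, map_smul] at h3
        have h4 : (φ.f 0).hom c = f ^ n • b := hc.symm
        rw [h4, ← pow_mul, smul_smul (f ^ m), ← pow_add, add_comm m n] at h3
        have h5 := smul_pow_injective f _ 0 ((n + m) * k) (h3.trans (smul_zero _).symm)
        exact (sub_eq_zero.1 h5).symm
      · refine ex_cocone φ (show q - 1 + 1 = q by omega)
          (fun r hr a ha _ => ih q (by omega) (q - 1) r (by omega) hr a ha) (fun o ho b hb' => ?_)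
        obtain ⟨e, he⟩ := (ih (q - 1) (by omega)).loc f o q ho (by omega) b hb'
        exact ⟨0, e, map_zero _, by rw [map_zero, zero_add, he]⟩

/-- zeroth cohomology -/
theorem nonempty_h0 (M : ModuleCat.{u} R) (fs : List R) :
    Nonempty ((DerCA.extCech M fs).homology 0 ≃ₗ[R] tor fs M) := by
  let K := DerCA.extCech M fs
  have hd : K.d (-1) 0 = 0 :=
    haveI := subsingleton_X M fs (-1) (by omega)
    (ModuleCat.isZero_of_subsingleton _).eq_of_src _ _
  haveI := K.isIso_homologyπ (-1) 0 (CochainComplex.prev _ _) hd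
  let g : K.cycles 0 →ₗ[R] tor fs M :=
    LinearMap.codRestrict _ ((bot M fs).comp (K.iCycles 0).hom) fun z =>
      (d_zero_eq_zero_iff M fs _).1 (congrArg (fun k => k.hom z) (K.iCycles_d 0 1))
  have hg : Function.Bijective g := by
    refine ⟨fun a b hab => ((ModuleCat.mono_iff_injective _).1 inferInstance)
      ((bot_bijective M fs).1 (congrArg Subtype.val hab)), fun t => ?_⟩
    obtain ⟨x, hx⟩ := (bot_bijective M fs).2 t.1
    have hx0 : (K.d 0 1).hom x = 0 := (d_zero_eq_zero_iff M fs x).2 (hx ▸ t.2)
    let α : ModuleCat.of R R ⟶ K.X 0 := ModuleCat.ofHom (LinearMap.toSpanSingleton R _ x)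
    have hα : α ≫ K.d 0 1 = 0 := by
      ext
      simp [α, hx0]
    let z : K.cycles 0 := (K.liftCycles α 1 (CochainComplex.next _ _) hα).hom (1 : R)
    refine ⟨z, Subtype.ext ?_⟩
    show bot M fs ((K.iCycles 0).hom z) = t.1
    have h := congrArg (fun k => k.hom (1 : R)) (K.liftCycles_i α 1 (CochainComplex.next _ _) hα)
    simp only [ModuleCat.hom_comp, LinearMap.comp_apply] at h
    rw [h]
    simp [α, hx]
  exact ⟨(asIso (K.homologyπ 0)).toLinearEquiv.symm.trans (LinearEquiv.ofBijective g hg)⟩

end Groth.Agent.CAlgH3.ExtCech
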