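import Groth.Agent.LocCoh.IdealTransform
import Groth.Prelude.Def_Wider
import Mathlib.RingTheory.Support
import Mathlib.Algebra.Homology.ShortComplex.ModuleCat

/-! `Ext^n(F, G) = Hom(F, H^n_J G)` when `Ext^(n-1)(-, G)` vanishes on modules supported in `V(J)`. -/

set_option autoImplicit false
set_option backward.isDefEq.respectTransparency.types false
universe u

open CategoryTheory Limits Opposite Abelian

namespace Groth.Agent.CAlgH3.ExtHomLocCoh

open Groth.Agent.LocCoh

attribute [local irreducible] _root_.Ext extEquiv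

variable {R : Type u} [CommRing R] (J : Ideal R) (G : Type u) [AddCommGroup G] [Module R G] (n : ℕ)

/-- `R/J^k` -/
noncomputable abbrev Q (k : ℕ) : ModuleCat.{u} R :=
  quot (localCohomology.idealPowersDiagram J) (op k)

/-- the standing hypothesis -/
def Van : Prop :=
  ∀ (F' : Type u) [AddCommGroup F'] [Module R F'], Module.Finite R F' →
    Module.support R F' ⊆ PrimeSpectrum.zeroLocus (J : Set R) → ∀ i : ℕ, i + 1 = n →
      Subsingleton (((_root_.Ext R (ModuleCat.{u} R) i).obj (op (ModuleCat.of R F'))).obj (ModuleCat.of R G))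

variable {J}

/-- killed by `J^k` -/
def Killed (k : ℕ) (X : ModuleCat.{u} R) : Prop := ∀ r ∈ J ^ k, ∀ x : X, r • x = 0

theorem Killed.support {k : ℕ} {X : ModuleCat.{u} R} (h : Killed (J := J) k X) :
    Module.support R X ⊆ PrimeSpectrum.zeroLocus (J : Set R) := fun p hp r hr => by
  obtain ⟨x, hx⟩ := Module.mem_support_iff'.1 hp
  exact p.2.mem_of_pow_mem k (by_contra fun hn => hx _ hn (h _ (Ideal.pow_mem_pow hr k) x))

variable (J)

/-- the map out of `R/J^k` given by an element -/
noncomputable def θ {k : ℕ} {X : ModuleCat.{u} R} (h : Killed (J := J) k X) (x : X) : Q J k ⟶ X :=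
  ModuleCat.ofHom (Submodule.liftQ (J ^ k) (LinearMap.toSpanSingleton R X x)
    fun r hr => LinearMap.mem_ker.2 (h r hr x))

theorem hom_ext_Q {k : ℕ} {X : ModuleCat.{u} R} {f g : Q J k ⟶ X}
    (h : f.hom (Submodule.Quotient.mk (1 : R) : R ⧸ J ^ k) = g.hom (Submodule.Quotient.mk (1 : R) : R ⧸ J ^ k)) :
    f = g :=
  ModuleCat.hom_ext (Submodule.linearMap_qext _ (LinearMap.ext_ring h))

theorem θ_apply_one {k : ℕ} {X : ModuleCat.{u} R} (h : Killed (J := J) k X) (x : X) :
    (θ J h x).hom (Submodule.Quotient.mk (1 : R) : R ⧸ J ^ k) = x := one_smul R x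

theorem θ_add {k : ℕ} {X : ModuleCat.{u} R} (h : Killed (J := J) k X) (x y : X) :
    θ J h (x + y) = θ J h x + θ J h y :=
  hom_ext_Q J ((θ_apply_one J h _).trans (congrArg₂ (· + ·) (θ_apply_one J h x) (θ_apply_one J h y)).symm)

theorem θ_smul {k : ℕ} {X : ModuleCat.{u} R} (h : Killed (J := J) k X) (r : R) (x : X) :
    θ J h (r • x) = r • θ J h x :=
  hom_ext_Q J ((θ_apply_one J h _).trans (congrArg (r • ·) (θ_apply_one J h x)).symm)

theorem θ_comp {k : ℕ} {X Y : ModuleCat.{u} R} (h : Killed (J := J) k X) (h' : Killed (J := J) k Y)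
    (f : X ⟶ Y) (x : X) : θ J h x ≫ f = θ J h' (f.hom x) :=
  hom_ext_Q J ((congrArg f.hom (θ_apply_one J h x)).trans (θ_apply_one J h' _).symm)

theorem killed_Q (k : ℕ) : Killed (J := J) k (Q J k) := fun r hr x => by
  obtain ⟨s, rfl⟩ := Submodule.Quotient.mk_surjective (J ^ k) x
  show Submodule.Quotient.mk (r • s) = (0 : R ⧸ J ^ k)
  exact (Submodule.Quotient.mk_eq_zero _).2 (Ideal.mul_mem_right _ _ hr)

variable [IsNoetherianRing R] {G n} (hvan : Van J G n)

local notation "G'" => ModuleCat.of R G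

include hvan in
theorem inj_of_surj {X' X : ModuleCat.{u} R} [Module.Finite R X'] {k : ℕ} (hk : Killed (J := J) k X')
    (p : X' ⟶ X) (hp : Function.Surjective p.hom) (e : Ext X G' n)
    (he : (Ext.mk₀ p).comp e (zero_add n) = 0) : e = 0 := by
  haveI : Epi p := (ModuleCat.epi_iff_surjective p).2 hp
  cases n with
  | zero =>
    obtain ⟨f, rfl⟩ := Ext.addEquiv₀.symm.surjective e
    simp only [Ext.addEquiv₀_symm_apply, Ext.mk₀_comp_mk₀] at he ⊢
    have h0 : p ≫ f = 0 := (Ext.addEquiv₀ (X := X') (Y := G')).symm.injective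
      (by simpa using he)
    rw [(cancel_epi p).1 (h0.trans comp_zero.symm), Ext.mk₀_zero]
  | succ i =>
    let K := ModuleCat.of R (LinearMap.ker p.hom)
    let S : ShortComplex (ModuleCat.{u} R) := ShortComplex.mk (ModuleCat.ofHom (LinearMap.ker p.hom).subtype : K ⟶ X') p
      (ModuleCat.hom_ext (LinearMap.ext fun x => x.2))
    haveI : Mono S.f := (ModuleCat.mono_iff_injective S.f).2 Subtype.val_injective
    haveI : Epi S.g := (inferInstance : Epi p)
    have hS : S.ShortExact := ShortComplex.ShortExact.mk ((ShortComplex.moduleCat_exact_iff S).2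
      fun x hx => ⟨⟨x, hx⟩, rfl⟩)
    obtain ⟨x₁, hx₁⟩ := Ext.contravariant_sequence_exact₃ hS G' e he (n₀ := i) (by omega)
    have hKk : Killed (J := J) k K := fun r hr x => Subtype.ext (hk r hr x.1)
    haveI : Module.Finite R (LinearMap.ker p.hom) := Module.Finite.iff_fg.2 (IsNoetherian.noetherian _)
    haveI := hvan (LinearMap.ker p.hom) inferInstance hKk.support i rfl
    have : x₁ = 0 := (extEquiv K i G').symm.injective (Subsingleton.elim _ _)
    rw [← hx₁, this, Ext.comp_zero]

theorem surjective_trans {k l : ℕ} (w : op l ⟶ op k) :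
    Function.Surjective ((localCohomology.ringModIdeals (localCohomology.idealPowersDiagram J)).map w).hom :=
  fun y => by
    obtain ⟨r, rfl⟩ := Submodule.Quotient.mk_surjective (J ^ k) y
    exact ⟨Submodule.Quotient.mk r, rfl⟩

instance finite_Q (k : ℕ) : Module.Finite R (Q J k) :=
  inferInstanceAs (Module.Finite R (R ⧸ J ^ k))

include hvan in
theorem toH_injective (k : ℕ) (x : Ext (Q J k) G' n)
    (h : toH (F := localCohomology.idealPowersDiagram J) (op k) n G' x = 0) : x = 0 := by
  obtain ⟨d, w, hw⟩ := (toH_eq_zero_iff x).1 h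
  exact inj_of_surj J hvan (killed_Q J d.unop) _ (surjective_trans J w) x hw

theorem eq_zero_of_pi {k N : ℕ} (e : Ext (ModuleCat.of R (Fin N → Q J k)) G' n)
    (h : ∀ i, (Ext.mk₀ (ModuleCat.ofHom (LinearMap.single R (fun _ : Fin N => (Q J k : Type u)) i))).comp e (zero_add n) = 0) :
    e = 0 := by
  classical
  have hid : 𝟙 (ModuleCat.of R (Fin N → Q J k)) = ∑ i : Fin N, ModuleCat.ofHom (LinearMap.proj i) ≫
      ModuleCat.ofHom (LinearMap.single R (fun _ : Fin N => (Q J k : Type u)) i) := by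
    refine ModuleCat.hom_ext ?_
    simp only [ModuleCat.hom_id, ModuleCat.hom_sum, ModuleCat.hom_comp, ModuleCat.hom_ofHom]
    refine LinearMap.ext fun v => ?_
    simp only [LinearMap.id_apply, LinearMap.coe_sum, Finset.sum_apply, LinearMap.comp_apply, LinearMap.proj_apply]
    exact (Finset.univ_sum_single v).symm
  rw [← Ext.mk₀_id_comp e, hid, Ext.mk₀_sum, Ext.sum_comp]
  refine Finset.sum_eq_zero fun i _ => ?_
  rw [← Ext.mk₀_comp_mk₀_assoc, h i, Ext.comp_zero]

include hvan in
theorem eq_zero_of_elements {k : ℕ} {X : ModuleCat.{u} R} [Module.Finite R X] (hX : Killed (J := J) k X)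
    (e : Ext X G' n) (h : ∀ x : X, (Ext.mk₀ (θ J hX x)).comp e (zero_add n) = 0) : e = 0 := by
  obtain ⟨N, v, hv⟩ := Module.Finite.exists_fin (R := R) (M := X)
  let p : ModuleCat.of R (Fin N → Q J k) ⟶ X :=
    ModuleCat.ofHom (∑ i, (θ J hX (v i)).hom ∘ₗ LinearMap.proj i)
  have hsingle : ∀ i, ModuleCat.ofHom (LinearMap.single R (fun _ : Fin N => (Q J k : Type u)) i) ≫ p = θ J hX (v i) := by
    intro i
    refine ModuleCat.hom_ext (LinearMap.ext fun y => ?_)
    show (∑ j, (θ J hX (v j)).hom ∘ₗ LinearMap.proj j) (Pi.single i y) = _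
    simp only [LinearMap.coe_sum, Finset.sum_apply, LinearMap.comp_apply, LinearMap.proj_apply]
    rw [Finset.sum_eq_single i (fun j _ hj => by rw [Pi.single_eq_of_ne hj, map_zero])
      (fun h => absurd (Finset.mem_univ i) h), Pi.single_eq_same]
  have hk' : Killed (J := J) k (ModuleCat.of R (Fin N → Q J k)) := fun r hr x => funext fun i => killed_Q J k r hr (x i)
  have hp : Function.Surjective p.hom := by
    rw [← LinearMap.range_eq_top, eq_top_iff, ← hv, Submodule.span_le]
    rintro _ ⟨i, rfl⟩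
    refine ⟨Pi.single i (Submodule.Quotient.mk (1 : R)), ?_⟩
    refine (congrArg (fun f => f.hom (Submodule.Quotient.mk (1 : R))) (hsingle i)).trans ?_
    exact one_smul R (v i)
  refine inj_of_surj J hvan hk' p hp e (eq_zero_of_pi J _ fun i => ?_)
  rw [Ext.mk₀_comp_mk₀_assoc, hsingle, h]

theorem θ_one {k : ℕ} (r : R) :
    θ J (killed_Q J k) (Submodule.Quotient.mk r : R ⧸ J ^ k) = r • 𝟙 (Q J k) :=
  ModuleCat.hom_ext (Submodule.linearMap_qext _ (LinearMap.ext_ring (by
    show (1 : R) • (Submodule.Quotient.mk r : R ⧸ J ^ k) = r • Submodule.Quotient.mk (1 : R)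
    rw [one_smul, ← Submodule.Quotient.mk_smul, smul_eq_mul, mul_one])))

include hvan in
theorem exists_of_killed (k : ℕ) (h : (Hf (localCohomology.idealPowersDiagram J) n).obj G')
    (hh : ∀ r ∈ J ^ k, r • h = 0) :
    ∃ e : Ext (Q J k) G' n, toH (F := localCohomology.idealPowersDiagram J) (op k) n G' e = h := by
  obtain ⟨d, x₀, rfl⟩ := exists_toH h
  let l := max d.unop k
  let w : op l ⟶ d := (homOfLE (le_max_left d.unop k)).op
  let w' : op l ⟶ op k := (homOfLE (le_max_right d.unop k)).op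
  let x := (Ext.mk₀ ((localCohomology.ringModIdeals (localCohomology.idealPowersDiagram J)).map w)).comp x₀ (zero_add n)
  have hx : toH (F := localCohomology.idealPowersDiagram J) (op l) n G' x = toH d n G' x₀ := toH_pre w x₀
  let π := (localCohomology.ringModIdeals (localCohomology.idealPowersDiagram J)).map w'
  let K := ModuleCat.of R (LinearMap.ker π.hom)
  let S : ShortComplex (ModuleCat.{u} R) := ShortComplex.mk (ModuleCat.ofHom (LinearMap.ker π.hom).subtype : K ⟶ _) π
    (ModuleCat.hom_ext (LinearMap.ext fun x => x.2))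
  haveI : Mono S.f := (ModuleCat.mono_iff_injective S.f).2 Subtype.val_injective
  haveI : Epi S.g := (ModuleCat.epi_iff_surjective π).2 (surjective_trans J w')
  have hS : S.ShortExact := ShortComplex.ShortExact.mk ((ShortComplex.moduleCat_exact_iff S).2
    fun x hx => ⟨⟨x, hx⟩, rfl⟩)
  haveI : Module.Finite R (LinearMap.ker π.hom) := Module.Finite.iff_fg.2 (IsNoetherian.noetherian _)
  have hKl : Killed (J := J) l K := fun r hr x => Subtype.ext (killed_Q J l r hr x.1)
  have h0 : (Ext.mk₀ S.f).comp x (zero_add n) = 0 := by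
    refine eq_zero_of_elements J hvan hKl _ fun y => ?_
    rw [Ext.mk₀_comp_mk₀_assoc, θ_comp J hKl (killed_Q J l)]
    obtain ⟨r, hr⟩ := Submodule.Quotient.mk_surjective (J ^ l) (S.f.hom y)
    have hrk : r ∈ J ^ k := by
      have h1 : π.hom (S.f.hom y) = 0 := y.2
      rw [← hr] at h1
      exact (Submodule.Quotient.mk_eq_zero _).1 h1
    rw [← hr, θ_one, Ext.mk₀_smul, Ext.smul_comp, Ext.mk₀_id_comp]
    refine toH_injective J hvan l _ ?_
    rw [map_smul, hx, hh r hrk]
  obtain ⟨e, he⟩ := Ext.contravariant_sequence_exact₂ hS G' x h0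
  refine ⟨e, ?_⟩
  rw [← hx, ← he]
  exact (toH_pre w' e).symm

/-- the comparison map -/
noncomputable def Φ {k : ℕ} {X : ModuleCat.{u} R} (hX : Killed (J := J) k X) :
    Ext X G' n →ₗ[R] (X →ₗ[R] (Hf (localCohomology.idealPowersDiagram J) n).obj G') where
  toFun e :=
    { toFun := fun x => toH (F := localCohomology.idealPowersDiagram J) (op k) n G' ((Ext.mk₀ (θ J hX x)).comp e (zero_add n))
      map_add' := fun x y => by rw [θ_add, Ext.mk₀_add, Ext.add_comp, map_add]
      map_smul' := fun r x => by rw [θ_smul, Ext.mk₀_smul, Ext.smul_comp, map_smul]; rfl }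
  map_add' e e' := LinearMap.ext fun x => by
    show toH (op k) n G' _ = toH (op k) n G' _ + toH (op k) n G' _
    rw [Ext.comp_add, map_add]
  map_smul' r e := LinearMap.ext fun x => by
    show toH (op k) n G' _ = r • toH (op k) n G' _
    rw [Ext.comp_smul, map_smul]

include hvan in
theorem bijective_Φ {k : ℕ} {X : ModuleCat.{u} R} [Module.Finite R X] (hX : Killed (J := J) k X) :
    Function.Bijective (Φ J (G := G) (n := n) hX) := by
  refine ⟨(injective_iff_map_eq_zero _).2 fun e he => eq_zero_of_elements J hvan hX e fun x =>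
    toH_injective J hvan k _ (LinearMap.congr_fun he x), fun h => ?_⟩
  obtain ⟨N, v, hv⟩ := Module.Finite.exists_fin (R := R) (M := X)
  choose c hc using fun i => exists_of_killed J hvan k (h (v i)) fun r hr => by rw [← map_smul, hX r hr, map_zero]
  let P := ModuleCat.of R (Fin N → Q J k)
  let pr : ∀ i : Fin N, P ⟶ Q J k := fun i => ModuleCat.ofHom (LinearMap.proj i)
  have hk' : Killed (J := J) k P := fun r hr x => funext fun i => killed_Q J k r hr (x i)
  let p : P ⟶ X := ∑ i, pr i ≫ θ J hX (v i)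
  let e' : Ext P G' n := ∑ i, (Ext.mk₀ (pr i)).comp (c i) (zero_add n)
  have key : ∀ y : P, toH (F := localCohomology.idealPowersDiagram J) (op k) n G'
      ((Ext.mk₀ (θ J hk' y)).comp e' (zero_add n)) = h (p.hom y) := by
    intro y
    simp only [e', p, Ext.comp_sum, map_sum, ModuleCat.hom_sum, LinearMap.coe_sum, Finset.sum_apply]
    refine Finset.sum_congr rfl fun i _ => ?_
    obtain ⟨r, hr⟩ := Submodule.Quotient.mk_surjective (J ^ k) ((pr i).hom y)
    rw [Ext.mk₀_comp_mk₀_assoc, θ_comp J hk' (killed_Q J k)]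
    have hpy : ((pr i ≫ θ J hX (v i)).hom y) = r • v i := by
      show (θ J hX (v i)).hom ((pr i).hom y) = _
      rw [← hr]; rfl
    rw [← hr, θ_one, Ext.mk₀_smul, Ext.smul_comp, Ext.mk₀_id_comp, map_smul, hc, hpy, map_smul]
  let K := ModuleCat.of R (LinearMap.ker p.hom)
  let S : ShortComplex (ModuleCat.{u} R) := ShortComplex.mk (ModuleCat.ofHom (LinearMap.ker p.hom).subtype : K ⟶ P) p
    (ModuleCat.hom_ext (LinearMap.ext fun x => x.2))
  have hp : Function.Surjective p.hom := by
    classical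
    rw [← LinearMap.range_eq_top, eq_top_iff, ← hv, Submodule.span_le]
    rintro _ ⟨i, rfl⟩
    refine ⟨Pi.single i (Submodule.Quotient.mk (1 : R)), ?_⟩
    simp only [p, ModuleCat.hom_sum, LinearMap.coe_sum, Finset.sum_apply]
    rw [Finset.sum_eq_single i (fun j _ hj => ?_) (fun h => absurd (Finset.mem_univ i) h)]
    · show (θ J hX (v i)).hom (Pi.single (M := fun _ : Fin N => (Q J k : Type u)) i (Submodule.Quotient.mk (1 : R)) i) = v i
      rw [Pi.single_eq_same]; exact one_smul R (v i)
    · show (θ J hX (v j)).hom (Pi.single (M := fun _ : Fin N => (Q J k : Type u)) i (Submodule.Quotient.mk (1 : R)) j) = 0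
      rw [Pi.single_eq_of_ne hj, map_zero]
  haveI : Mono S.f := (ModuleCat.mono_iff_injective S.f).2 Subtype.val_injective
  haveI : Epi S.g := (ModuleCat.epi_iff_surjective p).2 hp
  have hS : S.ShortExact := ShortComplex.ShortExact.mk ((ShortComplex.moduleCat_exact_iff S).2
    fun x hx => ⟨⟨x, hx⟩, rfl⟩)
  haveI : Module.Finite R (LinearMap.ker p.hom) := Module.Finite.iff_fg.2 (IsNoetherian.noetherian _)
  have hKk : Killed (J := J) k K := fun r hr x => Subtype.ext (hk' r hr x.1)
  have h0 : (Ext.mk₀ S.f).comp e' (zero_add n) = 0 := by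
    refine eq_zero_of_elements J hvan hKk _ fun y => toH_injective J hvan k _ ?_
    rw [Ext.mk₀_comp_mk₀_assoc, θ_comp J hKk hk', key]
    exact (congrArg h y.2).trans (map_zero h)
  obtain ⟨e, he⟩ := Ext.contravariant_sequence_exact₂ hS G' e' h0
  refine ⟨e, LinearMap.ext fun x => ?_⟩
  obtain ⟨y, rfl⟩ := hp x
  show toH (op k) n G' ((Ext.mk₀ (θ J hX (p.hom y))).comp e (zero_add n)) = h (p.hom y)
  rw [← key y, ← he, Ext.mk₀_comp_mk₀_assoc, θ_comp J hk' hX]

include hvan in
theorem nonempty_equiv (F : Type u) [AddCommGroup F] [Module R F] [Module.Finite R F]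
    (hF : Module.support R F ⊆ PrimeSpectrum.zeroLocus (J : Set R)) :
    Nonempty ((((_root_.Ext R (ModuleCat.{u} R) n).obj (op (ModuleCat.of R F))).obj G') ≃ₗ[R]
      (F →ₗ[R] _root_.LocCoh.H J n G)) := by
  rw [Module.support_eq_zeroLocus, PrimeSpectrum.zeroLocus_subset_zeroLocus_iff] at hF
  obtain ⟨k, hk⟩ := Ideal.exists_pow_le_of_le_radical_of_fg hF (IsNoetherian.noetherian J)
  have hX : Killed (J := J) k (ModuleCat.of R F) := fun r hr x => Module.mem_annihilator.1 (hk hr) x
  exact ⟨(extEquiv (ModuleCat.of R F) n G').trans (LinearEquiv.ofBijective _ (bijective_Φ J hvan hX))⟩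

end Groth.Agent.CAlgH3.ExtHomLocCoh
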