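import Groth.Agent.LocCoh.IdealTransform
import Groth.Prelude.Def_Wider
import Mathlib.CategoryTheory.Abelian.Projective.Ext
import Mathlib.Algebra.Category.ModuleCat.Projective
import Mathlib.Algebra.Category.ModuleCat.EnoughInjectives
import Mathlib.RingTheory.Ideal.Quotient.Operations

/-! `Ext^i(R/I^m, -) → Ext^i(R/I^n, -)` vanishes for `i > cd`. -/

set_option autoImplicit false
set_option backward.isDefEq.respectTransparency.types false
universe u

open CategoryTheory Limits Opposite Abelian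

namespace Groth.Agent.CAlgH3.ExtProVanish

open Groth.Agent.LocCoh

attribute [local irreducible] _root_.Ext extEquiv

variable {R : Type u} [CommRing R] (I : Ideal R)

/-- `R/I^k` -/
noncomputable abbrev Q (k : ℕ) : ModuleCat.{u} R :=
  quot (localCohomology.idealPowersDiagram I) (op k)

theorem exists_uniform_succ {e : ℕ} (he : _root_.LocCoh.CdLE R I e) (n : ℕ) :
    ∃ (m : ℕ) (w : op m ⟶ op n), n < m ∧ ∀ (N : ModuleCat.{u} R) (x : Ext (Q I n) N (e + 1)),
      (Ext.mk₀ ((localCohomology.ringModIdeals (localCohomology.idealPowersDiagram I)).map w)).comp x (zero_add _) = 0 := by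
  let P := projectiveResolution (Q I n)
  let Ω := cokernel (P.complex.d (e + 2) (e + 1))
  let q : P.complex.X (e + 1) ⟶ Ω := cokernel.π _
  have hq : P.complex.d (e + 2) (e + 1) ≫ q = 0 := cokernel.condition _
  let u := P.extMk q (e + 2) rfl hq
  have : Subsingleton ((Hf (localCohomology.idealPowersDiagram I) (e + 1)).obj Ω) :=
    he Ω (e + 1) (Nat.lt_succ_self e)
  obtain ⟨d', w, hw⟩ := (toH_eq_zero_iff u).1 (Subsingleton.elim
    (toH (F := localCohomology.idealPowersDiagram I) (op n) (e + 1) Ω u) 0)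
  let m := max d'.unop (n + 1)
  let w' : op m ⟶ d' := (homOfLE (le_max_left d'.unop (n + 1))).op
  refine ⟨m, w' ≫ w, lt_of_lt_of_le (Nat.lt_succ_self n) (le_max_right _ _), fun N x => ?_⟩
  obtain ⟨f, hf, rfl⟩ := P.extMk_surjective x (e + 2) rfl
  have key : P.extMk f (e + 2) rfl hf = u.comp (Ext.mk₀ (cokernel.desc _ f hf)) (add_zero _) := by
    rw [P.extMk_comp_mk₀]
    congr 1
    exact (cokernel.π_desc _ _ _).symm
  rw [key, Functor.map_comp, ← Ext.mk₀_comp_mk₀_assoc, ← Ext.comp_assoc_of_third_deg_zero, hw]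
  simp

theorem uniform {e n m : ℕ} (π : Q I m ⟶ Q I n)
    (h : ∀ (N : ModuleCat.{u} R) (x : Ext (Q I n) N (e + 1)), (Ext.mk₀ π).comp x (zero_add _) = 0) :
    ∀ (j : ℕ) (N : ModuleCat.{u} R) (x : Ext (Q I n) N (e + 1 + j)), (Ext.mk₀ π).comp x (zero_add _) = 0 := by
  intro j
  induction j with
  | zero => exact h
  | succ j ih =>
    intro N x
    let E := Injective.under N
    let S : ShortComplex (ModuleCat.{u} R) := ShortComplex.mk (Injective.ι N) (cokernel.π (Injective.ι N)) (cokernel.condition _)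
    have hS : S.ShortExact := ShortComplex.ShortExact.mk (ShortComplex.exact_cokernel _)
    haveI : Injective S.X₂ := (inferInstance : Injective E)
    obtain ⟨y, hy⟩ := Ext.covariant_sequence_exact₁ _ hS x (Ext.eq_zero_of_injective _) (n₀ := e + 1 + j) rfl
    rw [← hy, ← Ext.comp_assoc _ _ _ (zero_add _) rfl (by omega), ih, Ext.zero_comp]

theorem main [IsNoetherianRing R] {e : ℕ} (he : _root_.LocCoh.CdLE R I e) (n : ℕ) :
    ∃ (m : ℕ) (hm : n < m), ∀ (N : ModuleCat.{u} R) (i : ℕ), e < i →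
      ∀ x : Ext (ModuleCat.of R (R ⧸ I ^ n)) N i,
        (Ext.mk₀ (ModuleCat.ofHom (Submodule.mapQ (I ^ m) (I ^ n) LinearMap.id
          (Ideal.pow_le_pow_right (Nat.le_of_lt hm))))).comp x (zero_add i) = 0 := by
  obtain ⟨m, w, hm, h⟩ := exists_uniform_succ I he n
  refine ⟨m, hm, fun N i hi x => ?_⟩
  obtain ⟨j, rfl⟩ : ∃ j, i = e + 1 + j := ⟨i - (e + 1), by omega⟩
  exact uniform I ((localCohomology.ringModIdeals (localCohomology.idealPowersDiagram I)).map w) h j N x

end Groth.Agent.CAlgH3.ExtProVanish
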