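import Groth.Agent.CAlgH3.PSheafPres
import Groth.Agent.CurveRR24.GGTensor
import Groth.Agent.Coherent.AnnSheaf
import Groth.Agent.Coherent.ProjFormula
import Groth.Agent.Coherent.Existence.SysKernel
import Groth.Agent.Resolve13.IdealPowerSections
import Groth.Agent.Lef23.ProZeroX
import Mathlib.AlgebraicGeometry.AlgClosed.Basic

/-!
# Regularity of the ideal of finitely many fat points

An ideal on `P^N_k` containing a product of `D` ideals of rational points is `D`-regular: peel off one
point at a time, using that a `d`-regular sheaf twisted by `d` is globally generated.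
-/

set_option autoImplicit false
set_option linter.unusedSectionVars false
set_option backward.isDefEq.respectTransparency.types false
set_option linter.style.haveILetI false
set_option maxHeartbeats 400000

universe u

open CategoryTheory CategoryTheory.Limits AlgebraicGeometry Opposite TopologicalSpace
open Groth.Agent.Coherent Groth.Agent.PicLib Groth.Agent.AmpleLib Groth.Agent.InjMod14.Kosz
open Groth.Agent.CAlgH3 Groth.Agent.CAlgH3.ModCohSeq Groth.Agent.CAlgH3.PSheaf Groth.Agent.CAlgH3.PSheafGen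
open Groth.Agent.CAlgH3.PSheafSeq Groth.Agent.CAlgH3.PSheafPres

noncomputable section

namespace Groth.Agent.CAlgH3.FatPoints

/-- Global sections of a generated module surject onto a module pushed forward from a point over a retraction. -/
theorem surjective_app_top_of_gg {Z P : Scheme.{u}} (p : Z ⟶ P) (r : P ⟶ Z) (hr : p ≫ r = 𝟙 Z) [Subsingleton Z] (z : Z)
    {G : P.Modules} [Coh.IsQCoh G] (hG : Curv2.IsGloballyGenerated G) (M : Z.Modules)
    [Coh.IsQCoh ((Scheme.Modules.pushforward p).obj M)] (f : G ⟶ (Scheme.Modules.pushforward p).obj M) [Epi f] :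
    Function.Surjective (f.app (⊤ : P.Opens)) := by
  intro m
  obtain ⟨W, hW, hzW, -⟩ := exists_isAffineOpen_mem_and_subset (x := p z) (U := ⊤) trivial
  have hpre : ∀ y : Z, y ∈ p ⁻¹ᵁ W := fun y => by rw [Subsingleton.elim y z]; exact hzW
  have hle : p ⁻¹ᵁ (⊤ : P.Opens) ≤ p ⁻¹ᵁ W := fun y _ => hpre y
  have hinj : Function.Injective
      (resM ((Scheme.Modules.pushforward p).obj M) (le_top : W ≤ (⊤ : P.Opens))) := fun a b hab => by
    have h := congrArg (resM M hle) (show resM M (p.preimage_mono (le_top : W ≤ ⊤)) a =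
      resM M (p.preimage_mono (le_top : W ≤ ⊤)) b from hab)
    rw [resM_resM, resM_resM] at h
    exact (resM_self M (U := p ⁻¹ᵁ ⊤) le_rfl a).symm.trans (h.trans (resM_self M (U := p ⁻¹ᵁ ⊤) le_rfl b))
  obtain ⟨a, ha⟩ := Existence.app_surjective_of_epi f hW
    (resM ((Scheme.Modules.pushforward p).obj M) le_top m)
  suffices key : ∀ a ∈ globalSpan G W, ∃ t, f.app W a =
      resM ((Scheme.Modules.pushforward p).obj M) le_top (f.app ⊤ t) by
    obtain ⟨t, ht⟩ := key a (CurveRR24.mem_globalSpan_of_gg hG hW a)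
    exact ⟨t, hinj (ht.symm.trans ha)⟩
  intro a ha'
  induction ha' using Submodule.span_induction with
  | mem x hx =>
    obtain ⟨s, rfl⟩ := hx
    exact ⟨s, app_resM f (le_top : W ≤ ⊤) s⟩
  | zero => exact ⟨0, by rw [map_zero, map_zero, map_zero]⟩
  | add x y _ _ hx hy =>
    obtain ⟨t, ht⟩ := hx
    obtain ⟨t', ht'⟩ := hy
    exact ⟨t + t', by rw [map_add, map_add, map_add, ht, ht']⟩
  | smul c x _ hx =>
    obtain ⟨t, ht⟩ := hx
    let c₀ : Γ(Z, p ⁻¹ᵁ ⊤) := Z.presheaf.map (homOfLE hle).op (p.app W c)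
    obtain ⟨c', hc'⟩ : ∃ c' : Γ(P, ⊤), p.app ⊤ c' = c₀ :=
      ⟨r.app ⊤ c₀, by
        show (r.app ⊤ ≫ p.app ⊤) c₀ = c₀
        rw [show r.app ⊤ ≫ p.app ⊤ = (p ≫ r).app ⊤ from (Scheme.Hom.comp_app p r ⊤).symm,
          Scheme.Hom.congr_app hr ⊤]
        simp
        rfl⟩
    refine ⟨c' • t, ?_⟩
    have hcc : p.app W c = p.app W (P.presheaf.map (homOfLE (le_top : W ≤ ⊤)).op c') := by
      refine Eq.trans ?_ (ConcreteCategory.congr_hom (p.naturality (homOfLE (le_top : W ≤ ⊤)).op) c').symm
      show _ = (Z.presheaf.map _) (p.app ⊤ c')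
      rw [hc']
      show _ = Z.presheaf.map _ (Z.presheaf.map _ _)
      refine Eq.trans ?_ (ConcreteCategory.congr_hom (Z.presheaf.map_comp _ _) _)
      rw [Subsingleton.elim ((homOfLE hle).op ≫ _) (𝟙 (op (p ⁻¹ᵁ W))), CategoryTheory.Functor.map_id]
      rfl
    rw [Scheme.Modules.Hom.app_smul, ht, Scheme.Modules.Hom.app_smul, resM_smul]
    exact congrArg (fun d : Γ(Z, p ⁻¹ᵁ W) => d • (resM M (p.preimage_mono (le_top : W ≤ ⊤))
      (f.app ⊤ t) : Γ(M, p ⁻¹ᵁ W))) hcc

/-- The global sections of a twisted quotient supported at a section `p`. -/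
theorem surjective_twist_g {Z P : Scheme.{u}} (p : Z ⟶ P) (r : P ⟶ Z) (hr : p ≫ r = 𝟙 Z) [IsClosedImmersion p]
    [Subsingleton Z] (z : Z) {A B L : P.Modules} (hL : PicF.IsInvertible L) [Coh.IsQCoh B] [IsIso (clUnit p B)]
    [Coh.IsQCoh (CohB1.tensorMod A L)] (hG : Curv2.IsGloballyGenerated (CohB1.tensorMod A L))
    (f : CohB1.tensorMod A L ⟶ CohB1.tensorMod B L) (hf : Epi f) :
    Function.Surjective (f.app (⊤ : P.Opens)) := by
  haveI : Coh.IsQCoh (CohB1.tensorMod B L) := isQCoh_tensor_invertible B hL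
  let e : CohB1.tensorMod B L ≅ (Scheme.Modules.pushforward p).obj _ :=
    (AmpleLib.tensorIso (asIso (clUnit p B)) (Iso.refl L) ≪≫ AmpleLib.tensorComm _ _ :) ≪≫
      (Coherent.projIso (f := p) (E := L) (fun x => let ⟨U, hx, e⟩ := PicLib.isFinLocFreeOfRank_one hL x; ⟨U, 1, hx, e⟩)).app
        ((Scheme.Modules.pullback p).obj B)
  haveI := isQCoh_of_iso e
  haveI : Epi (f ≫ e.hom) := epi_comp _ _
  have hsurj := surjective_app_top_of_gg p r hr z hG _ (f ≫ e.hom)
  intro s
  obtain ⟨t, ht⟩ := hsurj (e.hom.app ⊤ s)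
  refine ⟨t, ?_⟩
  have hid : ∀ w, e.inv.app ⊤ (e.hom.app ⊤ w) = w := fun w =>
    ConcreteCategory.congr_hom (congrArg (fun φ => Scheme.Modules.Hom.app φ (⊤ : P.Opens)) e.hom_inv_id) w
  exact ((hid _).symm.trans (congrArg (e.inv.app ⊤) ht)).trans (hid s)

variable {k : Type u} [Field k] {N : ℕ}

/-- One step: a subsheaf of a regular sheaf whose quotient is killed by the ideal of a rational point. -/
theorem isMRegular_step {S : ShortComplex (CohB1.ProjSpace N k).Modules} (hS : S.ShortExact) {D : ℤ}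
    (h₂ : Coh.IsCoh S.X₂) (hreg : Curv2.IsMRegular k N S.X₂ D) (h₃ : Coh.IsCoh S.X₃)
    (p : Spec (CommRingCat.of k) ⟶ CohB1.ProjSpace N k) (hp : p ≫ CohB1.ProjSpace.toSpec N k = 𝟙 _)
    (hk : ClSub.KilledByIdeal p.ker S.X₃) :
    Curv2.IsMRegular k N S.X₁ (D + 1) := by
  haveI := isProper_projSpace_toSpec N k
  haveI : IsLocallyNoetherian (CohB1.ProjSpace N k) :=
    LocallyOfFiniteType.isLocallyNoetherian (CohB1.ProjSpace.toSpec N k)
  haveI : IsClosedImmersion p := isClosedImmersion_of_comp_eq_id _ _ hp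
  let z : Spec (CommRingCat.of k) := IsLocalRing.closedPoint k
  haveI := h₃.1
  haveI hiso := Coherent.isIso_clUnit p hk
  have hsupp : topologicalKrullDim (CohB1.support S.X₃) ≤ ((0 : ℕ) : WithBot ℕ∞) := by
    have hsub : CohB1.support S.X₃ ⊆ {p z} := fun y hy => by
      by_contra h
      refine hy (Coherent.subsingleton_stalk_of_killed p hk ?_)
      rintro ⟨w, rfl⟩
      exact h (by rw [Subsingleton.elim w z]; rfl)
    haveI : Subsingleton (CohB1.support S.X₃) :=
      ⟨fun a b => Subtype.ext ((hsub a.2).trans (hsub b.2).symm)⟩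
    exact_mod_cast topologicalKrullDim_zero_of_discreteTopology _
  intro i hi hin
  rcases Nat.lt_or_ge i 2 with h | h
  · obtain rfl : i = 1 := by omega
    rw [show D + 1 - ((1 : ℕ) : ℤ) = D by push_cast; ring]
    refine V_left_of_surjective (twist_shortExact hS D) ?_ (W_of_le h₂.1 hreg le_rfl (by omega))
    haveI := h₂.1
    haveI : Coh.IsQCoh (CohB1.tensorMod S.X₂ (Twist.twistProjSpace N k D)) := isQCoh_twistProj h₂.1 D
    exact surjective_twist_g p _ hp z (A := S.X₂) (B := S.X₃) (isInvertible_twistProj (k := k) (r := N) D)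
      (PSheafGen.isGloballyGenerated h₂.1 hreg (PSheafGen.isCoh_twistProj h₂ D))
      (EulerLib.twistSeq S (Twist.twistProjSpace N k D)).g (twist_shortExact hS D).epi_g
  · obtain ⟨l, rfl⟩ : ∃ l, i = l + 1 := ⟨i - 1, by omega⟩
    exact W_left hS (W_of_support h₃ hsupp _ (by omega)) (W_of_le h₂.1 hreg hi (by omega))

theorem isIso_idealModι_of_eq_top {P : Scheme.{u}} {I : P.IdealSheafData} (hI : I = ⊤) :
    IsIso (ClSub.idealModι I) := by
  refine TwistLib.G.isIso_of_bijective_on_basis _ (fun B => IsAffineOpen B) (fun V y hy => ?_) fun B hB => ?_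
  · obtain ⟨W, hW, hyW, hle⟩ := exists_isAffineOpen_mem_and_subset (x := y) (U := V) hy
    exact ⟨W, hW, hyW, hle⟩
  · exact ⟨Resolve13.IdealPow.ival_inj I B, fun a =>
      exists_ival I ⟨B, hB⟩ (by rw [hI]; trivial)⟩

theorem isMRegular_zero : Curv2.IsMRegular k N (Coh.structureModule (CohB1.ProjSpace N k)) 0 := by
  intro i hi hin
  exact V_of_iso (unitTensorIso _).symm (subsingleton_HH_twist (n := N) (R := k) (d := 0 - (i : ℤ)) i (by omega) (by omega))

/-- The product of the ideals of a list of points. -/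
def prodKer {T P : Scheme.{u}} [IsAffine T] : List (T ⟶ P) → P.IdealSheafData
  | [] => ⊤
  | p :: l => p.ker * prodKer l

/-- An ideal containing a product of `D` ideals of rational points is `D`-regular. -/
theorem isMRegular_of_prodKer_le :
    ∀ (l : List (Spec (CommRingCat.of k) ⟶ CohB1.ProjSpace N k)),
      (∀ p ∈ l, p ≫ CohB1.ProjSpace.toSpec N k = 𝟙 _) →
      ∀ I : (CohB1.ProjSpace N k).IdealSheafData, prodKer l ≤ I →
        Curv2.IsMRegular k N (ClSub.idealMod I) (l.length : ℤ) := by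
  haveI := isProper_projSpace_toSpec N k
  haveI : IsLocallyNoetherian (CohB1.ProjSpace N k) :=
    LocallyOfFiniteType.isLocallyNoetherian (CohB1.ProjSpace.toSpec N k)
  intro l
  induction l with
  | nil =>
    intro _ I hI
    haveI := isIso_idealModι_of_eq_top (top_le_iff.1 hI)
    intro i hi hin
    exact V_of_iso (AmpleLib.tensorIso (asIso (ClSub.idealModι I)) (Iso.refl _)).symm (isMRegular_zero i hi hin)
  | cons p l ih =>
    intro hl I hI
    let J := I ⊔ prodKer l
    have hreg := ih (fun q hq => hl q (List.mem_cons_of_mem _ hq)) J le_sup_right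
    have hle : I ≤ J := le_sup_left
    have hcI := CurveRR24.isCoh_idealMod' I
    have hcJ := CurveRR24.isCoh_idealMod' J
    haveI : Mono (ClSub.idealModι I) := mono_idealModι I
    haveI : Mono (Lef23.idealIncl hle) := mono_of_mono_fac (Lef23.idealIncl_ι hle)
    have hcQ : Coh.IsCoh (cokernel (Lef23.idealIncl hle)) := isCoh_cokernel _ hcI.1 hcJ
    have hS : (ShortComplex.mk (Lef23.idealIncl hle) (cokernel.π (Lef23.idealIncl hle))
        (cokernel.condition _)).ShortExact := { exact := ShortComplex.exact_cokernel _ }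
    rw [List.length_cons, Nat.cast_succ]
    refine isMRegular_step hS hcJ hreg hcQ p (hl p List.mem_cons_self) fun U a ha s => ?_
    haveI := hcJ.1
    haveI := hcQ.1
    obtain ⟨c, hc⟩ := Existence.app_surjective_of_epi (cokernel.π (Lef23.idealIncl hle)) U.2 s
    have hmem : a * ival J U.1 c ∈ I.ideal U := by
      have hc' := ival_mem J U c
      change _ ∈ (I.ideal ⊔ (prodKer l).ideal) U at hc'
      obtain ⟨x, hx, y, hy, hxy⟩ := Submodule.mem_sup.1 hc'
      rw [← hxy, mul_add]
      exact add_mem (Ideal.mul_mem_left _ a hx) (hI U (Ideal.mul_mem_mul ha hy))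
    obtain ⟨c₀, hc₀⟩ := exists_ival I U hmem
    have he : (Lef23.idealIncl hle).app U.1 c₀ = a • c := by
      refine Resolve13.IdealPow.ival_inj J U.1 ?_
      rw [Resolve13.IdealPow.ival_smul]
      exact (ConcreteCategory.congr_hom (congrArg (fun φ => Scheme.Modules.Hom.app φ U.1)
        (Lef23.idealIncl_ι hle)) c₀).trans hc₀
    rw [← hc]
    refine (Scheme.Modules.Hom.app_smul (cokernel.π (Lef23.idealIncl hle)) a c).symm.trans ?_
    rw [← he]
    exact ConcreteCategory.congr_hom (congrArg (fun φ => Scheme.Modules.Hom.app φ U.1)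
      (cokernel.condition (Lef23.idealIncl hle))) c₀

theorem prodKer_cons {T P : Scheme.{u}} [IsAffine T] (p : T ⟶ P) (l : List (T ⟶ P)) (U : P.affineOpens) :
    (prodKer (p :: l)).ideal U = p.ker.ideal U * (prodKer l).ideal U :=
  congrFun (Scheme.IdealSheafData.ideal_mul (I := p.ker) (J := prodKer l)) U

theorem prodKer_append_le {T P : Scheme.{u}} [IsAffine T] (a b : List (T ⟶ P)) (U : P.affineOpens) :
    (prodKer (a ++ b)).ideal U ≤ (prodKer a).ideal U ∧ (prodKer (a ++ b)).ideal U ≤ (prodKer b).ideal U := by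
  induction a with
  | nil => exact ⟨le_top, le_rfl⟩
  | cons p a ih =>
    rw [List.cons_append, prodKer_cons, prodKer_cons p a]
    exact ⟨Ideal.mul_mono_right ih.1, (Ideal.mul_le.2 fun r _ s hs => Ideal.mul_mem_left _ r hs).trans ih.2⟩

theorem prodKer_replicate {T P : Scheme.{u}} [IsAffine T] (p : T ⟶ P) (n : ℕ) (U : P.affineOpens) :
    (prodKer (List.replicate n p)).ideal U ≤ p.ker.ideal U ^ n := by
  induction n with
  | zero => rw [pow_zero, Ideal.one_eq_top]; exact le_top
  | succ n ih => rw [List.replicate_succ, pow_succ', prodKer_cons]; exact Ideal.mul_mono_right ih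

theorem prodKer_flatMap_le {T P : Scheme.{u}} [IsAffine T] {β : Type*} (f : β → List (T ⟶ P)) (l : List β)
    (b : β) (hb : b ∈ l) (U : P.affineOpens) : (prodKer (l.flatMap f)).ideal U ≤ (prodKer (f b)).ideal U := by
  induction l with
  | nil => simp at hb
  | cons c l ih =>
    rw [List.flatMap_cons]
    rcases List.mem_cons.1 hb with rfl | hb
    · exact (prodKer_append_le _ _ U).1
    · exact (prodKer_append_le _ _ U).2.trans (ih hb)

end Groth.Agent.CAlgH3.FatPoints

end
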