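import Mathlib

/-!
Maps to finite flat algebras which are bijective on fibres.
-/

set_option autoImplicit false
set_option linter.style.haveILetI false

universe u

open scoped TensorProduct
open IsLocalRing

namespace Groth.Agent.CAlgH3.FibreBijective

variable {R : Type u} [CommRing R]

theorem subsingleton_of_fibres (N : Type u) [AddCommGroup N] [Module R N] [Module.Finite R N]
    (h : ∀ (m : Ideal R) [m.IsMaximal], Subsingleton (m.ResidueField ⊗[R] N)) : Subsingleton N := by
  rw [← Module.support_eq_empty_iff (R := R)]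
  refine Set.eq_empty_iff_forall_notMem.2 fun p hp => ?_
  obtain ⟨m, hm, hle⟩ := p.asIdeal.exists_le_maximal p.isPrime.ne_top
  have hq := Module.mem_support_mono (show p ≤ ⟨m, hm.isPrime⟩ from hle) hp
  haveI := (Module.mem_support_iff_nontrivial_residueField_tensorProduct (R := R) (M := N) ⟨m, hm.isPrime⟩).1 hq
  exact not_subsingleton _ (h m)

theorem tmul_eq_zero_iff (m : Ideal R) [m.IsMaximal] {X : Type u} [AddCommGroup X] [Module R X] (x : X) :
    (1 : m.ResidueField) ⊗ₜ[R] x = 0 ↔ x ∈ m • (⊤ : Submodule R X) := by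
  let e0 : (R ⧸ m) ≃ₗ[R] m.ResidueField :=
    LinearEquiv.ofBijective (IsScalarTower.toAlgHom R (R ⧸ m) m.ResidueField).toLinearMap
      m.bijective_algebraMap_quotient_residueField
  let e : m.ResidueField ⊗[R] X ≃ₗ[R] X ⧸ m • (⊤ : Submodule R X) :=
    (TensorProduct.congr e0.symm (LinearEquiv.refl R X)).trans (TensorProduct.quotTensorEquivQuotSMul X m)
  have h1 : e0.symm (1 : m.ResidueField) = Ideal.Quotient.mk m 1 := by
    rw [LinearEquiv.symm_apply_eq]; exact (map_one (algebraMap (R ⧸ m) m.ResidueField)).symm
  have he : e ((1 : m.ResidueField) ⊗ₜ[R] x) = Submodule.Quotient.mk x := by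
    show TensorProduct.quotTensorEquivQuotSMul X m (e0.symm 1 ⊗ₜ[R] x) = _
    rw [h1, TensorProduct.quotTensorEquivQuotSMul_mk_tmul, one_smul]
  rw [← e.map_eq_zero_iff, he, Submodule.Quotient.mk_eq_zero]

/-- A surjection onto a finite flat module which is injective on closed fibres is injective. -/
theorem injective_of_fibres {N A : Type u} [AddCommGroup N] [Module R N] [Module.Finite R N] [AddCommGroup A]
    [Module R A] [Module.Finite R A] [Module.Flat R A] (g : N →ₗ[R] A) (hg : Function.Surjective g)
    (h : ∀ (m : Ideal R) [m.IsMaximal], Function.Injective (g.lTensor m.ResidueField)) : Function.Injective g := by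
  have hq : ∀ (m : Ideal R) [m.IsMaximal] (z : N), g z ∈ m • (⊤ : Submodule R A) → z ∈ m • (⊤ : Submodule R N) :=
    fun m _ z hz => by
    rw [← tmul_eq_zero_iff] at hz ⊢
    exact h m (by rw [LinearMap.lTensor_tmul, hz, map_zero])
  refine (injective_iff_map_eq_zero g).2 fun z hz => ?_
  refine Module.eq_zero_of_localization_maximal (fun (m : Ideal R) _ => LocalizedModule m.primeCompl N)
    (fun (m : Ideal R) _ => LocalizedModule.mkLinearMap m.primeCompl N) z fun m hm => ?_
  let Rm := Localization.AtPrime m
  let N' := LocalizedModule m.primeCompl N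
  let A' := LocalizedModule m.primeCompl A
  let g' : N' →ₗ[Rm] A' := LocalizedModule.map m.primeCompl g
  have hg' : Function.Surjective g' := LocalizedModule.map_surjective m.primeCompl g hg
  haveI : Module.Flat Rm A' := by
    exact Module.Flat.of_isLocalizedModule Rm m.primeCompl (LocalizedModule.mkLinearMap m.primeCompl A)
  haveI : Module.Finite Rm A' := Module.Finite.of_isLocalizedModule m.primeCompl (LocalizedModule.mkLinearMap m.primeCompl A)
  haveI : Module.Finite Rm N' := Module.Finite.of_isLocalizedModule m.primeCompl (LocalizedModule.mkLinearMap m.primeCompl N)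
  haveI : Module.Free Rm A' := Module.free_of_flat_of_isLocalRing
  obtain ⟨s, hs⟩ := Module.projective_lifting_property g' LinearMap.id hg'
  let π : N' →ₗ[Rm] N' := LinearMap.id - s ∘ₗ g'
  have hπ : ∀ y, g' y = 0 → π y = y := fun y hy => by simp [π, hy]
  have hker : LinearMap.ker g' = LinearMap.range π := by
    ext y
    refine ⟨fun hy => ⟨y, hπ y hy⟩, ?_⟩
    rintro ⟨w, rfl⟩
    rw [LinearMap.mem_ker]
    simp only [π, LinearMap.sub_apply, LinearMap.id_apply, LinearMap.comp_apply, map_sub]
    rw [show g' (s (g' w)) = g' w from LinearMap.congr_fun hs (g' w), sub_self]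
  have hsub : LinearMap.ker g' ≤ maximalIdeal Rm • (⊤ : Submodule Rm N') := by
    intro y hy
    induction y using LocalizedModule.induction_on with
    | h w t =>
      rw [LinearMap.mem_ker, LocalizedModule.map_mk, ← LocalizedModule.zero_mk (1 : m.primeCompl),
        LocalizedModule.mk_eq] at hy
      obtain ⟨c, hc⟩ := hy
      rw [one_smul, smul_zero, smul_zero, Submonoid.smul_def, ← map_smul] at hc
      have hmem : (c : R) • w ∈ m • (⊤ : Submodule R N) := hq m _ (by rw [hc]; exact zero_mem _)
      have key : ∀ v ∈ m • (⊤ : Submodule R N), ∀ t : m.primeCompl,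
          LocalizedModule.mk v t ∈ maximalIdeal Rm • (⊤ : Submodule Rm N') := by
        intro v hv
        refine Submodule.smul_induction_on hv (fun r hr x _ => ?_) (fun a b ha hb => ?_)
        · intro t
          rw [← LocalizedModule.smul'_mk, ← algebraMap_smul Rm r]
          exact Submodule.smul_mem_smul (by
            rw [← Localization.AtPrime.map_eq_maximalIdeal]; exact Ideal.mem_map_of_mem _ hr) trivial
        · intro t
          have hab : LocalizedModule.mk (a + b) t = LocalizedModule.mk a t + LocalizedModule.mk b t := by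
            rw [LocalizedModule.mk_add_mk, LocalizedModule.mk_eq]
            exact ⟨1, by simp [Submonoid.smul_def, smul_add, smul_smul]⟩
          rw [hab]
          exact add_mem (ha t) (hb t)
      have h2 := key _ hmem (c * t)
      rwa [show LocalizedModule.mk ((c : R) • w) (c * t) = LocalizedModule.mk w t from
        LocalizedModule.mk_cancel_common_left c t w] at h2
  have hbot : LinearMap.ker g' = ⊥ := by
    refine Submodule.eq_bot_of_le_smul_of_le_jacobson_bot (maximalIdeal Rm) _ ?_ ?_
      (IsLocalRing.maximalIdeal_le_jacobson _)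
    · rw [hker, LinearMap.range_eq_map]; exact (Module.finite_def.1 inferInstance).map π
    · intro y hy
      rw [← hπ y hy, hker, LinearMap.range_eq_map, ← Submodule.map_smul'']
      exact Submodule.mem_map_of_mem (hsub hy)
  have : LocalizedModule.mk z (1 : m.primeCompl) ∈ LinearMap.ker g' := by
    rw [LinearMap.mem_ker, LocalizedModule.map_mk, hz, LocalizedModule.zero_mk]
  rw [hbot, Submodule.mem_bot] at this
  exact this

variable {A B : Type u} [CommRing A] [CommRing B] [Algebra R A] [Algebra R B] [Module.Finite R A]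
  [Module.Flat R A]

theorem surjective_of_fibres (f : B →ₐ[R] A)
    (hmax : ∀ (m : Ideal R) [m.IsMaximal], Function.Bijective (f.toLinearMap.lTensor m.ResidueField)) :
    Function.Surjective f := by
  let q := (LinearMap.range f.toLinearMap).mkQ
  have : Subsingleton (A ⧸ LinearMap.range f.toLinearMap) := subsingleton_of_fibres _ fun m _ => by
    refine subsingleton_of_forall_eq 0 fun x => ?_
    obtain ⟨y, rfl⟩ := LinearMap.lTensor_surjective m.ResidueField (Submodule.mkQ_surjective _) x
    obtain ⟨w, rfl⟩ := (hmax m).2 y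
    rw [← LinearMap.lTensor_comp_apply, LinearMap.range_mkQ_comp, LinearMap.lTensor_zero, LinearMap.zero_apply]
  intro a
  exact (Submodule.Quotient.mk_eq_zero _).1 (Subsingleton.elim (q a) 0)

/-- The kernel is finitely generated. -/
theorem fg_ker [Algebra.FiniteType R B] (f : B →ₐ[R] A) (hf : Function.Surjective f)
    (hmax : ∀ (m : Ideal R) [m.IsMaximal], Function.Bijective (f.toLinearMap.lTensor m.ResidueField)) :
    (RingHom.ker f).FG := by
  classical
  obtain ⟨G, hG⟩ := Module.finite_def.1 (inferInstance : Module.Finite R A)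
  obtain ⟨X, hX⟩ := (inferInstance : Algebra.FiniteType R B).out
  choose b hb using hf
  let P : Submodule R B := Submodule.span R (insert (1 : B) (b '' (G : Set A)))
  have hsurjP : ∀ a, ∃ y ∈ P, f y = a := fun a => by
    have ha : a ∈ Submodule.span R (G : Set A) := hG ▸ Submodule.mem_top
    induction ha using Submodule.span_induction with
    | mem x hx => exact ⟨b x, Submodule.subset_span (Set.mem_insert_of_mem _ ⟨x, hx, rfl⟩), hb x⟩
    | zero => exact ⟨0, zero_mem _, map_zero f⟩
    | add x y _ _ hx hy =>
      obtain ⟨x', hx', rfl⟩ := hx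
      obtain ⟨y', hy', rfl⟩ := hy
      exact ⟨x' + y', add_mem hx' hy', map_add f x' y'⟩
    | smul c x _ hx =>
      obtain ⟨x', hx', rfl⟩ := hx
      exact ⟨c • x', Submodule.smul_mem _ c hx', map_smul f c x'⟩
  choose l hl hfl using hsurjP
  let S : Finset B := insert (1 : B) (G.image b)
  let E : Finset B := (X ×ˢ S).image fun q => q.1 * q.2 - l (f (q.1 * q.2))
  let J : Ideal B := Ideal.span (E : Set B)
  have hJ : J ≤ RingHom.ker f := Ideal.span_le.2 fun z hz => by
    obtain ⟨q, -, rfl⟩ := Finset.mem_image.1 hz
    rw [SetLike.mem_coe, RingHom.mem_ker, map_sub, hfl, sub_self]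
  let Φ : B →ₗ[R] B ⧸ J := (Ideal.Quotient.mkₐ R J).toLinearMap
  have hS : (S : Set B) = insert (1 : B) (b '' (G : Set A)) := by simp [S]
  have hstab : ∀ x ∈ X, ∀ y ∈ P.map Φ, Ideal.Quotient.mk J x * y ∈ P.map Φ := by
    rintro x hx _ ⟨y, hy, rfl⟩
    induction hy using Submodule.span_induction with
    | mem y hy =>
      refine ⟨l (f (x * y)), hl _, Eq.symm ?_⟩
      show Ideal.Quotient.mk J x * Ideal.Quotient.mk J y = Ideal.Quotient.mk J (l (f (x * y)))
      rw [← map_mul, Ideal.Quotient.eq]
      exact Ideal.subset_span (Finset.mem_image.2 ⟨(x, y), Finset.mem_product.2 ⟨hx, by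
        rw [← Finset.mem_coe, hS]; exact hy⟩, rfl⟩)
    | zero => rw [map_zero, mul_zero]; exact zero_mem _
    | add u v _ _ hu hv => rw [map_add, mul_add]; exact add_mem hu hv
    | smul c u _ hu => rw [map_smul, mul_smul_comm]; exact Submodule.smul_mem _ c hu
  have htop : P.map Φ = ⊤ := by
    refine eq_top_iff.2 fun z _ => ?_
    obtain ⟨w, rfl⟩ := Ideal.Quotient.mk_surjective z
    have key : ∀ w ∈ Algebra.adjoin R (X : Set B), ∀ y ∈ P.map Φ, Ideal.Quotient.mk J w * y ∈ P.map Φ := by
      intro w hw
      induction hw using Algebra.adjoin_induction with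
      | mem x hx => exact hstab x hx
      | algebraMap c =>
        intro y hy
        rw [show Ideal.Quotient.mk J (algebraMap R B c) = algebraMap R (B ⧸ J) c from rfl, ← Algebra.smul_def]
        exact Submodule.smul_mem _ c hy
      | add u v _ _ hu hv => intro y hy; rw [map_add, add_mul]; exact add_mem (hu y hy) (hv y hy)
      | mul u v _ _ hu hv => intro y hy; rw [map_mul, mul_assoc]; exact hu _ (hv y hy)
    have h1 : Φ 1 ∈ P.map Φ := Submodule.mem_map_of_mem (Submodule.subset_span (Set.mem_insert _ _))
    have h2 := key w (hX ▸ Algebra.mem_top) _ h1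
    rwa [show Φ 1 = (1 : B ⧸ J) from map_one (Ideal.Quotient.mk J), mul_one] at h2
  haveI : Module.Finite R (B ⧸ J) := Module.finite_def.2 (htop ▸ (Submodule.fg_span
    ((G.finite_toSet.image b).insert 1)).map Φ)
  let g : (B ⧸ J) →ₐ[R] A := Ideal.Quotient.liftₐ J f fun z hz => hJ hz
  have hgi : Function.Injective g.toLinearMap := by
    refine injective_of_fibres g.toLinearMap (fun a => ⟨Ideal.Quotient.mk J (b a), hb a⟩) fun m _ => ?_
    have hcomp : g.toLinearMap ∘ₗ Φ = f.toLinearMap := LinearMap.ext fun z => rfl
    have hb' := (hmax m).1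
    rw [← hcomp, LinearMap.lTensor_comp] at hb'
    intro u v huv
    obtain ⟨u', rfl⟩ := LinearMap.lTensor_surjective m.ResidueField
      (show Function.Surjective Φ from Ideal.Quotient.mk_surjective) u
    obtain ⟨v', rfl⟩ := LinearMap.lTensor_surjective m.ResidueField
      (show Function.Surjective Φ from Ideal.Quotient.mk_surjective) v
    exact congrArg _ (hb' huv)
  refine ⟨E, le_antisymm hJ fun z hz => ?_⟩
  exact Ideal.Quotient.eq_zero_iff_mem.1 (hgi (show g (Ideal.Quotient.mk J z) = g 0 by
    rw [map_zero]; exact RingHom.mem_ker.1 hz))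

/-- A map to a finite flat algebra which is bijective on closed fibres and rank preserving is bijective. -/
theorem bijective_of_fibres [Algebra.FiniteType R B] (f : B →ₐ[R] A)
    (hrank : ∀ p : PrimeSpectrum R,
      Module.rank p.asIdeal.ResidueField (p.asIdeal.ResidueField ⊗[R] B) =
        Module.rank p.asIdeal.ResidueField (p.asIdeal.ResidueField ⊗[R] A))
    (hmax : ∀ (m : Ideal R) [m.IsMaximal], Function.Bijective (LinearMap.lTensor m.ResidueField f.toLinearMap)) :
    Function.Bijective f := by
  have hf := surjective_of_fibres f hmax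
  refine ⟨?_, hf⟩
  let J : Submodule B B := RingHom.ker f
  haveI : Module.Finite B J := Module.Finite.iff_fg.2 (fg_ker f hf hmax)
  have hsub : Subsingleton J := by
    rw [← Module.support_eq_empty_iff (R := B)]
    refine Set.eq_empty_iff_forall_notMem.2 fun Q hQ => ?_
    haveI := (Module.mem_support_iff_nontrivial_residueField_tensorProduct (R := B) (M := J) Q).1 hQ
    let p : PrimeSpectrum R := PrimeSpectrum.comap (algebraMap R B) Q
    let K := p.asIdeal.ResidueField
    have h0 : Subsingleton (K ⊗[R] J) := by
      let jl : J →ₗ[R] B := (J.subtype).restrictScalars R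
      have hinj := LinearMap.lTensor_injective_of_exact_of_flat f.toLinearMap hf jl Subtype.coe_injective
        (fun x => ⟨fun hx => ⟨⟨x, hx⟩, rfl⟩, fun ⟨y, hy⟩ => hy ▸ y.2⟩) K
      let F : K ⊗[R] B →ₗ[K] K ⊗[R] A := f.toLinearMap.baseChange K
      have hFs : Function.Surjective F := LinearMap.lTensor_surjective K hf
      haveI : Module.Finite K (K ⊗[R] B) := by
        rw [← Module.rank_lt_aleph0_iff, hrank p]
        exact Module.rank_lt_aleph0 K _
      have hr : Module.finrank K (K ⊗[R] B) = Module.finrank K (K ⊗[R] A) := congrArg Cardinal.toNat (hrank p)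
      have hFi : Function.Injective F := (LinearMap.injective_iff_surjective_of_finrank_eq_finrank hr).2 hFs
      refine subsingleton_of_forall_eq 0 fun x => hinj ?_
      rw [map_zero]
      refine hFi ?_
      rw [map_zero]
      have hz : f.toLinearMap ∘ₗ jl = 0 := LinearMap.ext fun y => y.2
      show f.toLinearMap.lTensor K (jl.lTensor K x) = 0
      rw [← LinearMap.lTensor_comp_apply, hz, LinearMap.lTensor_zero, LinearMap.zero_apply]
    let φ : K →ₗ[R] Q.asIdeal.ResidueField :=
      (Ideal.ResidueField.mapₐ p.asIdeal Q.asIdeal (Algebra.ofId R B) rfl).toLinearMap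
    let Ψ : K ⊗[R] J →ₗ[R] Q.asIdeal.ResidueField ⊗[B] J :=
      (TensorProduct.mapOfCompatibleSMul B R R Q.asIdeal.ResidueField J) ∘ₗ φ.rTensor J
    refine not_subsingleton (Q.asIdeal.ResidueField ⊗[B] J) (subsingleton_of_forall_eq 0 fun x => ?_)
    induction x using TensorProduct.induction_on with
    | zero => rfl
    | tmul c y =>
      have h1 : Ψ ((1 : K) ⊗ₜ[R] y) = (1 : Q.asIdeal.ResidueField) ⊗ₜ[B] y := by
        simp [Ψ, φ]
      rw [Subsingleton.elim ((1 : K) ⊗ₜ[R] y) 0, map_zero] at h1
      rw [show c ⊗ₜ[B] y = c • ((1 : Q.asIdeal.ResidueField) ⊗ₜ[B] y) by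
        rw [TensorProduct.smul_tmul', smul_eq_mul, mul_one], ← h1, smul_zero]
    | add a b ha hb => rw [ha, hb, add_zero]
  refine (injective_iff_map_eq_zero f).2 fun z hz => ?_
  exact congrArg Subtype.val (Subsingleton.elim (⟨z, hz⟩ : J) 0)

end Groth.Agent.CAlgH3.FibreBijective
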