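import Groth.Agent.LocCoh.Finiteness
import Mathlib.LinearAlgebra.FreeModule.PID
import Mathlib.RingTheory.Ideal.AssociatedPrime.Finiteness

/-! Finiteness of the first local cohomology via associated primes. -/

set_option autoImplicit false
universe u

namespace Groth.Agent.CAlgH3.FiniteHOne

open Groth.Agent.LocCoh

variable {A : Type u} [CommRing A] [IsNoetherianRing A] (I : Ideal A)

/-- The first local cohomology is finite. -/
def Good (M : Type u) [AddCommGroup M] [Module A M] : Prop :=
  Module.Finite A (_root_.LocCoh.H I 1 M)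

theorem finite_of_exact {X Y Z : Type u} [AddCommGroup X] [Module A X] [AddCommGroup Y] [Module A Y]
    [AddCommGroup Z] [Module A Z] [Module.Finite A X] [Module.Finite A Z] (f : X →ₗ[A] Y) (g : Y →ₗ[A] Z)
    (h : Function.Exact f g) : Module.Finite A Y :=
  haveI := isNoetherian_of_range_eq_ker f g (LinearMap.exact_iff.1 h).symm
  inferInstance

theorem good_of_injective {M N : Type u} [AddCommGroup M] [Module A M] [Module.Finite A M]
    [AddCommGroup N] [Module A N] (f : N →ₗ[A] M) (hf : Function.Injective f) (hM : Good I M) : Good I N := by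
  have hex := LinearMap.exact_map_mkQ_range f
  haveI : Module.Finite A (powTorsion I (M ⧸ LinearMap.range f)) :=
    Module.Finite.iff_fg.2 (IsNoetherian.noetherian _)
  haveI : Module.Finite A (_root_.LocCoh.H I 0 (M ⧸ LinearMap.range f)) := Module.Finite.equiv (H0Equiv I _).symm
  haveI : Module.Finite A (_root_.LocCoh.H I 1 M) := hM
  exact finite_of_exact _ _ (connecting_Hmap_exact (I := I) hf (Submodule.mkQ_surjective _) hex 0)

theorem good_of_exact {M N Q : Type u} [AddCommGroup M] [Module A M] [AddCommGroup N] [Module A N]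
    [AddCommGroup Q] [Module A Q] (f : N →ₗ[A] M) (g : M →ₗ[A] Q) (hf : Function.Injective f)
    (hg : Function.Surjective g) (h : Function.Exact f g) (hN : Good I N) (hQ : Good I Q) : Good I M := by
  haveI : Module.Finite A (_root_.LocCoh.H I 1 N) := hN
  haveI : Module.Finite A (_root_.LocCoh.H I 1 Q) := hQ
  exact finite_of_exact _ _ (Hmap_exact (I := I) hf hg h 1)

theorem good_of_subsingleton (M : Type u) [AddCommGroup M] [Module A M] [Subsingleton M] : Good I M := by
  haveI : Subsingleton (_root_.LocCoh.H I 1 M) := subsingleton_H_of_subsingleton 1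
  exact Module.Finite.of_finite

theorem good_fin (M : Type u) [AddCommGroup M] [Module A M] (hM : Good I M) : ∀ n : ℕ, Good I (Fin n → M) := by
  intro n
  induction n with
  | zero => exact good_of_subsingleton I _
  | succ n ih =>
    refine good_of_exact I (LinearMap.single A (fun _ : Fin (n + 1) => M) 0) (LinearMap.funLeft A M Fin.succ)
      (fun a b h => by simpa using congrFun h 0) (LinearMap.funLeft_surjective_of_injective A M _ (Fin.succ_injective _)) ?_ hM ih
    intro v
    constructor
    · intro hv
      refine ⟨v 0, funext fun j => ?_⟩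
      cases j using Fin.cases with
      | zero => simp
      | succ j => simpa [Fin.succ_ne_zero] using (congrFun hv j).symm
    · rintro ⟨m, rfl⟩
      exact funext fun j => by simp [Fin.succ_ne_zero, LinearMap.funLeft_apply]

theorem good_pi {M : Type u} [AddCommGroup M] [Module A M] (hM : Good I M) (ι : Type*) [Finite ι]
    {N : Type u} [AddCommGroup N] [Module A N] [Module.Finite A M] (f : N →ₗ[A] (ι → M))
    (hf : Function.Injective f) : Good I N := by
  obtain ⟨n, ⟨e⟩⟩ := Finite.exists_equiv_fin ι
  exact good_of_injective I ((LinearEquiv.funCongrLeft A M e.symm).toLinearMap.comp f)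
    ((LinearEquiv.funCongrLeft A M e.symm).injective.comp hf) (good_fin I M hM n)

theorem exists_injective_pi {B : Type u} [CommRing B] [IsDomain B] (M : Type u) [AddCommGroup M] [Module B M]
    [Module.IsTorsionFree B M] [Module.Finite B M] :
    ∃ (n : ℕ) (f : M →ₗ[B] (Fin n → B)), Function.Injective f := by
  classical
  obtain ⟨N, s, hs⟩ := Module.Finite.exists_fin (R := B) (M := M)
  obtain ⟨J, indep, hJ⟩ := exists_maximal_linearIndepOn B s
  let S := Submodule.span B (Set.range (fun x : J => s x))
  have ha : ∀ i, ∃ a : B, a ≠ 0 ∧ a • s i ∈ S := by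
    intro i
    by_cases hi : i ∈ J
    · exact ⟨1, one_ne_zero, by rw [one_smul]; exact Submodule.subset_span ⟨⟨i, hi⟩, rfl⟩⟩
    · obtain ⟨a, ha, ha'⟩ := hJ i hi
      exact ⟨a, ha, by rwa [Set.image_eq_range] at ha'⟩
  choose a ha ha' using ha
  let c := ∏ i, a i
  have hc : c ≠ 0 := Finset.prod_ne_zero_iff.2 fun i _ => ha i
  have hle : ∀ m : M, LinearMap.lsmul B M c m ∈ S := fun m => by
    have hm : m ∈ Submodule.span B (Set.range s) := by rw [hs]; trivial
    induction hm using Submodule.span_induction with
    | mem x hx =>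
      obtain ⟨i, rfl⟩ := hx
      change (∏ j, a j) • s i ∈ S
      rw [Fintype.prod_eq_prod_compl_mul i, mul_smul]
      exact S.smul_mem _ (ha' i)
    | zero => simp
    | add x y _ _ hx hy => rw [map_add]; exact S.add_mem hx hy
    | smul r x _ hx => rw [map_smul]; exact S.smul_mem r hx
  let b : Module.Basis J B S := Module.Basis.span indep
  let φ : M →ₗ[B] S := LinearMap.codRestrict S (LinearMap.lsmul B M c) hle
  refine ⟨Fintype.card J, ((b.reindex (Fintype.equivFin J)).equivFun.toLinearMap).comp φ,
    ?_⟩
  intro x y hxy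
  replace hxy : φ x = φ y := (b.reindex (Fintype.equivFin J)).equivFun.injective hxy
  exact LinearMap.ker_eq_bot.1 (LinearMap.ker_lsmul (R := B) (M := M) hc) (congrArg Subtype.val hxy)

theorem good_prime (p : Ideal A) [p.IsPrime] (hp : Good I (A ⧸ p)) (M : Type u) [AddCommGroup M] [Module A M]
    [Module.Finite A M] (hass : associatedPrimes A M ⊆ {p}) (hkill : ∀ g ∈ p, ∀ x : M, g • x = 0) : Good I M := by
  have htor : Module.IsTorsionBySet A M p := fun x g => hkill g g.2 x
  letI : Module (A ⧸ p) M := htor.module
  haveI : IsScalarTower A (A ⧸ p) M := htor.isScalarTower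
  haveI : Module.Finite (A ⧸ p) M := Module.Finite.of_restrictScalars_finite A _ M
  haveI : Module.IsTorsionFree (A ⧸ p) M := by
    refine ⟨fun r hr => ?_⟩
    obtain ⟨r, rfl⟩ := Ideal.Quotient.mk_surjective r
    rw [isSMulRegular_iff_right_eq_zero_of_smul]
    intro m hm
    rw [← Ideal.Quotient.algebraMap_eq, algebraMap_smul] at hm
    by_contra hm0
    have hmem : r ∈ ⋃ q ∈ associatedPrimes A M, (q : Set A) := by
      rw [biUnion_associatedPrimes_eq_zero_divisors]; exact ⟨m, hm0, hm⟩
    obtain ⟨q, hq, hrq⟩ := Set.mem_iUnion₂.1 hmem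
    rw [Set.mem_singleton_iff.1 (hass hq)] at hrq
    exact hr.ne_zero (Ideal.Quotient.eq_zero_iff_mem.2 hrq)
  obtain ⟨n, f, hf⟩ := exists_injective_pi (B := A ⧸ p) M
  exact good_pi I hp (Fin n) (f.restrictScalars A) hf

theorem good_primary (p : Ideal A) [p.IsPrime] (hp : Good I (A ⧸ p)) : ∀ (k : ℕ) (M : Type u) [AddCommGroup M]
    [Module A M] [Module.Finite A M], associatedPrimes A M ⊆ {p} → (∀ g ∈ p ^ k, ∀ x : M, g • x = 0) → Good I M := by
  intro k
  induction k with
  | zero =>
    intro M _ _ _ _ hk
    haveI : Subsingleton M := subsingleton_of_forall_eq 0 fun x => by simpa using hk 1 (by simp) x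
    exact good_of_subsingleton I M
  | succ k ih =>
    intro M _ _ _ hass hk
    obtain ⟨s, hs⟩ := IsNoetherian.noetherian p
    let f : M →ₗ[A] (s → M) := LinearMap.pi fun g => LinearMap.lsmul A M g.1
    have hker : ∀ g ∈ p, ∀ x : LinearMap.ker f, g • x = 0 := by
      intro g hg x
      apply Subtype.ext
      rw [← hs] at hg
      induction hg using Submodule.span_induction with
      | mem y hy => exact congrFun (LinearMap.mem_ker.1 x.2) ⟨y, hy⟩
      | zero => simp
      | add y z _ _ hy hz => simpa [add_smul] using congrArg₂ (· + ·) hy hz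
      | smul r y _ hy => simpa [mul_smul] using congrArg (r • ·) hy
    have hrng : ∀ g ∈ p ^ k, ∀ x : LinearMap.range f, g • x = 0 := by
      rintro g hg ⟨_, m, rfl⟩
      refine Subtype.ext (funext fun i => ?_)
      change g • ((i : A) • m) = 0
      rw [smul_smul]
      refine hk _ ?_ m
      rw [pow_succ]
      exact Ideal.mul_mem_mul hg (hs ▸ Submodule.subset_span i.2)
    have hassR : associatedPrimes A (LinearMap.range f) ⊆ {p} := by
      intro q hq
      obtain ⟨hqp, x, hx⟩ := isAssociatedPrime_iff.1 hq
      haveI := hqp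
      have hx0 : (x : s → M) ≠ 0 := fun e => hqp.ne_top (by
        have e' : x = 0 := Subtype.ext e
        rw [hx, e']; ext; simp [Submodule.mem_colon_singleton])
      obtain ⟨i, hi⟩ := Function.ne_iff.1 hx0
      obtain ⟨q', hq', hle⟩ := exists_le_isAssociatedPrime_of_isNoetherianRing A _ hi
      have hqp' : p = q' := (Set.mem_singleton_iff.1 (hass hq')).symm
      refine Set.mem_singleton_iff.2 (le_antisymm (fun g hg => ?_) (fun g hg => ?_))
      · rw [hx, Submodule.mem_colon_singleton, Submodule.mem_bot] at hg
        refine hqp' ▸ hle ?_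
        rw [Submodule.mem_colon_singleton, Submodule.mem_bot]
        exact congrFun (congrArg Subtype.val hg) i
      · refine hqp.mem_of_pow_mem k ?_
        rw [hx, Submodule.mem_colon_singleton, Submodule.mem_bot]
        exact hrng _ (Ideal.pow_mem_pow hg k) x
    refine good_of_exact I (LinearMap.ker f).subtype f.rangeRestrict (Submodule.injective_subtype _)
      f.surjective_rangeRestrict (by rw [LinearMap.exact_iff, LinearMap.ker_rangeRestrict, Submodule.range_subtype])
      (good_prime I p hp _ ((associatedPrimes.subset_of_injective (Submodule.injective_subtype _)).trans hass) hker)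
      (ih _ hassR hrng)

theorem good_of_torsion (M : Type u) [AddCommGroup M] [Module A M] (h : _root_.LocCoh.IsPowerTorsion I M) : Good I M := by
  haveI := subsingleton_H_of_powerTorsion (I := I) 1 M h Nat.one_pos
  exact Module.Finite.of_finite

theorem good_aux : ∀ (n : ℕ) (M : Type u) [AddCommGroup M] [Module A M] [Module.Finite A M],
    (associatedPrimes A M).ncard ≤ n → (∀ p ∈ associatedPrimes A M, Good I (A ⧸ p)) → Good I M := by
  intro n
  induction n with
  | zero =>
    intro M _ _ _ hn _
    haveI : Subsingleton M := by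
      by_contra h
      rw [not_subsingleton_iff_nontrivial] at h
      obtain ⟨p, hp⟩ := associatedPrimes.nonempty A M
      have := (Set.ncard_eq_zero (associatedPrimes.finite A M)).1 (Nat.le_zero.1 hn)
      rw [this] at hp
      exact hp
    exact good_of_subsingleton I M
  | succ n ih =>
    intro M _ _ _ hn hgood
    rcases (associatedPrimes A M).eq_empty_or_nonempty with he | hne
    · exact ih M (by simp [he]) hgood
    obtain ⟨p, hp⟩ := (associatedPrimes.finite A M).exists_maximal hne
    have hpA := hp.1
    haveI := hpA.isPrime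
    let T := powTorsion p M
    have hT : associatedPrimes A T ⊆ {p} := by
      intro q hq
      have hqM := associatedPrimes.subset_of_injective (Submodule.injective_subtype T) hq
      obtain ⟨hqp, x, hx⟩ := isAssociatedPrime_iff.1 hq
      obtain ⟨k, hk⟩ := x.2
      have : p ≤ q := fun g hg => hqp.mem_of_pow_mem k (by
        rw [hx, Submodule.mem_colon_singleton, Submodule.mem_bot]
        exact Subtype.ext (hk _ (Ideal.pow_mem_pow hg k)))
      exact le_antisymm (hp.2 hqM this) this
    have hkill : ∃ k, ∀ g ∈ p ^ k, ∀ x : T, g • x = 0 := by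
      obtain ⟨s, hs⟩ := IsNoetherian.noetherian T
      choose k hk using fun z : T => z.2
      haveI : Module.Finite A T := Module.Finite.iff_fg.2 ⟨s, hs⟩
      obtain ⟨t, ht⟩ := Module.Finite.fg_top (R := A) (M := T)
      refine ⟨t.sup k, fun g hg x => ?_⟩
      have hx : x ∈ Submodule.span A (t : Set T) := ht ▸ trivial
      induction hx using Submodule.span_induction with
      | mem z hz => exact Subtype.ext (hk z g (Ideal.pow_le_pow_right (Finset.le_sup hz) hg))
      | zero => simp
      | add z w _ _ hz hw => rw [smul_add, hz, hw, add_zero]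
      | smul r z _ hz => rw [smul_comm, hz, smul_zero]
    obtain ⟨k, hk⟩ := hkill
    have hQ : associatedPrimes A (M ⧸ T) ⊆ associatedPrimes A M \ {p} := by
      intro q hq
      obtain ⟨hqp, y, hy⟩ := isAssociatedPrime_iff.1 hq
      obtain ⟨x, rfl⟩ := Submodule.Quotient.mk_surjective T y
      have hle : ¬ p ≤ q := fun h => by
        have hbot : (Submodule.Quotient.mk x : M ⧸ T) ∈ powTorsion p (M ⧸ T) :=
          ⟨1, fun g hg => by
            have := h (by simpa using hg)
            rw [hy, Submodule.mem_colon_singleton, Submodule.mem_bot] at this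
            exact this⟩
        rw [powTorsion_quotient_eq_bot (J := p) M, Submodule.mem_bot] at hbot
        exact hqp.ne_top (by rw [hy]; ext; simp [Submodule.mem_colon_singleton, hbot])
      refine ⟨?_, fun h => hle (Set.mem_singleton_iff.1 h).ge⟩
      obtain ⟨a, hap, haq⟩ := SetLike.not_le_iff_exists.1 hle
      obtain ⟨t, ht⟩ := IsNoetherian.noetherian q
      have hj : ∀ g : A, g ∈ q → g • x ∈ T := fun g hg => by
        rw [hy, Submodule.mem_colon_singleton, Submodule.mem_bot, ← Submodule.Quotient.mk_smul,
          Submodule.Quotient.mk_eq_zero] at hg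
        exact hg
      refine isAssociatedPrime_iff.2 ⟨hqp, a ^ k • x, ?_⟩
      ext g
      rw [Submodule.mem_colon_singleton, Submodule.mem_bot]
      constructor
      · intro hg
        rw [smul_comm]
        exact congrArg Subtype.val (hk _ (Ideal.pow_mem_pow hap k) ⟨g • x, hj g hg⟩)
      · intro hg
        have : g * a ^ k ∈ q := by
          rw [hy, Submodule.mem_colon_singleton, Submodule.mem_bot, mul_smul, ← Submodule.Quotient.mk_smul,
            ← Submodule.Quotient.mk_smul, hg, Submodule.Quotient.mk_zero]
        exact (hqp.mem_or_mem this).resolve_right fun h => haq (hqp.mem_of_pow_mem k h)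
    refine good_of_exact I T.subtype T.mkQ T.injective_subtype T.mkQ_surjective (LinearMap.exact_subtype_mkQ T)
      (good_primary I p (hgood p hpA) k T hT hk) (ih _ ?_ fun q hq => hgood q (hQ hq).1)
    have h1 := Set.ncard_le_ncard hQ ((associatedPrimes.finite A M).sdiff)
    rw [Set.ncard_sdiff_singleton_of_mem hpA] at h1
    omega

theorem finite_H_one_iff (M : Type u) [AddCommGroup M] [Module A M] [Module.Finite A M] :
    Module.Finite A (_root_.LocCoh.H I 1 M) ↔
      ∀ p : Ideal A, p ∈ associatedPrimes A M → ¬ I ≤ p → Module.Finite A (_root_.LocCoh.H I 1 (A ⧸ p)) := by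
  constructor
  · intro h p hp _
    obtain ⟨-, x, hx⟩ := isAssociatedPrime_iff.1 hp
    let f : (A ⧸ p) →ₗ[A] M := Submodule.liftQ p (LinearMap.toSpanSingleton A M x) (fun g hg => by
      rw [hx, Submodule.mem_colon_singleton, Submodule.mem_bot] at hg; exact hg)
    refine good_of_injective I f ((injective_iff_map_eq_zero f).2 fun y hy => ?_) h
    obtain ⟨g, rfl⟩ := Submodule.Quotient.mk_surjective p y
    rw [Submodule.Quotient.mk_eq_zero, hx, Submodule.mem_colon_singleton, Submodule.mem_bot]
    exact hy
  · intro h
    refine good_aux I _ M le_rfl fun p hp => ?_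
    by_cases hIp : I ≤ p
    · refine good_of_torsion I _ fun y => ⟨1, fun g hg => ?_⟩
      obtain ⟨z, rfl⟩ := Submodule.Quotient.mk_surjective p y
      rw [← Submodule.Quotient.mk_smul, Submodule.Quotient.mk_eq_zero]
      exact p.mul_mem_right z (hIp (by simpa using hg))
    · exact h p hp hIp

end Groth.Agent.CAlgH3.FiniteHOne
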