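import Groth.Agent.LocCoh.GorensteinSupport
import Groth.Agent.GrSectLib.DenseSubring
import Groth.Agent.Matlis6.HullExistence
import Mathlib.CategoryTheory.Abelian.Injective.Extend

/-! The minimal injective resolution of a regular ring: in degree `k` only primes of height `k`. -/

set_option autoImplicit false

universe u

open CategoryTheory CategoryTheory.Limits Abelian IsLocalRing

namespace Groth.Agent.CAlgH3.GorensteinRes

variable {R : Type u} [CommRing R]

/-- A chosen injective hull. -/
theorem exists_hull (M : ModuleCat.{u} R) : ∃ (E : ModuleCat.{u} R) (f : M ⟶ E),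
    InjHull.IsInjectiveHull f.hom := by
  obtain ⟨E, _, _, f, hf⟩ := Matlis6.exists_isInjectiveHull R M
  exact ⟨ModuleCat.of R E, ModuleCat.ofHom f, hf⟩

noncomputable def hull (M : ModuleCat.{u} R) : ModuleCat.{u} R := (exists_hull M).choose

noncomputable def hullι (M : ModuleCat.{u} R) : M ⟶ hull M := (exists_hull M).choose_spec.choose

theorem isInjectiveHull (M : ModuleCat.{u} R) : InjHull.IsInjectiveHull (hullι M).hom :=
  (exists_hull M).choose_spec.choose_spec

theorem hullι_injective (M : ModuleCat.{u} R) : Function.Injective (hullι M).hom :=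
  (isInjectiveHull M).toIsEssentialInj.injective

variable (R) in
/-- The cosyzygies. -/
noncomputable def Ω : ℕ → ModuleCat.{u} R
  | 0 => ModuleCat.of R R
  | n + 1 => ModuleCat.of R (hull (Ω n) ⧸ LinearMap.range (hullι (Ω n)).hom)

noncomputable def proj (n : ℕ) : hull (Ω R n) ⟶ Ω R (n + 1) :=
  ModuleCat.ofHom (Submodule.mkQ (LinearMap.range (hullι (Ω R n)).hom))

theorem proj_surjective (n : ℕ) : Function.Surjective (proj (R := R) n).hom :=
  Submodule.mkQ_surjective _

theorem proj_exact (n : ℕ) : Function.Exact (hullι (Ω R n)).hom (proj n).hom :=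
  LinearMap.exact_map_mkQ_range _

variable (R) in
noncomputable def cx : CochainComplex (ModuleCat.{u} R) ℕ :=
  CochainComplex.of (fun n => hull (Ω R n)) (fun n => proj n ≫ hullι (Ω R (n + 1))) fun n => by
    ext x
    exact (congrArg (hullι (Ω R (n + 2))).hom
      ((proj_exact (n + 1)).apply_apply_eq_zero _)).trans (map_zero _)

instance injective_hull (M : ModuleCat.{u} R) : Injective (hull M) :=
  (Module.injective_iff_injective_object R (hull M)).1 (isInjectiveHull M).isInjective

instance (n : ℕ) : Injective ((cx R).X n) := injective_hull _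

theorem cx_d (n : ℕ) : (cx R).d n (n + 1) = proj n ≫ hullι (Ω R (n + 1)) :=
  by simp [cx]

theorem d_exact (n : ℕ) : Function.Exact ((cx R).d n (n + 1)).hom ((cx R).d (n + 1) (n + 2)).hom := by
  rw [cx_d, cx_d]
  intro x
  constructor
  · intro hx
    have h1 : (proj (n + 1)).hom x = 0 := hullι_injective _ (hx.trans (map_zero _).symm)
    obtain ⟨w, hw⟩ := (proj_exact (n + 1) x).1 h1
    obtain ⟨v, hv⟩ := proj_surjective n w
    exact ⟨v, (congrArg _ hv).trans hw⟩
  · rintro ⟨y, rfl⟩
    exact (congrArg (hullι (Ω R (n + 2))).hom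
      ((proj_exact (n + 1)).apply_apply_eq_zero _)).trans (map_zero _)

variable (R) in
noncomputable def res : InjectiveResolution (ModuleCat.of R R) where
  cocomplex := cx R
  ι := (CochainComplex.fromSingle₀Equiv _ _).symm ⟨hullι (Ω R 0), by
    rw [cx_d]
    ext x
    exact (congrArg (hullι (Ω R 1)).hom ((proj_exact 0).apply_apply_eq_zero _)).trans (map_zero _)⟩
  quasiIso := ⟨fun n => by
    cases n
    · rw [CochainComplex.quasiIsoAt₀_iff, ShortComplex.quasiIso_iff_of_zeros]
      · have hw : hullι (Ω R 0) ≫ (cx R).d 0 1 = 0 := by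
          rw [cx_d]
          ext x
          exact (congrArg (hullι (Ω R 1)).hom ((proj_exact 0).apply_apply_eq_zero _)).trans (map_zero _)
        refine (ShortComplex.exact_and_mono_f_iff_of_iso (S₂ := ShortComplex.mk _ _ hw) ?_).2
          ⟨?_, (ModuleCat.mono_iff_injective _).2 (hullι_injective _)⟩
        · exact ShortComplex.isoMk (Iso.refl _) (Iso.refl _) (Iso.refl _)
            (by simp; exact (Category.id_comp _).trans (Category.comp_id _).symm) ((Category.id_comp _).trans (Category.comp_id _).symm)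
        · rw [ShortComplex.ShortExact.moduleCat_exact_iff_function_exact]
          have hd : ∀ x, ((cx R).d 0 1).hom x = (hullι (Ω R 1)).hom ((proj 0).hom x) := fun x => by
            rw [cx_d]; rfl
          intro x
          constructor
          · intro hx
            exact (proj_exact 0 x).1 (hullι_injective _ (((hd x).symm.trans hx).trans (map_zero _).symm))
          · rintro ⟨y, rfl⟩
            exact (hd _).trans ((congrArg (hullι (Ω R 1)).hom ((proj_exact 0).apply_apply_eq_zero _)).trans (map_zero _))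
      all_goals rfl
    · rw [quasiIsoAt_iff_exactAt]
      · rename_i m
        rw [HomologicalComplex.exactAt_iff' _ m (m + 1) (m + 1 + 1) (by simp) (by simp),
          ShortComplex.ShortExact.moduleCat_exact_iff_function_exact]
        exact d_exact m
      · apply CochainComplex.exactAt_succ_single_obj⟩

variable [IsRegularRing R]

theorem kill_ext (q : Ideal R) [q.IsPrime] {k : ℕ} (hk : q.height ≠ (k : ℕ∞))
    (x : Ext (ModuleCat.of R (R ⧸ q)) (ModuleCat.of R R) k) : ∃ s ∉ q, s • x = 0 := by
  haveI hG : _root_.LocCoh.IsGorensteinLocalRing (Localization.AtPrime q) :=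
    GrSectLib.gorenstein_of_regular _
  obtain ⟨a, ha⟩ := ENat.ne_top_iff_exists.1 (Ideal.height_ne_top (I := q) Ideal.IsPrime.ne_top')
  have hdim : ringKrullDim (Localization.AtPrime q) = a := by
    rw [IsLocalization.AtPrime.ringKrullDim_eq_height q (Localization.AtPrime q), ← ha]
    rfl
  haveI : Module.Finite (Localization.AtPrime q) (LocalizedModule q.primeCompl (R ⧸ q)) :=
    Module.Finite.of_isLocalizedModule (Rₚ := Localization.AtPrime q) q.primeCompl
      (LocalizedModule.mkLinearMap q.primeCompl (R ⧸ q))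
  refine LocCoh.exists_kill_of_subsingleton_ext_localized q.primeCompl k (R ⧸ q) R ?_ x
  rcases lt_or_ge a k with hq | hq
  · exact LocCoh.subsingleton_ext_of_dim_lt hdim k hq _
  · have hne : a ≠ k := fun h => hk (h ▸ ha.symm)
    obtain ⟨E, _, _, hE⟩ := Matlis6.exists_isHullAt (maximalIdeal (Localization.AtPrime q))
    obtain ⟨e⟩ := LocCoh.gorenstein_duality hdim hE k (a - k) (by omega)
      (LocalizedModule q.primeCompl (R ⧸ q))
    haveI : Subsingleton (_root_.LocCoh.H (maximalIdeal (Localization.AtPrime q)) (a - k)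
        (LocalizedModule q.primeCompl (R ⧸ q))) := by
      refine LocCoh.subsingleton_H_of_powerTorsion _ _ (fun z => ⟨1, fun b hb => ?_⟩) (by omega)
      rw [pow_one, ← Localization.AtPrime.map_eq_maximalIdeal] at hb
      induction hb using Submodule.span_induction with
      | mem y hy =>
        obtain ⟨r, hr, rfl⟩ := hy
        induction z using LocalizedModule.induction_on with
        | _ m t =>
          rw [IsScalarTower.algebraMap_smul, LocalizedModule.smul'_mk]
          obtain ⟨m, rfl⟩ := Submodule.Quotient.mk_surjective q m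
          rw [← Submodule.Quotient.mk_smul, (Submodule.Quotient.mk_eq_zero q (x := r • m)).2
            (Ideal.mul_mem_right m q hr), LocalizedModule.zero_mk]
      | zero => rw [zero_smul]
      | add y w _ _ hy hw => rw [add_smul, hy, hw, add_zero]
      | smul c y _ hy => rw [smul_eq_mul, mul_smul, hy, smul_zero]
    refine subsingleton_of_forall_eq 0 fun x => ?_
    by_contra hx
    obtain ⟨φ, hφ⟩ := hE.exists_apply_ne_zero_local hx
    obtain ⟨y, hy⟩ := e.surjective φ
    rw [← hy, Subsingleton.elim y 0, map_zero] at hφ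
    exact hφ rfl

/-- shifting along the resolution -/
theorem exists_injective_shift (X : ModuleCat.{u} R) : ∀ (n j m : ℕ), m = n + j + 1 →
    ∃ Φ : Ext X (Ω R n) (j + 1) →ₗ[R] Ext X (ModuleCat.of R R) m, Function.Injective Φ := by
  intro n
  induction n with
  | zero =>
    intro j m hm
    obtain rfl : m = j + 1 := by omega
    exact ⟨LinearMap.id, Function.injective_id⟩
  | succ n ih =>
    intro j m hm
    obtain ⟨Φ, hΦ⟩ := ih (j + 1) m (by omega)
    have hS : (ShortComplex.mk (hullι (Ω R n)) (proj n) (by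
        ext x; exact (proj_exact n).apply_apply_eq_zero x)).ShortExact :=
      LocCoh.shortExact_of (hullι_injective _) (proj_surjective n) (proj_exact n)
    let δ : Ext X (Ω R (n + 1)) (j + 1) →ₗ[R] Ext X (Ω R n) (j + 1 + 1) :=
      { toFun := fun x => x.comp hS.extClass rfl
        map_add' := fun x y => Ext.add_comp _ _ _ _
        map_smul' := fun r x => Ext.smul_comp _ _ _ _ }
    have hδ : Function.Injective δ := by
      refine (injective_iff_map_eq_zero δ).2 fun x hx => ?_
      obtain ⟨y, hy⟩ := Ext.covariant_sequence_exact₃ X hS x rfl hx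
      rw [Ext.eq_zero_of_injective y, Ext.zero_comp] at hy
      exact hy.symm
    exact ⟨Φ.comp δ, hΦ.comp hδ⟩

/-- associated primes in degree `k` have height `k` -/
theorem height_eq (k : ℕ) (e : hull (Ω R k)) (q : Ideal R) [q.IsPrime]
    (hq : ∀ a : R, a • e = 0 ↔ a ∈ q) : q.height = (k : ℕ∞) := by
  by_contra hne
  have he : e ≠ 0 := fun h => (Ideal.IsPrime.ne_top ‹q.IsPrime›)
    (q.eq_top_iff_one.2 ((hq 1).1 (by rw [h, smul_zero])))
  have hspan : Submodule.span R {e} ≠ ⊥ := mt Submodule.span_singleton_eq_bot.1 he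
  obtain ⟨w, hw, hw0⟩ := Submodule.exists_mem_ne_zero_of_ne_bot
    ((isInjectiveHull (Ω R k)).toIsEssentialInj.essential _ hspan)
  obtain ⟨r, rfl⟩ := Submodule.mem_span_singleton.1 hw.1
  obtain ⟨z, hz⟩ := hw.2
  have hr : r ∉ q := fun h => hw0 ((hq r).2 h)
  have hzq : ∀ a : R, a • z = 0 ↔ a ∈ q := fun a => by
    rw [← (hullι_injective (Ω R k)).eq_iff (a := a • z), map_smul, map_zero, hz, smul_smul, hq]
    exact ⟨fun h => (Ideal.IsPrime.mem_or_mem ‹_› h).resolve_right hr, fun h => q.mul_mem_right _ h⟩
  let φ : ModuleCat.of R (R ⧸ q) ⟶ Ω R k := ModuleCat.ofHom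
    (Submodule.liftQ q (LinearMap.toSpanSingleton R _ z) fun a ha => (hzq a).2 ha)
  have hφ1 : ∀ (s : R), φ.hom (Submodule.Quotient.mk s) = s • z := fun s => rfl
  rcases k with - | k
  · obtain ⟨s, hs, hsφ⟩ := kill_ext q hne (Ext.mk₀ φ)
    rw [← Ext.mk₀_smul, ← Ext.mk₀_zero] at hsφ
    have h0 := congrArg (fun g => g.hom (Submodule.Quotient.mk (p := q) (1 : R)))
      ((Ext.mk₀_bijective _ _).1 hsφ)
    refine hs ((hzq s).1 ?_)
    have h1 : s • φ.hom (Submodule.Quotient.mk (p := q) (1 : R)) = 0 := h0
    rwa [hφ1, one_smul] at h1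
  · obtain ⟨Φ, hΦ⟩ := exists_injective_shift (ModuleCat.of R (R ⧸ q)) k 0 (k + 1) rfl
    have hS : (ShortComplex.mk (hullι (Ω R k)) (proj k) (by
        ext x; exact (proj_exact k).apply_apply_eq_zero x)).ShortExact :=
      LocCoh.shortExact_of (hullι_injective _) (proj_surjective k) (proj_exact k)
    obtain ⟨s, hs, hsx⟩ := kill_ext q hne (Φ ((Ext.mk₀ φ).comp hS.extClass (zero_add 1)))
    rw [← map_smul, ← Ext.smul_comp, ← Ext.mk₀_smul, ← map_zero Φ] at hsx
    obtain ⟨y, hy⟩ := Ext.covariant_sequence_exact₃ _ hS (Ext.mk₀ (s • φ)) (zero_add 1) (hΦ hsx)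
    obtain ⟨ψ, rfl⟩ := (Ext.mk₀_bijective _ _).2 y
    rw [Ext.mk₀_comp_mk₀] at hy
    have h1 := congrArg (fun g => g.hom (Submodule.Quotient.mk (p := q) (1 : R)))
      ((Ext.mk₀_bijective _ _).1 hy)
    have h2 : (proj k).hom (ψ.hom (Submodule.Quotient.mk (p := q) (1 : R))) = s • z := by
      have h3 : (proj k).hom (ψ.hom (Submodule.Quotient.mk (p := q) (1 : R))) =
          s • φ.hom (Submodule.Quotient.mk (p := q) (1 : R)) := h1
      rwa [hφ1, one_smul] at h3
    set e₀ := ψ.hom (Submodule.Quotient.mk (p := q) (1 : R))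
    rcases eq_or_ne e₀ 0 with h0 | h0
    · rw [h0, map_zero] at h2
      exact hs ((hzq s).1 h2.symm)
    · obtain ⟨w, hw, hw0⟩ := Submodule.exists_mem_ne_zero_of_ne_bot
        ((isInjectiveHull (Ω R k)).toIsEssentialInj.essential (Submodule.span R {e₀})
          (mt Submodule.span_singleton_eq_bot.1 h0))
      obtain ⟨t, rfl⟩ := Submodule.mem_span_singleton.1 hw.1
      obtain ⟨v, hv⟩ := hw.2
      have h3 : t * s ∈ q := (hzq _).1 (by
        rw [mul_smul, ← h2, ← map_smul, ← hv, (proj_exact k).apply_apply_eq_zero v])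
      refine hw0 ?_
      have ht : t ∈ q := (Ideal.IsPrime.mem_or_mem ‹_› h3).resolve_right hs
      rw [show t • e₀ = ψ.hom (t • Submodule.Quotient.mk (p := q) (1 : R)) from (map_smul _ _ _).symm,
        ← Submodule.Quotient.mk_smul, (Submodule.Quotient.mk_eq_zero q (x := t • (1 : R))).2
          (by simpa using ht), map_zero]

end Groth.Agent.CAlgH3.GorensteinRes
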