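import Groth.Agent.CAlgH3.BidualFinite
import Groth.Agent.CAlgH3.GorensteinRes
import Groth.Agent.CAlgH3.ExtCechShift
import Groth.Agent.LocCoh.FaltingsRegular

/-! Finiteness of `H^i_I(M)` in a single degree over a regular ring. -/

set_option autoImplicit false
set_option backward.isDefEq.respectTransparency false
set_option backward.isDefEq.respectTransparency.types false

universe u

open CategoryTheory CategoryTheory.Limits CochainComplex Abelian
open Groth.Agent.CAlgH3.ExtCech Groth.Agent.CAlgH3.CechQis Groth.Agent.CAlgH3.BidualFinite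
open Groth.Agent.Misc15.Koszul (tor mem_tor)

namespace Groth.Agent.CAlgH3.FinitenessDegree

variable {R : Type u} [CommRing R]

section chase

variable {Hk Hf Hm Hk' Hf' Tb Tf Tm Tb' Tf' : Type u}
  [AddCommGroup Hk] [Module R Hk] [AddCommGroup Hf] [Module R Hf] [AddCommGroup Hm] [Module R Hm]
  [AddCommGroup Hk'] [Module R Hk'] [AddCommGroup Hf'] [Module R Hf']
  [AddCommGroup Tb] [Module R Tb] [AddCommGroup Tf] [Module R Tf] [AddCommGroup Tm] [Module R Tm]
  [AddCommGroup Tb'] [Module R Tb'] [AddCommGroup Tf'] [Module R Tf']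

theorem finite_ker_chase [IsNoetherianRing R] (a : Hk →ₗ[R] Hf) (b : Hf →ₗ[R] Hm) (c : Hm →ₗ[R] Hk')
    (ρ : Tb →ₗ[R] Tf) (σ : Tf →ₗ[R] Tm) (δ : Tm →ₗ[R] Tb') (ψ : Hk →ₗ[R] Tb) (φ : Hf →ₗ[R] Tf)
    (θ : Hm →ₗ[R] Tm) (ψ' : Hk' →ₗ[R] Tb') (hab : ∀ z, b (a z) = 0) (hbc : Function.Exact b c)
    (hρσ : Function.Exact ρ σ) (h1 : ∀ z, φ (a z) = ρ (ψ z)) (h2 : ∀ f, σ (φ f) = θ (b f))
    (h3 : ∀ x, δ (θ x) = ψ' (c x)) (hφ : Function.Bijective φ)
    (hk : Module.Finite R (LinearMap.ker ψ')) (hc : Module.Finite R (Tb ⧸ LinearMap.range ψ)) :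
    Module.Finite R (LinearMap.ker θ) := by
  let e := LinearEquiv.ofBijective φ hφ
  let Φ : Tb →ₗ[R] Hm := b.comp (e.symm.toLinearMap.comp ρ)
  have he : ∀ f, e f = φ f := fun f => rfl
  have hkill : LinearMap.range ψ ≤ LinearMap.ker Φ := by
    rintro _ ⟨z, rfl⟩
    show b (e.symm (ρ (ψ z))) = 0
    rw [← h1, ← he, LinearEquiv.symm_apply_apply, hab]
  have hΦ : Module.Finite R (LinearMap.range Φ) := by
    rw [← Submodule.range_liftQ (LinearMap.range ψ) Φ hkill]
    infer_instance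
  refine ⟨Submodule.fg_of_fg_map_of_fg_inf_ker (c.comp (LinearMap.ker θ).subtype) ?_ ?_⟩
  · have hle : Submodule.map (c.comp (LinearMap.ker θ).subtype) ⊤ ≤ LinearMap.ker ψ' := by
      rintro _ ⟨x, -, rfl⟩
      show ψ' (c x.1) = 0
      rw [← h3, show θ x.1 = 0 from x.2, map_zero]
    haveI : IsNoetherian R (LinearMap.ker ψ') := isNoetherian_of_isNoetherianRing_of_finite R _
    exact Module.Finite.iff_fg.1 (Module.Finite.of_injective (Submodule.inclusion hle) (Submodule.inclusion_injective hle))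
  · rw [top_inf_eq]
    haveI : IsNoetherian R (LinearMap.range Φ) := isNoetherian_of_isNoetherianRing_of_finite R _
    have hmem : ∀ x : LinearMap.ker (c.comp (LinearMap.ker θ).subtype), x.1.1 ∈ LinearMap.range Φ := by
      rintro ⟨⟨x, hx⟩, hcx⟩
      obtain ⟨f, rfl⟩ := (hbc x).1 hcx
      obtain ⟨y, hy⟩ := (hρσ (φ f)).1 ((h2 f).trans hx)
      exact ⟨y, show b (e.symm (ρ y)) = b f by rw [hy, ← he, LinearEquiv.symm_apply_apply]⟩
    exact Module.Finite.iff_fg.1 (Module.Finite.of_injective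
      (LinearMap.codRestrict _ ((LinearMap.ker θ).subtype.comp (LinearMap.ker _).subtype) hmem)
      (fun x y h => Subtype.ext (Subtype.ext (congrArg (fun z : LinearMap.range Φ => z.1) h))))

theorem finite_coker_chase [IsNoetherianRing R] (b : Hf →ₗ[R] Hm) (c : Hm →ₗ[R] Hk') (a' : Hk' →ₗ[R] Hf')
    (σ : Tf →ₗ[R] Tm) (δ : Tm →ₗ[R] Tb') (ρ' : Tb' →ₗ[R] Tf') (φ : Hf →ₗ[R] Tf) (θ : Hm →ₗ[R] Tm)
    (ψ' : Hk' →ₗ[R] Tb') (φ' : Hf' →ₗ[R] Tf') (hca : Function.Exact c a') (hσδ : Function.Exact σ δ)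
    (hδρ : ∀ w, ρ' (δ w) = 0) (h1 : ∀ z, φ' (a' z) = ρ' (ψ' z)) (h2 : ∀ f, σ (φ f) = θ (b f))
    (h3 : ∀ x, δ (θ x) = ψ' (c x)) (hφ : Function.Surjective φ) (hφ' : Function.Injective φ')
    (hc : Module.Finite R (Tb' ⧸ LinearMap.range ψ')) : Module.Finite R (Tm ⧸ LinearMap.range θ) := by
  have hle : LinearMap.range θ ≤ LinearMap.ker ((LinearMap.range ψ').mkQ.comp δ) := by
    rintro _ ⟨x, rfl⟩
    exact (Submodule.Quotient.mk_eq_zero _).2 ⟨c x, (h3 x).symm⟩
  haveI : IsNoetherian R (Tb' ⧸ LinearMap.range ψ') := isNoetherian_of_isNoetherianRing_of_finite R _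
  refine Module.Finite.of_injective (Submodule.liftQ _ _ hle) ?_
  rw [← LinearMap.ker_eq_bot, Submodule.ker_liftQ_eq_bot']
  refine le_antisymm hle ?_
  intro w hw
  obtain ⟨z, hz⟩ := (Submodule.Quotient.mk_eq_zero _).1 (show Submodule.Quotient.mk (δ w) = (0 : Tb' ⧸ LinearMap.range ψ') from hw)
  have hz0 : a' z = 0 := hφ' (by rw [h1, hz, hδρ, map_zero])
  obtain ⟨x, rfl⟩ := (hca z).1 hz0
  obtain ⟨t, ht⟩ := (hσδ (w - θ x)).1 (by rw [map_sub, h3, hz, sub_self])
  obtain ⟨f, rfl⟩ := hφ t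
  exact ⟨x + b f, by rw [map_add, ← h2, ht]; abel⟩

theorem finite_ker_comp [IsNoetherianRing R] (f : Hk →ₗ[R] Tf) (g : Tf →ₗ[R] Tb)
    (hf : Module.Finite R (LinearMap.ker f)) (hg : Module.Finite R (LinearMap.ker g)) :
    Module.Finite R (LinearMap.ker (g.comp f)) := by
  let F : LinearMap.ker (g.comp f) →ₗ[R] LinearMap.ker g :=
    LinearMap.codRestrict _ (f.comp (LinearMap.ker (g.comp f)).subtype) fun x => x.2
  refine @finite_of_function_exact R _ _ (LinearMap.ker f) (LinearMap.ker (g.comp f)) (LinearMap.ker g)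
    _ _ _ _ _ _ (Submodule.inclusion fun x hx => show g (f x) = 0 by rw [show f x = 0 from hx, map_zero]) F
    (fun x => ⟨fun hx => ⟨⟨x.1, congrArg Subtype.val hx⟩, rfl⟩, ?_⟩) hf hg
  rintro ⟨y, rfl⟩
  exact Subtype.ext y.2

theorem finite_coker_comp [IsNoetherianRing R] (f : Hk →ₗ[R] Tf) (g : Tf →ₗ[R] Tb)
    (hf : Module.Finite R (Tf ⧸ LinearMap.range f)) (hg : Module.Finite R (Tb ⧸ LinearMap.range g)) :
    Module.Finite R (Tb ⧸ LinearMap.range (g.comp f)) := by
  have h1 : LinearMap.range f ≤ (LinearMap.range (g.comp f)).comap g := by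
    rintro _ ⟨z, rfl⟩
    exact ⟨z, rfl⟩
  have h2 : LinearMap.range (g.comp f) ≤ LinearMap.range g := LinearMap.range_comp_le_range f g
  refine @finite_of_function_exact R _ _ (Tf ⧸ LinearMap.range f) (Tb ⧸ LinearMap.range (g.comp f))
    (Tb ⧸ LinearMap.range g) _ _ _ _ _ _ (Submodule.mapQ _ _ g h1) (Submodule.factor h2) (fun w => ?_) hf hg
  obtain ⟨w, rfl⟩ := Submodule.Quotient.mk_surjective _ w
  constructor
  · intro hw
    obtain ⟨t, rfl⟩ := (Submodule.Quotient.mk_eq_zero _).1 (show Submodule.Quotient.mk w = (0 : Tb ⧸ LinearMap.range g) from hw)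
    exact ⟨Submodule.Quotient.mk t, rfl⟩
  · rintro ⟨t, ht⟩
    obtain ⟨t, rfl⟩ := Submodule.Quotient.mk_surjective _ t
    rw [← ht]
    exact (Submodule.Quotient.mk_eq_zero _).2 ⟨t, rfl⟩

end chase

section generic

variable [IsNoetherianRing R]
variable {S₁ S₂ : ShortComplex (CochainComplex (ModuleCat.{u} R) ℤ)} (τ : S₁ ⟶ S₂) (h₁ : S₁.ShortExact)
  (h₂ : S₂.ShortExact) (i : ℤ)

theorem fex {S : ShortComplex (ModuleCat.{u} R)} (h : S.Exact) : Function.Exact S.f.hom S.g.hom :=
  (ShortComplex.ShortExact.moduleCat_exact_iff_function_exact S).1 h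

theorem sq_f (i : ℤ) (z : S₁.X₁.homology i) : (HomologicalComplex.homologyMap τ.τ₂ i).hom
    ((HomologicalComplex.homologyMap S₁.f i).hom z) =
    (HomologicalComplex.homologyMap S₂.f i).hom ((HomologicalComplex.homologyMap τ.τ₁ i).hom z) := by
  have h := congrArg (fun k => HomologicalComplex.homologyMap k i) τ.comm₁₂
  rw [HomologicalComplex.homologyMap_comp, HomologicalComplex.homologyMap_comp] at h
  exact (congrArg (fun k => k.hom z) h).symm

theorem sq_g (i : ℤ) (z : S₁.X₂.homology i) : (HomologicalComplex.homologyMap S₂.g i).hom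
    ((HomologicalComplex.homologyMap τ.τ₂ i).hom z) =
    (HomologicalComplex.homologyMap τ.τ₃ i).hom ((HomologicalComplex.homologyMap S₁.g i).hom z) := by
  have h := congrArg (fun k => HomologicalComplex.homologyMap k i) τ.comm₂₃
  rw [HomologicalComplex.homologyMap_comp, HomologicalComplex.homologyMap_comp] at h
  exact congrArg (fun k => k.hom z) h

include h₁ h₂ in
theorem step_ker (hφ : ∀ i, Function.Bijective (HomologicalComplex.homologyMap τ.τ₂ i).hom)
    (hk : Module.Finite R (LinearMap.ker (HomologicalComplex.homologyMap τ.τ₁ (i + 1)).hom))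
    (hc : Module.Finite R (S₂.X₁.homology i ⧸ LinearMap.range (HomologicalComplex.homologyMap τ.τ₁ i).hom)) :
    Module.Finite R (LinearMap.ker (HomologicalComplex.homologyMap τ.τ₃ i).hom) :=
  finite_ker_chase _ _ (h₁.δ i (i + 1) rfl).hom _ _ (h₂.δ i (i + 1) rfl).hom
    (HomologicalComplex.homologyMap τ.τ₁ i).hom _ _ _
    (fex (h₁.homology_exact₂ i)).apply_apply_eq_zero (fex (h₁.homology_exact₃ i (i + 1) rfl))
    (fex (h₂.homology_exact₂ i)) (sq_f τ i) (sq_g τ i)
    (fun x => (congrArg (fun k => k.hom x)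
      (HomologicalComplex.HomologySequence.δ_naturality τ h₁ h₂ i (i + 1) rfl)).symm) (hφ i) hk hc

include h₁ h₂ in
theorem step_coker (hφ : ∀ i, Function.Bijective (HomologicalComplex.homologyMap τ.τ₂ i).hom)
    (hc : Module.Finite R
      (S₂.X₁.homology (i + 1) ⧸ LinearMap.range (HomologicalComplex.homologyMap τ.τ₁ (i + 1)).hom)) :
    Module.Finite R (S₂.X₃.homology i ⧸ LinearMap.range (HomologicalComplex.homologyMap τ.τ₃ i).hom) :=
  finite_coker_chase _ (h₁.δ i (i + 1) rfl).hom _ _ (h₂.δ i (i + 1) rfl).hom _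
    (HomologicalComplex.homologyMap τ.τ₂ i).hom _ _ (HomologicalComplex.homologyMap τ.τ₂ (i + 1)).hom
    (fex (h₁.homology_exact₁ i (i + 1) rfl)) (fex (h₂.homology_exact₃ i (i + 1) rfl))
    (fex (h₂.homology_exact₁ i (i + 1) rfl)).apply_apply_eq_zero (sq_f τ (i + 1)) (sq_g τ i)
    (fun x => (congrArg (fun k => k.hom x)
      (HomologicalComplex.HomologySequence.δ_naturality τ h₁ h₂ i (i + 1) rfl)).symm)
    (hφ i).2 (hφ (i + 1)).1 hc

variable {C : CochainComplex (ModuleCat.{u} R) ℤ} {S : ShortComplex (CochainComplex (ModuleCat.{u} R) ℤ)}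
  (hS : S.ShortExact) (a : C ⟶ S.X₂)

include hS in
theorem psi_ker [Module.Finite R (S.X₁.homology i)]
    (ha : Module.Finite R (LinearMap.ker (HomologicalComplex.homologyMap a i).hom)) :
    Module.Finite R (LinearMap.ker (HomologicalComplex.homologyMap (a ≫ S.g) i).hom) := by
  rw [HomologicalComplex.homologyMap_comp, ModuleCat.hom_comp]
  refine finite_ker_comp _ _ ha ?_
  rw [(fex (hS.homology_exact₂ i)).linearMap_ker_eq]
  exact Module.Finite.range _

include hS in
theorem psi_coker [Module.Finite R (S.X₁.homology (i + 1))]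
    (ha : Module.Finite R (S.X₂.homology i ⧸ LinearMap.range (HomologicalComplex.homologyMap a i).hom)) :
    Module.Finite R (S.X₃.homology i ⧸ LinearMap.range (HomologicalComplex.homologyMap (a ≫ S.g) i).hom) := by
  rw [HomologicalComplex.homologyMap_comp, ModuleCat.hom_comp]
  refine finite_coker_comp _ _ ha ?_
  haveI : IsNoetherian R (S.X₁.homology (i + 1)) := isNoetherian_of_isNoetherianRing_of_finite R _
  have hker := (fex (hS.homology_exact₃ i (i + 1) rfl)).linearMap_ker_eq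
  refine Module.Finite.of_injective (Submodule.liftQ _ (hS.δ i (i + 1) rfl).hom hker.ge) ?_
  rw [← LinearMap.ker_eq_bot, Submodule.ker_liftQ_eq_bot']
  exact hker.symm

theorem exists_mor {T₁ T₂ : ShortComplex (CochainComplex (ModuleCat.{u} R) ℤ)} (a₁ : T₁.X₁ ⟶ T₂.X₁)
    (a₂ : T₁.X₂ ⟶ T₂.X₂) (a₃ : T₁.X₃ ⟶ T₂.X₃) (c₁ : a₁ ≫ T₂.f = T₁.f ≫ a₂) (c₂ : a₂ ≫ T₂.g = T₁.g ≫ a₃) :
    ∃ τ : T₁ ⟶ T₂, τ.τ₁ = a₁ ∧ τ.τ₂ = a₂ ∧ τ.τ₃ = a₃ :=
  ⟨{ τ₁ := a₁, τ₂ := a₂, τ₃ := a₃, comm₁₂ := c₁, comm₂₃ := c₂ }, rfl, rfl, rfl⟩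

end generic

/-- the allowed primes in degree `p` -/
def Good (I : Ideal R) (x : Ideal R) (p : ℤ) : Prop :=
  I ≤ x ∨ ∀ y : Ideal R, y.IsPrime → x ≤ y → I ≤ y → ∀ n : ℕ, y.height = (n : ℕ∞) → (n : ℤ) ≠ p

/-- the condition on an Ext module -/
def GoodExt (I : Ideal R) (M : Type u) [AddCommGroup M] [Module R M] (j : ℕ) (p : ℤ) : Prop :=
  ∀ x : Ideal R, x.IsPrime →
    (∃ e : Ext (ModuleCat.of R M) (ModuleCat.of R R) j, ∀ s ∉ x, s • e ≠ 0) → Good I x p

def Hyp (I : Ideal R) (M : Type u) [AddCommGroup M] [Module R M] (i : ℤ) : Prop :=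
  ∀ j : ℕ, GoodExt I M (j + 1) (i + (j + 1))

section main

variable [IsRegularRing R] (fs : List R)

/-- the torsion part of the minimal resolution -/
noncomputable abbrev Jc : CochainComplex (ModuleCat.{u} R) ℤ := torCx fs (GorensteinRes.res R).cochainComplex
/-- the ideal -/
abbrev Ia : Ideal R := Ideal.span {a : R | a ∈ fs}

theorem subsingleton_hom (X : Type u) [AddCommGroup X] [Module R X] [Module.Finite R X] (p : ℤ)
    (h : ∀ y : Ideal R, y.IsPrime → Module.annihilator R X ≤ y → (Ia fs) ≤ y →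
      ∀ n : ℕ, y.height = (n : ℕ∞) → (n : ℤ) ≠ p) : Subsingleton ((homCx (Jc fs) X).X p) := by
  refine subsingleton_of_forall_eq (0 : X →ₗ[R] (Jc fs).X p) fun φ => LinearMap.ext fun x => ?_
  by_contra hne
  set e := toMap φ x with he
  rcases lt_or_ge p 0 with hp | hp
  · haveI := isStrictlyGE_torCx fs (GorensteinRes.res R).cochainComplex
    haveI := ModuleCat.subsingleton_of_isZero (CochainComplex.isZero_of_isStrictlyGE (Jc fs) 0 p hp)
    exact hne (Subsingleton.elim _ _)
  obtain ⟨n, rfl⟩ := Int.eq_ofNat_of_zero_le hp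
  let a := ((GorensteinRes.res R).cochainComplexXIso (n : ℤ) n rfl).toLinearEquiv
  have hne' : a e.1 ≠ 0 := fun h0 => hne (Subtype.ext (a.injective (h0.trans (map_zero a).symm)))
  obtain ⟨y, hy, hcolon⟩ := exists_le_isAssociatedPrime_of_isNoetherianRing R (a e.1) hne'
  rw [isAssociatedPrime_iff] at hy
  obtain ⟨hyp, z, hz⟩ := hy
  haveI := hyp
  have hzy : ∀ r : R, r • z = 0 ↔ r ∈ y := fun r => by
    rw [hz, Submodule.mem_colon_singleton, Submodule.mem_bot]
  have hk : ∀ r : R, r • a e.1 = 0 → r ∈ y := fun r hr => hcolon (by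
    rw [Submodule.mem_colon_singleton, Submodule.mem_bot]; exact hr)
  refine h y hyp (fun r hr => hk r ?_) ?_ n (GorensteinRes.height_eq n z y hzy) rfl
  · have h1 : r • e = 0 :=
      ((map_smul (toMap φ) r x).symm.trans (congrArg (toMap φ) (Module.mem_annihilator.1 hr x))).trans
        (map_zero (toMap φ))
    exact ((map_smul a r e.1).symm.trans (congrArg a (congrArg Subtype.val h1))).trans (map_zero a)
  · refine Ideal.span_le.2 fun f hf => ?_
    obtain ⟨m, hm⟩ := mem_tor.1 e.2 f hf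
    exact hyp.mem_of_pow_mem m (hk _ (by rw [← map_smul, hm, map_zero]))

theorem finite_T_good (G : Type u) [AddCommGroup G] [Module R G] [Module.Finite R G] (p : ℤ)
    (h : ∀ x : PrimeSpectrum R, x ∈ Module.support R G → Good (Ia fs) x.asIdeal p) :
    Module.Finite R (T (Jc fs) p G) := by
  revert h
  refine IsNoetherianRing.induction_on_isQuotientEquivQuotientPrime R ‹_›
    (motive := fun N _ _ _ => (∀ x : PrimeSpectrum R, x ∈ Module.support R N → Good (Ia fs) x.asIdeal p) →
      Module.Finite R (T (Jc fs) p N)) ?_ ?_ ?_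
  · intro N _ _ _ _ _
    refine finite_T_of_isZero p ⟨fun φ ψ => LinearMap.ext fun x => ?_⟩
    rw [Subsingleton.elim x 0, map_zero, map_zero]
  · intro N _ _ _ x e hN
    have hx : x ∈ Module.support R N := by
      rw [Module.mem_support_iff_of_finite, e.annihilator_eq, Ideal.annihilator_quotient]
    rcases hN x hx with hI | hy
    · refine finite_T_torsion fs (GorensteinRes.res R) N (fun m => mem_tor.2 fun f hf => ⟨1, e.injective ?_⟩) p
      obtain ⟨r, hr⟩ := Submodule.Quotient.mk_surjective _ (e m)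
      rw [map_smul, map_zero, pow_one, ← hr, ← Submodule.Quotient.mk_smul]
      exact (Submodule.Quotient.mk_eq_zero _ (x := f • r)).2 (Ideal.mul_mem_right r _ (hI (Ideal.subset_span hf)))
    · refine finite_T_of_isZero p (subsingleton_hom fs N p fun y hyp hle hI => hy y hyp ?_ hI)
      rw [e.annihilator_eq, Ideal.annihilator_quotient] at hle
      exact hle
  · intro N₁ _ _ _ N₂ _ _ _ N₃ _ _ _ f g hf hg hfg h1 h3 hN
    have hsupp := Module.support_of_exact hfg hf hg
    haveI := h1 fun x hx => hN x (hsupp ▸ Or.inl hx)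
    haveI := h3 fun x hx => hN x (hsupp ▸ Or.inr hx)
    exact finite_T_of_exact hf hg hfg p

variable (g : DerCA.extCech (ModuleCat.of R R) fs ⟶ (Jc fs))

noncomputable abbrev thetaH (M : Type u) [AddCommGroup M] [Module R M] (i : ℤ) :
    (DerCA.extCech (ModuleCat.of R M) fs).homology i →ₗ[R] T (Jc fs) i (M →ₗ[R] R) :=
  (HomologicalComplex.homologyMap (theta g (ModuleCat.of R M)) i).hom

theorem finite_dual (X : Type u) [AddCommGroup X] [Module R X] [Module.Finite R X] :
    Module.Finite R (X →ₗ[R] R) := by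
  obtain ⟨m, f, hf⟩ := Module.Finite.exists_fin' R X
  exact Module.Finite.of_injective (LinearMap.lcomp R R f) (LinearMap.lcomp_injective_of_surjective f hf)

theorem homMap_comp {X Y Z : Type u} [AddCommGroup X] [Module R X] [AddCommGroup Y] [Module R Y]
    [AddCommGroup Z] [Module R Z] (J : CochainComplex (ModuleCat.{u} R) ℤ) (a : X →ₗ[R] Y) (b : Y →ₗ[R] Z) :
    homMap J b ≫ homMap J a = homMap J (b.comp a) :=
  homCx_hom_ext fun _ _ _ => rfl

theorem theta_sq (M N : Type u) [AddCommGroup M] [Module R M] [AddCommGroup N] [Module R N] {B : Type u}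
    [AddCommGroup B] [Module R B] (ι : M →ₗ[R] N) (b : B →ₗ[R] (M →ₗ[R] R)) (v : (N →ₗ[R] R) →ₗ[R] B)
    (h : b.comp v = ι.dualMap) :
    (theta g (ModuleCat.of R M) ≫ homMap (Jc fs) b) ≫ homMap (Jc fs) v =
      cMap (ModuleCat.ofHom ι) fs ≫ theta g (ModuleCat.of R N) := by
  rw [Category.assoc, homMap_comp, h]
  exact theta_natural g (M := ModuleCat.of R M) (N := ModuleCat.of R N) ι

theorem exists_ladder {M K F B : Type u} [AddCommGroup M] [Module R M] [AddCommGroup K] [Module R K]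
    [AddCommGroup F] [Module R F] [AddCommGroup B] [Module R B] (ι : K →ₗ[R] F) (π : F →ₗ[R] M)
    (hext : Function.Exact ι π) (πd : (M →ₗ[R] R) →ₗ[R] (F →ₗ[R] R)) (v : (F →ₗ[R] R) →ₗ[R] B)
    (b : B →ₗ[R] (K →ₗ[R] R)) (hd : Function.Exact πd v) (hbv : b.comp v = ι.dualMap) (hπ : πd = π.dualMap) :
    ∃ τ : cShort fs (ModuleCat.ofHom ι) (ModuleCat.ofHom π) hext ⟶ homShort (Jc fs) πd v hd,
      τ.τ₁ = theta g (ModuleCat.of R K) ≫ homMap (Jc fs) b ∧ τ.τ₂ = theta g (ModuleCat.of R F) ∧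
        τ.τ₃ = theta g (ModuleCat.of R M) := by
  subst hπ
  exact ⟨{ τ₁ := theta g (ModuleCat.of R K) ≫ homMap (Jc fs) b
           τ₂ := theta g (ModuleCat.of R F)
           τ₃ := theta g (ModuleCat.of R M)
           comm₁₂ := theta_sq fs g K F ι b v hbv
           comm₂₃ := theta_natural g (M := ModuleCat.of R F) (N := ModuleCat.of R M) π }, rfl, rfl, rfl⟩

theorem finite_ker_and_coker (hg : Qi g) : ∀ (n : ℕ) (M : Type u) [AddCommGroup M] [Module R M] [Module.Finite R M],
    CommAlg6.PdLE R M n → ∀ i : ℤ,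
      (Hyp (Ia fs) M i → Module.Finite R (LinearMap.ker (thetaH fs g M i))) ∧
      (Hyp (Ia fs) M (i + 1) → Module.Finite R (T (Jc fs) i (M →ₗ[R] R) ⧸ LinearMap.range (thetaH fs g M i))) := by
  intro n
  induction n with
  | zero =>
    intro M _ _ _ hM i
    haveI : Module.Projective R (ModuleCat.of R M) := CommAlg6.pdLE_zero_iff.1 hM
    have hb : Function.Bijective (thetaH fs g M i) :=
      (qi_theta g hg (ModuleCat.of R M)).bijective_homologyMap i
    constructor
    · intro _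
      rw [LinearMap.ker_eq_bot.2 hb.1]
      infer_instance
    · intro _
      rw [LinearMap.range_eq_top.2 hb.2]
      infer_instance
  | succ n ih =>
    intro M _ _ _ hM i
    obtain ⟨m, π, hπ⟩ := Module.Finite.exists_fin' R M
    let F := Fin m → R
    let K : Submodule R F := LinearMap.ker π
    haveI : Module.Finite R K := inferInstance
    have hK : CommAlg6.PdLE R K n := (CommAlg6.pdLE_succ_iff π hπ n).1 hM
    have hext := LinearMap.exact_subtype_ker_map π
    have hS : (ShortComplex.mk (ModuleCat.ofHom K.subtype) (ModuleCat.ofHom π)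
        (ModuleCat.hom_ext hext.linearMap_comp_eq_zero)).ShortExact :=
      LocCoh.shortExact_of K.injective_subtype hπ hext
    haveI hFproj : Projective (ModuleCat.of R F) := (IsProjective.iff_projective F).1 inferInstance
    -- shifting the hypothesis
    have hshift : ∀ i : ℤ, Hyp (Ia fs) M i → Hyp (Ia fs) K (i + 1) := by
      intro i hyp j x hx he
      obtain ⟨e, he⟩ := he
      have h := hyp (j + 1) x hx ⟨hS.extClass.comp e (by omega : 1 + (j + 1) = j + 1 + 1), fun s hs h0 => he s hs ?_⟩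
      · rwa [show i + 1 + ((j : ℤ) + 1) = i + (((j + 1 : ℕ) : ℤ) + 1) by push_cast; ring]
      · rw [← Ext.comp_smul] at h0
        obtain ⟨e', he'⟩ := Ext.contravariant_sequence_exact₁ hS (ModuleCat.of R R) (s • e) _ h0
        rw [Ext.eq_zero_of_projective e', Ext.comp_zero] at he'
        exact he'.symm
    -- the image `B` of `F^∨ → K^∨`
    let u : (F →ₗ[R] R) →ₗ[R] (K →ₗ[R] R) := K.subtype.dualMap
    let B : Submodule R (K →ₗ[R] R) := LinearMap.range u
    let πd : (M →ₗ[R] R) →ₗ[R] (F →ₗ[R] R) := π.dualMap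
    have hπd : Function.Injective πd := LinearMap.dualMap_injective_of_surjective hπ
    let v : (F →ₗ[R] R) →ₗ[R] B := LinearMap.codRestrict B u fun φ => ⟨φ, rfl⟩
    have hv : Function.Surjective v := fun b => by
      obtain ⟨φ, hφ⟩ := b.2
      exact ⟨φ, Subtype.ext hφ⟩
    let G := (K →ₗ[R] R) ⧸ B
    haveI := finite_dual (R := R) K
    have hG : ∀ i : ℤ, Hyp (Ia fs) M i → Module.Finite R (T (Jc fs) (i + 1) G) := by
      intro i hyp
      refine finite_T_good fs G (i + 1) fun x hx => ?_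
      obtain ⟨γ, hγ⟩ := Module.mem_support_iff'.1 hx
      obtain ⟨φ, rfl⟩ := Submodule.Quotient.mk_surjective B γ
      have h := hyp 0 x.asIdeal x.2 ⟨hS.extClass.comp (Ext.mk₀ (ModuleCat.ofHom φ : ModuleCat.of R K ⟶ ModuleCat.of R R))
        (add_zero 1), fun s hs h0 => hγ s hs ?_⟩
      · simpa using h
      · rw [← Ext.comp_smul, ← Ext.mk₀_smul] at h0
        obtain ⟨e', he'⟩ := Ext.contravariant_sequence_exact₁ hS (ModuleCat.of R R) _ _ h0
        obtain ⟨ψ, rfl⟩ := (Ext.mk₀_bijective _ _).2 e'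
        rw [Ext.mk₀_comp_mk₀] at he'
        have h2 := congrArg ModuleCat.Hom.hom ((Ext.mk₀_bijective _ _).1 he')
        rw [← Submodule.Quotient.mk_smul, Submodule.Quotient.mk_eq_zero]
        exact ⟨ψ.hom, h2⟩
    have hdexact : Function.Exact πd v := by
      intro φ
      constructor
      · intro hφ
        have hker : LinearMap.ker π ≤ LinearMap.ker φ := fun y hy =>
          LinearMap.congr_fun (congrArg Subtype.val hφ) ⟨y, hy⟩
        let e := π.quotKerEquivOfSurjective hπ
        refine ⟨((LinearMap.ker π).liftQ φ hker).comp e.symm.toLinearMap, LinearMap.ext fun y => ?_⟩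
        show (LinearMap.ker π).liftQ φ hker (e.symm (π y)) = φ y
        rw [show π y = e (Submodule.Quotient.mk y) from rfl, LinearEquiv.symm_apply_apply]
        rfl
      · rintro ⟨ψ, rfl⟩
        exact Subtype.ext (LinearMap.ext fun k => (congrArg ψ k.2).trans (map_zero ψ))
    have hbv : B.subtype.comp v = K.subtype.dualMap := LinearMap.ext fun _ => rfl
    have hbot := homShort_shortExact (X := (M →ₗ[R] R)) (Y := (F →ₗ[R] R)) (Z := B) (Jc fs) πd v hπd
      hv hdexact
    have hB := homShort_shortExact (X := B) (Y := (K →ₗ[R] R)) (Z := G) (Jc fs) B.subtype B.mkQ B.injective_subtype B.mkQ_surjective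
      (LinearMap.exact_subtype_mkQ B)
    have htop := cShort_shortExact fs (ModuleCat.ofHom K.subtype) (ModuleCat.ofHom π) K.injective_subtype hπ hext
    obtain ⟨τ, hτ1, hτ2, hτ3⟩ := exists_ladder (M := M) (K := K) (F := F) (B := B) fs g K.subtype π hext πd v B.subtype hdexact hbv rfl
    have hφb : ∀ i, Function.Bijective (HomologicalComplex.homologyMap τ.τ₂ i).hom := fun i => by
      rw [hτ2]
      exact (qi_theta g hg (ModuleCat.of R F)).bijective_homologyMap i
    have hc : ∀ i, Hyp (Ia fs) M i →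
        Module.Finite R ((homShort (Jc fs) πd v hdexact).X₁.homology i ⧸
          LinearMap.range (HomologicalComplex.homologyMap τ.τ₁ i).hom) := fun i hyp => by
      rw [hτ1]
      exact @psi_coker R _ _ i _ _ hB (theta g (ModuleCat.of R K)) (hG i hyp) ((ih K hK i).2 (hshift i hyp))
    constructor
    · intro hyp
      have h := step_ker τ htop hbot i hφb (by
        rw [hτ1]
        exact @psi_ker R _ _ (i + 1) _ _ hB (theta g (ModuleCat.of R K)) (hG i hyp)
          ((ih K hK (i + 1)).1 (hshift i hyp))) (hc i hyp)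
      rw [hτ3] at h
      exact h
    · intro hyp
      have h := step_coker τ htop hbot i hφb (hc (i + 1) hyp)
      rw [hτ3] at h
      exact h

end main

theorem exists_pdLE [IsRegularRing R] (M : Type u) [AddCommGroup M] [Module R M] [Module.Finite R M] :
    ∃ T : ℕ, CommAlg6.PdLE R M T := by
  obtain ⟨T, hT⟩ := LocCoh.exists_pdLE_bound (R := R) M
  refine ⟨T, ((ModuleCat.of R M).hasProjectiveDimensionLE_iff_forall_primeSpectrum T).2 fun p => ?_⟩
  haveI : HasProjectiveDimensionLE (ModuleCat.of (Localization.AtPrime p.asIdeal)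
    (LocalizedModule p.asIdeal.primeCompl M)) T := hT p
  exact ModuleCat.hasProjectiveDimensionLE_of_linearEquiv
    (M := ModuleCat.of (Localization.AtPrime p.asIdeal) (LocalizedModule p.asIdeal.primeCompl M))
    (N := (ModuleCat.of R M).localizedModule p.asIdeal.primeCompl) (Shrink.linearEquiv _ _).symm T

/-- one local cohomology module is finite when the dual pieces allow it -/
theorem finite_H [IsRegularRing R] (fs : List R) (M : Type u) [AddCommGroup M] [Module R M] [Module.Finite R M]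
    (i : ℕ) (h : ∀ j : ℕ, GoodExt (Ideal.span {a : R | a ∈ fs}) M j ((i : ℤ) + j)) :
    Module.Finite R (_root_.LocCoh.H (Ideal.span {a : R | a ∈ fs}) i M) := by
  obtain ⟨g, hg⟩ := exists_cech_qi (ModuleCat.of R R) (GorensteinRes.res R) fs
  obtain ⟨n, hn⟩ := exists_pdLE (R := R) M
  have hk := (finite_ker_and_coker fs g hg n M hn i).1 fun j => by
    have := h (j + 1)
    push_cast at this
    exact this
  haveI := finite_dual (R := R) M
  haveI : Module.Finite R (T (torCx fs (GorensteinRes.res R).cochainComplex) (i : ℤ) (M →ₗ[R] R)) := by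
    refine finite_T_good fs _ _ fun x hx => ?_
    obtain ⟨φ, hφ⟩ := Module.mem_support_iff'.1 hx
    have := h 0 x.asIdeal x.2 ⟨Ext.mk₀ (ModuleCat.ofHom φ : ModuleCat.of R M ⟶ ModuleCat.of R R), fun s hs h0 => hφ s hs ?_⟩
    · simpa using this
    · rw [← Ext.mk₀_smul] at h0
      exact congrArg ModuleCat.Hom.hom ((Ext.mk₀_bijective _ _).1 (h0.trans (Ext.mk₀_zero (X := ModuleCat.of R M) (Y := ModuleCat.of R R)).symm))
  obtain ⟨e⟩ := ExtCech.nonempty_H_equiv fs i (ModuleCat.of R M)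
  haveI : Module.Finite R ((DerCA.extCech (ModuleCat.of R M) fs).homology (i : ℤ)) := by
    set θ := thetaH fs g M (i : ℤ)
    haveI : IsNoetherian R (T (torCx fs (GorensteinRes.res R).cochainComplex) (i : ℤ) (M →ₗ[R] R)) :=
      isNoetherian_of_isNoetherianRing_of_finite R _
    exact finite_of_function_exact (LinearMap.ker θ).subtype θ (LinearMap.exact_subtype_ker_map θ)
  exact Module.Finite.equiv e

end Groth.Agent.CAlgH3.FinitenessDegree
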