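import Groth.Agent.CAlgH3.FinitenessDegree
import Groth.Agent.LocCoh.FinitenessRegular
import Groth.Agent.LocCoh.BaseChange

/-! Finiteness of one local cohomology module over a quotient of a regular ring. -/

set_option autoImplicit false

universe u

open CategoryTheory Abelian IsLocalRing

namespace Groth.Agent.CAlgH3.FinitenessQuotient

/-- killing of Ext outside a prime, from the vanishing of local cohomology of the localization -/
theorem kill_ext {R : Type u} [CommRing R] [IsRegularRing R] (M : Type u) [AddCommGroup M] [Module R M]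
    [Module.Finite R M] (P : Ideal R) [P.IsPrime] {a : ℕ} (ha : P.height = (a : ℕ∞)) (q : ℕ)
    (h : ∀ j, j + q = a → Subsingleton (_root_.LocCoh.H (maximalIdeal (Localization.AtPrime P)) j
        (LocalizedModule P.primeCompl M)))
    (x : Ext (ModuleCat.of R M) (ModuleCat.of R R) q) : ∃ s ∉ P, s • x = 0 := by
  haveI hG : _root_.LocCoh.IsGorensteinLocalRing (Localization.AtPrime P) :=
    GrSectLib.gorenstein_of_regular _
  haveI : Module.Finite (Localization.AtPrime P) (LocalizedModule P.primeCompl M) :=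
    Module.Finite.of_isLocalizedModule (Rₚ := Localization.AtPrime P) P.primeCompl
      (LocalizedModule.mkLinearMap P.primeCompl M)
  have hdim : ringKrullDim (Localization.AtPrime P) = a := by
    rw [IsLocalization.AtPrime.ringKrullDim_eq_height P (Localization.AtPrime P), ha]
    rfl
  refine LocCoh.exists_kill_of_subsingleton_ext_localized P.primeCompl q M R ?_ x
  rcases lt_or_ge a q with hq | hq
  · exact LocCoh.subsingleton_ext_of_dim_lt hdim q hq _
  · obtain ⟨E, _, _, hE⟩ := Matlis6.exists_isHullAt (maximalIdeal (Localization.AtPrime P))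
    obtain ⟨e⟩ := LocCoh.gorenstein_duality hdim hE q (a - q) (by omega) (LocalizedModule P.primeCompl M)
    haveI := h (a - q) (by omega)
    refine subsingleton_of_forall_eq 0 fun x => ?_
    by_contra hx
    obtain ⟨φ, hφ⟩ := hE.exists_apply_ne_zero_local hx
    obtain ⟨y, hy⟩ := e.surjective φ
    rw [← hy, Subsingleton.elim y 0, map_zero] at hφ
    exact hφ rfl

theorem orderHeight_covBy {A : Type u} [CommRing A] {s t : PrimeSpectrum A} (h : s ⋖ t) :
    Order.height (⟨t, h.le⟩ : Set.Ici s) = 1 := by
  refine le_antisymm (Order.height_le_iff'.2 fun c hc => ?_) ?_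
  · by_contra hcon
    push Not at hcon
    have hlen : 2 ≤ c.length := by
      have : (1 : ℕ) < c.length := by exact_mod_cast hcon
      omega
    have h1 : c ⟨0, by omega⟩ < c ⟨1, by omega⟩ := c.strictMono (Fin.mk_lt_mk.2 (by omega))
    have h2 : c ⟨1, by omega⟩ < c.last := c.strictMono (Fin.mk_lt_mk.2 (by omega))
    rw [hc] at h2
    exact h.2 (lt_of_le_of_lt (c ⟨0, by omega⟩).2 h1) h2
  · rw [Order.one_le_iff_ne_zero, Ne, Order.height_eq_zero]
    intro hmin
    exact h.lt.not_ge (hmin (b := ⟨s, Set.self_mem_Ici⟩) h.le)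

/-- between a prime outside `V(I)` and a prime of `V(I)` there is a last prime outside, covered by the given one -/
theorem exists_covBy_notMem {A : Type u} [CommRing A] [IsNoetherianRing A] (I : Ideal A) (p q : PrimeSpectrum A)
    (hpq : p ≤ q) (hp : ¬ I ≤ p.asIdeal) (hq : I ≤ q.asIdeal) :
    ∃ s : PrimeSpectrum A, p ≤ s ∧ ¬ I ≤ s.asIdeal ∧ s ⋖ q := by
  obtain ⟨J, ⟨hJ, hpJ, hJq, hIJ⟩, hmax⟩ := set_has_maximal_iff_noetherian.2 inferInstance
    {J : Ideal A | J.IsPrime ∧ p.asIdeal ≤ J ∧ J ≤ q.asIdeal ∧ ¬ I ≤ J}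
    ⟨p.asIdeal, p.2, le_rfl, hpq, hp⟩
  haveI := hJ
  refine ⟨⟨J, hJ⟩, hpJ, hIJ, ⟨lt_of_le_of_ne (show (⟨J, hJ⟩ : PrimeSpectrum A) ≤ q from hJq)
    fun e => hIJ (hq.trans (le_of_eq (congrArg PrimeSpectrum.asIdeal e).symm)), fun t hJt htq => ?_⟩⟩
  -- every prime strictly above `J` below `q` contains `I`
  have habove : ∀ r : Ideal A, r.IsPrime → J < r → r ≤ q.asIdeal → I ≤ r := fun r hr hJr hrq => by
    by_contra hh
    exact hmax r ⟨hr, hpJ.trans hJr.le, hrq, hh⟩ hJr
  let F : Set (Ideal A) := {r | r ∈ Ideal.minimalPrimes (J ⊔ I) ∧ r ≠ q.asIdeal}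
  have hF : F.Finite := (Ideal.finite_minimalPrimes_of_isNoetherianRing A (J ⊔ I)).subset fun r hr => hr.1
  have hJne : ∀ r ∈ F, J < r := fun r hr => lt_of_le_of_ne (le_sup_left.trans hr.1.1.2)
    fun e => hIJ (e ▸ le_sup_right.trans hr.1.1.2)
  have hnot : ¬ (q.asIdeal : Set A) ⊆ (⋃ r ∈ {r ∈ F | r ≤ q.asIdeal}, (r : Set A)) ∪ J := by
    intro hsub
    classical
    let G := insert J (hF.toFinset.filter fun r => r ≤ q.asIdeal)
    have hsub' : (q.asIdeal : Set A) ⊆ ⋃ r ∈ (↑G : Set (Ideal A)), (id r : Ideal A) := fun a ha => by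
      rcases hsub ha with h | h
      · simp only [Set.mem_iUnion] at h
        obtain ⟨r, ⟨hrF, hrq⟩, har⟩ := h
        exact Set.mem_biUnion (Finset.mem_coe.2 (Finset.mem_insert_of_mem
          (Finset.mem_filter.2 ⟨hF.mem_toFinset.2 hrF, hrq⟩))) har
      · exact Set.mem_biUnion (Finset.mem_coe.2 (Finset.mem_insert_self _ _)) h
    rw [Ideal.subset_union_prime ⊥ ⊥ fun r hr _ _ => by
      rcases Finset.mem_insert.1 hr with rfl | hr
      · exact hJ
      · exact (hF.mem_toFinset.1 (Finset.mem_filter.1 hr).1).1.1.1] at hsub'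
    obtain ⟨r, hr, hqr⟩ := hsub'
    rcases Finset.mem_insert.1 hr with rfl | hr
    · exact hIJ (hq.trans hqr)
    · obtain ⟨hr1, hr2⟩ := Finset.mem_filter.1 hr
      exact (hF.mem_toFinset.1 hr1).2 (le_antisymm hr2 hqr)
  obtain ⟨a, haq, ha⟩ := Set.not_subset.1 hnot
  rw [Set.mem_union, not_or] at ha
  obtain ⟨m, hm, hmq⟩ := Ideal.exists_minimalPrimes_le (show J ⊔ Ideal.span {a} ≤ q.asIdeal from
    sup_le hJq (by rw [Ideal.span_le, Set.singleton_subset_iff]; exact haq))
  haveI := hm.1.1
  have hJm : J < m := lt_of_le_of_ne (le_sup_left.trans hm.1.2) fun e =>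
    ha.2 (e ▸ hm.1.2 (Submodule.mem_sup_right (Ideal.mem_span_singleton_self a)))
  obtain ⟨r, hr, hrm⟩ := Ideal.exists_minimalPrimes_le
    (show J ⊔ I ≤ m from sup_le hJm.le (habove m inferInstance hJm hmq))
  by_cases hrq : r = q.asIdeal
  · -- `q` is a minimal prime over `J + (a)`
    have hmq' : m = q.asIdeal := le_antisymm hmq (hrq ▸ hrm)
    have hh : (q.asIdeal.map (Ideal.Quotient.mk J)).height ≤ 1 := by
      have hmem : q.asIdeal.map (Ideal.Quotient.mk J) ∈
          ((Ideal.span {a}).map (Ideal.Quotient.mk J)).minimalPrimes := by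
        rw [Ideal.minimalPrimes_map_of_surjective Ideal.Quotient.mk_surjective, Ideal.mk_ker, sup_comm]
        exact ⟨q.asIdeal, hmq' ▸ hm, rfl⟩
      rw [Ideal.map_span, Set.image_singleton] at hmem
      exact Ideal.height_le_one_of_isPrincipal_of_mem_minimalPrimes _ _ hmem
    haveI := t.2
    have h1 : J < t.asIdeal := hJt
    have h2 : t.asIdeal < q.asIdeal := htq
    have hkJ : RingHom.ker (Ideal.Quotient.mk J) ≤ t.asIdeal := by rw [Ideal.mk_ker]; exact h1.le
    haveI : (t.asIdeal.map (Ideal.Quotient.mk J)).IsPrime := Ideal.map_isPrime_of_surjective Ideal.Quotient.mk_surjective hkJ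
    haveI : (q.asIdeal.map (Ideal.Quotient.mk J)).IsPrime :=
      Ideal.map_isPrime_of_surjective Ideal.Quotient.mk_surjective (hkJ.trans h2.le)
    haveI : IsDomain (A ⧸ J) := Ideal.Quotient.isDomain J
    have hb : (⊥ : Ideal (A ⧸ J)) < t.asIdeal.map (Ideal.Quotient.mk J) := by
      refine bot_lt_iff_ne_bot.2 fun e => h1.not_ge ?_
      rw [Ideal.map_eq_bot_iff_le_ker, Ideal.mk_ker] at e
      exact e
    have ht2 : t.asIdeal.map (Ideal.Quotient.mk J) < q.asIdeal.map (Ideal.Quotient.mk J) := by
      refine lt_of_le_of_ne (Ideal.map_mono h2.le) fun e => h2.ne ?_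
      have := congrArg (Ideal.comap (Ideal.Quotient.mk J)) e
      rwa [Ideal.comap_map_of_surjective' _ Ideal.Quotient.mk_surjective,
        Ideal.comap_map_of_surjective' _ Ideal.Quotient.mk_surjective, Ideal.mk_ker,
        sup_eq_left.2 h1.le, sup_eq_left.2 (h1.le.trans h2.le)] at this
    have h3 := (add_le_add (Ideal.height_add_one_le_of_lt_of_isPrime hb) (le_refl (1 : ℕ∞))).trans
      ((Ideal.height_add_one_le_of_lt_of_isPrime ht2).trans hh)
    have h4 : (2 : ℕ∞) ≤ 1 := le_trans (by rw [← one_add_one_eq_two]; exact add_le_add le_add_self le_rfl) h3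
    exact absurd h4 (by decide)
  · have hrF : r ∈ F := ⟨hr, hrq⟩
    haveI := hr.1.1
    have hrm' : r = m := by
      refine le_antisymm hrm ?_
      by_contra hne
      -- `m` is minimal over `J + (a)` and lies strictly above `r`
      have hJr := hJne r hrF
      have hhm : (m.map (Ideal.Quotient.mk J)).height ≤ 1 := by
        have hmem : m.map (Ideal.Quotient.mk J) ∈
            ((Ideal.span {a}).map (Ideal.Quotient.mk J)).minimalPrimes := by
          rw [Ideal.minimalPrimes_map_of_surjective Ideal.Quotient.mk_surjective, Ideal.mk_ker, sup_comm]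
          exact ⟨m, hm, rfl⟩
        rw [Ideal.map_span, Set.image_singleton] at hmem
        exact Ideal.height_le_one_of_isPrincipal_of_mem_minimalPrimes _ _ hmem
      have hkJ : RingHom.ker (Ideal.Quotient.mk J) ≤ r := by rw [Ideal.mk_ker]; exact hJr.le
      haveI : (r.map (Ideal.Quotient.mk J)).IsPrime := Ideal.map_isPrime_of_surjective Ideal.Quotient.mk_surjective hkJ
      haveI : (m.map (Ideal.Quotient.mk J)).IsPrime :=
        Ideal.map_isPrime_of_surjective Ideal.Quotient.mk_surjective (hkJ.trans hrm)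
      haveI : IsDomain (A ⧸ J) := Ideal.Quotient.isDomain J
      have hb : (⊥ : Ideal (A ⧸ J)) < r.map (Ideal.Quotient.mk J) := by
        refine bot_lt_iff_ne_bot.2 fun e => hJr.not_ge ?_
        rw [Ideal.map_eq_bot_iff_le_ker, Ideal.mk_ker] at e
        exact e
      have ht2 : r.map (Ideal.Quotient.mk J) < m.map (Ideal.Quotient.mk J) := by
        refine lt_of_le_of_ne (Ideal.map_mono hrm) fun e => hne ?_
        have := congrArg (Ideal.comap (Ideal.Quotient.mk J)) e
        rw [Ideal.comap_map_of_surjective' _ Ideal.Quotient.mk_surjective,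
          Ideal.comap_map_of_surjective' _ Ideal.Quotient.mk_surjective, Ideal.mk_ker,
          sup_eq_left.2 hJr.le, sup_eq_left.2 hJm.le] at this
        exact this.ge
      have h3 := (add_le_add (Ideal.height_add_one_le_of_lt_of_isPrime hb) (le_refl (1 : ℕ∞))).trans
        ((Ideal.height_add_one_le_of_lt_of_isPrime ht2).trans hhm)
      have h4 : (2 : ℕ∞) ≤ 1 := le_trans (by rw [← one_add_one_eq_two]; exact add_le_add le_add_self le_rfl) h3
      exact absurd h4 (by decide)
    refine ha.1 (Set.mem_biUnion (show r ∈ {r ∈ F | r ≤ q.asIdeal} from ⟨hrF, hrm.trans hmq⟩) ?_)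
    rw [hrm']
    exact hm.1.2 (Submodule.mem_sup_right (Ideal.mem_span_singleton_self a))

variable {R A : Type u} [CommRing R] [CommRing A] [Algebra R A] {M : Type u} [AddCommGroup M]
  [Module R M] [Module A M] [IsScalarTower R A M]

theorem subsingleton_transfer [IsNoetherianRing R] [IsNoetherianRing A] (hπ : Function.Surjective (algebraMap R A)) (p : Ideal A) [p.IsPrime] (j : ℕ)
    (h : Subsingleton (_root_.LocCoh.H (maximalIdeal (Localization.AtPrime p)) j
      (LocalizedModule p.primeCompl M))) :
    Subsingleton (_root_.LocCoh.H (maximalIdeal (Localization.AtPrime (p.comap (algebraMap R A)))) j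
      (LocalizedModule (p.comap (algebraMap R A)).primeCompl M)) := by
  set s := p.comap (algebraMap R A)
  let B := Localization.AtPrime p
  let N := LocalizedModule p.primeCompl M
  let Rs := Localization.AtPrime s
  have hts : ∀ t : s.primeCompl, algebraMap R A t ∈ p.primeCompl := fun t => t.2
  let g : Rs →+* B := IsLocalization.lift (M := s.primeCompl)
    (g := (algebraMap A B).comp (algebraMap R A)) fun t => IsLocalization.map_units B (⟨algebraMap R A t, hts t⟩ : p.primeCompl)
  have hg : ∀ r, g (algebraMap R Rs r) = algebraMap A B (algebraMap R A r) := fun r => IsLocalization.lift_eq _ r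
  letI : Algebra Rs B := g.toAlgebra
  letI : Module Rs N := Module.compHom N g
  haveI : IsScalarTower Rs B N := IsScalarTower.of_algebraMap_smul fun _ _ => rfl
  haveI : IsScalarTower R Rs N := IsScalarTower.of_algebraMap_smul fun r z => by
    show g (algebraMap R Rs r) • z = r • z
    rw [hg, IsScalarTower.algebraMap_smul B, IsScalarTower.algebraMap_smul A]
  let f : M →ₗ[R] N := (LocalizedModule.mkLinearMap p.primeCompl M).restrictScalars R
  haveI : IsLocalizedModule s.primeCompl f := by
    refine ⟨fun t => ?_, fun n => ?_, fun {x y} h => ?_⟩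
    · rw [Module.End.isUnit_iff]
      have hu := (Module.End.isUnit_iff _).1 (IsLocalizedModule.map_units
        (LocalizedModule.mkLinearMap p.primeCompl M) (⟨algebraMap R A t, hts t⟩ : p.primeCompl))
      have he : ∀ z : N, algebraMap R (Module.End R N) (t : R) z =
          algebraMap A (Module.End A N) (algebraMap R A t) z := fun z => by
        rw [Module.algebraMap_end_apply, Module.algebraMap_end_apply, IsScalarTower.algebraMap_smul]
      exact ⟨fun a b hab => hu.1 (by simpa [he] using hab), fun b => by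
        obtain ⟨a, ha⟩ := hu.2 b; exact ⟨a, by simpa [he] using ha⟩⟩
    · obtain ⟨⟨m, t⟩, h⟩ := IsLocalizedModule.surj p.primeCompl (LocalizedModule.mkLinearMap p.primeCompl M) n
      obtain ⟨r, hr⟩ := hπ (t : A)
      refine ⟨⟨m, ⟨r, fun hrs => t.2 (hr ▸ hrs)⟩⟩, ?_⟩
      show r • n = _
      exact ((IsScalarTower.algebraMap_smul A r n).symm.trans (congrArg (· • n) hr)).trans h
    · obtain ⟨t, ht⟩ := IsLocalizedModule.exists_of_eq (S := p.primeCompl)
        (f := LocalizedModule.mkLinearMap p.primeCompl M) h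
      obtain ⟨r, hr⟩ := hπ (t : A)
      refine ⟨⟨r, fun hrs => t.2 (hr ▸ hrs)⟩, ?_⟩
      show r • x = r • y
      rw [← IsScalarTower.algebraMap_smul A r x, ← IsScalarTower.algebraMap_smul A r y, hr]
      exact ht
  have hm : (maximalIdeal Rs).map (algebraMap Rs B) = maximalIdeal B := by
    rw [← Localization.AtPrime.map_eq_maximalIdeal, ← Localization.AtPrime.map_eq_maximalIdeal, Ideal.map_map]
    have hc : (algebraMap Rs B).comp (algebraMap R Rs) = (algebraMap A B).comp (algebraMap R A) :=
      RingHom.ext hg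
    rw [hc, ← Ideal.map_map, Ideal.map_comap_of_surjective _ hπ]
  obtain ⟨φ, -⟩ := LocCoh.exists_H_independence Rs B (maximalIdeal Rs) j N
  rw [hm] at φ
  haveI := φ.symm.toEquiv.subsingleton
  exact (LocCoh.Hequiv (maximalIdeal Rs) j
    ((IsLocalizedModule.iso s.primeCompl f).extendScalarsOfIsLocalization s.primeCompl Rs)).toEquiv.subsingleton

theorem main [IsRegularRing R] [IsNoetherianRing A] [Module.Finite A M] (hπ : Function.Surjective (algebraMap R A))
    (I : Ideal A) (i : ℕ)
    (h : ∀ p : PrimeSpectrum A, ¬ I ≤ p.asIdeal → ∀ (c j : ℕ), _root_.SGA2.relCodim I p = c → j + c = i →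
      Subsingleton (_root_.LocCoh.H (maximalIdeal (Localization.AtPrime p.asIdeal)) j
        (LocalizedModule p.asIdeal.primeCompl M))) :
    Module.Finite A (_root_.LocCoh.H I i M) := by
  haveI : Module.Finite R A := Module.Finite.of_surjective (Algebra.linearMap R A) hπ
  haveI : Module.Finite R M := Module.Finite.trans A M
  set I' := I.comap (algebraMap R A) with hI'
  obtain ⟨S, hS⟩ := IsNoetherian.noetherian I'
  have hspan : Ideal.span {a : R | a ∈ S.toList} = I' := by
    rw [← hS]; simp
  have hfin : Module.Finite R (_root_.LocCoh.H I' i M) := by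
    rw [← hspan]
    refine FinitenessDegree.finite_H S.toList M i fun j x hx he => ?_
    rw [hspan]
    by_cases hxI : I' ≤ x
    · exact Or.inl hxI
    refine Or.inr fun y hy hxy hIy n hn hni => ?_
    haveI := hx
    haveI := hy
    obtain ⟨e, he⟩ := he
    have hker : RingHom.ker (algebraMap R A) ≤ x := fun r hr => by
      by_contra hrx
      refine he r hrx ?_
      have h0 : r • (𝟙 (ModuleCat.of R M)) = 0 := by
        ext m
        show r • m = 0
        rw [← IsScalarTower.algebraMap_smul A r m, show algebraMap R A r = 0 from hr, zero_smul]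
      rw [← Ext.mk₀_id_comp e, ← Ext.smul_comp, ← Ext.mk₀_smul, h0, Ext.mk₀_zero, Ext.zero_comp]
    -- pass to `A`
    let P : PrimeSpectrum A := ⟨x.map (algebraMap R A), Ideal.map_isPrime_of_surjective hπ hker⟩
    let Y : PrimeSpectrum A := ⟨y.map (algebraMap R A), Ideal.map_isPrime_of_surjective hπ (hker.trans hxy)⟩
    have hPc : P.asIdeal.comap (algebraMap R A) = x := by
      rw [Ideal.comap_map_of_surjective' _ hπ, sup_eq_left.2 hker]
    have hYc : Y.asIdeal.comap (algebraMap R A) = y := by
      rw [Ideal.comap_map_of_surjective' _ hπ, sup_eq_left.2 (hker.trans hxy)]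
    have hPI : ¬ I ≤ P.asIdeal := fun hh => hxI (by rw [← hPc]; exact Ideal.comap_mono hh)
    have hYI : I ≤ Y.asIdeal := by
      have := Ideal.map_mono (f := algebraMap R A) hIy
      rwa [hI', Ideal.map_comap_of_surjective _ hπ] at this
    obtain ⟨s, hPs, hsI, hsY⟩ := exists_covBy_notMem I P Y (Ideal.map_mono hxy) hPI hYI
    have hc : _root_.SGA2.relCodim I s = (1 : ℕ) := by
      rw [Nat.cast_one]
      exact le_antisymm (LocCoh.relCodim_le_one_of_covBy hsY hYI) (LocCoh.one_le_relCodim hsI)
    set s' := s.asIdeal.comap (algebraMap R A) with hs'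
    have hxs : x ≤ s' := hPc ▸ Ideal.comap_mono hPs
    have hht : s'.height + 1 = y.height := by
      have h1 := LocCoh.height_add_hq_eq s' y (hYc ▸ Ideal.comap_mono hsY.le)
      rw [← hYc, LocCoh.hq_comap_eq _ hπ, ← LocCoh.orderHeight_eq_hq s Y hsY.le] at h1
      rw [← hYc, ← h1]
      congr 1
      exact (orderHeight_covBy hsY).symm
    obtain ⟨a, ha⟩ := ENat.ne_top_iff_exists.1 (Ideal.height_ne_top (I := s') Ideal.IsPrime.ne_top')
    rw [← ha, hn] at hht
    have hna : a + 1 = n := by exact_mod_cast hht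
    obtain ⟨r, hr, hre⟩ := kill_ext M s' ha.symm j (fun j' hj' => by
      have hji : j' + 1 = i := by omega
      exact subsingleton_transfer hπ s.asIdeal j' (h s hsI 1 j' hc hji)) e
    exact he r (fun hrx => hr (hxs hrx)) hre
  -- back to `A`
  have hind := LocCoh.exists_H_independence R A I' i M
  rw [show I'.map (algebraMap R A) = I from Ideal.map_comap_of_surjective _ hπ I] at hind
  obtain ⟨φ, hφ⟩ := hind
  obtain ⟨T, hT⟩ := hfin.fg_top
  classical
  refine ⟨⟨T.image φ.symm, eq_top_iff.2 fun z _ => ?_⟩⟩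
  have hz : φ z ∈ Submodule.span R (T : Set (_root_.LocCoh.H I' i M)) := hT ▸ Submodule.mem_top
  have key : ∀ w ∈ Submodule.span R (T : Set (_root_.LocCoh.H I' i M)),
      φ.symm w ∈ Submodule.span A ((T.image φ.symm : Finset (_root_.LocCoh.H I i M)) : Set (_root_.LocCoh.H I i M)) := by
    intro w hw
    induction hw using Submodule.span_induction with
    | mem w hw => exact Submodule.subset_span (Finset.mem_image_of_mem _ hw)
    | zero => rw [map_zero]; exact zero_mem _
    | add a b _ _ ha hb => rw [map_add]; exact add_mem ha hb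
    | smul r a _ ha =>
      rw [show φ.symm (r • a) = algebraMap R A r • φ.symm a from φ.injective (by
        rw [hφ, φ.apply_symm_apply, φ.apply_symm_apply])]
      exact Submodule.smul_mem _ _ ha
  simpa using key _ hz

end Groth.Agent.CAlgH3.FinitenessQuotient
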