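import Groth.Agent.CAlgH3.FittSmooth
import Groth.Agent.CAlgH.KoszulRegular
import Groth.Agent.CAlgH.RegImmStalk
import Groth.Agent.OmegaLib.LocFree
import Groth.Prelude.Def_RegImm
import Mathlib.RingTheory.Smooth.Local

/-! Smooth locus of a local complete intersection morphism through the Fitting ideal. -/

set_option autoImplicit false
set_option backward.isDefEq.respectTransparency.types false
set_option linter.style.haveILetI false
universe u

open CategoryTheory CategoryTheory.Limits AlgebraicGeometry TopologicalSpace Opposite TensorProduct IsLocalRing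

namespace Groth.Agent.CAlgH3.FittLci

/-- Jacobian criterion for a quotient by a Koszul regular sequence. -/
theorem formallySmooth_iff_finrank_le {R Q L : Type u} [CommRing R] [CommRing Q] [CommRing L] [IsLocalRing L]
    [Algebra R Q] [Algebra R L] [Algebra Q L] [IsScalarTower R Q L] [Algebra.FormallySmooth R Q]
    (hsurj : Function.Surjective (algebraMap Q L)) {m c : ℕ} (b : Module.Basis (Fin (m + c)) Q Ω[Q⁄R])
    (f : Fin c → Q) (hk : CAlgH.KoszulRegular.KReg f) (hker : Ideal.span (Set.range f) = RingHom.ker (algebraMap Q L)) :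
    Algebra.FormallySmooth R L ↔
      Module.finrank (ResidueField L) (ResidueField L ⊗[L] Ω[L⁄R]) ≤ m := by
  haveI : Module.Free Q Ω[Q⁄R] := .of_basis b
  haveI : Module.Finite Q Ω[Q⁄R] := .of_basis b
  let P : Algebra.Extension R L := { Ring := Q, σ := _, algebraMap_σ := Function.surjInv_eq hsurj }
  have hfg : P.ker.FG := by
    classical
    refine ⟨(Finset.univ : Finset (Fin c)).image (f : Fin c → P.Ring), ?_⟩
    rw [Finset.coe_image, Finset.coe_univ, Set.image_univ]; exact hker
  haveI : Algebra.FormallySmooth R P.Ring := inferInstanceAs (Algebra.FormallySmooth R Q)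
  haveI : Module.Free P.Ring Ω[P.Ring⁄R] := inferInstanceAs (Module.Free Q Ω[Q⁄R])
  haveI : Module.Finite P.Ring Ω[P.Ring⁄R] := inferInstanceAs (Module.Finite Q Ω[Q⁄R])
  rw [Algebra.FormallySmooth.iff_injective_lTensor_residueField P hfg]
  let g : Fin c → P.Cotangent := fun i =>
    Algebra.Extension.Cotangent.mk ⟨f i, hker.le (Ideal.subset_span ⟨i, rfl⟩)⟩
  have hspan : Submodule.span L (Set.range g) = ⊤ :=
    Algebra.Extension.Cotangent.span_eq_top_of_span_eq_ker (P := P) f hker
  have hli : LinearIndependent L g := by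
    rw [Fintype.linearIndependent_iff]
    intro l hl i
    choose a ha using fun i => hsurj (l i)
    have hl' : Algebra.Extension.Cotangent.mk (P := P)
        (∑ i, (a i : P.Ring) • (⟨f i, hker.le (Ideal.subset_span ⟨i, rfl⟩)⟩ : P.ker)) = 0 := by
      rw [map_sum, ← hl]
      refine Finset.sum_congr rfl fun j _ => ?_
      rw [map_smul, ← ha j]
      exact (algebraMap_smul L (a j : P.Ring) (g j)).symm
    rw [Algebra.Extension.Cotangent.mk_eq_zero_iff] at hl'
    have hmem : ∑ j, a j * f j ∈ Ideal.span (Set.range f) ^ 2 := by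
      rw [hker]
      simpa using hl'
    have := CAlgH.KoszulRegular.coeff_mem_of_mem_sq hk hmem i
    rw [hker, RingHom.mem_ker] at this
    rw [← ha i, this]
  let bC : Module.Basis (Fin c) L P.Cotangent := Module.Basis.mk hli hspan.ge
  let bS : Module.Basis (Fin (m + c)) L P.CotangentSpace := b.baseChange L
  let κ := ResidueField L
  haveI : Module.Finite κ (κ ⊗[L] P.Cotangent) := .of_basis (bC.baseChange κ)
  haveI : Module.Finite κ (κ ⊗[L] P.CotangentSpace) := .of_basis (bS.baseChange κ)
  let T := P.cotangentComplex.baseChange κ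
  let M := P.toKaehler.baseChange κ
  have hT : Function.Exact T M :=
    lTensor_exact κ P.exact_cotangentComplex_toKaehler P.toKaehler_surjective
  have hM : Function.Surjective M := LinearMap.lTensor_surjective κ P.toKaehler_surjective
  have h1 : Module.finrank κ (κ ⊗[L] P.Cotangent) = c := by
    rw [Module.finrank_eq_card_basis (bC.baseChange κ), Fintype.card_fin]
  have h2 : Module.finrank κ (κ ⊗[L] P.CotangentSpace) = m + c := by
    rw [Module.finrank_eq_card_basis (bS.baseChange κ), Fintype.card_fin]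
  have h3 := LinearMap.finrank_range_add_finrank_ker M
  rw [LinearMap.range_eq_top.2 hM, finrank_top, h2, hT.linearMap_ker_eq] at h3
  have h4 := LinearMap.finrank_range_add_finrank_ker T
  rw [h1] at h4
  change Function.Injective T ↔ _
  show _ ↔ Module.finrank κ (κ ⊗[L] Ω[L⁄R]) ≤ m
  rw [← LinearMap.ker_eq_bot, ← Submodule.finrank_eq_zero]
  omega

theorem germ_stalkMap_congr {A B : Scheme.{u}} {g g' : A ⟶ B} (h : g = g') (a : A) {O : B.Opens}
    (ha : g a ∈ O) (ha' : g' a ∈ O) (r : Γ(B, O)) :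
    g.stalkMap a (B.presheaf.germ O (g a) ha r) = g'.stalkMap a (B.presheaf.germ O (g' a) ha' r) := by
  subst h; rfl

theorem main {Y X : Scheme.{u}} (f : Y ⟶ X) [LocallyOfFinitePresentation f] [QuasiSeparated f] (m : ℕ) (y : ↥Y)
    (hlci : ∃ (U : Y.Opens) (P : Scheme.{u}) (i : (U : Scheme.{u}) ⟶ P) (π : P ⟶ X) (c : ℕ),
      y ∈ U ∧ RegImm.IsRegularImmersionOfCodim RegImm.Kind.koszul c i ∧
        SmoothOfRelativeDimension (m + c) π ∧ i ≫ π = U.ι ≫ f) :
    (∃ V : Y.Opens, y ∈ V ∧ Smooth (V.ι ≫ f)) ↔ y ∉ (Fitt.sheafIdeal (Omega.sheaf f) m).support := by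
  obtain ⟨U, P, i, π, c, hyU, ⟨himm, hi⟩, hπ, hcomp⟩ := hlci
  haveI := himm
  let y' : (U : Scheme.{u}) := ⟨y, hyU⟩
  obtain ⟨⟨W, hW⟩, hyW, hcl, rs, hlen, hseq, hker⟩ := hi y'
  haveI := hcl
  subst hlen
  obtain ⟨O, hO, V', hV', hyV', e', hstd⟩ :=
    SmoothOfRelativeDimension.exists_isStandardSmoothOfRelativeDimension (n := m + rs.length) (f := π) (i y')
  have hfy : f y ∈ O := by
    have : (i ≫ π) y' ∈ O := e' hyV'
    rw [hcomp] at this
    exact this
  obtain ⟨V, hV, hyV, hVle⟩ := exists_isAffineOpen_mem_and_subset (x := y) (U := U ⊓ f ⁻¹ᵁ O) ⟨hyU, hfy⟩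
  have e : V ≤ f ⁻¹ᵁ O := fun z hz => (hVle hz).2
  rw [SmoothLib.smooth_nhd_iff, FittSmooth.mem_support_omega_iff f hO hV e hyV m, not_not,
    formallySmooth_stalkMap_iff O hO V hV e hyV]
  let R := Γ(X, O)
  let T := Γ(Y, V)
  letI algRT : Algebra R T := (f.appLE O V e).hom.toAlgebra
  let q := (hV.primeIdealOf ⟨y, hyV⟩).asIdeal
  let L := Localization.AtPrime q
  let Q := P.presheaf.stalk (i y')
  -- the ambient local ring
  letI algRB : Algebra R Γ(P, V') := (π.appLE O V' e').hom.toAlgebra
  haveI : Algebra.IsStandardSmoothOfRelativeDimension (m + rs.length) R Γ(P, V') := hstd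
  haveI : Algebra.IsStandardSmooth R Γ(P, V') :=
    Algebra.IsStandardSmoothOfRelativeDimension.isStandardSmooth (m + rs.length)
  letI algBQ : Algebra Γ(P, V') Q := (P.presheaf.germ V' (i y') hyV').hom.toAlgebra
  letI algRQ : Algebra R Q := ((π.appLE O V' e') ≫ P.presheaf.germ V' (i y') hyV').hom.toAlgebra
  haveI : IsScalarTower R Γ(P, V') Q := IsScalarTower.of_algebraMap_eq' rfl
  haveI : IsLocalization.AtPrime Q (hV'.primeIdealOf ⟨i y', hyV'⟩).asIdeal :=
    hV'.isLocalization_stalk ⟨i y', hyV'⟩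
  haveI : Algebra.FormallyEtale Γ(P, V') Q :=
    .of_isLocalization (hV'.primeIdealOf ⟨i y', hyV'⟩).asIdeal.primeCompl
  haveI : Algebra.FormallySmooth R Q := Algebra.FormallySmooth.comp R Γ(P, V') Q
  obtain ⟨b₀⟩ := OmegaLib.exists_basis_kaehler R Γ(P, V') (m + rs.length)
  let b : Module.Basis (Fin (m + rs.length)) Q Ω[Q⁄R] :=
    (b₀.baseChange Q).map (KaehlerDifferential.tensorKaehlerEquivOfFormallyEtale R Γ(P, V') Q)
  -- the local ring of `Y`
  letI algTS : Algebra T (Y.presheaf.stalk y) := (Y.presheaf.germ V y hyV).hom.toAlgebra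
  haveI : IsLocalization.AtPrime (Y.presheaf.stalk y) q := hV.isLocalization_stalk ⟨y, hyV⟩
  let e₀ : Y.presheaf.stalk y ≃ₐ[T] L := IsLocalization.algEquiv q.primeCompl _ _
  let φ : Q →+* L := e₀.toRingEquiv.toRingHom.comp
    ((U.stalkIso y').hom.hom.comp (i.stalkMap y').hom)
  letI algQL : Algebra Q L := φ.toAlgebra
  haveI : IsScalarTower R Q L := IsScalarTower.of_algebraMap_eq fun r => by
    rw [IsScalarTower.algebraMap_apply R T L]
    show algebraMap T L (f.appLE O V e r) =
      e₀ ((U.stalkIso y').hom (i.stalkMap y' (P.presheaf.germ V' (i y') hyV' (π.appLE O V' e' r))))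
    rw [← e₀.commutes]
    congr 1
    show Y.presheaf.germ V y hyV (f.appLE O V e r) = _
    have h1 : P.presheaf.germ V' (i y') hyV' (π.appLE O V' e' r) =
        π.stalkMap (i y') (X.presheaf.germ O (π (i y')) (e' hyV') r) := by
      rw [Scheme.Hom.germ_stalkMap_apply, Scheme.Hom.appLE, CommRingCat.comp_apply, TopCat.Presheaf.germ_res_apply]
    have h2 : Y.presheaf.germ V y hyV (f.appLE O V e r) =
        f.stalkMap y (X.presheaf.germ O (f y) hfy r) := by
      rw [Scheme.Hom.germ_stalkMap_apply, Scheme.Hom.appLE, CommRingCat.comp_apply, TopCat.Presheaf.germ_res_apply]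
    rw [h1, h2]
    have hc : i.stalkMap y' (π.stalkMap (i y') (X.presheaf.germ O (π (i y')) (e' hyV') r)) =
        U.ι.stalkMap y' (f.stalkMap y (X.presheaf.germ O (f y) hfy r)) := by
      have h3 := ConcreteCategory.congr_hom (Scheme.Hom.stalkMap_comp i π y')
        (X.presheaf.germ O (π (i y')) (e' hyV') r)
      have h4 := ConcreteCategory.congr_hom (Scheme.Hom.stalkMap_comp U.ι f y')
        (X.presheaf.germ O (f y) hfy r)
      exact h3.symm.trans ((germ_stalkMap_congr hcomp y' (e' hyV') hfy r).trans h4)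
    rw [hc, ← Scheme.Opens.stalkIso_inv]
    exact (Iso.inv_hom_id_apply (U.stalkIso y') _).symm
  have hiso : Function.Bijective (U.stalkIso y').hom.hom := ConcreteCategory.bijective_of_isIso _
  have hsurj : Function.Surjective (algebraMap Q L) :=
    e₀.surjective.comp (hiso.2.comp (i.stalkMap_surjective y'))
  letI algWQ : Algebra Γ(P, W) Q := (P.presheaf.germ W (i y') hyW).hom.toAlgebra
  haveI : IsLocalization.AtPrime Q (hW.primeIdealOf ⟨i y', hyW⟩).asIdeal := hW.isLocalization_stalk ⟨i y', hyW⟩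
  haveI : Module.Flat Γ(P, W) Q := IsLocalization.flat Q (hW.primeIdealOf ⟨i y', hyW⟩).asIdeal.primeCompl
  have hk : CAlgH.KoszulRegular.KReg fun j => algebraMap Γ(P, W) Q (rs.get j) :=
    CAlgH.KoszulRegular.KReg.map ((CAlgH.KoszulRegular.isKoszulRegularSeq_iff rs.get).1 (by
      rw [List.ofFn_get]; exact hseq))
  have hker' : Ideal.span (Set.range fun j => algebraMap Γ(P, W) Q (rs.get j)) =
      RingHom.ker (algebraMap Q L) := by
    have h : RingHom.ker (algebraMap Q L) = RingHom.ker (i.stalkMap y').hom := by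
      show RingHom.ker φ = _
      ext z
      simp only [RingHom.mem_ker]
      exact ⟨fun hz => hiso.1 ((e₀.injective (hz.trans (map_zero e₀).symm)).trans (map_zero _).symm),
        fun hz => (congrArg (fun w => e₀ ((U.stalkIso y').hom.hom w)) hz).trans
          ((congrArg e₀ (map_zero (U.stalkIso y').hom.hom)).trans (map_zero e₀))⟩
    rw [h, CAlgH.RegImmStalk.ker_stalkMap_eq i y' hW hyW, hker,
      ← CAlgH.KoszulRegular.span_range_get, Ideal.map_span, ← Set.range_comp]
    rfl
  show Algebra.FormallySmooth R L ↔ _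
  rw [formallySmooth_iff_finrank_le hsurj b _ hk hker']
  haveI : Algebra.FormallyEtale T L := .of_isLocalization q.primeCompl
  let E : ResidueField L ⊗[L] Ω[L⁄R] ≃ₗ[ResidueField L] ResidueField L ⊗[T] Ω[T⁄R] :=
    ((KaehlerDifferential.tensorKaehlerEquivOfFormallyEtale R T L).symm.baseChange L (ResidueField L) _ _).trans
      (AlgebraTensorModule.cancelBaseChange T L (ResidueField L) (ResidueField L) Ω[T⁄R])
  rw [E.finrank_eq]

end Groth.Agent.CAlgH3.FittLci
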