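import Groth.Agent.MorProj.OmegaStalk
import Groth.Agent.FlatMor12.FittSheaf
import Groth.Agent.OmegaLib.DOmega
import Groth.Agent.FlatMorAdm.ExtendLocFree
import Groth.Agent.Omega15.Geometry
import Groth.Agent.Omega15.Compat
import Groth.Agent.FlatLocal.StalkCrit
import Groth.Agent.FittLib.Basic
import Groth.Agent.EGA43.QcohFP

/-! Fitting ideal sheaves of the sheaf of differentials. -/

set_option autoImplicit false
set_option backward.isDefEq.respectTransparency.types false
set_option linter.style.haveILetI false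
universe u

open CategoryTheory CategoryTheory.Limits AlgebraicGeometry TopologicalSpace Opposite KaehlerDifferential

namespace Groth.Agent.CAlgH3.FittOmega

theorem isFT_omega {X S : Scheme.{u}} (f : X ⟶ S) [LocallyOfFiniteType f] [QuasiSeparated f] :
    CohB1.IsFT (Omega.sheaf f) := by
  haveI := MorProj.isQCoh_omega f
  have h : ∀ x : X, ∃ (U : X.Opens), x ∈ U ∧ IsAffineOpen U ∧ Module.Finite Γ(X, U) Γ(Omega.sheaf f, U) := by
    intro x
    obtain ⟨V, hV, hxV, -⟩ := exists_isAffineOpen_mem_and_subset (x := f x) (U := (⊤ : S.Opens)) trivial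
    obtain ⟨U, hU, hxU, hUV⟩ := exists_isAffineOpen_mem_and_subset (x := x) (U := f ⁻¹ᵁ V) hxV
    refine ⟨U, hxU, hU, ?_⟩
    letI := (f.appLE V U hUV).hom.toAlgebra
    obtain ⟨ψ, -⟩ := OmegaLib.exists_omega_sections_equiv f hUV hV hU
    haveI : Algebra.FiniteType Γ(S, V) Γ(X, U) :=
      HasRingHomProperty.appLE @LocallyOfFiniteType f inferInstance ⟨V, hV⟩ ⟨U, hU⟩ hUV
    exact Module.Finite.equiv ψ
  choose U hx hU hfin using h
  exact Coherent.isFT_of_locallyFinGen
    (Coherent.locallyFinGen_of_finite_sections (Omega.sheaf f) U hU (fun x => ⟨x, hx x⟩) hfin)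

theorem mem_support_sheafIdeal_zero_iff {X : Scheme.{u}} (M : X.Modules) [Coh.IsQCoh M] (hM : CohB1.IsFT M)
    (x : X) : x ∈ (Fitt.sheafIdeal M 0).support ↔ Nontrivial (M.presheaf.stalk x) := by
  obtain ⟨U, hU, hxU, -⟩ := exists_isAffineOpen_mem_and_subset (x := x) (U := (⊤ : X.Opens)) trivial
  haveI := FlatMor12.FittSheaf.finite_affine M hM ⟨U, hU⟩
  rw [Scheme.IdealSheafData.mem_support_iff_of_mem (U := ⟨U, hU⟩) hxU, FlatMor12.FittSheaf.ideal_eq M hM]
  letI : Algebra Γ(X, U) (X.presheaf.stalk x) := (X.presheaf.germ U x hxU).hom.toAlgebra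
  letI := Module.compHom (M.presheaf.stalk x) (X.presheaf.germ U x hxU).hom
  let φ : Γ(M, U) →ₗ[Γ(X, U)] M.presheaf.stalk x :=
    { toFun := fun m => M.presheaf.germ U x hxU m
      map_add' := fun a b => map_add _ a b
      map_smul' := fun r m => by exact QCohLoc.germ_smul' M hxU r m }
  let q := hU.primeIdealOf ⟨x, hxU⟩
  haveI : IsLocalizedModule q.asIdeal.primeCompl φ := EGA43.QcohFP.isLocalizedModule_germ M hU hxU φ fun _ => rfl
  have hz : x ∈ X.zeroLocus (U := U) (Fitt.ideal Γ(X, U) Γ(M, U) 0 : Set Γ(X, U)) ↔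
      q ∈ PrimeSpectrum.zeroLocus (Fitt.ideal Γ(X, U) Γ(M, U) 0 : Set Γ(X, U)) := by
    have h := hU.fromSpec_preimage_zeroLocus (Fitt.ideal Γ(X, U) Γ(M, U) 0 : Set Γ(X, U))
    conv_lhs => rw [show x = hU.fromSpec q from (hU.fromSpec_primeIdealOf ⟨x, hxU⟩).symm]
    exact Set.ext_iff.1 h q
  rw [hz, FittLib.zeroLocus_ideal_zero, Module.mem_support_iff]
  exact (IsLocalizedModule.iso q.asIdeal.primeCompl φ).toEquiv.nontrivial_congr

theorem support_omega_zero {X S : Scheme.{u}} (f : X ⟶ S) [LocallyOfFiniteType f] [QuasiSeparated f] (x : X) :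
    x ∈ (Fitt.sheafIdeal (Omega.sheaf f) 0).support ↔ ¬ ∃ U : X.Opens, x ∈ U ∧ FormallyUnramified (U.ι ≫ f) := by
  haveI := MorProj.isQCoh_omega f
  rw [mem_support_sheafIdeal_zero_iff _ (isFT_omega f), FlatLocal.formallyUnramified_nhd_iff,
    ← MorProj.subsingleton_omega_stalk_iff, not_subsingleton_iff_nontrivial]

theorem comap_omega {X S S' : Scheme.{u}} (f : X ⟶ S) [LocallyOfFiniteType f] [QuasiSeparated f] (g : S' ⟶ S)
    (i : ℕ) :
    (Fitt.sheafIdeal (Omega.sheaf f) i).comap (pullback.fst f g) =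
      Fitt.sheafIdeal (Omega.sheaf (pullback.snd f g)) i := by
  haveI := MorProj.isQCoh_omega f
  haveI := MorProj.isQCoh_omega (pullback.snd f g)
  rw [FlatMor12.FittSheaf.comap_eq _ _ (isFT_omega f)]
  haveI hq : Coh.IsQCoh ((Scheme.Modules.pullback (pullback.fst f g)).obj (Omega.sheaf f)) :=
    EGA43.InjFibre.isQCoh_pullback _ _
  obtain ⟨c, hc, -⟩ := Omega15.existsUnique_compat (f := f) (f' := pullback.snd f g) (pullback.fst f g) g
    pullback.condition.symm (OmegaLib.isUniversal_dOmega f) (OmegaSh.dOmega (pullback.snd f g))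
  haveI : IsIso c := Omega15.isIso_of_isPullback (IsPullback.of_hasPullback f g)
    (OmegaLib.isUniversal_dOmega f) (OmegaLib.isUniversal_dOmega _) hc
  refine FlatMorAdm.sheafIdeal_congr ?_ (isFT_omega (pullback.snd f g)) (asIso c) i
  exact Coherent.isFT_of_epi (inv c) (isFT_omega (pullback.snd f g))

end Groth.Agent.CAlgH3.FittOmega
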