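import Groth.Agent.FlatMor12.FittSheaf
import Groth.Agent.FittLib.StrictTransform
import Groth.Agent.FlatMorAdm.ExtendLocFree
import Groth.Prelude.Def_BlowUp2

/-! Strict transforms along blow-ups of Fitting ideals are locally generated by `k` sections. -/

set_option autoImplicit false
set_option backward.isDefEq.respectTransparency.types false
set_option linter.style.haveILetI false
universe u

open CategoryTheory CategoryTheory.Limits AlgebraicGeometry TopologicalSpace Opposite
open Groth.Agent.Coherent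

namespace Groth.Agent.CAlgH3.FittStrict

variable {X' : Scheme.{u}} {N G : X'.Modules}

/-- Modulo the kernel, sections generating up to power torsion generate. -/
theorem genOn_of_span_mod (π : N ⟶ G) [Epi π] [Coh.IsQCoh N] (E : X'.IdealSheafData) (V : X'.affineOpens)
    {a : Γ(X', V.1)} (ha : E.ideal V = Ideal.span {a})
    (hker : ∀ (W : X'.affineOpens) (m : Γ(N, W.1)), BlowUp.KilledByPowerNear E N W m → π.app W.1 m = 0)
    {I : Type u} [Fintype I] (g : I → Γ(N, V.1)) (D : Γ(X', V.1))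
    (hD : ∀ t : Γ(N, V.1), ∃ (c : I → Γ(X', V.1)) (e : ℕ), a ^ e • (D • t - ∑ i, c i • g i) = 0) :
    GenOn G (X'.basicOpen D) (fun i => π.app (X'.basicOpen D) (resM N (X'.basicOpen_le D) (g i))) := by
  intro W hW z y hy
  obtain ⟨W₁, hW₁, hy₁, m, hm⟩ := exists_lift_of_epi π W z y hy
  obtain ⟨h, hh, hyh⟩ := V.2.exists_basicOpen_le ⟨y, hy₁⟩ (X'.basicOpen_le D (hW (hW₁ hy₁)))
  obtain ⟨n, t, ht⟩ := qcoh_exists_pow_smul V.2 N h (resM N hh m)
  obtain ⟨c, e, hce⟩ := hD t
  refine ⟨X'.basicOpen h, hh.trans hW₁, hyh, ?_⟩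
  let W₂ : X'.affineOpens := X'.affineBasicOpen h
  let r := (X'.presheaf.map (homOfLE (X'.basicOpen_le h)).op).hom
  have hk : π.app (X'.basicOpen h) (resM N (X'.basicOpen_le h) (D • t - ∑ i, c i • g i)) = 0 := by
    refine hker W₂ _ ⟨e, fun b hb => ?_⟩
    have hb' : (b : Γ(X', X'.basicOpen h)) ∈ ((Ideal.span {a}).map r) ^ e := by
      rw [← ha]
      have := E.map_ideal_basicOpen V h
      rw [show (Ideal.map r (E.ideal V)) = E.ideal W₂ from this]
      rw [Scheme.IdealSheafData.ideal_pow] at hb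
      exact hb
    rw [Ideal.map_span, Set.image_singleton, Ideal.span_singleton_pow] at hb'
    have hb'' : ∃ b' : Γ(X', X'.basicOpen h), b' * r a ^ e = @id Γ(X', X'.basicOpen h) b :=
      Ideal.mem_span_singleton'.1 hb'
    obtain ⟨b', hb'⟩ := hb''
    have := congrArg (resM N (X'.basicOpen_le h)) hce
    rw [map_zero, resM_smul, map_pow] at this
    show (@id Γ(X', X'.basicOpen h) b) • resM N (X'.basicOpen_le h) (D • t - ∑ i, c i • g i) = 0
    rw [show @id Γ(X', X'.basicOpen h) b = b' * r a ^ e from hb'.symm, mul_smul]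
    exact (congrArg (b' • ·) this).trans (smul_zero _)
  have hDu : IsUnit (r D * r (h ^ n)) := by
    refine IsUnit.mul ?_ ?_
    · have h1 : X'.basicOpen h ≤ X'.basicOpen D := (hh.trans hW₁).trans hW
      simpa using isUnit_res_pow D (X'.basicOpen_le h) h1 1
    · rw [map_pow]
      simpa using isUnit_res_pow h (X'.basicOpen_le h) le_rfl n
  obtain ⟨w, hw⟩ := hDu.exists_left_inv
  refine ⟨fun i => w * r (c i), ?_⟩
  rw [map_sub, map_sub, sub_eq_zero, map_sum, map_sum, resM_smul, ht, smul_smul, Scheme.Modules.Hom.app_smul] at hk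
  have h2 : π.app (X'.basicOpen h) (resM N hh m) = resM G (hh.trans hW₁) z := by
    rw [app_resM, hm, resM_resM]
  rw [h2] at hk
  have h3 := congrArg (w • ·) hk
  simp only [smul_smul] at h3
  rw [hw, one_smul] at h3
  refine h3.trans ?_
  rw [Finset.smul_sum]
  refine Finset.sum_congr rfl fun i _ => ?_
  rw [← app_resM π, resM_resM, resM_smul, Scheme.Modules.Hom.app_smul, smul_smul]

theorem main (S : Scheme.{u}) (F : S.Modules) (hF : Coh.IsQCoh F) (hft : CohB1.IsFT F)
    (k : ℕ) {S' : Scheme.{u}} (b : S' ⟶ S) (hb : BlowUp.IsBlowUp b (Fitt.sheafIdeal F k)) (G : S'.Modules)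
    (π : (Scheme.Modules.pullback b).obj F ⟶ G) (hG : BlowUp.IsStrictTransform b (Fitt.sheafIdeal F k) F G π)
    (s' : ↥S') :
    ∃ U : S'.Opens, s' ∈ U ∧ ∃ q : FlatMod.freeMod (↑U) k ⟶ G.restrict U.ι, Epi q := by
  haveI := hF
  let N := (Scheme.Modules.pullback b).obj F
  haveI : Coh.IsQCoh N := EGA43.InjFibre.isQCoh_pullback b F
  have hN : CohB1.IsFT N := isFT_pullback_qcoh b (F := F) hF hft
  haveI : Epi π := hG.1
  let E := BlowUp.exceptional b (Fitt.sheafIdeal F k)
  obtain ⟨V, hsV, a, ha0, ha⟩ := hb.1 s'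
  have hE : Fitt.ideal Γ(S', V.1) Γ(N, V.1) k = Ideal.span {a} := by
    rw [← FlatMor12.FittSheaf.ideal_eq N hN, ← FlatMor12.FittSheaf.comap_eq F b hft, ha]
  haveI := FlatMor12.FittSheaf.finite_affine N hN V
  let T := FlatCA.powTorsion Γ(S', V.1) a Γ(N, V.1)
  have htop : Fitt.ideal Γ(S', V.1) (Γ(N, V.1) ⧸ T) k = ⊤ :=
    FittLib.ideal_quotient_eq_top k ha0 (hE ▸ Ideal.mem_span_singleton_self a) hE.le T
      fun m hm => FittLib.mem_powTorsion_of_smul hm
  obtain ⟨D, g, hDp, hg⟩ := FittLib.exists_not_mem_smul_mem_span (R := Γ(S', V.1)) (M := Γ(N, V.1) ⧸ T) (k := k)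
    (p := (V.2.primeIdealOf ⟨s', hsV⟩).asIdeal)
    (fun hle => (V.2.primeIdealOf ⟨s', hsV⟩).isPrime.ne_top (top_le_iff.1 (htop ▸ hle)))
  choose g' hg' using fun i => T.mkQ_surjective (g i)
  have hgen := genOn_of_span_mod π E V ha (fun W m hm => (hG.2 W m).2 hm)
    (fun i : ULift.{u} (Fin k) => g' i.down) D (fun t => by
      obtain ⟨c, hc⟩ := (Submodule.mem_span_range_iff_exists_fun _).1 (hg (T.mkQ t))
      have hmem : D • t - ∑ i : ULift.{u} (Fin k), c i.down • g' i.down ∈ T := by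
        rw [← Submodule.Quotient.mk_eq_zero, ← Submodule.mkQ_apply, map_sub, map_sum, map_smul, ← hc,
          sub_eq_zero]
        refine (Fintype.sum_equiv Equiv.ulift _ _ fun i => ?_).symm
        rw [map_smul, hg']
        rfl
      obtain ⟨e, he⟩ := FittLib.exists_pow_smul_of_mem_powTorsion hmem
      exact ⟨fun i => c i.down, e, he⟩)
  let U := S'.basicOpen D
  refine ⟨U, (EGA43.InjFibre.mem_basicOpen_iff_notMem V.2 hsV D).2 hDp, ?_⟩
  let t : ULift.{u} (Fin k) → Γ(G.restrict U.ι, ⊤) := fun i =>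
    (G.restrictAppIso U.ι ⊤).inv (resM G (Scheme.Opens.ι_image_top U).le
      (π.app U (resM N (S'.basicOpen_le D) (g' i.down))))
  have he : Epi (freeDesc fun i => unitDesc (G.restrict U.ι) (t i)) := epi_of_genOn_top
    (genOn_restrict_of_genOn U.ι G (U := ⊤) (hgen.res (Scheme.Opens.ι_image_top U).le))
  exact ⟨(Props12.freeModIso U.toScheme k).inv ≫ freeDesc (fun i => unitDesc (G.restrict U.ι) (t i)),
    epi_comp _ _⟩

end Groth.Agent.CAlgH3.FittStrict
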