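import Groth.Agent.CAlgH3.FittStrictFree
import Groth.Agent.EGA43.FPKernel
import Groth.Agent.Desc19b.ModStFibGrpd
import Groth.Agent.CAlgSmall.FPExtend
import Groth.Agent.CAlgH3.LocFreeFactor
import Groth.Agent.BlowUpCoh.Regular

/-! Flattening by blowing up a Fitting ideal when the module is free on a schematically dense open. -/

set_option autoImplicit false
set_option backward.isDefEq.respectTransparency.types false
set_option linter.style.haveILetI false
universe u

open CategoryTheory CategoryTheory.Limits AlgebraicGeometry TopologicalSpace Opposite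
open Groth.Agent.Coherent

namespace Groth.Agent.CAlgH3.FittStrictAdm

variable {X : Scheme.{u}}

/-- An ideal vanishing on a schematically dense open vanishes. -/
theorem eq_bot_of_dense {U : X.Opens} (hU : CInt.IsSchematicallyDense U) (I : X.IdealSheafData)
    (h : I.comap U.ι = ⊥) : I = ⊥ :=
  le_bot_iff.1 fun W t ht => by
    show t = 0
    refine hU W.1 ?_
    rw [map_zero]
    exact FlatMorAdm.res_eq_zero_of_comap_eq_bot I U h W ht

theorem isFlatOver_id {M : X.Modules} (h : FlatMod.IsFlat M) : FlatMod.IsFlatOver (𝟙 X) M := fun x => by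
  have hid : ((𝟙 X : X ⟶ X).stalkMap x).hom = RingHom.id _ := by
    rw [Scheme.Hom.stalkMap_id]; rfl
  unfold FlatMod.IsFlatOverAt FlatMod.moduleStalkOver
  rw [hid]
  exact h x

/-- An epimorphism killing only power torsion is injective away from the center. -/
theorem app_injective_of_disjoint {N G : X.Modules} (π : N ⟶ G) (E : X.IdealSheafData) (W : X.Opens)
    (hW : E.comap W.ι = ⊤)
    (hker : ∀ (V : X.affineOpens) (m : Γ(N, V.1)), π.app V.1 m = 0 → BlowUp.KilledByPowerNear E N V m)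
    {P : X.Opens} (hP : P ≤ W) : Function.Injective (π.app P) := by
  refine (injective_iff_map_eq_zero _).2 fun m hm => ?_
  have hloc : ∀ y : P, ∃ V : X.affineOpens, V.1 ≤ P ∧ y.1 ∈ V.1 := fun y => by
    obtain ⟨V, hV, hy, hVP⟩ := exists_isAffineOpen_mem_and_subset (x := y.1) (U := P) y.2
    exact ⟨⟨V, hV⟩, hVP, hy⟩
  choose V hV hy using hloc
  refine TopCat.Sheaf.eq_of_locally_eq' ⟨N.presheaf, N.isSheaf⟩ (fun y : P => (V y).1) P
    (fun y => homOfLE (hV y)) (fun x hx => Opens.mem_iSup.2 ⟨⟨x, hx⟩, hy ⟨x, hx⟩⟩) _ _ fun y => ?_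
  show resM N (hV y) m = resM N (hV y) 0
  rw [map_zero]
  obtain ⟨n, hn⟩ := hker (V y) (resM N (hV y) m) (by rw [app_resM, hm, map_zero])
  have htop : E.ideal (V y) = ⊤ := BlowUpCoh.ideal_eq_top_of_disjoint (I := E) (V y) fun x hx =>
    FlatMorAdm.not_mem_support_of_comap_eq_top hW (hP (hV y hx))
  have h1 := hn 1 (by rw [Scheme.IdealSheafData.ideal_pow]; show (1 : Γ(X, (V y).1)) ∈ E.ideal (V y) ^ n; rw [htop, ← Ideal.one_eq_top, one_pow, Ideal.one_eq_top]; exact Submodule.mem_top)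
  rwa [one_smul] at h1

theorem isZero_restrict_kernel {N G : X.Modules} (π : N ⟶ G) (E : X.IdealSheafData) (W : X.Opens)
    (hW : E.comap W.ι = ⊤)
    (hker : ∀ (V : X.affineOpens) (m : Γ(N, V.1)), π.app V.1 m = 0 → BlowUp.KilledByPowerNear E N V m) :
    IsZero ((kernel π).restrict W.ι) := by
  let R := Scheme.Modules.restrictFunctor W.ι
  haveI : Mono (R.map π) := MeroLib.mono_of_app_injective _ fun P =>
    app_injective_of_disjoint π E W hW hker (W.ι_image_le P)
  haveI : Mono (R.map (kernel.ι π)) := MeroLib.mono_of_app_injective _ fun P =>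
    app_injective_of_mono (kernel.ι π) _
  have h0 : R.map (kernel.ι π) = 0 := by
    rw [← cancel_mono (R.map π), ← R.map_comp, kernel.condition, R.map_zero, zero_comp]
  exact IsZero.of_mono_eq_zero _ h0

theorem main (F : X.Modules) (hF : CohB1.IsFP F)
    (U : X.Opens) (hU : CInt.IsSchematicallyDense U) (r : ℕ)
    (hfree : FlatMod.IsFinLocFreeOfRank r (F.restrict U.ι)) :
    BlowUp.IsAdmissibleFor U (Fitt.sheafIdeal F r) ∧
      ∀ (X' : Scheme.{u}) (b : X' ⟶ X), BlowUp.IsBlowUp b (Fitt.sheafIdeal F r) →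
        ∀ (G : X'.Modules) (π : (Scheme.Modules.pullback b).obj F ⟶ G),
          BlowUp.IsStrictTransform b (Fitt.sheafIdeal F r) F G π →
          FlatMod.IsFinLocFreeOfRank r G ∧ CohB1.IsFP (kernel π) ∧ IsZero ((kernel π).restrict (b ⁻¹ᵁ U).ι) := by
  haveI hq : Coh.IsQCoh F := CAlgSmall.FPExtend.isQCoh_of_isFP F hF
  have hft : CohB1.IsFT F := CAlgSmall.FPExtend.isFT_of_isFP F hF
  have hres : ∀ V : X.Opens, CohB1.IsFT (F.restrict V.ι) := fun V =>
    isFT_of_epi ((Scheme.Modules.restrictFunctorIsoPullback V.ι).app F).inv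
      (isFT_pullback_qcoh _ (F := F) hq hft)
  obtain ⟨hlo, hhi⟩ := (FlatMor12.FittSheaf.isFinLocFreeOfRank_iff _ (hres U) r).1 hfree
  have htopU : (Fitt.sheafIdeal F r).comap U.ι = ⊤ := by
    rw [FlatMorAdm.comap_ι_sheafIdeal F hft]; exact hhi r le_rfl
  refine ⟨⟨fun W => FlatMor12.FittSheaf.isFiniteTypeIdeal F hF r W, Set.disjoint_right.2 fun x hx =>
    FlatMorAdm.not_mem_support_of_comap_eq_top htopU hx⟩, fun X' b hb G π hG => ?_⟩
  have hbot : ∀ j, j < r → Fitt.sheafIdeal F j = ⊥ := fun j hj => eq_bot_of_dense hU _ (by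
    rw [FlatMorAdm.comap_ι_sheafIdeal F hft]; exact hlo j hj)
  let C : X.Opens := (Fitt.sheafIdeal F r).support.compl
  have htopC : (Fitt.sheafIdeal F r).comap C.ι = ⊤ := by
    rw [← Scheme.IdealSheafData.support_eq_bot_iff, Scheme.IdealSheafData.support_comap]
    exact SetLike.ext fun x => ⟨fun hx => absurd hx x.2, fun hx => False.elim hx⟩
  have hfreeC : FlatMod.IsFinLocFreeOfRank r (F.restrict C.ι) := by
    refine (FlatMor12.FittSheaf.isFinLocFreeOfRank_iff _ (hres C) r).2 ⟨fun j hj => ?_, fun j hj => ?_⟩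
    · rw [← FlatMorAdm.comap_ι_sheafIdeal F hft, hbot j hj, Scheme.IdealSheafData.comap_bot]
    · refine top_le_iff.1 ?_
      rw [← FlatMorAdm.comap_ι_sheafIdeal F hft, ← htopC]
      exact Scheme.IdealSheafData.comap_mono C.ι (FlatMor12.FittSheaf.sheafIdeal_mono F hft hj)
  have hGfree := CAlgH3.FittStrictFree.main X F hq hft r hfreeC b hb G π hG
  have hGlf : FlatMod.IsFinLocFree G := fun x => by
    obtain ⟨V, hV, e⟩ := hGfree x
    exact ⟨V, r, hV, e⟩
  haveI hGq : Coh.IsQCoh G := CAlgH3.LocFreeFactor.isQCoh_of_finLocFree hGlf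
  haveI : Epi π := hG.1
  haveI : Coh.IsQCoh ((Scheme.Modules.pullback b).obj F) := EGA43.InjFibre.isQCoh_pullback b F
  refine ⟨hGfree, EGA43.FPKernel.isFP_kernel (𝟙 X') (Desc19b.ModStFib.isFP_pullback b F hF)
    (Props12.isFP_of_isFinLocFree G hGlf) (isFlatOver_id (Props12.isFlat_of_isFinLocFree G hGlf)) π, ?_⟩
  refine isZero_restrict_kernel π _ (b ⁻¹ᵁ U) ?_ fun V m hm => (hG.2 V m).1 hm
  rw [← Scheme.IdealSheafData.comap_comp, ← morphismRestrict_ι, Scheme.IdealSheafData.comap_comp, htopU,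
    Scheme.IdealSheafData.comap_top]

end Groth.Agent.CAlgH3.FittStrictAdm
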