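import Groth.Agent.CAlgH3.FittStrict
import Groth.Agent.MeroLib.Torsion

/-! Strict transforms along blow-ups of Fitting ideals are locally free where the module was. -/

set_option autoImplicit false
set_option backward.isDefEq.respectTransparency.types false
set_option linter.style.haveILetI false
universe u

open CategoryTheory CategoryTheory.Limits AlgebraicGeometry TopologicalSpace Opposite
open Groth.Agent.Coherent

namespace Groth.Agent.CAlgH3.FittStrictFree

section algebra

variable {R : Type u} [CommRing R] {M : Type u} [AddCommGroup M] [Module R M] [Module.Finite R M]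

theorem ideal_quotient_powTorsion_eq_bot {a : R} (hnzd : a ∈ nonZeroDivisors R) (j : ℕ)
    (hkill : ∀ d ∈ Fitt.ideal R M j, ∃ m : ℕ, a ^ m * d = 0) :
    Fitt.ideal R (M ⧸ FlatCA.powTorsion R a M) j = ⊥ := by
  have hbot : Fitt.ideal R M j = ⊥ := (Submodule.eq_bot_iff _).2 fun d hd => by
    obtain ⟨t, ht⟩ := hkill d hd
    exact (mul_right_mem_nonZeroDivisors_eq_zero_iff (pow_mem hnzd t)).1 (by rwa [mul_comm])
  let N := FlatCA.powTorsion R a M
  obtain ⟨n, x, hx⟩ := FittLib.exists_generators R M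
  refine (Submodule.eq_bot_iff _).2 fun d hd => ?_
  rw [FittLib.ideal_eq (N.mkQ ∘ x) (FittLib.span_range_comp_eq_top _ N.mkQ_surjective x hx), FittLib.minorsOf] at hd
  induction hd using Submodule.span_induction with
  | zero => rfl
  | add p q _ _ hp hq => rw [hp, hq, add_zero]
  | smul r p _ hp => rw [hp, smul_zero]
  | mem d hd =>
    obtain ⟨z, e, hz, rfl⟩ := hd
    have hb : ∀ b, ∃ m : ℕ, a ^ m • (∑ i, z b i • x i) = 0 := fun b => by
      refine FittLib.exists_pow_smul_of_mem_powTorsion ((Submodule.Quotient.mk_eq_zero N).1 ?_)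
      simpa [← Submodule.mkQ_apply, map_sum] using FittLib.mem_rels.1 (hz b)
    obtain ⟨m, hm⟩ := FittLib.exists_uniform_pow_smul (fun b => ∑ i, z b i • x i) a hb
    have hrel : ∀ b, a ^ m • z b ∈ FittLib.rels R x := fun b => FittLib.mem_rels.2 <| by
      simpa [Finset.smul_sum, mul_smul] using hm b
    have h : (a ^ m) ^ (n - j) * (Matrix.of fun p b => z b (e p)).det ∈
        FittLib.minorsOf (FittLib.rels R x : Set (Fin n → R)) (n - j) := by
      refine FittLib.pow_mul_minorsOf_le (S := Set.range z) ?_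
        (FittLib.det_mem_of_card (S := Set.range z) z (fun b => ⟨b, rfl⟩) e (Fintype.card_fin _))
      rintro _ ⟨b, rfl⟩
      exact hrel b
    rw [← FittLib.ideal_eq x hx, hbot] at h
    exact (mul_right_mem_nonZeroDivisors_eq_zero_iff (pow_mem (pow_mem hnzd m) _)).1
      (by rwa [mul_comm, Submodule.mem_bot] at h)

theorem pow_mul_eq_zero_of_rel {k : ℕ} {D : R} (g : Fin k → M) (hg : ∀ m : M, D • m ∈ Submodule.span R (Set.range g))
    (hbot : ∀ j, j < k → Fitt.ideal R M j = ⊥) (d : Fin k → R) (hd : ∑ i, d i • g i = 0) (i : Fin k) :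
    ∃ q : ℕ, D ^ q * d i = 0 := by
  let S := Submonoid.powers D
  let f := LocalizedModule.mkLinearMap S M
  have hspan : Submodule.span (Localization S) (Set.range (f ∘ g)) = ⊤ := by
    refine eq_top_iff.2 fun y _ => ?_
    obtain ⟨⟨m, s⟩, hs⟩ := IsLocalizedModule.surj S f y
    have hD : IsUnit (algebraMap R (Localization S) D) := IsLocalization.map_units _ (⟨D, Submonoid.mem_powers D⟩ : S)
    have h1 : f (D • m) ∈ Submodule.span (Localization S) (Set.range (f ∘ g)) := by
      obtain ⟨c, hc⟩ := (Submodule.mem_span_range_iff_exists_fun R).1 (hg m)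
      rw [← hc, map_sum]
      refine Submodule.sum_mem _ fun l _ => ?_
      rw [map_smul, ← algebraMap_smul (Localization S) (c l)]
      exact Submodule.smul_mem _ _ (Submodule.subset_span ⟨l, rfl⟩)
    rw [map_smul, ← hs, Submonoid.smul_def, ← algebraMap_smul (Localization S) D,
      ← algebraMap_smul (Localization S) (s : R), Submodule.smul_mem_iff_of_isUnit _ hD,
      Submodule.smul_mem_iff_of_isUnit _ (IsLocalization.map_units _ s)] at h1
    exact h1
  obtain ⟨j, rfl⟩ : ∃ j, k = j + 1 := ⟨k - 1, by have := i.pos; omega⟩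
  have h := FittLib.ideal_localizedModule (R := R) (M := M) S j
  rw [hbot j (Nat.lt_succ_self j), Ideal.map_bot, FittLib.ideal_eq (f ∘ g) hspan j] at h
  have hmem : algebraMap R (Localization S) (d i) ∈
      FittLib.minorsOf (FittLib.rels (Localization S) (f ∘ g) : Set (Fin (j + 1) → Localization S)) (j + 1 - j) := by
    have hrel : (fun l => algebraMap R (Localization S) (d l)) ∈ FittLib.rels (Localization S) (f ∘ g) := by
      refine FittLib.mem_rels.2 ?_
      simp only [Function.comp_apply, algebraMap_smul, ← map_smul, ← map_sum, hd, map_zero]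
    have h' := FittLib.det_mem_of_card (S := (FittLib.rels (Localization S) (f ∘ g) : Set _)) (κ := Fin 1)
      (fun _ => fun l => algebraMap R (Localization S) (d l)) (fun _ => hrel) (fun _ => i)
      (q := j + 1 - j) (by simp)
    simpa using h'
  rw [h, Submodule.mem_bot] at hmem
  obtain ⟨⟨_, q, rfl⟩, hq⟩ := (IsLocalization.map_eq_zero_iff S (Localization S) (d i)).1 hmem
  exact ⟨q, hq⟩

end algebra

variable {X' : Scheme.{u}} {N G : X'.Modules}

/-- Relations modulo power torsion vanish on basic opens. -/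
theorem coeff_eq_zero (π : N ⟶ G) [Coh.IsQCoh N] (E : X'.IdealSheafData) (V : X'.affineOpens)
    {a : Γ(X', V.1)} (ha : E.ideal V = Ideal.span {a})
    (hker : ∀ (W : X'.affineOpens) (m : Γ(N, W.1)), π.app W.1 m = 0 → BlowUp.KilledByPowerNear E N W m)
    {k : ℕ} (g : Fin k → Γ(N, V.1)) (D : Γ(X', V.1))
    (hD : ∀ d : Fin k → Γ(X', V.1), (∃ e : ℕ, a ^ e • (∑ i, d i • g i) = 0) → ∀ i, ∃ q : ℕ, D ^ q * d i = 0)
    (h : Γ(X', V.1)) (hhD : X'.basicOpen h ≤ X'.basicOpen D) (c : Fin k → Γ(X', X'.basicOpen h))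
    (hc : ∑ i, c i • π.app (X'.basicOpen h) (resM N (X'.basicOpen_le h) (g i)) = 0) (i : Fin k) : c i = 0 := by
  classical
  let r := (X'.presheaf.map (homOfLE (X'.basicOpen_le h)).op).hom
  letI := r.toAlgebra
  haveI : IsLocalization.Away h Γ(X', X'.basicOpen h) := V.2.isLocalization_basicOpen h
  obtain ⟨⟨_, n, rfl⟩, hn⟩ := IsLocalization.exist_integer_multiples_of_finite (Submonoid.powers h) c
  choose c' hc' using hn
  have hc'' : ∀ l, r (c' l) = r (h ^ n) * c l := fun l => (hc' l).trans (Algebra.smul_def _ _)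
  have h0 : π.app (X'.basicOpen h) (resM N (X'.basicOpen_le h) (∑ l, c' l • g l)) = 0 := by
    rw [map_sum, map_sum]
    calc _ = ∑ l, r (h ^ n) • (c l • π.app (X'.basicOpen h) (resM N (X'.basicOpen_le h) (g l))) :=
          Finset.sum_congr rfl fun l _ => by
            rw [resM_smul, Scheme.Modules.Hom.app_smul, smul_smul, ← hc'']
      _ = 0 := by rw [← Finset.smul_sum, hc, smul_zero]
  obtain ⟨e, he⟩ := hker (X'.affineBasicOpen h) _ h0
  have hmem : r a ^ e ∈ ((Ideal.span {a}).map r) ^ e :=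
    Ideal.pow_mem_pow (Ideal.mem_map_of_mem r (Ideal.mem_span_singleton_self a)) e
  rw [← ha, show Ideal.map r (E.ideal V) = E.ideal (X'.affineBasicOpen h) from E.map_ideal_basicOpen V h] at hmem
  have h1 := he (r a ^ e) (by rw [Scheme.IdealSheafData.ideal_pow]; exact hmem)
  have h2 : resM N (X'.basicOpen_le h) (a ^ e • ∑ l, c' l • g l) = 0 := by
    rw [resM_smul, map_pow]; exact h1
  obtain ⟨m, hm⟩ := qcoh_exists_pow_smul_eq_zero V.2 N h _ h2
  obtain ⟨q, hq⟩ := hD (fun l => h ^ m * c' l) ⟨e, by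
    simp only [mul_smul]
    rw [← Finset.smul_sum, smul_comm]
    exact hm⟩ i
  have hu : IsUnit (r D ^ q * (r h ^ m * r h ^ n)) := by
    have h1 : IsUnit (r D) := by simpa using isUnit_res_pow D (X'.basicOpen_le h) hhD 1
    have h2 : IsUnit (r h) := by simpa using isUnit_res_pow h (X'.basicOpen_le h) le_rfl 1
    exact (h1.pow q).mul ((h2.pow m).mul (h2.pow n))
  refine hu.mul_right_eq_zero.1 ?_
  have hq' := congrArg r hq
  rw [map_mul, map_mul, map_pow, map_pow, map_zero, hc'', map_pow] at hq'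
  linear_combination hq'

theorem main (S : Scheme.{u}) (F : S.Modules) (hF : Coh.IsQCoh F) (hft : CohB1.IsFT F)
    (k : ℕ) (hfree : FlatMod.IsFinLocFreeOfRank k (F.restrict (Scheme.Opens.ι (Fitt.sheafIdeal F k).support.compl)))
    {S' : Scheme.{u}} (b : S' ⟶ S) (hb : BlowUp.IsBlowUp b (Fitt.sheafIdeal F k)) (G : S'.Modules)
    (π : (Scheme.Modules.pullback b).obj F ⟶ G) (hG : BlowUp.IsStrictTransform b (Fitt.sheafIdeal F k) F G π) :
    FlatMod.IsFinLocFreeOfRank k G := by
  intro s'
  haveI := hF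
  let C : S.Opens := (Fitt.sheafIdeal F k).support.compl
  haveI : Coh.IsQCoh (F.restrict C.ι) := inferInstance
  have hFC : CohB1.IsFT (F.restrict C.ι) :=
    Coherent.isFT_of_epi ((Scheme.Modules.restrictFunctorIsoPullback _).app F).inv
      (isFT_pullback_qcoh _ (F := F) hF hft)
  let N := (Scheme.Modules.pullback b).obj F
  haveI : Coh.IsQCoh N := EGA43.InjFibre.isQCoh_pullback b F
  have hN : CohB1.IsFT N := isFT_pullback_qcoh b (F := F) hF hft
  haveI : Epi π := hG.1
  let E := BlowUp.exceptional b (Fitt.sheafIdeal F k)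
  obtain ⟨V, hsV, a, ha0, ha⟩ := hb.1 s'
  have hE : Fitt.ideal Γ(S', V.1) Γ(N, V.1) k = Ideal.span {a} := by
    rw [← FlatMor12.FittSheaf.ideal_eq N hN, ← FlatMor12.FittSheaf.comap_eq F b hft, ha]
  haveI := FlatMor12.FittSheaf.finite_affine N hN V
  let T := FlatCA.powTorsion Γ(S', V.1) a Γ(N, V.1)
  have htop : Fitt.ideal Γ(S', V.1) (Γ(N, V.1) ⧸ T) k = ⊤ :=
    FittLib.ideal_quotient_eq_top k ha0 (hE ▸ Ideal.mem_span_singleton_self a) hE.le T
      fun m hm => FittLib.mem_powTorsion_of_smul hm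
  have hbot : ∀ j, j < k → Fitt.ideal Γ(S', V.1) (Γ(N, V.1) ⧸ T) j = ⊥ := by
    intro j hj
    refine ideal_quotient_powTorsion_eq_bot ha0 j fun d hd => ?_
    rw [← FlatMor12.FittSheaf.ideal_eq N hN, ← FlatMor12.FittSheaf.comap_eq F b hft] at hd
    have hsub : Set.range ((S'.basicOpen a).ι ≫ b) ⊆ Set.range C.ι := by
      rw [Scheme.Opens.range_ι]
      rintro _ ⟨y, rfl⟩ hy
      have hyE : y.1 ∈ (E.support : Set S') := by
        show y.1 ∈ (((Fitt.sheafIdeal F k).comap b).support : Set S')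
        rw [Scheme.IdealSheafData.support_comap]
        exact hy
      rw [SetLike.mem_coe, Scheme.IdealSheafData.mem_support_iff_of_mem (U := V) (S'.basicOpen_le a y.2),
        Scheme.mem_zeroLocus_iff] at hyE
      exact hyE a (by rw [ha]; exact Ideal.mem_span_singleton_self a) y.2
    have hcb : (Fitt.sheafIdeal F j).comap C.ι = ⊥ := by
      rw [FlatMorAdm.comap_ι_sheafIdeal F hft]
      exact ((FlatMor12.FittSheaf.isFinLocFreeOfRank_iff _ hFC k).1 hfree).1 j hj
    have hz := FlatMorAdm.res_eq_zero_of_comap_eq_bot ((Fitt.sheafIdeal F j).comap b) (S'.basicOpen a) (by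
      rw [← Scheme.IdealSheafData.comap_comp, ← IsOpenImmersion.lift_fac C.ι _ hsub,
        Scheme.IdealSheafData.comap_comp, hcb, Scheme.IdealSheafData.comap_bot]) V hd
    have hle : S'.basicOpen a ≤ V.1 ⊓ S'.basicOpen a := le_inf (S'.basicOpen_le a) le_rfl
    have hz' : (S'.presheaf.map (homOfLE (S'.basicOpen_le a)).op).hom d = 0 := by
      have := congrArg (ModPairLib.res hle) hz
      rw [map_zero] at this
      refine Eq.trans ?_ this
      exact ConcreteCategory.congr_hom (S'.presheaf.map_comp (homOfLE inf_le_left).op (homOfLE hle).op) d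
    letI := (S'.presheaf.map (homOfLE (S'.basicOpen_le a)).op).hom.toAlgebra
    haveI : IsLocalization.Away a Γ(S', S'.basicOpen a) := V.2.isLocalization_basicOpen a
    obtain ⟨⟨_, m, rfl⟩, hm⟩ := (IsLocalization.map_eq_zero_iff (Submonoid.powers a) Γ(S', S'.basicOpen a) d).1 hz'
    exact ⟨m, hm⟩
  obtain ⟨D, g, hDp, hg⟩ := FittLib.exists_not_mem_smul_mem_span (R := Γ(S', V.1)) (M := Γ(N, V.1) ⧸ T) (k := k)
    (p := (V.2.primeIdealOf ⟨s', hsV⟩).asIdeal)
    (fun hle => (V.2.primeIdealOf ⟨s', hsV⟩).isPrime.ne_top (top_le_iff.1 (htop ▸ hle)))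
  choose g' hg' using fun i => T.mkQ_surjective (g i)
  have hgen := FittStrict.genOn_of_span_mod π E V ha (fun W m hm => (hG.2 W m).2 hm)
    (fun i : ULift.{u} (Fin k) => g' i.down) D (fun t => by
      obtain ⟨c, hc⟩ := (Submodule.mem_span_range_iff_exists_fun _).1 (hg (T.mkQ t))
      have hmem : D • t - ∑ i : ULift.{u} (Fin k), c i.down • g' i.down ∈ T := by
        rw [← Submodule.Quotient.mk_eq_zero, ← Submodule.mkQ_apply, map_sub, map_sum, map_smul, ← hc,
          sub_eq_zero]
        refine (Fintype.sum_equiv Equiv.ulift _ _ fun i => ?_).symm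
        rw [map_smul, hg']
        rfl
      obtain ⟨e, he⟩ := FittLib.exists_pow_smul_of_mem_powTorsion hmem
      exact ⟨fun i => c i.down, e, he⟩)
  have hrel : ∀ d : Fin k → Γ(S', V.1), (∃ e : ℕ, a ^ e • (∑ i, d i • g' i) = 0) →
      ∀ i, ∃ q : ℕ, D ^ q * d i = 0 := by
    rintro d ⟨e, he⟩ i
    refine pow_mul_eq_zero_of_rel g hg hbot d ?_ i
    have : T.mkQ (∑ i, d i • g' i) = 0 := by
      rw [Submodule.mkQ_apply, Submodule.Quotient.mk_eq_zero]
      refine Submodule.mem_iSup_of_mem e ?_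
      rw [Submodule.mem_torsionBy_iff]
      exact he
    simpa [map_sum, hg'] using this
  let U := S'.basicOpen D
  let gU : ULift.{u} (Fin k) → Γ(G, U) := fun i => π.app U (resM N (S'.basicOpen_le D) (g' i.down))
  let t : ULift.{u} (Fin k) → Γ(G.restrict U.ι, ⊤) := fun i =>
    (G.restrictAppIso U.ι ⊤).inv (resM G (Scheme.Opens.ι_image_top U).le (gU i))
  let q := freeDesc fun i => unitDesc (G.restrict U.ι) (t i)
  have hepi : Epi q := epi_of_genOn_top
    (genOn_restrict_of_genOn U.ι G (U := ⊤) (hgen.res (Scheme.Opens.ι_image_top U).le))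
  have hmono : Mono q := by
    classical
    refine MeroLib.mono_of_app_injective _ fun W => (injective_iff_map_eq_zero _).2 fun z hz => ?_
    rw [freeMod_app] at hz
    let P := U.ι ''ᵁ W
    have hPU : P ≤ U := U.ι_image_le W
    have hz' : ∑ i : ULift.{u} (Fin k), (U.ι.appIso W).inv (freeCoord W i z) • resM G hPU (gU i) = 0 := by
      have := congrArg ((G.restrictAppIso U.ι W).hom) hz
      rw [map_zero, map_sum] at this
      refine Eq.trans (Finset.sum_congr rfl fun i _ => ?_) this
      rw [freeInj_freeDesc, unitVal_unitDesc, Scheme.Modules.smul_restrictAppIso_hom_apply]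
      congr 1
      have hnat := ConcreteCategory.congr_hom (G.presheaf.map_comp (homOfLE (Scheme.Opens.ι_image_top U).le).op
        (homOfLE (U.ι.image_mono (le_top : W ≤ ⊤))).op) (gU i)
      exact hnat
    have hcoord : ∀ i, freeCoord W i z = 0 := by
      intro i
      refine (ConcreteCategory.bijective_of_isIso (U.ι.appIso W).inv).1 ?_
      rw [map_zero]
      have hloc : ∀ y : P, ∃ h : Γ(S', V.1), S'.basicOpen h ≤ P ∧ y.1 ∈ S'.basicOpen h := fun y =>
        V.2.exists_basicOpen_le y (S'.basicOpen_le D (hPU y.2))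
      choose h hh hyh using hloc
      refine TopCat.Sheaf.eq_of_locally_eq' S'.sheaf (fun y : P => S'.basicOpen (h y)) P
        (fun y => homOfLE (hh y)) (fun x hx => Opens.mem_iSup.2 ⟨⟨x, hx⟩, hyh ⟨x, hx⟩⟩) _ _ fun y => ?_
      show (S'.presheaf.map (homOfLE (hh y)).op).hom ((U.ι.appIso W).inv (freeCoord W i z)) =
        (S'.presheaf.map (homOfLE (hh y)).op).hom 0
      refine Eq.trans ?_ (map_zero (S'.presheaf.map (homOfLE (hh y)).op).hom).symm
      let c : Fin k → Γ(S', S'.basicOpen (h y)) := fun l =>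
        (S'.presheaf.map (homOfLE (hh y)).op).hom ((U.ι.appIso W).inv (freeCoord W ⟨l⟩ z))
      refine coeff_eq_zero π E V ha (fun W' m hm => (hG.2 W' m).1 hm) g' D hrel (h y) ((hh y).trans hPU) c ?_ i.down
      have h3 := congrArg (resM G (hh y)) hz'
      rw [map_zero, map_sum] at h3
      refine Eq.trans ?_ h3
      refine Fintype.sum_equiv Equiv.ulift.symm _ _ fun l => ?_
      rw [resM_smul]
      congr 1
      show _ = resM G (hh y) (resM G hPU (π.app U _))
      rw [resM_resM, ← app_resM, resM_resM]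
      rfl
    apply (freeSectionsEquiv W).injective
    rw [map_zero]
    funext i
    exact hcoord i
  haveI : IsIso q := isIso_of_mono_of_epi q
  exact ⟨U, (EGA43.InjFibre.mem_basicOpen_iff_notMem V.2 hsV D).2 hDp,
    ⟨(asIso q).symm ≪≫ (Props12.freeModIso U.toScheme k)⟩⟩

end Groth.Agent.CAlgH3.FittStrictFree
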