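import Groth.Agent.FlatCrit.Tor
import Mathlib.RingTheory.IsTensorProduct
import Mathlib.RingTheory.Ideal.Maps

/-! Kernel of `IR' ⊗ M → R' ⊗ M` when `M/IM` is flat over `R/I`; base change of `QuotFlat`. -/

universe u

namespace Groth.Agent.CAlgH3

open TensorProduct Function

variable {R R' : Type u} [CommRing R] [CommRing R'] [Algebra R R'] {M : Type u} [AddCommGroup M] [Module R M]

theorem quotFlat_baseChange_left {I : Ideal R} (h : FlatCrit.QuotFlat R M I) :
    FlatCrit.QuotFlat R' (R' ⊗[R] M) (I.map (algebraMap R R')) := by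
  intro A B _ _ _ _ i hB hi
  letI := Module.compHom A (algebraMap R R')
  letI := Module.compHom B (algebraMap R R')
  have : IsScalarTower R R' A := IsScalarTower.of_algebraMap_smul fun r a => rfl
  have : IsScalarTower R R' B := IsScalarTower.of_algebraMap_smul fun r a => rfl
  have h' := h (i.restrictScalars R) (fun r hr b => hB _ (Ideal.mem_map_of_mem _ hr) b) hi
  have hc : ∀ x, AlgebraTensorModule.cancelBaseChange R R' R' B M (i.rTensor (R' ⊗[R] M) x) =
      (i.restrictScalars R).rTensor M (AlgebraTensorModule.cancelBaseChange R R' R' A M x) := by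
    intro x
    induction x with
    | zero => simp
    | add x y hx hy => rw [map_add, map_add, map_add, map_add, hx, hy]
    | tmul a z =>
      induction z with
      | zero => simp
      | add x y hx hy => rw [tmul_add, map_add, map_add, map_add, map_add, hx, hy]
      | tmul r m => simp
  intro x y hxy
  apply (AlgebraTensorModule.cancelBaseChange R R' R' A M).injective
  apply h'
  rw [← hc, ← hc, hxy]

theorem ker_map_rTensor_le_span_aux {G : Type u} [AddCommGroup G] [Module R G] [Module.Flat R G]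
    (π : G →ₗ[R] R') (hπ : Surjective π) {I : Ideal R} (h2 : FlatCrit.QuotFlat R M I)
    (y : ↥(I.map (algebraMap R R')) ⊗[R] M)
    (hy : ((I.map (algebraMap R R')).subtype.restrictScalars R).rTensor M y = 0) :
    y ∈ Submodule.span R' {z | ∃ x : ↥I ⊗[R] M, I.subtype.rTensor M x = 0 ∧
      z = (Algebra.idealMap R' I).rTensor M x} := by
  let I' := I.map (algebraMap R R')
  let H : Submodule R G := (I'.restrictScalars R).comap π
  let πH : H →ₗ[R] I' := (π ∘ₗ H.subtype).codRestrict (I'.restrictScalars R) fun x => x.2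
  have hπH : Surjective πH := by
    rintro ⟨a, ha⟩
    obtain ⟨g, rfl⟩ := hπ a
    exact ⟨⟨g, ha⟩, rfl⟩
  have hH0 : ∀ g, g ∈ (I • ⊤ : Submodule R G) → g ∈ H := by
    intro g hg
    show π g ∈ I'
    refine Submodule.smul_induction_on hg (fun r hr z _ => ?_) fun z z' hz hz' => ?_
    · rw [map_smul, Algebra.smul_def]
      exact Ideal.mul_mem_right _ _ (Ideal.mem_map_of_mem _ hr)
    · rw [map_add]; exact add_mem hz hz'
  obtain ⟨yH, hyH⟩ := LinearMap.rTensor_surjective M hπH y
  -- correct the lift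
  have h1 : π.rTensor M (H.subtype.rTensor M yH) = 0 := by
    rw [← LinearMap.comp_apply, ← LinearMap.rTensor_comp,
      show π ∘ₗ H.subtype = I'.subtype.restrictScalars R ∘ₗ πH from rfl, LinearMap.rTensor_comp,
      LinearMap.comp_apply, hyH, hy]
  obtain ⟨z, hz⟩ := (rTensor_exact M (LinearMap.exact_subtype_ker_map π) hπ _).1 h1
  have hZ : LinearMap.ker π ≤ H := fun g hg => by
    show π g ∈ I'
    rw [LinearMap.mem_ker.1 hg]; exact zero_mem _
  let yH' := yH - (Submodule.inclusion hZ).rTensor M z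
  have hy1 : πH.rTensor M yH' = y := by
    simp only [yH', map_sub, hyH, ← LinearMap.comp_apply, ← LinearMap.rTensor_comp]
    rw [show πH ∘ₗ Submodule.inclusion hZ = 0 from LinearMap.ext fun g => Subtype.ext g.2,
      LinearMap.rTensor_zero, LinearMap.zero_apply, sub_zero]
  have hy2 : H.subtype.rTensor M yH' = 0 := by
    simp only [yH', map_sub, ← LinearMap.comp_apply, ← LinearMap.rTensor_comp]
    rw [show H.subtype ∘ₗ Submodule.inclusion hZ = (LinearMap.ker π).subtype from rfl, hz, sub_self]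
  -- descend to `I • G`
  let H₀ : Submodule R H := Submodule.comap H.subtype (I • ⊤)
  let jQ : (↥H ⧸ H₀) →ₗ[R] G ⧸ (I • ⊤ : Submodule R G) := H₀.mapQ _ H.subtype le_rfl
  have hjQ : Injective jQ := LinearMap.ker_eq_bot.1 (Submodule.ker_liftQ_eq_bot _ _ _ (by
    rw [LinearMap.ker_comp, Submodule.ker_mkQ]))
  have hkill : ∀ r ∈ I, ∀ b : G ⧸ (I • ⊤ : Submodule R G), r • b = 0 := by
    intro r hr b
    obtain ⟨b, rfl⟩ := Submodule.Quotient.mk_surjective _ b
    rw [← Submodule.Quotient.mk_smul, Submodule.Quotient.mk_eq_zero]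
    exact Submodule.smul_mem_smul hr trivial
  have h3 : H₀.mkQ.rTensor M yH' = 0 := by
    apply h2 jQ hkill hjQ
    rw [map_zero, ← LinearMap.comp_apply, ← LinearMap.rTensor_comp,
      show jQ ∘ₗ H₀.mkQ = (I • ⊤ : Submodule R G).mkQ ∘ₗ H.subtype from rfl,
      LinearMap.rTensor_comp, LinearMap.comp_apply, hy2, map_zero]
  obtain ⟨v, hv⟩ := (rTensor_exact M (LinearMap.exact_subtype_mkQ H₀) H₀.mkQ_surjective _).1 h3
  let μ : G ⊗[R] I →ₗ[R] G :=
    TensorProduct.lift ((LinearMap.lsmul R G).flip.compl₂ I.subtype)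
  have hμ : ∀ g (a : I), μ (g ⊗ₜ a) = (a : R) • g := fun g a => rfl
  have hμr : LinearMap.range μ = I • ⊤ := by
    apply le_antisymm
    · rintro _ ⟨t, rfl⟩
      induction t with
      | zero => simp
      | add a b ha hb => rw [map_add]; exact add_mem ha hb
      | tmul g a => rw [hμ]; exact Submodule.smul_mem_smul a.2 trivial
    · rw [Submodule.smul_le]
      exact fun r hr g _ => ⟨g ⊗ₜ ⟨r, hr⟩, hμ g ⟨r, hr⟩⟩
  let μ₀ : G ⊗[R] I →ₗ[R] H₀ :=
    (μ.codRestrict H fun t => hH0 _ (hμr.le ⟨t, rfl⟩)).codRestrict H₀ fun t => hμr.le ⟨t, rfl⟩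
  have hμ₀ : Surjective μ₀ := by
    rintro ⟨⟨g, hgH⟩, hg⟩
    obtain ⟨t, ht⟩ := hμr.ge (show g ∈ (I • ⊤ : Submodule R G) from hg)
    exact ⟨t, Subtype.ext (Subtype.ext ht)⟩
  obtain ⟨w, rfl⟩ := LinearMap.rTensor_surjective M hμ₀ v
  let a := TensorProduct.assoc R G I M
  have hw : ∀ w, H.subtype.rTensor M (H₀.subtype.rTensor M (μ₀.rTensor M w)) =
      (TensorProduct.rid R G).toLinearMap.rTensor M
        ((TensorProduct.assoc R G R M).symm ((I.subtype.rTensor M).lTensor _ (a w))) := by
    intro w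
    induction w with
    | zero => simp
    | add x y hx hy => simp only [map_add, hx, hy]
    | tmul t m =>
      induction t with
      | zero => simp
      | add x y hx hy => simp only [add_tmul, map_add, hx, hy]
      | tmul g c => simp [a, μ₀, hμ]
  have hw0 : (I.subtype.rTensor M).lTensor G (a w) = 0 := by
    have h := hw w
    rw [hv, hy2] at h
    apply (TensorProduct.assoc R G R M).symm.injective
    apply ((TensorProduct.rid R G).rTensor M).injective
    rw [map_zero, map_zero]
    exact h.symm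
  have hex := Module.Flat.lTensor_exact (R := R) G (N := LinearMap.ker (I.subtype.rTensor M))
    (N' := ↥I ⊗[R] M) (N'' := R ⊗[R] M) (f := (LinearMap.ker (I.subtype.rTensor M)).subtype)
    (g := I.subtype.rTensor M) (LinearMap.exact_subtype_ker_map _)
  obtain ⟨k, hk⟩ := (hex _).1 hw0
  let Ψ : G ⊗[R] (↥I ⊗[R] M) →ₗ[R] ↥I' ⊗[R] M :=
    (πH ∘ₗ H₀.subtype ∘ₗ μ₀).rTensor M ∘ₗ a.symm.toLinearMap
  have hy' : y = Ψ ((LinearMap.ker (I.subtype.rTensor M)).subtype.lTensor _ k) := by
    simp only [Ψ, hk, LinearMap.comp_apply, LinearEquiv.coe_coe, LinearEquiv.symm_apply_apply,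
      LinearMap.rTensor_comp]
    rw [hv, hy1]
  rw [hy']
  clear hy' hk
  induction k with
  | zero => simp
  | add x y hx hy => rw [map_add, map_add]; exact add_mem hx hy
  | tmul g c =>
    have : ∀ x : ↥I ⊗[R] M, Ψ (g ⊗ₜ x) = π g • (Algebra.idealMap R' I).rTensor M x := by
      intro x
      induction x with
      | zero => simp
      | add x y hx hy => simp only [tmul_add, map_add, smul_add, hx, hy]
      | tmul b m =>
        simp only [Ψ, a, LinearMap.comp_apply, LinearEquiv.coe_coe, assoc_symm_tmul,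
          LinearMap.rTensor_tmul, TensorProduct.smul_tmul']
        congr 1
        apply Subtype.ext
        show π (μ (g ⊗ₜ b)) = π g * algebraMap R R' (b : R)
        rw [hμ, map_smul, Algebra.smul_def, mul_comm]
    rw [LinearMap.lTensor_tmul, this]
    exact Submodule.smul_mem _ _ (Submodule.subset_span ⟨_, c.2, rfl⟩)

/-- If `M/IM` is flat over `R/I`, the kernel of `IR' ⊗ M → R' ⊗ M` is spanned by the kernel of
`I ⊗ M → M`. -/
theorem ker_map_rTensor_le_span {I : Ideal R} (h2 : FlatCrit.QuotFlat R M I)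
    (y : ↥(I.map (algebraMap R R')) ⊗[R] M)
    (hy : ((I.map (algebraMap R R')).subtype.restrictScalars R).rTensor M y = 0) :
    y ∈ Submodule.span R' {z | ∃ x : ↥I ⊗[R] M, I.subtype.rTensor M x = 0 ∧
      z = (Algebra.idealMap R' I).rTensor M x} :=
  ker_map_rTensor_le_span_aux (Finsupp.linearCombination R (id : R' → R'))
    (fun r => ⟨Finsupp.single r 1, by simp⟩) h2 y hy

end Groth.Agent.CAlgH3
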