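import Groth.Agent.CAlgH3.FibreRegular
import Groth.Agent.CAlgH3.CMRing
import Groth.Agent.LocCoh.DepthLocal

/-! Grade of an ideal from the Cohen–Macaulay closed fibre of a flat local homomorphism. -/

set_option autoImplicit false
universe u

open IsLocalRing RingTheory.Sequence
open scoped Pointwise

namespace Groth.Agent.CAlgH3.FlatGrade

open Groth.Agent.LocCoh

theorem isWeaklyRegular_self_cons {B : Type u} [CommRing B] (y : B) (rs : List B) :
    IsWeaklyRegular B (y :: rs) ↔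
      IsSMulRegular B y ∧ IsWeaklyRegular (B ⧸ Ideal.span {y}) (rs.map (algebraMap B (B ⧸ Ideal.span {y}))) := by
  rw [isWeaklyRegular_cons_iff, isWeaklyRegular_map_algebraMap_iff]
  refine and_congr Iff.rfl (LinearEquiv.isWeaklyRegular_congr (Submodule.quotEquivOfEq _ _ ?_) rs)
  rw [← Submodule.ideal_span_singleton_smul, smul_eq_mul, Ideal.mul_top]

theorem isWeaklyRegular_of_fibre {A : Type u} [CommRing A] [IsLocalRing A] [IsNoetherianRing A] :
    ∀ (n : ℕ) (B : Type u) [CommRing B] [IsLocalRing B] [IsNoetherianRing B] [Algebra A B]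
      [IsLocalHom (algebraMap A B)] [Module.Flat A B] (rs : List B), rs.length = n →
      (∀ r ∈ rs, r ∈ maximalIdeal B) →
      IsWeaklyRegular (B ⧸ (maximalIdeal A).map (algebraMap A B))
        (rs.map (algebraMap B (B ⧸ (maximalIdeal A).map (algebraMap A B)))) →
      IsWeaklyRegular B rs := by
  intro n
  induction n with
  | zero =>
    intro B _ _ _ _ _ _ rs hn _ _
    rw [List.length_eq_zero_iff.1 hn]
    exact IsWeaklyRegular.nil B B
  | succ n ih =>
    intro B _ _ _ _ _ _ rs hn hmem h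
    obtain ⟨y, rs, rfl⟩ : ∃ y rs', rs = y :: rs' := by
      cases rs with
      | nil => simp at hn
      | cons y rs => exact ⟨y, rs, rfl⟩
    set 𝔞 := (maximalIdeal A).map (algebraMap A B)
    rw [isWeaklyRegular_map_algebraMap_iff, isWeaklyRegular_cons_iff] at h
    obtain ⟨hy, hrest⟩ := h
    refine (isWeaklyRegular_self_cons y rs).2 ⟨isSMulRegular_of_fibre (A := A) hy, ?_⟩
    haveI := flat_quotient_span_of_fibre (A := A) hy
    have hyne : Ideal.span {y} ≠ (⊤ : Ideal B) := fun e => (maximalIdeal.isMaximal B).ne_top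
      (top_le_iff.1 (e ▸ (Ideal.span_singleton_le_iff_mem _).2 (hmem y List.mem_cons_self)))
    haveI : Nontrivial (B ⧸ Ideal.span {y}) := Ideal.Quotient.nontrivial_iff.2 hyne
    haveI : IsLocalRing (B ⧸ Ideal.span {y}) := IsLocalRing.of_surjective' (Ideal.Quotient.mk _) Ideal.Quotient.mk_surjective
    haveI hloc : IsLocalHom (algebraMap B (B ⧸ Ideal.span {y})) :=
      IsLocalHom.of_surjective _ Ideal.Quotient.mk_surjective
    haveI : IsLocalHom (algebraMap A (B ⧸ Ideal.span {y})) := ⟨fun a ha => by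
      rw [IsScalarTower.algebraMap_apply A B (B ⧸ Ideal.span {y})] at ha
      exact (isUnit_map_iff (algebraMap A B) a).1 ((isUnit_map_iff (algebraMap B (B ⧸ Ideal.span {y})) _).1 ha)⟩
    refine ih (B ⧸ Ideal.span {y}) _ (by simpa using hn) ?_ ?_
    · intro r hr
      obtain ⟨r', hr', rfl⟩ := List.mem_map.1 hr
      exact fun hu => hmem r' (List.mem_cons_of_mem _ hr') ((isUnit_map_iff (algebraMap B (B ⧸ Ideal.span {y})) r').1 hu)
    · set 𝔟 := (maximalIdeal A).map (algebraMap A (B ⧸ Ideal.span {y}))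
      have e1 : 𝔟 = 𝔞.map (algebraMap B (B ⧸ Ideal.span {y})) := by
        rw [Ideal.map_map, ← IsScalarTower.algebraMap_eq]
      rw [isWeaklyRegular_map_algebraMap_iff, isWeaklyRegular_map_algebraMap_iff]
      let g : B →ₗ[B] (B ⧸ Ideal.span {y}) ⧸ 𝔟 :=
        ((Submodule.mkQ 𝔟).restrictScalars B).comp (Submodule.mkQ (Ideal.span {y} : Ideal B))
      have hg : Function.Surjective g := (Submodule.mkQ_surjective _).comp (Submodule.mkQ_surjective _)
      have hker : LinearMap.ker g = Ideal.span {y} ⊔ 𝔞 := by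
        ext b
        rw [LinearMap.mem_ker]
        show Submodule.Quotient.mk (Ideal.Quotient.mk (Ideal.span {y}) b) = 0 ↔ _
        rw [Submodule.Quotient.mk_eq_zero, e1, Ideal.Quotient.algebraMap_eq,
          Ideal.mem_quotient_iff_mem_sup, sup_comm]
      let f : B →ₗ[B] QuotSMulTop y (B ⧸ 𝔞) := (Submodule.mkQ _).comp (Submodule.mkQ 𝔞)
      have hf : Function.Surjective f := (Submodule.mkQ_surjective _).comp (Submodule.mkQ_surjective _)
      have hfker : LinearMap.ker f = Ideal.span {y} ⊔ 𝔞 := by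
        rw [LinearMap.ker_comp, Submodule.ker_mkQ]
        ext b
        rw [Submodule.mem_comap, Submodule.mem_smul_pointwise_iff_exists, Ideal.mem_span_singleton_sup]
        constructor
        · rintro ⟨z, -, hz⟩
          obtain ⟨c, rfl⟩ := Submodule.Quotient.mk_surjective 𝔞 z
          rw [Submodule.mkQ_apply, ← Submodule.Quotient.mk_smul, Submodule.Quotient.eq] at hz
          exact ⟨c, b - y * c, by simpa [neg_sub] using 𝔞.neg_mem hz, by rw [mul_comm c y, add_sub_cancel]⟩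
        · rintro ⟨c, a, ha, rfl⟩
          refine ⟨Submodule.Quotient.mk c, trivial, ?_⟩
          rw [Submodule.mkQ_apply, ← Submodule.Quotient.mk_smul, Submodule.Quotient.eq]
          simpa [mul_comm] using ha
      exact (LinearEquiv.isWeaklyRegular_congr ((f.quotKerEquivOfSurjective hf).symm ≪≫ₗ
        Submodule.quotEquivOfEq _ _ (hfker.trans hker.symm) ≪≫ₗ g.quotKerEquivOfSurjective hg) rs).1 hrest

theorem exists_dim (B : Type u) [CommRing B] [IsLocalRing B] [IsNoetherianRing B] :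
    ∃ d : ℕ, ringKrullDim B = d := by
  rw [← IsLocalRing.maximalIdeal_height_eq_ringKrullDim]
  obtain ⟨d, hd⟩ := ENat.ne_top_iff_exists.1 (Ideal.height_ne_top (maximalIdeal.isMaximal B).ne_top)
  exact ⟨d, by rw [← hd]; rfl⟩

theorem natCast_le_idealDepth_of_dim {B : Type u} [CommRing B] [IsLocalRing B] [IsNoetherianRing B]
    [_root_.LocCoh.IsCohenMacaulayLocalRing B] (J : Ideal B) (c : ℕ)
    (hc : (c : WithBot ℕ∞) + ringKrullDim (B ⧸ J) ≤ ringKrullDim B) : (c : ℕ∞) ≤ _root_.LocCoh.idealDepth J B := by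
  rw [natCast_le_idealDepth_iff_local]
  intro p hp
  haveI := isCohenMacaulayLocalRing_localization (R := B) p.asIdeal
  have h1 := (isCohenMacaulayLocalRing_iff_depth (Localization.AtPrime p.asIdeal)).1 inferInstance
  rw [IsLocalization.AtPrime.ringKrullDim_eq_height p.asIdeal (Localization.AtPrime p.asIdeal)] at h1
  rw [depth_localization_self, ← WithBot.coe_inj.1 h1]
  have h2 := height_add_ringKrullDim_quotient (R := B) p.asIdeal
  have h3 : ringKrullDim (B ⧸ p.asIdeal) ≤ ringKrullDim (B ⧸ J) :=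
    ringKrullDim_le_of_surjective _ (Ideal.Quotient.factor_surjective hp)
  haveI : Nontrivial (B ⧸ p.asIdeal) := Ideal.Quotient.nontrivial_iff.2 p.2.ne_top
  haveI : Nontrivial (B ⧸ J) := (Ideal.Quotient.factor hp).domain_nontrivial
  generalize hx : p.asIdeal.height = x at h2 ⊢
  haveI : IsLocalRing (B ⧸ p.asIdeal) := IsLocalRing.of_surjective' (Ideal.Quotient.mk _) Ideal.Quotient.mk_surjective
  obtain ⟨e, he⟩ := exists_dim (B ⧸ p.asIdeal)
  rw [he] at h2 h3
  have hle : (c : WithBot ℕ∞) + (e : WithBot ℕ∞) ≤ (x : WithBot ℕ∞) + (e : WithBot ℕ∞) :=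
    (add_le_add le_rfl h3).trans (hc.trans h2.ge)
  have hle' : (c : ℕ∞) + (e : ℕ∞) ≤ x + (e : ℕ∞) := WithBot.coe_le_coe.1 (by simpa using hle)
  exact (WithTop.add_le_add_iff_right (ENat.natCast_ne_top e)).1 hle'

theorem result {R : Type u} [CommRing R] [IsLocalRing R] [IsNoetherianRing R] {S : Type u} [CommRing S]
    [IsLocalRing S] [IsNoetherianRing S] [Algebra R S] [IsLocalHom (algebraMap R S)] [Module.Flat R S]
    (hCM : _root_.LocCoh.IsCohenMacaulayLocalRing (S ⧸ (maximalIdeal R).map (algebraMap R S))) (I : Ideal S)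
    (hI : I ≠ ⊤) :
    ringKrullDim (S ⧸ (maximalIdeal R).map (algebraMap R S)) ≤
      ringKrullDim (S ⧸ ((maximalIdeal R).map (algebraMap R S) ⊔ I)) + ((_root_.LocCoh.idealDepth I S : ℕ∞) : WithBot ℕ∞) := by
  classical
  set 𝔞 := (maximalIdeal R).map (algebraMap R S)
  have hle𝔞 : 𝔞 ≤ maximalIdeal S := Ideal.map_le_iff_le_comap.2 fun a ha => algebraMap_mem_maximalIdeal ha
  have hIm : I ≤ maximalIdeal S := le_maximalIdeal hI
  haveI : Nontrivial (S ⧸ 𝔞) := Ideal.Quotient.nontrivial_iff.2 (ne_top_of_le_ne_top (maximalIdeal.isMaximal S).ne_top hle𝔞)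
  haveI : IsLocalRing (S ⧸ 𝔞) := IsLocalRing.of_surjective' (Ideal.Quotient.mk _) Ideal.Quotient.mk_surjective
  let J := I.map (Ideal.Quotient.mk 𝔞)
  let eq := DoubleQuot.quotQuotEquivQuotSup 𝔞 I
  rw [← ringKrullDim_eq_of_ringEquiv eq]
  haveI : Nontrivial (S ⧸ 𝔞 ⊔ I) := Ideal.Quotient.nontrivial_iff.2
    (ne_top_of_le_ne_top (maximalIdeal.isMaximal S).ne_top (sup_le hle𝔞 hIm))
  haveI : Nontrivial ((S ⧸ 𝔞) ⧸ J) := eq.toEquiv.nontrivial
  haveI : IsLocalRing ((S ⧸ 𝔞) ⧸ J) := IsLocalRing.of_surjective' (Ideal.Quotient.mk _) Ideal.Quotient.mk_surjective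
  obtain ⟨d, hd⟩ := exists_dim (S ⧸ 𝔞)
  obtain ⟨e, he⟩ := exists_dim ((S ⧸ 𝔞) ⧸ J)
  have hed : e ≤ d := by
    have := ringKrullDim_quotient_le J
    rw [hd, he] at this
    exact_mod_cast this
  have h1 : ((d - e : ℕ) : ℕ∞) ≤ _root_.LocCoh.idealDepth J (S ⧸ 𝔞) := natCast_le_idealDepth_of_dim J (d - e) (by
    rw [hd, he, ← Nat.cast_add]
    exact_mod_cast (Nat.sub_add_cancel hed).le)
  have hJ : J • (⊤ : Submodule (S ⧸ 𝔞) (S ⧸ 𝔞)) ≠ ⊤ := by
    rw [smul_eq_mul, Ideal.mul_top]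
    exact Ideal.Quotient.nontrivial_iff.1 inferInstance
  obtain ⟨rs, hlen, hrs, hreg'⟩ := (natCast_le_idealDepth_iff_exists _ _ hJ (d - e)).1 h1
  have hreg := hreg'.toIsWeaklyRegular
  have hlift : ∀ r, ∃ s : S, r ∈ J → s ∈ I ∧ Ideal.Quotient.mk 𝔞 s = r := fun r => by
    by_cases hr : r ∈ J
    · obtain ⟨s, hs, h⟩ := (Ideal.mem_map_iff_of_surjective _ Ideal.Quotient.mk_surjective).1 hr
      exact ⟨s, fun _ => ⟨hs, h⟩⟩
    · exact ⟨0, fun h => absurd h hr⟩
  choose σ hσ using hlift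
  have hmap : (rs.map σ).map (algebraMap S (S ⧸ 𝔞)) = rs := by
    rw [List.map_map]
    exact (List.map_congr_left fun r hr => (hσ r (hrs r hr)).2).trans (List.map_id _)
  have hI' : I • (⊤ : Submodule S S) ≠ ⊤ := by rw [smul_eq_mul, Ideal.mul_top]; exact hI
  have h2 : ((d - e : ℕ) : ℕ∞) ≤ _root_.LocCoh.idealDepth I S := by
    refine (natCast_le_idealDepth_iff_exists _ _ hI' _).2 ⟨rs.map σ, ?_⟩
    have hmem : ∀ r ∈ rs.map σ, r ∈ I := fun r hr => by
      obtain ⟨r', hr', rfl⟩ := List.mem_map.1 hr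
      exact (hσ r' (hrs r' hr')).1
    have hw := isWeaklyRegular_of_fibre (A := R) _ S (rs.map σ) rfl (fun r hr => hIm (hmem r hr)) (by rw [hmap]; exact hreg)
    exact ⟨by rw [List.length_map]; exact hlen, hmem, ⟨hw, fun heq => hI' (eq_top_iff.2 (heq.le.trans
      (Submodule.smul_mono (Ideal.span_le.2 fun r hr => hmem r hr) le_rfl)))⟩⟩
  rw [hd, he]
  refine le_trans ?_ (add_le_add le_rfl (WithBot.coe_le_coe.2 h2))
  exact_mod_cast (show d ≤ e + (d - e) by omega)

end Groth.Agent.CAlgH3.FlatGrade
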