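import Groth.Agent.LocCoh.Depth
import Groth.Agent.LocCoh.Vanishing
import Mathlib.RingTheory.Kaehler.Basic

/-! Local cohomology along a regular sequence, and differentials over a quotient of `ℤ`. -/

set_option autoImplicit false
set_option linter.style.haveILetI false

universe u

open CategoryTheory CategoryTheory.Abelian RingTheory.Sequence KaehlerDifferential

namespace Groth.Agent.CAlgH3.FlatH

variable {R : Type u} [CommRing R]

/-- Rees' vanishing, with no finiteness on the module. -/
theorem subsingleton_ext_of_weaklyRegular : ∀ (rs : List R) (M : Type u) [AddCommGroup M] [Module R M],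
    IsWeaklyRegular M rs → ∀ (N : Type u) [AddCommGroup N] [Module R N],
      (∀ r ∈ rs, ∃ m : ℕ, ∀ x : N, r ^ m • x = 0) → ∀ i < rs.length,
        Subsingleton (Ext (ModuleCat.of R N) (ModuleCat.of R M) i) := by
  intro rs
  induction rs with
  | nil => intro M _ _ _ N _ _ _ i hi; simp at hi
  | cons x rs ih =>
    intro M _ _ hreg N _ _ hN i hi
    obtain ⟨hx, hrs⟩ := (isWeaklyRegular_cons_iff M x rs).1 hreg
    obtain ⟨m, hm⟩ := hN x (List.mem_cons_self ..)
    rcases i with - | i
    · haveI := IsSMulRegular.linearMap_subsingleton_of_mem_annihilator (N := N) (hx.pow m)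
        (Module.mem_annihilator.2 hm)
      exact (Ext.addEquiv₀.trans ModuleCat.homAddEquiv).subsingleton
    · have hq := ih (QuotSMulTop x M) hrs N (fun r hr => hN r (List.mem_cons_of_mem x hr)) i
        (by simpa using hi)
      refine subsingleton_of_forall_eq 0 fun e => ?_
      have key : ∀ j, x ^ j • e = 0 → e = 0 := by
        intro j
        induction j with
        | zero => intro h; rwa [pow_zero, one_smul] at h
        | succ j ih' =>
          intro h
          refine ih' (LocCoh.ext_smul_injective hx i hq _ ?_)
          rw [smul_smul, ← pow_succ', h]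
      exact key m (LocCoh.ext_smul_eq_zero_left hm e)

theorem subsingleton_H_of_weaklyRegular [IsNoetherianRing R] (ts : List R) (M : Type u) [AddCommGroup M] [Module R M]
    (h : IsWeaklyRegular M ts) (j : ℕ) (hj : j ≠ ts.length) :
    Subsingleton (_root_.LocCoh.H (Ideal.ofList ts) j M) := by
  classical
  rcases lt_or_gt_of_ne hj with hlt | hgt
  · refine LocCoh.subsingleton_H_of_ext fun n => subsingleton_ext_of_weaklyRegular ts M h _ (fun r hr => ⟨n, ?_⟩) j hlt
    intro x
    obtain ⟨y, rfl⟩ := Submodule.Quotient.mk_surjective _ x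
    rw [← Submodule.Quotient.mk_smul, Submodule.Quotient.mk_eq_zero]
    exact Ideal.mul_mem_right _ _ (Ideal.pow_mem_pow (show r ∈ Ideal.ofList ts from Ideal.subset_span (show r ∈ {x | x ∈ ts} from hr)) n)
  · have hspan : Ideal.ofList ts = Ideal.span (ts.toFinset : Set R) := by
      rw [Ideal.ofList, List.coe_toFinset]
    have hcd := LocCoh.cdLE_span_finset ts.toFinset
    rw [← hspan] at hcd
    exact hcd M j (lt_of_le_of_lt (List.toFinset_card_le ts) hgt)

theorem isWeaklyRegular_of_flat (ts : List R) (M : Type u) [AddCommGroup M] [Module R M] [Module.Flat R M]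
    (h : IsWeaklyRegular R ts) : IsWeaklyRegular M ts :=
  ((TensorProduct.lid R M).isWeaklyRegular_congr ts).1 h.isWeaklyRegular_rTensor

/-- Differentials do not see a base which is a quotient of `ℤ`. -/
noncomputable def kaehlerEquivInt (k A : Type u) [CommRing k] [CommRing A] [Algebra k A]
    (hk : ∀ c : k, ∃ n : ℤ, (n : k) = c) : Ω[A⁄k] ≃ₗ[A] Ω[A⁄ℤ] :=
  let d : Derivation k A Ω[A⁄ℤ] :=
    { toFun := fun a => D ℤ A a
      map_add' := fun a b => map_add _ a b
      map_smul' := fun c a => by
        obtain ⟨n, rfl⟩ := hk c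
        rw [RingHom.id_apply, Int.cast_smul_eq_zsmul, Int.cast_smul_eq_zsmul, map_zsmul]
      map_one_eq_zero' := (D ℤ A).map_one_eq_zero
      leibniz' := fun a b => (D ℤ A).leibniz a b }
  let d' : Derivation ℤ A Ω[A⁄k] := (D k A).restrictScalars ℤ
  LinearEquiv.ofLinearMap d.liftKaehlerDifferential d'.liftKaehlerDifferential
    (Derivation.liftKaehlerDifferential_unique _ _ (Derivation.ext fun a => by
      show d.liftKaehlerDifferential (d'.liftKaehlerDifferential (D ℤ A a)) = D ℤ A a
      rw [d'.liftKaehlerDifferential_comp_D]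
      exact d.liftKaehlerDifferential_comp_D a))
    (Derivation.liftKaehlerDifferential_unique _ _ (Derivation.ext fun a => by
      show d'.liftKaehlerDifferential (d.liftKaehlerDifferential (D k A a)) = D k A a
      rw [d.liftKaehlerDifferential_comp_D]
      exact d'.liftKaehlerDifferential_comp_D a))

end Groth.Agent.CAlgH3.FlatH
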