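import Groth.Agent.S2286
import Groth.Agent.CycLib28.GysinSheaf
import Mathlib

/-! Generizations in the support of a module flat over the base. -/

set_option autoImplicit false
set_option backward.isDefEq.respectTransparency.types false
universe u

open IsLocalRing TensorProduct

namespace Groth.Agent.CAlgH3.FlatSupportMaximal

theorem exists_prime_over {A B : Type u} [CommRing A] [CommRing B] [IsLocalRing A] [IsLocalRing B] [Algebra A B]
    [IsLocalHom (algebraMap A B)] (N : Type u) [AddCommGroup N] [Module B N] [Module A N] [IsScalarTower A B N]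
    [Module.Finite B N] [Module.Flat A N] [Nontrivial N] (p : Ideal A) [p.IsPrime] :
    ∃ P : Ideal B, P.IsPrime ∧ P.comap (algebraMap A B) = p ∧
      ∃ v : N, ∀ b : B, b • v = 0 → b ∈ P := by
  let S : Submonoid B := p.primeCompl.map (algebraMap A B : A →* B)
  let J : Ideal B := Module.annihilator B N ⊔ p.map (algebraMap A B)
  have hdis : Disjoint (J : Set B) S := by
    rw [Set.disjoint_left]
    rintro _ hJ ⟨s, hs, rfl⟩
    obtain ⟨b, hb, c, hc, hbc⟩ := Submodule.mem_sup.1 hJ
    have hc0 : ∀ c ∈ p.map (algebraMap A B), ∀ n : N, (c • n) ⊗ₜ[A] (1 : A ⧸ p) = 0 := by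
      intro c hc
      refine Submodule.span_induction (hx := hc) ?_ ?_ ?_ ?_
      · rintro _ ⟨a, ha, rfl⟩ n
        rw [algebraMap_smul, TensorProduct.smul_tmul, Algebra.smul_def, mul_one,
          show algebraMap A (A ⧸ p) a = 0 from Ideal.Quotient.eq_zero_iff_mem.2 ha, TensorProduct.tmul_zero]
      · intro n; rw [zero_smul, TensorProduct.zero_tmul]
      · intro x y _ _ hx hy n; rw [add_smul, TensorProduct.add_tmul, hx, hy, add_zero]
      · intro r x _ hx n; rw [smul_eq_mul, mul_comm, mul_smul, hx]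
    have hsn : ∀ n : N, (s • n) ⊗ₜ[A] (1 : A ⧸ p) = 0 := fun n => by
      rw [← algebraMap_smul B s n, show algebraMap A B s = b + c from hbc.symm, add_smul,
        Module.mem_annihilator.1 hb, zero_add, hc0 c hc]
    have hinj : Function.Injective ((s • LinearMap.id : (A ⧸ p) →ₗ[A] A ⧸ p).lTensor N) := by
      refine Module.Flat.lTensor_preserves_injective_linearMap (M := N) _ fun a b hab => ?_
      obtain ⟨a, rfl⟩ := Ideal.Quotient.mk_surjective a
      obtain ⟨b, rfl⟩ := Ideal.Quotient.mk_surjective b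
      rw [Ideal.Quotient.mk_eq_mk_iff_sub_mem]
      have : Ideal.Quotient.mk p (s * a) = Ideal.Quotient.mk p (s * b) := hab
      rw [Ideal.Quotient.mk_eq_mk_iff_sub_mem, ← mul_sub] at this
      exact (‹p.IsPrime›.mem_or_mem this).resolve_left hs
    have hzero : ∀ n : N, n ⊗ₜ[A] (1 : A ⧸ p) = 0 := fun n => hinj (by
      rw [map_zero, LinearMap.lTensor_tmul, LinearMap.smul_apply, LinearMap.id_apply, ← TensorProduct.smul_tmul, hsn])
    have htop : ∀ n : N, n ∈ p • (⊤ : Submodule A N) := fun n => by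
      have := congrArg (TensorProduct.tensorQuotEquivQuotSMul N p) (hzero n)
      rw [map_zero, ← map_one (Ideal.Quotient.mk p), TensorProduct.tensorQuotEquivQuotSMul_tmul_mk, one_smul,
        Submodule.Quotient.mk_eq_zero] at this
      exact this
    have hle : (⊤ : Submodule B N) ≤ maximalIdeal B • ⊤ := fun n _ => by
      refine Submodule.smul_induction_on (htop n) (fun a ha m _ => ?_) fun x y hx hy => add_mem hx hy
      rw [← algebraMap_smul B a m]
      exact Submodule.smul_mem_smul (((mem_maximalIdeal _).2 fun h =>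
        (le_maximalIdeal (Ideal.IsPrime.ne_top ‹p.IsPrime›) ha) (isUnit_of_map_unit (algebraMap A B) a h))) trivial
    exact top_ne_bot (Submodule.eq_bot_of_le_smul_of_le_jacobson_bot _ (⊤ : Submodule B N)
      Module.Finite.fg_top hle (maximalIdeal_le_jacobson _))
  obtain ⟨P, hP, hJP, hPS⟩ := Ideal.exists_le_prime_disjoint J S hdis
  refine ⟨P, hP, le_antisymm (fun a ha => ?_) (Ideal.map_le_iff_le_comap.1 (le_sup_right.trans hJP)), ?_⟩
  · by_contra h
    exact Set.disjoint_left.1 hPS ha ⟨a, h, rfl⟩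
  · have hmem : (⟨P, hP⟩ : PrimeSpectrum B) ∈ Module.support B N := by
      rw [Module.support_eq_zeroLocus]; exact le_sup_left.trans hJP
    obtain ⟨v, hv⟩ := Module.mem_support_iff_exists_annihilator.1 hmem
    exact ⟨v, fun b hb => hv ((Submodule.mem_annihilator_span_singleton v b).2 hb)⟩

open CategoryTheory AlgebraicGeometry Groth.Agent.Coherent Groth.Agent.CycLim28

theorem mem_support_of_gen {X : Scheme.{u}} {F : X.Modules} (hF : Coh.IsQCoh F) {z x : X} (h : z ⤳ x)
    (v : F.presheaf.stalk x) (hv : ∀ a : X.presheaf.stalk x, a • v = 0 → ¬ IsUnit ((X.presheaf.stalkSpecializes h).hom a)) :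
    z ∈ CohB1.support F := by
  intro hsub
  haveI := hF
  haveI : Subsingleton (F.presheaf.stalk z) := hsub
  obtain ⟨_, ⟨U, hU, rfl⟩, hxU, -⟩ :=
    X.isBasis_affineOpens.exists_subset_of_mem_open (Set.mem_univ x) isOpen_univ
  have hzU : z ∈ U := h.mem_open U.isOpen hxU
  have hgerm : ∀ r : Γ(X, U), (X.presheaf.stalkSpecializes h).hom (X.presheaf.germ U x hxU r) =
      X.presheaf.germ U z hzU r := fun r => TopCat.Presheaf.germ_stalkSpecializes_apply X.presheaf hxU h r
  obtain ⟨g, m, hg, hm⟩ := QCohLoc.exists_smul_stalk_eq_germ F hU hxU v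
  obtain ⟨f, hf, hfm⟩ := QCohLoc.exists_smul_eq_zero_of_germ F hU hzU m (Subsingleton.elim _ _)
  refine hv (X.presheaf.germ U x hxU (f * g)) ?_ ?_
  · rw [map_mul, mul_smul, hm, ← QCohLoc.germ_smul', hfm, map_zero]
  · rw [hgerm, map_mul]
    exact ((X.mem_basicOpen f z hzU).1 hf).mul ((X.mem_basicOpen g z hzU).1 (h.mem_open (X.basicOpen g).isOpen hg))

/-- Generizations of the image lift into the support of a flat module of finite type. -/
theorem exists_gen {X Y : Scheme.{u}} (f : X ⟶ Y) {F : X.Modules} (hF : Coh.IsQCoh F) (hft : CohB1.IsFT F)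
    {x : X} (hfl : FlatMod.IsFlatOverAt f F x) (hx : x ∈ CohB1.support F) {w : Y} (hw : w ⤳ f x) :
    ∃ z : X, z ⤳ x ∧ f z = w ∧ z ∈ CohB1.support F := by
  obtain ⟨p, rfl⟩ : ∃ p : PrimeSpectrum (Y.presheaf.stalk (f x)), Y.fromSpecStalk (f x) p = w := by
    have : w ∈ Set.range (Y.fromSpecStalk (f x)) := by rw [Scheme.range_fromSpecStalk]; exact hw
    exact this
  letI := (f.stalkMap x).hom.toAlgebra
  letI := FlatMod.moduleStalkOver f F x
  haveI : IsScalarTower (Y.presheaf.stalk (f x)) (X.presheaf.stalk x) (F.presheaf.stalk x) :=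
    IsScalarTower.of_algebraMap_smul fun _ _ => rfl
  haveI : IsLocalHom (algebraMap (Y.presheaf.stalk (f x)) (X.presheaf.stalk x)) :=
    inferInstanceAs (IsLocalHom (f.stalkMap x).hom)
  haveI : Module.Flat (Y.presheaf.stalk (f x)) (F.presheaf.stalk x) := hfl
  haveI : Module.Finite (X.presheaf.stalk x) (F.presheaf.stalk x) := finite_stalk_of_isFT hF hft x
  haveI : Nontrivial (F.presheaf.stalk x) := not_subsingleton_iff_nontrivial.1 hx
  obtain ⟨P, hP, hPc, v, hv⟩ := exists_prime_over (A := Y.presheaf.stalk (f x)) (B := X.presheaf.stalk x)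
    (F.presheaf.stalk x) p.asIdeal
  refine ⟨X.fromSpecStalk x ⟨P, hP⟩, fromSpecStalk_specializes x _, ?_, ?_⟩
  · rw [apply_fromSpecStalk f x ⟨P, hP⟩]
    congr 1
    exact PrimeSpectrum.ext hPc
  · refine mem_support_of_gen hF (fromSpecStalk_specializes x _) v fun a ha hu => ?_
    have h1 := congrArg PrimeSpectrum.asIdeal (CycLib28.eq_comap_closedPoint x (⟨P, hP⟩ : PrimeSpectrum (X.presheaf.stalk x)))
    rw [PrimeSpectrum.comap_asIdeal] at h1
    have ha' : a ∈ P := hv a ha
    rw [show P = _ from h1, Ideal.mem_comap] at ha'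
    exact ha' hu

end Groth.Agent.CAlgH3.FlatSupportMaximal
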