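import Mathlib
import Groth.Prelude.Def_FSch3
import Groth.Agent.FSchLib.Completion
import Groth.Agent.Matlis6.CompletionNoetherian

/-! A compatible family of elements of `B ⊗ M` over all complete local flat Noetherian algebras `B`
comes from a unique element of `M`. -/

set_option autoImplicit false

universe u

namespace Groth.Agent.CAlgH3.FormalDescent

open TensorProduct IsLocalRing

variable {A : Type u} [CommRing A]

/-- An element vanishing in a flat local algebra is killed by an element outside the contraction. -/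
lemma exists_smul_eq_zero {P : Type u} [CommRing P] [IsLocalRing P] [Algebra A P] [Module.Flat A P]
    {N : Type u} [AddCommGroup N] [Module A N] (b : N) (h : (1 : P) ⊗ₜ[A] b = 0) :
    ∃ s : A, s ∉ (maximalIdeal P).comap (algebraMap A P) ∧ s • b = 0 := by
  set f := LinearMap.toSpanSingleton A N b with hf
  set K : Ideal A := LinearMap.ker f with hK
  have hex := Module.Flat.lTensor_exact P (LinearMap.exact_subtype_ker_map f)
  obtain ⟨y, hy⟩ := (hex ((1 : P) ⊗ₜ[A] (1 : A))).1 (by simpa [hf] using h)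
  by_contra hc
  push Not at hc
  have hle : K.map (algebraMap A P) ≤ maximalIdeal P := Ideal.map_le_iff_le_comap.2 fun s hs => by
    by_contra hs'
    exact hc s hs' hs
  have h1 : ∀ y : P ⊗[A] K, TensorProduct.rid A P (LinearMap.lTensor P K.subtype y) ∈ K.map (algebraMap A P) := by
    intro y
    induction y with
    | zero => simp
    | tmul c k =>
      rw [LinearMap.lTensor_tmul, TensorProduct.rid_tmul, Algebra.smul_def]
      exact Ideal.mul_mem_right _ _ (Ideal.mem_map_of_mem _ k.2)
    | add y z hy hz => rw [map_add, map_add]; exact add_mem hy hz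
  have := h1 y
  rw [show (LinearMap.lTensor P K.subtype) y = (1 : P) ⊗ₜ[A] (1 : A) from hy, TensorProduct.rid_tmul,
    one_smul] at this
  exact (maximalIdeal.isMaximal P).ne_top ((Ideal.eq_top_iff_one _).2 (hle this))

variable [IsNoetherianRing A]

/-- The completed local ring at a prime. -/
abbrev Cp (p : Ideal A) [p.IsPrime] : Type u :=
  AdicCompletion (maximalIdeal (Localization.AtPrime p)) (Localization.AtPrime p)

instance (p : Ideal A) [p.IsPrime] : IsScalarTower A (Localization.AtPrime p) (Cp p) :=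
  IsScalarTower.of_algebraMap_eq' rfl

instance (p : Ideal A) [p.IsPrime] : IsNoetherianRing (Cp p) :=
  Groth.Agent.Matlis6.isNoetherianRing_adicCompletion _

instance (p : Ideal A) [p.IsPrime] : Module.Flat A (Cp p) :=
  Module.Flat.trans A (Localization.AtPrime p) (Cp p)

lemma comap_max (p : Ideal A) [p.IsPrime] : (maximalIdeal (Cp p)).comap (algebraMap A (Cp p)) = p := by
  rw [IsScalarTower.algebraMap_eq A (Localization.AtPrime p) (Cp p), ← Ideal.comap_comap,
    IsLocalRing.maximalIdeal_comap]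
  exact IsLocalization.AtPrime.comap_maximalIdeal _ p

/-- The map from the completed local ring into a complete local algebra. -/
lemma exists_algHom (B : Type u) [CommRing B] [Algebra A B] [IsLocalRing B]
    [IsAdicComplete (maximalIdeal B) B] (p : Ideal A) [p.IsPrime]
    (hp : (maximalIdeal B).comap (algebraMap A B) = p) : Nonempty (Cp p →ₐ[A] B) := by
  have hu : ∀ s : p.primeCompl, IsUnit (algebraMap A B s) := fun s => by
    by_contra hs
    exact s.2 (hp.le (Ideal.mem_comap.2 ((IsLocalRing.mem_maximalIdeal _).2 hs)))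
  let g : Localization.AtPrime p →+* B := IsLocalization.lift hu
  have hg : (maximalIdeal (Localization.AtPrime p)).map g ≤ maximalIdeal B := by
    rw [← Localization.AtPrime.map_eq_maximalIdeal, Ideal.map_map, IsLocalization.lift_comp,
      Ideal.map_le_iff_le_comap]
    exact hp.ge
  let Φ : Cp p →+* B := ((AdicCompletion.ofAlgEquiv (maximalIdeal B)).symm.toRingEquiv.toRingHom).comp
    (FSch.complMap (maximalIdeal (Localization.AtPrime p)) (maximalIdeal B) g hg)
  refine ⟨{ toRingHom := Φ, commutes' := fun a => ?_ }⟩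
  show Φ (algebraMap A (Cp p) a) = algebraMap A B a
  rw [IsScalarTower.algebraMap_apply A (Localization.AtPrime p) (Cp p)]
  simp only [Φ, RingHom.comp_apply, Groth.Agent.FSchLib.complMap_algebraMap, g, IsLocalization.lift_eq]
  exact (AdicCompletion.ofAlgEquiv (maximalIdeal B)).symm.commutes _

variable {M : Type u} [AddCommGroup M] [Module A M] [Module.Finite A M]

/-- A test algebra at a prime of a flat Noetherian algebra. -/
lemma exists_test (C : Type u) [CommRing C] [IsNoetherianRing C] [Algebra A C] [Module.Flat A C]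
    (Q : Ideal C) [Q.IsPrime] :
    ∃ (B : Type u) (_ : CommRing B) (_ : Algebra A B) (_ : IsNoetherianRing B) (_ : IsLocalRing B)
      (_ : IsAdicComplete (maximalIdeal B) B) (_ : Module.Flat A B) (g : C →ₐ[A] B),
      (maximalIdeal B).comap (algebraMap A B) = Q.comap (algebraMap A C) ∧
      ∀ z : C ⊗[A] M, LinearMap.rTensor M g.toLinearMap z = 0 → ∃ c : C, c ∉ Q ∧ c • z = 0 := by
  have : IsScalarTower A C (Cp Q) := IsScalarTower.of_algebraMap_eq' rfl
  refine ⟨Cp Q, inferInstance, inferInstance, inferInstance, inferInstance, inferInstance,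
    Module.Flat.trans A C (Cp Q), IsScalarTower.toAlgHom A C (Cp Q), ?_, fun z hz => ?_⟩
  · rw [IsScalarTower.algebraMap_eq A C (Cp Q), ← Ideal.comap_comap, comap_max]
  have key : ∀ w : C ⊗[A] M, TensorProduct.AlgebraTensorModule.cancelBaseChange A C C (Cp Q) M
      ((1 : Cp Q) ⊗ₜ[C] w) = LinearMap.rTensor M (IsScalarTower.toAlgHom A C (Cp Q)).toLinearMap w := by
    intro w
    induction w with
    | zero => simp
    | tmul c m => simp [Algebra.smul_def]
    | add v w hv hw => rw [TensorProduct.tmul_add, map_add, map_add, hv, hw]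
  have h0 : (1 : Cp Q) ⊗ₜ[C] z = 0 :=
    (TensorProduct.AlgebraTensorModule.cancelBaseChange A C C (Cp Q) M).injective
      ((key z).trans (hz.trans (map_zero _).symm))
  obtain ⟨c, hc, hcz⟩ := exists_smul_eq_zero z h0
  exact ⟨c, by rwa [comap_max] at hc, hcz⟩

section

variable (x : ∀ (B : Type u) [CommRing B] [Algebra A B] [IsNoetherianRing B] [IsLocalRing B],
    IsAdicComplete (IsLocalRing.maximalIdeal B) B → Module.Flat A B → TensorProduct A B M)
  (hx : ∀ (B : Type u) [CommRing B] [Algebra A B] [IsNoetherianRing B] [IsLocalRing B]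
    (hB : IsAdicComplete (IsLocalRing.maximalIdeal B) B) (hBf : Module.Flat A B) (B' : Type u)
    [CommRing B'] [Algebra A B'] [IsNoetherianRing B'] [IsLocalRing B']
    (hB' : IsAdicComplete (IsLocalRing.maximalIdeal B') B') (hB'f : Module.Flat A B') (g : B →ₐ[A] B'),
    LinearMap.rTensor M g.toLinearMap (x B hB hBf) = x B' hB' hB'f)

/-- The member of the family at a prime. -/
noncomputable abbrev xp (p : Ideal A) [p.IsPrime] : Cp p ⊗[A] M := x (Cp p) inferInstance inferInstance

lemma rTensor_one_tmul {B B' : Type u} [CommRing B] [Algebra A B] [CommRing B'] [Algebra A B']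
    (g : B →ₐ[A] B') (a : M) :
    LinearMap.rTensor M g.toLinearMap ((1 : B) ⊗ₜ[A] a) = (1 : B') ⊗ₜ[A] a := by simp

include hx

lemma down {p r : Ideal A} [p.IsPrime] [r.IsPrime] (hrp : r ≤ p) {t : A} {a : M}
    (h : t • xp x p = (1 : Cp p) ⊗ₜ[A] a) {t' : A} {a' : M} (ht' : t' ∉ r)
    (h' : t' • xp x r = (1 : Cp r) ⊗ₜ[A] a') : t • xp x r = (1 : Cp r) ⊗ₜ[A] a := by
  haveI : (maximalIdeal (Cp p)).LiesOver p := ⟨(comap_max p).symm⟩
  obtain ⟨Q, -, hQ, hQr⟩ := Ideal.exists_ideal_le_liesOver_of_le (p := r) (q := p) (maximalIdeal (Cp p)) hrp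
  haveI := hQ
  have hQr' : Q.comap (algebraMap A (Cp p)) = r := hQr.over.symm
  obtain ⟨B, _, _, _, _, hB, hBf, g, hcomap, -⟩ := exists_test (A := A) (M := M) (Cp p) Q
  rw [hQr'] at hcomap
  obtain ⟨g'⟩ := exists_algHom B r hcomap
  have e1 : t • x B hB hBf = (1 : B) ⊗ₜ[A] a := by
    rw [← hx (Cp p) inferInstance inferInstance B hB hBf g, ← map_smul,
      show t • x (Cp p) inferInstance inferInstance = t • xp x p from rfl, h, rTensor_one_tmul]
  have e2 : t' • x B hB hBf = (1 : B) ⊗ₜ[A] a' := by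
    rw [← hx (Cp r) inferInstance inferInstance B hB hBf g', ← map_smul,
      show t' • x (Cp r) inferInstance inferInstance = t' • xp x r from rfl, h', rTensor_one_tmul]
  have e3 : (1 : B) ⊗ₜ[A] (t • a' - t' • a) = 0 := by
    rw [TensorProduct.tmul_sub, TensorProduct.tmul_smul, TensorProduct.tmul_smul, ← e1, ← e2,
      smul_comm, sub_self]
  obtain ⟨s, hs, hs0⟩ := exists_smul_eq_zero _ e3
  rw [hcomap] at hs
  have hu : IsUnit (algebraMap A (Cp r) (s * t')) := by
    by_contra hu
    exact mul_mem' hs ht' ((comap_max r) ▸ Ideal.mem_comap.2 ((IsLocalRing.mem_maximalIdeal _).2 hu))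
  rw [← sub_eq_zero, ← hu.smul_eq_zero, algebraMap_smul]
  calc (s * t') • (t • xp x r - (1 : Cp r) ⊗ₜ[A] a) = (1 : Cp r) ⊗ₜ[A] (s • (t • a' - t' • a)) := by
        rw [TensorProduct.tmul_smul, TensorProduct.tmul_sub, TensorProduct.tmul_smul,
          TensorProduct.tmul_smul, ← h', mul_smul, smul_sub t', smul_comm t t']
    _ = 0 := by rw [hs0, TensorProduct.tmul_zero]
where
  mul_mem' {s t' : A} (hs : s ∉ r) (ht' : t' ∉ r) : s * t' ∉ r := fun h =>
    (Ideal.IsPrime.mem_or_mem inferInstance h).elim hs ht'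

theorem exists_local (p : Ideal A) [hp : p.IsPrime] :
    ∃ (t : A) (a : M), t ∉ p ∧ t • xp x p = (1 : Cp p) ⊗ₜ[A] a := by
  classical
  induction hh : p.height using WellFoundedLT.induction generalizing p with
  | _ hgt ih =>
  subst hh
  have ih' : ∀ r : Ideal A, ∀ _ : r.IsPrime, r < p →
      ∃ (t : A) (a : M), t ∉ r ∧ t • xp x r = (1 : Cp r) ⊗ₜ[A] a := fun r hr hrp => by
    haveI := hr
    exact ih r.height (Ideal.height_strict_mono_of_isPrime hrp) r rfl
  let W : Ideal A :=
    { carrier := {s | ∃ (t : A) (a : M), t ∉ p ∧ (t * s) • xp x p = (1 : Cp p) ⊗ₜ[A] a}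
      zero_mem' := ⟨1, 0, fun h => hp.ne_top ((Ideal.eq_top_iff_one p).2 h), by simp⟩
      add_mem' := fun {s s'} ⟨t, a, ht, h⟩ ⟨t', a', ht', h'⟩ =>
        ⟨t * t', t' • a + t • a', fun hh => (hp.mem_or_mem hh).elim ht ht', by
          rw [TensorProduct.tmul_add, TensorProduct.tmul_smul, TensorProduct.tmul_smul, ← h, ← h',
            smul_smul, smul_smul, ← add_smul]
          ring_nf⟩
      smul_mem' := fun c s ⟨t, a, ht, h⟩ => ⟨t, c • a, ht, by
        rw [TensorProduct.tmul_smul, ← h, smul_smul, smul_eq_mul]; ring_nf⟩ }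
  have hrad : p ≤ W.radical := by
    intro a ha
    by_contra hc
    let S : Submonoid A := Submonoid.powers a ⊔ p.primeCompl
    have hdisj : Disjoint (W : Set A) (S : Set A) := by
      rw [Set.disjoint_left]
      intro s hs hsS
      obtain ⟨_, ⟨k, rfl⟩, u, hu, rfl⟩ := Submonoid.mem_sup.1 hsS
      obtain ⟨t, b, ht, h⟩ := hs
      exact hc ⟨k, t * u, b, fun hh => (hp.mem_or_mem hh).elim ht hu, by
        rw [← h]; congr 1; ring⟩
    obtain ⟨r, hr, hWr, hrS⟩ := Ideal.exists_le_prime_disjoint W S hdisj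
    have hrp : r ≤ p := fun s hs => by
      by_contra hsp
      exact Set.disjoint_left.1 hrS hs (Submonoid.mem_sup_right hsp)
    have har : a ∉ r := fun hs => Set.disjoint_left.1 hrS hs (Submonoid.mem_sup_left (Submonoid.mem_powers a))
    obtain ⟨t, a₀, ht, h⟩ := ih' r hr (lt_of_le_of_ne hrp fun e => har (e ▸ ha))
    suffices ∃ s, s ∉ r ∧ s • (t • xp x p - (1 : Cp p) ⊗ₜ[A] a₀) = 0 by
      obtain ⟨s, hs, hs0⟩ := this
      rw [smul_sub, smul_smul, sub_eq_zero, ← TensorProduct.tmul_smul] at hs0
      exact (fun hm => (hr.mem_or_mem hm).elim hs ht) (hWr (show s * t ∈ W from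
        ⟨1, s • a₀, fun h => hp.ne_top ((Ideal.eq_top_iff_one p).2 h), by rw [one_mul]; exact hs0⟩))
    set z := t • xp x p - (1 : Cp p) ⊗ₜ[A] a₀ with hz
    by_contra hs
    push Not at hs
    let K : Ideal (Cp p) := LinearMap.ker (LinearMap.toSpanSingleton (Cp p) (Cp p ⊗[A] M) z)
    let S' : Submonoid (Cp p) := r.primeCompl.map (algebraMap A (Cp p))
    obtain ⟨Q, hQ, hKQ, hQS⟩ := Ideal.exists_le_prime_disjoint K S' (Set.disjoint_left.2 (by
      rintro c hc ⟨s, hsr, rfl⟩
      exact hs s hsr (by rw [← algebraMap_smul (Cp p) s z]; exact hc)))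
    have hQr : Q.comap (algebraMap A (Cp p)) ≤ r := fun s hsQ => by
      by_contra hsr
      exact Set.disjoint_left.1 hQS hsQ ⟨s, hsr, rfl⟩
    obtain ⟨B, _, _, _, _, hB, hBf, g, hcomap, hzero⟩ := exists_test (A := A) (M := M) (Cp p) Q
    obtain ⟨g'⟩ := exists_algHom B (Q.comap (algebraMap A (Cp p))) hcomap
    obtain ⟨t', a', ht', h'⟩ := ih' (Q.comap (algebraMap A (Cp p))) inferInstance
      (lt_of_le_of_lt hQr (lt_of_le_of_ne hrp fun e => har (e ▸ ha)))
    have hd := down x hx hQr h ht' h'
    obtain ⟨c, hc', hc0⟩ := hzero z (by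
      rw [hz, map_sub, map_smul, rTensor_one_tmul,
        show xp x p = x (Cp p) inferInstance inferInstance from rfl,
        hx (Cp p) inferInstance inferInstance B hB hBf g,
        ← hx (Cp (Q.comap (algebraMap A (Cp p)))) inferInstance inferInstance B hB hBf g', ← map_smul,
        show t • x (Cp (Q.comap (algebraMap A (Cp p)))) inferInstance inferInstance =
          t • xp x (Q.comap (algebraMap A (Cp p))) from rfl, hd, rTensor_one_tmul, sub_self])
    exact hc' (hKQ hc0)
  obtain ⟨n, hn⟩ := Ideal.exists_pow_le_of_le_radical_of_fg hrad (IsNoetherian.noetherian p)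
  obtain ⟨k, b, hb⟩ := Submodule.fg_iff_exists_fin_generating_family.1 (IsNoetherian.noetherian (p ^ n))
  have hbW : ∀ i, b i ∈ W := fun i => hn (hb ▸ Submodule.subset_span ⟨i, rfl⟩)
  choose t m ht hm using hbW
  let T := ∏ i, t i
  have hT : T ∉ p := fun h => by
    obtain ⟨i, -, hi⟩ := (hp.prod_mem_iff).1 h
    exact ht i hi
  let ψ : M →ₗ[A] (Fin k → M) := LinearMap.pi fun i => b i • LinearMap.id
  let mm : Fin k → M := fun i => (∏ j ∈ Finset.univ.erase i, t j) • m i
  have hψ : ∀ (w : Cp p ⊗[A] M) i, TensorProduct.piRight A A (Cp p) (fun _ : Fin k => M)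
      (LinearMap.lTensor (Cp p) ψ w) i = b i • w := by
    intro w i
    induction w with
    | zero => simp
    | tmul c v => simp [ψ, TensorProduct.tmul_smul]
    | add v w hv hw => rw [map_add, map_add, Pi.add_apply, hv, hw, smul_add]
  have hTx : LinearMap.lTensor (Cp p) ψ (T • xp x p) = (1 : Cp p) ⊗ₜ[A] mm := by
    refine (TensorProduct.piRight A A (Cp p) (fun _ : Fin k => M)).injective (funext fun i => ?_)
    rw [hψ]
    simp only [TensorProduct.piRight_apply, TensorProduct.piRightHom_tmul, mm, TensorProduct.tmul_smul]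
    rw [← hm i, smul_smul, smul_smul]
    congr 1
    rw [show T = t i * ∏ j ∈ Finset.univ.erase i, t j from
      (Finset.mul_prod_erase Finset.univ t (Finset.mem_univ i)).symm]
    ring
  obtain ⟨u, hu, hu0⟩ := exists_smul_eq_zero (A := A) (P := Cp p) ((LinearMap.range ψ).mkQ mm) (by
    rw [← LinearMap.lTensor_tmul (Cp p), ← hTx, ← LinearMap.comp_apply, ← LinearMap.lTensor_comp,
      show (LinearMap.range ψ).mkQ ∘ₗ ψ = 0 by ext v; simp, LinearMap.lTensor_zero, LinearMap.zero_apply])
  rw [comap_max] at hu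
  rw [← map_smul, Submodule.mkQ_apply, Submodule.Quotient.mk_eq_zero] at hu0
  obtain ⟨a, ha⟩ := hu0
  set y := (u * T) • xp x p - (1 : Cp p) ⊗ₜ[A] a with hy
  have hy0 : LinearMap.lTensor (Cp p) ψ y = 0 := by
    rw [hy, map_sub, mul_smul, map_smul, hTx, LinearMap.lTensor_tmul, ha, TensorProduct.tmul_smul, sub_self]
  obtain ⟨Y, hY⟩ := (Module.Flat.lTensor_exact (Cp p) (LinearMap.exact_subtype_ker_map ψ) y).1 hy0
  have hV : ∀ Y : Cp p ⊗[A] LinearMap.ker ψ, ∃ (t : A) (a : M), t ∉ p ∧
      t • LinearMap.lTensor (Cp p) (LinearMap.ker ψ).subtype Y = (1 : Cp p) ⊗ₜ[A] a := by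
    intro Y
    induction Y with
    | zero => exact ⟨1, 0, fun h => hp.ne_top ((Ideal.eq_top_iff_one p).2 h), by simp⟩
    | add v w hv hw =>
      obtain ⟨t, a, ht, h⟩ := hv
      obtain ⟨t', a', ht', h'⟩ := hw
      exact ⟨t * t', t' • a + t • a', fun hh => (hp.mem_or_mem hh).elim ht ht', by
        rw [map_add, smul_add, TensorProduct.tmul_add, TensorProduct.tmul_smul, TensorProduct.tmul_smul,
          ← h, ← h', smul_smul, smul_smul, mul_comm t t']⟩
    | tmul c v =>
      obtain ⟨l, hl⟩ := Ideal.Quotient.mk_surjective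
        (AdicCompletion.evalₐ (maximalIdeal (Localization.AtPrime p)) n c)
      obtain ⟨⟨a, s⟩, has⟩ := IsLocalization.surj p.primeCompl l
      refine ⟨s, a • (v : M), s.2, ?_⟩
      have hker : (s : A) • c - algebraMap A (Cp p) a ∈ (p ^ n).map (algebraMap A (Cp p)) := by
        have h1 : (s : A) • (c - algebraMap (Localization.AtPrime p) (Cp p) l) =
            (s : A) • c - algebraMap A (Cp p) a := by
          rw [smul_sub, Algebra.smul_def (s : A) (algebraMap (Localization.AtPrime p) (Cp p) l),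
            IsScalarTower.algebraMap_apply A (Localization.AtPrime p) (Cp p) (s : A),
            IsScalarTower.algebraMap_apply A (Localization.AtPrime p) (Cp p) a, ← map_mul,
            mul_comm, has]
        rw [← h1, Algebra.smul_def]
        refine Ideal.mul_mem_left _ _ ?_
        rw [Ideal.map_pow, IsScalarTower.algebraMap_eq A (Localization.AtPrime p) (Cp p), ← Ideal.map_map,
          Localization.AtPrime.map_eq_maximalIdeal, ← Groth.Agent.FSchLib.ker_evalₐ _ (IsNoetherian.noetherian _),
          RingHom.mem_ker, map_sub, sub_eq_zero]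
        exact hl.symm.trans (Groth.Agent.FSchLib.evalₐ_algebraMap _ _ _).symm
      have hkill : ∀ d ∈ (p ^ n).map (algebraMap A (Cp p)), d ⊗ₜ[A] (v : M) = 0 := by
        intro d hd
        rw [← Submodule.restrictScalars_mem A, ← Ideal.smul_top_eq_map] at hd
        induction hd using Submodule.smul_induction_on' with
        | smul r hr d _ =>
          rw [TensorProduct.smul_tmul]
          have hle : Submodule.span A (Set.range b) ≤
              LinearMap.ker (LinearMap.toSpanSingleton A M (v : M)) := by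
            rw [Submodule.span_le]
            rintro _ ⟨i, rfl⟩
            exact congrFun v.2 i
          rw [show r • (v : M) = 0 from hle (hb ▸ hr), TensorProduct.tmul_zero]
        | add d _ e _ hd he => rw [TensorProduct.add_tmul, hd, he, add_zero]
      have := hkill _ hker
      rw [TensorProduct.sub_tmul, sub_eq_zero] at this
      rw [LinearMap.lTensor_tmul, TensorProduct.smul_tmul', Submodule.subtype_apply, this,
        Algebra.algebraMap_eq_smul_one, TensorProduct.smul_tmul]
  obtain ⟨t₁, a₁, ht₁, h₁⟩ := hV Y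
  refine ⟨t₁ * (u * T), t₁ • a + a₁, fun h => (hp.mem_or_mem h).elim ht₁ fun h' => (hp.mem_or_mem h').elim hu hT, ?_⟩
  rw [TensorProduct.tmul_add, ← h₁, hY, hy, TensorProduct.tmul_smul, smul_sub, mul_smul, add_sub_cancel]

theorem exists_global : ∃ m : M, ∀ (p : Ideal A) [p.IsPrime], xp x p = (1 : Cp p) ⊗ₜ[A] m := by
  classical
  let I : Ideal A :=
    { carrier := {s | ∃ m : M, ∀ (p : Ideal A) (_ : p.IsPrime), s • xp x p = (1 : Cp p) ⊗ₜ[A] m}
      zero_mem' := ⟨0, fun p _ => by simp⟩
      add_mem' := fun {s s'} ⟨m, h⟩ ⟨m', h'⟩ => ⟨m + m', fun p hp => by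
        rw [add_smul, h p hp, h' p hp, TensorProduct.tmul_add]⟩
      smul_mem' := fun c s ⟨m, h⟩ => ⟨c • m, fun p hp => by
        rw [smul_eq_mul, mul_smul, h p hp, TensorProduct.tmul_smul]⟩ }
  by_cases hI : I = ⊤
  · obtain ⟨m, hm⟩ := (Ideal.eq_top_iff_one I).1 hI
    exact ⟨m, fun p hp => by simpa using hm p hp⟩
  obtain ⟨p, hp, hIp⟩ := Ideal.exists_le_maximal I hI
  haveI := hp.isPrime
  obtain ⟨t, a, ht, h⟩ := exists_local x hx p
  -- each associated prime
  have hone : ∀ (r : Ideal A) [r.IsPrime], ∃ s, s ∉ p ∧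
      s • (t • xp x r - (1 : Cp r) ⊗ₜ[A] a) = 0 := by
    intro r hr
    obtain ⟨t', a', ht', h'⟩ := exists_local x hx r
    set b := t • a' - t' • a with hb
    have hz : t' • (t • xp x r - (1 : Cp r) ⊗ₜ[A] a) = (1 : Cp r) ⊗ₜ[A] b := by
      rw [hb, TensorProduct.tmul_sub, smul_sub, smul_comm, h', TensorProduct.tmul_smul,
        TensorProduct.tmul_smul]
    have hu : IsUnit (algebraMap A (Cp r) t') := by
      by_contra hu
      exact ht' (comap_max r ▸ Ideal.mem_comap.2 ((IsLocalRing.mem_maximalIdeal _).2 hu))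
    by_contra hc
    push Not at hc
    let K : Ideal A := LinearMap.ker (LinearMap.toSpanSingleton A M b)
    have hdisj : Disjoint (K : Set A) ((p.primeCompl ⊔ r.primeCompl : Submonoid A) : Set A) := by
      rw [Set.disjoint_left]
      intro c hcK hcS
      obtain ⟨s, hs, w, hw, rfl⟩ := Submonoid.mem_sup.1 hcS
      refine hc s hs ?_
      have hw' : IsUnit (algebraMap A (Cp r) (w * t')) := by
        by_contra hu'
        exact ((Ideal.IsPrime.mem_or_mem hr
          (comap_max r ▸ Ideal.mem_comap.2 ((IsLocalRing.mem_maximalIdeal _).2 hu'))).elim hw ht')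
      rw [← hw'.smul_eq_zero, algebraMap_smul, mul_smul, smul_comm t' s, hz,
        ← TensorProduct.tmul_smul, ← TensorProduct.tmul_smul, smul_smul, mul_comm w s]
      exact (congrArg ((1 : Cp r) ⊗ₜ[A] ·) (show (s * w) • b = 0 from hcK)).trans (TensorProduct.tmul_zero _ _)
    obtain ⟨q, hq, hKq, hqS⟩ := Ideal.exists_le_prime_disjoint K _ hdisj
    have hqp : q ≤ p := fun s hs => by
      by_contra hsp
      exact Set.disjoint_left.1 hqS hs (Submonoid.mem_sup_left hsp)
    have hqr : q ≤ r := fun s hs => by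
      by_contra hsp
      exact Set.disjoint_left.1 hqS hs (Submonoid.mem_sup_right hsp)
    haveI := hq
    obtain ⟨t'', a'', ht'', h''⟩ := exists_local x hx q
    have e1 := down x hx hqp h ht'' h''
    have e2 := down x hx hqr h' ht'' h''
    have e3 : (1 : Cp q) ⊗ₜ[A] b = 0 := by
      rw [hb, TensorProduct.tmul_sub, TensorProduct.tmul_smul, TensorProduct.tmul_smul, ← e1, ← e2,
        smul_comm, sub_self]
    obtain ⟨c, hcq, hcb⟩ := exists_smul_eq_zero b e3
    rw [comap_max] at hcq
    exact hcq (hKq hcb)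
  choose s hs hs0 using hone
  let R := (associatedPrimes.finite A M).toFinset
  have hRp : ∀ r ∈ R, r.IsPrime := fun r hr =>
    ((associatedPrimes.finite A M).mem_toFinset.1 hr).isPrime
  let σ := ∏ r ∈ R.attach, @s r.1 (hRp r.1 r.2)
  have hσ : σ ∉ p := fun hh => by
    obtain ⟨r, -, hr⟩ := (hp.isPrime.prod_mem_iff).1 hh
    exact @hs r.1 (hRp r.1 r.2) hr
  have hall : ∀ (q : Ideal A) (_ : q.IsPrime), σ • (t • xp x q - (1 : Cp q) ⊗ₜ[A] a) = 0 := by
    intro q hq
    obtain ⟨t', a', ht', h'⟩ := exists_local x hx q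
    set b := σ • (t • a' - t' • a) with hb
    have hz : t' • σ • (t • xp x q - (1 : Cp q) ⊗ₜ[A] a) = (1 : Cp q) ⊗ₜ[A] b := by
      rw [hb, TensorProduct.tmul_smul, TensorProduct.tmul_sub, smul_comm t' σ, smul_sub t', smul_comm t' t,
        h', TensorProduct.tmul_smul, TensorProduct.tmul_smul]
    have hu : IsUnit (algebraMap A (Cp q) t') := by
      by_contra hu
      exact ht' (comap_max q ▸ Ideal.mem_comap.2 ((IsLocalRing.mem_maximalIdeal _).2 hu))
    rw [← hu.smul_eq_zero, algebraMap_smul, hz]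
    by_contra hne
    let K : Ideal A := LinearMap.ker (LinearMap.toSpanSingleton A M b)
    have hKq : K ≤ q := fun c hc => by
      by_contra hcq
      have hu' : IsUnit (algebraMap A (Cp q) c) := by
        by_contra hu'
        exact hcq (comap_max q ▸ Ideal.mem_comap.2 ((IsLocalRing.mem_maximalIdeal _).2 hu'))
      exact hne (hu'.smul_eq_zero.1 (by
        rw [algebraMap_smul, ← TensorProduct.tmul_smul, show c • b = 0 from hc, TensorProduct.tmul_zero]))
    obtain ⟨r, hrmin, hrq⟩ := Ideal.exists_minimalPrimes_le hKq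
    haveI := hrmin.1.1
    have hass : r ∈ associatedPrimes A M := by
      have h1 : r ∈ associatedPrimes A (A ⧸ K) := by
        refine Module.associatedPrimes.minimalPrimes_annihilator_subset_associatedPrimes A _ ?_
        rwa [Ideal.annihilator_quotient]
      exact associatedPrimes.subset_of_injective (f := K.liftQ (LinearMap.toSpanSingleton A M b) le_rfl)
        (LinearMap.ker_eq_bot.1 (Submodule.ker_liftQ_eq_bot _ _ _ le_rfl)) h1
    have hrR : r ∈ R := (associatedPrimes.finite A M).mem_toFinset.2 hass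
    obtain ⟨t'', a'', ht'', h''⟩ := exists_local x hx r
    have e1 := down x hx hrq h' ht'' h''
    have e3 : (1 : Cp r) ⊗ₜ[A] b = 0 := by
      have hd : σ • (t • xp x r - (1 : Cp r) ⊗ₜ[A] a) = 0 := by
        rw [show σ = (∏ z ∈ (R.attach).erase ⟨r, hrR⟩, @s z.1 (hRp z.1 z.2)) * @s r (hRp r hrR) from
          (Finset.prod_erase_mul R.attach _ (Finset.mem_attach _ ⟨r, hrR⟩)).symm, mul_smul,
          @hs0 r (hRp r hrR), smul_zero]
      rw [hb, TensorProduct.tmul_smul, TensorProduct.tmul_sub, TensorProduct.tmul_smul,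
        TensorProduct.tmul_smul, ← e1, smul_comm t, ← smul_sub t', smul_comm σ, hd, smul_zero]
    obtain ⟨c, hcr, hcb⟩ := exists_smul_eq_zero b e3
    rw [comap_max] at hcr
    exact hcr (hrmin.1.2 hcb)
  refine absurd (hIp ⟨σ • a, fun q hq => ?_⟩ : σ * t ∈ p) fun hh => (hp.isPrime.mem_or_mem hh).elim hσ ht
  rw [TensorProduct.tmul_smul, mul_smul, ← sub_eq_zero, ← smul_sub]
  exact hall q hq

theorem main : ∃! m : M, ∀ (B : Type u) [CommRing B] [Algebra A B] [IsNoetherianRing B] [IsLocalRing B]
    (hB : IsAdicComplete (IsLocalRing.maximalIdeal B) B) (hBf : Module.Flat A B),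
    x B hB hBf = (1 : B) ⊗ₜ[A] m := by
  obtain ⟨m, hm⟩ := exists_global x hx
  refine ⟨m, fun B _ _ _ _ hB hBf => ?_, fun m' hm' => ?_⟩
  · obtain ⟨g⟩ := exists_algHom B ((maximalIdeal B).comap (algebraMap A B)) rfl
    rw [← hx (Cp ((maximalIdeal B).comap (algebraMap A B))) inferInstance inferInstance B hB hBf g,
      show x (Cp ((maximalIdeal B).comap (algebraMap A B))) inferInstance inferInstance =
        xp x ((maximalIdeal B).comap (algebraMap A B)) from rfl, hm, rTensor_one_tmul]
  · by_contra hne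
    let K : Ideal A := LinearMap.ker (LinearMap.toSpanSingleton A M (m' - m))
    have hK : K ≠ ⊤ := fun h => hne (sub_eq_zero.1 (by
      simpa [K] using (Ideal.eq_top_iff_one K).1 h))
    obtain ⟨p, hp, hKp⟩ := Ideal.exists_le_maximal K hK
    haveI := hp.isPrime
    obtain ⟨c, hcp, hcz⟩ := exists_smul_eq_zero (A := A) (P := Cp p) (m' - m) (by
      rw [TensorProduct.tmul_sub, ← hm' (Cp p) inferInstance inferInstance, sub_eq_zero]
      exact hm p)
    rw [comap_max] at hcp
    exact hcp (hKp hcz)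

end

end Groth.Agent.CAlgH3.FormalDescent
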