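import Groth.Prelude.Def_Lef
import Mathlib

/-! Global sections of a connected universally closed scheme over a field are nilpotent or invertible. -/

set_option autoImplicit false
set_option backward.isDefEq.respectTransparency.types false
set_option linter.style.haveILetI false
universe u

open CategoryTheory CategoryTheory.Limits AlgebraicGeometry TopologicalSpace Polynomial Opposite

namespace Groth.Agent.CAlgH3.FormalLocalRing

theorem idempotent_trivial {X : Scheme.{u}} [PreconnectedSpace X] {e : Γ(X, ⊤)} (he : e * e = e) :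
    e = 0 ∨ e = 1 := by
  have hinf : X.basicOpen e ⊓ X.basicOpen (1 - e) = ⊥ := by
    rw [← Scheme.basicOpen_mul, mul_sub, mul_one, he, sub_self, Scheme.basicOpen_zero]
  have hsup : X.basicOpen e ⊔ X.basicOpen (1 - e) = ⊤ := by
    refine top_le_iff.1 fun x _ => ?_
    by_contra h
    rw [Opens.mem_sup, not_or, Scheme.mem_basicOpen_top, Scheme.mem_basicOpen_top,
      map_sub, map_one] at h
    exact (IsLocalRing.isUnit_or_isUnit_one_sub_self _).elim h.1 h.2
  have hc : IsClopen (X.basicOpen e : Set X) := by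
    refine ⟨⟨?_⟩, (X.basicOpen e).2⟩
    have : (X.basicOpen e : Set X)ᶜ = X.basicOpen (1 - e) := by
      ext x
      constructor
      · intro hx
        have h : x ∈ X.basicOpen e ⊔ X.basicOpen (1 - e) := by rw [hsup]; trivial
        exact (Opens.mem_sup.1 h).resolve_left hx
      · intro hx hx'
        have h : x ∈ X.basicOpen e ⊓ X.basicOpen (1 - e) := ⟨hx', hx⟩
        rw [hinf] at h
        exact h
    rw [this]; exact (X.basicOpen _).2
  have hu : ∀ f : Γ(X, ⊤), X.basicOpen f = ⊤ → IsUnit f := fun f hf => by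
    refine RingedSpace.isUnit_of_isUnit_germ X.toRingedSpace ⊤ f fun x hx => ?_
    have h : x ∈ X.basicOpen f := by rw [hf]; trivial
    exact (Scheme.mem_basicOpen_top _ _ _).1 h
  rcases isClopen_iff.1 hc with h | h
  · left
    have h0 : X.basicOpen (1 - e) = ⊤ := by
      refine le_antisymm le_top fun x hx => ?_
      have h' : x ∈ X.basicOpen e ⊔ X.basicOpen (1 - e) := by rw [hsup]; trivial
      refine (Opens.mem_sup.1 h').resolve_left fun he' => ?_
      have : x ∈ (X.basicOpen e : Set X) := he'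
      rw [h] at this
      exact this
    exact (hu _ h0).mul_left_eq_zero.1 (by rw [mul_sub, mul_one, he, sub_self])
  · right
    have h0 : X.basicOpen e = ⊤ := Opens.ext h
    exact ((hu _ h0).mul_left_inj).1 (he.trans (one_mul e).symm)

theorem nilpotent_or_unit {k R : Type*} [Field k] [CommRing R] [Algebra k R] [Algebra.IsIntegral k R]
    (hR : ∀ e : R, e * e = e → e = 0 ∨ e = 1) (a : R) : IsNilpotent a ∨ IsUnit a := by
  obtain ⟨p, hp, hpa⟩ := Algebra.IsIntegral.isIntegral (R := k) a
  obtain ⟨q, hq, hq0⟩ := exists_eq_pow_rootMultiplicity_mul_and_not_dvd p hp.ne_zero (0 : k)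
  rw [map_zero, sub_zero] at hq hq0
  generalize p.rootMultiplicity 0 = m at hq
  have hcop : IsCoprime (X ^ m) q := (Polynomial.irreducible_X.coprime_iff_not_dvd.2 hq0).pow_left
  obtain ⟨u, v, huv⟩ := hcop
  have h0 : a ^ m * aeval a q = 0 := by
    have := hq ▸ hpa
    simpa [aeval_def, eval₂_mul, eval₂_pow, eval₂_X] using this
  have h1 : aeval a u * a ^ m + aeval a v * aeval a q = 1 := by
    have := congrArg (aeval a) huv
    simpa using this
  let e := aeval a v * aeval a q
  rcases hR e (by linear_combination e * h1 - (aeval a u * aeval a v) * h0) with he | he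
  · right
    rw [show aeval a v * aeval a q = 0 from he, add_zero] at h1
    rcases m.eq_zero_or_pos with hm | hm
    · subst hm
      obtain ⟨r, hr⟩ := X_dvd_sub_C (p := q)
      have hc : q.coeff 0 ≠ 0 := fun h => hq0 (X_dvd_iff.2 h)
      have h2 := congrArg (aeval a) hr
      rw [pow_zero, one_mul] at h0
      rw [map_sub, h0, map_mul, aeval_X, aeval_C, zero_sub] at h2
      exact IsUnit.of_mul_eq_one (a := a) (-(aeval a r) * algebraMap k R (q.coeff 0)⁻¹) (by
        have : algebraMap k R (q.coeff 0) * algebraMap k R (q.coeff 0)⁻¹ = 1 := by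
          rw [← map_mul, mul_inv_cancel₀ hc, map_one]
        linear_combination this + algebraMap k R (q.coeff 0)⁻¹ * h2)
    · exact IsUnit.of_mul_eq_one (a := a) (aeval a u * a ^ (m - 1)) (by
        rw [mul_left_comm, ← pow_succ', Nat.sub_add_cancel hm, h1])
  · left
    have he' : aeval a v * aeval a q = 1 := he
    exact ⟨m, by linear_combination aeval a v * h0 - a ^ m * he'⟩

theorem exists_const {k R : Type*} [Field k] [IsAlgClosed k] [CommRing R] [Algebra k R]
    [Algebra.IsIntegral k R] [Nontrivial R] (hR : ∀ e : R, e * e = e → e = 0 ∨ e = 1) (a : R) :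
    ∃ c : k, IsNilpotent (a - algebraMap k R c) := by
  obtain ⟨p, hp, hpa⟩ := Algebra.IsIntegral.isIntegral (R := k) a
  by_contra h
  push_neg at h
  have hu : ∀ c : k, IsUnit (a - algebraMap k R c) := fun c =>
    (nilpotent_or_unit (k := k) hR _).resolve_left (h c)
  have hs := (IsAlgClosed.splits p).eq_prod_roots_of_monic hp
  rw [hs] at hpa
  change aeval a _ = 0 at hpa
  rw [map_multiset_prod, Multiset.map_map] at hpa
  refine not_isUnit_zero (M₀ := R) (hpa ▸ Multiset.prod_induction IsUnit _ (fun _ _ => IsUnit.mul) isUnit_one ?_)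
  intro y hy
  obtain ⟨c, -, rfl⟩ := Multiset.mem_map.1 hy
  simpa using hu c

theorem main (k : Type u) [Field k] [IsAlgClosed k] (X : Scheme.{u}) [X.Over (Spec (CommRingCat.of k))]
    [IsProper (X ↘ Spec (CommRingCat.of k))] (𝓘 : X.IdealSheafData)
    (hY : _root_.IsConnected (𝓘.support : Set X)) :
    IsLocalRing ↑(limit (Functor.ofOpSequence
        (X := fun m : ℕ => Γ((𝓘 ^ (m + 1)).subscheme, ⊤))
        (fun m : ℕ => (Scheme.IdealSheafData.inclusion (Lef.pow_succ_le 𝓘 m)).appTop))) ∧
      ∀ a : ↑(limit (Functor.ofOpSequence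
        (X := fun m : ℕ => Γ((𝓘 ^ (m + 1)).subscheme, ⊤))
        (fun m : ℕ => (Scheme.IdealSheafData.inclusion (Lef.pow_succ_le 𝓘 m)).appTop))),
        ∃ c : k, ∀ m : ℕ, IsNilpotent (Sub.sub (α := ↑Γ((𝓘 ^ (m + 1)).subscheme, ⊤))
          ((limit.π (Functor.ofOpSequence
              (X := fun m : ℕ => Γ((𝓘 ^ (m + 1)).subscheme, ⊤))
              (fun m : ℕ => (Scheme.IdealSheafData.inclusion (Lef.pow_succ_le 𝓘 m)).appTop)) (op m)).hom a)
          (((𝓘 ^ (m + 1)).subschemeι ≫ (X ↘ Spec (CommRingCat.of k))).appTop.hom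
            ((Scheme.ΓSpecIso (CommRingCat.of k)).inv.hom c))) := by
  let F := Functor.ofOpSequence
        (X := fun m : ℕ => Γ((𝓘 ^ (m + 1)).subscheme, ⊤))
        (fun m : ℕ => (Scheme.IdealSheafData.inclusion (Lef.pow_succ_le 𝓘 m)).appTop)
  let Z := fun m : ℕ => (𝓘 ^ (m + 1)).subscheme
  haveI hconn : ∀ m, ConnectedSpace (Z m) := fun m => by
    let i := (𝓘 ^ (m + 1)).subschemeι
    have hr : Set.range i = 𝓘.support := by
      rw [Scheme.IdealSheafData.range_subschemeι, Scheme.IdealSheafData.support_pow_succ]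
    have hi : Topology.IsEmbedding i := i.isClosedEmbedding.isEmbedding
    haveI : ConnectedSpace (Set.range i) := isConnected_iff_connectedSpace.1 (hr ▸ hY)
    exact hi.toHomeomorph.symm.surjective.connectedSpace hi.toHomeomorph.symm.continuous
  let φ : ∀ m, k →+* Γ(Z m, ⊤) := fun m => (((𝓘 ^ (m + 1)).subschemeι ≫ (X ↘ Spec (CommRingCat.of k))).appTop.hom).comp
    (Scheme.ΓSpecIso (CommRingCat.of k)).inv.hom
  letI : ∀ m, Algebra k Γ(Z m, ⊤) := fun m => (φ m).toAlgebra
  haveI hint : ∀ m, Algebra.IsIntegral k Γ(Z m, ⊤) := fun m => ⟨RingHom.IsIntegral.trans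
    (Scheme.ΓSpecIso (CommRingCat.of k)).inv.hom _
    (RingHom.isIntegral_of_surjective _ (ConcreteCategory.bijective_of_isIso (Scheme.ΓSpecIso (CommRingCat.of k)).inv).2)
    (isIntegral_appTop_of_universallyClosed ((𝓘 ^ (m + 1)).subschemeι ≫ (X ↘ Spec (CommRingCat.of k))))⟩
  haveI hnt : ∀ m, Nontrivial Γ(Z m, ⊤) := fun m => by
    haveI : Nonempty (Z m) := (hconn m).toNonempty
    haveI : Nonempty (⊤ : (Z m).Opens) := ⟨⟨Classical.arbitrary _, trivial⟩⟩
    infer_instance
  have hid : ∀ m (e : Γ(Z m, ⊤)), e * e = e → e = 0 ∨ e = 1 := fun m e he => idempotent_trivial he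
  let π : ∀ m, ↑(limit F) →+* Γ(Z m, ⊤) := fun m => (limit.π F (op m)).hom
  have hπ : ∀ m x, ((Scheme.IdealSheafData.inclusion (Lef.pow_succ_le 𝓘 m)).appTop).hom (π (m + 1) x) = π m x := by
    intro m x
    have h := limit.w F (homOfLE (Nat.le_add_right m 1)).op
    rw [Functor.ofOpSequence_map_homOfLE_succ] at h
    exact congrArg (fun g => g.hom x) h
  -- nilpotence does not depend on the level
  have hnil : ∀ x m, IsNilpotent (π m x) ↔ IsNilpotent (π 0 x) := by
    intro x m
    induction m with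
    | zero => rfl
    | succ m ih =>
      rw [← ih, ← hπ m x]
      refine ⟨fun h => h.map _, fun h => ?_⟩
      rcases nilpotent_or_unit (k := k) (hid (m + 1)) (π (m + 1) x) with h' | h'
      · exact h'
      · exact absurd h (h'.map _).not_isNilpotent
  have hunit : ∀ x, ¬ IsNilpotent (π 0 x) → IsUnit x := by
    intro x hx
    have hu : ∀ m, IsUnit (π m x) := fun m =>
      (nilpotent_or_unit (k := k) (hid m) (π m x)).resolve_left fun h => hx ((hnil x m).1 h)
    let e := Types.isLimitEquivSections (isLimitOfPreserves (forget CommRingCat) (limit.isLimit F))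
    let s : (F ⋙ forget CommRingCat).sections := ⟨fun j => (↑(hu j.unop).unit⁻¹ : Γ(Z j.unop, ⊤)), by
      intro i j f
      show (F.map f).hom (↑(hu i.unop).unit⁻¹ : Γ(Z i.unop, ⊤)) = (↑(hu j.unop).unit⁻¹ : Γ(Z j.unop, ⊤))
      let g : Γ(Z i.unop, ⊤) →+* Γ(Z j.unop, ⊤) := (F.map f).hom
      show g (↑(hu i.unop).unit⁻¹ : Γ(Z i.unop, ⊤)) = (↑(hu j.unop).unit⁻¹ : Γ(Z j.unop, ⊤))
      refine (hu j.unop).mul_left_cancel ?_
      rw [IsUnit.mul_val_inv]
      have h1 : π j.unop x = g (π i.unop x) :=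
        (congrArg (fun g => g.hom x) (limit.w F f)).symm
      rw [h1, ← map_mul, IsUnit.mul_val_inv, map_one]⟩
    let y : ↑(limit F) := e.symm s
    have hy : ∀ m, π m y = (↑(hu m).unit⁻¹ : Γ(Z m, ⊤)) := fun m =>
      congrFun (congrArg Subtype.val (e.apply_symm_apply s)) (op m)
    refine IsUnit.of_mul_eq_one (a := x) y (Concrete.limit_ext F _ _ fun j => ?_)
    show π j.unop (x * y) = π j.unop 1
    rw [map_mul, hy, IsUnit.mul_val_inv, map_one]
  haveI : Nontrivial ↑(limit F) := (π 0).domain_nontrivial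
  refine ⟨IsLocalRing.of_isUnit_or_isUnit_one_sub_self fun x => ?_, fun a => ?_⟩
  · by_cases hx : IsNilpotent (π 0 x)
    · refine Or.inr (hunit _ fun h => ?_)
      rw [map_sub, map_one] at h
      exact h.not_isUnit hx.isUnit_one_sub
    · exact Or.inl (hunit x hx)
  · obtain ⟨c, hc⟩ := exists_const (k := k) (hid 0) (π 0 a)
    refine ⟨c, fun m => ?_⟩
    show IsNilpotent (π m a - φ m c)
    induction m with
    | zero => exact hc
    | succ m ih =>
      rcases nilpotent_or_unit (k := k) (hid (m + 1)) (π (m + 1) a - φ (m + 1) c) with h' | h'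
      · exact h'
      refine absurd ih ?_
      have hφ : ((Scheme.IdealSheafData.inclusion (Lef.pow_succ_le 𝓘 m)).appTop).hom (φ (m + 1) c) = φ m c := by
        show ((((𝓘 ^ (m + 1 + 1)).subschemeι ≫ (X ↘ Spec (CommRingCat.of k))).appTop ≫
          (Scheme.IdealSheafData.inclusion (Lef.pow_succ_le 𝓘 m)).appTop)).hom _ = _
        rw [← Scheme.Hom.comp_appTop, ← Category.assoc, Scheme.IdealSheafData.inclusion_subschemeι]
        rfl
      have := h'.map ((Scheme.IdealSheafData.inclusion (Lef.pow_succ_le 𝓘 m)).appTop).hom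
      rw [map_sub, hπ, hφ] at this
      exact this.not_isNilpotent

end Groth.Agent.CAlgH3.FormalLocalRing
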