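import Groth.Prelude.Def_EtFppf
import Groth.Agent.CAlgH3.EtPicAlg
import Groth.Agent.Desc19b.FppfEt.Basic
import Mathlib.AlgebraicGeometry.Pullbacks
import Mathlib.AlgebraicGeometry.Morphisms.Flat
import Mathlib.AlgebraicGeometry.Morphisms.FinitePresentation

/-!
# Extensions by the units on the big fppf site split Zariski locally

If `g : F ⟶ G` is a map of fppf sheaves on `X` whose kernel is the sheaf of units, a section of `G`
over `X` that lifts fppf locally lifts Zariski locally.
-/

set_option autoImplicit false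
set_option linter.all false
set_option backward.isDefEq.respectTransparency false
set_option backward.isDefEq.respectTransparency.types false
set_option synthInstance.maxHeartbeats 400000
set_option maxHeartbeats 1000000

universe u

open CategoryTheory CategoryTheory.Limits AlgebraicGeometry Opposite TopologicalSpace TensorProduct

namespace Groth.Agent.CAlgH3.FppfPicLocal

open Groth.Agent.CommAlg4.WittDescMat (T2 T3 i1 i2)
open Groth.Agent.Desc19b.FppfEt (Sec)

variable {X : Scheme.{u}}

/-- An open as an object of the big site. -/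
noncomputable abbrev opn (U : X.Opens) : Over X := Over.mk U.ι

theorem opn_hom_ext {W : Over X} {U : X.Opens} (a b : W ⟶ opn U) : a = b :=
  Over.OverMorphism.ext ((cancel_mono U.ι).1 ((Over.w a).trans (Over.w b).symm))

/-- A map to an open. -/
noncomputable def opnTo {W : Over X} (U : X.Opens) (h : Set.range W.hom ⊆ Set.range U.ι) : W ⟶ opn U :=
  Over.homMk (IsOpenImmersion.lift U.ι W.hom h) (IsOpenImmersion.lift_fac _ _ h)

/-- A sheaf map whose kernel is the sheaf of units. -/
structure UnitsKernel {F G : EtFppf.AbF X} (g : F ⟶ G) where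
  u : ∀ W : Over X, Additive Γ(W.left, ⊤)ˣ →+ Sec F W
  nat : ∀ {W W' : Over X} (m : W' ⟶ W) (v : Γ(W.left, ⊤)ˣ),
    F.obj.map m.op (u W (Additive.ofMul v)) =
      u W' (Additive.ofMul (Units.map m.left.appTop.hom.toMonoidHom v))
  inj : ∀ W, Function.Injective (u W)
  comp : ∀ W v, g.hom.app (op W) (u W v) = 0
  exact' : ∀ W (s : Sec F W), g.hom.app (op W) s = 0 → ∃ v, u W v = s

variable {F G : EtFppf.AbF X} {g : F ⟶ G} (K : UnitsKernel g) {V : X.Opens} (hV : IsAffineOpen V)

/-- The structure morphism of the `X`-scheme of an algebra over an affine open. -/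
noncomputable def strE (R : Type u) [CommRing R] [Algebra Γ(X, V) R] : Spec (CommRingCat.of R) ⟶ X :=
  Spec.map (CommRingCat.ofHom (algebraMap Γ(X, V) R)) ≫ hV.fromSpec

/-- The `X`-scheme of an algebra over an affine open. -/
noncomputable abbrev E (R : Type u) [CommRing R] [Algebra Γ(X, V) R] : Over X :=
  Over.mk (strE hV R)

/-- The morphism of an algebra map. -/
noncomputable def emap {R R' : Type u} [CommRing R] [Algebra Γ(X, V) R]
    [CommRing R'] [Algebra Γ(X, V) R'] (φ : R →ₐ[Γ(X, V)] R') : E hV R' ⟶ E hV R :=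
  Over.homMk (Spec.map (CommRingCat.ofHom φ.toRingHom)) (by
    show Spec.map (CommRingCat.ofHom φ.toRingHom) ≫ strE hV R = strE hV R'
    rw [strE, strE, ← Spec.map_comp_assoc, ← CommRingCat.ofHom_comp]
    rw [show φ.toRingHom.comp (algebraMap Γ(X, V) R) = algebraMap Γ(X, V) R' from
      φ.comp_algebraMap])

theorem map_emap_comp (A : EtFppf.AbF X) {R R' R'' : Type u}
    [CommRing R] [Algebra Γ(X, V) R] [CommRing R'] [Algebra Γ(X, V) R']
    [CommRing R''] [Algebra Γ(X, V) R'']
    (φ : R →ₐ[Γ(X, V)] R') (ψ : R' →ₐ[Γ(X, V)] R'') (s : Sec A (E hV R)) :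
    A.obj.map (emap hV ψ).op (A.obj.map (emap hV φ).op s) = A.obj.map (emap hV (ψ.comp φ)).op s := by
  have h : emap hV (ψ.comp φ) = emap hV ψ ≫ emap hV φ := by
    refine Over.OverMorphism.ext ?_
    show Spec.map (CommRingCat.ofHom (ψ.comp φ).toRingHom) =
      Spec.map (CommRingCat.ofHom ψ.toRingHom) ≫ Spec.map (CommRingCat.ofHom φ.toRingHom)
    rw [← Spec.map_comp, ← CommRingCat.ofHom_comp]
    rfl
  rw [h, op_comp, Functor.map_comp_apply]

/-- The map to an open containing `V`. -/
noncomputable def toU {U : X.Opens} (hVU : V ≤ U) (R : Type u) [CommRing R] [Algebra Γ(X, V) R] :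
    E hV R ⟶ opn U :=
  opnTo U (by
    rw [Scheme.Opens.range_ι]
    rintro _ ⟨p, rfl⟩
    refine hVU ?_
    rw [← SetLike.mem_coe, ← hV.range_fromSpec]
    exact ⟨_, rfl⟩)

section Units

variable (R : Type u) [CommRing R] [Algebra Γ(X, V) R]

/-- A unit as a section. -/
noncomputable def us (v : Rˣ) : Sec F (E hV R) :=
  K.u (E hV R) (Additive.ofMul (Units.map (Scheme.ΓSpecIso (CommRingCat.of R)).inv.hom.toMonoidHom v))

theorem us_mul (v w : Rˣ) : us K hV R (v * w) = us K hV R v + us K hV R w := by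
  rw [us, map_mul, ofMul_mul, map_add]
  rfl

theorem us_injective : Function.Injective (us K hV R) := fun v w h => by
  have h1 := Additive.ofMul.injective (K.inj _ h)
  refine Units.ext ?_
  exact (Scheme.ΓSpecIso (CommRingCat.of R)).commRingCatIsoToRingEquiv.symm.injective
    (congrArg Units.val h1)

theorem g_us (v : Rˣ) : g.hom.app (op (E hV R)) (us K hV R v) = 0 := K.comp _ _

include K in
theorem exists_us (s : Sec F (E hV R)) (hs : g.hom.app (op (E hV R)) s = 0) : ∃ v, us K hV R v = s := by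
  obtain ⟨w, rfl⟩ := K.exact' _ s hs
  refine ⟨Units.map (Scheme.ΓSpecIso (CommRingCat.of R)).hom.hom.toMonoidHom w.toMul, ?_⟩
  unfold us
  congr 1
  refine Additive.toMul.injective (Units.ext ?_)
  exact (Scheme.ΓSpecIso (CommRingCat.of R)).commRingCatIsoToRingEquiv.symm_apply_apply _

theorem map_us {R' : Type u} [CommRing R'] [Algebra Γ(X, V) R']
    (φ : R →ₐ[Γ(X, V)] R') (v : Rˣ) :
    F.obj.map (emap hV φ).op (us K hV R v) = us K hV R' (Units.map φ.toRingHom.toMonoidHom v) := by
  unfold us
  rw [K.nat]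
  congr 2
  refine Units.ext ?_
  show (Spec.map (CommRingCat.ofHom φ.toRingHom)).appTop.hom
      ((Scheme.ΓSpecIso (CommRingCat.of R)).inv.hom (v : R)) =
    (Scheme.ΓSpecIso (CommRingCat.of R')).inv.hom (φ (v : R))
  exact (congrArg (fun f => f.hom (v : R))
    (Scheme.ΓSpecIso_inv_naturality (CommRingCat.ofHom φ.toRingHom))).symm

end Units

variable (B : Type u) [CommRing B] [Algebra Γ(X, V) B]

/-- First projection. -/
noncomputable def j1 : B →ₐ[Γ(X, V)] T2 Γ(X, V) B := Algebra.TensorProduct.includeLeft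

/-- Second projection. -/
noncomputable def j2 : B →ₐ[Γ(X, V)] T2 Γ(X, V) B := Algebra.TensorProduct.includeRight

noncomputable def e12 : T2 Γ(X, V) B →ₐ[Γ(X, V)] T3 Γ(X, V) B :=
  Algebra.TensorProduct.map (AlgHom.id _ B) (Algebra.TensorProduct.includeLeft)

noncomputable def e13 : T2 Γ(X, V) B →ₐ[Γ(X, V)] T3 Γ(X, V) B :=
  Algebra.TensorProduct.map (AlgHom.id _ B) (Algebra.TensorProduct.includeRight)

noncomputable def e23 : T2 Γ(X, V) B →ₐ[Γ(X, V)] T3 Γ(X, V) B :=
  Algebra.TensorProduct.includeRight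

theorem e12_j2 : (e12 (X := X) (V := V) B).comp (j2 B) = (e23 B).comp (j1 (X := X) (V := V) B) := by
  ext b; simp [e12, e23, j1, j2]

theorem e13_j1 : (e13 (X := X) (V := V) B).comp (j1 B) = (e12 B).comp (j1 (X := X) (V := V) B) := by
  ext b; simp [e12, e13, j1]

theorem e13_j2 : (e13 (X := X) (V := V) B).comp (j2 B) = (e23 B).comp (j2 (X := X) (V := V) B) := by
  ext b; simp [e13, e23, j2]

/-- The sheaf condition along a flat, finitely presented covering algebra. -/
theorem existsUnique_descent (A : EtFppf.AbF X) {W : X.Opens} (k : E hV B ⟶ opn W)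
    (hk : ∀ x ∈ W, x ∈ Set.range (strE hV B)) (hflat : Flat (strE hV B))
    (hfp : LocallyOfFinitePresentation (strE hV B)) (s : Sec A (E hV B))
    (hs : A.obj.map (emap hV (j1 B)).op s = A.obj.map (emap hV (j2 B)).op s) :
    ∃! t : Sec A (opn W), A.obj.map k.op t = s := by
  have e : k.left ≫ W.ι = strE hV B := Over.w k
  haveI : Flat (k.left ≫ W.ι) := e ▸ hflat
  haveI : LocallyOfFinitePresentation (k.left ≫ W.ι) := e ▸ hfp
  haveI : Flat k.left := MorphismProperty.of_postcomp (W' := @IsOpenImmersion) (W := @Flat) k.left W.ι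
    inferInstance inferInstance
  haveI : LocallyOfFinitePresentation k.left :=
    MorphismProperty.of_postcomp (W' := @IsOpenImmersion) (W := @LocallyOfFinitePresentation) k.left W.ι
      inferInstance inferInstance
  haveI : Surjective k.left := ⟨fun x => by
    obtain ⟨p, hp⟩ := hk x.1 x.2
    exact ⟨p, Subtype.ext (((Scheme.Hom.comp_apply k.left W.ι p).symm.trans (congrArg (fun m => m p) e)).trans hp)⟩⟩
  have hmem : Sieve.generate (Presieve.singleton k) ∈ EtFppf.J X (opn W) := by
    rw [GrothendieckTopology.mem_over_iff]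
    refine GrothendieckTopology.superset_covering _ ?_
      (Precoverage.generate_mem_toGrothendieck k.left.singleton_mem_fppfPrecoverage)
    rw [Sieve.generate_le_iff]
    rintro Y f ⟨⟩
    exact (Sieve.overEquiv_iff _ _).2 ⟨E hV B, Over.homMk (𝟙 _) ((Category.id_comp _).trans (Over.w k).symm), k,
      Presieve.singleton_self _, Over.OverMorphism.ext (Category.id_comp _)⟩
  have hF : Presieve.IsSheaf (EtFppf.J X) (A.obj ⋙ forget AddCommGrpCat.{u + 1}) :=
    (isSheaf_iff_isSheaf_of_type _ _).1 ((sheafCompose _ (forget AddCommGrpCat.{u + 1})).obj A).property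
  have h1 : Presieve.IsSheafFor (A.obj ⋙ forget AddCommGrpCat.{u + 1}) (Presieve.singleton k) :=
    (Presieve.isSheafFor_iff_generate _).2 (hF _ hmem)
  refine (Presieve.isSheafFor_singleton.1 h1) s fun {Z} p₁ p₂ _ => ?_
  have hw : ∀ p : Z ⟶ E hV B, p.left ≫ strE hV B = Z.hom := fun p => Over.w p
  have hcomp : p₁.left ≫ Spec.map (CommRingCat.ofHom (algebraMap Γ(X, V) B)) =
      p₂.left ≫ Spec.map (CommRingCat.ofHom (algebraMap Γ(X, V) B)) := by
    rw [← cancel_mono hV.fromSpec, Category.assoc, Category.assoc]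
    exact (hw p₁).trans (hw p₂).symm
  let t : Z.left ⟶ Spec (CommRingCat.of (T2 Γ(X, V) B)) :=
    pullback.lift p₁.left p₂.left hcomp ≫ (pullbackSpecIso Γ(X, V) B B).hom
  have ht1 : t ≫ Spec.map (CommRingCat.ofHom (j1 B).toRingHom) = p₁.left := by
    rw [Category.assoc]
    show pullback.lift _ _ _ ≫ (pullbackSpecIso Γ(X, V) B B).hom ≫
      Spec.map (CommRingCat.ofHom (Algebra.TensorProduct.includeLeftRingHom)) = _
    rw [pullbackSpecIso_hom_fst, pullback.lift_fst]
  have ht2 : t ≫ Spec.map (CommRingCat.ofHom (j2 B).toRingHom) = p₂.left := by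
    rw [Category.assoc]
    show pullback.lift _ _ _ ≫ (pullbackSpecIso Γ(X, V) B B).hom ≫
      Spec.map (CommRingCat.ofHom (R := B) (S := T2 Γ(X, V) B)
        (Algebra.TensorProduct.includeRight : B →ₐ[Γ(X, V)] T2 Γ(X, V) B).toRingHom) = _
    erw [pullbackSpecIso_hom_snd]
    exact pullback.lift_snd _ _ _
  have htE : t ≫ strE hV (T2 Γ(X, V) B) = Z.hom := by
    rw [← hw p₁, ← ht1]
    simp only [Category.assoc]
    congr 1
    exact (Over.w (emap hV (j1 (X := X) (V := V) B))).symm
  let t' : Z ⟶ E hV (T2 Γ(X, V) B) := Over.homMk t htE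
  have q1 : p₁ = t' ≫ emap hV (j1 B) := Over.OverMorphism.ext ht1.symm
  have q2 : p₂ = t' ≫ emap hV (j2 B) := Over.OverMorphism.ext ht2.symm
  show A.obj.map p₁.op s = A.obj.map p₂.op s
  rw [q1, q2, op_comp, op_comp, Functor.map_comp_apply, Functor.map_comp_apply, hs]

include K in
/-- A section lifting on a faithfully flat, finitely presented algebra lifts Zariski locally. -/
theorem exists_local_lift [Algebra.FinitePresentation Γ(X, V) B] [Module.FaithfullyFlat Γ(X, V) B]
    {U : X.Opens} (hVU : V ≤ U) (q : Sec G (opn U)) (y₀ : Sec F (E hV B))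
    (hy₀ : g.hom.app (op (E hV B)) y₀ = G.obj.map (toU hV hVU B).op q) {x : X} (hx : x ∈ V) :
    ∃ (W : X.Opens) (m : opn W ⟶ opn U), x ∈ W ∧ ∃ y : Sec F (opn W),
      g.hom.app (op (opn W)) y = G.obj.map m.op q := by
  have gnat : ∀ {P P' : Over X} (m : P' ⟶ P) (s : Sec F P),
      g.hom.app (op P') (F.obj.map m.op s) = G.obj.map m.op (g.hom.app (op P) s) :=
    fun m s => NatTrans.naturality_apply g.hom m.op s
  set d := F.obj.map (emap hV (j2 B)).op y₀ - F.obj.map (emap hV (j1 B)).op y₀ with hd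
  have hgd : g.hom.app (op (E hV (T2 Γ(X, V) B))) d = 0 := by
    rw [hd, map_sub, gnat, gnat, hy₀, ← Functor.map_comp_apply, ← op_comp, ← Functor.map_comp_apply, ← op_comp,
      opn_hom_ext (emap hV (j2 B) ≫ toU hV hVU B) (emap hV (j1 B) ≫ toU hV hVU B), sub_self]
  obtain ⟨η, hη⟩ := exists_us K hV (T2 Γ(X, V) B) d hgd
  have hcd : F.obj.map (emap hV (e12 B)).op d + F.obj.map (emap hV (e23 B)).op d =
      F.obj.map (emap hV (e13 B)).op d := by
    simp only [hd, map_sub, map_emap_comp, e12_j2, e13_j1, e13_j2]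
    abel
  have hη' : Units.map (e12 (X := X) (V := V) B).toRingHom.toMonoidHom η *
      Units.map (e23 (X := X) (V := V) B).toRingHom.toMonoidHom η =
      Units.map (e13 (X := X) (V := V) B).toRingHom.toMonoidHom η := by
    refine us_injective K hV _ ?_
    rw [us_mul, ← map_us, ← map_us, ← map_us, hη]
    exact hcd
  obtain ⟨p, hp⟩ : x ∈ Set.range hV.fromSpec := by rw [hV.range_fromSpec]; exact hx
  obtain ⟨r, hr, c, c', hcc, hc⟩ := EtPicAlg.exists_local_primitive η (congrArg Units.val hη')
    p.asIdeal p.2.ne_top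
  let B' : Type u := Localization.Away (algebraMap Γ(X, V) B r)
  haveI : IsScalarTower Γ(X, V) B B' := inferInstance
  let ι : B →ₐ[Γ(X, V)] B' := IsScalarTower.toAlgHom Γ(X, V) B B'
  have hcu : IsUnit (algebraMap B B' c) := by
    refine isUnit_of_mul_isUnit_left (y := algebraMap B B' c') ?_
    rw [← map_mul, hcc]
    exact IsLocalization.Away.algebraMap_isUnit _
  let b : B'ˣ := hcu.unit
  let β : T2 Γ(X, V) B →ₐ[Γ(X, V)] T2 Γ(X, V) B' := Algebra.TensorProduct.map ι ι
  have hβ1 : β.comp (j1 B) = (j1 B').comp ι := by ext z; simp [β, j1]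
  have hβ2 : β.comp (j2 B) = (j2 B').comp ι := by ext z; simp [β, j2]
  have hb : Units.map (j1 (X := X) (V := V) B').toRingHom.toMonoidHom b *
      Units.map β.toRingHom.toMonoidHom η = Units.map (j2 (X := X) (V := V) B').toRingHom.toMonoidHom b := by
    refine Units.ext ?_
    show j1 B' (algebraMap B B' c) * β (η : T2 Γ(X, V) B) = j2 B' (algebraMap B B' c)
    have h := congrArg β hc
    rw [map_mul] at h
    rw [show j1 B' (algebraMap B B' c) = β (i1 c) from (AlgHom.congr_fun hβ1 c).symm, h]
    exact AlgHom.congr_fun hβ2 c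
  set y' := F.obj.map (emap hV ι).op y₀ - us K hV B' b with hy'
  have hy'd : F.obj.map (emap hV (j1 B')).op y' = F.obj.map (emap hV (j2 B')).op y' := by
    have h1 : F.obj.map (emap hV β).op d =
        F.obj.map (emap hV ((j2 B').comp ι)).op y₀ - F.obj.map (emap hV ((j1 B').comp ι)).op y₀ := by
      rw [hd, map_sub, map_emap_comp, map_emap_comp, hβ1, hβ2]
    have h3 : us K hV _ (Units.map (j2 (X := X) (V := V) B').toRingHom.toMonoidHom b) =
        us K hV _ (Units.map (j1 (X := X) (V := V) B').toRingHom.toMonoidHom b) +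
          F.obj.map (emap hV β).op d := by
      rw [← hη, map_us, ← us_mul, hb]
    simp only [hy', map_sub, map_emap_comp, map_us]
    rw [h3, h1]
    abel
  have hgy' : g.hom.app (op (E hV B')) y' = G.obj.map (toU hV hVU B').op q := by
    rw [hy', map_sub, g_us, sub_zero, gnat, hy₀, ← Functor.map_comp_apply, ← op_comp,
      opn_hom_ext (emap hV ι ≫ toU hV hVU B) (toU hV hVU B')]
  have hWU : X.basicOpen r ≤ U := (X.basicOpen_le r).trans hVU
  have hrng : ∀ v, v ∈ X.basicOpen r ↔ v ∈ Set.range (strE hV B') := by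
    intro v
    constructor
    · intro hv
      obtain ⟨P, rfl⟩ : v ∈ Set.range hV.fromSpec := by
        rw [hV.range_fromSpec]; exact X.basicOpen_le r hv
      have hP : r ∉ P.asIdeal := by
        have : P ∈ hV.fromSpec ⁻¹ᵁ X.basicOpen r := hv
        rw [hV.fromSpec_preimage_basicOpen] at this
        exact this
      obtain ⟨Q, hQ⟩ := PrimeSpectrum.comap_surjective_of_faithfullyFlat (A := Γ(X, V)) (B := B) P
      have hQr : Q ∈ Set.range (PrimeSpectrum.comap (algebraMap B B')) := by
        rw [PrimeSpectrum.localization_away_comap_range B' (algebraMap Γ(X, V) B r)]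
        intro hmem
        exact hP (by rw [← hQ]; exact hmem)
      obtain ⟨Q', rfl⟩ := hQr
      refine ⟨Q', ?_⟩
      rw [strE, Scheme.Hom.comp_apply]
      congr 1
    · rintro ⟨Q', rfl⟩
      rw [strE, Scheme.Hom.comp_apply]
      show Spec.map (CommRingCat.ofHom (algebraMap Γ(X, V) B')) Q' ∈ hV.fromSpec ⁻¹ᵁ X.basicOpen r
      rw [hV.fromSpec_preimage_basicOpen]
      intro hmem
      refine Q'.2.ne_top ((Q'.asIdeal).eq_top_of_isUnit_mem hmem ?_)
      show IsUnit (algebraMap Γ(X, V) B' r)
      rw [IsScalarTower.algebraMap_apply Γ(X, V) B B']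
      exact IsLocalization.Away.algebraMap_isUnit _
  haveI : Module.Flat Γ(X, V) B' := Module.Flat.trans Γ(X, V) B B'
  haveI : Algebra.FinitePresentation Γ(X, V) B' :=
    Algebra.FinitePresentation.trans Γ(X, V) B B'
  have hflat : Flat (strE hV B') := by
    haveI : Flat (Spec.map (CommRingCat.ofHom (algebraMap Γ(X, V) B'))) :=
      (HasRingHomProperty.Spec_iff (P := @Flat)).mpr (RingHom.flat_algebraMap_iff.mpr inferInstance)
    exact MorphismProperty.comp_mem @Flat _ _ inferInstance inferInstance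
  have hfp : LocallyOfFinitePresentation (strE hV B') := by
    haveI : LocallyOfFinitePresentation (Spec.map (CommRingCat.ofHom (algebraMap Γ(X, V) B'))) :=
      (HasRingHomProperty.Spec_iff (P := @LocallyOfFinitePresentation)).mpr
        (RingHom.finitePresentation_algebraMap.mpr inferInstance)
    exact MorphismProperty.comp_mem @LocallyOfFinitePresentation _ _ inferInstance inferInstance
  let k : E hV B' ⟶ opn (X.basicOpen r) := opnTo _ (by
    rw [Scheme.Opens.range_ι]
    exact fun v hv => (hrng v).2 hv)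
  let m : opn (X.basicOpen r) ⟶ opn U := Over.homMk (X.homOfLE hWU) (X.homOfLE_ι hWU)
  obtain ⟨y, hy, -⟩ := existsUnique_descent hV B' F k (fun v hv => (hrng v).1 hv) hflat hfp y' hy'd
  refine ⟨X.basicOpen r, m, ?_, y, ?_⟩
  · rw [← hp]
    show p ∈ hV.fromSpec ⁻¹ᵁ X.basicOpen r
    rw [hV.fromSpec_preimage_basicOpen]
    exact hr
  · obtain ⟨z, -, huniq⟩ := existsUnique_descent hV B' G k (fun v hv => (hrng v).1 hv) hflat hfp
      (g.hom.app (op (E hV B')) y') (by rw [← gnat, ← gnat, hy'd])
    refine (huniq _ ?_).trans (huniq _ ?_).symm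
    · show G.obj.map k.op (g.hom.app _ y) = g.hom.app _ y'
      rw [← gnat, hy]
    · show G.obj.map k.op (G.obj.map _ q) = g.hom.app _ y'
      rw [hgy', ← Functor.map_comp_apply, ← op_comp, opn_hom_ext (k ≫ m) (toU hV hVU B')]

end Groth.Agent.CAlgH3.FppfPicLocal
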