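import Groth.Prelude.Def_EtZar
import Groth.Prelude.Def_UnitsSh
import Groth.Agent.CAlgH3.FppfPicLocal
import Groth.Agent.CAlgH3.EtPic
import Groth.Agent.Desc19b.EtQCoh.ULiftH
import Groth.Agent.AmpleLib.Power

/-!
# Extensions by the units split globally when the Picard group is trivial
-/

set_option autoImplicit false
set_option linter.all false
set_option backward.isDefEq.respectTransparency false
set_option backward.isDefEq.respectTransparency.types false
set_option synthInstance.maxHeartbeats 400000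
set_option maxHeartbeats 1000000

universe u

open CategoryTheory CategoryTheory.Limits CategoryTheory.Abelian AlgebraicGeometry Opposite TopologicalSpace

namespace Groth.Agent.CAlgH3.FppfPicLocal

open Groth.Agent.Desc19b.FppfEt (Sec)

variable {X : Scheme.{u}} {F G : EtFppf.AbF X} {g : F ⟶ G} (K : UnitsKernel g)

include K in
/-- Sections lifting fppf locally lift Zariski locally. -/
theorem exists_zariski_lift [Sheaf.IsLocallySurjective g] (U : X.Opens) (q : Sec G (opn U)) {x : X}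
    (hx : x ∈ U) :
    ∃ (W : X.Opens) (m : opn W ⟶ opn U), x ∈ W ∧ ∃ y : Sec F (opn W),
      g.hom.app (op (opn W)) y = G.obj.map m.op q := by
  obtain ⟨R, a, hflat, hlfp, ⟨z, hz⟩, y, hy⟩ := Desc19b.FppfEt.fppfLift_of_mem (φ := g) (x := q)
    (Presheaf.imageSieve_mem (EtFppf.J X) g.hom q) (fun V f hf => hf) (⟨x, hx⟩ : (U : X.Opens))
  haveI := hflat
  haveI := hlfp
  let h : R.left ⟶ X := R.hom
  have hh : a.left ≫ U.ι = h := Over.w a
  haveI : Flat (a.left ≫ U.ι) := MorphismProperty.comp_mem @Flat _ _ inferInstance inferInstance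
  haveI : LocallyOfFinitePresentation (a.left ≫ U.ι) :=
    MorphismProperty.comp_mem @LocallyOfFinitePresentation _ _ inferInstance inferInstance
  haveI : Flat h := hh ▸ inferInstance
  haveI : LocallyOfFinitePresentation h := hh ▸ inferInstance
  haveI : UniversallyOpen h := inferInstance
  have hzx : h z = x := by
    rw [← hh]
    exact congrArg Subtype.val hz
  obtain ⟨V₀, hV₀, hxV₀, -⟩ := exists_isAffineOpen_mem_and_subset (X := X) (x := x) (U := U) hx
  obtain ⟨W₀, hW₀, hzW₀, hW₀V₀⟩ := exists_isAffineOpen_mem_and_subset (X := R.left) (x := z)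
    (U := h ⁻¹ᵁ V₀) (show h z ∈ V₀ by rw [hzx]; exact hxV₀)
  have hopen : IsOpen (h '' (W₀ : Set R.left)) := h.isOpenMap _ W₀.2
  let O : X.Opens := ⟨h '' (W₀ : Set R.left), hopen⟩ ⊓ U
  obtain ⟨r, hrO, hxr⟩ := hV₀.exists_basicOpen_le (V := O) (⟨x, ⟨⟨z, hzW₀, hzx⟩, hx⟩⟩) hxV₀
  let V := X.basicOpen r
  let W₁ := R.left.basicOpen ((h.appLE V₀ W₀ hW₀V₀).hom r)
  have hW₁ : IsAffineOpen W₁ := hW₀.basicOpen _
  have hVa : IsAffineOpen V := hV₀.basicOpen r
  have hW₁eq : W₁ = W₀ ⊓ h ⁻¹ᵁ V := Scheme.basicOpen_appLE h W₀ V₀ hW₀V₀ r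
  have hW₁V : W₁ ≤ h ⁻¹ᵁ V := hW₁eq ▸ inf_le_right
  algebraize [(h.appLE V W₁ hW₁V).hom]
  haveI : Module.Flat Γ(X, V) Γ(R.left, W₁) :=
    RingHom.flat_algebraMap_iff.1 (Scheme.Hom.flat_appLE h hVa hW₁ hW₁V)
  haveI : Algebra.FinitePresentation Γ(X, V) Γ(R.left, W₁) :=
    RingHom.finitePresentation_algebraMap.1 (Scheme.Hom.finitePresentation_appLE h hVa hW₁ hW₁V)
  have hstr : strE hVa Γ(R.left, W₁) = hW₁.fromSpec ≫ h := hVa.SpecMap_appLE_fromSpec h hW₁ hW₁V
  haveI : Module.FaithfullyFlat Γ(X, V) Γ(R.left, W₁) := by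
    refine Module.FaithfullyFlat.of_comap_surjective fun P => ?_
    have hP : hVa.fromSpec P ∈ V := by
      rw [← SetLike.mem_coe, ← hVa.range_fromSpec]; exact Set.mem_range_self P
    obtain ⟨v, hv, hve⟩ := (hrO hP).1
    have hv1 : v ∈ W₁ := by
      rw [hW₁eq]
      exact ⟨hv, show h v ∈ V by rw [hve]; exact hP⟩
    obtain ⟨Q, hQ⟩ : v ∈ Set.range hW₁.fromSpec := by rw [hW₁.range_fromSpec]; exact hv1
    refine ⟨Q, hVa.fromSpec.isOpenEmbedding.injective ?_⟩
    rw [← hve, ← hQ, ← Scheme.Hom.comp_apply, ← hstr, strE, Scheme.Hom.comp_apply]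
    rfl
  let e₀ : E hVa Γ(R.left, W₁) ⟶ R := Over.homMk hW₁.fromSpec hstr.symm
  have hVU : V ≤ U := hrO.trans inf_le_right
  exact exists_local_lift K hVa Γ(R.left, W₁) hVU q (F.obj.map e₀.op y) (by
    change g.hom.app (op R) y = G.obj.map a.op q at hy
    rw [NatTrans.naturality_apply g.hom e₀.op y, hy, ← Functor.map_comp_apply, ← op_comp,
      opn_hom_ext (e₀ ≫ a) (toU hVa hVU _)]) hxr

variable [EtZar.ZarCont X] [EtFppf.ACont X]

/-- Restriction from the big fppf site to the opens. -/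
noncomputable abbrev res : EtFppf.AbF X ⥤ EtZar.Ab X := EtFppf.aPush X ⋙ EtZar.resZar X

/-- The units inside the restriction. -/
noncomputable def ζ : (Desc19b.EtQCoh.lift X).obj (UnitsSh.unitsAb X) ⟶ res.obj F :=
  ⟨{ app := fun U => AddCommGrpCat.ofHom
      ((K.u (opn U.unop)).comp (AddEquiv.ulift.toAddMonoidHom.comp (EtPic.openUnits X U.unop).toAddMonoidHom))
     naturality := fun {U U'} m => by
      ext t
      refine Eq.trans ?_ (K.nat (((EtFppf.a X).map ((EtZar.zarToEt X).map m.unop))) _).symm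
      refine congrArg (K.u _) (Additive.toMul.injective (Units.ext ?_))
      exact (EtPic.topIso_inv_naturality X m.unop.le _).symm }⟩

theorem ζ_comp : ζ K ≫ res.map g = 0 := by
  apply Sheaf.hom_ext
  ext U t
  exact K.comp _ _

include K in
theorem shortExact_res [Sheaf.IsLocallySurjective g] :
    (ShortComplex.mk (ζ K) (res.map g) (ζ_comp K)).ShortExact := by
  let S := ShortComplex.mk (ζ K) (res.map g) (ζ_comp K)
  have hinj : ∀ U : X.Opens, Function.Injective (S.f.hom.app (op U)) := fun U t t' h =>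
    (EtPic.openUnits X U).injective (ULift.ext _ _ (K.inj _ h))
  haveI : Mono S.f := by
    haveI : Mono ((sheafToPresheaf _ AddCommGrpCat.{u + 1}).map S.f) := by
      haveI : ∀ U, Mono (S.f.hom.app U) := fun U => (AddCommGrpCat.mono_iff_injective _).2 (hinj U.unop)
      exact NatTrans.mono_of_mono_app S.f.hom
    exact (sheafToPresheaf _ AddCommGrpCat.{u + 1}).mono_of_mono_map inferInstance
  have hcyc : ∀ U : X.Opens, Function.Injective (S.iCycles.hom.app (op U)) := fun U => by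
    haveI : Mono S.iCycles.hom := inferInstanceAs (Mono ((sheafToPresheaf _ _).map S.iCycles))
    exact (AddCommGrpCat.mono_iff_injective _).1 (inferInstanceAs (Mono (S.iCycles.hom.app (op U))))
  haveI : Sheaf.IsLocallySurjective S.toCycles := ⟨fun {U} z s hs => by
    have hz : S.g.hom.app (op U) (S.iCycles.hom.app (op U) z) = 0 :=
      ConcreteCategory.congr_hom (congrArg (fun k => k.hom.app (op U)) S.iCycles_g) z
    obtain ⟨v, hv⟩ := K.exact' (opn U) _ hz
    refine ⟨U, 𝟙 _, ⟨(EtPic.openUnits X U).symm (ULift.up v), hcyc U ?_⟩, hs⟩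
    refine (ConcreteCategory.congr_hom (congrArg (fun k => k.hom.app (op U)) S.toCycles_i) _).trans ?_
    show K.u (opn U) ((EtPic.openUnits X U) ((EtPic.openUnits X U).symm (ULift.up v))).down = _
    rw [AddEquiv.apply_symm_apply]
    refine hv.trans ?_
    rw [op_id, CategoryTheory.Functor.map_id]
    rfl⟩
  haveI : Sheaf.IsLocallySurjective (res.map g) := ⟨fun {U} q x hx => by
    obtain ⟨W, m, hxW, y, hy⟩ := exists_zariski_lift K U q hx
    have hWU : W ≤ U := fun w hw => by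
      have h1 : Scheme.Opens.ι U (m.left ⟨w, hw⟩) = w := congrArg (fun f => f ⟨w, hw⟩) (Over.w m)
      rw [← h1]
      exact (m.left ⟨w, hw⟩).2
    refine ⟨W, homOfLE hWU, ⟨y, ?_⟩, hxW⟩
    refine hy.trans ?_
    rw [opn_hom_ext m ((EtFppf.a X).map ((EtZar.zarToEt X).map (homOfLE hWU)))]
    rfl⟩
  exact
    { exact := (ShortComplex.exact_iff_epi_toCycles _).2 (Sheaf.epi_of_isLocallySurjective _)
      mono_f := ‹_›
      epi_g := Sheaf.epi_of_isLocallySurjective (res.map g) }

end Groth.Agent.CAlgH3.FppfPicLocal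

namespace Groth.Agent.CAlgH3.FppfPicLocal

open Groth.Agent.Desc19b.FppfEt (Sec)

variable {X : Scheme.{u}} {F G : EtFppf.AbF X} {g : F ⟶ G} (K : UnitsKernel g)

include K in
/-- A section of the quotient lifts globally when every invertible module is trivial. -/
theorem exists_global_lift [Sheaf.IsLocallySurjective g]
    (hPic : ∀ L : X.Modules, PicF.IsInvertible L → Nonempty (L ≅ Coh.structureModule X))
    (q : Sec G (opn (⊤ : X.Opens))) : ∃ y, g.hom.app (op (opn (⊤ : X.Opens))) y = q := by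
  haveI := Desc19b.EtQCoh.zarCont X
  haveI : EtFppf.ACont X := inferInstance
  obtain ⟨_⟩ := PicH127.nonempty_law X
  have hsub : Subsingleton (PicLoc.PicSet X) := ⟨fun a b => by
    obtain ⟨L, hL, rfl⟩ := PicGrp.exists_eq_cls a
    obtain ⟨M, hM, rfl⟩ := PicGrp.exists_eq_cls b
    obtain ⟨i⟩ := hPic L hL
    obtain ⟨j⟩ := hPic M hM
    exact (PicGrp.cls_eq_cls_iff hL hM).2 ⟨i ≪≫ j.symm⟩⟩
  let e₁ := AddEquiv.ofBijective (PicH127.picToH1 (PicH127.hasTriv_id (X := X))) (PicH127.picToH1_bijective _)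
  obtain ⟨b⟩ := Desc19b.EtQCoh.nonempty_H_lift 1 (UnitsSh.unitsAb X)
  have hH : Subsingleton (EtZar.H ((Desc19b.EtQCoh.lift X).obj (UnitsSh.unitsAb X)) 1) :=
    (b.toEquiv.trans (Equiv.ulift.trans (e₁.toEquiv.symm.trans Additive.toMul))).subsingleton
  have hS := shortExact_res K
  let hT : IsTerminal (⊤ : X.Opens) := IsTerminal.ofUniqueHom (fun U => homOfLE le_top) (fun _ _ => Subsingleton.elim _ _)
  let adj := constantSheafAdj (Opens.grothendieckTopology X) AddCommGrpCat.{u + 1} hT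
  let Z := AddCommGrpCat.of (ULift.{u + 1} ℤ)
  let a' : Z ⟶ (res.obj G).obj.obj (op ⊤) := AddCommGrpCat.ofHom (uliftZMultiplesHom _ q)
  let a := (adj.homEquiv Z (res.obj G)).symm a'
  obtain ⟨x, hx⟩ := Ext.covariant_sequence_exact₃ _ hS (Ext.mk₀ a) rfl (Subsingleton.elim (α := EtZar.H ((Desc19b.EtQCoh.lift X).obj (UnitsSh.unitsAb X)) 1) _ _)
  obtain ⟨b', rfl⟩ := (Ext.mk₀_bijective _ _).2 x
  rw [Ext.mk₀_comp_mk₀] at hx
  have hba := congrArg (adj.homEquiv Z (res.obj G)) ((Ext.mk₀_bijective _ _).1 hx)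
  rw [Adjunction.homEquiv_naturality_right, Equiv.apply_symm_apply] at hba
  refine ⟨adj.homEquiv Z (res.obj F) b' (ULift.up 1), ?_⟩
  refine (ConcreteCategory.congr_hom hba (ULift.up 1)).trans ?_
  show (1 : ℤ) • q = q
  exact one_zsmul q

end Groth.Agent.CAlgH3.FppfPicLocal
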