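import Groth.Agent.NonAb.SchTorsor
import Groth.Agent.CAlgH3.EtPicAlg
import Groth.Agent.Desc19b.Amitsur
import Groth.Agent.SGA3cLib.DiagPoints
import Mathlib.AlgebraicGeometry.Sites.Fpqc

/-!
# Fpqc torsors under the multiplicative and the additive group are Zariski locally trivial

Over an affine open the torsor has a section on a faithfully flat algebra `B`; the translation between its two pull-backs
to `B ⊗ B` is a cocycle, a coboundary after localising at each prime, and the corrected section descends.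
-/

set_option autoImplicit false
set_option linter.all false
set_option backward.isDefEq.respectTransparency false
set_option backward.isDefEq.respectTransparency.types false
set_option synthInstance.maxHeartbeats 400000
set_option maxHeartbeats 1000000

universe u

open CategoryTheory CategoryTheory.Limits AlgebraicGeometry MonoidalCategory CartesianMonoidalCategory MonObj
open TensorProduct
open Groth.Agent.CommAlg4.WittDescMat Groth.Agent.SGA3cLib

namespace Groth.Agent.CAlgH3.FpqcTorsorLocal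

variable {S : Scheme.{u}} {G X : Over S} [GrpObj G] {A : Type u} [CommRing A]
  (j : Spec (CommRingCat.of A) ⟶ S)

/-- The spectrum of an algebra over an affine open of the base. -/
noncomputable def Tm (R : Type u) [CommRing R] [Algebra A R] : Over S :=
  Over.mk (Spec.map (CommRingCat.ofHom (algebraMap A R)) ≫ j)

variable {R R' : Type u} [CommRing R] [Algebra A R] [CommRing R'] [Algebra A R']

/-- The map of spectra of an algebra map. -/
noncomputable def em (φ : R →+* R') (h : φ.comp (algebraMap A R) = algebraMap A R') : Tm j R' ⟶ Tm j R :=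
  Over.homMk (Spec.map (CommRingCat.ofHom φ)) (by
    show Spec.map (CommRingCat.ofHom φ) ≫ Spec.map (CommRingCat.ofHom (algebraMap A R)) ≫ j =
      Spec.map (CommRingCat.ofHom (algebraMap A R')) ≫ j
    rw [← Category.assoc, ← Spec.map_comp, ← CommRingCat.ofHom_comp, h])

theorem em_comp {R'' : Type u} [CommRing R''] [Algebra A R''] (φ : R →+* R')
    (h : φ.comp (algebraMap A R) = algebraMap A R') (ψ : R' →+* R'')
    (h' : ψ.comp (algebraMap A R') = algebraMap A R'') (χ : R →+* R'')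
    (h'' : χ.comp (algebraMap A R) = algebraMap A R'') (e : ψ.comp φ = χ) :
    em j ψ h' ≫ em j φ h = em j χ h'' := by
  subst e
  refine Over.OverMorphism.ext ?_
  show Spec.map (CommRingCat.ofHom ψ) ≫ Spec.map (CommRingCat.ofHom φ) = Spec.map (CommRingCat.ofHom (ψ.comp φ))
  rw [← Spec.map_comp]
  rfl

/-- The function attached to a function on a spectrum. -/
noncomputable def val (R : Type u) [CommRing R] (r : Γ(Spec (CommRingCat.of R), ⊤)) : R :=
  (Scheme.ΓSpecIso (CommRingCat.of R)).hom r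

theorem val_map (φ : R →+* R') (h : φ.comp (algebraMap A R) = algebraMap A R') (r : Γ(Spec (CommRingCat.of R), ⊤)) :
    val R' ((em j φ h).left.appTop r) = φ (val R r) :=
  ConcreteCategory.congr_hom (Scheme.ΓSpecIso_naturality (CommRingCat.ofHom φ)) r

theorem val_injective (R : Type u) [CommRing R] : Function.Injective (val R) :=
  (Scheme.ΓSpecIso (CommRingCat.of R)).commRingCatIsoToRingEquiv.injective

theorem val_surjective (R : Type u) [CommRing R] : Function.Surjective (val R) :=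
  (Scheme.ΓSpecIso (CommRingCat.of R)).commRingCatIsoToRingEquiv.surjective

variable (B : Type u) [CommRing B] [Algebra A B]

theorem i1_comp : (i1 (R := A) (R' := B)).comp (algebraMap A B) = algebraMap A (T2 A B) :=
  RingHom.ext fun _ => rfl

theorem i2_comp : (i2 (R := A) (R' := B)).comp (algebraMap A B) = algebraMap A (T2 A B) :=
  RingHom.ext fun r => (Algebra.TensorProduct.includeRight : B →ₐ[A] T2 A B).commutes r

theorem d12_comp : (d12 (R := A) (R' := B)).comp (algebraMap A (T2 A B)) = algebraMap A (T3 A B) :=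
  RingHom.ext fun r => (Algebra.TensorProduct.map (AlgHom.id A B) (Algebra.TensorProduct.includeLeft : B →ₐ[A] T2 A B)).commutes r

theorem d13_comp : (d13 (R := A) (R' := B)).comp (algebraMap A (T2 A B)) = algebraMap A (T3 A B) :=
  RingHom.ext fun r => (Algebra.TensorProduct.map (AlgHom.id A B) (Algebra.TensorProduct.includeRight : B →ₐ[A] T2 A B)).commutes r

theorem d23_comp : (d23 (R := A) (R' := B)).comp (algebraMap A (T2 A B)) = algebraMap A (T3 A B) :=
  RingHom.ext fun r => (Algebra.TensorProduct.includeRight : T2 A B →ₐ[A] T3 A B).commutes r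

/-- The first pull-back. -/
noncomputable def p1 : Tm j (T2 A B) ⟶ Tm j B := em j i1 (i1_comp B)

/-- The second pull-back. -/
noncomputable def p2 : Tm j (T2 A B) ⟶ Tm j B := em j i2 (i2_comp B)

noncomputable def q12 : Tm j (T3 A B) ⟶ Tm j (T2 A B) := em j d12 (d12_comp B)

noncomputable def q13 : Tm j (T3 A B) ⟶ Tm j (T2 A B) := em j d13 (d13_comp B)

noncomputable def q23 : Tm j (T3 A B) ⟶ Tm j (T2 A B) := em j d23 (d23_comp B)

theorem q12_p2 : q12 j B ≫ p2 j B = q23 j B ≫ p1 j B := by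
  have h : ((d12 (R := A) (R' := B)).comp i2).comp (algebraMap A B) = algebraMap A (T3 A B) := by
    rw [RingHom.comp_assoc, i2_comp, d12_comp]
  refine (em_comp j _ _ _ _ _ h rfl).trans (em_comp j _ _ _ _ _ h ?_).symm
  ext b
  show d23 (i1 b) = d12 (i2 b)
  rw [d23_apply]
  show (1 : B) ⊗ₜ[A] (b ⊗ₜ[A] (1 : B)) = d12 ((1 : B) ⊗ₜ[A] b)
  rw [d12_tmul]

theorem q13_p1 : q13 j B ≫ p1 j B = q12 j B ≫ p1 j B := by
  have h : ((d13 (R := A) (R' := B)).comp i1).comp (algebraMap A B) = algebraMap A (T3 A B) := by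
    rw [RingHom.comp_assoc, i1_comp, d13_comp]
  refine (em_comp j _ _ _ _ _ h rfl).trans (em_comp j _ _ _ _ _ h ?_).symm
  ext b
  show d12 (b ⊗ₜ[A] (1 : B)) = d13 (b ⊗ₜ[A] (1 : B))
  rw [d12_tmul, d13_tmul]

theorem q13_p2 : q13 j B ≫ p2 j B = q23 j B ≫ p2 j B := by
  have h : ((d13 (R := A) (R' := B)).comp i2).comp (algebraMap A B) = algebraMap A (T3 A B) := by
    rw [RingHom.comp_assoc, i2_comp, d13_comp]
  refine (em_comp j _ _ _ _ _ h rfl).trans (em_comp j _ _ _ _ _ h ?_).symm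
  ext b
  show d23 ((1 : B) ⊗ₜ[A] b) = d13 ((1 : B) ⊗ₜ[A] b)
  rw [d13_tmul, d23_apply]

/-- The translation between the two pull-backs of a point is a cocycle. -/
theorem exists_cocycle {a : AlgGrp.Action G X} (ha : NonAbH1.IsPseudoTorsorSch a) (x : Tm j B ⟶ X) :
    ∃ g : Tm j (T2 A B) ⟶ G, NonAbLib.actPt a g (p1 j B ≫ x) = p2 j B ≫ x ∧
      (q23 j B ≫ g) * (q12 j B ≫ g) = q13 j B ≫ g := by
  obtain ⟨g, hg, -⟩ := NonAbLib.existsUnique_actPt ha (p1 j B ≫ x) (p2 j B ≫ x)
  refine ⟨g, hg, (NonAbLib.existsUnique_actPt ha (q13 j B ≫ p1 j B ≫ x) (q13 j B ≫ p2 j B ≫ x)).unique ?_ ?_⟩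
  · rw [NonAbLib.actPt_mul, ← Category.assoc (q13 j B) (p1 j B), q13_p1, Category.assoc, ← NonAbLib.comp_actPt,
      hg, ← Category.assoc (q12 j B) (p2 j B), q12_p2, Category.assoc, ← NonAbLib.comp_actPt, hg,
      ← Category.assoc, ← q13_p2, Category.assoc]
  · rw [← NonAbLib.comp_actPt, hg]

/-- A point with equal pull-backs descends. -/
theorem hasSection_of_descent [Module.FaithfullyFlat A B] (x : Tm j B ⟶ X) (hx : p1 j B ≫ x = p2 j B ≫ x) :
    NonAbH1.HasSectionOver X j := by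
  let π : Spec (CommRingCat.of B) ⟶ Spec (CommRingCat.of A) := Spec.map (CommRingCat.ofHom (algebraMap A B))
  haveI : Flat π := by
    rw [HasRingHomProperty.Spec_iff (P := @Flat)]
    exact RingHom.flat_algebraMap_iff.2 inferInstance
  haveI : Surjective π := ⟨fun p => PrimeSpectrum.comap_surjective_of_faithfullyFlat (A := A) (B := B) p⟩
  have hxl : Spec.map (CommRingCat.ofHom (i1 (R := A) (R' := B))) ≫ x.left =
      Spec.map (CommRingCat.ofHom (i2 (R := A) (R' := B))) ≫ x.left :=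
    congrArg (fun m : Tm j (T2 A B) ⟶ X => m.left) hx
  have hcond : ∀ {Z : Scheme.{u}} (g₁ g₂ : Z ⟶ Spec (CommRingCat.of B)), g₁ ≫ π = g₂ ≫ π → g₁ ≫ x.left = g₂ ≫ x.left := by
    intro Z g₁ g₂ h
    have e1 : pullback.fst π π ≫ x.left = pullback.snd π π ≫ x.left := by
      rw [← cancel_epi (pullbackSpecIso A B B).inv, ← Category.assoc, ← Category.assoc]
      erw [pullbackSpecIso_inv_fst, pullbackSpecIso_inv_snd]
      exact hxl
    rw [← pullback.lift_fst g₁ g₂ h, Category.assoc, e1, ← Category.assoc, pullback.lift_snd]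
  refine ⟨EffectiveEpi.desc π x.left fun g₁ g₂ h => hcond g₁ g₂ h, ?_⟩
  rw [← cancel_epi π, EffectiveEpi.fac_assoc]
  exact Over.w x


/-- An fpqc torsor has a point on a faithfully flat algebra over an affine open. -/
theorem exists_algebra_point {a : AlgGrp.Action G X} (ha : NonAbH1.IsTorsorFor Scheme.fpqcPrecoverage a)
    [IsOpenImmersion j] :
    ∃ (B : Type u) (_ : CommRing B) (_ : Algebra A B), Module.FaithfullyFlat A B ∧ Nonempty (Tm j B ⟶ X) := by
  obtain ⟨-, P, hP, hsec⟩ := ha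
  obtain ⟨𝒰, h𝒰⟩ := NonAbLib.exists_cover hP
  have h1 := 𝒰.mem₀
  haveI : QuasiCompactCover 𝒰.toPreZeroHypercover := Scheme.presieve₀_mem_qcPrecoverage_iff.1 h1.1
  have hfl : ∀ i, Flat (𝒰.f i) := (Scheme.presieve₀_mem_precoverage_iff 𝒰.toPreZeroHypercover).1 h1.2 |>.2
  obtain ⟨n, c, W, hW, heq⟩ :=
    QuasiCompactCover.exists_isAffineOpen_of_isCompact 𝒰.toPreZeroHypercover (isAffineOpen_opensRange j).isCompact
  have hsub : ∀ k, Set.range ((hW k).fromSpec ≫ 𝒰.f (c k)) ⊆ Set.range j := by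
    intro k
    rw [Scheme.Hom.comp_base, TopCat.coe_comp, Set.range_comp, (hW k).range_fromSpec]
    exact (Set.subset_iUnion (fun k => 𝒰.f (c k) '' (W k : Set _)) k).trans heq.le
  let w : ∀ k, Spec Γ(_, W k) ⟶ Spec (CommRingCat.of A) := fun k =>
    IsOpenImmersion.lift j ((hW k).fromSpec ≫ 𝒰.f (c k)) (hsub k)
  have hw : ∀ k, w k ≫ j = (hW k).fromSpec ≫ 𝒰.f (c k) := fun k => IsOpenImmersion.lift_fac _ _ _
  choose t ht using fun i => hsec _ (h𝒰 i)
  let Z : Scheme.{u} := ∐ fun k => Spec Γ(_, W k)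
  let q : Z ⟶ Spec (CommRingCat.of A) := Sigma.desc w
  haveI : Flat q := IsZariskiLocalAtSource.sigmaDesc fun k => by
    haveI := hfl (c k)
    haveI h2 : Flat (w k ≫ j) := by rw [hw k]; infer_instance
    exact MorphismProperty.of_postcomp @Flat (W' := @IsOpenImmersion) (w k) j inferInstance h2
  haveI : Surjective q := ⟨fun y => by
    have hy : j y ∈ (j.opensRange : Set S) := ⟨y, rfl⟩
    rw [← heq, Set.mem_iUnion] at hy
    obtain ⟨k, z, hz, hzy⟩ := hy
    obtain ⟨z', rfl⟩ : z ∈ Set.range (hW k).fromSpec := by rw [(hW k).range_fromSpec]; exact hz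
    refine ⟨Sigma.ι (fun k => Spec Γ(_, W k)) k z', j.isOpenEmbedding.injective ?_⟩
    rw [← hzy, ← Scheme.Hom.comp_apply, ← Scheme.Hom.comp_apply, ← Scheme.Hom.comp_apply]
    congr 1
    simp [q, hw]⟩
  haveI : IsAffine Z := inferInstance
  obtain ⟨φ, hφ⟩ := Spec.map_surjective (Z.isoSpec.inv ≫ q)
  let _ : Algebra A Γ(Z, ⊤) := φ.hom.toAlgebra
  have halg : Spec.map (CommRingCat.ofHom (algebraMap A Γ(Z, ⊤))) = Z.isoSpec.inv ≫ q := hφ
  haveI : Surjective Z.isoSpec.inv := inferInstance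
  haveI : Flat (Spec.map φ) := by rw [hφ]; infer_instance
  haveI : Surjective (Spec.map φ) := by rw [hφ]; infer_instance
  have hfl' : (algebraMap A Γ(Z, ⊤)).Flat := (HasRingHomProperty.Spec_iff (P := @Flat)).1 ‹Flat (Spec.map φ)›
  haveI : Module.Flat A Γ(Z, ⊤) := RingHom.flat_algebraMap_iff.1 hfl'
  refine ⟨Γ(Z, ⊤), inferInstance, inferInstance,
    Module.FaithfullyFlat.of_comap_surjective fun p => (Spec.map φ).surjective p,
    ⟨Over.homMk (Z.isoSpec.inv ≫ Sigma.desc fun k => (hW k).fromSpec ≫ t (c k)) ?_⟩⟩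
  show (Z.isoSpec.inv ≫ _) ≫ X.hom = Spec.map (CommRingCat.ofHom (algebraMap A Γ(Z, ⊤))) ≫ j
  rw [halg, Category.assoc, Category.assoc]
  congr 1
  refine Sigma.hom_ext _ _ fun k => ?_
  rw [Sigma.ι_desc_assoc, Category.assoc, ht, ← hw k]
  simp [q]

/-- Torsors with sections near every point for the fpqc topology are Zariski torsors. -/
theorem isTorsorFor_zariski {a : AlgGrp.Action G X} (ha : NonAbH1.IsPseudoTorsorSch a)
    (h : ∀ x : S, ∃ (U : Scheme.{u}) (f : U ⟶ S), IsOpenImmersion f ∧ x ∈ Set.range f ∧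
      NonAbH1.HasSectionOver X f) :
    NonAbH1.IsTorsorFor Scheme.zariskiPrecoverage a := by
  choose U f hf hx hsec using h
  refine ⟨ha, Presieve.ofArrows U f,
    (Scheme.ofArrows_mem_precoverage_iff _).2 ⟨fun x => ⟨x, hx x⟩, hf⟩, ?_⟩
  rintro _ _ ⟨i⟩
  exact hsec i


section Main

variable {X' : Over S}

/-- A translation which splits over `B'` gives a section over the base of `B'`. -/
theorem hasSection_of_coboundary {B : Type u} [CommRing B] [Algebra A B] (R₁ B' : Type u) [CommRing R₁] [Algebra A R₁]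
    [CommRing B'] [Algebra A B'] [Algebra R₁ B'] [IsScalarTower A R₁ B'] [Module.FaithfullyFlat R₁ B']
    (a : AlgGrp.Action G X) (x : Tm j B ⟶ X) (g : Tm j (T2 A B) ⟶ G)
    (hg : NonAbLib.actPt a g (p1 j B ≫ x) = p2 j B ≫ x) (φ : B →+* B')
    (hφA : φ.comp (algebraMap A B) = algebraMap A B') (ψ : T2 A B →+* T2 R₁ B')
    (hψA : ψ.comp (algebraMap A (T2 A B)) = algebraMap A (T2 R₁ B'))
    (hψ1 : ψ.comp i1 = (i1 (R := R₁) (R' := B')).comp φ) (hψ2 : ψ.comp i2 = (i2 (R := R₁) (R' := B')).comp φ)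
    (v : Tm j B' ⟶ G)
    (hv : ∀ (h1 : (i1 (R := R₁) (R' := B')).comp (algebraMap A B') = algebraMap A (T2 R₁ B'))
      (h2 : (i2 (R := R₁) (R' := B')).comp (algebraMap A B') = algebraMap A (T2 R₁ B')),
      em j i1 h1 ≫ v = (em j i2 h2 ≫ v) * (em j ψ hψA ≫ g)) :
    NonAbH1.HasSectionOver X (Spec.map (CommRingCat.ofHom (algebraMap A R₁)) ≫ j) := by
  let x' : Tm j B' ⟶ X := NonAbLib.actPt a v (em j φ hφA ≫ x)
  -- descend along `R₁ ⟶ B'`
  let j' := Spec.map (CommRingCat.ofHom (algebraMap A R₁)) ≫ j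
  let e : Tm (A := R₁) j' B' ⟶ Tm j B' := Over.homMk (𝟙 _) (by
    show 𝟙 _ ≫ Spec.map (CommRingCat.ofHom (algebraMap A B')) ≫ j =
      Spec.map (CommRingCat.ofHom (algebraMap R₁ B')) ≫ Spec.map (CommRingCat.ofHom (algebraMap A R₁)) ≫ j
    rw [Category.id_comp, ← Spec.map_comp_assoc, ← CommRingCat.ofHom_comp, ← IsScalarTower.algebraMap_eq])
  refine hasSection_of_descent j' B' (e ≫ x') ?_
  -- compare in the doubled algebra over `A`
  let E : Tm (A := R₁) j' (T2 R₁ B') ⟶ Tm j (T2 R₁ B') := Over.homMk (𝟙 _) (by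
    show 𝟙 _ ≫ Spec.map (CommRingCat.ofHom (algebraMap A (T2 R₁ B'))) ≫ j =
      Spec.map (CommRingCat.ofHom (algebraMap R₁ (T2 R₁ B'))) ≫ Spec.map (CommRingCat.ofHom (algebraMap A R₁)) ≫ j
    rw [Category.id_comp, ← Spec.map_comp_assoc, ← CommRingCat.ofHom_comp, ← IsScalarTower.algebraMap_eq])
  have h1A : (i1 (R := R₁) (R' := B')).comp (algebraMap A B') = algebraMap A (T2 R₁ B') := by
    rw [IsScalarTower.algebraMap_eq A R₁ B', ← RingHom.comp_assoc, i1_comp, ← IsScalarTower.algebraMap_eq]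
  have h2A : (i2 (R := R₁) (R' := B')).comp (algebraMap A B') = algebraMap A (T2 R₁ B') := by
    rw [IsScalarTower.algebraMap_eq A R₁ B', ← RingHom.comp_assoc, i2_comp, ← IsScalarTower.algebraMap_eq]
  have hp1 : p1 j' B' ≫ e = E ≫ em j i1 h1A := Over.OverMorphism.ext (by
    show Spec.map _ ≫ 𝟙 _ = 𝟙 _ ≫ Spec.map _
    rw [Category.comp_id, Category.id_comp])
  have hp2 : p2 j' B' ≫ e = E ≫ em j i2 h2A := Over.OverMorphism.ext (by
    show Spec.map _ ≫ 𝟙 _ = 𝟙 _ ≫ Spec.map _
    rw [Category.comp_id, Category.id_comp])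
  rw [← Category.assoc, hp1, ← Category.assoc, hp2, Category.assoc, Category.assoc]
  congr 1
  have k1 : em j i1 h1A ≫ em j φ hφA = em j ψ hψA ≫ p1 j B := by
    have h : ((i1 (R := R₁) (R' := B')).comp φ).comp (algebraMap A B) = algebraMap A (T2 R₁ B') := by
      rw [RingHom.comp_assoc, hφA, h1A]
    exact (em_comp j _ _ _ _ _ h rfl).trans (em_comp j _ _ _ _ _ h hψ1).symm
  have k2 : em j i2 h2A ≫ em j φ hφA = em j ψ hψA ≫ p2 j B := by
    have h : ((i2 (R := R₁) (R' := B')).comp φ).comp (algebraMap A B) = algebraMap A (T2 R₁ B') := by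
      rw [RingHom.comp_assoc, hφA, h2A]
    exact (em_comp j _ _ _ _ _ h rfl).trans (em_comp j _ _ _ _ _ h hψ2).symm
  simp only [x', NonAbLib.comp_actPt]
  rw [← Category.assoc, k1, ← Category.assoc, k2, Category.assoc, Category.assoc]
  conv_rhs => rw [← hg, NonAbLib.comp_actPt, ← NonAbLib.actPt_mul]
  exact congrArg (fun t => NonAbLib.actPt a t _) (hv h1A h2A)

/-- The multiplicative coboundary on functions gives the coboundary on points. -/
theorem gm_coboundary {B : Type u} [CommRing B] [Algebra A B] {R₁ B' : Type u} [CommRing R₁] [Algebra A R₁]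
    [CommRing B'] [Algebra A B'] [Algebra R₁ B'] [IsScalarTower A R₁ B'] (g : Tm j (T2 A B) ⟶ Red.Gm S)
    (ψ : T2 A B →+* T2 R₁ B') (hψA : ψ.comp (algebraMap A (T2 A B)) = algebraMap A (T2 R₁ B'))
    (v : Tm j B' ⟶ Red.Gm S) (c : B')
    (hc : val B' (Red.gmFn v) = c) (key : i1 c * ψ (val (T2 A B) (Red.gmFn g)) = i2 c)
    (h1 : (i1 (R := R₁) (R' := B')).comp (algebraMap A B') = algebraMap A (T2 R₁ B'))
    (h2 : (i2 (R := R₁) (R' := B')).comp (algebraMap A B') = algebraMap A (T2 R₁ B')) :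
    em j i1 h1 ≫ v⁻¹ = (em j i2 h2 ≫ v⁻¹) * (em j ψ hψA ≫ g) := by
  refine gmFn_injective (val_injective _ ?_)
  have hmul : ∀ r s : Γ((Tm j (T2 R₁ B')).left, ⊤), val (T2 R₁ B') (r * s) = val (T2 R₁ B') r * val (T2 R₁ B') s :=
    fun r s => map_mul (Scheme.ΓSpecIso (CommRingCat.of (T2 R₁ B'))).hom.hom r s
  have hmul' : ∀ r s : Γ((Tm j B').left, ⊤), val B' (r * s) = val B' r * val B' s :=
    fun r s => map_mul (Scheme.ΓSpecIso (CommRingCat.of B')).hom.hom r s
  have hone : val B' (1 : Γ((Tm j B').left, ⊤)) = 1 := map_one (Scheme.ΓSpecIso (CommRingCat.of B')).hom.hom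
  have hinv : c * val B' (Red.gmFn v⁻¹) = 1 := by
    rw [mul_comm, ← hc, ← hmul', gmFn_inv_mul, hone]
  rw [gmFn_mul, gmFn_comp, gmFn_comp, gmFn_comp, hmul, val_map, val_map, val_map]
  have e1 : i1 c * i1 (val B' (Red.gmFn v⁻¹)) = (1 : T2 R₁ B') := by rw [← map_mul, hinv, map_one]
  have e2 : i2 c * i2 (val B' (Red.gmFn v⁻¹)) = (1 : T2 R₁ B') := by rw [← map_mul, hinv, map_one]
  calc i1 (val B' (Red.gmFn v⁻¹)) = i1 (val B' (Red.gmFn v⁻¹)) * (i2 c * i2 (val B' (Red.gmFn v⁻¹))) := by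
        rw [e2, _root_.mul_one]
    _ = _ := by
        rw [← key]
        linear_combination (i2 (val B' (Red.gmFn v⁻¹)) * ψ (val (T2 A B) (Red.gmFn g))) * e1

/-- The doubled map of a map of algebras. -/
theorem exists_double {B : Type u} [CommRing B] [Algebra A B] (R₁ B' : Type u) [CommRing R₁] [Algebra A R₁]
    [CommRing B'] [Algebra A B'] [Algebra R₁ B'] [IsScalarTower A R₁ B'] (φ : B →ₐ[A] B') :
    ∃ ψ : T2 A B →+* T2 R₁ B', ψ.comp (algebraMap A (T2 A B)) = algebraMap A (T2 R₁ B') ∧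
      ψ.comp i1 = (i1 (R := R₁) (R' := B')).comp φ.toRingHom ∧
      ψ.comp i2 = (i2 (R := R₁) (R' := B')).comp φ.toRingHom := by
  let ψ₀ : T2 A B →ₐ[A] T2 R₁ B' := Algebra.TensorProduct.lift
    (((Algebra.TensorProduct.includeLeft : B' →ₐ[R₁] T2 R₁ B').restrictScalars A).comp φ)
    (((Algebra.TensorProduct.includeRight : B' →ₐ[R₁] T2 R₁ B').restrictScalars A).comp φ)
    fun b c => mul_comm (G := T2 R₁ B') _ _
  refine ⟨ψ₀.toRingHom, RingHom.ext fun r => ψ₀.commutes r, ?_, ?_⟩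
  · ext b
    show ψ₀ (b ⊗ₜ[A] (1 : B)) = i1 (φ b)
    simp [ψ₀, i1]
  · ext b
    show ψ₀ ((1 : B) ⊗ₜ[A] b) = i2 (φ b)
    simp [ψ₀, i2]

/-- Gm torsors have sections near every point of an affine open. -/
theorem exists_section_gm [IsOpenImmersion j] {a : AlgGrp.Action (Red.Gm S) X'}
    (ha : NonAbH1.IsTorsorFor Scheme.fpqcPrecoverage a) (p : Spec (CommRingCat.of A)) :
    ∃ f : A, f ∉ p.asIdeal ∧
      NonAbH1.HasSectionOver X' (Spec.map (CommRingCat.ofHom (algebraMap A (Localization.Away f))) ≫ j) := by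
  obtain ⟨B, _, _, hB, ⟨x⟩⟩ := exists_algebra_point j ha
  obtain ⟨g, hg, hcoc⟩ := exists_cocycle j B ha.1 x
  have hu : IsUnit (val (T2 A B) (Red.gmFn g)) := (isUnit_gmFn g).map (Scheme.ΓSpecIso (CommRingCat.of (T2 A B))).hom.hom
  let uη := hu.unit
  have hη : d12 (uη : T2 A B) * d23 (uη : T2 A B) = d13 (uη : T2 A B) := by
    have h := congrArg (fun m => val (T3 A B) (Red.gmFn m)) hcoc
    simp only [gmFn_mul, gmFn_comp] at h
    have hmul : ∀ r s : Γ((Tm j (T3 A B)).left, ⊤), val (T3 A B) (r * s) = val (T3 A B) r * val (T3 A B) s :=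
      fun r s => map_mul _ r s
    rw [hmul] at h
    simp only [q12, q13, q23, val_map] at h
    rw [mul_comm] at h
    exact h
  obtain ⟨f, hf, c, y, hy, hc⟩ := EtPicAlg.exists_local_primitive uη hη p.asIdeal p.isPrime.ne_top
  refine ⟨f, hf, ?_⟩
  let B' := Localization.Away f ⊗[A] B
  let R₁ := Localization.Away f
  -- the point corrected by `c⁻¹`
  let φ : B →+* B' := (Algebra.TensorProduct.includeRight : B →ₐ[A] B').toRingHom
  have hφA : φ.comp (algebraMap A B) = algebraMap A B' :=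
    RingHom.ext fun r => (Algebra.TensorProduct.includeRight : B →ₐ[A] B').commutes r
  have hcu : IsUnit (φ c) := by
    have h : IsUnit (φ (algebraMap A B f)) := by
      rw [← RingHom.comp_apply, hφA, IsScalarTower.algebraMap_apply A R₁ B']
      exact (IsLocalization.Away.algebraMap_isUnit f).map _
    rw [← hy, map_mul] at h
    exact isUnit_of_mul_isUnit_left h
  obtain ⟨v, hv⟩ : ∃ v : Tm j B' ⟶ Red.Gm S, val B' (Red.gmFn v) = φ c := by
    obtain ⟨r, hr⟩ := val_surjective B' (φ c)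
    have hru : IsUnit r := by
      have := (hr ▸ hcu).map (Scheme.ΓSpecIso (CommRingCat.of B')).inv.hom
      simpa [val] using this
    obtain ⟨v, hv⟩ := exists_gmFn (X := Tm j B') hru
    exact ⟨v, hv ▸ hr⟩
  obtain ⟨ψ, hψA, hψ1, hψ2⟩ := exists_double (A := A) R₁ B' (Algebra.TensorProduct.includeRight : B →ₐ[A] B')
  haveI : Module.FaithfullyFlat R₁ B' := inferInstance
  have key : i1 (φ c) * ψ (val (T2 A B) (Red.gmFn g)) = (i2 (φ c) : T2 R₁ B') := by
    have h := congrArg ψ hc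
    rw [map_mul, ← RingHom.comp_apply, hψ1, ← RingHom.comp_apply, hψ2] at h
    exact h
  exact hasSection_of_coboundary j R₁ B' a x g hg φ hφA ψ hψA hψ1 hψ2 v⁻¹
    (gm_coboundary j g ψ hψA v (φ c) hv key)

/-- Ga torsors have a section over every affine open. -/
theorem hasSection_ga [IsOpenImmersion j] {a : AlgGrp.Action (Red.Ga S) X'}
    (ha : NonAbH1.IsTorsorFor Scheme.fpqcPrecoverage a) : NonAbH1.HasSectionOver X' j := by
  obtain ⟨B, _, _, hB, ⟨x⟩⟩ := exists_algebra_point j ha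
  obtain ⟨g, hg, hcoc⟩ := exists_cocycle j B ha.1 x
  let δ := val (T2 A B) (Red.gaFn g)
  have hadd : ∀ {R : Type u} [CommRing R] (r s : Γ(Spec (CommRingCat.of R), ⊤)), val R (r + s) = val R r + val R s :=
    fun r s => map_add (Scheme.ΓSpecIso _).hom.hom r s
  have hδ : d23 δ = d13 δ - d12 δ := by
    have h := congrArg (fun m => val (T3 A B) (Red.gaFn m)) hcoc
    simp only [gaFn_mul, gaFn_comp] at h
    erw [hadd] at h
    simp only [q12, q13, q23, val_map] at h
    exact eq_sub_of_add_eq h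
  let d : B →ₗ[A] T2 A B := (Algebra.TensorProduct.includeRight : B →ₐ[A] T2 A B).toLinearMap -
    (Algebra.TensorProduct.includeLeft : B →ₐ[A] T2 A B).toLinearMap
  have hd : ∀ t : T2 A B, d.lTensor B t = d13 t - d12 t := fun t => by
    induction t using TensorProduct.induction_on with
    | zero => simp
    | tmul b c =>
      show b ⊗ₜ[A] (((1 : B) ⊗ₜ[A] c) - c ⊗ₜ[A] (1 : B)) = _
      rw [TensorProduct.tmul_sub, d13_tmul, d12_tmul]
    | add v w hv hw => rw [map_add, map_add, map_add, hv, hw]; abel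
  obtain ⟨z, hz⟩ : δ ∈ LinearMap.range d := by
    refine Desc19b.mem_range_of_one_tmul_mem (A := B) d ⟨δ, ?_⟩
    rw [hd, ← hδ]
    exact d23_apply δ
  have hz' : i2 z - i1 z = δ := hz
  obtain ⟨r, hr⟩ := val_surjective B (-z)
  obtain ⟨v, hv⟩ := exists_gaFn (X := Tm j B) r
  refine hasSection_of_descent j B (NonAbLib.actPt a v x) ?_
  simp only [NonAbLib.comp_actPt]
  conv_rhs => rw [← hg, ← NonAbLib.actPt_mul]
  refine congrArg (fun t => NonAbLib.actPt a t _) (gaFn_injective (val_injective _ ?_))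
  simp only [gaFn_mul, gaFn_comp, p1, p2]
  erw [hadd]
  simp only [val_map, hv, hr, map_neg]
  show -i1 z = -i2 z + δ
  rw [← hz']
  abel

end Main

end Groth.Agent.CAlgH3.FpqcTorsorLocal
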