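import Mathlib

/-! A module isomorphic to its Frobenius pullback is free. -/

universe u

open IsLocalRing CategoryTheory
open scoped TensorProduct ChangeOfRings

namespace Groth.Agent.CAlgH3.FrobeniusPullback

theorem presentation {R S : Type u} [CommRing R] [CommRing S] (f : R →+* S) (X : ModuleCat.{u} R) {n : ℕ}
    (π : (Fin n → R) →ₗ[R] X) (hπ : Function.Surjective π) (J : Ideal S)
    (hJ : ∀ c, π c = 0 → ∀ i, f (c i) ∈ J) :
    ∃ π' : (Fin n → S) →ₗ[S] ((ModuleCat.extendScalars f).obj X),
      Function.Surjective π' ∧ ∀ b, π' b = 0 → ∀ i, b i ∈ J := by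
  classical
  let Y : ModuleCat.{u} S := ModuleCat.of S (Fin n → S ⧸ J)
  let G : (Fin n → R) →ₗ[R] ((ModuleCat.restrictScalars f).obj Y) :=
    { toFun := fun c => ((fun i => Ideal.Quotient.mk J (f (c i))) : Fin n → S ⧸ J)
      map_add' := fun a b => funext fun i => by
        show Ideal.Quotient.mk J (f (a i + b i)) = Ideal.Quotient.mk J (f (a i)) + Ideal.Quotient.mk J (f (b i))
        rw [map_add, map_add]
      map_smul' := fun r c => funext fun i => by
        show Ideal.Quotient.mk J (f (r * c i)) = f r • Ideal.Quotient.mk J (f (c i))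
        rw [map_mul]; rfl }
  have hG : LinearMap.ker π ≤ LinearMap.ker G := fun c hc => by
    rw [LinearMap.mem_ker]
    funext i
    exact Ideal.Quotient.eq_zero_iff_mem.2 (hJ c hc i)
  let g : X ⟶ (ModuleCat.restrictScalars f).obj Y :=
    ModuleCat.ofHom (Y := (ModuleCat.restrictScalars f).obj Y) (((LinearMap.ker π).liftQ G hG) ∘ₗ (π.quotKerEquivOfSurjective hπ).symm.toLinearMap)
  have hg : ∀ c, g (π c) = G c := fun c => by
    show (LinearMap.ker π).liftQ G hG ((π.quotKerEquivOfSurjective hπ).symm (π c)) = G c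
    rw [show (π.quotKerEquivOfSurjective hπ).symm (π c) = Submodule.Quotient.mk c from
      (π.quotKerEquivOfSurjective hπ).injective (by simp)]
    rfl
  let ψ := (ModuleCat.ExtendRestrictScalarsAdj.homEquiv f).symm g
  let uu := ModuleCat.ExtendRestrictScalarsAdj.Unit.map f (X := X)
  have hψ : ∀ m, ψ (uu m) = g m := fun m => by
    conv_rhs => rw [← (ModuleCat.ExtendRestrictScalarsAdj.homEquiv f).apply_symm_apply g]
    rfl
  let v : Fin n → ((ModuleCat.extendScalars f).obj X) := fun i => uu (π (fun j => if j = i then 1 else 0))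
  let π' := Fintype.linearCombination S v
  have hu : ∀ c, (uu (π c) : (ModuleCat.extendScalars f).obj X) = π' (fun i => f (c i)) := by
    intro c
    conv_lhs => rw [pi_eq_sum_univ c, map_sum, map_sum]
    rw [Fintype.linearCombination_apply]
    refine Finset.sum_congr rfl fun i _ => ?_
    rw [map_smul, map_smul]
    simp only [v, eq_comm]
    rfl
  refine ⟨π', ?_, ?_⟩
  · intro z
    induction z using TensorProduct.induction_on with
    | zero => exact ⟨0, map_zero _⟩
    | tmul s m =>
      obtain ⟨c, rfl⟩ := hπ m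
      let s' : S := s
      refine ⟨s' • fun i => f (c i), ?_⟩
      rw [map_smul, ← hu c]
      exact (ModuleCat.ExtendScalars.smul_tmul f s' (1 : S) (π c)).trans (by rw [mul_one]; rfl)
    | add a b ha hb =>
      obtain ⟨x, hx⟩ := ha
      obtain ⟨y, hy⟩ := hb
      exact ⟨x + y, (map_add π' x y).trans (congrArg₂ (· + ·) hx hy)⟩
  · intro b hb i
    have h1 : ψ (π' b) = 0 := by rw [hb, map_zero]
    rw [Fintype.linearCombination_apply, map_sum] at h1
    simp only [v, map_smul, hψ, hg] at h1
    have h2 := congrFun h1 i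
    rw [← Ideal.Quotient.eq_zero_iff_mem]
    refine Eq.trans ?_ h2
    rw [Finset.sum_apply, Finset.sum_eq_single i]
    · show _ = b i • Ideal.Quotient.mk J (f (if i = i then 1 else 0))
      rw [if_pos rfl, map_one, map_one, Algebra.smul_def, mul_one]
      rfl
    · intro j _ hj
      show b j • Ideal.Quotient.mk J (f (if i = j then 1 else 0)) = 0
      rw [if_neg (Ne.symm hj), map_zero, map_zero, smul_zero]
    · intro h; exact absurd (Finset.mem_univ i) h

theorem free_of_iso (p : ℕ) [Fact p.Prime] (R : Type u) [CommRing R] [IsLocalRing R] [IsNoetherianRing R]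
    [CharP R p] (M : Type u) [AddCommGroup M] [Module R M] [Module.Finite R M]
    (h : Nonempty ((ModuleCat.extendScalars (frobenius R p)).obj (ModuleCat.of R M) ≅ ModuleCat.of R M)) :
    Module.Free R M := by
  classical
  obtain ⟨iso⟩ := h
  obtain ⟨s, hs1, hs2⟩ := (Module.Finite.fg_top (R := R) (M := M)).exists_span_finset_card_eq_spanFinrank
  let x : Fin s.card → M := fun i => (s.equivFin.symm i : M)
  have hrange : Set.range x = ↑s := by
    ext z; constructor
    · rintro ⟨i, rfl⟩; exact (s.equivFin.symm i).2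
    · intro hz; exact ⟨s.equivFin ⟨z, hz⟩, by simp [x]⟩
  let π := Fintype.linearCombination R x
  have hπ : Function.Surjective π := by
    rw [← LinearMap.range_eq_top, Fintype.range_linearCombination, hrange, hs2]
  -- minimality
  have hmin : ∀ c, π c = 0 → ∀ i, c i ∈ maximalIdeal R := by
    intro c hc i
    by_contra hu
    obtain ⟨u, hu⟩ := not_not.1 (mt (mem_nonunits_iff.2) (by simpa [IsLocalRing.mem_maximalIdeal] using hu))
    have hle : (⊤ : Submodule R M) = Submodule.span R (x '' ↑(Finset.univ.erase i)) := by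
      refine le_antisymm ?_ le_top
      rw [← hs2, ← hrange, Submodule.span_le]
      rintro _ ⟨l, rfl⟩
      by_cases hl : l = i
      · subst hl
        rw [Fintype.linearCombination_apply, ← Finset.add_sum_erase _ _ (Finset.mem_univ l),
          add_eq_zero_iff_eq_neg, ← hu] at hc
        rw [SetLike.mem_coe, show x l = (↑u⁻¹ : R) • ((u : R) • x l) by rw [smul_smul]; simp, hc]
        exact Submodule.smul_mem _ _ (neg_mem (Submodule.sum_mem _ fun m hm =>
          Submodule.smul_mem _ _ (Submodule.subset_span ⟨m, hm, rfl⟩)))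
      · exact Submodule.subset_span ⟨l, by simp [hl], rfl⟩
    have hcard := Submodule.spanFinrank_span_le_ncard_of_finite (R := R)
      ((Finset.univ.erase i).finite_toSet.image x)
    rw [← hle, ← hs1, ← Finset.coe_image, Set.ncard_coe_finset] at hcard
    have := hcard.trans Finset.card_image_le
    simp at this
    have := i.pos
    omega
  -- the ideal of entries
  let I : Ideal R := Ideal.span {r | ∃ c, π c = 0 ∧ ∃ i, c i = r}
  have hI : I ≤ maximalIdeal R := Ideal.span_le.2 (by rintro _ ⟨c, hc, i, rfl⟩; exact hmin c hc i)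
  obtain ⟨π', hπ', hJ⟩ := presentation (frobenius R p) (ModuleCat.of R M) π hπ (maximalIdeal R * I)
    (fun c hc i => by
      rw [frobenius_def, show p = (p - 1) + 1 by have := (Fact.out : p.Prime).two_le; omega, pow_succ]
      exact Ideal.mul_mem_mul (Ideal.pow_mem_of_mem _ (hmin c hc i) _ (by have := (Fact.out : p.Prime).two_le; omega))
        (Ideal.subset_span ⟨c, hc, i, rfl⟩))
  let φ := iso.toLinearEquiv.toLinearMap ∘ₗ π'
  have hφ : Function.Surjective φ := iso.toLinearEquiv.surjective.comp hπ'
  have hlift : ∀ i, ∃ w, π w = φ (fun j => if j = i then 1 else 0) := fun i => hπ _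
  choose w hw using hlift
  let Φ := Fintype.linearCombination R w
  have hΦ : ∀ b, π (Φ b) = φ b := fun b => by
    show π (Fintype.linearCombination R w b) = _
    rw [Fintype.linearCombination_apply R w, map_sum]
    conv_rhs => rw [pi_eq_sum_univ b, map_sum]
    refine Finset.sum_congr rfl fun i _ => ?_
    rw [map_smul, map_smul, hw]
    simp only [eq_comm]
  have hΦs : LinearMap.range Φ = ⊤ := by
    refine top_le_iff.1 (Submodule.le_of_le_smul_of_le_jacobson_bot (I := maximalIdeal R)
      Module.Finite.fg_top (maximalIdeal_le_jacobson _) ?_)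
    intro c _
    obtain ⟨b, hb⟩ := hφ (π c)
    rw [← hΦ] at hb
    have hk : π (c - Φ b) = 0 := by rw [map_sub, hb, sub_self]
    refine Submodule.mem_sup.2 ⟨Φ b, ⟨b, rfl⟩, c - Φ b, ?_, add_sub_cancel _ _⟩
    rw [pi_eq_sum_univ (c - Φ b)]
    exact Submodule.sum_mem _ fun i _ => Submodule.smul_mem_smul (hmin _ hk i) trivial
  have hII : I ≤ maximalIdeal R • I := by
    rw [smul_eq_mul]
    refine Ideal.span_le.2 ?_
    rintro _ ⟨c, hc, i, rfl⟩
    obtain ⟨b, rfl⟩ := LinearMap.range_eq_top.1 hΦs c
    rw [hΦ] at hc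
    have hb : π' b = 0 := iso.toLinearEquiv.injective (by rw [map_zero]; exact hc)
    show Fintype.linearCombination R w b i ∈ _
    rw [Fintype.linearCombination_apply R w, Finset.sum_apply]
    exact Ideal.sum_mem _ fun j _ => Ideal.mul_mem_right _ _ (hJ b hb j)
  have hbot : I = ⊥ := Submodule.eq_bot_of_le_smul_of_le_jacobson_bot (maximalIdeal R) I
    (IsNoetherian.noetherian I) hII (maximalIdeal_le_jacobson _)
  have hinj : Function.Injective π := by
    rw [← LinearMap.ker_eq_bot, Submodule.eq_bot_iff]
    intro c hc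
    funext i
    have : c i ∈ I := Ideal.subset_span ⟨c, hc, i, rfl⟩
    rwa [hbot, Ideal.mem_bot] at this
  exact Module.Free.of_equiv (LinearEquiv.ofBijective π ⟨hinj, hπ⟩)

end Groth.Agent.CAlgH3.FrobeniusPullback
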