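import Mathlib.CategoryTheory.Abelian.FunctorCategory
import Mathlib.Algebra.Homology.ShortComplex.PreservesHomology
import Mathlib.Algebra.Homology.ShortComplex.Exact

/-! Exactness in functor categories is objectwise. -/

set_option autoImplicit false
universe v₁ v₂ u₁ u₂

open CategoryTheory CategoryTheory.Limits

namespace Groth.Agent.CAlgH3.FunctorExact

variable {C : Type u₁} [Category.{v₁} C] {A : Type u₂} [Category.{v₂} A] [Abelian A]

theorem exact_of_app (S : ShortComplex (C ⥤ A)) (h : ∀ c, (S.map ((evaluation C A).obj c)).Exact) : S.Exact := by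
  rw [ShortComplex.exact_iff_isZero_homology]
  refine Functor.isZero _ fun c => ?_
  exact ((ShortComplex.exact_iff_isZero_homology _).1 (h c)).of_iso
    (S.mapHomologyIso ((evaluation C A).obj c)).symm

theorem epi_of_app {F G : C ⥤ A} (f : F ⟶ G) (h : ∀ c, Epi (f.app c)) : Epi f :=
  NatTrans.epi_of_epi_app f

end Groth.Agent.CAlgH3.FunctorExact
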