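import Groth.Prelude.Def_CGrpSh2
import Groth.Agent.CAlgH3.FppfPicSplit
import Groth.Agent.GaGmQuot.AffineUnits
import Groth.Agent.SGA3cLib.DiagPoints
import Groth.Agent.SiteCoh.Cohomology

/-!
# Extensions of the additive group by the multiplicative group
-/

set_option autoImplicit false
set_option linter.all false
set_option backward.isDefEq.respectTransparency false
set_option backward.isDefEq.respectTransparency.types false
set_option synthInstance.maxHeartbeats 400000
set_option maxHeartbeats 1000000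

universe u

open CategoryTheory CategoryTheory.Limits CategoryTheory.Abelian AlgebraicGeometry Opposite MonObj CartesianMonoidalCategory
open MonoidalCategory

namespace Groth.Agent.CAlgH3.GaGmExt

open Groth.Agent.SGA3cLib Groth.Agent.CAlgH3.FppfPicLocal Groth.Agent.GaGmQuot

variable {X : Scheme.{u}}

local notation "K₀" => Scheme.fppfPrecoverage

variable {F G : BigSite.Ab K₀ X} (f : CGrpSh.pts K₀ (Red.Gm X) ⟶ F) (g : F ⟶ G) (w : f ≫ g = 0)
  (hS : (ShortComplex.mk f g w).ShortExact)

include hS in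
theorem exists_eq_of_g_eq_zero (W : Over X) (s : F.obj.obj (op W)) (h : g.hom.app (op W) s = 0) :
    ∃ t, f.hom.app (op W) t = s := by
  let Φ : BigSite.Ab K₀ X ⥤ AddCommGrpCat.{u + 1} :=
    sheafToPresheaf _ AddCommGrpCat.{u + 1} ⋙ (evaluation _ _).obj (op W)
  haveI : Φ.Additive := { map_add := rfl }
  haveI : PreservesFiniteLimits Φ := comp_preservesFiniteLimits _ _
  exact (ShortComplex.ab_exact_iff _).1
    (hS.exact.map_of_mono_of_preservesKernel Φ hS.mono_f inferInstance) s h

include hS in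
theorem f_injective (W : Over X) : Function.Injective (f.hom.app (op W)) := by
  haveI : Mono f := hS.mono_f
  let Φ : BigSite.Ab K₀ X ⥤ AddCommGrpCat.{u + 1} :=
    sheafToPresheaf _ AddCommGrpCat.{u + 1} ⋙ (evaluation _ _).obj (op W)
  haveI : PreservesFiniteLimits Φ := comp_preservesFiniteLimits _ _
  exact (AddCommGrpCat.mono_iff_injective (Φ.map f)).1 inferInstance

section Restrict

variable (T : Over X)

/-- Sheaves seen on an object of the big site. -/
noncomputable abbrev pb : BigSite.Ab K₀ X ⥤ EtFppf.AbF T.left := BigSite.pullBig K₀ T.hom AddCommGrpCat.{u + 1}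

/-- A unit of the functions as a point of the multiplicative group. -/
noncomputable def gmPt (W : Over T.left) (v : Γ(W.left, ⊤)ˣ) : (Over.map T.hom).obj W ⟶ Red.Gm X :=
  (exists_gmFn (X := (Over.map T.hom).obj W) v.isUnit).choose

theorem gmFn_gmPt (W : Over T.left) (v : Γ(W.left, ⊤)ˣ) : Red.gmFn (gmPt T W v) = (v : Γ(W.left, ⊤)) :=
  (exists_gmFn (X := (Over.map T.hom).obj W) v.isUnit).choose_spec

include hS in
/-- The kernel of the restricted map is the sheaf of units. -/
theorem nonempty_unitsKernel : Nonempty (UnitsKernel ((pb T).map g)) := by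
  refine ⟨{
    u := fun W => AddMonoidHom.mk'
      (fun v => f.hom.app (op ((Over.map T.hom).obj W)) (ULift.up (Additive.ofMul (gmPt T W v.toMul))))
      fun v v' => ?_
    nat := fun {W W'} m v => ?_
    inj := fun W v v' h => ?_
    comp := fun W v => ?_
    exact' := fun W s hs => ?_ }⟩
  · refine Eq.trans (congrArg (f.hom.app _) ?_) (map_add _ _ _)
    refine ULift.ext _ _ (congrArg Additive.ofMul (gmFn_injective ?_))
    rw [gmFn_gmPt]
    refine Eq.trans ?_ (gmFn_mul _ _).symm
    exact (congrArg₂ (· * ·) (gmFn_gmPt T W v.toMul) (gmFn_gmPt T W v'.toMul)).symm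
  · refine (NatTrans.naturality_apply f.hom ((Over.map T.hom).map m).op _).symm.trans ?_
    refine congrArg (f.hom.app _) ?_
    refine ULift.ext _ _ (congrArg Additive.ofMul (gmFn_injective ?_))
    exact (gmFn_comp _ _).trans ((congrArg _ (gmFn_gmPt T W v)).trans
      (gmFn_gmPt T W' (Units.map m.left.appTop.hom.toMonoidHom v)).symm)
  · have h1 := congrArg Additive.toMul (congrArg ULift.down (f_injective f g w hS _ h))
    refine Additive.toMul.injective (Units.ext ?_)
    rw [← gmFn_gmPt T W v.toMul, ← gmFn_gmPt T W v'.toMul]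
    exact congrArg Red.gmFn h1
  · exact ConcreteCategory.congr_hom (congrArg (fun k => k.hom.app (op ((Over.map T.hom).obj W))) w) _
  · obtain ⟨t, ht⟩ := exists_eq_of_g_eq_zero f g w hS _ s hs
    refine ⟨Additive.ofMul (isUnit_gmFn t.down.toMul).unit, Eq.trans ?_ ht⟩
    refine congrArg (f.hom.app _) ?_
    exact ULift.ext _ _ (congrArg Additive.ofMul (gmFn_injective (gmFn_gmPt T W _)))

include hS in
/-- The restricted map is locally surjective. -/
theorem isLocallySurjective_pb : Sheaf.IsLocallySurjective ((pb T).map g) := by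
  haveI : Epi g := hS.epi_g
  haveI : Sheaf.IsLocallySurjective g :=
    (Sheaf.isLocallySurjective_iff_epi' (A := AddCommGrpCat.{u + 1}) g).2 inferInstance
  refine ⟨fun {W} q => ?_⟩
  have h := Presheaf.imageSieve_mem (QuotSh.J K₀ X) g.hom (U := op ((Over.map T.hom).obj W)) q
  rw [GrothendieckTopology.mem_over_iff] at h ⊢
  refine GrothendieckTopology.superset_covering _ (fun Y a ha => ?_) h
  obtain ⟨y, hy⟩ := (Sieve.overEquiv_iff _ _).1 ha
  refine (Sieve.overEquiv_iff _ _).2 ?_
  let i : (Over.map T.hom).obj (Over.mk (a ≫ W.hom)) ⟶ Over.mk (a ≫ ((Over.map T.hom).obj W).hom) :=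
    Over.homMk (𝟙 Y) ((Category.id_comp _).trans (Category.assoc _ _ _).symm)
  refine ⟨F.obj.map i.op y, ?_⟩
  refine (NatTrans.naturality_apply g.hom i.op y).trans ((congrArg (G.obj.map i.op) hy).trans ?_)
  refine (Functor.map_comp_apply _ _ _ _).symm.trans ?_
  rw [← op_comp]
  exact congrArg (fun k => G.obj.map (Quiver.Hom.op k) q) (Over.OverMorphism.ext (Category.id_comp _))

include hS in
/-- Sections of the quotient lift when the Picard group vanishes. -/
theorem exists_lift (hPic : ∀ L : T.left.Modules, PicF.IsInvertible L → Nonempty (L ≅ Coh.structureModule T.left))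
    (q : G.obj.obj (op T)) : ∃ y : F.obj.obj (op T), g.hom.app (op T) y = q := by
  obtain ⟨K⟩ := nonempty_unitsKernel f g w hS T
  haveI := isLocallySurjective_pb f g w hS T
  let T' : Over X := (Over.map T.hom).obj (opn (⊤ : T.left.Opens))
  let i : T' ⟶ T := Over.homMk (Scheme.Opens.ι ⊤)
  let j : T ⟶ T' := Over.homMk T.left.topIso.inv (by
    show T.left.topIso.inv ≫ Scheme.Opens.ι ⊤ ≫ T.hom = T.hom
    rw [← Scheme.topIso_hom, Iso.inv_hom_id_assoc])
  obtain ⟨y, hy⟩ := exists_global_lift K hPic (G.obj.map i.op q)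
  refine ⟨F.obj.map j.op y, ?_⟩
  refine (NatTrans.naturality_apply g.hom j.op y).trans ((congrArg (G.obj.map j.op) hy).trans ?_)
  refine (Functor.map_comp_apply _ _ _ _).symm.trans ?_
  rw [← op_comp, show j ≫ i = 𝟙 T from Over.OverMorphism.ext (by
    show T.left.topIso.inv ≫ Scheme.Opens.ι ⊤ = 𝟙 _
    rw [← Scheme.topIso_hom, Iso.inv_hom_id]), op_id, CategoryTheory.Functor.map_id]
  rfl

end Restrict

/-- Units on the square of the additive group are constant. -/
theorem exists_const [IsReduced X] (t : Red.Ga X ⊗ Red.Ga X ⟶ Red.Gm X) :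
    ∃ c : 𝟙_ (Over X) ⟶ Red.Gm X, t = toUnit _ ≫ c := by
  let n : Type u := PUnit.{u + 1} ⊕ PUnit.{u + 1}
  let A : Over X := Over.mk (𝔸(n; X) ↘ X)
  obtain ⟨x₁, hx₁⟩ := exists_gaFn (X := A) (AffineSpace.coord X (Sum.inl PUnit.unit : n))
  obtain ⟨x₂, hx₂⟩ := exists_gaFn (X := A) (AffineSpace.coord X (Sum.inr PUnit.unit : n))
  let P : Over X := Red.Ga X ⊗ Red.Ga X
  let y : P ⟶ A := Over.homMk (AffineSpace.homOfVector P.hom
    (Sum.elim (fun _ => Red.gaFn (fst (Red.Ga X) (Red.Ga X))) (fun _ => Red.gaFn (snd (Red.Ga X) (Red.Ga X)))))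
    (AffineSpace.homOfVector_over _ _)
  have hy : y ≫ lift x₁ x₂ = 𝟙 P := by
    apply CartesianMonoidalCategory.hom_ext
    · rw [Category.assoc, lift_fst, Category.id_comp]
      refine gaFn_injective ?_
      rw [gaFn_comp, hx₁]
      exact AffineSpace.homOfVector_appTop_coord _ _ _
    · rw [Category.assoc, lift_snd, Category.id_comp]
      refine gaFn_injective ?_
      rw [gaFn_comp, hx₂]
      exact AffineSpace.homOfVector_appTop_coord _ _ _
  let s₀ : 𝟙_ (Over X) ⟶ A := Over.homMk (zeroSection n X) (zeroSection_over X)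
  refine ⟨s₀ ≫ lift x₁ x₂ ≫ t, ?_⟩
  have hA : lift x₁ x₂ ≫ t = toUnit A ≫ s₀ ≫ lift x₁ x₂ ≫ t := by
    refine gmFn_injective ?_
    rw [gmFn_comp (toUnit A) (s₀ ≫ lift x₁ x₂ ≫ t), gmFn_comp s₀ (lift x₁ x₂ ≫ t)]
    exact (eq_of_isUnit X _ (isUnit_gmFn _)).symm
  conv_lhs => rw [← Category.id_comp t, ← hy, Category.assoc, hA]
  rw [← Category.assoc, Subsingleton.elim (y ≫ toUnit A) (toUnit P)]

include hS in
/-- A homomorphism to the quotient lifts. -/
theorem exists_hom_lift [IsReduced X]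
    (hPic : ∀ L : (Red.Ga X).left.Modules, PicF.IsInvertible L →
      Nonempty (L ≅ Coh.structureModule (Red.Ga X).left))
    (φ : CGrpSh.pts K₀ (Red.Ga X) ⟶ G) : ∃ ψ : CGrpSh.pts K₀ (Red.Ga X) ⟶ F, ψ ≫ g = φ := by
  let pA : ∀ {Y : Over X}, (Y ⟶ Red.Ga X) → (CGrpSh.pts K₀ (Red.Ga X)).obj.obj (op Y) :=
    fun a => ULift.up (Additive.ofMul a)
  obtain ⟨y, hy⟩ := exists_lift f g w hS (Red.Ga X) hPic (φ.hom.app (op (Red.Ga X)) (pA (𝟙 _)))
  have gnat : ∀ {P P' : Over X} (m : P' ⟶ P) (s : F.obj.obj (op P)),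
      g.hom.app (op P') (F.obj.map m.op s) = G.obj.map m.op (g.hom.app (op P) s) :=
    fun m s => NatTrans.naturality_apply g.hom m.op s
  have hga : ∀ {Y : Over X} (a : Y ⟶ Red.Ga X), g.hom.app (op Y) (F.obj.map a.op y) = φ.hom.app (op Y) (pA a) :=
    fun a => by
      rw [gnat, hy]
      refine (NatTrans.naturality_apply φ.hom a.op _).symm.trans (congrArg (φ.hom.app _) ?_)
      exact ULift.ext _ _ (congrArg Additive.ofMul (Category.comp_id a))
  let p₁ := fst (Red.Ga X) (Red.Ga X)
  let p₂ := snd (Red.Ga X) (Red.Ga X)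
  have hpA : ∀ {Y : Over X} (a b : Y ⟶ Red.Ga X), pA (a * b) = pA a + pA b := fun a b => rfl
  have hd : g.hom.app _ (F.obj.map (p₁ * p₂).op y - F.obj.map p₁.op y - F.obj.map p₂.op y) = 0 := by
    rw [map_sub, map_sub, hga, hga, hga, hpA, map_add]
    abel
  obtain ⟨t, ht⟩ := exists_eq_of_g_eq_zero f g w hS _ _ hd
  obtain ⟨c, hc⟩ := exists_const t.down.toMul
  let c₀ : F.obj.obj (op (𝟙_ (Over X))) := f.hom.app _ (ULift.up (Additive.ofMul c))
  let cY : ∀ Y : Over X, F.obj.obj (op Y) := fun Y => F.obj.map (toUnit Y).op c₀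
  have hcY : ∀ Y : Over X, g.hom.app (op Y) (cY Y) = 0 := fun Y => by
    rw [gnat, show g.hom.app (op (𝟙_ (Over X))) c₀ = 0 from
      ConcreteCategory.congr_hom (congrArg (fun k => k.hom.app (op (𝟙_ (Over X)))) w) _, map_zero]
  have hmul : ∀ {Y : Over X} (a b : Y ⟶ Red.Ga X),
      F.obj.map (a * b).op y = F.obj.map a.op y + F.obj.map b.op y + cY Y := by
    intro Y a b
    have h1 : F.obj.map (toUnit (Red.Ga X ⊗ Red.Ga X)).op c₀ =
        F.obj.map (p₁ * p₂).op y - F.obj.map p₁.op y - F.obj.map p₂.op y := by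
      rw [← ht]
      refine (NatTrans.naturality_apply f.hom _ _).symm.trans (congrArg (f.hom.app _) ?_)
      exact ULift.ext _ _ (congrArg Additive.ofMul hc.symm)
    have h2 := congrArg (F.obj.map (lift a b).op) h1
    simp only [map_sub, ← Functor.map_comp_apply, ← op_comp, MonObj.comp_mul, p₁, p₂, lift_fst, lift_snd] at h2
    rw [Subsingleton.elim (lift a b ≫ toUnit (Red.Ga X ⊗ Red.Ga X)) (toUnit Y)] at h2
    rw [show cY Y = F.obj.map (toUnit Y).op c₀ from rfl, h2]
    abel
  refine ⟨⟨{ app := fun Y => AddCommGrpCat.ofHom (AddMonoidHom.mk'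
      (fun a => F.obj.map a.down.toMul.op y + cY Y.unop) fun a b => ?_)
             naturality := fun {Y Y'} m => ?_ }⟩, ?_⟩
  · rw [show (a + b).down.toMul = a.down.toMul * b.down.toMul from rfl, hmul]
    abel
  · ext a
    show F.obj.map (m.unop ≫ a.down.toMul).op y + cY Y'.unop = F.obj.map m (F.obj.map a.down.toMul.op y + cY Y.unop)
    rw [map_add, ← Functor.map_comp_apply]
    congr 1
    show F.obj.map (toUnit Y'.unop).op c₀ = F.obj.map m (F.obj.map (toUnit Y.unop).op c₀)
    rw [← Functor.map_comp_apply, Subsingleton.elim (toUnit Y'.unop) (m.unop ≫ toUnit Y.unop)]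
    rfl
  · apply Sheaf.hom_ext
    ext Y a
    show g.hom.app Y (F.obj.map a.down.toMul.op y + cY Y.unop) = φ.hom.app Y a
    rw [map_add, hcY, add_zero]
    exact hga a.down.toMul

/-- Extensions of the additive by the multiplicative group split. -/
theorem subsingleton_ext [IsReduced X]
    (hPic : ∀ L : (Red.Ga X).left.Modules, PicF.IsInvertible L →
      Nonempty (L ≅ Coh.structureModule (Red.Ga X).left)) :
    Subsingleton (CGrpSh.ExtS K₀ (Red.Ga X) (Red.Gm X) 1) := by
  refine subsingleton_of_forall_eq 0 fun x => ?_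
  let S := ShortComplex.mk (Injective.ι (CGrpSh.pts K₀ (Red.Gm X)))
    (cokernel.π (Injective.ι (CGrpSh.pts K₀ (Red.Gm X)))) (cokernel.condition _)
  have hS : S.ShortExact :=
    { exact := ShortComplex.exact_cokernel _
      mono_f := inferInstanceAs (Mono (Injective.ι _))
      epi_g := inferInstanceAs (Epi (cokernel.π _)) }
  haveI : Injective S.X₂ := inferInstanceAs (Injective (Injective.under _))
  obtain ⟨z, hz⟩ := Ext.covariant_sequence_exact₁ _ hS x (Ext.eq_zero_of_injective _) rfl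
  obtain ⟨φ, rfl⟩ := (Ext.mk₀_bijective _ _).2 z
  obtain ⟨ψ, rfl⟩ := exists_hom_lift S.f S.g S.zero hS hPic φ
  rw [← hz, ← Ext.mk₀_comp_mk₀, Ext.comp_assoc_of_second_deg_zero, hS.comp_extClass]
  exact Ext.comp_zero (Ext.mk₀ ψ) _ _ _ _

end Groth.Agent.CAlgH3.GaGmExt
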