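import Groth.Agent.CAlgH3.GeomBridge

/-! Consequences of geometric connectedness, irreducibility and integrality. -/

set_option autoImplicit false

universe u

open CategoryTheory Limits AlgebraicGeometry TensorProduct Groth.Agent.VarietyLib Groth.Agent.CAlgH3.GeomBridge

namespace Groth.Agent.CAlgH3.GeomMore

variable {k : Type u} [Field k]

theorem injective_map_val {S : Type u} [CommRing S] [Algebra k S] (S' : Subalgebra k S) (K : Type u) [CommRing K] [Algebra k K] :
    Function.Injective (Algebra.TensorProduct.map (AlgHom.id k K) S'.val) :=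
  Module.Flat.lTensor_preserves_injective_linearMap S'.val.toLinearMap Subtype.val_injective

theorem connected_subalgebra {S : Type u} [CommRing S] [Algebra k S]
    (hS : ∀ (k' : Type u) [Field k'] [Algebra k k'], ConnectedSpace (PrimeSpectrum (k' ⊗[k] S))) (S' : Subalgebra k S)
    (k' : Type u) [Field k'] [Algebra k k'] : ConnectedSpace (PrimeSpectrum (k' ⊗[k] S')) := by
  have := hS k'
  let φ : k' ⊗[k] S' →+* k' ⊗[k] S := RingHomClass.toRingHom (Algebra.TensorProduct.map (AlgHom.id k k') S'.val)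
  have hφ : Function.Injective φ := injective_map_val S' k'
  have hne : Nonempty (PrimeSpectrum (k' ⊗[k] S')) := ⟨PrimeSpectrum.comap φ (Classical.arbitrary _)⟩
  have hpre : PreconnectedSpace (PrimeSpectrum (k' ⊗[k] S')) := by
    refine preconnectedSpace_of_idempotents fun e he => ?_
    rcases isIdempotentElem_trivial_of_connected _ (he.map φ) with h | h
    · exact Or.inl (hφ (h.trans (map_zero φ).symm))
    · exact Or.inr (hφ (h.trans (map_one φ).symm))
  exact ⟨hne⟩

theorem irreducible_subalgebra {S : Type u} [CommRing S] [Algebra k S]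
    (hS : ∀ (k' : Type u) [Field k'] [Algebra k k'], IrreducibleSpace (PrimeSpectrum (k' ⊗[k] S))) (S' : Subalgebra k S)
    (k' : Type u) [Field k'] [Algebra k k'] : IrreducibleSpace (PrimeSpectrum (k' ⊗[k] S')) := by
  let φ : k' ⊗[k] S' →+* k' ⊗[k] S := RingHomClass.toRingHom (Algebra.TensorProduct.map (AlgHom.id k k') S'.val)
  have hφ : Function.Injective φ := injective_map_val S' k'
  have := PrimeSpectrum.irreducibleSpace_iff_isPrime_nilradical.1 (hS k')
  rw [PrimeSpectrum.irreducibleSpace_iff_isPrime_nilradical]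
  rw [show nilradical (k' ⊗[k] S') = (nilradical (k' ⊗[k] S)).comap φ by
    ext x
    rw [Ideal.mem_comap, mem_nilradical, mem_nilradical, IsNilpotent.map_iff hφ]]
  exact Ideal.comap_isPrime φ _

theorem isDomain_tensor {R S : Type u} [CommRing R] [IsDomain R] [CommRing S] [Algebra k R] [Algebra k S]
    (hS : ∀ (k' : Type u) [Field k'] [Algebra k k'], IsDomain (k' ⊗[k] S)) : IsDomain (R ⊗[k] S) := by
  have := hS (FractionRing R)
  let φ : R ⊗[k] S →+* FractionRing R ⊗[k] S :=
    RingHomClass.toRingHom (Algebra.TensorProduct.map (IsScalarTower.toAlgHom k R (FractionRing R)) (AlgHom.id k S))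
  have hφ : Function.Injective φ := Module.Flat.rTensor_preserves_injective_linearMap
    (IsScalarTower.toAlgHom k R (FractionRing R)).toLinearMap (IsFractionRing.injective R (FractionRing R))
  exact hφ.isDomain φ

theorem irreducible_trans {K S : Type u} [Field K] [Algebra k K] [CommRing S] [Algebra K S] [Algebra k S] [IsScalarTower k K S]
    (hK : ∀ (k' : Type u) [Field k'] [Algebra k k'], IrreducibleSpace (PrimeSpectrum (k' ⊗[k] K)))
    (hS : ∀ (K' : Type u) [Field K'] [Algebra K K'], IrreducibleSpace (PrimeSpectrum (K' ⊗[K] S))) :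
    ∀ (k' : Type u) [Field k'] [Algebra k k'], IrreducibleSpace (PrimeSpectrum (k' ⊗[k] S)) := by
  rw [← irreducible_iff]
  have := (irreducible_iff k K).2 hK
  have := (irreducible_iff K S).2 hS
  rw [show str k S = str K S ≫ str k K by
    rw [str, str, str, ← Spec.map_comp, ← CommRingCat.ofHom_comp, ← IsScalarTower.algebraMap_eq]]
  exact GeometricallyIrreducible.comp _ _

theorem existsUnique_idempotent {R S : Type u} [CommRing R] [CommRing S] [Algebra k R] [Algebra k S]
    (hS : ∀ (k' : Type u) [Field k'] [Algebra k k'], ConnectedSpace (PrimeSpectrum (k' ⊗[k] S)))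
    (x : R ⊗[k] S) (hx : IsIdempotentElem x) :
    ∃! e : R, IsIdempotentElem e ∧ algebraMap R (R ⊗[k] S) e = x := by
  have := (connected_iff k S).2 hS
  have hnt : Nontrivial S := by
    have := hS k
    have : Nontrivial (k ⊗[k] S) := PrimeSpectrum.nonempty_iff_nontrivial.1 inferInstance
    exact (Algebra.TensorProduct.lid k S).symm.toEquiv.nontrivial
  have hinj : Function.Injective (algebraMap R (R ⊗[k] S)) :=
    Algebra.TensorProduct.includeLeft_injective (S := R) (algebraMap k S).injective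
  let f := pullback.fst (str k R) (str k S)
  let i : PrimeSpectrum (R ⊗[k] S) ≃ₜ ↥(pullback (str k R) (str k S)) := (pullbackSpecIso k R S).inv.homeomorph
  have hfi : ∀ z, f (i z) = PrimeSpectrum.comap (algebraMap R (R ⊗[k] S)) z := fun z => by
    change ((pullbackSpecIso k R S).inv ≫ pullback.fst _ _) z = _
    rw [pullbackSpecIso_inv_fst']
    rfl
  have hopen : IsOpenMap (PrimeSpectrum.comap (algebraMap R (R ⊗[k] S))) := by
    have : IsOpenMap (f ∘ i) := f.isOpenMap.comp i.isOpenMap
    rwa [show f ∘ i = PrimeSpectrum.comap (algebraMap R (R ⊗[k] S)) from funext hfi] at this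
  have hsurj : Function.Surjective (PrimeSpectrum.comap (algebraMap R (R ⊗[k] S))) := fun p => by
    obtain ⟨z, hz⟩ := f.surjective p
    exact ⟨i.symm z, by rw [← hfi, i.apply_symm_apply]; exact hz⟩
  let U : Set (PrimeSpectrum (R ⊗[k] S)) := PrimeSpectrum.basicOpen x
  have hU : IsClopen U := PrimeSpectrum.isClopen_iff_mul_add.2 ⟨x, 1 - x, by rw [mul_sub, mul_one, hx.eq, sub_self], by ring, rfl⟩
  have hfib : ∀ z ∈ U, ∀ z', PrimeSpectrum.comap (algebraMap R (R ⊗[k] S)) z' = PrimeSpectrum.comap (algebraMap R (R ⊗[k] S)) z → z' ∈ U := by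
    intro z hz z' he
    have hc := (f.isConnected_preimage_singleton (PrimeSpectrum.comap (algebraMap R (R ⊗[k] S)) z)).isPreconnected
    have hsub := hc.subset_isClopen (i.symm.isClosedEmbedding.isClosedMap |> fun _ => hU.preimage i.symm.continuous)
      ⟨i z, hfi z, show i.symm (i z) ∈ U by rwa [i.symm_apply_apply]⟩
    have := hsub (show i z' ∈ f ⁻¹' {_} from (hfi z').trans he)
    rwa [Set.mem_preimage, i.symm_apply_apply] at this
  let W := PrimeSpectrum.comap (algebraMap R (R ⊗[k] S)) '' U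
  have hW : IsClopen W := by
    refine ⟨⟨?_⟩, hopen _ hU.isOpen⟩
    have : Wᶜ = PrimeSpectrum.comap (algebraMap R (R ⊗[k] S)) '' Uᶜ := by
      ext p
      constructor
      · intro hp
        obtain ⟨z, rfl⟩ := hsurj p
        exact ⟨z, fun hz => hp ⟨z, hz, rfl⟩, rfl⟩
      · rintro ⟨z, hz, rfl⟩ ⟨z', hz', he⟩
        exact hz (hfib z' hz' z he.symm)
    rw [this]
    exact hopen _ hU.compl.isOpen
  obtain ⟨e, he, heW⟩ := PrimeSpectrum.exists_idempotent_basicOpen_eq_of_isClopen hW
  refine ⟨e, ⟨he, ?_⟩, fun e' he' => ?_⟩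
  · refine PrimeSpectrum.basicOpen_injOn_isIdempotentElem (he.map _) hx (TopologicalSpace.Opens.ext ?_)
    ext z
    change z ∈ PrimeSpectrum.comap (algebraMap R (R ⊗[k] S)) ⁻¹' ↑(PrimeSpectrum.basicOpen e) ↔ z ∈ U
    rw [← heW]
    exact ⟨fun ⟨z', hz', h⟩ => hfib z' hz' z h.symm, fun h => ⟨z, h, rfl⟩⟩
  · refine hinj (he'.2.trans (Eq.symm ?_))
    refine PrimeSpectrum.basicOpen_injOn_isIdempotentElem (he.map _) hx (TopologicalSpace.Opens.ext ?_)
    ext z
    change z ∈ PrimeSpectrum.comap (algebraMap R (R ⊗[k] S)) ⁻¹' ↑(PrimeSpectrum.basicOpen e) ↔ z ∈ U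
    rw [← heW]
    exact ⟨fun ⟨z', hz', h⟩ => hfib z' hz' z h.symm, fun h => ⟨z, h, rfl⟩⟩

theorem bijOn_minimalPrimes {R S : Type u} [CommRing R] [CommRing S] [Algebra k R] [Algebra k S]
    (hS : ∀ (k' : Type u) [Field k'] [Algebra k k'], IrreducibleSpace (PrimeSpectrum (k' ⊗[k] S))) :
    Set.BijOn (Ideal.comap (algebraMap R (R ⊗[k] S))) (minimalPrimes (R ⊗[k] S)) (minimalPrimes R) := by
  have := (irreducible_iff k S).2 hS
  let f := pullback.fst (str k R) (str k S)
  let i : PrimeSpectrum (R ⊗[k] S) ≃ₜ ↥(pullback (str k R) (str k S)) := (pullbackSpecIso k R S).inv.homeomorph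
  have hfi : ∀ z, f (i z) = PrimeSpectrum.comap (algebraMap R (R ⊗[k] S)) z := fun z => by
    change ((pullbackSpecIso k R S).inv ≫ pullback.fst _ _) z = _
    rw [pullbackSpecIso_inv_fst']
    rfl
  have hmaps : ∀ Q ∈ minimalPrimes (R ⊗[k] S), Q.comap (algebraMap R (R ⊗[k] S)) ∈ minimalPrimes R := by
    intro Q hQ
    have := hQ.1.1
    refine ⟨⟨inferInstance, bot_le⟩, fun p hp hle => ?_⟩
    have := hp.1
    obtain ⟨P, hPQ, hPp, hP⟩ := Ideal.exists_ideal_le_liesOver_of_le (p := p) (q := Q.under R) Q hle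
    have heq : Q = P := le_antisymm (hQ.2 ⟨hPp, bot_le⟩ hPQ) hPQ
    exact (le_of_eq (by rw [heq, hP.over]))
  refine ⟨hmaps, ?_, ?_⟩
  · intro Q₁ h₁ Q₂ h₂ he
    have := h₁.1.1
    have := h₂.1.1
    let z₁ : PrimeSpectrum (R ⊗[k] S) := ⟨Q₁, inferInstance⟩
    let z₂ : PrimeSpectrum (R ⊗[k] S) := ⟨Q₂, inferInstance⟩
    let π := PrimeSpectrum.comap (algebraMap R (R ⊗[k] S))
    have hirr : IsIrreducible (π ⁻¹' {π z₁}) := by
      have h := (f.isIrreducible_preimage f.isOpenMap (isIrreducible_singleton (x := π z₁))).image i.symm i.symm.continuous.continuousOn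
      have he : π ⁻¹' {π z₁} = i.symm '' (f ⁻¹' {π z₁}) := Set.ext fun z =>
        ⟨fun hz => ⟨i z, (hfi z).trans hz, i.symm_apply_apply z⟩,
          fun ⟨w, hw, hwz⟩ => by rw [← hwz]; exact ((hfi (i.symm w)).symm.trans (by rw [i.apply_symm_apply]; exact hw))⟩
      rw [he]; exact h
    obtain ⟨g, hg⟩ := QuasiSober.sober hirr.closure isClosed_closure
    have hg1 : g ≤ z₁ := (PrimeSpectrum.le_iff_specializes g z₁).2 (hg.specializes (subset_closure rfl))
    have hg2 : g ≤ z₂ := (PrimeSpectrum.le_iff_specializes g z₂).2 (hg.specializes (subset_closure (PrimeSpectrum.ext he.symm)))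
    exact (le_antisymm (h₁.2 ⟨g.isPrime, bot_le⟩ hg1) hg1).trans (le_antisymm (h₂.2 ⟨g.isPrime, bot_le⟩ hg2) hg2).symm
  · intro p hp
    have := hp.1.1
    obtain ⟨w, hw⟩ := f.surjective (⟨p, inferInstance⟩ : PrimeSpectrum R)
    let z : PrimeSpectrum (R ⊗[k] S) := i.symm w
    have hz : z.asIdeal.comap (algebraMap R (R ⊗[k] S)) = p := by
      have := hfi z
      rw [i.apply_symm_apply] at this
      exact congrArg PrimeSpectrum.asIdeal (this.symm.trans hw)
    obtain ⟨Q, hQ, hQz⟩ := Ideal.exists_minimalPrimes_le (bot_le : (⊥ : Ideal (R ⊗[k] S)) ≤ z.asIdeal)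
    refine ⟨Q, hQ, ?_⟩
    have hle : Q.comap (algebraMap R (R ⊗[k] S)) ≤ p := hz ▸ Ideal.comap_mono hQz
    exact le_antisymm hle (hp.2 ⟨(hmaps Q hQ).1.1, bot_le⟩ hle)

theorem integral_tfae {S : Type u} [CommRing S] [Algebra k S] :
    [∀ (k' : Type u) [Field k'] [Algebra k k'], IsDomain (k' ⊗[k] S),
      ∀ (k' : Type u) [Field k'] [Algebra k k'] [Module.Finite k k'], IsDomain (k' ⊗[k] S),
      IsDomain (AlgebraicClosure k ⊗[k] S)].TFAE := by
  tfae_have 1 → 2 := fun h k' _ _ _ => h k'
  tfae_have 3 → 1 := fun h k' _ _ => by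
    let Ω := AlgebraicClosure k'
    let φ : AlgebraicClosure k →ₐ[k] Ω := IsAlgClosed.lift
    letI := φ.toRingHom.toAlgebra
    have : IsScalarTower k (AlgebraicClosure k) Ω := .of_algebraMap_eq fun c => (φ.commutes c).symm
    have h1 := isDomain_tensor_of_isAlgClosed (AlgebraicClosure k) Ω (AlgebraicClosure k ⊗[k] S)
    obtain ⟨e⟩ : Nonempty (Ω ⊗[AlgebraicClosure k] (AlgebraicClosure k ⊗[k] S) ≃+* Ω ⊗[k] S) :=
      ⟨(Algebra.TensorProduct.cancelBaseChange k (AlgebraicClosure k) Ω Ω S).toRingEquiv⟩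
    have h2 : IsDomain (Ω ⊗[k] S) := e.symm.toMulEquiv.isDomain _
    let ψ : k' ⊗[k] S →+* Ω ⊗[k] S :=
      RingHomClass.toRingHom (Algebra.TensorProduct.map (IsScalarTower.toAlgHom k k' Ω) (AlgHom.id k S))
    have hψ : Function.Injective ψ := Module.Flat.rTensor_preserves_injective_linearMap
      (IsScalarTower.toAlgHom k k' Ω).toLinearMap (algebraMap k' Ω).injective
    exact hψ.isDomain ψ
  tfae_have 2 → 3 := fun h => by
    let ι (L : IntermediateField k (AlgebraicClosure k)) : L ⊗[k] S →+* AlgebraicClosure k ⊗[k] S :=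
      RingHomClass.toRingHom (Algebra.TensorProduct.map L.val (AlgHom.id k S))
    have hinj : ∀ L, Function.Injective (ι L) := fun L =>
      Module.Flat.rTensor_preserves_injective_linearMap L.val.toLinearMap L.val.injective
    have hsub : ∀ {M N : IntermediateField k (AlgebraicClosure k)}, M ≤ N → (ι M).range ≤ (ι N).range := by
      rintro M N hMN _ ⟨z, rfl⟩
      refine ⟨Algebra.TensorProduct.map (IntermediateField.inclusion hMN) (AlgHom.id k S) z, ?_⟩
      induction z using TensorProduct.induction_on with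
      | zero => simp
      | tmul a r => rfl
      | add a b ha hb => rw [map_add, map_add, map_add, ha, hb]
    have hex : ∀ x : AlgebraicClosure k ⊗[k] S, ∃ L : IntermediateField k (AlgebraicClosure k),
        FiniteDimensional k L ∧ x ∈ (ι L).range := by
      intro x
      induction x using TensorProduct.induction_on with
      | zero => exact ⟨⊥, inferInstance, zero_mem _⟩
      | tmul a r =>
        refine ⟨IntermediateField.adjoin k {a}, IntermediateField.adjoin.finiteDimensional (Algebra.IsIntegral.isIntegral a),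
          ⟨⟨a, IntermediateField.mem_adjoin_simple_self k a⟩ ⊗ₜ r, ?_⟩⟩
        rfl
      | add a b ha hb =>
        obtain ⟨L₁, hL₁, ha⟩ := ha
        obtain ⟨L₂, hL₂, hb⟩ := hb
        exact ⟨L₁ ⊔ L₂, inferInstance, add_mem (hsub le_sup_left ha) (hsub le_sup_right hb)⟩
    have hnt : Nontrivial (AlgebraicClosure k ⊗[k] S) := by
      have hk := h ↥(⊥ : IntermediateField k (AlgebraicClosure k))
      exact (hinj ⊥).nontrivial
    have hnz : NoZeroDivisors (AlgebraicClosure k ⊗[k] S) := by
      refine ⟨fun {x y} hxy => ?_⟩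
      obtain ⟨L₁, hL₁, hx⟩ := hex x
      obtain ⟨L₂, hL₂, hy⟩ := hex y
      obtain ⟨x', rfl⟩ := hsub (le_sup_left : L₁ ≤ L₁ ⊔ L₂) hx
      obtain ⟨y', rfl⟩ := hsub (le_sup_right : L₂ ≤ L₁ ⊔ L₂) hy
      have := h ↥(L₁ ⊔ L₂)
      have hxy' : x' * y' = 0 := hinj _ (by rw [map_mul, map_zero]; exact hxy)
      rcases (@IsDomain.to_noZeroDivisors (↥(L₁ ⊔ L₂) ⊗[k] S) _ this).eq_zero_or_eq_zero_of_mul_eq_zero hxy' with h' | h'
      · exact Or.inl (by rw [h', map_zero])
      · exact Or.inr (by rw [h', map_zero])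
    exact NoZeroDivisors.to_isDomain _
  tfae_finish

end Groth.Agent.CAlgH3.GeomMore
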