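import Mathlib

/-! Geometric irreducibility is insensitive to adjoining a variable. -/

set_option autoImplicit false

universe u

open TensorProduct Polynomial

namespace Groth.Agent.CAlgH3.GeomRatFunc

variable {k K kt Kt : Type u} [Field k] [Field K] [Algebra k K] [Field kt] [Field Kt] [Algebra (Polynomial k) kt]
  [IsFractionRing (Polynomial k) kt] [Algebra (Polynomial K) Kt] [IsFractionRing (Polynomial K) Kt] [Algebra kt Kt]
  [Algebra k kt] [IsScalarTower k (Polynomial k) kt] [Algebra k Kt] [IsScalarTower k kt Kt]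

/-- The comparison map. -/
noncomputable def lam (hcompat : ∀ p : Polynomial k, algebraMap kt Kt (algebraMap (Polynomial k) kt p) = algebraMap (Polynomial K) Kt (p.map (algebraMap k K))) :
    kt ⊗[k] K →ₐ[kt] Kt :=
  Algebra.TensorProduct.lift (Algebra.ofId kt Kt)
    { (algebraMap (Polynomial K) Kt).comp (C : K →+* Polynomial K) with
      commutes' := fun c => by
        rw [IsScalarTower.algebraMap_apply k kt Kt, IsScalarTower.algebraMap_apply k (Polynomial k) kt, hcompat]
        simp }
    (fun _ _ => Commute.all _ _)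

variable (hcompat : ∀ p : Polynomial k, algebraMap kt Kt (algebraMap (Polynomial k) kt p) = algebraMap (Polynomial K) Kt (p.map (algebraMap k K)))

theorem lam_tmul (a : kt) (c : K) : lam hcompat (a ⊗ₜ[k] c) = algebraMap kt Kt a * algebraMap (Polynomial K) Kt (C c) := by
  simp [lam]

theorem lam_injective : Function.Injective (lam hcompat) := by
  let j : Polynomial k ⊗[k] K →ₐ[k] kt ⊗[k] K :=
    Algebra.TensorProduct.map (IsScalarTower.toAlgHom k (Polynomial k) kt) (AlgHom.id k K)
  have hj : ∀ w, lam hcompat (j w) = algebraMap (Polynomial K) Kt ((polyEquivTensor k K).symm (Algebra.TensorProduct.comm k (Polynomial k) K w)) := by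
    intro w
    induction w using TensorProduct.induction_on with
    | zero => simp
    | tmul p c =>
      simp only [j, Algebra.TensorProduct.map_tmul, AlgHom.id_apply, Algebra.TensorProduct.comm_tmul,
        IsScalarTower.coe_toAlgHom', lam_tmul, hcompat]
      rw [← map_mul]
      congr 1
      rw [show (polyEquivTensor k K).symm (c ⊗ₜ[k] p) = C c * p.map (algebraMap k K) by simp [Polynomial.smul_eq_C_mul]]
      ring
    | add a b ha hb => rw [map_add, map_add, map_add, map_add, map_add, ha, hb]
  rw [injective_iff_map_eq_zero]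
  intro x hx
  obtain ⟨q, hq, w, hw⟩ : ∃ q : Polynomial k, q ≠ 0 ∧ ∃ w, algebraMap (Polynomial k) kt q • x = j w := by
    clear hx
    induction x using TensorProduct.induction_on with
    | zero => exact ⟨1, one_ne_zero, 0, by simp⟩
    | tmul a c =>
      obtain ⟨⟨p, q⟩, hpq⟩ := IsLocalization.surj (nonZeroDivisors (Polynomial k)) a
      refine ⟨q, nonZeroDivisors.coe_ne_zero q, p ⊗ₜ c, ?_⟩
      rw [TensorProduct.smul_tmul', smul_eq_mul, mul_comm]
      simp only [j, Algebra.TensorProduct.map_tmul, IsScalarTower.coe_toAlgHom', AlgHom.id_apply]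
      rw [← hpq]
    | add a b ha hb =>
      obtain ⟨q₁, h₁, w₁, e₁⟩ := ha
      obtain ⟨q₂, h₂, w₂, e₂⟩ := hb
      refine ⟨q₁ * q₂, mul_ne_zero h₁ h₂, (q₂ ⊗ₜ[k] (1 : K)) * w₁ + (q₁ ⊗ₜ[k] (1 : K)) * w₂, ?_⟩
      have hjq : ∀ q : Polynomial k, ∀ y : kt ⊗[k] K, j (q ⊗ₜ[k] (1 : K)) * y = algebraMap (Polynomial k) kt q • y := fun q y => by
        rw [Algebra.smul_def]
        congr 1
      rw [map_add, map_mul, map_mul, map_mul, hjq, hjq, ← e₁, ← e₂, smul_add, smul_smul, smul_smul,
        mul_comm (algebraMap (Polynomial k) kt q₂)]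
  have h0 : lam hcompat (j w) = 0 := by rw [← hw, map_smul, hx, smul_zero]
  rw [hj] at h0
  have hw0 : w = 0 :=
    (Algebra.TensorProduct.comm k (Polynomial k) K).injective ((polyEquivTensor k K).symm.injective
      (by rw [IsFractionRing.injective (Polynomial K) Kt (h0.trans (map_zero _).symm), map_zero, map_zero]))
  rw [hw0, map_zero, smul_eq_zero] at hw
  exact hw.resolve_left fun h => hq (IsFractionRing.injective (Polynomial k) kt (h.trans (map_zero _).symm))

variable (L : Type u) [Field L] [Algebra kt L] [Algebra k L] [IsScalarTower k kt L]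

/-- The comparison map after a field extension. -/
noncomputable def phi : L ⊗[k] K →ₐ[L] L ⊗[kt] Kt :=
  (Algebra.TensorProduct.map (AlgHom.id L L) (lam hcompat)).comp
    (Algebra.TensorProduct.cancelBaseChange k kt L L K).symm.toAlgHom

theorem phi_injective : Function.Injective (phi hcompat L) := by
  have h : Function.Injective (Algebra.TensorProduct.map (AlgHom.id L L) (lam hcompat)) :=
    Module.Flat.lTensor_preserves_injective_linearMap (M := L) (lam hcompat).toLinearMap (lam_injective hcompat)
  exact h.comp (Algebra.TensorProduct.cancelBaseChange k kt L L K).symm.injective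

theorem poly_mem_range (p : Polynomial K) : (1 : L) ⊗ₜ[kt] algebraMap (Polynomial K) Kt p ∈ (phi hcompat L).range := by
  have hmem : ∀ (a : kt) (c : K), (1 : L) ⊗ₜ[kt] (algebraMap kt Kt a * algebraMap (Polynomial K) Kt (C c)) ∈ (phi hcompat L).range := by
    intro a c
    refine ⟨algebraMap kt L a ⊗ₜ[k] c, ?_⟩
    change Algebra.TensorProduct.map (AlgHom.id L L) (lam hcompat) ((Algebra.TensorProduct.cancelBaseChange k kt L L K).symm (algebraMap kt L a ⊗ₜ[k] c)) = _
    rw [Algebra.TensorProduct.cancelBaseChange_symm_tmul, Algebra.TensorProduct.map_tmul, lam_tmul, AlgHom.id_apply, map_one,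
      one_mul, Algebra.algebraMap_eq_smul_one a, TensorProduct.smul_tmul, Algebra.smul_def]
  induction p using Polynomial.induction_on' with
  | add a b ha hb => rw [map_add, TensorProduct.tmul_add]; exact add_mem ha hb
  | monomial n c =>
    have := hmem (algebraMap (Polynomial k) kt (X ^ n)) c
    rwa [hcompat, ← map_mul, Polynomial.map_pow, Polynomial.map_X, mul_comm, Polynomial.C_mul_X_pow_eq_monomial] at this
  
theorem exists_mul_mem_range (z : L ⊗[kt] Kt) :
    ∃ s : L ⊗[kt] Kt, IsUnit s ∧ s ∈ (phi hcompat L).range ∧ z * s ∈ (phi hcompat L).range := by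
  induction z using TensorProduct.induction_on with
  | zero => exact ⟨1, isUnit_one, one_mem _, by rw [zero_mul]; exact zero_mem _⟩
  | tmul l a =>
    obtain ⟨⟨p, q⟩, hpq⟩ := IsLocalization.surj (nonZeroDivisors (Polynomial K)) a
    refine ⟨(1 : L) ⊗ₜ algebraMap (Polynomial K) Kt q, ?_, poly_mem_range hcompat L q, ?_⟩
    · exact (IsLocalization.map_units Kt q).map (Algebra.TensorProduct.includeRight : Kt →ₐ[kt] L ⊗[kt] Kt)
    · rw [Algebra.TensorProduct.tmul_mul_tmul, mul_one, hpq,
        show l ⊗ₜ[kt] algebraMap (Polynomial K) Kt p = l • ((1 : L) ⊗ₜ[kt] algebraMap (Polynomial K) Kt p) by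
          rw [TensorProduct.smul_tmul', smul_eq_mul, mul_one]]
      exact Subalgebra.smul_mem _ (poly_mem_range hcompat L p) l
  | add a b ha hb =>
    obtain ⟨s, hsu, hs, hsa⟩ := ha
    obtain ⟨t, htu, ht, htb⟩ := hb
    refine ⟨s * t, hsu.mul htu, mul_mem hs ht, ?_⟩
    rw [show (a + b) * (s * t) = a * s * t + b * t * s by ring]
    exact add_mem (mul_mem hsa ht) (mul_mem htb hs)

include hcompat in
theorem main :
    (∀ (k' : Type u) [Field k'] [Algebra k k'], IrreducibleSpace (PrimeSpectrum (k' ⊗[k] K))) ↔
      ∀ (L : Type u) [Field L] [Algebra kt L], IrreducibleSpace (PrimeSpectrum (L ⊗[kt] Kt)) := by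
  constructor
  · intro h L _ _
    letI : Algebra k L := ((algebraMap kt L).comp (algebraMap k kt)).toAlgebra
    have : IsScalarTower k kt L := .of_algebraMap_eq fun _ => rfl
    have hp := PrimeSpectrum.irreducibleSpace_iff_isPrime_nilradical.1 (h L)
    rw [PrimeSpectrum.irreducibleSpace_iff_isPrime_nilradical]
    let φ : L ⊗[k] K →+* L ⊗[kt] Kt := RingHomClass.toRingHom (phi hcompat L)
    have hφ : Function.Injective φ := phi_injective hcompat L
    refine ⟨fun htop => hp.ne_top ((Ideal.eq_top_iff_one _).2 ?_), fun {z w} hzw => ?_⟩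
    · have h1 : IsNilpotent (φ 1) := by rw [map_one]; exact mem_nilradical.1 ((Ideal.eq_top_iff_one _).1 htop)
      exact mem_nilradical.2 ((IsNilpotent.map_iff hφ).1 h1)
    · obtain ⟨s, hsu, -, u, hu⟩ := exists_mul_mem_range hcompat L z
      obtain ⟨t, htu, -, v, hv⟩ := exists_mul_mem_range hcompat L w
      have h1 : φ (u * v) ∈ nilradical (L ⊗[kt] Kt) := by
        rw [map_mul, show φ u = z * s from hu, show φ v = w * t from hv, mul_mul_mul_comm]
        exact Ideal.mul_mem_right _ _ hzw
      have h2 : u * v ∈ nilradical (L ⊗[k] K) := mem_nilradical.2 ((IsNilpotent.map_iff hφ).1 (mem_nilradical.1 h1))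
      rcases hp.mem_or_mem h2 with h3 | h3
      · left
        have h4 : φ u ∈ nilradical (L ⊗[kt] Kt) := mem_nilradical.2 ((mem_nilradical.1 h3).map φ)
        rw [show φ u = z * s from hu] at h4
        exact (Ideal.mul_unit_mem_iff_mem _ hsu).1 h4
      · right
        have h4 : φ v ∈ nilradical (L ⊗[kt] Kt) := mem_nilradical.2 ((mem_nilradical.1 h3).map φ)
        rw [show φ v = w * t from hv] at h4
        exact (Ideal.mul_unit_mem_iff_mem _ htu).1 h4
  · intro h k' _ _
    obtain ⟨L, _, _, _⟩ : ∃ (L : Type u) (_ : Field L) (_ : Algebra (Polynomial k') L), IsFractionRing (Polynomial k') L :=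
      ⟨FractionRing (Polynomial k'), inferInstance, inferInstance, inferInstance⟩
    let g : Polynomial k →+* L := (algebraMap (Polynomial k') L).comp (Polynomial.mapRingHom (algebraMap k k'))
    have hg : Function.Injective g :=
      (IsFractionRing.injective (Polynomial k') L).comp (Polynomial.map_injective _ (algebraMap k k').injective)
    letI : Algebra kt L := (IsFractionRing.lift (K := kt) hg).toAlgebra
    letI aL : Algebra k L := ((algebraMap kt L).comp (algebraMap k kt)).toAlgebra
    have : IsScalarTower k kt L := .of_algebraMap_eq fun _ => rfl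
    let ι : k' →ₐ[k] L :=
      { (algebraMap (Polynomial k') L).comp (C : k' →+* Polynomial k') with
        commutes' := fun c => by
          change algebraMap (Polynomial k') L (C (algebraMap k k' c)) = IsFractionRing.lift (K := kt) hg (algebraMap k kt c)
          rw [IsScalarTower.algebraMap_apply k (Polynomial k) kt, IsFractionRing.lift_algebraMap]
          simp [g] }
    have hp := PrimeSpectrum.irreducibleSpace_iff_isPrime_nilradical.1 (h L)
    rw [PrimeSpectrum.irreducibleSpace_iff_isPrime_nilradical]
    let φ : k' ⊗[k] K →+* L ⊗[kt] Kt :=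
      (RingHomClass.toRingHom (phi hcompat L)).comp (RingHomClass.toRingHom (Algebra.TensorProduct.map ι (AlgHom.id k K)))
    have hφ : Function.Injective φ := (phi_injective hcompat L).comp
      (Module.Flat.rTensor_preserves_injective_linearMap ι.toLinearMap ι.toRingHom.injective)
    rw [show nilradical (k' ⊗[k] K) = (nilradical (L ⊗[kt] Kt)).comap φ by
      ext x; rw [Ideal.mem_comap, mem_nilradical, mem_nilradical, IsNilpotent.map_iff hφ]]
    exact Ideal.comap_isPrime φ _

end Groth.Agent.CAlgH3.GeomRatFunc
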