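import Groth.Agent.CAlgH3.GeomBridge

/-! Tests for geometric connectedness and irreducibility of algebras over a field. -/

set_option autoImplicit false


universe u

open CategoryTheory Limits AlgebraicGeometry TensorProduct Groth.Agent.VarietyLib Groth.Agent.CAlgH3.GeomBridge

namespace Groth.Agent.CAlgH3.GeomTests

variable {k : Type u} [Field k]

theorem irreducible_tfae {R : Type u} [CommRing R] [Algebra k R] :
    [∀ (k' : Type u) [Field k'] [Algebra k k'], IrreducibleSpace (PrimeSpectrum (k' ⊗[k] R)),
      ∀ (k' : Type u) [Field k'] [Algebra k k'] [Module.Finite k k'] [Algebra.IsSeparable k k'], IrreducibleSpace (PrimeSpectrum (k' ⊗[k] R)),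
      IrreducibleSpace (PrimeSpectrum (SeparableClosure k ⊗[k] R)),
      IrreducibleSpace (PrimeSpectrum (AlgebraicClosure k ⊗[k] R))].TFAE := by
  tfae_have 1 → 2 := fun h k' _ _ _ _ => h k'
  tfae_have 1 → 4 := fun h => h (AlgebraicClosure k)
  tfae_have 4 → 3 := fun h => by
    let φ : SeparableClosure k →ₐ[k] AlgebraicClosure k := IsAlgClosed.lift
    exact (surjective_comap_of_field _ _ φ R).irreducibleSpace (PrimeSpectrum.continuous_comap _)
  tfae_have 3 → 1 := fun h => by
    have : IrreducibleSpace ↥(pullback (str k R) (sK k (SeparableClosure k))) :=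
      (homeo k R (SeparableClosure k)).irreducibleSpace_iff.1 h
    exact (irreducible_iff k R).1 (geometricallyIrreducible_of_irreducibleSpace k (str k R))
  tfae_have 2 → 3 := fun h => by
    rw [PrimeSpectrum.irreducibleSpace_iff_isPrime_nilradical]
    let ι (L : IntermediateField k (SeparableClosure k)) : L ⊗[k] R →ₐ[k] SeparableClosure k ⊗[k] R :=
      Algebra.TensorProduct.map L.val (AlgHom.id k R)
    have hinj : ∀ L, Function.Injective (ι L) := fun L =>
      Module.Flat.rTensor_preserves_injective_linearMap L.val.toLinearMap L.val.injective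
    have hex : ∀ x : SeparableClosure k ⊗[k] R, ∃ L : IntermediateField k (SeparableClosure k),
        FiniteDimensional k L ∧ x ∈ (ι L).range := by
      intro x
      induction x using TensorProduct.induction_on with
      | zero => exact ⟨⊥, inferInstance, zero_mem _⟩
      | tmul a r =>
        refine ⟨IntermediateField.adjoin k {a}, IntermediateField.adjoin.finiteDimensional (Algebra.IsIntegral.isIntegral a),
          ⟨⟨a, IntermediateField.mem_adjoin_simple_self k a⟩ ⊗ₜ r, ?_⟩⟩
        rfl
      | add a b ha hb =>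
        obtain ⟨L₁, hL₁, ⟨a', rfl⟩⟩ := ha
        obtain ⟨L₂, hL₂, ⟨b', rfl⟩⟩ := hb
        have hmono : ∀ {M N : IntermediateField k (SeparableClosure k)} (hMN : M ≤ N) (z : M ⊗[k] R),
            ι M z = ι N (Algebra.TensorProduct.map (IntermediateField.inclusion hMN) (AlgHom.id k R) z) := by
          intro M N hMN z
          induction z using TensorProduct.induction_on with
          | zero => simp
          | tmul a r => rfl
          | add a b ha hb => rw [map_add, map_add, map_add, ha, hb]
        refine ⟨L₁ ⊔ L₂, inferInstance, ?_⟩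
        refine add_mem ?_ ?_
        · exact ⟨_, (hmono (le_sup_left : L₁ ≤ L₁ ⊔ L₂) a').symm⟩
        · exact ⟨_, (hmono (le_sup_right : L₂ ≤ L₁ ⊔ L₂) b').symm⟩
    constructor
    · intro htop
      obtain ⟨n, hn⟩ := mem_nilradical.1 ((Ideal.eq_top_iff_one _).1 htop)
      have := h k
      have hne : Nontrivial (k ⊗[k] R) := PrimeSpectrum.nonempty_iff_nontrivial.1 inferInstance
      have hinj' : Function.Injective (Algebra.TensorProduct.map (Algebra.ofId k (SeparableClosure k)) (AlgHom.id k R)) :=
        Module.Flat.rTensor_preserves_injective_linearMap (Algebra.ofId k (SeparableClosure k)).toLinearMap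
          (algebraMap k (SeparableClosure k)).injective
      have hnt : Nontrivial (SeparableClosure k ⊗[k] R) := hinj'.nontrivial
      exact @not_isNilpotent_one (SeparableClosure k ⊗[k] R) _ hnt (mem_nilradical.1 ((Ideal.eq_top_iff_one _).1 htop))
    · intro x y hxy
      obtain ⟨L₁, hL₁, hx⟩ := hex x
      obtain ⟨L₂, hL₂, hy⟩ := hex y
      have hsub : ∀ {M N : IntermediateField k (SeparableClosure k)}, M ≤ N → (ι M).range ≤ (ι N).range := by
        rintro M N hMN _ ⟨z, rfl⟩
        refine ⟨Algebra.TensorProduct.map (IntermediateField.inclusion hMN) (AlgHom.id k R) z, ?_⟩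
        induction z using TensorProduct.induction_on with
        | zero => simp
        | tmul a r => rfl
        | add a b ha hb =>
          change ι N _ = ι M _ at ha hb
          change ι N _ = ι M _
          rw [map_add, map_add, map_add, ha, hb]
      obtain ⟨x', rfl⟩ := hsub (le_sup_left : L₁ ≤ L₁ ⊔ L₂) hx
      obtain ⟨y', rfl⟩ := hsub (le_sup_right : L₂ ≤ L₁ ⊔ L₂) hy
      have := PrimeSpectrum.irreducibleSpace_iff_isPrime_nilradical.1 (h ↥(L₁ ⊔ L₂))
      have hn : x' * y' ∈ nilradical _ := by
        rw [mem_nilradical] at hxy ⊢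
        have hxy' : IsNilpotent ((ι (L₁ ⊔ L₂)).toRingHom (x' * y')) := by rw [map_mul]; exact hxy
        exact (IsNilpotent.map_iff (f := (ι (L₁ ⊔ L₂)).toRingHom) (hinj _)).1 hxy'
      rcases this.mem_or_mem hn with h' | h'
      · exact Or.inl (mem_nilradical.2 ((mem_nilradical.1 h').map (ι (L₁ ⊔ L₂)).toRingHom))
      · exact Or.inr (mem_nilradical.2 ((mem_nilradical.1 h').map (ι (L₁ ⊔ L₂)).toRingHom))
  tfae_finish

theorem gal_transitive {K : Type u} [Field K] [Algebra k K]
    (P Q : Ideal (SeparableClosure k ⊗[k] K)) [P.IsPrime] [Q.IsPrime] :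
    ∃ σ : SeparableClosure k ≃ₐ[k] SeparableClosure k,
      Q = P.comap (Algebra.TensorProduct.map (σ : SeparableClosure k →ₐ[k] SeparableClosure k) (AlgHom.id k K)) := by
  let L := SeparableClosure k
  let H := homeo k K L
  obtain ⟨σ, hσ⟩ := exists_gal_apply_eq k (str k K) (L := L) (p := H ⟨Q, inferInstance⟩) (q := H ⟨P, inferInstance⟩)
    (Subsingleton.elim _ _)
  refine ⟨σ, ?_⟩
  let m := RingHomClass.toRingHom (α := K ⊗[k] L) (β := K ⊗[k] L) (Algebra.TensorProduct.map (AlgHom.id k K) (σ : L →ₐ[k] L))
  have hnat : Spec.map (CommRingCat.ofHom (R := K ⊗[k] L) (S := K ⊗[k] L) m) ≫ (pullbackSpecIso k K L).inv = (pullbackSpecIso k K L).inv ≫ gal k (str k K) σ := by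
    refine pullback.hom_ext ?_ ?_
    · rw [Category.assoc, Category.assoc, gal_fst, pullbackSpecIso_inv_fst, ← Spec.map_comp, ← CommRingCat.ofHom_comp]
      congr 2
      ext x
      simp [m]
    · rw [Category.assoc, Category.assoc, gal_snd, ← Category.assoc (pullbackSpecIso k K L).inv, pullbackSpecIso_inv_snd,
        ← Spec.map_comp, ← CommRingCat.ofHom_comp, ← Spec.map_comp, ← CommRingCat.ofHom_comp]
      congr 2
  let c := (Algebra.TensorProduct.comm k L K).toRingEquiv
  let pP : PrimeSpectrum (L ⊗[k] K) := ⟨P, inferInstance⟩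
  let pQ : PrimeSpectrum (L ⊗[k] K) := ⟨Q, inferInstance⟩
  have h1 : (pullbackSpecIso k K L).inv (PrimeSpectrum.comap m (PrimeSpectrum.homeomorphOfRingEquiv c pP)) =
      (pullbackSpecIso k K L).inv (PrimeSpectrum.homeomorphOfRingEquiv c pQ) := by
    refine Eq.trans ?_ hσ
    change (Spec.map (CommRingCat.ofHom (R := K ⊗[k] L) (S := K ⊗[k] L) m) ≫ (pullbackSpecIso k K L).inv) _ = _
    rw [hnat]
    rfl
  have h2 := (pullbackSpecIso k K L).inv.homeomorph.injective h1
  have h3 := congrArg (fun z : PrimeSpectrum (K ⊗[k] L) => z.asIdeal) h2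
  ext z
  have h4 : c z ∈ (PrimeSpectrum.comap m (PrimeSpectrum.homeomorphOfRingEquiv c pP)).asIdeal ↔ _ := SetLike.ext_iff.1 h3 (c z)
  change c.symm (m (c z)) ∈ P ↔ c.symm (c z) ∈ Q at h4
  rw [RingEquiv.symm_apply_apply] at h4
  rw [← h4, Ideal.mem_comap]
  refine iff_of_eq (congrArg (· ∈ P) ?_)
  rw [RingEquiv.symm_apply_eq]
  clear h4
  induction z using TensorProduct.induction_on with
  | zero => simp
  | tmul a b => rfl
  | add a b ha hb => rw [map_add, map_add, map_add, map_add, ha, hb]

end Groth.Agent.CAlgH3.GeomTests
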