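import Groth.Prelude.Def_CAlg
import Groth.Prelude.Def_Found
import Groth.Agent.CAlgH3.ArtinModel
import Groth.Agent.LocCoh.GorensteinCriteria
import Groth.Agent.CAlgH.CohenExistence
import Groth.Agent.CAlgH.CohenLift

/-!
Factorization of a local map of Artinian local rings through a flat map with Gorenstein fibre.
-/

set_option autoImplicit false

universe u

open IsLocalRing TensorProduct

namespace Groth.Agent.CAlgH3

theorem IsArtinModel.flat {q a : ℕ} {T : Type u} [CommRing T] (hT : IsArtinModel q a T)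
    {W : Type u} [CommRing W] [IsLocalRing W] [Algebra W T]
    (hW : maximalIdeal W = Ideal.span {(q : W)}) (hWa : (q : W) ^ a = 0) :
    Module.Flat W T := by
  classical
  rw [Module.Flat.iff_lift_lsmul_comp_subtype_injective]
  intro I _
  obtain ⟨i, hi, rfl⟩ : ∃ i ≤ a, I = Ideal.span {(q : W) ^ i} := by
    have hex : ∃ i, (q : W) ^ i ∈ I := ⟨a, by rw [hWa]; exact I.zero_mem⟩
    refine ⟨Nat.find hex, Nat.find_min' hex (by rw [hWa]; exact I.zero_mem),
      le_antisymm (fun w hw => ?_) ((Ideal.span_singleton_le_iff_mem (I := I)).2 (Nat.find_spec hex))⟩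
    rw [Ideal.mem_span_singleton]
    have hall : ∀ j ≤ Nat.find hex, (q : W) ^ j ∣ w := by
      intro j
      induction j with
      | zero => simp
      | succ j ih =>
        intro hj
        obtain ⟨v, rfl⟩ := ih (by omega)
        rw [pow_succ]
        refine mul_dvd_mul_left _ ?_
        rw [← Ideal.mem_span_singleton, ← hW, mem_maximalIdeal, mem_nonunits_iff]
        intro hv
        have hjI : (q : W) ^ j ∈ I := (Ideal.mul_unit_mem_iff_mem I hv).1 hw
        exact absurd (Nat.find_min' hex hjI) (by omega)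
    exact hall _ le_rfl
  rw [injective_iff_map_eq_zero]
  let g : (Ideal.span {(q : W) ^ i} : Ideal W) := ⟨_, Ideal.mem_span_singleton_self _⟩
  have hrep : ∀ x : (Ideal.span {(q : W) ^ i} : Ideal W) ⊗[W] T, ∃ z : T, x = g ⊗ₜ z := by
    intro x
    induction x using TensorProduct.induction_on with
    | zero => exact ⟨0, by simp⟩
    | tmul c z =>
      obtain ⟨w, hw⟩ := Ideal.mem_span_singleton'.mp c.2
      refine ⟨w • z, ?_⟩
      rw [← TensorProduct.smul_tmul]
      congr 1
      exact Subtype.ext (by rw [SetLike.val_smul, smul_eq_mul]; exact hw.symm)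
    | add x y hx hy =>
      obtain ⟨z, rfl⟩ := hx
      obtain ⟨z', rfl⟩ := hy
      exact ⟨z + z', (TensorProduct.tmul_add _ _ _).symm⟩
  intro x hx
  obtain ⟨z, rfl⟩ := hrep x
  have hz : (q : T) ^ i * z = 0 := by
    simpa [g, Algebra.smul_def] using hx
  obtain ⟨w, rfl⟩ := hT.dvd i z hi hz
  have hqw : (q : T) ^ (a - i) * w = ((q : W) ^ (a - i)) • w := by
    rw [Algebra.smul_def, map_pow, map_natCast]
  rw [hqw, ← TensorProduct.smul_tmul]
  have : ((q : W) ^ (a - i)) • g = 0 := Subtype.ext (by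
    rw [SetLike.val_smul, smul_eq_mul]
    show (q : W) ^ (a - i) * (q : W) ^ i = 0
    rw [← pow_add, Nat.sub_add_cancel hi, hWa])
  rw [this, TensorProduct.zero_tmul]

/-- A quotient of a model by `q` is Gorenstein. -/
theorem IsArtinModel.gorenstein_quotient {q a : ℕ} {T : Type u} [CommRing T] (hT : IsArtinModel q a T)
    {A : Type u} [CommRing A] [IsLocalRing A] (Ψ : T →+* A) (hΨ : Function.Surjective Ψ)
    (hker : RingHom.ker Ψ = Ideal.span {(q : T)}) :
    _root_.LocCoh.IsGorensteinLocalRing A := by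
  have := hT.isLocalRing
  have := hT.isArtinianRing
  have : IsArtinianRing A := hΨ.isArtinianRing
  have hn : ringKrullDim A = ((0 : ℕ) : WithBot ℕ∞) := by
    have : Ring.KrullDimLE 0 A := inferInstance
    simpa using (ringKrullDimZero_iff_ringKrullDim_eq_zero (R := A)).mp this
  have : _root_.LocCoh.IsCohenMacaulayLocalRing A :=
    LocCoh.isCohenMacaulay_of_subsingleton_H hn (fun j hj => absurd hj (Nat.not_lt_zero j))
  have hrad : maximalIdeal A ≤ (Ideal.ofList ([] : List A)).radical := by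
    intro x hx
    obtain ⟨n, hn⟩ := (isArtinianRing_iff_isNilpotent_maximalIdeal A).mp ‹_›
    refine ⟨n, ?_⟩
    have := Ideal.pow_mem_pow hx n
    rw [hn] at this
    rw [show x ^ n = 0 from this]
    exact zero_mem _
  rw [LocCoh.gorenstein_iff_socle hn,
    LocCoh.nonempty_socle_iff (n := 0) (xs := ([] : List A)) rfl (by simp)
      (RingTheory.Sequence.IsWeaklyRegular.nil A A) hrad]
  obtain ⟨e, he, hme, hsoc⟩ := hT.socle
  have hk : ∀ t, Ψ t = 0 ↔ (q : T) ∣ t := fun t => by
    rw [← Ideal.mem_span_singleton, ← hker, RingHom.mem_ker]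
  have h0 : ∀ y : A, y ∈ Ideal.ofList ([] : List A) ↔ y = 0 := fun y => by simp
  refine ⟨Ψ e, fun h => he ((hk e).1 ((h0 _).1 h)), fun b hb => (h0 _).2 ?_, fun z hz => ?_⟩
  · obtain ⟨m, rfl⟩ := hΨ b
    rw [← map_mul, hk]
    exact hme m fun hu => hb (hu.map Ψ)
  · obtain ⟨z, rfl⟩ := hΨ z
    obtain ⟨t, ht⟩ := hsoc z fun m hm => by
      rw [← hk, map_mul, ← h0]
      refine hz _ fun hu => hm ?_
      have := IsLocalRing.of_surjective' Ψ hΨ
      have hΨl : IsLocalHom Ψ := IsLocalHom.of_surjective Ψ hΨ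
      exact (isUnit_map_iff Ψ m).1 hu
    refine Ideal.mem_sup_right (Ideal.mem_span_singleton'.mpr ⟨Ψ t, ?_⟩)
    rw [← hk, map_sub, sub_eq_zero, map_mul] at ht
    exact ht.symm

theorem factorization_aux (q a : ℕ) (R S : Type u) [CommRing R] [CommRing S] [IsArtinianRing R]
    [IsLocalRing R] [IsArtinianRing S] [IsLocalRing S] [Algebra R S]
    (hq : (q : R) ∈ maximalIdeal R)
    (W : Type u) [CommRing W] [IsLocalRing W] (hW : maximalIdeal W = Ideal.span {(q : W)})
    (hWa : (q : W) ^ a = 0) (ρ : W →+* R) (hρ : Function.Surjective ((residue R).comp ρ))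
    (V : Type u) [CommRing V] (hV : IsArtinModel q a V) (θ₀ : V →+* S)
    (hθ₀ : Function.Surjective ((residue S).comp θ₀))
    (hlift : ∀ (T : Type u) [CommRing T] (θ : T →+* S), Function.Surjective θ →
      IsNilpotent (RingHom.ker θ) → (q : T) ^ a = 0 →
      ∃ φ : W →+* T, θ.comp φ = (algebraMap R S).comp ρ) :
    ∃ (R' : Type u) (_ : CommRing R') (_ : Algebra R R'), IsArtinianRing R' ∧ IsLocalRing R' ∧
      Module.Flat R R' ∧ IsLocalHom (algebraMap R R') ∧
      _root_.LocCoh.IsGorensteinLocalRing (R' ⧸ (IsLocalRing.maximalIdeal R).map (algebraMap R R')) ∧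
      ∃ g : R' →ₐ[R] S, Function.Surjective g := by
  obtain ⟨T, _, θ, hT, hθ⟩ := exists_artinModel_surjective hV θ₀ hθ₀
  have := hT.isLocalRing
  have := hT.isArtinianRing
  have hnilker : IsNilpotent (RingHom.ker θ) := by
    obtain ⟨n, hn⟩ := (isArtinianRing_iff_isNilpotent_maximalIdeal T).mp ‹_›
    refine ⟨n, ?_⟩
    rw [Ideal.zero_eq_bot, ← le_bot_iff, ← Ideal.zero_eq_bot, ← hn]
    exact Ideal.pow_right_mono (le_maximalIdeal (RingHom.ker_ne_top θ)) n
  obtain ⟨φ, hφ⟩ := hlift T θ hθ hnilker hT.pow_eq_zero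
  letI : Algebra W R := ρ.toAlgebra
  letI : Algebra W T := φ.toAlgebra
  letI : Algebra W S := ((algebraMap R S).comp ρ).toAlgebra
  haveI : IsScalarTower W R S := IsScalarTower.of_algebraMap_eq fun _ => rfl
  haveI : Module.Flat W T := hT.flat hW hWa
  -- the map to `S`
  let θ' : T →ₐ[W] S := { θ with commutes' := fun w => DFunLike.congr_fun hφ w }
  let g : R ⊗[W] T →ₐ[R] S :=
    Algebra.TensorProduct.lift (Algebra.ofId R S) θ' (fun _ _ => Commute.all _ _)
  have hg : Function.Surjective g := fun s => by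
    obtain ⟨t, rfl⟩ := hθ s
    exact ⟨1 ⊗ₜ t, by simp [g, θ']⟩
  -- the residue field of `W`
  let ρ' : W ⧸ Ideal.span {(q : W)} →+* ResidueField R :=
    Ideal.Quotient.lift _ ((residue R).comp ρ) (fun w hw => by
      obtain ⟨c, rfl⟩ := Ideal.mem_span_singleton'.mp hw
      rw [RingHom.comp_apply, map_mul, map_natCast, map_mul, (residue_eq_zero_iff _).2 hq, mul_zero])
  have hρ' : Function.Bijective ρ' := by
    refine ⟨RingHom.lift_injective_of_ker_le_ideal _ _ (hW ▸ le_maximalIdeal (RingHom.ker_ne_top _)),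
      fun c => ?_⟩
    obtain ⟨w, rfl⟩ := hρ c
    exact ⟨Ideal.Quotient.mk _ w, rfl⟩
  let τ : W ⧸ Ideal.span {(q : W)} →+* T ⧸ Ideal.span {(q : T)} :=
    Ideal.Quotient.lift _ ((Ideal.Quotient.mk _).comp φ) (fun w hw => by
      obtain ⟨c, rfl⟩ := Ideal.mem_span_singleton'.mp hw
      rw [RingHom.comp_apply, map_mul, map_natCast, map_mul,
        Ideal.Quotient.eq_zero_iff_mem.2 (Ideal.mem_span_singleton_self _), mul_zero])
  let ur : R →+* T ⧸ Ideal.span {(q : T)} :=
    τ.comp ((RingEquiv.ofBijective ρ' hρ').symm.toRingHom.comp (residue R))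
  have hur : ∀ w, ur (ρ w) = Ideal.Quotient.mk _ (φ w) := fun w => by
    show τ ((RingEquiv.ofBijective ρ' hρ').symm (ρ' (Ideal.Quotient.mk _ w))) = _
    rw [show (RingEquiv.ofBijective ρ' hρ').symm (ρ' (Ideal.Quotient.mk _ w)) = Ideal.Quotient.mk _ w from
      (RingEquiv.ofBijective ρ' hρ').injective ((RingEquiv.ofBijective ρ' hρ').apply_symm_apply _)]
    rfl
  let uA : R →ₐ[W] T ⧸ Ideal.span {(q : T)} := { ur with commutes' := hur }
  let u : R ⊗[W] T →ₐ[W] T ⧸ Ideal.span {(q : T)} :=
    Algebra.TensorProduct.lift uA (Ideal.Quotient.mkₐ W _) (fun _ _ => Commute.all _ _)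
  have hu1 : ∀ t : T, u (1 ⊗ₜ t) = Ideal.Quotient.mk _ t := fun t => by simp [u]
  have hur0 : ∀ r ∈ maximalIdeal R, ur r = 0 := fun r hr => by
    simp [ur, (residue_eq_zero_iff r).2 hr]
  have husurj : Function.Surjective u := fun y => by
    obtain ⟨t, rfl⟩ := Ideal.Quotient.mk_surjective y
    exact ⟨_, hu1 t⟩
  set I : Ideal (R ⊗[W] T) := (maximalIdeal R).map (algebraMap R (R ⊗[W] T)) with hI
  have hrep : ∀ x : R ⊗[W] T, ∃ t : T, x - 1 ⊗ₜ t ∈ I := by
    intro x
    induction x using TensorProduct.induction_on with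
    | zero => exact ⟨0, by simp⟩
    | tmul r t =>
      obtain ⟨w, hw⟩ := hρ (residue R r)
      refine ⟨w • t, ?_⟩
      have hr : r - ρ w ∈ maximalIdeal R := by
        rw [← residue_eq_zero_iff, map_sub, sub_eq_zero]; exact hw.symm
      have h1 : r ⊗ₜ[W] t - 1 ⊗ₜ[W] (w • t) =
          algebraMap R (R ⊗[W] T) (r - ρ w) * (1 ⊗ₜ t) := by
        rw [← TensorProduct.smul_tmul, Algebra.TensorProduct.algebraMap_apply,
          Algebra.TensorProduct.tmul_mul_tmul, Algebra.algebraMap_self, RingHom.id_apply, one_mul,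
          mul_one, TensorProduct.sub_tmul, Algebra.smul_def, mul_one]
        rfl
      rw [h1]
      exact Ideal.mul_mem_right _ _ (Ideal.mem_map_of_mem _ hr)
    | add x y hx hy =>
      obtain ⟨t, ht⟩ := hx
      obtain ⟨t', ht'⟩ := hy
      refine ⟨t + t', ?_⟩
      rw [TensorProduct.tmul_add, show x + y - ((1 : R) ⊗ₜ[W] t + (1 : R) ⊗ₜ[W] t') =
        (x - 1 ⊗ₜ t) + (y - 1 ⊗ₜ t') by abel]
      exact Ideal.add_mem _ ht ht'
  have hIle : I ≤ RingHom.ker u.toRingHom := by
    rw [hI, Ideal.map_le_iff_le_comap]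
    intro r hr
    rw [Ideal.mem_comap, RingHom.mem_ker]
    show u (algebraMap R _ r) = 0
    rw [Algebra.TensorProduct.algebraMap_apply]
    simp [u, uA, hur0 r hr]
  have hker : RingHom.ker u.toRingHom = I := by
    refine le_antisymm (fun x hx => ?_) hIle
    obtain ⟨t, ht⟩ := hrep x
    have h2 : Ideal.Quotient.mk (Ideal.span {(q : T)}) t = 0 := by
      have h3 := hIle ht
      rw [RingHom.mem_ker] at h3 hx
      rw [← hu1]
      rw [map_sub, hx, zero_sub, neg_eq_zero] at h3
      exact h3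
    obtain ⟨c, rfl⟩ := Ideal.mem_span_singleton'.mp (Ideal.Quotient.eq_zero_iff_mem.1 h2)
    have h4 : (1 : R) ⊗ₜ[W] (c * (q : T)) ∈ I := by
      have : (1 : R) ⊗ₜ[W] (c * (q : T)) = algebraMap R (R ⊗[W] T) (q : R) * (1 ⊗ₜ c) := by
        rw [map_natCast, show (1 : R) ⊗ₜ[W] (c * (q : T)) =
          (Algebra.TensorProduct.includeRight : T →ₐ[W] R ⊗[W] T) (c * q) from rfl, map_mul,
          map_natCast, mul_comm]
        rfl
      rw [this]
      exact Ideal.mul_mem_right _ _ (Ideal.mem_map_of_mem _ hq)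
    simpa using Ideal.add_mem _ ht h4
  have hqT : Ideal.span {(q : T)} ≠ ⊤ := by
    rw [Ne, Ideal.span_singleton_eq_top]
    exact fun h => (h.pow a).ne_zero hT.pow_eq_zero
  haveI : Nontrivial (T ⧸ Ideal.span {(q : T)}) := Ideal.Quotient.nontrivial_iff.mpr hqT
  haveI : IsLocalRing (T ⧸ Ideal.span {(q : T)}) :=
    IsLocalRing.of_surjective' _ Ideal.Quotient.mk_surjective
  obtain ⟨n, hn⟩ := (isArtinianRing_iff_isNilpotent_maximalIdeal R).mp ‹_›
  have hInil : IsNilpotent I := ⟨n, by rw [hI, ← Ideal.map_pow, hn, Ideal.zero_eq_bot, Ideal.map_bot]; rfl⟩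
  have huloc : ∀ z, IsUnit (u z) → IsUnit z := fun z hz => by
    obtain ⟨w, hw⟩ := husurj hz.unit⁻¹.val
    have h1 : z * w - 1 ∈ I := by
      rw [← hker, RingHom.mem_ker]
      show u (z * w - 1) = 0
      rw [map_sub, map_mul, map_one, hw, IsUnit.mul_val_inv, sub_self]
    obtain ⟨k, hk⟩ := hInil
    have h2 : IsNilpotent (z * w - 1) := ⟨k, by simpa [hk] using Ideal.pow_mem_pow h1 k⟩
    have h3 := h2.isUnit_add_one
    rw [sub_add_cancel] at h3
    exact isUnit_of_mul_isUnit_left h3
  have : Nontrivial (R ⊗[W] T) := u.toRingHom.domain_nontrivial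
  haveI : IsLocalRing (R ⊗[W] T) := IsLocalRing.of_isUnit_or_isUnit_one_sub_self fun z =>
    (IsLocalRing.isUnit_or_isUnit_one_sub_self (u z)).imp (huloc _)
      (fun hz => huloc _ (by rwa [map_sub, map_one]))
  have hIfg : I.FG := Ideal.FG.map (IsNoetherian.noetherian (maximalIdeal R)) (algebraMap R (R ⊗[W] T))
  haveI : IsArtinianRing (T ⧸ Ideal.span {(q : T)}) := Ideal.Quotient.mk_surjective.isArtinianRing
  have hMnil : IsNilpotent (maximalIdeal (R ⊗[W] T)) := by
    obtain ⟨k, hk⟩ := (isArtinianRing_iff_isNilpotent_maximalIdeal (T ⧸ Ideal.span {(q : T)})).mp ‹_›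
    obtain ⟨l, hl⟩ := hInil
    refine ⟨k * l, le_bot_iff.mp ?_⟩
    rw [pow_mul, ← Ideal.zero_eq_bot, ← hl]
    refine Ideal.pow_right_mono ?_ l
    rw [← hker, ← Ideal.map_eq_bot_iff_le_ker, Ideal.map_pow, ← le_bot_iff, ← Ideal.zero_eq_bot, ← hk]
    refine Ideal.pow_right_mono (Ideal.map_le_iff_le_comap.2 fun z hz => ?_) k
    exact fun hu => hz (huloc z hu)
  haveI : IsNoetherianRing (R ⊗[W] T) := IsNoetherianRing.of_prime fun P hP => by
    refine Ideal.fg_of_fg_map_of_fg_inf_ker_of_surjective (f := u.toRingHom)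
      (IsNoetherian.noetherian _) ?_ husurj
    rw [hker, inf_eq_right.2]
    · exact hIfg
    · obtain ⟨k, hk⟩ := hInil
      intro x hx
      exact hP.mem_of_pow_mem k (by rw [show x ^ k = 0 by simpa [hk] using Ideal.pow_mem_pow hx k]; exact P.zero_mem)
  refine ⟨R ⊗[W] T, inferInstance, inferInstance,
    (isArtinianRing_iff_isNilpotent_maximalIdeal _).mpr hMnil, inferInstance, inferInstance,
    ⟨fun r hr => ?_⟩, ?_, g, hg⟩
  · by_contra h
    have h1 : u (algebraMap R _ r) = 0 :=
      hIle (Ideal.mem_map_of_mem _ ((mem_maximalIdeal _).2 h))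
    exact (hr.map u).ne_zero h1
  · haveI : IsLocalRing ((R ⊗[W] T) ⧸ I) :=
      have : Nontrivial ((R ⊗[W] T) ⧸ I) := Ideal.Quotient.nontrivial_iff.mpr
        (hker ▸ RingHom.ker_ne_top _)
      IsLocalRing.of_surjective' _ Ideal.Quotient.mk_surjective
    refine hT.gorenstein_quotient
      ((Ideal.Quotient.mk I).comp (Algebra.TensorProduct.includeRight : T →ₐ[W] R ⊗[W] T).toRingHom)
      (fun y => ?_) ?_
    · obtain ⟨x, rfl⟩ := Ideal.Quotient.mk_surjective y
      obtain ⟨t, ht⟩ := hrep x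
      exact ⟨t, (Ideal.Quotient.eq.2 ht).symm⟩
    · refine Ideal.ext fun t => ?_
      rw [RingHom.mem_ker, RingHom.comp_apply, Ideal.Quotient.eq_zero_iff_mem, ← hker, RingHom.mem_ker,
        ← Ideal.Quotient.eq_zero_iff_mem, ← hu1]
      rfl

/-- A local homomorphism of Artinian local rings factors through a flat local map with Gorenstein
fibre followed by a surjection. -/
theorem exists_flat_gorensteinFibre_factorization (R S : Type u) [CommRing R] [CommRing S]
    [IsArtinianRing R] [IsLocalRing R] [IsArtinianRing S] [IsLocalRing S] [Algebra R S]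
    [IsLocalHom (algebraMap R S)] :
    ∃ (R' : Type u) (_ : CommRing R') (_ : Algebra R R'), IsArtinianRing R' ∧ IsLocalRing R' ∧
      Module.Flat R R' ∧ IsLocalHom (algebraMap R R') ∧
      _root_.LocCoh.IsGorensteinLocalRing (R' ⧸ (IsLocalRing.maximalIdeal R).map (algebraMap R R')) ∧
      ∃ g : R' →ₐ[R] S, Function.Surjective g := by
  have hRnil := (isArtinianRing_iff_isNilpotent_maximalIdeal R).mp ‹_›
  have hSnil := (isArtinianRing_iff_isNilpotent_maximalIdeal S).mp ‹_›
  obtain ⟨p, hp⟩ := CharP.exists (ResidueField R)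
  rcases CharP.char_is_prime_or_zero (ResidueField R) p with hpp | rfl
  · -- positive characteristic
    haveI : Fact p.Prime := ⟨hpp⟩
    haveI : CharP (ResidueField S) p := charP_of_injective_ringHom
      (IsLocalRing.ResidueField.map (algebraMap R S)).injective p
    have hpR : (p : R) ∈ maximalIdeal R := by
      rw [← residue_eq_zero_iff, map_natCast, CharP.cast_eq_zero]
    have hpS : (p : S) ∈ maximalIdeal S := by
      rw [← residue_eq_zero_iff, map_natCast, CharP.cast_eq_zero]
    obtain ⟨m, hm⟩ := hRnil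
    obtain ⟨m', hm'⟩ := hSnil
    let a := m + m' + 1
    have haR : (p : R) ^ a = 0 := by
      have := Ideal.pow_mem_pow hpR m
      rw [hm] at this
      rw [show a = m + (m' + 1) by omega, pow_add, show (p : R) ^ m = 0 from this, zero_mul]
    have haS : (p : S) ^ a = 0 := by rw [← map_natCast (algebraMap R S), ← map_pow, haR, map_zero]
    haveI : IsAdicComplete (maximalIdeal R) R := inferInstance
    have build : ∀ (A : Type u) [CommRing A] [IsLocalRing A] [IsArtinianRing A]
        [CharP (ResidueField A) p], (p : A) ^ a = 0 →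
        ∃ (Λ : Type u) (_ : CommRing Λ) (_ : IsDomain Λ) (_ : IsLocalRing Λ) (_ : IsNoetherianRing Λ),
          (p : Λ) ≠ 0 ∧ maximalIdeal Λ = Ideal.span {(p : Λ)} ∧
          ∃ f : Λ ⧸ Ideal.span {(p : Λ) ^ a} →+* A, Function.Surjective ((residue A).comp f) := by
      intro A _ _ _ _ haA
      obtain ⟨Λ, _, _, ⟨_, _, _, l, hl, hΛ⟩, ⟨e⟩⟩ := CAlgH.exists_cohenRing p (ResidueField A)
      have hlp : l = p := by
        haveI : CharP (ResidueField Λ) p := (e.toRingHom.charP_iff e.injective p).mpr inferInstance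
        have h1 : (l : ResidueField Λ) = 0 := by
          rw [← map_natCast (residue Λ), residue_eq_zero_iff, hΛ]
          exact Ideal.mem_span_singleton_self _
        exact ((Nat.prime_dvd_prime_iff_eq hpp hl).1 ((CharP.cast_eq_zero_iff _ p l).1 h1)).symm
      subst hlp
      have hp0 : (l : Λ) ≠ 0 := fun h => IsDiscreteValuationRing.not_a_field Λ (by rw [hΛ, h]; simp)
      have hmax : (Ideal.span {(l : Λ)}).IsMaximal := hΛ ▸ inferInstance
      haveI : IsAdicComplete (maximalIdeal A) A := by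
        obtain ⟨k, hk⟩ := (isArtinianRing_iff_isNilpotent_maximalIdeal A).mp ‹_›
        infer_instance
      obtain ⟨f, hf⟩ := CAlgH.exists_lift_cohen l hmax hp0 (maximalIdeal A)
        (by rw [← residue_eq_zero_iff, map_natCast, CharP.cast_eq_zero])
        (e.toRingHom.comp (residue Λ) : Λ →+* A ⧸ maximalIdeal A)
      refine ⟨Λ, _, inferInstance, inferInstance, inferInstance, hp0, hΛ, Ideal.Quotient.lift _ f (fun z hz => ?_), ?_⟩
      · obtain ⟨c, rfl⟩ := Ideal.mem_span_singleton'.mp hz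
        rw [map_mul, map_pow, map_natCast, haA, mul_zero]
      · intro c
        obtain ⟨z, hz⟩ := residue_surjective (R := Λ) (e.symm c)
        refine ⟨Ideal.Quotient.mk _ z, ?_⟩
        have := DFunLike.congr_fun hf z
        show residue A (f z) = c
        rw [show residue A (f z) = e (residue Λ z) from this, hz, RingEquiv.apply_symm_apply]
    obtain ⟨Λ, _, _, _, _, hΛ0, hΛm, fR, hfR⟩ := build R haR
    obtain ⟨Λ', _, _, _, _, hΛ'0, hΛ'm, fS, hfS⟩ := build S haS
    have quot : ∀ (L : Type u) [CommRing L] [IsDomain L] [IsLocalRing L] [IsNoetherianRing L], (p : L) ≠ 0 →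
        maximalIdeal L = Ideal.span {(p : L)} →
        ∃ _ : IsLocalRing (L ⧸ Ideal.span {(p : L) ^ a}),
          maximalIdeal (L ⧸ Ideal.span {(p : L) ^ a}) = Ideal.span {(p : L ⧸ Ideal.span {(p : L) ^ a})} ∧
          (p : L ⧸ Ideal.span {(p : L) ^ a}) ^ a = 0 ∧
          IsArtinModel p a (L ⧸ Ideal.span {(p : L) ^ a}) := by
      intro L _ _ _ _ hp0 hLm
      have hne : Ideal.span {(p : L) ^ a} ≠ ⊤ := by
        rw [Ne, Ideal.span_singleton_eq_top, isUnit_pow_iff (by omega)]
        exact fun hu => (maximalIdeal.isMaximal L).ne_top (hLm ▸ Ideal.span_singleton_eq_top.2 hu)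
      haveI := Ideal.Quotient.nontrivial_iff.mpr hne
      haveI hloc : IsLocalRing (L ⧸ Ideal.span {(p : L) ^ a}) :=
        IsLocalRing.of_surjective' _ Ideal.Quotient.mk_surjective
      have hmax : maximalIdeal (L ⧸ Ideal.span {(p : L) ^ a}) =
          Ideal.span {(p : L ⧸ Ideal.span {(p : L) ^ a})} := by
        rw [← IsLocalRing.map_maximalIdeal_of_surjective (Ideal.Quotient.mk _) Ideal.Quotient.mk_surjective,
          hLm, Ideal.map_span, Set.image_singleton, map_natCast]
      have h0 : (p : L ⧸ Ideal.span {(p : L) ^ a}) ^ a = 0 := by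
        rw [← map_natCast (Ideal.Quotient.mk _), ← map_pow, Ideal.Quotient.eq_zero_iff_mem]
        exact Ideal.mem_span_singleton_self _
      haveI : IsArtinianRing (L ⧸ Ideal.span {(p : L) ^ a}) :=
        (isArtinianRing_iff_isNilpotent_maximalIdeal _).mpr
          ⟨a, by rw [hmax, Ideal.span_singleton_pow, h0, Ideal.span_singleton_zero]; rfl⟩
      refine ⟨hloc, hmax, h0, IsArtinModel.of_maximal_eq_span hmax h0 ?_⟩
      intro i z hi hz
      obtain ⟨z, rfl⟩ := Ideal.Quotient.mk_surjective z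
      rw [← map_natCast (Ideal.Quotient.mk _), ← map_pow, ← map_mul, Ideal.Quotient.eq_zero_iff_mem,
        Ideal.mem_span_singleton] at hz
      obtain ⟨c, hc⟩ := hz
      have hzc : z = (p : L) ^ (a - i) * c := mul_left_cancel₀ (pow_ne_zero i hp0) (by
        rw [hc, ← mul_assoc, ← pow_add, Nat.add_sub_cancel' hi])
      exact ⟨Ideal.Quotient.mk _ c, by rw [hzc, map_mul, map_pow, map_natCast]⟩
    obtain ⟨_, hWm, hWa, -⟩ := quot Λ hΛ0 hΛm
    obtain ⟨_, hVm, hVa, hV⟩ := quot Λ' hΛ'0 hΛ'm
    refine factorization_aux p a R S hpR (Λ ⧸ Ideal.span {(p : Λ) ^ a}) hWm hWa fR hfR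
      (Λ' ⧸ Ideal.span {(p : Λ') ^ a}) hV fS hfS ?_
    intro T _ θ hθ hnil hTa
    have cast : ∀ (A : Type u) [CommRing A], (p : A) ^ a = 0 → Nonempty (Algebra (ZMod (p ^ a)) A) :=
      fun A _ h => by
        haveI := ringChar.charP A
        exact ⟨(ZMod.castHom ((ringChar.spec A _).mp (by rw [Nat.cast_pow]; exact h)) A).toAlgebra⟩
    obtain ⟨_⟩ := cast T hTa
    obtain ⟨_⟩ := cast S haS
    obtain ⟨_⟩ := cast _ hWa
    haveI := CAlgH.formallySmooth_zmod_quotient Λ p (hΛm ▸ inferInstance) hΛ0 a (by omega)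
    let θa : T →ₐ[ZMod (p ^ a)] S :=
      { θ with commutes' := fun c => DFunLike.congr_fun (Subsingleton.elim (θ.comp (algebraMap _ _)) (algebraMap _ _)) c }
    let f := (algebraMap R S).comp fR
    let fa : Λ ⧸ Ideal.span {(p : Λ) ^ a} →ₐ[ZMod (p ^ a)] S :=
      { f with commutes' := fun c => DFunLike.congr_fun (Subsingleton.elim (f.comp (algebraMap _ _)) (algebraMap _ _)) c }
    exact ⟨(Algebra.FormallySmooth.liftOfSurjective fa θa hθ hnil).toRingHom,
      RingHom.ext fun x => Algebra.FormallySmooth.liftOfSurjective_apply fa θa hθ hnil x⟩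
  · -- characteristic zero
    haveI : CharZero (ResidueField R) := CharP.charP_to_charZero _
    haveI : CharZero (ResidueField S) :=
      charZero_of_injective_ringHom (IsLocalRing.ResidueField.map (algebraMap R S)).injective
    have rat : ∀ (A : Type u) [CommRing A], (∀ n : nonZeroDivisors ℤ, IsUnit (n : A)) →
        Nonempty (Algebra ℚ A) := fun A _ h =>
      ⟨(IsLocalization.lift (M := nonZeroDivisors ℤ) (S := ℚ) (g := algebraMap ℤ A)
        fun n => by simpa using h n).toAlgebra⟩
    have loc : ∀ (A : Type u) [CommRing A] [IsLocalRing A] [CharZero (ResidueField A)]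
        (n : nonZeroDivisors ℤ), IsUnit (n : A) := fun A _ _ _ n => by
      rw [← residue_ne_zero_iff_isUnit, map_intCast]
      exact Int.cast_ne_zero.mpr (nonZeroDivisors.ne_zero n.2)
    have coeff : ∀ (A : Type u) [CommRing A] [IsLocalRing A] [IsArtinianRing A]
        [CharZero (ResidueField A)],
        ∃ σ : ResidueField A →+* A, (residue A).comp σ = RingHom.id _ := by
      intro A _ _ _ _
      obtain ⟨_⟩ := rat A (loc A)
      haveI : Algebra.FormallySmooth ℚ (ResidueField A) := CAlgH.formallySmooth_of_perfectField_any ℚ _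
      let resA : A →ₐ[ℚ] ResidueField A :=
        { residue A with commutes' := fun c => DFunLike.congr_fun (Subsingleton.elim ((residue A).comp (algebraMap ℚ A)) (algebraMap ℚ _)) c }
      have hnil : IsNilpotent (RingHom.ker (resA : A →+* ResidueField A)) := by
        show IsNilpotent (RingHom.ker (residue A))
        rw [ker_residue]
        exact (isArtinianRing_iff_isNilpotent_maximalIdeal A).mp ‹_›
      exact ⟨(Algebra.FormallySmooth.liftOfSurjective (AlgHom.id ℚ (ResidueField A)) resA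
        residue_surjective hnil).toRingHom, RingHom.ext fun x =>
        Algebra.FormallySmooth.liftOfSurjective_apply (AlgHom.id ℚ (ResidueField A)) resA residue_surjective hnil x⟩
    obtain ⟨σR, hσR⟩ := coeff R
    obtain ⟨σS, hσS⟩ := coeff S
    have fieldModel : IsArtinModel 0 1 (ResidueField S) := by
      refine IsArtinModel.of_maximal_eq_span ?_ (by simp) ?_
      · rw [Nat.cast_zero, Ideal.span_singleton_zero]
        exact IsLocalRing.maximalIdeal_eq_bot
      · intro i z hi hz
        rcases Nat.le_one_iff_eq_zero_or_eq_one.mp hi with rfl | rfl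
        · simp only [pow_zero, one_mul] at hz
          simp [hz]
        · simp
    refine factorization_aux 0 1 R S (by simp) (ResidueField R) (by simp [IsLocalRing.maximalIdeal_eq_bot])
      (by simp) σR (fun c => ⟨c, DFunLike.congr_fun hσR c⟩) (ResidueField S) fieldModel σS
      (fun c => ⟨c, DFunLike.congr_fun hσS c⟩) ?_
    intro T _ θ hθ hnil _
    obtain ⟨_⟩ := rat S (loc S)
    obtain ⟨_⟩ := rat T fun n => by
      obtain ⟨w, hw⟩ := hθ (loc S n).unit⁻¹.val
      obtain ⟨k, hk⟩ := hnil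
      have h1 : (n : T) * w - 1 ∈ RingHom.ker θ := by
        rw [RingHom.mem_ker, map_sub, map_mul, map_intCast, map_one, hw, IsUnit.mul_val_inv, sub_self]
      have h2 : IsNilpotent ((n : T) * w - 1) := ⟨k, by simpa [hk] using Ideal.pow_mem_pow h1 k⟩
      have h3 := h2.isUnit_add_one
      rw [sub_add_cancel] at h3
      exact isUnit_of_mul_isUnit_left h3
    haveI : Algebra.FormallySmooth ℚ (ResidueField R) := CAlgH.formallySmooth_of_perfectField_any ℚ _
    let θa : T →ₐ[ℚ] S :=
      { θ with commutes' := fun c => DFunLike.congr_fun (Subsingleton.elim (θ.comp (algebraMap ℚ T)) (algebraMap ℚ _)) c }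
    let f := (algebraMap R S).comp σR
    let fa : ResidueField R →ₐ[ℚ] S :=
      { f with commutes' := fun c => DFunLike.congr_fun (Subsingleton.elim (f.comp (algebraMap ℚ _)) (algebraMap ℚ _)) c }
    exact ⟨(Algebra.FormallySmooth.liftOfSurjective fa θa hθ hnil).toRingHom,
      RingHom.ext fun x => Algebra.FormallySmooth.liftOfSurjective_apply fa θa hθ hnil x⟩

end Groth.Agent.CAlgH3
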