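import Groth.Agent.CAlgH3.GrMinimalTor
import Groth.Agent.LocCoh.DepthLocal
import Groth.Agent.CAlgH3.CMPolynomial
import Groth.Agent.LocCoh.FaltingsRegular
import Groth.Agent.DimLib.Algebra

/-! The Auslander–Buchsbaum formula for minimal graded resolutions. -/

universe u

open CategoryTheory
open CategoryTheory.Abelian (Ext)

namespace Groth.Agent.CAlgH3.GrMinimal

variable {R : Type u} [CommRing R] (I : Ideal R)

theorem ext_comp_eq_zero' {K F : Type u} [AddCommGroup K] [Module R K] [Module.Free R K] [Module.Finite R K]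
    [AddCommGroup F] [Module R F] (φ : K →ₗ[R] F)
    (hφ : ∀ k, φ k ∈ I • (⊤ : Submodule R F)) {i : ℕ}
    (e : Ext (ModuleCat.of R (R ⧸ I)) (ModuleCat.of R K) i) :
    e.comp (Ext.mk₀ (ModuleCat.ofHom φ)) (add_zero i) = 0 := by
  classical
  have hmem : φ ∈ I • (⊤ : Submodule R (K →ₗ[R] F)) := by
    let b := Module.Free.chooseBasis R K
    have hsum : φ = ∑ j, (b.coord j).smulRight (φ (b j)) := by
      refine b.ext fun j => ?_
      rw [LinearMap.sum_apply, Finset.sum_eq_single j]
      · simp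
      · intro l _ hl; simp [Finsupp.single_eq_of_ne hl]
      · simp
    rw [hsum]
    refine Submodule.sum_mem _ fun j _ => ?_
    have := Submodule.mem_map_of_mem (f := LinearMap.smulRightₗ (R := R) (b.coord j)) (hφ (b j))
    rw [Submodule.map_smul''] at this
    exact Submodule.smul_mono le_rfl le_top this
  refine Submodule.smul_induction_on hmem (fun a ha ψ _ => ?_) fun ψ ψ' h h' => ?_
  · rw [show ModuleCat.ofHom (a • ψ) = a • ModuleCat.ofHom ψ from rfl, Ext.mk₀_smul, Ext.comp_smul]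
    refine LocCoh.ext_smul_eq_zero_left (fun q => ?_) _
    obtain ⟨y, rfl⟩ := Submodule.Quotient.mk_surjective _ q
    rw [← Submodule.Quotient.mk_smul]
    exact (Submodule.Quotient.mk_eq_zero _).2 (Ideal.mul_mem_right _ _ ha)
  · rw [ModuleCat.ofHom_add, Ext.mk₀_add, Ext.comp_add, h, h', add_zero]

theorem le_idealDepth_free [IsNoetherianRing R] {D : ℕ} (hD : (D : ℕ∞) ≤ _root_.LocCoh.idealDepth I R) : ∀ n : ℕ,
    (D : ℕ∞) ≤ _root_.LocCoh.idealDepth I (Fin n → R)
  | 0 => by
    rw [LocCoh.idealDepth_eq_top I (Fin 0 → R) (Subsingleton.elim _ _)]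
    exact le_top
  | n + 1 => by
    refine le_trans (le_min hD (le_idealDepth_free hD n)) (le_of_le_of_eq
      (LocCoh.idealDepth_shortExact I R (R × (Fin n → R)) (Fin n → R) (LinearMap.inl R R _) (LinearMap.snd R R _)
        LinearMap.inl_injective LinearMap.snd_surjective (Function.Exact.inl_snd)).1 ?_)
    exact CAlgH3.idealDepth_congr I (Fin.consLinearEquiv R (fun _ : Fin (n + 1) => R))

theorem not_le_idealDepth_free [IsNoetherianRing R] {D : ℕ} (hD : _root_.LocCoh.idealDepth I R = D) {n : ℕ} (hn : n ≠ 0) :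
    ¬ ((D + 1 : ℕ) : ℕ∞) ≤ _root_.LocCoh.idealDepth I (Fin n → R) := by
  rw [LocCoh.natCast_le_idealDepth_iff_ext]
  intro h
  have h' : ((D + 1 : ℕ) : ℕ∞) ≤ _root_.LocCoh.idealDepth I R := by
    rw [LocCoh.natCast_le_idealDepth_iff_ext]
    intro i hi
    refine subsingleton_of_forall_eq 0 fun x => ?_
    let j : Fin n := ⟨0, Nat.pos_of_ne_zero hn⟩
    let ι : ModuleCat.of R R ⟶ ModuleCat.of R (Fin n → R) := ModuleCat.ofHom (LinearMap.single R (fun _ => R) j)
    let π : ModuleCat.of R (Fin n → R) ⟶ ModuleCat.of R R := ModuleCat.ofHom (LinearMap.proj j)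
    have hid : ι ≫ π = 𝟙 _ := ModuleCat.hom_ext (LinearMap.ext fun r => Pi.single_eq_same (M := fun _ => R) j r)
    have := h i hi
    rw [← Ext.comp_mk₀_id x, ← hid, ← Ext.mk₀_comp_mk₀, ← Ext.comp_assoc_of_third_deg_zero,
      Subsingleton.elim (x.comp (Ext.mk₀ ι) (add_zero i)) 0, Ext.zero_comp]
  rw [hD, Nat.cast_le] at h'
  omega

theorem depth_step [IsNoetherianRing R] {K F N : Type u} [AddCommGroup K] [Module R K] [Module.Finite R K]
    [AddCommGroup F] [Module R F] [Module.Finite R F] [AddCommGroup N] [Module R N] [Module.Finite R N]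
    (f : K →ₗ[R] F) (g : F →ₗ[R] N) (hf : Function.Injective f) (hg : Function.Surjective g)
    (hfg : Function.Exact f g) {D k : ℕ} (hF : (D : ℕ∞) ≤ _root_.LocCoh.idealDepth I F)
    (hK : _root_.LocCoh.idealDepth I K = k) (hk : k ≤ D)
    (hext : k = D → ∀ (i : ℕ) (x : Ext (ModuleCat.of R (R ⧸ I)) (ModuleCat.of R K) i),
      x.comp (Ext.mk₀ (ModuleCat.ofHom f)) (add_zero i) = 0) :
    ∃ t : ℕ, _root_.LocCoh.idealDepth I N = t ∧ t + 1 = k := by
  obtain ⟨-, h2, h3⟩ := LocCoh.idealDepth_shortExact I K F N f g hf hg hfg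
  have hlt : k = D → ¬ (D : ℕ∞) ≤ _root_.LocCoh.idealDepth I N := by
    intro hkD hN
    rw [LocCoh.natCast_le_idealDepth_iff_ext] at hN
    have h' : ((D + 1 : ℕ) : ℕ∞) ≤ _root_.LocCoh.idealDepth I K := by
      rw [LocCoh.natCast_le_idealDepth_iff_ext]
      intro i hi
      refine subsingleton_of_forall_eq 0 fun x => ?_
      have hS := LocCoh.shortExact_of hf hg hfg
      have hz := hext hkD i x
      rcases i with - | i
      · obtain ⟨a, rfl⟩ := Ext.homEquiv₀.symm.surjective x
        rw [Ext.homEquiv₀_symm_apply, Ext.mk₀_comp_mk₀, ← Ext.mk₀_zero, (Ext.mk₀_bijective _ _).1.eq_iff] at hz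
        have := hS.mono_f
        rw [Limits.zero_of_comp_mono _ hz]
        simp
      · obtain ⟨y, hy⟩ := Ext.covariant_sequence_exact₁ (ModuleCat.of R (R ⧸ I)) hS x hz rfl
        have := hN i (by omega)
        rw [← hy, Subsingleton.elim y 0, Ext.zero_comp]
    rw [hK, Nat.cast_le] at h'
    omega
  rw [hK] at h2 h3
  generalize _root_.LocCoh.idealDepth I F = dF at hF h2 h3
  generalize _root_.LocCoh.idealDepth I N = dN at hlt h2 h3
  induction dN using ENat.recTopCoe with
  | top =>
    rcases hk.lt_or_eq with h | h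
    · rw [top_add, min_top_right] at h3
      have := hF.trans h3
      rw [Nat.cast_le] at this
      omega
    · exact absurd le_top (hlt h)
  | coe dN =>
    refine ⟨dN, rfl, ?_⟩
    rw [min_le_iff] at h2 h3
    rw [Nat.cast_le] at hlt
    rw [← Nat.cast_one, ← ENat.coe_sub] at h2
    rw [← Nat.cast_one, ← Nat.cast_add, Nat.cast_le] at h3
    have a1 : dN + 1 ≤ k := by
      rcases h3 with h3 | h3
      · have := hF.trans h3
        rw [Nat.cast_le] at this
        have h' : k = D := by omega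
        have := hlt h'
        omega
      · exact h3
    rcases h2 with h2 | h2
    · have := hF.trans h2
      rw [Nat.cast_le] at this
      omega
    · rw [Nat.cast_le] at h2
      omega

section res

open GrLib (Syz)

variable {I} {σ : Type u} [SetLike σ R] [AddSubgroupClass σ R] {𝒜 : ℤ → σ} [GradedRing 𝒜]
variable {M : Type u} [AddCommGroup M] [Module R M] {τ : Type u} [SetLike τ M] [AddSubgroupClass τ M]
  {ℳ : ℤ → τ} [DirectSum.Decomposition ℳ] [SetLike.GradedSMul 𝒜 ℳ]
variable (F : GrSyz.FreeRes 𝒜 ℳ)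

theorem depth_syz [IsNoetherianRing R] (hF : F.IsMinimal I) {D : ℕ} (hD : _root_.LocCoh.idealDepth I R = D)
    {ℓ : ℕ} (hℓ : F.HasLengthLE ℓ) (hℓ' : F.rk ℓ ≠ 0) : ∀ j i, i + j + 1 = ℓ →
    ∃ t : ℕ, _root_.LocCoh.idealDepth I (Syz F i) = t ∧ t + j = D ∧
      (j = 0 → Module.Free R (Syz F i)) := by
  intro j
  induction j with
  | zero =>
    intro i hi
    obtain rfl : ℓ = i + 1 := by omega
    have : IsEmpty (Fin (F.rk (i + 2))) := by rw [hℓ (i + 2) (by omega)]; infer_instance
    have hker : LinearMap.ker (F.dLin i).rangeRestrict = ⊥ := by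
      rw [ker_rangeRestrict, Submodule.eq_bot_iff]
      rintro _ ⟨v, rfl⟩
      rw [Subsingleton.elim v 0, map_zero]
    let e := LinearEquiv.ofBijective (F.dLin i).rangeRestrict
      ⟨LinearMap.ker_eq_bot.1 hker, (F.dLin i).surjective_rangeRestrict⟩
    refine ⟨D, ?_, rfl, fun _ => Module.Free.of_equiv e⟩
    rw [← CAlgH3.idealDepth_congr I e]
    exact le_antisymm (not_lt.1 fun h => not_le_idealDepth_free I hD hℓ'
      (by rw [Nat.cast_add, Nat.cast_one]; exact Order.add_one_le_of_lt h)) (le_idealDepth_free I hD.ge _)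
  | succ j ih =>
    intro i hi
    obtain ⟨k, hk, hkj, hfree⟩ := ih (i + 1) (by omega)
    obtain ⟨t, ht, ht'⟩ := depth_step I (Syz F (i + 1)).subtype (F.dLin i).rangeRestrict Subtype.val_injective
      (F.dLin i).surjective_rangeRestrict (GrLib.exact_proj F i) (le_idealDepth_free I hD.ge _) hk (by omega)
      (fun h n x => by
        haveI := hfree (by omega)
        exact ext_comp_eq_zero' I _ (fun v => Syz_le F hF (i + 1) v.2) x)
    exact ⟨t, ht, by omega, fun h => absurd h (Nat.succ_ne_zero j)⟩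

theorem depth_add_length [IsNoetherianRing R] [Module.Finite R M] (hF : F.IsMinimal I) {D : ℕ}
    (hD : _root_.LocCoh.idealDepth I R = D) {ℓ : ℕ} (hℓ : F.HasLengthLE ℓ) (hℓ' : F.rk ℓ ≠ 0) :
    (ℓ : ℕ∞) + _root_.LocCoh.idealDepth I M = (D : ℕ∞) := by
  cases ℓ with
  | zero =>
    have : IsEmpty (Fin (F.rk 1)) := by rw [hℓ 1 (by omega)]; infer_instance
    have hker : LinearMap.ker F.augLin = ⊥ := by
      rw [show LinearMap.ker F.augLin = LinearMap.range (F.dLin 0) from F.exact_zero, Submodule.eq_bot_iff]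
      rintro _ ⟨v, rfl⟩
      rw [Subsingleton.elim v 0, map_zero]
    rw [Nat.cast_zero, zero_add,
      ← CAlgH3.idealDepth_congr I (LinearEquiv.ofBijective F.augLin ⟨LinearMap.ker_eq_bot.1 hker, F.aug_surjective⟩)]
    exact le_antisymm (not_lt.1 fun h => not_le_idealDepth_free I hD hℓ'
      (by rw [Nat.cast_add, Nat.cast_one]; exact Order.add_one_le_of_lt h)) (le_idealDepth_free I hD.ge _)
  | succ l =>
    obtain ⟨k, hk, hkl, hfree⟩ := depth_syz F hF hD hℓ hℓ' l 0 (by omega)
    obtain ⟨t, ht, ht'⟩ := depth_step I (Syz F 0).subtype F.augLin Subtype.val_injective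
      F.aug_surjective (GrLib.exact_aug F) (le_idealDepth_free I hD.ge _) hk (by omega)
      (fun h n x => by
        haveI := hfree (by omega)
        exact ext_comp_eq_zero' I _ (fun v => Syz_le F hF 0 v.2) x)
    rw [ht, ← Nat.cast_add, Nat.cast_inj]
    omega

end res

theorem idealDepth_irrel (k : Type u) [Field k] (m : ℕ) :
    _root_.LocCoh.idealDepth (GrSyz.irrel (GrSyz.stdGr k (Fin m))).toIdeal (MvPolynomial (Fin m) k) = (m : ℕ∞) := by
  haveI := irrel_isMaximal k m
  haveI : _root_.LocCoh.IsCohenMacaulayRing (MvPolynomial (Fin m) k) :=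
    CAlgH3.isCohenMacaulayRing_of_isRegularRing (R := MvPolynomial (Fin m) k)
  rw [(LocCoh.isCohenMacaulayRing_iff_idealDepth _).1 inferInstance _ (Ideal.IsMaximal.ne_top inferInstance)]
  exact DimLib.height_eq_of_isMaximal_mvPolynomial m _

end Groth.Agent.CAlgH3.GrMinimal
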