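import Groth.Agent.GrLib.RegOps
import Groth.Agent.GrLib.RegPoly
import Groth.Agent.GrLib.GradedDim
import Groth.Agent.LocCoh.LocalVanishing
import Groth.Agent.LocCoh.GorensteinCriteria
import Mathlib

/-!
The end of graded local cohomology along homogeneous regular sequences.
-/

set_option autoImplicit false

universe u

open DirectSum Groth.Agent.GrLib IsLocalRing RingTheory.Sequence
open scoped Pointwise

namespace Groth.Agent.CAlgH3.GrEndDeg

theorem endDeg_eq_add {A B : Type u} [AddCommGroup A] [AddCommGroup B] (f : ℤ → AddSubgroup A)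
    (f' : ℤ → AddSubgroup B) (e : ℤ) (h1 : ∀ n, f' n ≠ ⊥ → f (n - e) ≠ ⊥)
    (h2 : ∀ g, f g ≠ ⊥ → ∃ n, g + e ≤ n ∧ f' n ≠ ⊥) :
    GrLC.endDeg f' = GrLC.endDeg f + ((e : WithTop ℤ) : WithBot (WithTop ℤ)) := by
  refine le_antisymm ((endDeg_le_iff _ _).2 fun n hn => ?_) ?_
  · have h : (((n - e : ℤ) : WithTop ℤ) : WithBot (WithTop ℤ)) ≤ GrLC.endDeg f :=
      le_iSup₂ (f := fun (k : ℤ) (_ : f k ≠ ⊥) => ((k : WithTop ℤ) : WithBot (WithTop ℤ))) (n - e) (h1 n hn)
    refine le_trans (le_of_eq ?_) (add_le_add_left h _)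
    rw [← WithBot.coe_add, ← WithTop.coe_add, sub_add_cancel]
  · have key : ∀ g, f g ≠ ⊥ → (((g + e : ℤ) : WithTop ℤ) : WithBot (WithTop ℤ)) ≤ GrLC.endDeg f' := fun g hg => by
      obtain ⟨n, hn, hne⟩ := h2 g hg
      refine le_trans ?_ (le_iSup₂ (f := fun (k : ℤ) (_ : f' k ≠ ⊥) =>
        ((k : WithTop ℤ) : WithBot (WithTop ℤ))) n hne)
      exact WithBot.coe_le_coe.2 (WithTop.coe_le_coe.2 hn)
    generalize GrLC.endDeg f' = X at key
    induction X with
    | bot =>
      have : GrLC.endDeg f ≤ ⊥ := (endDeg_le_iff _ _).2 fun g hg => absurd (key g hg) (by simp)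
      rw [le_bot_iff.1 this, WithBot.bot_add]
    | coe X =>
      induction X with
      | top => exact le_top
      | coe x =>
        have : GrLC.endDeg f ≤ (((x - e : ℤ) : WithTop ℤ) : WithBot (WithTop ℤ)) :=
          (endDeg_le_iff _ _).2 fun g hg => by
            have := key g hg
            simp only [WithBot.coe_le_coe, WithTop.coe_le_coe] at this ⊢
            omega
        refine le_trans (add_le_add_left this _) (le_of_eq ?_)
        rw [← WithBot.coe_add, ← WithTop.coe_add, sub_add_cancel]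

variable {R : Type u} [CommRing R] [IsNoetherianRing R] {σ : Type u} [SetLike σ R] [AddSubgroupClass σ R] {𝒜 : ℤ → σ} [GradedRing 𝒜]
  (a : HomogeneousIdeal 𝒜)

section step

variable {M : Type u} [AddCommGroup M] [Module R M] {τ : Type u} [SetLike τ M] [AddSubgroupClass τ M] {ℳ : ℤ → τ} [Decomposition ℳ]
  [SetLike.GradedSMul 𝒜 ℳ] {N : Type u} [AddCommGroup N] [Module R N] {𝒩 : ℤ → AddSubgroup N}
  [Decomposition 𝒩] [SetLike.GradedSMul 𝒜 𝒩]

/-- A homogeneous isomorphism preserves the end. -/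
theorem endDeg_equiv (e : M ≃ₗ[R] N) (he : GrLC.IsGrHom ℳ 𝒩 e.toLinearMap)
    (E : GrLC.StarInjRes 𝒜 ℳ) (F : GrLC.StarInjRes 𝒜 𝒩) (i : ℕ) :
    GrLC.endDeg (F.Hgr a i) = GrLC.endDeg (E.Hgr a i) := by
  have hs : GrLC.IsGrHom 𝒩 ℳ e.symm.toLinearMap := fun k y hy => by
    have h2 := proj_map (𝒩 := 𝒩) he k (e.symm y)
    rw [LinearEquiv.coe_coe, e.apply_symm_apply, proj_of_mem hy] at h2
    have h3 := congrArg e.symm h2
    rw [e.symm_apply_apply] at h3
    show e.symm y ∈ ℳ k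
    rw [h3]
    exact proj_mem ℳ _ _
  refine le_antisymm ((endDeg_le_iff _ _).2 fun n hn => ?_) ((endDeg_le_iff _ _).2 fun n hn => ?_) <;>
    refine le_iSup₂ (f := fun (k : ℤ) _ => ((k : WithTop ℤ) : WithBot (WithTop ℤ))) n fun h => hn ?_ <;>
    refine (AddSubgroup.eq_bot_iff_forall _).2 ?_
  · exact Hgr_eq_zero_of_equiv a e.symm hs i n (fun E' => (AddSubgroup.eq_bot_iff_forall _).1
      ((eq_bot_iff_of_comp (E := E) a E' i n).1 h)) F
  · exact Hgr_eq_zero_of_equiv a e he i n (fun F' => (AddSubgroup.eq_bot_iff_forall _).1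
      ((eq_bot_iff_of_comp (E := F) a F' i n).1 h)) E

variable {x : R} {d : ℤ} (hx : x ∈ 𝒜 d) (hxa : x ∈ a.toIdeal) (hreg : IsSMulRegular M x)
  {π : M →ₗ[R] N} (hπ : Function.Surjective π) (hπg : GrLC.IsGrHom ℳ 𝒩 π)
  (hker : LinearMap.ker π = x • (⊤ : Submodule R M))

include hx hreg hπ hπg hker in
/-- Dividing by a regular element: the vanishing range drops by one. -/
theorem subsingleton_quot (E : GrLC.StarInjRes 𝒜 ℳ) (F : GrLC.StarInjRes 𝒜 𝒩) (i : ℕ)
    (h0 : Subsingleton (E.H a i)) (h1 : Subsingleton (E.H a (i + 1))) : Subsingleton (F.H a i) := by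
  have hex : Function.Exact (x • LinearMap.id : M →ₗ[R] M) π := fun z => by
    show π z = 0 ↔ _
    rw [← LinearMap.mem_ker, hker]
    exact ⟨fun ⟨w, _, hw⟩ => ⟨w, hw⟩, fun ⟨w, hw⟩ => ⟨w, trivial, hw⟩⟩
  obtain ⟨δ, -, -, hE⟩ := exists_les_deg E F E a (smul_id_grHomDeg (ℳ := ℳ) hx) hreg hπg hπ hex
  refine subsingleton_of_forall_eq 0 fun y => ?_
  obtain ⟨w, rfl⟩ := ((hE i).2.1 y).1 (Subsingleton.elim _ _)
  rw [Subsingleton.elim w 0, map_zero]

include hx hxa hreg hπ hπg hker in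
/-- The end shifts by the degree of a regular element. -/
theorem endDeg_quot (hd : 0 ≤ d) (E : GrLC.StarInjRes 𝒜 ℳ) (F : GrLC.StarInjRes 𝒜 𝒩) (i : ℕ)
    (h0 : Subsingleton (E.H a i)) :
    GrLC.endDeg (F.Hgr a i) = GrLC.endDeg (E.Hgr a (i + 1)) + ((d : WithTop ℤ) : WithBot (WithTop ℤ)) := by
  have hex : Function.Exact (x • LinearMap.id : M →ₗ[R] M) π := fun z => by
    show π z = 0 ↔ _
    rw [← LinearMap.mem_ker, hker]
    exact ⟨fun ⟨w, _, hw⟩ => ⟨w, hw⟩, fun ⟨w, hw⟩ => ⟨w, trivial, hw⟩⟩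
  obtain ⟨δ, hδ, -, hE⟩ := exists_les_deg E F E a (smul_id_grHomDeg (ℳ := ℳ) hx) hreg hπg hπ hex
  letI := Hdecomp F a i
  letI := Hdecomp E a (i + 1)
  have hinj : Function.Injective (δ i) := (injective_iff_map_eq_zero _).2 fun y hy => by
    obtain ⟨w, rfl⟩ := ((hE i).2.1 y).1 hy
    rw [Subsingleton.elim w 0, map_zero]
  refine endDeg_eq_add _ _ d (fun n hn h => hn ((AddSubgroup.eq_bot_iff_forall _).2 fun y hy => ?_))
    fun g hg => ?_
  · refine hinj (((AddSubgroup.eq_bot_iff_forall _).1 h _ ?_).trans (map_zero _).symm)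
    rw [sub_eq_add_neg]
    exact hδ i n y hy
  · obtain ⟨z, hz, hz0⟩ : ∃ z ∈ E.Hgr a (i + 1) g, z ≠ 0 := by
      by_contra hno
      push Not at hno
      exact hg ((AddSubgroup.eq_bot_iff_forall _).2 hno)
    obtain ⟨j, hj⟩ := exists_pow_smul_H a (i + 1) z
    classical
    have hex' : ∃ k, x ^ (k + 1) • z = 0 := ⟨j, by
      rw [pow_succ', mul_smul, hj _ (Ideal.pow_mem_pow hxa j), smul_zero]⟩
    let k := Nat.find hex'
    have hk0 : x ^ k • z ≠ 0 := by
      rcases Nat.eq_zero_or_pos k with h | h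
      · rwa [h, pow_zero, one_smul]
      · have := Nat.find_min hex' (show k - 1 < k by omega)
        rwa [show k - 1 + 1 = k by omega] at this
    have hk : x ^ k • z ∈ E.Hgr a (i + 1) ((k : ℤ) * d + g) := by
      have := smul_mem (ℳ := E.Hgr a (i + 1)) (SetLike.pow_mem_graded k hx) hz
      rwa [nsmul_eq_mul] at this
    have hker' : mapH E E a (smul_id_grHomDeg (ℳ := ℳ) hx) (i + 1) (x ^ k • z) = 0 := by
      rw [mapH_smul_id a hx]
      show x • x ^ k • z = 0
      rw [← mul_smul, ← pow_succ']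
      exact Nat.find_spec hex'
    obtain ⟨w, hw, hwz⟩ := exists_preimage (hδ i) (g := (k : ℤ) * d + g + d) (y := x ^ k • z)
      (by rwa [add_neg_cancel_right]) (((hE i).2.2 _).1 hker')
    refine ⟨(k : ℤ) * d + g + d, by nlinarith [Int.natCast_nonneg k], fun h => hk0 ?_⟩
    rw [← hwz, (AddSubgroup.eq_bot_iff_forall _).1 h w hw, map_zero]

end step

/-- The end along a homogeneous regular sequence. -/
theorem endDeg_regularSeq : ∀ (t : ℕ) {M : Type u} [AddCommGroup M] [Module R M]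
    {τ : Type u} [SetLike τ M] [AddSubgroupClass τ M] {ℳ : ℤ → τ} [Decomposition ℳ] [SetLike.GradedSMul 𝒜 ℳ] (E : GrLC.StarInjRes 𝒜 ℳ)
    (n : ℕ), t ≤ n → (∀ i < n, Subsingleton (E.H a i)) → ∀ (f : Fin t → R) (deg : Fin t → ℤ),
    (∀ i, f i ∈ 𝒜 (deg i)) → (∀ i, 0 ≤ deg i) → (∀ i, f i ∈ a.toIdeal) →
    IsWeaklyRegular M (List.ofFn f) → ∀ {N : Type u} [AddCommGroup N] [Module R N]
    {𝒩 : ℤ → AddSubgroup N} [Decomposition 𝒩] [SetLike.GradedSMul 𝒜 𝒩] (π : M →ₗ[R] N),
    GrLC.IsGrHom ℳ 𝒩 π → Function.Surjective π →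
    LinearMap.ker π = Ideal.span (Set.range f) • (⊤ : Submodule R M) → ∀ F : GrLC.StarInjRes 𝒜 𝒩,
    GrLC.endDeg (F.Hgr a (n - t)) =
      GrLC.endDeg (E.Hgr a n) + ((((∑ i, deg i) : ℤ) : WithTop ℤ) : WithBot (WithTop ℤ)) := by
  intro t
  induction t with
  | zero =>
    intro M _ _ τ _ _ ℳ _ _ E n _ _ f deg _ _ _ _ N _ _ 𝒩 _ _ π hπ hπs hker F
    have hbij : Function.Bijective π := ⟨LinearMap.ker_eq_bot.1 (by
      rw [hker, Set.range_eq_empty, Ideal.span_empty, Submodule.bot_smul]), hπs⟩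
    rw [Nat.sub_zero, endDeg_equiv a (LinearEquiv.ofBijective π hbij) hπ E F]
    simp
  | succ t ih =>
    intro M _ _ τ _ _ ℳ _ _ E n htn hlow f deg hf hd hfa hreg N _ _ 𝒩 _ _ π hπ hπs hker F
    rw [List.ofFn_succ, isWeaklyRegular_cons_iff] at hreg
    obtain ⟨j, rfl⟩ : ∃ j, n = j + 1 := ⟨n - 1, by omega⟩
    have hQ : ((f 0) • (⊤ : Submodule R M)).IsHomogeneous ℳ := by
      rw [show (f 0) • (⊤ : Submodule R M) = LinearMap.range ((f 0) • (LinearMap.id : M →ₗ[R] M)) from by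
        ext z
        exact ⟨fun ⟨w, _, hw⟩ => ⟨w, hw⟩, fun ⟨w, hw⟩ => ⟨w, trivial, hw⟩⟩]
      exact isHomogeneous_range_deg (smul_id_grHomDeg (ℳ := ℳ) (hf 0))
    letI := qDecomp ℳ hQ
    let G := starRes 𝒜 (qGr ℳ ((f 0) • (⊤ : Submodule R M)))
    have hstep := endDeg_quot a (hf 0) (hfa 0) hreg.1 (Submodule.mkQ_surjective _) (mkQ_grHom _)
      (Submodule.ker_mkQ _) (hd 0) E G j (hlow j (Nat.lt_succ_self j))
    have hkerle : (f 0) • (⊤ : Submodule R M) ≤ LinearMap.ker π := by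
      rintro z ⟨w, -, rfl⟩
      rw [hker]
      exact Submodule.smul_mem_smul (Ideal.subset_span ⟨0, rfl⟩) trivial
    have key := ih G j (by omega)
      (fun i hi => subsingleton_quot a (hf 0) hreg.1 (Submodule.mkQ_surjective _) (mkQ_grHom _)
        (Submodule.ker_mkQ _) E G i (hlow i (by omega)) (hlow (i + 1) (by omega)))
      (fun i => f i.succ) (fun i => deg i.succ) (fun i => hf i.succ) (fun i => hd i.succ)
      (fun i => hfa i.succ) hreg.2 (Submodule.liftQ _ π hkerle)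
      (grHomDeg_zero_iff.1 (liftQ_grHomDeg (grHomDeg_zero_iff.2 hπ) hkerle))
      (fun y => by
        obtain ⟨z, rfl⟩ := hπs y
        exact ⟨Submodule.Quotient.mk z, rfl⟩)
      (by
        have hmap : LinearMap.ker (Submodule.liftQ _ π hkerle) = (LinearMap.ker π).map (Submodule.mkQ _) :=
          Submodule.ker_liftQ _ _ _
        rw [hmap, hker, Submodule.map_smul'', Submodule.map_top, Submodule.range_mkQ]
        refine le_antisymm (Submodule.smul_le.2 fun r hr z _ => ?_)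
          (Submodule.smul_mono_left (Ideal.span_mono (fun r ⟨i, hi⟩ => ⟨i.succ, hi⟩)))
        induction hr using Submodule.span_induction generalizing z with
        | mem r hr =>
          obtain ⟨i, rfl⟩ := hr
          refine Fin.cases ?_ (fun i => Submodule.smul_mem_smul (Ideal.subset_span ⟨i, rfl⟩) trivial) i
          obtain ⟨w, rfl⟩ := Submodule.Quotient.mk_surjective _ z
          rw [← Submodule.Quotient.mk_smul, (Submodule.Quotient.mk_eq_zero _).2
            (Submodule.smul_mem_pointwise_smul w (f 0) ⊤ trivial)]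
          exact zero_mem _
        | zero => rw [zero_smul]; exact zero_mem _
        | add r s _ _ h h' => rw [add_smul]; exact add_mem (h z trivial) (h' z trivial)
        | smul c r _ h => rw [smul_eq_mul, mul_smul]; exact Submodule.smul_mem _ _ (h z trivial))
      F
    rw [show j + 1 - (t + 1) = j - t by omega, key, hstep, Fin.sum_univ_succ, add_assoc]
    simp only [← WithBot.coe_add, ← WithTop.coe_add]

/-- Low local cohomology of a Cohen–Macaulay *local ring vanishes. -/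
theorem subsingleton_H_low {R : Type u} [CommRing R] [_root_.LocCoh.IsCohenMacaulayRing R]
    {σ : Type u} [SetLike σ R] [AddSubgroupClass σ R] {𝒜 : ℤ → σ} [GradedRing 𝒜] (m : HomogeneousIdeal 𝒜) [m.toIdeal.IsMaximal] {n : ℕ}
    (hn : m.toIdeal.height = n) (I : GrLC.StarInjRes 𝒜 𝒜) (i : ℕ) (hi : i < n) :
    Subsingleton (I.H m i) := by
  obtain ⟨eH⟩ := nonempty_H_equiv I m i
  haveI : Subsingleton (_root_.LocCoh.H m.toIdeal i R) := by
    refine LocCoh.subsingleton_H_of_local m.toIdeal R i fun p hp => ?_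
    obtain rfl : p = ⟨m.toIdeal, inferInstance⟩ :=
      PrimeSpectrum.ext ((‹m.toIdeal.IsMaximal›).eq_of_le p.2.ne_top hp).symm
    haveI := _root_.LocCoh.IsCohenMacaulayRing.isCohenMacaulayLocalRing_localization (R := R) m.toIdeal
    have hd : ringKrullDim (Localization.AtPrime m.toIdeal) = n := by
      rw [IsLocalization.AtPrime.ringKrullDim_eq_height m.toIdeal, hn]; rfl
    haveI := LocCoh.subsingleton_H_of_cm hd i hi
    exact (LocCoh.Hequiv (maximalIdeal (Localization.AtPrime m.toIdeal)) i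
      (LinearEquiv.extendScalarsOfIsLocalization m.toIdeal.primeCompl (Localization m.toIdeal.primeCompl)
        (IsLocalizedModule.iso m.toIdeal.primeCompl
          (Algebra.linearMap R (Localization m.toIdeal.primeCompl))))).toEquiv.subsingleton
  exact eH.toEquiv.subsingleton

/-- Homogeneous elements of the *maximal ideal of a positively graded ring have nonnegative degree, or
vanish. -/
theorem nonneg_or_eq_zero {R : Type u} [CommRing R] {𝒜 : ℤ → AddSubgroup R}
    (hpos : ∀ k : ℤ, k < 0 → 𝒜 k = ⊥) {d : ℤ} {x : R} (hx : x ∈ 𝒜 d) :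
    0 ≤ d ∨ x = 0 :=
  (le_or_gt 0 d).imp id fun h => by rw [hpos d h] at hx; exact hx

end Groth.Agent.CAlgH3.GrEndDeg
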