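import Groth.Agent.GrLib.Reg
import Groth.Agent.GrLib.Piece
import Groth.Agent.GrLib.Acyclic
import Groth.Agent.GrLib.GradedDim
import Groth.Agent.LocCoh.Vanishing
import Groth.Agent.CAlgH3.GrEndDeg

/-!
Standard graded *local rings over an Artinian degree zero ring: the *maximal ideal is the radical of
the irrelevant ideal, both support the same local cohomology.
-/

namespace Groth.Agent.CAlgH3.GrArtinBase

open Groth.Agent.GrLib DirectSum

universe u

section congr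

variable {ι : Type} [DecidableEq ι] [AddCommGroup ι] {R : Type u} [CommRing R] {σ : Type u} [SetLike σ R]
  [AddSubgroupClass σ R] {𝒜 : ι → σ} [GradedRing 𝒜] {M : Type u} [AddCommGroup M] [Module R M] {τ : Type u}
  [SetLike τ M] [AddSubgroupClass τ M] {ℳ : ι → τ} [Decomposition ℳ] [SetLike.GradedSMul 𝒜 ℳ]

theorem gam_congr {a b : Ideal R} (hab : a ≤ b) {N : ℕ} (hba : b ^ N ≤ a) (X : Type u) [AddCommGroup X]
    [Module R X] : GrLC.gam a X = GrLC.gam b X := by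
  refine le_antisymm ?_ ?_
  · rintro x ⟨k, hk⟩
    exact ⟨N * k, fun r hr => hk r (Ideal.pow_right_mono hba k (by rwa [← pow_mul]))⟩
  · rintro x ⟨k, hk⟩
    exact ⟨k, fun r hr => hk r (Ideal.pow_right_mono hab k hr)⟩

/-- A piece of local cohomology vanishes iff the cocycles of that degree are coboundaries. -/
theorem Hgr_eq_bot_iff_cobdy (E : GrLC.StarInjRes 𝒜 ℳ) (a : HomogeneousIdeal 𝒜) (i : ℕ) (g : ι) :
    E.Hgr a i g = ⊥ ↔ ∀ z ∈ E.cocyc a i, z ∈ (E.X i).gr g → z ∈ E.cobdy a i := by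
  rw [AddSubgroup.eq_bot_iff_forall]
  constructor
  · intro h z hz hzg
    exact (toH_eq_zero a).1 (h (E.toH a i ⟨z, hz⟩) ⟨⟨z, hz⟩, hzg, rfl⟩)
  · rintro h _ ⟨z, hzg, rfl⟩
    exact (toH_eq_zero a).2 (h z.1 z.2 hzg)

theorem Hgr_eq_bot_congr (E : GrLC.StarInjRes 𝒜 ℳ) {a b : HomogeneousIdeal 𝒜} (hab : a.toIdeal ≤ b.toIdeal)
    {N : ℕ} (hba : b.toIdeal ^ N ≤ a.toIdeal) (i : ℕ) (g : ι) : E.Hgr a i g = ⊥ ↔ E.Hgr b i g = ⊥ := by
  have key : ∀ n, GrLC.gam a.toIdeal (E.X n).carrier = GrLC.gam b.toIdeal (E.X n).carrier :=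
    fun n => gam_congr hab hba _
  have h1 : E.cocyc a i = E.cocyc b i := by rw [GrLC.StarInjRes.cocyc, GrLC.StarInjRes.cocyc, key]
  have h2 : E.cobdy a i = E.cobdy b i := by
    cases i with
    | zero => rfl
    | succ n => show Submodule.map _ _ = Submodule.map _ _; rw [key]
  rw [Hgr_eq_bot_iff_cobdy, Hgr_eq_bot_iff_cobdy, h1, h2]

end congr

variable {R : Type u} [CommRing R] {σ : Type u} [SetLike σ R] [AddSubgroupClass σ R] {𝒜 : ℤ → σ}
  [GradedRing 𝒜] [IsNoetherianRing R] [IsArtinianRing (GrLC.deg0 𝒜)]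

/-- The irrelevant ideal of a standard grading. -/
def irr (𝒜 : ℤ → σ) [GradedRing 𝒜] : HomogeneousIdeal 𝒜 :=
  ⟨Ideal.span ((𝒜 1 : σ) : Set R), Ideal.homogeneous_span _ _ fun _ hx => ⟨1, hx⟩⟩

variable (hpos : ∀ n : ℤ, n < 0 → ∀ x ∈ 𝒜 n, x = 0) {m : HomogeneousIdeal 𝒜} (hm : GrLC.IsStarLocal 𝒜 m)
  (hstd : Ideal.span (⋃ n ∈ Set.Ioi (0 : ℤ), (𝒜 n : Set R)) = Ideal.span ((𝒜 1 : σ) : Set R))
include hpos hm hstd

/-- The *maximal ideal is the only prime over the irrelevant ideal. -/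
theorem eq_of_prime_ge {p : Ideal R} [hp : p.IsPrime] (h : (irr 𝒜).toIdeal ≤ p) : p = m.toIdeal := by
  have hirr : ∀ g : ℤ, 0 < g → ∀ x, proj 𝒜 g x ∈ p := fun g hg x =>
    h (hstd.le (Ideal.subset_span (Set.mem_iUnion₂.2 ⟨g, hg, proj_mem 𝒜 g x⟩)))
  have hhigh : ∀ x, x - proj 𝒜 0 x ∈ p := fun x => by
    refine h (mem_of_proj_mem 𝒜 _ fun g => ?_)
    rw [map_sub]
    rcases lt_trichotomy g 0 with hg | hg | hg
    · rw [hpos g hg _ (proj_mem 𝒜 g x), proj_of_mem_ne (proj_mem 𝒜 0 x) hg.ne', sub_zero]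
      exact zero_mem _
    · subst hg
      rw [proj_of_mem (proj_mem 𝒜 0 x), sub_self]
      exact zero_mem _
    · rw [proj_of_mem_ne (proj_mem 𝒜 0 x) hg.ne, sub_zero]
      exact hstd.le (Ideal.subset_span (Set.mem_iUnion₂.2 ⟨g, hg, proj_mem 𝒜 g x⟩))
  have hhom : p.IsHomogeneous 𝒜 := by
    intro g x hx
    change proj 𝒜 g x ∈ p
    rcases lt_trichotomy g 0 with hg | hg | hg
    · rw [hpos g hg _ (proj_mem 𝒜 g x)]; exact zero_mem _
    · subst hg
      simpa using sub_mem hx (hhigh x)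
    · exact hirr g hg x
  have hle : p ≤ m.toIdeal := le_starMaximal hpos hm (J := ⟨p, hhom⟩) fun h' =>
    hp.ne_top (congrArg HomogeneousIdeal.toIdeal h')
  let f : GrLC.deg0 𝒜 →+* R ⧸ p := (Ideal.Quotient.mk p).comp (GrLC.deg0 𝒜).subtype
  have hf : Function.Surjective f := fun q => by
    obtain ⟨x, rfl⟩ := Ideal.Quotient.mk_surjective q
    exact ⟨⟨proj 𝒜 0 x, proj_mem 𝒜 0 x⟩, ((Ideal.Quotient.eq).2 (hhigh x)).symm⟩
  haveI : IsArtinianRing (R ⧸ p) := hf.isArtinianRing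
  haveI : p.IsMaximal := Ideal.Quotient.maximal_of_isField _ (IsArtinianRing.isField_of_isDomain _)
  exact Ideal.IsMaximal.eq_of_le ‹_› (fun h' => hm.1.1 (HomogeneousIdeal.ext (h'.trans rfl))) hle

theorem irr_le : (irr 𝒜).toIdeal ≤ m.toIdeal :=
  hstd.ge.trans (starLocal_irrelevant_le hpos hm.1)

theorem exists_pow_le : ∃ N : ℕ, m.toIdeal ^ N ≤ (irr 𝒜).toIdeal := by
  refine Ideal.exists_pow_le_of_le_radical_of_fg ?_ (IsNoetherian.noetherian _)
  rw [Ideal.radical_eq_sInf]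
  refine le_sInf fun p hp => ?_
  haveI := hp.2
  exact (eq_of_prime_ge hpos hm hstd hp.1).ge

variable {M : Type u} [AddCommGroup M] [Module R M] {τ : Type u}
  [SetLike τ M] [AddSubgroupClass τ M] {ℳ : ℤ → τ} [Decomposition ℳ] [SetLike.GradedSMul 𝒜 ℳ]

theorem Hgr_irr_eq_bot_iff (E : GrLC.StarInjRes 𝒜 ℳ) (i : ℕ) (g : ℤ) :
    E.Hgr (irr 𝒜) i g = ⊥ ↔ E.Hgr m i g = ⊥ := by
  obtain ⟨N, hN⟩ := exists_pow_le hpos hm hstd
  exact Hgr_eq_bot_congr E (irr_le hpos hm hstd) hN i g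

omit [IsArtinianRing (GrLC.deg0 𝒜)] hstd in
/-- Local cohomology vanishes above the dimension. -/
theorem Hgr_high {d : ℕ} (hd : ringKrullDim R = d) (a : HomogeneousIdeal 𝒜) (I : GrLC.StarInjRes 𝒜 𝒜) (i : ℕ)
    (hi : d < i) (g : ℤ) : I.Hgr a i g = ⊥ := by
  obtain ⟨e⟩ := nonempty_H_equiv I a i
  haveI : Subsingleton (_root_.LocCoh.H a.toIdeal i R) :=
    LocCoh.subsingleton_H_of_supportDim_lt (by
      rw [Module.supportDim_self_eq_ringKrullDim, hd]; exact_mod_cast hi)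
  haveI := e.toEquiv.subsingleton
  exact AddSubgroup.eq_bot_iff_forall _ |>.2 fun x _ => Subsingleton.elim _ _

omit [IsArtinianRing (GrLC.deg0 𝒜)] hstd in
/-- Local cohomology of a Cohen–Macaulay *local ring lives in the top index only. -/
theorem Hgr_ne {d : ℕ} [_root_.LocCoh.IsCohenMacaulayRing R] (hd : ringKrullDim R = d)
    (I : GrLC.StarInjRes 𝒜 𝒜) (i : ℕ) (hi : i ≠ d) (g : ℤ) : I.Hgr m i g = ⊥ := by
  rcases lt_or_gt_of_ne hi with h | h
  · haveI := isMaximal_starMaximal hpos hm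
    have hh : m.toIdeal.height = d := WithBot.coe_inj.1 ((ringKrullDim_eq_height_starMaximal hpos hm).symm.trans hd)
    haveI := GrEndDeg.subsingleton_H_low m hh I i h
    exact AddSubgroup.eq_bot_iff_forall _ |>.2 fun x _ => Subsingleton.elim _ _
  · exact Hgr_high hpos hm hd m I i h g

/-- If the end of the top local cohomology is below `s - d`, then degree `s` is generated by degree `s - 1`. -/
theorem piece_le_span {d : ℕ} [_root_.LocCoh.IsCohenMacaulayRing R] (hd : ringKrullDim R = d)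
    (I : GrLC.StarInjRes 𝒜 𝒜) (s : ℤ) (h : I.Hgr m d (s - d) = ⊥) :
    ∀ x ∈ 𝒜 s, x ∈ Submodule.span R {y : R | y ∈ 𝒜 (s - 1)} := by
  refine mem_span_pred I (irr 𝒜) rfl s fun i => (Hgr_irr_eq_bot_iff hpos hm hstd I i _).2 ?_
  by_cases hi : i = d
  · subst hi; exact h
  · exact Hgr_ne hpos hm hd I i hi _

end Groth.Agent.CAlgH3.GrArtinBase
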