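import Groth.Prelude.Def_GrLC2
import Groth.Agent.GrLib.StarInj
import Groth.Agent.CAlgH3.GrBassExt
import Groth.Agent.CAlgH3.RegularCore
import Mathlib

/-!
Bass numbers of a graded module at a prime and at its homogeneous core.
-/

set_option autoImplicit false

universe u

open DirectSum Groth.Agent.GrLib CategoryTheory Abelian IsLocalRing
open scoped Pointwise

namespace Groth.Agent.CAlgH3.GrBass

open GrLaurent

section residue

variable {S : Type u} [CommRing S] [IsLocalRing S] {J : Ideal S} [IsLocalRing (S ⧸ J)]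

/-- Dividing `S/J` by generators of its maximal ideal gives the residue field. -/
theorem nonempty_quot_residue (rs : List (S ⧸ J)) (hrs : Ideal.ofList rs = maximalIdeal (S ⧸ J))
    (L : List S) (hL : L.map (algebraMap S (S ⧸ J)) = rs) :
    Nonempty (((S ⧸ J) ⧸ (Ideal.ofList L • ⊤ : Submodule S (S ⧸ J))) ≃ₗ[S] ResidueField S) := by
  let N := (Ideal.ofList L • ⊤ : Submodule S (S ⧸ J))
  have hN : N = (maximalIdeal (S ⧸ J)).restrictScalars S := by
    rw [← hrs, ← hL, ← Ideal.map_ofList]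
    exact Ideal.smul_top_eq_map _
  let φ : S →ₗ[S] (S ⧸ J) ⧸ N := N.mkQ ∘ₗ Algebra.linearMap S (S ⧸ J)
  have hφs : Function.Surjective φ :=
    (Submodule.mkQ_surjective N).comp (Ideal.Quotient.mk_surjective (I := J))
  have hφk : LinearMap.ker φ = maximalIdeal S := by
    ext x
    show N.mkQ (algebraMap S (S ⧸ J) x) = 0 ↔ _
    rw [Submodule.mkQ_apply, Submodule.Quotient.mk_eq_zero, hN, Submodule.restrictScalars_mem]
    haveI : IsLocalHom (algebraMap S (S ⧸ J)) :=
      IsLocalHom.of_surjective _ (Ideal.Quotient.mk_surjective (I := J))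
    rw [mem_maximalIdeal, mem_maximalIdeal, mem_nonunits_iff, mem_nonunits_iff, isUnit_map_iff]
  have hρ : Function.Surjective (Algebra.linearMap S (ResidueField S)) := residue_surjective
  have hρk : LinearMap.ker (Algebra.linearMap S (ResidueField S)) = maximalIdeal S := by
    ext x
    exact residue_eq_zero_iff x
  exact ⟨(φ.quotKerEquivOfSurjective hφs).symm.trans ((Submodule.quotEquivOfEq _ _ (hφk.trans hρk.symm)).trans
    ((Algebra.linearMap S (ResidueField S)).quotKerEquivOfSurjective hρ))⟩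

theorem length_residueField : Module.length S (ResidueField S) = 1 := by
  rw [Module.length_eq_of_surjective (S := S) (R := ResidueField S) residue_surjective,
    Module.length_eq_one]

end residue

variable {ι : Type} [AddCommGroup ι] [DecidableEq ι] [Module.Free ℤ ι] [Module.Finite ℤ ι]
  {R : Type u} [CommRing R] [IsNoetherianRing R] {σ : Type u} [SetLike σ R] [AddSubgroupClass σ R] {𝒜 : ι → σ} [GradedRing 𝒜]
  {M : Type u} [AddCommGroup M] [Module R M] {τ : Type u} [SetLike τ M] [AddSubgroupClass τ M] {ℳ : ι → τ} [Decomposition ℳ]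
  [SetLike.GradedSMul 𝒜 ℳ] (E : GrLC.StarInjRes 𝒜 ℳ) (P : Ideal R) [P.IsPrime]

include E in
theorem exists_bass (hP : P.IsHomogeneous 𝒜) :
    ∃ I : ℕ → Type u, ∀ (qb : Ideal (R ⧸ P)) [qb.IsPrime],
      (∀ h ∈ homOutside 𝒜 P, Ideal.Quotient.mk P h ∉ qb) → ∀ d : ℕ, qb.height = d →
      ∀ i : ℕ, GrLC.bassNum (qb.comap (Ideal.Quotient.mk P)) M i =
        if i < d then 0 else ENat.card (I (i - d)) := by
  choose I z hz hind hgen using GrBassExt.exists_family E P hP
  refine ⟨I, fun qb _ hqb d hd i => ?_⟩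
  let q := qb.comap (Ideal.Quotient.mk P)
  let S := Localization q.primeCompl
  let J : Ideal S := GrBassExt.J P q
  have hPq : P ≤ q := fun a ha => by
    show Ideal.Quotient.mk P a ∈ qb
    rw [Ideal.Quotient.eq_zero_iff_mem.2 ha]
    exact zero_mem qb
  obtain ⟨e, -⟩ := exists_quotientLocalEquiv P qb
  haveI hreg : IsRegularLocalRing (Localization.AtPrime qb) :=
    isRegularLocalRing_localization 𝒜 P hP qb fun g h hg hh => hqb h ⟨⟨g, hg⟩, hh⟩
  haveI : IsRegularLocalRing (S ⧸ J) := IsRegularLocalRing.of_ringEquiv e.symm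
  have hdim : ringKrullDim (S ⧸ J) = d := by
    rw [ringKrullDim_eq_of_ringEquiv e, IsLocalization.AtPrime.ringKrullDim_eq_height qb, hd]
    rfl
  obtain ⟨rs, hlen, hspan, hrs⟩ := exists_isRegular_ofList_eq_maximalIdeal (R := S ⧸ J)
  have hd' : rs.length = d := by
    have h := (inferInstance : IsRegularLocalRing (S ⧸ J)).spanFinrank_maximalIdeal
    rw [hdim, ← hlen] at h
    exact_mod_cast h
  obtain ⟨L, hL⟩ : ∃ L : List S, L.map (algebraMap S (S ⧸ J)) = rs :=
    List.map_surjective_iff.2 (Ideal.Quotient.mk_surjective (I := J)) rs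
  have hLd : L.length = d := by rw [← hd', ← hL, List.length_map]
  have hLreg : RingTheory.Sequence.IsWeaklyRegular (S ⧸ J) L := by
    rw [← RingTheory.Sequence.isWeaklyRegular_map_algebraMap_iff (S := S ⧸ J), hL]
    exact hrs.toIsWeaklyRegular
  have H := ExtShift.shift_free (S := S) (LocalizedModule q.primeCompl M) L (S ⧸ J) hLreg I
    (fun k => GrBassExt.nonempty_ext_finsupp E P q hP hPq
      (fun h hh hq => hqb h hh hq) k (z k) (hz k) (hind k) (hgen k)) i
  obtain ⟨eres⟩ := nonempty_quot_residue rs hspan L hL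
  show Module.length S (Ext (ModuleCat.of S (ResidueField S))
    (ModuleCat.of S (LocalizedModule q.primeCompl M)) i) = _
  rw [← (ExtShift.congrLeft (M := LocalizedModule q.primeCompl M) eres i).length_eq]
  split_ifs with hi
  · haveI := H.1 (hLd.symm ▸ hi)
    exact Module.length_eq_zero
  · obtain ⟨e'⟩ := H.2 (hLd.symm ▸ not_lt.1 hi)
    rw [hLd] at e'
    rw [e'.length_eq, Module.length_finsupp, eres.length_eq, length_residueField, mul_one]

section core

variable (p : Ideal R) [p.IsPrime] [(Ideal.homogeneousCore 𝒜 p).toIdeal.IsPrime]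

variable (𝒜) in
theorem core_spec : ∀ h ∈ homOutside 𝒜 (Ideal.homogeneousCore 𝒜 p).toIdeal, h ∉ p :=
  fun _ ⟨hg, hnot⟩ hp => hnot (Ideal.mem_homogeneousCore_of_homogeneous_of_mem hg hp)

include ℳ in
theorem bassNum_core (d : ℕ)
    (hd : (p.map (Ideal.Quotient.mk (Ideal.homogeneousCore 𝒜 p).toIdeal)).height = d) (i : ℕ) :
    GrLC.bassNum p M i =
      if i < d then 0 else GrLC.bassNum (Ideal.homogeneousCore 𝒜 p).toIdeal M (i - d) := by
  let P := (Ideal.homogeneousCore 𝒜 p).toIdeal
  have hP : P.IsHomogeneous 𝒜 := (Ideal.homogeneousCore 𝒜 p).isHomogeneous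
  have hPp : P ≤ p := Ideal.toIdeal_homogeneousCore_le 𝒜 p
  obtain ⟨I, hI⟩ := exists_bass (GrLib.starRes 𝒜 ℳ) P hP
  have gen : ∀ (qb : Ideal (R ⧸ P)) [qb.IsPrime] (q : Ideal R) [q.IsPrime],
      q = qb.comap (Ideal.Quotient.mk P) → (∀ h ∈ homOutside 𝒜 P, h ∉ q) →
      ∀ n : ℕ, qb.height = n → ∀ j : ℕ, GrLC.bassNum q M j = if j < n then 0 else ENat.card (I (j - n)) := by
    intro qb _ q _ hq hh n hn j
    subst hq
    exact hI qb hh n hn j
  haveI : (p.map (Ideal.Quotient.mk P)).IsPrime :=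
    Ideal.map_isPrime_of_surjective Ideal.Quotient.mk_surjective (by rwa [Ideal.mk_ker])
  have hcomap : p = (p.map (Ideal.Quotient.mk P)).comap (Ideal.Quotient.mk P) := by
    rw [Ideal.comap_map_of_surjective _ Ideal.Quotient.mk_surjective, ← RingHom.ker_eq_comap_bot,
      Ideal.mk_ker, sup_eq_left.2 hPp]
  have h1 := gen _ p hcomap (core_spec 𝒜 p) d hd i
  have h2 := gen ⊥ P (by rw [← RingHom.ker_eq_comap_bot, Ideal.mk_ker]) (fun h hh => hh.2) 0
    (by rw [Ideal.height_bot]; rfl) (i - d)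
  rw [h1, h2, if_neg (Nat.not_lt_zero _), Nat.sub_zero]

end core

end Groth.Agent.CAlgH3.GrBass
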