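import Groth.Agent.CAlgH3.GrAB
import Groth.Agent.GrLib.Hilbert
import Groth.Agent.LocCoh.Depth

/-! The Hilbert function of a Cohen–Macaulay module differs from its polynomial just below the regularity. -/

universe u

open CategoryTheory
open CategoryTheory.Abelian (Ext)
open Groth.Agent.GrLib (Syz)

namespace Groth.Agent.CAlgH3.GrMinimal

section dual

variable {R : Type u} [CommRing R]

abbrev EV (N : Type u) [AddCommGroup N] [Module R N] (e : ℕ) : Prop :=
  Subsingleton (Ext (ModuleCat.of R N) (ModuleCat.of R R) e)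

variable {K F N : Type u} [AddCommGroup K] [Module R K] [AddCommGroup F] [Module R F] [Module.Projective R F]
  [AddCommGroup N] [Module R N] {f : K →ₗ[R] F} {g : F →ₗ[R] N}

theorem ev_step (hf : Function.Injective f) (hg : Function.Surjective g) (hfg : Function.Exact f g) (e : ℕ)
    (h : EV (R := R) N (e + 2)) : EV (R := R) K (e + 1) := by
  refine subsingleton_of_forall_eq 0 fun x => ?_
  have hS := LocCoh.shortExact_of hf hg hfg
  haveI : Projective (ModuleCat.of R F) := (IsProjective.iff_projective (R := R) F).1 inferInstance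
  obtain ⟨y, rfl⟩ := Ext.contravariant_sequence_exact₁ hS _ x (by omega : 1 + (e + 1) = e + 2) (Subsingleton.elim _ _)
  rw [Ext.eq_zero_of_projective y, Ext.comp_zero]

theorem exists_extension (hf : Function.Injective f) (hg : Function.Surjective g) (hfg : Function.Exact f g)
    (h : EV (R := R) N 1) (φ : K →ₗ[R] R) : ∃ ψ : F →ₗ[R] R, ψ ∘ₗ f = φ := by
  have hS := LocCoh.shortExact_of hf hg hfg
  obtain ⟨y, hy⟩ := Ext.contravariant_sequence_exact₁ hS _
    (Ext.mk₀ (ModuleCat.ofHom φ : ModuleCat.of R K ⟶ ModuleCat.of R R)) (by omega : 1 + 0 = 1) (Subsingleton.elim _ _)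
  obtain ⟨a, rfl⟩ := Ext.homEquiv₀.symm.surjective y
  rw [Ext.homEquiv₀_symm_apply, Ext.mk₀_comp_mk₀, (Ext.mk₀_bijective _ _).1.eq_iff] at hy
  exact ⟨a.hom, congrArg ModuleCat.Hom.hom hy⟩

end dual

section res

variable {R : Type u} [CommRing R] {I : Ideal R} {σ : Type u} [SetLike σ R] [AddSubgroupClass σ R]
  {𝒜 : ℤ → σ} [GradedRing 𝒜]
variable [IsNoetherianRing R] {M : Type u} [AddCommGroup M] [Module R M] {τ : Type u} [SetLike τ M] [AddSubgroupClass τ M]
  {ℳ : ℤ → τ} [DirectSum.Decomposition ℳ] [SetLike.GradedSMul 𝒜 ℳ]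
variable (F : GrSyz.FreeRes 𝒜 ℳ)

theorem ev_syz : ∀ (j e : ℕ), EV (R := R) M (e + j + 2) → EV (R := R) (Syz F j) (e + 1)
  | 0, e, h => ev_step Subtype.val_injective F.aug_surjective (GrLib.exact_aug F) e h
  | j + 1, e, h => ev_step Subtype.val_injective (F.dLin j).surjective_rangeRestrict (GrLib.exact_proj F j) e
      (ev_syz j (e + 1) (by rwa [show e + 1 + j + 2 = e + (j + 1) + 2 by omega]))

/-- No row of a differential vanishes below the grade. -/
theorem exists_row_ne_zero (hI : I ≠ ⊤) (hF : F.IsMinimal I) (ℓ : ℕ) (hE : ∀ j < ℓ, EV (R := R) M j)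
    (i : ℕ) (hi : i < ℓ) (b : Fin (F.rk i)) : ∃ b', F.d i b b' ≠ 0 := by
  classical
  by_contra! hrow
  let φ : (Fin (F.rk i) → R) →ₗ[R] R := LinearMap.proj b
  have hφ : ∀ v ∈ Syz F i, φ v = 0 := by
    rintro _ ⟨w, rfl⟩
    show ∑ b', F.d i b b' * w b' = 0
    simp [hrow]
  have h1 : φ (Pi.single b 1) = 1 := Pi.single_eq_same (M := fun _ => R) b 1
  cases i with
  | zero =>
    let χ := ((LinearMap.ker F.augLin).liftQ φ fun v hv => hφ v (F.exact_zero.le hv)) ∘ₗ
      (F.augLin.quotKerEquivOfSurjective F.aug_surjective).symm.toLinearMap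
    haveI := hE 0 hi
    have hχ : (ModuleCat.ofHom χ : ModuleCat.of R M ⟶ ModuleCat.of R R) = 0 :=
      (Ext.mk₀_bijective _ _).1 (Subsingleton.elim _ _)
    have h2 := LinearMap.congr_fun (congrArg ModuleCat.Hom.hom hχ) (F.augLin (Pi.single b 1))
    have h3 : χ (F.augLin (Pi.single b 1)) = φ (Pi.single b 1) := by
      simp only [χ, LinearMap.comp_apply, LinearEquiv.coe_coe]
      rw [show (F.augLin.quotKerEquivOfSurjective F.aug_surjective).symm (F.augLin (Pi.single b 1)) =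
        Submodule.Quotient.mk (Pi.single b 1) from
        (F.augLin.quotKerEquivOfSurjective F.aug_surjective).injective (by simp)]
      rfl
    rw [← h3, show χ (F.augLin (Pi.single b 1)) = 0 from h2] at h1
    exact hI ((Ideal.eq_top_iff_one I).2 (h1 ▸ zero_mem _))
  | succ i =>
    let p := (F.dLin i).rangeRestrict
    let φ' : Syz F i →ₗ[R] R := ((LinearMap.ker p).liftQ φ fun v hv => hφ v ((ker_rangeRestrict F i).le hv)) ∘ₗ
      (p.quotKerEquivOfSurjective (F.dLin i).surjective_rangeRestrict).symm.toLinearMap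
    have hφ' : ∀ v, φ' (p v) = φ v := fun v => by
      simp only [φ', LinearMap.comp_apply, LinearEquiv.coe_coe]
      rw [show (p.quotKerEquivOfSurjective (F.dLin i).surjective_rangeRestrict).symm (p v) = Submodule.Quotient.mk v from
        (p.quotKerEquivOfSurjective (F.dLin i).surjective_rangeRestrict).injective (by simp)]
      rfl
    obtain ⟨ψ, hψ⟩ : ∃ ψ : (Fin (F.rk i) → R) →ₗ[R] R, ψ ∘ₗ (Syz F i).subtype = φ' := by
      cases i with
      | zero => exact exists_extension Subtype.val_injective F.aug_surjective (GrLib.exact_aug F) (hE 1 hi) φ'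
      | succ j =>
        exact exists_extension Subtype.val_injective (F.dLin j).surjective_rangeRestrict (GrLib.exact_proj F j)
          (ev_syz F j 0 (hE (0 + j + 2) (by omega))) φ'
    rw [← hφ', ← hψ] at h1
    have h2 : ψ (F.dLin i (Pi.single b 1)) ∈ I := by
      have h3 := Submodule.mem_map_of_mem (f := ψ) (Syz_le F hF i (LinearMap.mem_range_self _ (Pi.single b 1)))
      rw [Submodule.map_smul''] at h3
      have h4 := Submodule.smul_mono le_rfl le_top h3
      rwa [smul_eq_mul, Ideal.mul_top] at h4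
    exact hI ((Ideal.eq_top_iff_one I).2 ((show ψ (F.dLin i (Pi.single b 1)) = 1 from h1) ▸ h2))

end res

section poly

open MvPolynomial

variable {k : Type u} [Field k] {n : ℕ}

variable {M : Type u} [AddCommGroup M] [Module k M] [Module (MvPolynomial (Fin (n + 1)) k) M] [IsScalarTower k (MvPolynomial (Fin (n + 1)) k) M] [Module.Finite (MvPolynomial (Fin (n + 1)) k) M]
  {ℳ : ℤ → Submodule k M} [DirectSum.Decomposition ℳ] [SetLike.GradedSMul (GrSyz.stdGr k (Fin (n + 1))) ℳ]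
  (F : GrSyz.FreeRes (GrSyz.stdGr k (Fin (n + 1))) ℳ)

theorem nontrivial_of_rk_ne_zero (hF : F.IsMinimal (GrSyz.irrel (GrSyz.stdGr k (Fin (n + 1)))).toIdeal)
    {ℓ : ℕ} (hℓ' : F.rk ℓ ≠ 0) : Nontrivial M := by
  by_contra h
  rw [not_nontrivial_iff_subsingleton] at h
  haveI : Module.Projective (MvPolynomial (Fin (n + 1)) k) M := Module.Projective.of_free
  have h0 : F.HasLengthLE 0 := (hasLengthLE_iff F (GrLib.irrel_ne_top k _) hF 0).2
    ((pd_one_iff (R := (MvPolynomial (Fin (n + 1)) k)) (M := M)).2 inferInstance)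
  have hrk : ℓ = 0 := by
    by_contra hne
    exact hℓ' (h0 ℓ (Nat.pos_of_ne_zero hne))
  subst hrk
  haveI : IsEmpty (Fin (F.rk 1)) := by rw [h0 1 one_pos]; infer_instance
  let j : Fin (F.rk 0) := ⟨0, Nat.pos_of_ne_zero hℓ'⟩
  have hmem : (Pi.single j 1 : Fin (F.rk 0) → (MvPolynomial (Fin (n + 1)) k)) ∈ LinearMap.range (F.dLin 0) :=
    F.exact_zero.le (Subsingleton.elim _ _)
  obtain ⟨v, hv⟩ := hmem
  rw [Subsingleton.elim v 0, map_zero] at hv
  have := congrFun hv j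
  simp at this

theorem ev_of_cm (hCM : Module.supportDim (MvPolynomial (Fin (n + 1)) k) M =
      ((_root_.LocCoh.idealDepth (GrSyz.irrel (GrSyz.stdGr k (Fin (n + 1)))).toIdeal M : ℕ∞) : WithBot ℕ∞))
    (hF : F.IsMinimal (GrSyz.irrel (GrSyz.stdGr k (Fin (n + 1)))).toIdeal)
    {ℓ : ℕ} (hℓ : F.HasLengthLE ℓ) (hℓ' : F.rk ℓ ≠ 0) (j : ℕ) (hj : j < ℓ) : EV (R := (MvPolynomial (Fin (n + 1)) k)) M j := by
  haveI := nontrivial_of_rk_ne_zero F hF hℓ'
  haveI : _root_.LocCoh.IsCohenMacaulayRing (MvPolynomial (Fin (n + 1)) k) := CAlgH3.isCohenMacaulayRing_of_isRegularRing (R := (MvPolynomial (Fin (n + 1)) k))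
  have hann : Module.annihilator (MvPolynomial (Fin (n + 1)) k) M ≠ ⊤ := by
    rw [Ne, Ideal.eq_top_iff_one, Module.mem_annihilator]
    intro h
    obtain ⟨x, y, hxy⟩ := exists_pair_ne M
    exact hxy (by rw [← one_smul (MvPolynomial (Fin (n + 1)) k) x, ← one_smul (MvPolynomial (Fin (n + 1)) k) y, h x, h y])
  have hAB := depth_add_length F hF (idealDepth_irrel k (n + 1)) hℓ hℓ'
  have hheight : (ℓ : ℕ∞) ≤ (Module.annihilator (MvPolynomial (Fin (n + 1)) k) M).height := by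
    rw [Ideal.height_eq_inf_minimalPrimes, le_iInf₂_iff]
    intro P hP
    haveI := hP.1.1
    have h2 := DimLib.height_add_ringKrullDim_quotient (k := k) P
    rw [MvPolynomial.ringKrullDim_of_isNoetherianRing, ringKrullDim_eq_zero_of_field, zero_add, Nat.card_eq_fintype_card, Fintype.card_fin] at h2
    have h3 : ringKrullDim ((MvPolynomial (Fin (n + 1)) k) ⧸ P) ≤ Module.supportDim (MvPolynomial (Fin (n + 1)) k) M := by
      rw [Module.supportDim_eq_ringKrullDim_quotient_annihilator]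
      exact ringKrullDim_le_of_surjective (Ideal.Quotient.factor hP.1.2) (Ideal.Quotient.factor_surjective hP.1.2)
    rw [hCM] at h3
    have h4 := h2.symm.trans_le (add_le_add le_rfl h3)
    rw [← WithBot.coe_add, show ((n + 1 : ℕ) : WithBot ℕ∞) = (((n + 1 : ℕ) : ℕ∞) : WithBot ℕ∞) from rfl, WithBot.coe_le_coe,
      ← hAB, add_comm] at h4
    refine (WithTop.add_le_add_iff_right ?_).1 (by rwa [add_comm _ (ℓ : ℕ∞)] at h4)
    intro htop
    rw [htop] at hAB
    exact ENat.natCast_ne_top (n + 1) (top_le_iff.1 (le_add_self.trans_eq hAB))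
  rw [← (LocCoh.isCohenMacaulayRing_iff_idealDepth (MvPolynomial (Fin (n + 1)) k)).1 inferInstance _ hann] at hheight
  have hne : Module.annihilator (MvPolynomial (Fin (n + 1)) k) M • (⊤ : Submodule (MvPolynomial (Fin (n + 1)) k) (MvPolynomial (Fin (n + 1)) k)) ≠ ⊤ := by simpa using hann
  obtain ⟨rs, hle, hm, hr⟩ := (LocCoh.natCast_le_idealDepth_iff_exists _ _ hne ℓ).1 hheight
  exact ModuleCat.subsingleton_ext_of_exists_isRegular (Module.annihilator (MvPolynomial (Fin (n + 1)) k) M) (ModuleCat.of (MvPolynomial (Fin (n + 1)) k) M)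
    (Module.support_eq_zeroLocus).le (ModuleCat.of (MvPolynomial (Fin (n + 1)) k) (MvPolynomial (Fin (n + 1)) k)) (lt_top_iff_ne_top.2 hne) rs hm hr j (hj.trans_le hle)

theorem exists_top_degree (hF : F.IsMinimal (GrSyz.irrel (GrSyz.stdGr k (Fin (n + 1)))).toIdeal)
    {ℓ : ℕ} (hℓ : F.HasLengthLE ℓ) (hE : ∀ j < ℓ, EV (R := (MvPolynomial (Fin (n + 1)) k)) M j) {ρ : ℤ} (hρ : F.IsGenLE ρ)
    (hρ' : ∃ (i : ℕ) (b : Fin (F.rk i)), F.deg i b = ρ + i) : ∃ b : Fin (F.rk ℓ), F.deg ℓ b = ρ + ℓ := by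
  obtain ⟨i, b, hb⟩ := hρ'
  have hi : i ≤ ℓ := not_lt.1 fun h => (Fin.cast (hℓ i h) b).elim0
  obtain ⟨j, rfl⟩ := Nat.exists_eq_add_of_le hi
  clear hi hℓ
  induction j with
  | zero => exact ⟨b, hb⟩
  | succ j ih =>
    obtain ⟨c, hc⟩ := ih (fun m hm => hE m (by omega))
    obtain ⟨c', hc'⟩ := exists_row_ne_zero F (GrLib.irrel_ne_top k _) hF _ hE (i + j) (by omega) c
    refine ⟨c', le_antisymm (hρ _ c') ?_⟩
    by_contra hlt
    push_cast at hc hlt
    refine hc' ?_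
    have hd := F.d_mem (i + j) c c'
    rcases lt_or_eq_of_le (show F.deg (i + j + 1) c' - F.deg (i + j) c ≤ 0 by
      have : F.deg (i + j + 1) c' < ρ + ((i : ℤ) + ((j : ℤ) + 1)) := not_le.1 hlt
      omega) with h | h
    · exact GrLib.stdGr_neg k _ _ h _ hd
    · rw [h] at hd
      have h0 := constantCoeff_irrel k (n + 1) _ (hF (i + j) c c')
      obtain ⟨u, hu⟩ : ∃ u : k, F.d (i + j) c c' = C u := by
        rw [show (0 : ℤ) = ((0 : ℕ) : ℤ) from rfl, GrLib.stdGr_natCast, mem_homogeneousSubmodule] at hd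
        exact ⟨_, MvPolynomial.totalDegree_eq_zero_iff_eq_C.1 (Nat.le_zero.1 hd.totalDegree_le)⟩
      rw [hu, constantCoeff_C] at h0
      rw [hu, h0, map_zero]

theorem eval_ne (hF : F.IsMinimal (GrSyz.irrel (GrSyz.stdGr k (Fin (n + 1)))).toIdeal)
    {ℓ : ℕ} (hℓ : F.HasLengthLE ℓ) (hE : ∀ j < ℓ, EV (R := (MvPolynomial (Fin (n + 1)) k)) M j) {ρ : ℤ} (hρ : F.IsGenLE ρ)
    (hρ' : ∃ (i : ℕ) (b : Fin (F.rk i)), F.deg i b = ρ + i) (P : Polynomial ℚ)
    (hP : ∃ d₁ : ℤ, ∀ d : ℤ, d₁ ≤ d → ((Module.finrank k ↥(ℳ d) : ℤ) : ℚ) = P.eval (d : ℚ)) :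
    ((Module.finrank k ↥(ℳ (ρ + ℓ - n - 1)) : ℤ) : ℚ) ≠ P.eval ((ρ + ℓ - n - 1 : ℤ) : ℚ) := by
  classical
  set q : ℚ → ℚ := fun x => (ascPochhammer ℚ n).eval (x + 1) / (n.factorial : ℚ) with hq
  let Q : Polynomial ℚ := ∑ i ∈ Finset.range (ℓ + 1), Polynomial.C ((-1 : ℚ) ^ i) *
    ∑ b, Polynomial.C ((n.factorial : ℚ)⁻¹) * (ascPochhammer ℚ n).comp (Polynomial.X + Polynomial.C (1 - (F.deg i b : ℚ)))
  have hQ : ∀ x : ℚ, Q.eval x = ∑ i ∈ Finset.range (ℓ + 1), (-1 : ℚ) ^ i * ∑ b, q (x - (F.deg i b : ℚ)) := by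
    intro x
    simp only [Q, Polynomial.eval_finsetSum, Polynomial.eval_mul, Polynomial.eval_C, Polynomial.eval_comp,
      Polynomial.eval_add, Polynomial.eval_X, hq]
    refine Finset.sum_congr rfl fun i _ => congrArg _ (Finset.sum_congr rfl fun b _ => ?_)
    rw [sub_add, show x - ((F.deg i b : ℚ) - 1) = x + (1 - (F.deg i b : ℚ)) by ring, div_eq_inv_mul]
  have hH : ∀ d : ℤ, ((Module.finrank k ↥(ℳ d) : ℤ) : ℚ) =
      ∑ i ∈ Finset.range (ℓ + 1), (-1 : ℚ) ^ i * ∑ b, ((GrLib.hilb n (d - F.deg i b) : ℤ) : ℚ) := by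
    intro d
    rw [GrLib.finrank_eq_sum F d ℓ hℓ]
    push_cast
    rfl
  have hPQ : P = Q := by
    obtain ⟨d₁, hd₁⟩ := hP
    refine Polynomial.eq_of_infinite_eval_eq P Q (Set.Infinite.mono ?_
      ((Set.Ici_infinite (max d₁ (ρ + ℓ))).image (Int.cast_injective (α := ℚ)).injOn))
    rintro _ ⟨d, hd, rfl⟩
    rw [Set.mem_Ici, max_le_iff] at hd
    show P.eval (d : ℚ) = Q.eval (d : ℚ)
    rw [← hd₁ d hd.1, hH, hQ]
    refine Finset.sum_congr rfl fun i hi => congrArg _ (Finset.sum_congr rfl fun b _ => ?_)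
    rw [GrLib.hilb_eq_eval, hq]
    · push_cast; ring_nf
    · have := hρ i b
      rw [Finset.mem_range] at hi
      omega
  have hlast : ∀ b : Fin (F.rk ℓ), ((GrLib.hilb n (ρ + ℓ - n - 1 - F.deg ℓ b) : ℤ) : ℚ) -
      q (((ρ + ℓ - n - 1 : ℤ) : ℚ) - (F.deg ℓ b : ℚ)) = if F.deg ℓ b = ρ + ℓ then - q (-(n : ℚ) - 1) else 0 := by
    intro b
    have hb := hρ ℓ b
    split_ifs with h
    · rw [GrLib.hilb, if_neg (by omega), h]
      push_cast
      ring_nf
    · rw [GrLib.hilb_eq_eval _ _ (by omega), hq]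
      push_cast
      ring_nf
  rw [hPQ, hH, hQ, ← sub_ne_zero, ← Finset.sum_sub_distrib, Finset.sum_range_succ, Finset.sum_eq_zero, zero_add,
    ← mul_sub, ← Finset.sum_sub_distrib, Finset.sum_congr rfl fun b _ => hlast b, ← Finset.sum_filter,
    Finset.sum_const, nsmul_eq_mul]
  · obtain ⟨b, hb⟩ := exists_top_degree F hF hℓ hE hρ hρ'
    refine mul_ne_zero (pow_ne_zero _ (by norm_num)) (mul_ne_zero ?_ (neg_ne_zero.2 ?_))
    · exact Nat.cast_ne_zero.2 (Finset.card_ne_zero.2 ⟨b, Finset.mem_filter.2 ⟨Finset.mem_univ _, hb⟩⟩)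
    · rw [hq]
      refine div_ne_zero (fun h0 => ?_) (Nat.cast_ne_zero.2 n.factorial_ne_zero)
      obtain ⟨m, hm, hm'⟩ := (ascPochhammer_eval_eq_zero_iff _ _).1 h0
      have : (m : ℚ) = (n : ℚ) := by rw [hm']; ring
      exact hm.ne (by exact_mod_cast this)
  · intro i hi
    rw [← mul_sub, ← Finset.sum_sub_distrib, Finset.sum_eq_zero, mul_zero]
    intro b _
    have := hρ i b
    rw [Finset.mem_range] at hi
    rw [GrLib.hilb_eq_eval _ _ (by omega), hq]
    push_cast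
    ring_nf

end poly

end Groth.Agent.CAlgH3.GrMinimal
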