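import Groth.Agent.CAlgH3.GrCanonLocal
import Groth.Agent.CAlgH3.GrGorenstein
import Groth.Agent.CAlgH3.RegularExt
import Groth.Agent.GrLib.GradedDim
import Mathlib

/-!
Graded canonical modules: finite injective dimension, the Gorenstein criteria, and the type.
-/

set_option autoImplicit false

universe u

open DirectSum Groth.Agent.GrLib CategoryTheory Abelian IsLocalRing
open scoped TensorProduct

namespace Groth.Agent.CAlgH3.GrCanonApps

section bass

variable {R : Type u} [CommRing R] [IsNoetherianRing R] (M : Type u) [AddCommGroup M] [Module R M]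

/-- Finite injective dimension at `m` kills high Bass numbers below `m`. -/
theorem bassNum_eq_zero_of_localized (m : Ideal R) [m.IsPrime] {N : ℕ}
    (h : HasInjectiveDimensionLT
      (ModuleCat.of (Localization m.primeCompl) (LocalizedModule m.primeCompl M)) N)
    (P : Ideal R) [P.IsPrime] (hP : P ≤ m) (k : ℕ) (hk : N ≤ k) : GrLC.bassNum P M k = 0 := by
  refine (GrInjDim.bassNum_eq_zero_iff M P k).2
    (LocCoh.subsingleton_ext_localized_of_kill P.primeCompl k (R ⧸ P) M fun x => ?_)
  haveI := h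
  obtain ⟨s, hs, hsx⟩ := LocCoh.exists_kill_of_subsingleton_ext_localized m.primeCompl k (R ⧸ P) M
    (HasInjectiveDimensionLT.subsingleton
      (ModuleCat.of (Localization m.primeCompl) (LocalizedModule m.primeCompl M)) N k hk
      (ModuleCat.of (Localization m.primeCompl) (LocalizedModule m.primeCompl (R ⧸ P)))) x
  exact ⟨s, fun hsP => hs (hP hsP), hsx⟩

/-- High Bass numbers of `R` vanish at every prime only for Gorenstein rings. -/
theorem isGorensteinRing_of_bassNum (N : ℕ)
    (h : ∀ (p : Ideal R) [p.IsPrime] (k : ℕ), N ≤ k → GrLC.bassNum p R k = 0) :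
    _root_.LocCoh.IsGorensteinRing R where
  isGorensteinLocalRing_localization p := by
    intros
    refine LocCoh.gorenstein_of_forall_ext (R := Localization.AtPrime p) N fun k hk => ?_
    let S := Localization p.primeCompl
    have eS : LocalizedModule p.primeCompl R ≃ₗ[S] S :=
      LinearEquiv.extendScalarsOfIsLocalization p.primeCompl S
        (IsLocalizedModule.iso p.primeCompl (Algebra.linearMap R S))
    have h0 := h p k hk
    rw [GrLC.bassNum, GrLC.bassNumLocal, Module.length_eq_zero_iff] at h0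
    exact (ExtShift.congrRight (N := ResidueField (Localization.AtPrime p)) eS k).symm.toEquiv.subsingleton

end bass

section local'

variable {R : Type u} [CommRing R] [IsNoetherianRing R] {σ : Type u} [SetLike σ R] [AddSubgroupClass σ R] {𝒜 : ℤ → σ} [GradedRing 𝒜]
  {m : HomogeneousIdeal 𝒜} (hm : GrLC.IsStarLocal 𝒜 m)

include hm in
theorem le_starMax {J : Ideal R} (hJ : J.IsHomogeneous 𝒜) (hne : J ≠ ⊤) : J ≤ m.toIdeal := by
  obtain ⟨n, hn, hle⟩ := exists_coatom_ge (J := (⟨J, hJ⟩ : HomogeneousIdeal 𝒜))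
    (fun h => hne (congrArg HomogeneousIdeal.toIdeal h))
  exact hm.2 n hn ▸ hle

variable {M : Type u} [AddCommGroup M] [Module R M] {τ : Type u} [SetLike τ M] [AddSubgroupClass τ M] {ℳ : ℤ → τ} [Decomposition ℳ]
  [SetLike.GradedSMul 𝒜 ℳ]

include hm in
/-- A homogeneous element pushed into a homogeneous submodule by an element outside the *maximal ideal lies
in it. -/
theorem mem_of_smul_mem {N : Submodule R M} (hN : N.IsHomogeneous ℳ) {g : ℤ} {y : M} (hy : y ∈ ℳ g)
    {s : R} (hs : s ∉ m.toIdeal) (hsy : s • y ∈ N) : y ∈ N := by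
  letI := qDecomp ℳ hN
  have hJ := isHomogeneous_ann (𝒜 := 𝒜) (𝓔 := qGr ℳ N) (mk_mem_qGr (p := N) hy)
  by_contra hyN
  refine hs (le_starMax hm hJ (fun h => hyN ?_) ?_)
  · have h1 : (1 : R) ∈ (Submodule.span R {(Submodule.Quotient.mk y : M ⧸ N)}).annihilator := h ▸ trivial
    rw [Submodule.mem_annihilator_span_singleton, one_smul, Submodule.Quotient.mk_eq_zero] at h1
    exact h1
  · rw [Submodule.mem_annihilator_span_singleton, ← Submodule.Quotient.mk_smul, Submodule.Quotient.mk_eq_zero]
    exact hsy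

include hm in
theorem bassNum_eq_zero_of_homogeneous [m.toIdeal.IsPrime] {N : ℕ}
    (h : HasInjectiveDimensionLT
      (ModuleCat.of (Localization m.toIdeal.primeCompl) (LocalizedModule m.toIdeal.primeCompl M)) N)
    {τ' : Type u} [SetLike τ' M] [AddSubgroupClass τ' M] (ℳ : ℤ → τ') [Decomposition ℳ] [SetLike.GradedSMul 𝒜 ℳ]
    (p : Ideal R) [p.IsPrime] (k : ℕ) (hk : N + 1 ≤ k) : GrLC.bassNum p M k = 0 := by
  by_cases hh : p.IsHomogeneous 𝒜
  · exact bassNum_eq_zero_of_localized M m.toIdeal h p (le_starMax hm hh (Ideal.IsPrime.ne_top ‹_›)) k (by omega)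
  · haveI : (Ideal.homogeneousCore 𝒜 p).toIdeal.IsPrime := Ideal.IsPrime.homogeneousCore ‹_›
    obtain ⟨j, rfl⟩ : ∃ j, k = j + 1 := ⟨k - 1, by omega⟩
    rw [(GrBassApps.bassNum_not_homogeneous 𝒜 M ℳ p hh).2 j]
    exact bassNum_eq_zero_of_localized M m.toIdeal h _
      (le_starMax hm (Ideal.homogeneousCore 𝒜 p).isHomogeneous (Ideal.IsPrime.ne_top ‹_›)) j (by omega)

include hm in
/-- A graded module with finite injective dimension at the *maximal ideal has finite injective dimension. -/
theorem exists_injectiveDimension [m.toIdeal.IsPrime] {N : ℕ}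
    (h : HasInjectiveDimensionLT
      (ModuleCat.of (Localization m.toIdeal.primeCompl) (LocalizedModule m.toIdeal.primeCompl M)) N)
    {τ' : Type u} [SetLike τ' M] [AddSubgroupClass τ' M] (ℳ : ℤ → τ') [Decomposition ℳ] [SetLike.GradedSMul 𝒜 ℳ] :
    ∃ L : ℕ, HasInjectiveDimensionLT (ModuleCat.of R M) L :=
  ⟨N + 1, hasInjectiveDimensionLT_of_forall_ideal N _ fun I =>
    GrInjDim.subsingleton_ext_of_bassNum M (N + 1)
      (fun p _ => bassNum_eq_zero_of_homogeneous hm h ℳ p (N + 1) le_rfl) (R ⧸ I)⟩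

include hm in
/-- A *local ring is Gorenstein as soon as it is at its *maximal ideal. -/
theorem isGorensteinRing_of_localized [m.toIdeal.IsPrime]
    (h : _root_.LocCoh.IsGorensteinLocalRing (Localization.AtPrime m.toIdeal)) :
    _root_.LocCoh.IsGorensteinRing R := by
  obtain ⟨N, hN⟩ := h.exists_hasInjectiveDimensionLT
  let S := Localization m.toIdeal.primeCompl
  have eS : LocalizedModule m.toIdeal.primeCompl R ≃ₗ[S] S :=
    LinearEquiv.extendScalarsOfIsLocalization m.toIdeal.primeCompl S
      (IsLocalizedModule.iso m.toIdeal.primeCompl (Algebra.linearMap R S))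
  haveI := hN
  have h' : HasInjectiveDimensionLT (ModuleCat.of S (LocalizedModule m.toIdeal.primeCompl R)) N :=
    hasInjectiveDimensionLT_of_iso eS.toModuleIso.symm N
  exact isGorensteinRing_of_bassNum (N + 1) fun p _ k hk =>
    bassNum_eq_zero_of_homogeneous hm h' 𝒜 p k hk

include hm in
/-- A graded module free of rank one at the *maximal ideal is free of rank one. -/
theorem exists_free_generator [m.toIdeal.IsMaximal] [Module.Finite R M]
    (e : LocalizedModule m.toIdeal.primeCompl M ≃ₗ[Localization m.toIdeal.primeCompl]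
      Localization m.toIdeal.primeCompl) :
    ∃ (a : ℤ) (f : R →ₗ[R] M), Function.Bijective f ∧ GrLC.IsGrHomDeg 𝒜 ℳ f a := by
  let W := m.toIdeal.primeCompl
  let S := Localization W
  let mk := LocalizedModule.mkLinearMap W M
  have hne : m.toIdeal • (⊤ : Submodule R M) ≠ ⊤ := fun h => by
    obtain ⟨s, hs, hsM⟩ := LocCoh.exists_smul_eq_zero_of_smul_top_eq_top (I := m.toIdeal) (M := M) h
    have hsW : s ∈ W := fun h' => (‹m.toIdeal.IsMaximal›).ne_top ((Ideal.eq_top_iff_one _).2 (by
      have := sub_mem h' hs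
      simpa using this))
    have h0 : ∀ v : LocalizedModule W M, v = 0 := fun v => by
      induction v using LocalizedModule.induction_on with
      | _ y t =>
        rw [← LocalizedModule.zero_mk t]
        exact LocalizedModule.mk_eq.2 ⟨⟨s, hsW⟩, by simp [Submonoid.smul_def, smul_comm s, hsM y]⟩
    exact one_ne_zero (α := S) (e.symm.injective ((h0 _).trans (h0 _).symm))
  obtain ⟨a, x, hx, hxm⟩ : ∃ a, ∃ x ∈ ℳ a, x ∉ m.toIdeal • (⊤ : Submodule R M) := by
    by_contra hno
    push Not at hno
    exact hne (eq_top_iff.2 fun y _ => induction ℳ (motive := fun y => y ∈ m.toIdeal • (⊤ : Submodule R M))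
      (zero_mem _) hno (fun _ _ h h' => add_mem h h') y)
  have hu : IsUnit (e (mk x)) := by
    by_contra hnu
    replace hnu : e (mk x) ∈ maximalIdeal (Localization.AtPrime m.toIdeal) := hnu
    rw [← Localization.AtPrime.map_eq_maximalIdeal] at hnu
    have h1 : mk x ∈ (m.toIdeal.map (algebraMap R S)) • (⊤ : Submodule S (LocalizedModule W M)) := by
      rw [← e.symm_apply_apply (mk x), ← mul_one (e (mk x)), ← smul_eq_mul, map_smul]
      exact Submodule.smul_mem_smul hnu trivial
    have h2 : mk x ∈ (m.toIdeal • (⊤ : Submodule R M)).localized' S W mk := by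
      rw [Submodule.localized'_smul, Submodule.localized'_top, Ideal.localized'_eq_map]
      exact h1
    obtain ⟨y, hy, s, hys⟩ := (Submodule.mem_localized' _ _ _ _ _).1 h2
    obtain ⟨t, ht⟩ := (IsLocalizedModule.mk'_eq_mk'_iff (f := mk) y x s 1).1
      (hys.trans (IsLocalizedModule.mk'_one W mk x).symm)
    refine hxm ?_
    simp only [Submonoid.smul_def, Submonoid.coe_one, one_smul] at ht
    have hts : ((t : R) * s) • x ∈ m.toIdeal • (⊤ : Submodule R M) := by
      rw [show ((t : R) * s) • x = (t : R) • y by rw [mul_smul, ht]]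
      exact Submodule.smul_mem _ _ hy
    obtain ⟨c, z, hz, hcz⟩ := (‹m.toIdeal.IsMaximal›).exists_inv (mul_mem t.2 s.2 : (t : R) * s ∈ W)
    rw [← one_smul R x, ← hcz, add_smul, mul_smul]
    exact add_mem (Submodule.smul_mem _ _ hts) (Submodule.smul_mem_smul hz trivial)
  obtain ⟨u, hu'⟩ := hu
  let f : R →ₗ[R] M := LinearMap.toSpanSingleton R M x
  have hf : GrLC.IsGrHomDeg 𝒜 ℳ f a := fun g r hr => smul_mem (ℳ := ℳ) hr hx
  refine ⟨a, f, ⟨?_, ?_⟩, hf⟩
  · rw [← LinearMap.ker_eq_bot, eq_bot_iff]
    intro r hr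
    refine mem_of_proj_mem 𝒜 (⊥ : Submodule R R) fun g => ?_
    have hg : proj 𝒜 g r • x = 0 := isHomogeneous_ker_deg hf g hr
    have h1 : algebraMap R S (proj 𝒜 g r) * e (mk x) = 0 := by
      rw [← smul_eq_mul, ← map_smul, IsScalarTower.algebraMap_smul, ← map_smul, hg, map_zero, map_zero]
    rw [← hu', Units.mul_left_eq_zero, IsLocalization.map_eq_zero_iff W] at h1
    obtain ⟨s, hs⟩ := h1
    refine mem_of_smul_mem hm (τ := σ) (ℳ := 𝒜) (N := (⊥ : Submodule R R)) (isHomogeneous_bot 𝒜) (proj_mem 𝒜 g r) s.2 ?_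
    rw [smul_eq_mul, hs]
    exact zero_mem _
  · intro y
    have hy : y ∈ LinearMap.range f := induction ℳ (motive := fun y => y ∈ LinearMap.range f) (zero_mem _)
      (fun g y hy => by
        obtain ⟨c, hc⟩ : ∃ c : S, mk y = c • mk x := ⟨e (mk y) * ↑u⁻¹, e.injective (by
          rw [map_smul, smul_eq_mul, ← hu', mul_assoc, Units.inv_mul, mul_one])⟩
        obtain ⟨r, s, rfl⟩ := IsLocalization.exists_mk'_eq W c
        have h2 : mk ((s : R) • y) = mk (r • x) := by
          rw [map_smul, map_smul, hc, ← IsScalarTower.algebraMap_smul S (s : R), smul_smul,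
            IsLocalization.mk'_spec'_mk, IsScalarTower.algebraMap_smul]
        obtain ⟨t, ht⟩ := (IsLocalizedModule.eq_iff_exists W mk).1 h2
        refine mem_of_smul_mem hm (isHomogeneous_range_deg hf) hy (mul_mem t.2 s.2 : (t : R) * s ∈ W) ?_
        rw [mul_smul]
        exact ⟨t * r, ((mul_smul _ _ _).trans ht.symm)⟩)
      (fun _ _ h h' => add_mem h h') y
    exact hy

end local'

section canonical

variable {R : Type u} [CommRing R] [_root_.LocCoh.IsCohenMacaulayRing R] {σ : Type u} [SetLike σ R] [AddSubgroupClass σ R] {𝒜 : ℤ → σ} [GradedRing 𝒜]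
  (hpos : ∀ k : ℤ, k < 0 → ∀ x ∈ 𝒜 k, x = 0) (m : HomogeneousIdeal 𝒜) (hm : GrLC.IsStarLocal 𝒜 m)
  (n : ℕ) (hn : ringKrullDim R = n)
  (I : GrLC.StarInjRes 𝒜 𝒜) {E' : Type u} [AddCommGroup E'] [Module R E'] {𝓔 : ℤ → AddSubgroup E'}
  [Decomposition 𝓔] [SetLike.GradedSMul 𝒜 𝓔] {e : (R ⧸ m.toIdeal) →ₗ[R] E'}
  (he : GrLC.IsStarInjHull 𝒜 (GrLC.quotGr 𝒜 m) 𝓔 e)
  {C : Type u} [AddCommGroup C] [Module R C] {𝒞 : ℤ → AddSubgroup C} [Decomposition 𝒞]
  [SetLike.GradedSMul 𝒜 𝒞] (hC : GrLC.IsStarCanonical 𝒜 𝒞 𝓔 m n I)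

include hpos hm hn in
theorem dim_localized [m.toIdeal.IsMaximal] : ringKrullDim (Localization.AtPrime m.toIdeal) = n := by
  rw [IsLocalization.AtPrime.ringKrullDim_eq_height m.toIdeal,
    ← ringKrullDim_eq_height_starMaximal hpos hm, hn]

include hpos hm hn he hC in
theorem cm_and_injectiveDimension [m.toIdeal.IsMaximal] :
    _root_.LocCoh.IsCohenMacaulayModule (Localization.AtPrime m.toIdeal)
        (LocalizedModule m.toIdeal.primeCompl C) ∧
      ∃ N : ℕ, HasInjectiveDimensionLT (ModuleCat.of R C) N := by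
  haveI := _root_.LocCoh.IsCohenMacaulayRing.isCohenMacaulayLocalRing_localization (R := R) m.toIdeal
  obtain ⟨E₀, _, _, hE, ⟨eK⟩⟩ := GrCanonLocal.exists_local_canonical m n I he hC
  haveI := hC.1
  obtain ⟨hid, -, hcm, -⟩ := LocCoh.canonical_structure (dim_localized hpos m hm n hn) hE eK
  exact ⟨hcm, exists_injectiveDimension hm hid 𝒞⟩

include hpos hm hn he hC in
theorem gorenstein_iff :
    _root_.LocCoh.IsGorensteinRing R ↔
      ∃ (a : ℤ) (f : R →ₗ[R] C), Function.Bijective f ∧ GrLC.IsGrHomDeg 𝒜 𝒞 f a := by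
  haveI := isMaximal_starMaximal hpos hm
  haveI := _root_.LocCoh.IsCohenMacaulayRing.isCohenMacaulayLocalRing_localization (R := R) m.toIdeal
  obtain ⟨E₀, _, _, hE, ⟨eK⟩⟩ := GrCanonLocal.exists_local_canonical m n I he hC
  haveI := hC.1
  have key := LocCoh.gorenstein_iff_canonical_free (dim_localized hpos m hm n hn) hE eK
  constructor
  · intro h
    obtain ⟨f⟩ := key.1 (h.isGorensteinLocalRing_localization m.toIdeal)
    exact exists_free_generator hm f
  · rintro ⟨a, f, hf, -⟩
    let W := m.toIdeal.primeCompl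
    let S := Localization W
    let mkC := (LocalizedModule.mkLinearMap W C).comp (LinearEquiv.ofBijective f hf).toLinearMap
    have e1 := LinearEquiv.extendScalarsOfIsLocalization W S
      ((IsLocalizedModule.iso W (Algebra.linearMap R S)).symm.trans (IsLocalizedModule.iso W mkC))
    exact isGorensteinRing_of_localized hm (key.2 ⟨e1.symm⟩)

/-- The residue field tensored with a localised module. -/
theorem length_residue_tensor (m : Ideal R) [m.IsMaximal] (C : Type u) [AddCommGroup C] [Module R C]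
    [Module.Finite R C] :
    Module.length (Localization.AtPrime m) ((Localization.AtPrime m ⧸ maximalIdeal (Localization.AtPrime m))
        ⊗[Localization.AtPrime m] LocalizedModule m.primeCompl C) =
      (Module.finrank (R ⧸ m) ((R ⧸ m) ⊗[R] C) : ℕ∞) := by
  let S := Localization.AtPrime m
  let k := S ⧸ maximalIdeal S
  letI := Ideal.Quotient.field m
  have hbij : Function.Bijective
      (Ideal.Quotient.lift m (algebraMap R k) fun a ha => by
        rw [IsScalarTower.algebraMap_apply R S k, Ideal.Quotient.algebraMap_eq, Ideal.Quotient.eq_zero_iff_mem]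
        exact (IsLocalization.AtPrime.to_map_mem_maximal_iff S m a).2 ha) := by
    refine ⟨RingHom.injective _, fun z => ?_⟩
    obtain ⟨v, rfl⟩ := Ideal.Quotient.mk_surjective z
    obtain ⟨r, s, rfl⟩ := IsLocalization.exists_mk'_eq m.primeCompl v
    obtain ⟨c, i, hi, hci⟩ := (‹m.IsMaximal›).exists_inv s.2
    refine ⟨Ideal.Quotient.mk m (c * r), ?_⟩
    rw [Ideal.Quotient.lift_mk, IsScalarTower.algebraMap_apply R S k, Ideal.Quotient.algebraMap_eq,
      Ideal.Quotient.eq]
    have h1 : algebraMap R S (c * r) * algebraMap R S s - algebraMap R S r ∈ maximalIdeal S := by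
      rw [← map_mul, ← map_sub, IsLocalization.AtPrime.to_map_mem_maximal_iff S m,
        show c * r * s - r = -r * i by linear_combination r * hci]
      exact m.mul_mem_left _ hi
    have hunit : IsUnit (algebraMap R S s) := IsLocalization.map_units S s
    obtain ⟨w, hw⟩ := hunit
    have h2 : algebraMap R S (c * r) - IsLocalization.mk' S r s =
        (algebraMap R S (c * r) * algebraMap R S s - algebraMap R S r) * ↑w⁻¹ := by
      have hs1 : IsLocalization.mk' S r s * algebraMap R S s = algebraMap R S r := IsLocalization.mk'_spec S r s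
      rw [← hs1, ← hw]
      linear_combination (-(algebraMap R S (c * r) - IsLocalization.mk' S r s)) * (Units.mul_inv w)
    rw [h2]
    exact Ideal.mul_mem_right _ _ h1
  have hlift : ∀ x : R ⧸ m, Submodule.liftQ m (Algebra.linearMap R k) (fun a ha => by
      show algebraMap R k a = 0
      rw [IsScalarTower.algebraMap_apply R S k, Ideal.Quotient.algebraMap_eq, Ideal.Quotient.eq_zero_iff_mem]
      exact (IsLocalization.AtPrime.to_map_mem_maximal_iff S m a).2 ha) x =
      Ideal.Quotient.lift m (algebraMap R k) (fun a ha => by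
        rw [IsScalarTower.algebraMap_apply R S k, Ideal.Quotient.algebraMap_eq, Ideal.Quotient.eq_zero_iff_mem]
        exact (IsLocalization.AtPrime.to_map_mem_maximal_iff S m a).2 ha) x := fun x => by
    obtain ⟨x, rfl⟩ := Ideal.Quotient.mk_surjective x
    rfl
  let q : (R ⧸ m) ≃ₗ[R] k := LinearEquiv.ofBijective _
    (by rw [funext hlift]; exact hbij)
  have e1 : k ⊗[S] LocalizedModule m.primeCompl C ≃ₗ[k] k ⊗[R] C :=
    (TensorProduct.AlgebraTensorModule.congr (LinearEquiv.refl k k)
      (LocalizedModule.equivTensorProduct m.primeCompl C)).trans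
      (TensorProduct.AlgebraTensorModule.cancelBaseChange R S k k C)
  have hs : Function.Surjective (algebraMap R k) := fun z => by
    obtain ⟨x, hx⟩ := hbij.2 z
    obtain ⟨x, rfl⟩ := Ideal.Quotient.mk_surjective x
    exact ⟨x, hx⟩
  calc Module.length S (k ⊗[S] LocalizedModule m.primeCompl C)
      = Module.length k (k ⊗[S] LocalizedModule m.primeCompl C) :=
        Module.length_eq_of_surjective Ideal.Quotient.mk_surjective
    _ = Module.length k (k ⊗[R] C) := e1.length_eq
    _ = Module.length R (k ⊗[R] C) := (Module.length_eq_of_surjective hs).symm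
    _ = Module.length R ((R ⧸ m) ⊗[R] C) := (TensorProduct.congr q (LinearEquiv.refl R C)).symm.length_eq
    _ = Module.length (R ⧸ m) ((R ⧸ m) ⊗[R] C) := Module.length_eq_of_surjective Ideal.Quotient.mk_surjective
    _ = _ := Module.length_eq_finrank _ _

include hpos hm hn he hC in
theorem bassNum_top [m.toIdeal.IsMaximal] :
    GrLC.bassNum m.toIdeal C n = 1 ∧ GrLC.bassNum m.toIdeal R n =
      (Module.finrank (R ⧸ m.toIdeal) ((R ⧸ m.toIdeal) ⊗[R] C) : ℕ∞) := by
  haveI := _root_.LocCoh.IsCohenMacaulayRing.isCohenMacaulayLocalRing_localization (R := R) m.toIdeal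
  obtain ⟨E₀, _, _, hE, ⟨eK⟩⟩ := GrCanonLocal.exists_local_canonical m n I he hC
  haveI := hC.1
  have hd := dim_localized hpos m hm n hn
  refine ⟨RegularExt.length_ext_canonical hd hE eK, ?_⟩
  let S := Localization m.toIdeal.primeCompl
  have eS : LocalizedModule m.toIdeal.primeCompl R ≃ₗ[S] S :=
    LinearEquiv.extendScalarsOfIsLocalization m.toIdeal.primeCompl S
      (IsLocalizedModule.iso m.toIdeal.primeCompl (Algebra.linearMap R S))
  rw [← length_residue_tensor m.toIdeal C]
  exact (ExtShift.congrRight (N := ResidueField (Localization.AtPrime m.toIdeal)) eS n).length_eq.trans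
    (RegularExt.length_ext_self hd hE eK)

end canonical

section topInjective

variable {R : Type u} [CommRing R] [_root_.LocCoh.IsCohenMacaulayRing R] {𝒜 : ℤ → AddSubgroup R} [GradedRing 𝒜]
  (m : HomogeneousIdeal 𝒜) (hm : GrLC.IsStarLocal 𝒜 m) (n : ℕ) (hn : m.toIdeal.height = n)
  (I : GrLC.StarInjRes 𝒜 𝒜)

/-- A power torsion *injective module is injective at the *maximal ideal. -/
theorem injective_localized_of_starInj {R : Type u} [CommRing R] [IsNoetherianRing R]
    {σ : Type u} [SetLike σ R] [AddSubgroupClass σ R] {𝒜 : ℤ → σ} [GradedRing 𝒜] (m : HomogeneousIdeal 𝒜) [m.toIdeal.IsPrime]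
    {X : Type u} [AddCommGroup X] [Module R X] {𝒳 : ℤ → AddSubgroup X} [Decomposition 𝒳]
    [SetLike.GradedSMul 𝒜 𝒳] (hX : GrLC.IsStarInj 𝒜 𝒳) (hT : _root_.LocCoh.IsPowerTorsion m.toIdeal X) :
    Module.Injective (Localization.AtPrime m.toIdeal) (LocalizedModule m.toIdeal.primeCompl X) := by
  refine GrCanonLocal.injective_localized_of_bassNum m.toIdeal X fun p hp hpm => ?_
  by_cases hh : p.IsHomogeneous 𝒜
  · exact GrInjDim.bassNum_succ_homogeneous hX p hh 0
  · haveI : (Ideal.homogeneousCore 𝒜 p).toIdeal.IsPrime := Ideal.IsPrime.homogeneousCore hp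
    rw [(GrBassApps.bassNum_not_homogeneous 𝒜 X 𝒳 p hh).2 0]
    by_contra h0
    obtain ⟨hP, x, hx⟩ := isAssociatedPrime_iff.1 ((GrInjDim.bassNum_zero_ne_zero_iff X _).1 h0)
    obtain ⟨j, hj⟩ := hT x
    have hle : m.toIdeal ≤ (Ideal.homogeneousCore 𝒜 p).toIdeal := hP.le_of_pow_le fun r hr => by
      rw [hx, Submodule.mem_colon_singleton, Submodule.mem_bot]
      exact hj r hr
    exact hh ((le_antisymm hpm (hle.trans (Ideal.toIdeal_homogeneousCore_le 𝒜 p))) ▸ m.isHomogeneous)

include hm hn in
theorem gorenstein_iff_starInj :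
    _root_.LocCoh.IsGorensteinRing R ↔ ∃ (X : GrLC.GMod.{u} 𝒜) (φ : I.H m n ≃ₗ[R] X.carrier),
      GrLC.IsStarInj 𝒜 X.gr ∧ GrLC.IsGrHom (I.Hgr m n) X.gr φ.toLinearMap := by
  haveI := GrGorenstein.isPrime_of_isStarLocal hm.1
  constructor
  · intro h
    letI := qDecomp 𝒜 (p := (m.toIdeal : Submodule R R)) m.isHomogeneous
    obtain ⟨X, f, hf⟩ := GrMinimalRes.exists_hull (𝒜 := 𝒜) (qGr 𝒜 (m.toIdeal : Submodule R R))
    haveI := h
    obtain ⟨g, φ, hφ⟩ := GrGorenstein.exists_top_equiv m hm n hn I
      (e := f) ({ injective := hf.injective, grHom := hf.grHom, essential := hf.essential,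
                  starInj := hf.starInj })
    exact ⟨shiftGMod 𝒜 X.gr g, φ, isStarInj_shift hf.starInj g, fun k x hx => hφ k x hx⟩
  · rintro ⟨X, φ, hX, -⟩
    obtain ⟨eH⟩ := nonempty_H_equiv I m n
    have hT : _root_.LocCoh.IsPowerTorsion m.toIdeal X.carrier := fun x => by
      obtain ⟨k, hk⟩ := LocCoh.isPowerTorsion_H n (eH (φ.symm x))
      exact ⟨k, fun r hr => (eH.injective.comp φ.symm.injective) (by
        show eH (φ.symm (r • x)) = eH (φ.symm 0)
        rw [map_smul, map_smul, hk r hr, map_zero, map_zero])⟩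
    haveI := injective_localized_of_starInj m hX hT
    haveI := _root_.LocCoh.IsCohenMacaulayRing.isCohenMacaulayLocalRing_localization (R := R) m.toIdeal
    let W := m.toIdeal.primeCompl
    let S := Localization W
    obtain ⟨e3⟩ := LocCoh.nonempty_localized_H_equiv W m.toIdeal R n
    have eS : LocalizedModule W R ≃ₗ[S] S :=
      LinearEquiv.extendScalarsOfIsLocalization W S (IsLocalizedModule.iso W (Algebra.linearMap R S))
    have e2 := LinearEquiv.extendScalarsOfIsLocalization W S
      (IsLocalizedModule.iso W ((LocalizedModule.mkLinearMap W (_root_.LocCoh.H m.toIdeal n R)).comp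
        (φ.symm.trans eH).toLinearMap))
    have e4 := e2.trans (e3.trans (LocCoh.Hequiv (m.toIdeal.map (algebraMap R S)) n eS))
    rw [show m.toIdeal.map (algebraMap R S) = maximalIdeal (Localization.AtPrime m.toIdeal) from
      Localization.AtPrime.map_eq_maximalIdeal] at e4
    have hd : ringKrullDim (Localization.AtPrime m.toIdeal) = n := by
      rw [IsLocalization.AtPrime.ringKrullDim_eq_height m.toIdeal, hn]; rfl
    exact isGorensteinRing_of_localized hm (LocCoh.gorenstein_of_injective hd
      (LocCoh.subsingleton_H_of_cm hd) (Module.Injective.of_ringEquiv (RingEquiv.refl _) e4))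

end topInjective

end Groth.Agent.CAlgH3.GrCanonApps
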