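import Groth.Agent.SegreLC.Compare
import Groth.Agent.GrLib.StarInj
import Groth.Agent.LocCoh.BaseChange
import Groth.Agent.CAlgH3.GrArtinBase
import Mathlib

/-!
Graded local cohomology over a finite extension of graded rings, computed over the base.
-/

set_option autoImplicit false
set_option linter.unusedSectionVars false
set_option linter.style.haveILetI false

universe u

open DirectSum Groth.Agent.GrLib

namespace Groth.Agent.CAlgH3.GrChangeH

/-- Lift of a resolution into a *injective resolution. -/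
theorem exists_lift {R : Type u} [CommRing R] {𝒜 : ℤ → AddSubgroup R} [GradedRing 𝒜]
    (X : ℕ → GrLC.GMod.{u} 𝒜) (dX : ∀ n, (X n).carrier →ₗ[R] (X (n + 1)).carrier)
    (hdX : ∀ n, GrLC.IsGrHom (X n).gr (X (n + 1)).gr (dX n))
    {M : Type u} [AddCommGroup M] [Module R M] {ℳ : ℤ → AddSubgroup M} [Decomposition ℳ]
    [SetLike.GradedSMul 𝒜 ℳ] (ε : M →ₗ[R] (X 0).carrier) (hε : GrLC.IsGrHom ℳ (X 0).gr ε)
    (hεi : Function.Injective ε) (h0 : Function.Exact ε (dX 0))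
    (hex : ∀ n, Function.Exact (dX n) (dX (n + 1))) (F : GrLC.StarInjRes 𝒜 ℳ) :
    ∃ u : ∀ n, (X n).carrier →ₗ[R] (F.X n).carrier,
      (∀ n, GrLC.IsGrHom (X n).gr (F.X n).gr (u n)) ∧ (∀ p, u 0 (ε p) = F.ε p) ∧
        ∀ n x, u (n + 1) (dX n x) = F.d n (u n x) := by
  obtain ⟨u₀, hu₀, e₀⟩ := GrLib.exists_extend (F.starInj 0) hε hεi (g := F.ε) F.ε_grHom
  have hu₀' : ∀ x, dX 0 x = 0 → F.d 0 (u₀ x) = 0 := fun x hx => by
    obtain ⟨p, rfl⟩ := (h0 x).1 hx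
    rw [show u₀ (ε p) = F.ε p from LinearMap.congr_fun e₀ p]
    exact GrLib.d_comp_ε F _
  let L : ℕ → Type u := fun n => { v : (X n).carrier →ₗ[R] (F.X n).carrier //
    GrLC.IsGrHom (X n).gr (F.X n).gr v ∧ ∀ x, dX n x = 0 → F.d n (v x) = 0 }
  have step : ∀ n (v : L n), ∃ v' : L (n + 1), ∀ x, v'.1 (dX n x) = F.d n (v.1 x) := by
    intro n v
    obtain ⟨w, hw, e⟩ := GrLib.exists_factor (F.starInj (n + 1)) (hdX n) (g := F.d n ∘ₗ v.1)
      (fun g m hm => F.d_grHom n g _ (v.2.1 g m hm)) (fun x hx => v.2.2 x hx)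
    refine ⟨⟨w, hw, fun x hx => ?_⟩, LinearMap.congr_fun e⟩
    obtain ⟨y, rfl⟩ := (hex n x).1 hx
    rw [show w (dX n y) = F.d n (v.1 y) from LinearMap.congr_fun e y]
    exact GrLib.d_comp_d F n _
  let v : ∀ n, L n := fun n =>
    Nat.rec (motive := L) ⟨u₀, hu₀, hu₀'⟩ (fun n v => (step n v).choose) n
  exact ⟨fun n => (v n).1, fun n => (v n).2.1, LinearMap.congr_fun e₀,
    fun n => (step n (v n)).choose_spec⟩

variable {R : Type u} [CommRing R] {𝒜 : ℤ → AddSubgroup R} [GradedRing 𝒜] {S : Type u} [CommRing S]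
  [Algebra R S] {𝒜' : ℤ → AddSubgroup S} [GradedRing 𝒜']
  (hf : ∀ j, ∀ r ∈ 𝒜 j, algebraMap R S r ∈ 𝒜' j)

include hf in
/-- A graded `S`-module is a graded `R`-module. -/
theorem gradedSMul_restrict {X : Type u} [AddCommGroup X] [Module S X] [Module R X] [IsScalarTower R S X]
    (𝒳 : ℤ → AddSubgroup X) [SetLike.GradedSMul 𝒜' 𝒳] : SetLike.GradedSMul 𝒜 𝒳 :=
  ⟨fun {i j r x} hr hx => by
    rw [← IsScalarTower.algebraMap_smul S r x, vadd_eq_add]
    exact GrLib.smul_mem (hf i r hr) hx⟩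

variable (S) in
/-- The homogeneous extension of a homogeneous ideal. -/
def extIdeal (m : HomogeneousIdeal 𝒜) : HomogeneousIdeal 𝒜' :=
  ⟨m.toIdeal.map (algebraMap R S), by
    obtain ⟨s, hs⟩ := (Ideal.IsHomogeneous.iff_exists 𝒜 m.toIdeal).1 m.isHomogeneous
    rw [hs, Ideal.map_span]
    refine Ideal.homogeneous_span _ _ ?_
    rintro _ ⟨_, ⟨⟨z, j, hz⟩, -, rfl⟩, rfl⟩
    exact ⟨_, hf j z hz⟩⟩

variable [IsNoetherianRing R] [IsNoetherianRing S] {m : HomogeneousIdeal 𝒜} {m' : HomogeneousIdeal 𝒜'}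
  (hle : m.toIdeal.map (algebraMap R S) ≤ m'.toIdeal) {N : ℕ}
  (hpow : m'.toIdeal ^ N ≤ m.toIdeal.map (algebraMap R S))

include hle hpow in
theorem mem_gam_iff {X : Type u} [AddCommGroup X] [Module S X] [Module R X] [IsScalarTower R S X] (x : X) :
    x ∈ GrLC.gam m.toIdeal X ↔ x ∈ GrLC.gam m'.toIdeal X := by
  rw [← GrArtinBase.gam_congr hle hpow X]
  exact (LocCoh.mem_powTorsion_map_iff (R := R) (R' := S) m.toIdeal x).symm

include hf in
theorem acyc_restrict {X : Type u} [AddCommGroup X] [Module S X] [Module R X] [IsScalarTower R S X]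
    {𝒳 : ℤ → AddSubgroup X} [Decomposition 𝒳] [SetLike.GradedSMul 𝒜' 𝒳] (hX : GrLC.IsStarInj 𝒜' 𝒳) :
    SegreLC.Acyc m.toIdeal X := fun i hi => by
  obtain ⟨φ, -⟩ := LocCoh.exists_H_independence R S m.toIdeal i X
  haveI : Subsingleton (_root_.LocCoh.H (m.toIdeal.map (algebraMap R S)) i X) :=
    subsingleton_H_of_isStarInj hX (extIdeal S hf m) hi
  exact φ.symm.toEquiv.subsingleton

variable {M : Type u} [AddCommGroup M] [Module S M] [Module R M] [IsScalarTower R S M]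
  {ℳ : ℤ → AddSubgroup M} [Decomposition ℳ] [SetLike.GradedSMul 𝒜' ℳ] [SetLike.GradedSMul 𝒜 ℳ]
  (E : GrLC.StarInjRes 𝒜' ℳ) (F : GrLC.StarInjRes 𝒜 ℳ)

include hf hle hpow in
/-- Graded local cohomology does not depend on the base ring. -/
theorem exists_change (p : ℕ) :
    ∃ Ψ : E.H m' p →+ F.H m p, Function.Bijective Ψ ∧
      (∀ (r : R) (x : E.H m' p), Ψ (algebraMap R S r • x) = r • Ψ x) ∧
      ∀ g, ∀ x ∈ E.Hgr m' p g, Ψ x ∈ F.Hgr m p g := by
  classical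
  letI : ∀ n, Module R (E.X n).carrier := fun n => Module.compHom _ (algebraMap R S)
  haveI : ∀ n, IsScalarTower R S (E.X n).carrier := fun n =>
    IsScalarTower.of_algebraMap_smul fun _ _ => rfl
  haveI : ∀ n, SetLike.GradedSMul 𝒜 (E.X n).gr := fun n => gradedSMul_restrict hf _
  let X : ℕ → GrLC.GMod.{u} 𝒜 := fun n => GrLC.GMod.of 𝒜 (E.X n).carrier (E.X n).gr
  let P : GrLC.GMod.{u} 𝒜 := GrLC.GMod.of 𝒜 M ℳ
  let dX : ∀ n, (E.X n).carrier →ₗ[R] (E.X (n + 1)).carrier := fun n =>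
    { toFun := E.d n
      map_add' := map_add (E.d n)
      map_smul' := fun r x => map_smul (E.d n) (algebraMap R S r) x }
  let εX : M →ₗ[R] (E.X 0).carrier :=
    { toFun := E.ε
      map_add' := map_add E.ε
      map_smul' := fun r x => by
        show E.ε (r • x) = algebraMap R S r • E.ε x
        rw [← map_smul, IsScalarTower.algebraMap_smul] }
  have h0 : Function.Exact εX (dX 0) := fun x =>
    ⟨fun hx => exists_ε_eq E hx, fun ⟨y, hy⟩ => hy ▸ d_comp_ε E y⟩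
  have hex : ∀ n, Function.Exact (dX n) (dX (n + 1)) := fun n x =>
    ⟨fun hx => exists_d_eq E n hx, fun ⟨y, hy⟩ => hy ▸ d_comp_d E n y⟩
  obtain ⟨u, hu, hu₀, hud⟩ : ∃ u : ∀ n, (E.X n).carrier →ₗ[R] (F.X n).carrier,
      (∀ n, GrLC.IsGrHom (E.X n).gr (F.X n).gr (u n)) ∧ (∀ p, u 0 (εX p) = F.ε p) ∧
        ∀ n x, u (n + 1) (dX n x) = F.d n (u n x) := exists_lift X dX (fun n => E.d_grHom n) εX E.ε_grHom E.ε_injective
    h0 hex F
  obtain ⟨c1, c2, c3, c4⟩ := SegreLC.gam_compare (I := m.toIdeal) (L := fun n => (E.X n).carrier)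
    (εL := εX) (dL := dX) E.ε_injective h0 hex (fun n => acyc_restrict hf (E.starInj n))
    (E := fun n => (F.X n).carrier) (εE := F.ε) (dE := F.d) F.ε_injective
    (fun x => ⟨fun hx => exists_ε_eq F hx, fun ⟨y, hy⟩ => hy ▸ d_comp_ε F y⟩)
    (fun n x => ⟨exists_d_eq F n, fun ⟨y, hy⟩ => hy ▸ d_comp_d F n y⟩)
    (fun n i hi => subsingleton_H_of_isStarInj (F.starInj n) m hi) hu₀ hud
  have hgam : ∀ n (x : (E.X n).carrier), x ∈ GrLC.gam m.toIdeal (E.X n).carrier ↔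
      x ∈ GrLC.gam m'.toIdeal (E.X n).carrier := fun n x => mem_gam_iff hle hpow x
  have hcoc : ∀ (z : E.cocyc m' p), u p z.1 ∈ F.cocyc m p := fun z =>
    ⟨map_gam_le (u p) (Submodule.mem_map_of_mem ((hgam p z.1).2 z.2.1)), by
      refine LinearMap.mem_ker.2 ?_
      rw [← hud, show dX p z.1 = 0 from LinearMap.mem_ker.1 z.2.2, map_zero]⟩
  let ψ₀ : E.cocyc m' p →+ F.H m p :=
    AddMonoidHom.mk' (fun z => F.toH m p ⟨u p z.1, hcoc z⟩) fun z w => by
      rw [← map_add]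
      exact congrArg _ (Subtype.ext (map_add (u p) z.1 w.1))
  have hker : (E.toH m' p).toAddMonoidHom.ker ≤ ψ₀.ker := fun z hz => by
    have hz' := (toH_eq_zero m').1 (AddMonoidHom.mem_ker.1 hz)
    refine AddMonoidHom.mem_ker.2 ((toH_eq_zero m).2 ?_)
    show u p z.1 ∈ F.cobdy m p
    cases p with
    | zero =>
      rw [show (z.1 : (E.X 0).carrier) = 0 from (Submodule.mem_bot S).1 hz', map_zero]
      exact zero_mem _
    | succ n =>
      obtain ⟨w, hw, hwz⟩ := hz'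
      rw [← hwz, show u (n + 1) (E.d n w) = F.d n (u n w) from hud n w]
      exact Submodule.mem_map_of_mem (map_gam_le (u n) (Submodule.mem_map_of_mem ((hgam n w).2 hw)))
  let Ψ : E.H m' p →+ F.H m p :=
    AddMonoidHom.liftOfSurjective (E.toH m' p).toAddMonoidHom (toH_surjective m' p) ⟨ψ₀, hker⟩
  have hΨ : ∀ z, Ψ (E.toH m' p z) = F.toH m p ⟨u p z.1, hcoc z⟩ := fun z =>
    AddMonoidHom.liftOfRightInverse_comp_apply _ _ _ ⟨ψ₀, hker⟩ z
  refine ⟨Ψ, ⟨(injective_iff_map_eq_zero Ψ).2 fun x hx => ?_, fun y => ?_⟩, fun r x => ?_, ?_⟩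
  · obtain ⟨z, rfl⟩ := toH_surjective m' p x
    rw [hΨ, toH_eq_zero] at hx
    rw [toH_eq_zero]
    cases p with
    | zero =>
      exact (Submodule.mem_bot S).2 (c1 z.1 (LinearMap.mem_ker.1 z.2.2) ((Submodule.mem_bot R).1 hx))
    | succ n =>
      obtain ⟨w, hw, hwz⟩ := hx
      obtain ⟨x, hx, hxz⟩ := c2 n z.1 ((hgam _ _).2 z.2.1) (LinearMap.mem_ker.1 z.2.2) w hw hwz
      exact ⟨x, (hgam n x).1 hx, hxz⟩
  · obtain ⟨z, rfl⟩ := toH_surjective m p y
    cases p with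
    | zero =>
      obtain ⟨x, hx, hdx, hux⟩ := c3 z.1 z.2.1 (LinearMap.mem_ker.1 z.2.2)
      exact ⟨E.toH m' 0 ⟨x, (hgam 0 x).1 hx, LinearMap.mem_ker.2 hdx⟩,
        (hΨ _).trans (congrArg _ (Subtype.ext hux))⟩
    | succ n =>
      obtain ⟨x, hx, hdx, y, hy, hxy⟩ := c4 n z.1 z.2.1 (LinearMap.mem_ker.1 z.2.2)
      refine ⟨E.toH m' (n + 1) ⟨x, (hgam _ x).1 hx, LinearMap.mem_ker.2 hdx⟩,
        (hΨ _).trans ((Submodule.Quotient.eq _).2 ?_)⟩
      show u (n + 1) x - z.1 ∈ F.cobdy m (n + 1)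
      rw [← hxy, sub_add_cancel_left, ← map_neg]
      exact Submodule.mem_map_of_mem (neg_mem hy)
  · obtain ⟨z, rfl⟩ := toH_surjective m' p x
    rw [← map_smul, hΨ, hΨ, ← map_smul]
    refine congrArg _ (Subtype.ext ?_)
    show u p (algebraMap R S r • z.1) = r • u p z.1
    exact map_smul (u p) r z.1
  · rintro g _ ⟨z, hz, rfl⟩
    exact ⟨⟨u p z.1, hcoc z⟩, hu p g _ hz, (hΨ z).symm⟩

end Groth.Agent.CAlgH3.GrChangeH
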