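import Groth.Agent.CAlgH3.GrGDual
import Groth.Agent.CAlgH3.ExtBaseChange
import Groth.Agent.GrDualLib.TopTensor
import Groth.Agent.GrLib.LES
import Mathlib

/-!
Graded duality over a graded ring with a canonical module: `Ext^c(M, C)` is the graded dual of
`H^{n-c}_m(M)`.
-/

set_option autoImplicit false
set_option linter.unusedSectionVars false
set_option linter.style.haveILetI false

universe u

open DirectSum Groth.Agent.GrLib CategoryTheory Abelian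

namespace Groth.Agent.CAlgH3.GrExtDual

open GrGDual GrDualLib
open Groth.Agent.CAlgH3 (extZeroEquiv exists_ext_one_presentation nonempty_ext_succ_equiv)

variable {R : Type u} [CommRing R] [IsNoetherianRing R] {𝒜 : ℤ → AddSubgroup R} [GradedRing 𝒜]
  (m : HomogeneousIdeal 𝒜) {n : ℕ} (hn : ringKrullDim R = n)
  {E' : Type u} [AddCommGroup E'] [Module R E'] {𝓔 : ℤ → AddSubgroup E'} [Decomposition 𝓔]
  [SetLike.GradedSMul 𝒜 𝓔] (hinj : GrLC.IsStarInj 𝒜 𝓔)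
  (I : GrLC.StarInjRes 𝒜 𝒜) {C : Type u} [AddCommGroup C] [Module R C] {𝒞 : ℤ → AddSubgroup C}
  [Decomposition 𝒞] [SetLike.GradedSMul 𝒜 𝒞] {P : C →ₗ[R] I.H m n →ₗ[R] E'}
  (hP : IsDual 𝒞 (I.Hgr m n) 𝓔 P)

section rep

variable {M : Type u} [AddCommGroup M] [Module R M] {ℳ : ℤ → AddSubgroup M} [Decomposition ℳ]

omit [IsNoetherianRing R] in
/-- Homogeneous families of homogeneous maps are represented. -/
theorem exists_rep_hom {X : Type u} [AddCommGroup X] [Module R X] {𝒳 : ℤ → AddSubgroup X}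
    {P' : C →ₗ[R] X →ₗ[R] E'} (hP' : IsDual 𝒞 𝒳 𝓔 P') (F : M →ₗ[R] X →ₗ[R] E') (j : ℤ)
    (hF : ∀ a, ∀ z ∈ ℳ a, GrLC.IsGrHomDeg 𝒳 𝓔 (F z) (a + j)) :
    ∃ φ : M →ₗ[R] C, GrLC.IsGrHomDeg ℳ 𝒞 φ j ∧ ∀ z, P' (φ z) = F z := by
  have hall : ∀ y, F y ∈ LinearMap.range P' := fun y =>
    GrLib.induction ℳ (motive := fun y => F y ∈ LinearMap.range P') (by simp)
      (fun a z hz => let ⟨c, _, hc⟩ := hP'.surj (a + j) (F z) (hF a z hz); ⟨c, hc⟩)
      (fun a b ha hb => by rw [map_add]; exact add_mem ha hb) y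
  let φ : M →ₗ[R] C := (LinearEquiv.ofInjective P' hP'.inj).symm.toLinearMap ∘ₗ F.codRestrict _ hall
  have hφ : ∀ z, P' (φ z) = F z := fun z =>
    congrArg Subtype.val ((LinearEquiv.ofInjective P' hP'.inj).apply_symm_apply ⟨F z, hall z⟩)
  refine ⟨φ, fun a z hz => ?_, hφ⟩
  obtain ⟨d, hd, hd'⟩ := hP'.surj (a + j) (F z) (hF a z hz)
  rw [show φ z = d from hP'.inj ((hφ z).trans hd'.symm)]
  exact hd

end rep

section hom

variable {M : Type u} [AddCommGroup M] [Module R M] [Module.Finite R M] {ℳ : ℤ → AddSubgroup M}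
  [Decomposition ℳ] [SetLike.GradedSMul 𝒜 ℳ] (EM : GrLC.StarInjRes 𝒜 ℳ)

include hn hP in
/-- `Hom(M, C)` is the graded dual of `H^n_m(M)`. -/
theorem exists_homDual :
    ∃ Q : (M →ₗ[R] C) →ₗ[R] (EM.H m n →ₗ[R] E'), Function.Injective Q ∧
      (∀ φ x h, Q φ (mu EM I m n x h) = P (φ x) h) ∧
      (∀ j φ, GrLC.IsGrHomDeg ℳ 𝒞 φ j → GrLC.IsGrHomDeg (EM.Hgr m n) 𝓔 (Q φ) j) ∧
      (∀ j f, GrLC.IsGrHomDeg (EM.Hgr m n) 𝓔 f j → ∃ φ, GrLC.IsGrHomDeg ℳ 𝒞 φ j ∧ Q φ = f) ∧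
      LinearMap.range Q = finDeg (EM.Hgr m n) 𝓔 := by
  classical
  obtain ⟨t, x, g, hx, hspan⟩ := exists_hom_generators (ℳ := ℳ) 𝒜
  obtain ⟨μ, hμ⟩ : ∃ μ : M →ₗ[R] (I.H m n →ₗ[R] EM.H m n), μ = mu EM I m n := ⟨_, rfl⟩
  rw [← hμ]
  let T : (Fin t → I.H m n) →ₗ[R] EM.H m n := ∑ i, μ (x i) ∘ₗ LinearMap.proj i
  have hT : ∀ h, T h = ∑ i, μ (x i) (h i) := fun h => by simp [T]
  have hTs : Function.Surjective T := fun z => by
    obtain ⟨h, hh⟩ := mu_spans EM I m hn hx hspan z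
    exact ⟨h, (hT h).trans (by rw [hμ]; exact hh)⟩
  have hdef : ∀ φ : M →ₗ[R] C, ∀ h h', T h = T h' →
      ∑ i, P (φ (x i)) (h i) = ∑ i, P (φ (x i)) (h' i) := by
    intro φ h h' e
    rw [← sub_eq_zero, ← Finset.sum_sub_distrib]
    have e0 : ∑ i, μ (x i) ((h - h') i) = 0 := by rw [← hT, map_sub, e, sub_self]
    obtain ⟨s, v, w, hv, hw⟩ := mu_relations EM I m hn hx hspan (by rw [← hμ]; exact e0)
    have e1 : ∀ i, P (φ (x i)) (h i) - P (φ (x i)) (h' i) = ∑ l, P (φ (v l i • x i)) (w l) := fun i => by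
      rw [← map_sub, ← Pi.sub_apply, hw i, map_sum]
      exact Finset.sum_congr rfl fun l _ => by simp
    simp only [e1]
    rw [Finset.sum_comm]
    refine Finset.sum_eq_zero fun l _ => ?_
    rw [← LinearMap.sum_apply, ← map_sum, ← map_sum, hv l, map_zero, map_zero, LinearMap.zero_apply]
  choose σ hσ using hTs
  let q : (M →ₗ[R] C) → EM.H m n → E' := fun φ z => ∑ i, P (φ (x i)) (σ z i)
  have hq : ∀ φ h, q φ (T h) = ∑ i, P (φ (x i)) (h i) := fun φ h => hdef φ _ _ (hσ _)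
  let Q : (M →ₗ[R] C) →ₗ[R] (EM.H m n →ₗ[R] E') := LinearMap.mk₂ R q
    (fun φ φ' z => by simp [q, Finset.sum_add_distrib])
    (fun r φ z => by simp [q, Finset.smul_sum])
    (fun φ z z' => by
      conv_lhs => rw [← hσ z, ← hσ z', ← map_add, hq]
      simp [q, Finset.sum_add_distrib])
    (fun r φ z => by
      conv_lhs => rw [← hσ z, ← map_smul, hq]
      simp [q, Finset.smul_sum])
  have hQT : ∀ φ h, Q φ (T h) = ∑ i, P (φ (x i)) (h i) := hq
  have hQx : ∀ φ i w, Q φ (μ (x i) w) = P (φ (x i)) w := by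
    intro φ i w
    have h1 : T (Pi.single i w) = μ (x i) w := by
      rw [hT, Finset.sum_eq_single i (fun l _ hl => by rw [Pi.single_eq_of_ne hl, map_zero])
        (fun hi => absurd (Finset.mem_univ i) hi), Pi.single_eq_same]
    rw [← h1, hQT, Finset.sum_eq_single i (fun l _ hl => by rw [Pi.single_eq_of_ne hl, map_zero])
      (fun hi => absurd (Finset.mem_univ i) hi), Pi.single_eq_same]
  have hQμ : ∀ φ y w, Q φ (μ y w) = P (φ y) w := by
    intro φ y w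
    have hy : y ∈ Submodule.span R (Set.range x) := hspan ▸ trivial
    induction hy using Submodule.span_induction generalizing w with
    | mem y hy => obtain ⟨i, rfl⟩ := hy; exact hQx φ i w
    | zero => simp
    | add y z _ _ hy hz => simp [hy, hz]
    | smul r y _ ih => simp [ih]
  have hinjQ : Function.Injective Q := fun φ φ' e => LinearMap.ext fun y =>
    hP.inj (LinearMap.ext fun w => by rw [← hQμ, ← hQμ, e])
  letI := Hdecomp I m n
  letI := Hdecomp EM m n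
  have hdeg : ∀ j φ, GrLC.IsGrHomDeg ℳ 𝒞 φ j → GrLC.IsGrHomDeg (EM.Hgr m n) 𝓔 (Q φ) j := by
    intro j φ hφ e z hz
    obtain ⟨h, rfl⟩ : ∃ h, T h = z := ⟨σ z, hσ z⟩
    rw [← proj_of_mem hz, hT, map_sum, map_sum]
    refine sum_mem fun i _ => ?_
    have hd : GrLC.IsGrHomDeg (I.Hgr m n) (EM.Hgr m n) (μ (x i)) (g i) := fun k w hw => hμ ▸ mu_mem EM I m n (hx i) hw
    rw [show e = (e - g i) + g i by ring, proj_map_deg hd, hQμ]
    have := hP.deg (g i + j) _ (hφ (g i) _ (hx i)) (e - g i) _ (proj_mem (I.Hgr m n) (e - g i) (h i))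
    rwa [show e - g i + (g i + j) = e - g i + g i + j by ring] at this
  have hsurj : ∀ j f, GrLC.IsGrHomDeg (EM.Hgr m n) 𝓔 f j → ∃ φ, GrLC.IsGrHomDeg ℳ 𝒞 φ j ∧ Q φ = f := by
    intro j f hf
    obtain ⟨φ, hφ, hφ'⟩ := exists_rep_hom hP (LinearMap.llcomp R (I.H m n) (EM.H m n) E' f ∘ₗ μ) j
      fun a z hz k w hw => by
        have := hf (k + a) _ (hμ ▸ mu_mem EM I m n hz hw : μ z w ∈ EM.Hgr m n (k + a))
        rwa [add_assoc] at this
    refine ⟨φ, hφ, LinearMap.ext fun z => ?_⟩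
    obtain ⟨h, rfl⟩ : ∃ h, T h = z := ⟨σ z, hσ z⟩
    rw [hQT, hT, map_sum]
    refine Finset.sum_congr rfl fun i _ => ?_
    rw [hφ']
    rfl
  refine ⟨Q, hinjQ, hQμ, hdeg, hsurj, le_antisymm ?_ (Submodule.span_le.2 ?_)⟩
  · rintro _ ⟨φ, rfl⟩
    obtain ⟨S, hS⟩ := exists_sum_homComponent (ℳ := ℳ) (𝒩 := 𝒞) 𝒜 φ
    rw [hS, map_sum]
    exact sum_mem fun j _ => Submodule.subset_span ⟨j, hdeg j _ (homComponent_deg 𝒜 φ j)⟩
  · rintro f ⟨j, hf⟩
    obtain ⟨φ, -, hφ⟩ := hsurj j f hf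
    exact ⟨φ, hφ⟩

end hom

/-- Homogeneous maps of different degrees are independent. -/
theorem eq_zero_of_sum {X : Type u} [AddCommGroup X] [Module R X] {𝒳 : ℤ → AddSubgroup X}
    [Decomposition 𝒳] {S : Finset ℤ} {f : ℤ → (X →ₗ[R] E')}
    (hf : ∀ j ∈ S, GrLC.IsGrHomDeg 𝒳 𝓔 (f j) j) (h : ∑ j ∈ S, f j = 0) : ∀ j ∈ S, f j = 0 := by
  intro j hj
  refine linearMap_ext 𝒳 fun g x hx => ?_
  have h1 : proj 𝓔 (g + j) ((∑ i ∈ S, f i) x) = f j x := by
    rw [LinearMap.sum_apply, map_sum, Finset.sum_eq_single_of_mem j hj fun i hi hij =>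
      proj_of_mem_ne (hf i hi g x hx) (fun e => hij (add_left_cancel e)), proj_of_mem (hf j hj g x hx)]
  rw [← h1, h, LinearMap.zero_apply, map_zero]

/-- Two presentations with equal kernels and images. -/
theorem nonempty_equiv_of_presentation {A Z D W : Type u} [AddCommGroup A] [Module R A] [AddCommGroup Z]
    [Module R Z] [AddCommGroup D] [Module R D] [AddCommGroup W] [Module R W] (PD : D →ₗ[R] Z)
    (hPD : Function.Injective PD) (ℓ : A →ₗ[R] Z) (q : A →ₗ[R] W) (hq : Function.Surjective q)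
    (hr : LinearMap.range ℓ = LinearMap.range PD) (hk : LinearMap.ker ℓ = LinearMap.ker q) :
    Nonempty (D ≃ₗ[R] W) :=
  ⟨((LinearMap.quotKerEquivOfSurjective q hq).symm.trans ((Submodule.quotEquivOfEq _ _ hk.symm).trans
    (ℓ.quotKerEquivRange.trans ((LinearEquiv.ofEq _ _ hr).trans (LinearEquiv.ofInjective PD hPD).symm)))).symm⟩

section connecting

variable {N : Type u} [AddCommGroup N] [Module R N] [Module.Finite R N] {𝒩 : ℤ → AddSubgroup N}
  [Decomposition 𝒩] [SetLike.GradedSMul 𝒜 𝒩] (K : GrLC.StarInjRes 𝒜 𝒩)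
  {F : Type u} [AddCommGroup F] [Module R F] [Module.Finite R F] {ℱ : ℤ → AddSubgroup F}
  [Decomposition ℱ] [SetLike.GradedSMul 𝒜 ℱ] (G : GrLC.StarInjRes 𝒜 ℱ)

include hn hinj hP in
/-- Dual of the connecting map in top degree. -/
theorem exists_connecting {ι : N →ₗ[R] F} (hι : GrLC.IsGrHomDeg 𝒩 ℱ ι 0)
    {M : Type u} [AddCommGroup M] [Module R M] {ℳ : ℤ → AddSubgroup M} [Decomposition ℳ]
    [SetLike.GradedSMul 𝒜 ℳ] {EM : GrLC.StarInjRes 𝒜 ℳ} {p : ℕ} (δ : EM.H m p →ₗ[R] K.H m n)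
    (hδ : GrLC.IsGrHom (EM.Hgr m p) (K.Hgr m n) δ) (hδi : Function.Injective δ)
    (hex : Function.Exact δ (mapH K G m hι n)) :
    ∃ ℓ : (N →ₗ[R] C) →ₗ[R] (EM.H m p →ₗ[R] E'),
      LinearMap.range ℓ = finDeg (EM.Hgr m p) 𝓔 ∧ LinearMap.ker ℓ = LinearMap.range (ι.lcomp R C) := by
  classical
  letI := Hdecomp EM m p
  letI := Hdecomp K m n
  letI := Hdecomp G m n
  obtain ⟨QK, hQKi, hQKμ, hQKd, hQKs, -⟩ := exists_homDual m hn I hP K
  obtain ⟨QG, -, hQGμ, -, hQGs, -⟩ := exists_homDual m hn I hP G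
  obtain ⟨s, v, gv, hv, hvspan⟩ := exists_hom_generators (ℳ := 𝒩) 𝒜
  have hnat : ∀ ψ : F →ₗ[R] C, QK (ψ ∘ₗ ι) = QG ψ ∘ₗ mapH K G m hι n := by
    intro ψ
    refine LinearMap.ext fun z => ?_
    obtain ⟨h, rfl⟩ := mu_spans K I m hn hv hvspan z
    simp only [map_sum]
    refine Finset.sum_congr rfl fun l _ => ?_
    rw [hQKμ, LinearMap.comp_apply (QG ψ), mapH_mu K G I m n hι, hQGμ]
    rfl
  let ℓ : (N →ₗ[R] C) →ₗ[R] (EM.H m p →ₗ[R] E') := LinearMap.lcomp R E' δ ∘ₗ QK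
  have hℓ : ∀ φ, ℓ φ = QK φ ∘ₗ δ := fun φ => rfl
  have hℓd : ∀ j φ, GrLC.IsGrHomDeg 𝒩 𝒞 φ j → GrLC.IsGrHomDeg (EM.Hgr m p) 𝓔 (ℓ φ) j :=
    fun j φ hφ k z hz => hQKd j φ hφ k _ (hδ k z hz)
  refine ⟨ℓ, le_antisymm ?_ (Submodule.span_le.2 ?_), le_antisymm (fun φ hφ => ?_) ?_⟩
  · rintro _ ⟨φ, rfl⟩
    obtain ⟨S, hS⟩ := exists_sum_homComponent (ℳ := 𝒩) (𝒩 := 𝒞) 𝒜 φ
    rw [hS, map_sum]
    exact sum_mem fun j _ => Submodule.subset_span ⟨j, hℓd j _ (homComponent_deg 𝒜 φ j)⟩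
  · rintro f ⟨j, hf⟩
    obtain ⟨f', hf', hff⟩ := exists_extend_deg (𝒜 := 𝒜) hinj hδ hδi hf
    obtain ⟨φ, -, hφ⟩ := hQKs j f' hf'
    exact ⟨φ, by rw [hℓ, hφ, hff]⟩
  · obtain ⟨S, hS⟩ := exists_sum_homComponent (ℳ := 𝒩) (𝒩 := 𝒞) 𝒜 φ
    have hz := eq_zero_of_sum (𝓔 := 𝓔) (𝒳 := EM.Hgr m p) (S := S)
      (f := fun j => ℓ (homComponent 𝒜 _ _ φ j))
      (fun j _ => hℓd j _ (homComponent_deg 𝒜 φ j)) (by rw [← map_sum, ← hS]; exact hφ)
    rw [hS]
    refine sum_mem fun j hj => ?_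
    have h0 := hz j hj
    obtain ⟨f', hf', hff⟩ := exists_factor_deg (𝒜 := 𝒜) hinj
      (grHomDeg_zero_iff.1 (mapH_grHomDeg (E := K) (F := G) m hι n))
      (hQKd j _ (homComponent_deg 𝒜 φ j)) fun z hz' => by
        obtain ⟨y, rfl⟩ := (hex z).1 hz'
        exact LinearMap.congr_fun h0 y
    obtain ⟨ψ, -, hψ⟩ := hQGs j f' hf'
    exact ⟨ψ, hQKi ((hnat ψ).trans (by rw [hψ, hff]))⟩
  · rintro _ ⟨ψ, rfl⟩
    rw [LinearMap.mem_ker, hℓ]
    refine LinearMap.ext fun y => ?_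
    show QK (ψ ∘ₗ ι) (δ y) = 0
    rw [hnat, LinearMap.comp_apply, hex.apply_apply_eq_zero y, map_zero]

end connecting

section shift

variable (hvan : ∀ (i t : ℕ), i < n → Subsingleton (_root_.LocCoh.H m.toIdeal i (Fin t → R)))

include hn hinj hP hvan in
/-- Graded duality. -/
theorem nonempty_ext_equiv : ∀ (c p : ℕ), p + c = n →
    ∀ (M : Type u) [AddCommGroup M] [Module R M] [Module.Finite R M] (ℳ : ℤ → AddSubgroup M)
      [Decomposition ℳ] [SetLike.GradedSMul 𝒜 ℳ] (EM : GrLC.StarInjRes 𝒜 ℳ)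
      (D : Type u) [AddCommGroup D] [Module R D] (𝒟 : ℤ → AddSubgroup D) [Decomposition 𝒟]
      (PD : D →ₗ[R] EM.H m p →ₗ[R] E'), IsDual 𝒟 (EM.Hgr m p) 𝓔 PD →
      Nonempty (D ≃ₗ[R] Ext.{u} (ModuleCat.of R M) (ModuleCat.of R C) c) := by
  classical
  intro c
  induction c with
  | zero =>
    intro p hp M _ _ _ ℳ _ _ EM D _ _ 𝒟 _ PD hPD
    obtain rfl : p = n := by omega
    obtain ⟨Q, hQi, -, -, -, hQr⟩ := exists_homDual m hn I hP EM
    obtain ⟨e⟩ := GrGDual.nonempty_equiv hPD.inj hQi (hPD.range_eq.trans hQr.symm)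
    exact ⟨e.trans (extZeroEquiv C).symm⟩
  | succ c ih =>
    intro p hp M _ _ _ ℳ _ _ EM D _ _ 𝒟 _ PD hPD
    obtain ⟨t, x, g, hx, hspan⟩ := exists_hom_generators (ℳ := ℳ) 𝒜
    letI := freeDecomp 𝒜 g
    set π := Fintype.linearCombination R x
    have hπ := gens_grHom (𝒜 := 𝒜) hx
    have hπs := gens_surjective (R := R) (x := x) hspan
    have hK : (LinearMap.ker π).IsHomogeneous (freeGr 𝒜 g) := isHomogeneous_ker hπ
    letI := subDecomp (freeGr 𝒜 g) hK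
    haveI : Module.Finite R (LinearMap.ker π) := Module.Finite.iff_fg.2 (IsNoetherian.noetherian _)
    let G : GrLC.StarInjRes 𝒜 (freeGr 𝒜 g) := starRes 𝒜 (freeGr 𝒜 g)
    let K : GrLC.StarInjRes 𝒜 (subGr (freeGr 𝒜 g) (LinearMap.ker π)) := starRes 𝒜 _
    obtain ⟨δ, hδ, -, hex⟩ := exists_les K EM G m (subtype_grHom _) (Submodule.injective_subtype _) hπ
      hπs (LinearMap.exact_subtype_ker_map π)
    have hG : ∀ i, i < n → Subsingleton (G.H m i) := fun i hi => by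
      haveI := hvan i t hi
      obtain ⟨e⟩ := nonempty_H_equiv G m i
      exact e.toEquiv.subsingleton
    have hδi : Function.Injective (δ p) := by
      haveI := hG p (by omega)
      refine (injective_iff_map_eq_zero _).2 fun y hy => ?_
      obtain ⟨w, rfl⟩ := ((hex p).2.1 y).1 hy
      rw [Subsingleton.elim w 0, map_zero]
    letI := Hdecomp EM m p
    letI := Hdecomp K m (p + 1)
    cases c with
    | zero =>
      obtain rfl : p + 1 = n := by omega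
      obtain ⟨ℓ, hℓr, hℓk⟩ := exists_connecting m hn hinj I hP K G (grHomDeg_zero_iff.2 (subtype_grHom _))
        (δ p) (hδ p) hδi (hex p).2.2
      obtain ⟨q, hq, hqk⟩ := exists_ext_one_presentation C
        (Submodule.injective_subtype (LinearMap.ker π)) hπs (LinearMap.exact_subtype_ker_map π)
      exact nonempty_equiv_of_presentation PD hPD.inj ℓ q hq (hℓr.trans hPD.range_eq.symm) (hℓk.trans hqk.symm)
    | succ c =>
      have hδs : Function.Surjective (δ p) := fun z => by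
        haveI := hG (p + 1) (by omega)
        exact ((hex p).2.2 z).1 (Subsingleton.elim _ _)
      let e := LinearEquiv.ofBijective (δ p) ⟨hδi, hδs⟩
      obtain ⟨P', hP', -⟩ := hPD.comp_equiv e.symm
        (fun k z hz => by
          obtain ⟨y, hy, hyz⟩ := exists_preimage (grHomDeg_zero_iff.2 (hδ p)) (g := k) (y := z)
            (by rwa [add_zero]) (hδs z)
          rw [← hyz, show e.symm (δ p y) = y from e.symm_apply_apply y]
          exact hy)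
        (fun k y hy => hδ p k y hy)
      obtain ⟨e₁⟩ := ih (p + 1) (by omega) (LinearMap.ker π) _ K D 𝒟 P' hP'
      obtain ⟨e₂⟩ := Groth.Agent.CAlgH3.nonempty_ext_succ_equiv C
        (Submodule.injective_subtype (LinearMap.ker π)) hπs (LinearMap.exact_subtype_ker_map π) c
      exact ⟨e₁.trans e₂⟩

end shift

end Groth.Agent.CAlgH3.GrExtDual
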