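import Groth.Agent.CAlgH3.GrGDual
import Groth.Agent.CAlgH3.GrChangeH
import Groth.Agent.CAlgH3.GrExtDual
import Groth.Agent.LocCoh.Annihilator
import Groth.Agent.LocCoh.DepthLocal
import Mathlib

/-!
Change of rings for graded canonical modules.
-/

set_option autoImplicit false
set_option linter.unusedSectionVars false
set_option linter.style.haveILetI false

universe u

open DirectSum Groth.Agent.GrLib CategoryTheory Abelian

namespace Groth.Agent.CAlgH3.GrCanonChange

theorem ringKrullDim_le_of_finite (R S : Type u) [CommRing R] [CommRing S] [Algebra R S] [Module.Finite R S] :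
    ringKrullDim S ≤ ringKrullDim R := by
  refine Order.krullDim_le_of_strictMono (PrimeSpectrum.comap (algebraMap R S)) fun p q hpq => ?_
  obtain ⟨hle, hne⟩ := lt_iff_le_and_ne.1 hpq
  obtain ⟨x, hxq, hxp⟩ : ∃ x ∈ q.asIdeal, x ∉ p.asIdeal := Set.not_subset.1 fun h =>
    hne (PrimeSpectrum.ext (le_antisymm hle h))
  exact Ideal.comap_lt_comap_of_integral_mem_sdiff (R := R) (hI := p.isPrime) hle ⟨hxq, hxp⟩
    (Algebra.IsIntegral.isIntegral x)

variable {R : Type u} [CommRing R] {𝒜 : ℤ → AddSubgroup R} [GradedRing 𝒜] {S : Type u} [CommRing S]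
  [Algebra R S] [Module.Finite R S] {𝒜' : ℤ → AddSubgroup S} [GradedRing 𝒜']
  (hf : ∀ j, ∀ r ∈ 𝒜 j, algebraMap R S r ∈ 𝒜' j)

include hf in
/-- Homogeneous elements of positive degree are nilpotent modulo the extended irrelevant ideal. -/
theorem exists_pow_le (hposA : ∀ j : ℤ, j < 0 → 𝒜 j = ⊥) [IsNoetherianRing S]
    {m : HomogeneousIdeal 𝒜} {m' : HomogeneousIdeal 𝒜'}
    (hmsp : m.toIdeal = Ideal.span (⋃ n ∈ Set.Ioi (0 : ℤ), (𝒜 n : Set R)))
    (hm'sp : m'.toIdeal = Ideal.span (⋃ j ∈ Set.Ioi (0 : ℤ), (𝒜' j : Set S))) :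
    m.toIdeal.map (algebraMap R S) ≤ m'.toIdeal ∧
      ∃ N : ℕ, m'.toIdeal ^ N ≤ m.toIdeal.map (algebraMap R S) := by
  classical
  constructor
  · rw [hmsp, hm'sp, Ideal.map_span, Ideal.span_le]
    rintro _ ⟨r, hr, rfl⟩
    obtain ⟨j, hj, hrj⟩ := Set.mem_iUnion₂.1 hr
    exact Ideal.subset_span (Set.mem_iUnion₂.2 ⟨j, hj, hf j r hrj⟩)
  · refine Ideal.exists_pow_le_of_le_radical_of_fg ?_ (IsNoetherian.noetherian _)
    rw [hm'sp, Ideal.span_le]
    intro s hs
    obtain ⟨j, hj, hsj⟩ := Set.mem_iUnion₂.1 hs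
    obtain ⟨p, hp, hps⟩ := Algebra.IsIntegral.isIntegral (R := R) s
    refine ⟨p.natDegree, ?_⟩
    have hsum : ∑ i ∈ Finset.range (p.natDegree + 1), algebraMap R S (p.coeff i) * s ^ i = 0 := by
      rw [← hps, Polynomial.eval₂_eq_sum_range]
    set D : ℤ := (p.natDegree : ℤ) * j with hD
    have hpow : ∀ i : ℕ, s ^ i ∈ 𝒜' ((i : ℤ) * j) := fun i => by
      have := SetLike.pow_mem_graded i hsj
      rwa [nsmul_eq_mul] at this
    have h := congrArg (proj 𝒜' D) hsum
    rw [map_sum, map_zero, Finset.sum_range_succ, hp.coeff_natDegree, map_one, one_mul,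
      proj_of_mem (hpow _)] at h
    rw [eq_neg_of_add_eq_zero_right h]
    refine neg_mem (sum_mem fun i hi => ?_)
    have hid : 0 < D - (i : ℤ) * j := by
      rw [hD, ← sub_mul]
      exact mul_pos (by have := Finset.mem_range.1 hi; omega) hj
    rw [mul_comm, show (s ^ i * algebraMap R S (p.coeff i)) = (s ^ i) • algebraMap R S (p.coeff i) from rfl,
      proj_smul' (hpow i), smul_eq_mul]
    refine Ideal.mul_mem_left _ _ ?_
    have : proj 𝒜' (D - (i : ℤ) * j) (algebraMap R S (p.coeff i)) =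
        algebraMap R S (proj 𝒜 (D - (i : ℤ) * j) (p.coeff i)) := by
      refine GrLib.induction 𝒜 (motive := fun r => proj 𝒜' (D - (i : ℤ) * j) (algebraMap R S r) =
        algebraMap R S (proj 𝒜 (D - (i : ℤ) * j) r)) (by simp) (fun g r hr => ?_)
        (fun a b ha hb => by simp [ha, hb]) _
      by_cases hg : g = D - (i : ℤ) * j
      · subst hg
        rw [proj_of_mem hr, proj_of_mem (hf _ r hr)]
      · rw [proj_of_mem_ne hr hg, proj_of_mem_ne (hf _ r hr) hg, map_zero]
    rw [this]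
    refine Ideal.mem_map_of_mem _ ?_
    rw [hmsp]
    exact Ideal.subset_span (Set.mem_iUnion₂.2 ⟨_, hid, proj_mem 𝒜 _ _⟩)

end Groth.Agent.CAlgH3.GrCanonChange
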