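import Groth.Agent.CAlgH3.GrCanonPoly
import Groth.Agent.CAlgH3.GrCanonApps
import Groth.Agent.CAlgH3.CohenMacaulay
import Groth.Agent.GrLib.Piece
import Mathlib

/-!
Pieces of the canonical module of a standard graded Cohen–Macaulay algebra.
-/

set_option autoImplicit false

universe u

open DirectSum Groth.Agent.GrLib IsLocalRing

namespace Groth.Agent.CAlgH3.GrCanonDim

variable {R : Type u} [CommRing R] [_root_.LocCoh.IsCohenMacaulayRing R] {𝒜 : ℤ → AddSubgroup R} [GradedRing 𝒜]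
  (hneg : ∀ k : ℤ, k < 0 → ∀ x ∈ 𝒜 k, x = 0) (m : HomogeneousIdeal 𝒜) (hm : GrLC.IsStarLocal 𝒜 m)
  (n : ℕ) (hn : ringKrullDim R = n)
  (I : GrLC.StarInjRes 𝒜 𝒜) {E' : Type u} [AddCommGroup E'] [Module R E'] {𝓔 : ℤ → AddSubgroup E'}
  [Decomposition 𝓔] [SetLike.GradedSMul 𝒜 𝓔] {e : (R ⧸ m.toIdeal) →ₗ[R] E'}
  (he : GrLC.IsStarInjHull 𝒜 (GrLC.quotGr 𝒜 m) 𝓔 e)
  {C : Type u} [AddCommGroup C] [Module R C] {𝒞 : ℤ → AddSubgroup C} [Decomposition 𝒞]
  [SetLike.GradedSMul 𝒜 𝒞] (hC : GrLC.IsStarCanonical 𝒜 𝒞 𝓔 m n I)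

include hneg hm hn he hC in
/-- The *maximal ideal is not principal modulo the annihilator of a homogeneous element of the
canonical module. -/
theorem not_le_span_sup_ann (h2 : 2 ≤ n) {g : ℤ} {c : C} (hc : c ∈ 𝒞 g) (hc0 : c ≠ 0) {s : R}
    (hs : s ∈ m.toIdeal) :
    ¬ m.toIdeal ≤ Ideal.span {s} ⊔ (Submodule.span R {c}).annihilator := by
  intro hle
  haveI := isMaximal_starMaximal hneg hm
  haveI := hC.1
  let A := Localization.AtPrime m.toIdeal
  let CA := LocalizedModule m.toIdeal.primeCompl C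
  haveI := _root_.LocCoh.IsCohenMacaulayRing.isCohenMacaulayLocalRing_localization (R := R) m.toIdeal
  obtain ⟨E₀, _, _, hE, ⟨eK⟩⟩ := GrCanonLocal.exists_local_canonical m n I he hC
  obtain ⟨-, -, hcm, hdim⟩ := LocCoh.canonical_structure (GrCanonApps.dim_localized hneg m hm n hn) hE eK
  let c' : CA := LocalizedModule.mk c 1
  have hc' : c' ≠ 0 := by
    intro h
    obtain ⟨u, hu⟩ := LocalizedModule.mk_eq.1 (h.trans (LocalizedModule.zero_mk 1).symm)
    simp only [smul_zero, one_smul, Submonoid.smul_def] at hu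
    exact hc0 ((Submodule.mem_bot R).1 (GrCanonApps.mem_of_smul_mem hm (N := (⊥ : Submodule R C))
      (isHomogeneous_bot 𝒞) hc u.2 ((Submodule.mem_bot R).2 hu)))
  haveI : Nontrivial (Submodule.span A {c'}) := Submodule.nontrivial_iff_ne_bot.2
    (by simpa [Submodule.span_singleton_eq_bot] using hc')
  obtain ⟨P, hP⟩ := associatedPrimes.nonempty A (Submodule.span A {c'})
  have hPC : P ∈ associatedPrimes A CA :=
    associatedPrimes.subset_of_injective (Submodule.injective_subtype _) hP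
  haveI : P.IsPrime := IsAssociatedPrime.isPrime hP
  have hann : ∀ r ∈ (Submodule.span R {c}).annihilator, algebraMap R A r ∈ P := by
    intro r hr
    refine IsAssociatedPrime.annihilator_le hP (Submodule.mem_annihilator.2 fun y _ => Subtype.ext ?_)
    obtain ⟨a, ha⟩ := Submodule.mem_span_singleton.1 y.2
    show algebraMap R A r • (y : CA) = 0
    rw [← ha, smul_comm, IsScalarTower.algebraMap_smul, LocalizedModule.smul'_mk,
      (Submodule.mem_annihilator_span_singleton c r).1 hr, LocalizedModule.zero_mk, smul_zero]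
  haveI : Nontrivial (A ⧸ P) := Ideal.Quotient.nontrivial_iff.2 ‹P.IsPrime›.ne_top
  haveI : IsLocalRing (A ⧸ P) := IsLocalRing.of_surjective' (Ideal.Quotient.mk P) Ideal.Quotient.mk_surjective
  have hmax : maximalIdeal (A ⧸ P) ≤ Ideal.span {Ideal.Quotient.mk P (algebraMap R A s)} := by
    intro y hy
    obtain ⟨z, rfl⟩ := Ideal.Quotient.mk_surjective y
    have hz : z ∈ maximalIdeal A := by
      intro hu
      exact hy (hu.map _)
    rw [← Localization.AtPrime.map_eq_maximalIdeal] at hz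
    have hmap : Ideal.map (algebraMap R A) m.toIdeal ≤
        (Ideal.span {Ideal.Quotient.mk P (algebraMap R A s)}).comap (Ideal.Quotient.mk P) := by
      rw [Ideal.map_le_iff_le_comap]
      refine hle.trans (sup_le ?_ fun r hr => ?_)
      · rw [Ideal.span_le, Set.singleton_subset_iff]
        exact Ideal.mem_span_singleton_self _
      · rw [Ideal.mem_comap, Ideal.mem_comap, Ideal.Quotient.eq_zero_iff_mem.2 (hann r hr)]
        exact zero_mem _
    exact hmap hz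
  have heq : maximalIdeal (A ⧸ P) = Ideal.span {Ideal.Quotient.mk P (algebraMap R A s)} := by
    refine le_antisymm hmax ?_
    rw [Ideal.span_le, Set.singleton_subset_iff]
    haveI : IsLocalHom (Ideal.Quotient.mk P) := IsLocalHom.of_surjective _ Ideal.Quotient.mk_surjective
    exact fun hu => (IsLocalization.AtPrime.to_map_mem_maximal_iff A m.toIdeal s).2 hs
      (IsLocalHom.map_nonunit _ hu)
  have hd1 : ringKrullDim (A ⧸ P) ≤ 1 := by
    refine (ringKrullDim_le_spanFinrank_maximalIdeal (A ⧸ P)).trans ?_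
    rw [heq]
    have := Submodule.spanFinrank_span_le_ncard_of_finite (R := A ⧸ P)
      (Set.finite_singleton (Ideal.Quotient.mk P (algebraMap R A s)))
    rw [Set.ncard_singleton] at this
    exact_mod_cast this
  rw [CAlgH3.ringKrullDim_quotient_eq_of_mem_associatedPrimes hcm hPC, hdim] at hd1
  have : n ≤ 1 := by exact_mod_cast hd1
  omega

variable (hmsp : m.toIdeal = Ideal.span ((𝒜 1 : AddSubgroup R) : Set R))

include hneg hm hn he hC hmsp in
/-- No homogeneous element of positive depth is killed by the linear forms. -/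
theorem exists_smul_ne_zero (h2 : 2 ≤ n) {g : ℤ} {c : C} (hc : c ∈ 𝒞 g) (hc0 : c ≠ 0) :
    ∃ r ∈ 𝒜 1, r • c ≠ 0 := by
  by_contra hno
  push Not at hno
  refine not_le_span_sup_ann hneg m hm n hn I he hC h2 hc hc0 (zero_mem m.toIdeal) ?_
  rw [hmsp, Ideal.span_le]
  exact fun r hr => Ideal.mem_sup_right ((Submodule.mem_annihilator_span_singleton c r).2 (hno r hr))

include hneg hm hn he hC in
/-- The canonical module is nonzero in some degree at most `-a`. -/
theorem exists_piece_ne_zero (hp : ∀ k : ℤ, 0 < k → ∀ x ∈ 𝒜 k, x ∈ m.toIdeal) {a : ℤ}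
    (ha : GrLC.endDeg (I.Hgr m n) = ((a : WithTop ℤ) : WithBot (WithTop ℤ))) :
    ∃ k ≤ -a, ∃ c ∈ 𝒞 k, c ≠ 0 := by
  classical
  obtain ⟨hfin, φ, hφ⟩ := hC
  haveI := hfin
  letI := Hdecomp I m n
  obtain ⟨z, hz, hz0⟩ : ∃ z ∈ I.Hgr m n a, z ≠ 0 := by
    by_contra hno
    push Not at hno
    have hle : GrLC.endDeg (I.Hgr m n) ≤ (((a - 1 : ℤ) : WithTop ℤ) : WithBot (WithTop ℤ)) := by
      refine iSup₂_le fun k hk => WithBot.coe_le_coe.2 (WithTop.coe_le_coe.2 ?_)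
      have h1 : k ≤ a := by
        have := (le_iSup₂ (f := fun (k : ℤ) (_ : I.Hgr m n k ≠ ⊥) =>
          ((k : WithTop ℤ) : WithBot (WithTop ℤ))) k hk).trans ha.le
        simpa using this
      rcases eq_or_lt_of_le h1 with rfl | h1
      · exact absurd ((AddSubgroup.eq_bot_iff_forall _).2 hno) hk
      · omega
    rw [ha, WithBot.coe_le_coe, WithTop.coe_le_coe] at hle
    omega
  set f := φ.symm z
  obtain ⟨S, hS⟩ := exists_sum_homComponent (ℳ := 𝒞) (𝒩 := 𝓔) 𝒜 f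
  have hfa : homComponent 𝒜 𝒞 𝓔 f a ≠ 0 := by
    intro h0
    apply hz0
    rw [← φ.apply_symm_apply z, ← proj_of_mem (ℳ := I.Hgr m n) (show φ (φ.symm z) ∈ I.Hgr m n a by
      rwa [φ.apply_symm_apply])]
    show proj (I.Hgr m n) a (φ f) = 0
    rw [hS, map_sum, map_sum]
    refine Finset.sum_eq_zero fun d _ => ?_
    have hd : φ (homComponent 𝒜 𝒞 𝓔 f d) ∈ I.Hgr m n d := hφ d _ (homComponent_deg 𝒜 (ℳ := 𝒞) (𝒩 := 𝓔) f d)
    by_cases hda : d = a
    · rw [hda, h0, map_zero, map_zero]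
    · exact proj_of_mem_ne hd hda
  obtain ⟨k, c, hc, hck⟩ : ∃ k, ∃ c ∈ 𝒞 k, homComponent 𝒜 𝒞 𝓔 f a c ≠ 0 := by
    by_contra hno
    push Not at hno
    exact hfa (LinearMap.ext fun c => induction 𝒞 (motive := fun c => homComponent 𝒜 𝒞 𝓔 f a c = 0)
      (map_zero _) hno (fun x y hx hy => by rw [map_add, hx, hy, add_zero]) c)
  refine ⟨k, ?_, c, hc, fun h => hck (by rw [h, map_zero])⟩
  have hne : m.toIdeal ≠ ⊤ := fun h => hm.1.1 (HomogeneousIdeal.ext (by rw [h]; rfl))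
  have hE := (le_iSup₂ (f := fun (j : ℤ) (_ : 𝓔 j ≠ ⊥) => ((j : WithTop ℤ) : WithBot (WithTop ℤ))) (k + a)
    fun h => hck ((AddSubgroup.eq_bot_iff_forall _).1 h _ (homComponent_deg 𝒜 (ℳ := 𝒞) (𝒩 := 𝓔) f a k c hc))).trans
    (GrCanonPoly.endDeg_hull m he hne hneg hp).le
  rw [WithBot.coe_le_coe, WithTop.coe_le_coe] at hE
  omega

include hneg hm hn he hC hmsp in
/-- Above `-a` the pieces have dimension at least two. -/
theorem two_le_finrank (h0 : IsField (GrLC.deg0 𝒜)) (hp : ∀ k : ℤ, 0 < k → ∀ x ∈ 𝒜 k, x ∈ m.toIdeal)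
    (h2 : 2 ≤ n) {a : ℤ} (ha : GrLC.endDeg (I.Hgr m n) = ((a : WithTop ℤ) : WithBot (WithTop ℤ))) {j : ℤ}
    (hj : -a < j) : 2 ≤ Module.finrank (GrLC.deg0 𝒜) (GrLC.comp 𝒜 𝒞 j) := by
  letI := h0.toField
  haveI := hC.1
  haveI : IsNoetherian (GrLC.deg0 𝒜) (GrLC.comp 𝒜 𝒞 j) := isNoetherian_piece 𝒜 𝒞 j
  obtain ⟨k, hk, c₀, hc₀, hc₀0⟩ := exists_piece_ne_zero hneg m hm n hn I he hC hp ha
  have hex : ∀ t : ℕ, ∃ c ∈ 𝒞 (k + t), c ≠ 0 := by
    intro t
    induction t with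
    | zero => exact ⟨c₀, by rwa [Nat.cast_zero, add_zero], hc₀0⟩
    | succ t ih =>
      obtain ⟨c, hc, hc0⟩ := ih
      obtain ⟨r, hr, hrc⟩ := exists_smul_ne_zero hneg m hm n hn I he hC hmsp h2 hc hc0
      refine ⟨r • c, ?_, hrc⟩
      rw [show k + ((t + 1 : ℕ) : ℤ) = 1 + (k + t) by push_cast; ring]
      exact smul_mem hr hc
  obtain ⟨t, ht⟩ := Int.eq_ofNat_of_zero_le (show 0 ≤ j - 1 - k by omega)
  obtain ⟨c, hc, hc0⟩ := hex t
  rw [show k + (t : ℤ) = j - 1 by omega] at hc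
  obtain ⟨s, hs, hsc⟩ := exists_smul_ne_zero hneg m hm n hn I he hC hmsp h2 hc hc0
  have hv : ∀ r ∈ 𝒜 1, r • c ∈ GrLC.comp 𝒜 𝒞 j := fun r hr => by
    have := smul_mem (ℳ := 𝒞) hr hc
    rwa [add_sub_cancel] at this
  let v : GrLC.comp 𝒜 𝒞 j := ⟨s • c, hv s hs⟩
  have hv0 : v ≠ 0 := fun h => hsc (congrArg Subtype.val h)
  by_contra hlt
  have hpos : 0 < Module.finrank (GrLC.deg0 𝒜) (GrLC.comp 𝒜 𝒞 j) :=
    Module.finrank_pos_iff_exists_ne_zero.2 ⟨v, hv0⟩
  have h1 : Module.finrank (GrLC.deg0 𝒜) (GrLC.comp 𝒜 𝒞 j) = 1 := by omega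
  refine not_le_span_sup_ann hneg m hm n hn I he hC h2 (hv s hs) hsc
    (hmsp.ge (Ideal.subset_span hs)) ?_
  rw [hmsp, Ideal.span_le]
  intro r hr
  obtain ⟨μ, hμ⟩ := exists_smul_eq_of_finrank_eq_one h1 hv0 ⟨r • c, hv r hr⟩
  have hμ' : (μ : R) • (s • c) = r • c := congrArg Subtype.val hμ
  rw [SetLike.mem_coe, show r = (μ : R) * s + (r - (μ : R) * s) by ring]
  refine Submodule.add_mem_sup (Ideal.mul_mem_left _ _ (Ideal.mem_span_singleton_self s)) ?_
  rw [Submodule.mem_annihilator_span_singleton, sub_smul, mul_smul]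
  rw [smul_comm r s c, ← hμ', smul_comm s (μ : R) (s • c), sub_self]

end Groth.Agent.CAlgH3.GrCanonDim
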