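import Groth.Agent.CAlgH3.GrVeroneseGor
import Groth.Agent.GrLib.Acyclic
import Mathlib

/-!
Graded Matlis duality for *canonical modules and the canonical module of a Veronese subring.
-/

set_option autoImplicit false
set_option linter.unusedSectionVars false
set_option linter.style.haveILetI false

universe u

open DirectSum Groth.Agent.GrLib

namespace Groth.Agent.CAlgH3.GrCanonPairing

open GrDualAt GrVeronese GrVeroneseIso GrVerDual

variable {R : Type u} [CommRing R] {𝒜 : ℤ → AddSubgroup R} [GradedRing 𝒜]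
  {C : Type u} [AddCommGroup C] [Module R C] {X : Type u} [AddCommGroup X] [Module R X]
  {E : Type u} [AddCommGroup E] [Module R E]

/-- Opposite pieces pair without kernel into degree zero. -/
structure IsPairing (𝒞 : ℤ → AddSubgroup C) (𝒳 : ℤ → AddSubgroup X) (𝓔 : ℤ → AddSubgroup E)
    (P : C →ₗ[R] X →ₗ[R] E) : Prop where
  mem : ∀ j, ∀ c ∈ 𝒞 j, ∀ x ∈ 𝒳 (-j), P c x ∈ 𝓔 0
  left : ∀ j, ∀ c ∈ 𝒞 j, c ≠ 0 → ∃ x ∈ 𝒳 (-j), P c x ≠ 0
  right : ∀ j, ∀ x ∈ 𝒳 (-j), x ≠ 0 → ∃ c ∈ 𝒞 j, P c x ≠ 0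

variable {𝒞 : ℤ → AddSubgroup C} {𝒳 : ℤ → AddSubgroup X} {𝓔 : ℤ → AddSubgroup E} {P : C →ₗ[R] X →ₗ[R] E}
  [SetLike.GradedSMul 𝒜 𝒞] [SetLike.GradedSMul 𝒜 𝒳] [SetLike.GradedSMul 𝒜 𝓔]

/-- The line in degree zero as a copy of the degree zero field. -/
theorem exists_coord (h0 : IsField (GrLC.deg0 𝒜)) {u : E} (hu : u ∈ 𝓔 0) (hu0 : u ≠ 0)
    (hgen : ∀ x ∈ 𝓔 0, ∃ c ∈ 𝒜 0, c • u = x) :
    ∃ κ : GrLC.deg0 𝒜 ≃ₗ[GrLC.deg0 𝒜] GrLC.comp 𝒜 𝓔 0, ∀ r, (κ r : E) = (r : R) • u := by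
  letI := h0.toField
  refine ⟨LinearEquiv.ofBijective (LinearMap.toSpanSingleton (GrLC.deg0 𝒜) _ (⟨u, hu⟩ : GrLC.comp 𝒜 𝓔 0))
    ⟨smul_left_injective _ (fun h => hu0 (congrArg Subtype.val h :)), fun x => ?_⟩, fun r => rfl⟩
  obtain ⟨c, hc, hcu⟩ := hgen x x.2
  exact ⟨⟨c, hc⟩, Subtype.ext hcu⟩

variable [IsNoetherianRing R] [Module.Finite R C] [Decomposition 𝒞]

/-- Every functional on a piece is the pairing with an element of the opposite piece. -/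
theorem exists_rep (h0 : IsField (GrLC.deg0 𝒜))
    (hgen : ∃ u ∈ 𝓔 0, u ≠ 0 ∧ ∀ x ∈ 𝓔 0, ∃ c ∈ 𝒜 0, c • u = x) (hP : IsPairing 𝒞 𝒳 𝓔 P) (j : ℤ)
    (L : GrLC.comp 𝒜 𝒳 (-j) →ₗ[GrLC.deg0 𝒜] GrLC.comp 𝒜 𝓔 0) :
    ∃ c ∈ 𝒞 j, ∀ x : GrLC.comp 𝒜 𝒳 (-j), P c x = (L x : E) := by
  letI := h0.toField
  haveI := isNoetherian_piece 𝒜 𝒞 j
  have h1 := finrank_line h0 hgen
  haveI : Module.Finite (GrLC.deg0 𝒜) (GrLC.comp 𝒜 𝓔 0) := Module.finite_of_finrank_eq_succ h1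
  let B : GrLC.comp 𝒜 𝒞 j →ₗ[GrLC.deg0 𝒜] GrLC.comp 𝒜 𝒳 (-j) →ₗ[GrLC.deg0 𝒜] GrLC.comp 𝒜 𝓔 0 :=
    LinearMap.mk₂ _ (fun c x => ⟨P c x, hP.mem j c c.2 x x.2⟩)
      (fun c c' x => Subtype.ext (LinearMap.map_add₂ P (c : C) c' (x : X)))
      (fun r c x => Subtype.ext (LinearMap.map_smul₂ P (r : R) (c : C) (x : X)))
      (fun c x x' => Subtype.ext (map_add (P (c : C)) (x : X) x'))
      fun r c x => Subtype.ext (map_smul (P (c : C)) (r : R) (x : X))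
  have hB : Function.Injective B := (injective_iff_map_eq_zero _).2 fun c hc => by
    by_contra hc0
    obtain ⟨x, hx, hcx⟩ := hP.left j c c.2 fun h => hc0 (Subtype.ext h)
    exact hcx (congrArg Subtype.val (LinearMap.congr_fun hc ⟨x, hx⟩))
  have hB' : Function.Injective B.flip := (injective_iff_map_eq_zero _).2 fun x hx => by
    by_contra hx0
    obtain ⟨c, hc, hcx⟩ := hP.right j x x.2 fun h => hx0 (Subtype.ext h)
    exact hcx (congrArg Subtype.val (LinearMap.congr_fun hx ⟨c, hc⟩))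
  haveI : Module.Finite (GrLC.deg0 𝒜) (GrLC.comp 𝒜 𝒳 (-j)) := Module.Finite.of_injective B.flip hB'
  have hdim : Module.finrank (GrLC.deg0 𝒜) (GrLC.comp 𝒜 𝒞 j) =
      Module.finrank (GrLC.deg0 𝒜) (GrLC.comp 𝒜 𝒳 (-j) →ₗ[GrLC.deg0 𝒜] GrLC.comp 𝒜 𝓔 0) := by
    refine le_antisymm (LinearMap.finrank_le_finrank_of_injective hB) ?_
    rw [Module.finrank_linearMap, h1, mul_one]
    have := LinearMap.finrank_le_finrank_of_injective hB'
    rwa [Module.finrank_linearMap, h1, mul_one] at this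
  obtain ⟨c, hc⟩ := (LinearMap.injective_iff_surjective_of_finrank_eq_finrank hdim).1 hB L
  exact ⟨c.1, c.2, fun x => congrArg Subtype.val (LinearMap.congr_fun hc x)⟩

omit [IsNoetherianRing R] [Module.Finite R C] [Decomposition 𝒞] in
theorem eq_of_pairing (hP : IsPairing 𝒞 𝒳 𝓔 P) {j : ℤ} {c c' : C} (hc : c ∈ 𝒞 j) (hc' : c' ∈ 𝒞 j)
    (h : ∀ x ∈ 𝒳 (-j), P c x = P c' x) : c = c' := by
  by_contra hne
  obtain ⟨x, hx, hne'⟩ := hP.left j (c - c') (sub_mem hc hc') (sub_ne_zero.2 hne)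
  exact hne' (by rw [LinearMap.map_sub₂, h x hx, sub_self])

section canonical

variable {m : HomogeneousIdeal 𝒜} {E' : Type u} [AddCommGroup E'] [Module R E'] {𝓕 : ℤ → AddSubgroup E'}
  [Decomposition 𝓕] [SetLike.GradedSMul 𝒜 𝓕] {e : (R ⧸ m.toIdeal) →ₗ[R] E'}

/-- A *canonical module pairs with the top local cohomology. -/
theorem isPairing_canonical (hpos : ∀ k : ℤ, k < 0 → 𝒜 k = ⊥) (h0 : IsField (GrLC.deg0 𝒜))
    (hm : GrLC.IsStarLocal 𝒜 m) (he : GrLC.IsStarInjHull 𝒜 (GrLC.quotGr 𝒜 m) 𝓕 e) {n : ℕ}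
    (I : GrLC.StarInjRes 𝒜 𝒜) (φ : (C →ₗ[R] E') ≃ₗ[R] I.H m n)
    (hφ : GrLC.IsGrHom (fun d => (GrLC.homDeg 𝒜 𝒞 𝓕 d).toAddSubgroup) (I.Hgr m n) φ.toLinearMap) :
    IsPairing 𝒞 (I.Hgr m n) 𝓕 φ.symm.toLinearMap.flip := by
  classical
  letI := Hdecomp I m n
  have hE := isDualAt_hull hpos h0 hm he
  have hdeg : ∀ d, ∀ x ∈ I.Hgr m n d, GrLC.IsGrHomDeg 𝒞 𝓕 (φ.symm x) d := by
    intro d x hx
    obtain ⟨S, hS⟩ := exists_sum_homComponent 𝒜 (ℳ := 𝒞) (𝒩 := 𝓕) (φ.symm x)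
    have hmem : ∀ g, φ (homComponent 𝒜 𝒞 𝓕 (φ.symm x) g) ∈ I.Hgr m n g := fun g =>
      hφ g _ (homComponent_deg 𝒜 (ℳ := 𝒞) (𝒩 := 𝓕) (φ.symm x) g)
    have key : x = if d ∈ S then φ (homComponent 𝒜 𝒞 𝓕 (φ.symm x) d) else 0 := by
      have hxd := proj_of_mem hx
      conv_lhs => rw [← hxd, ← φ.apply_symm_apply x, hS, map_sum, map_sum]
      split_ifs with hd
      · rw [Finset.sum_eq_single_of_mem d hd fun g _ hg => proj_of_mem_ne (hmem g) hg, proj_of_mem (hmem d)]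
      · exact Finset.sum_eq_zero fun g hg => proj_of_mem_ne (hmem g) fun e' => hd (e' ▸ hg)
    rw [key]
    split_ifs
    · rw [φ.symm_apply_apply]
      exact homComponent_deg 𝒜 (ℳ := 𝒞) (𝒩 := 𝓕) (φ.symm x) d
    · rw [map_zero]
      exact fun g y _ => zero_mem _
  refine ⟨fun j c hc x hx => ?_, fun j c hc hc0 => ?_, fun j x hx hx0 => ?_⟩
  · have := hdeg (-j) x hx j c hc
    rwa [add_neg_cancel] at this
  · letI := shiftDecomp 𝒜 (-j)
    obtain ⟨u, hu, hu0, -⟩ := hE.gen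
    have hne : m.toIdeal ≠ ⊤ := fun h => hm.1.1 (HomogeneousIdeal.ext (by rw [h]; rfl))
    let u₁ : E' := e (Submodule.Quotient.mk 1)
    have hu₁ : u₁ ∈ 𝓕 0 := he.grHom 0 _ ⟨1, SetLike.one_mem_graded 𝒜, rfl⟩
    let f : R →ₗ[R] C := LinearMap.toSpanSingleton R C c
    let g : R →ₗ[R] E' := LinearMap.toSpanSingleton R E' u₁
    have hf : GrLC.IsGrHom (shiftGr 𝒜 (-j)) 𝒞 f := fun k t ht => by
      have h1 : t • c ∈ 𝒞 (k + -j + j) := GrLib.smul_mem (ℳ := 𝒞) ((mem_shiftGr (ℳ := 𝒜)).1 ht) hc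
      rwa [neg_add_cancel_right] at h1
    have hg : GrLC.IsGrHomDeg (shiftGr 𝒜 (-j)) 𝓕 g (-j) := fun k t ht => by
      have h1 : t • u₁ ∈ 𝓕 (k + -j + 0) := GrLib.smul_mem ((mem_shiftGr (ℳ := 𝒜)).1 ht) hu₁
      rwa [add_zero] at h1
    have hk : LinearMap.ker f ≤ LinearMap.ker g := fun t ht => by
      have hle : (Submodule.span R {c}).annihilator ≤ m.toIdeal := by
        refine GrCanonApps.le_starMax hm (isHomogeneous_ann (𝒜 := 𝒜) (𝓔 := 𝒞) hc) fun h => hc0 ?_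
        have h1 : (1 : R) ∈ (Submodule.span R {c}).annihilator := h ▸ trivial
        rwa [Submodule.mem_annihilator_span_singleton, one_smul] at h1
      show t • e (Submodule.Quotient.mk 1) = 0
      rw [← map_smul, smul_eq_zero_of_mem t (hle ((Submodule.mem_annihilator_span_singleton _ _).2 ht)), map_zero]
    obtain ⟨h, hh, hhf⟩ := exists_factor_deg he.starInj hf hg hk
    refine ⟨φ h, hφ (-j) h hh, ?_⟩
    show φ.symm (φ h) c ≠ 0
    rw [φ.symm_apply_apply]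
    have h1 : h ((1 : R) • c) = (1 : R) • u₁ := LinearMap.congr_fun hhf 1
    rw [one_smul, one_smul] at h1
    rw [h1]
    exact fun h' => hne ((Ideal.eq_top_iff_one _).2
      ((Submodule.Quotient.mk_eq_zero _).1 (he.injective (h'.trans (map_zero e).symm))))
  · obtain ⟨i, c, hc, hne⟩ : ∃ i, ∃ c ∈ 𝒞 i, φ.symm x c ≠ 0 := by
      by_contra! hall
      exact hx0 (φ.symm.map_eq_zero_iff.1 (linearMap_ext 𝒞 fun i c hc => hall i c hc))
    obtain ⟨r, hr, hrne⟩ := hE.ess (i + -j) _ (hdeg (-j) x hx i c hc) hne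
    refine ⟨r • c, ?_, ?_⟩
    · have := GrLib.smul_mem (ℳ := 𝒞) hr hc
      rwa [show 0 - (i + -j) + i = j by ring] at this
    · show φ.symm x (r • c) ≠ 0
      rwa [map_smul]

end canonical

section transfer

variable {R' : Type u} [CommRing R'] [IsNoetherianRing R'] {𝒜' : ℤ → AddSubgroup R'} [GradedRing 𝒜']
  [Algebra R' R] {q : ℕ} {C' : Type u} [AddCommGroup C'] [Module R' C'] [Module.Finite R' C']
  {X' : Type u} [AddCommGroup X'] [Module R' X'] {E'' : Type u} [AddCommGroup E''] [Module R' E'']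
  {𝒞' : ℤ → AddSubgroup C'} [SetLike.GradedSMul 𝒜' 𝒞'] {𝒳' : ℤ → AddSubgroup X'}
  [SetLike.GradedSMul 𝒜' 𝒳'] {𝓔' : ℤ → AddSubgroup E''} [SetLike.GradedSMul 𝒜' 𝓔']
  {P' : C' →ₗ[R'] X' →ₗ[R'] E''} {T : ∀ j : ℤ, 𝒳 (j * q) →+ X'}

theorem exists_scalars (hV : IsVer 𝒜 𝒜' q) :
    ∃ σ : GrLC.deg0 𝒜' ≃+* GrLC.deg0 𝒜, ∀ r, (σ r : R) = algebraMap R' R r := by
  have h : ∀ r : GrLC.deg0 𝒜', algebraMap R' R r ∈ GrLC.deg0 𝒜 := fun r => by
    have := map_mem hV (show (r : R') ∈ 𝒜' 0 from r.2)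
    rwa [zero_mul] at this
  let σ : GrLC.deg0 𝒜' →+* GrLC.deg0 𝒜 :=
    ((algebraMap R' R).comp (GrLC.deg0 𝒜').subtype).codRestrict (GrLC.deg0 𝒜) h
  have hi : Function.Injective σ := fun r s hrs => Subtype.ext (hV.inj (congrArg Subtype.val hrs :))
  refine ⟨RingEquiv.ofBijective σ ⟨hi, fun r => ?_⟩, fun r => rfl⟩
  obtain ⟨r', hr', hrr⟩ := exists_of_mem hV (j := 0) (r := (r : R)) (by rw [zero_mul]; exact r.2)
  exact ⟨⟨r', hr'⟩, Subtype.ext hrr⟩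

/-- Corresponding elements: equal coordinates under the two pairings. -/
def Rel (T : ∀ j : ℤ, 𝒳 (j * q) →+ X') (P : C →ₗ[R] X →ₗ[R] E) (P' : C' →ₗ[R'] X' →ₗ[R'] E'') (u : E) (u' : E'')
    (j : ℤ) (c' : C') (c : C) : Prop :=
  ∀ (x : 𝒳 (-j * q)), ∀ r ∈ 𝒜' 0, P' c' (T (-j) x) = r • u' → P c x = algebraMap R' R r • u

/-- The *canonical module of a Veronese subring is the Veronese part of the *canonical module. -/
theorem exists_semilinear [Decomposition 𝒞'] (hV : IsVer 𝒜 𝒜' q) (h0 : IsField (GrLC.deg0 𝒜))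
    (h0' : IsField (GrLC.deg0 𝒜')) (hT : IsVerIso R 𝒜' q 𝒳 𝒳' T)
    {u : E} (hu : u ∈ 𝓔 0) (hu0 : u ≠ 0) (hgen : ∀ x ∈ 𝓔 0, ∃ c ∈ 𝒜 0, c • u = x)
    {u' : E''} (hu' : u' ∈ 𝓔' 0) (hu0' : u' ≠ 0) (hgen' : ∀ x ∈ 𝓔' 0, ∃ c ∈ 𝒜' 0, c • u' = x)
    (hP : IsPairing 𝒞 𝒳 𝓔 P) (hP' : IsPairing 𝒞' 𝒳' 𝓔' P') :
    ∃ g : C' →ₛₗ[algebraMap R' R] C, Function.Injective g ∧
      ∀ j : ℤ, (𝒞' j).map (g : C' →+ C) = 𝒞 (j * q) := by
  obtain ⟨σ, hσ⟩ := exists_scalars hV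
  obtain ⟨κ, hκ⟩ := exists_coord h0 hu hu0 hgen
  obtain ⟨κ', hκ'⟩ := exists_coord h0' hu' hu0' hgen'
  have hxmem : ∀ (j : ℤ) (x : 𝒳 (-j * q)), (x : X) ∈ 𝒳 (-(j * q)) := fun j x => neg_mul j (q : ℤ) ▸ x.2
  have hT0 : ∀ (j : ℤ) (r : GrLC.deg0 𝒜') (x x' : 𝒳 (j * q)), (x' : X) = algebraMap R' R r • (x : X) →
      T j x' = (r : R') • T j x := fun j r x x' h => hT.smul 0 j j (zero_add j) r r.2 x x' h
  let val' : ∀ (j : ℤ), GrLC.comp 𝒜' 𝒞' j → 𝒳 (-j * q) → GrLC.deg0 𝒜' := fun j c x =>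
    κ'.symm ⟨P' c (T (-j) x), hP'.mem j c c.2 _ (hT.mem _ x)⟩
  have hval' : ∀ (j : ℤ) (c : GrLC.comp 𝒜' 𝒞' j) (x : 𝒳 (-j * q)),
      P' c (T (-j) x) = (val' j c x : R') • u' := fun j c x => by rw [← hκ', κ'.apply_symm_apply]
  have hval'_unique : ∀ (j : ℤ) (c : GrLC.comp 𝒜' 𝒞' j) (x : 𝒳 (-j * q)) (r : GrLC.deg0 𝒜'),
      P' c (T (-j) x) = (r : R') • u' → val' j c x = r := fun j c x r h =>
    κ'.injective (Subtype.ext (by rw [hκ', hκ', ← hval', h]))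
  have hfwd : ∀ (j : ℤ) (c' : GrLC.comp 𝒜' 𝒞' j), ∃ c ∈ 𝒞 (j * q), Rel (𝒜' := 𝒜') T P P' u u' j (c' : C') c := by
    intro j c'
    let mk : GrLC.comp 𝒜 𝒳 (-(j * q)) → 𝒳 (-j * q) := fun x => ⟨x.1, (neg_mul j (q : ℤ)).symm ▸ x.2⟩
    let L : GrLC.comp 𝒜 𝒳 (-(j * q)) →ₗ[GrLC.deg0 𝒜] GrLC.comp 𝒜 𝓔 0 :=
      { toFun := fun x => κ (σ (val' j c' (mk x)))
        map_add' := fun x y => by
          rw [← map_add, ← map_add]
          refine congrArg κ (congrArg σ (hval'_unique j c' _ _ ?_))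
          rw [show mk (x + y) = mk x + mk y from Subtype.ext rfl, map_add, map_add, hval', hval', ← add_smul]
          rfl
        map_smul' := fun r x => by
          rw [RingHom.id_apply, ← map_smul, smul_eq_mul, ← σ.apply_symm_apply r, ← map_mul]
          refine congrArg κ (congrArg σ (hval'_unique j c' _ _ ?_))
          rw [hT0 (-j) (σ.symm r) (mk x) (mk (σ (σ.symm r) • x)) (by rw [← hσ]; rfl), map_smul, hval', ← mul_smul]
          rfl }
    obtain ⟨c, hc, hcL⟩ := exists_rep h0 ⟨u, hu, hu0, hgen⟩ hP (j * q) L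
    refine ⟨c, hc, fun x r hr hxr => ?_⟩
    have := hcL ⟨x.1, hxmem j x⟩
    refine this.trans ?_
    show (κ (σ (val' j c' (mk ⟨x.1, hxmem j x⟩))) : E) = _
    rw [hκ, hσ, hval'_unique j c' _ ⟨r, hr⟩ hxr]
  have huniq : ∀ (j : ℤ) (c' : GrLC.comp 𝒜' 𝒞' j) (c₁ c₂ : C), c₁ ∈ 𝒞 (j * q) → c₂ ∈ 𝒞 (j * q) →
      Rel (𝒜' := 𝒜') T P P' u u' j (c' : C') c₁ → Rel (𝒜' := 𝒜') T P P' u u' j (c' : C') c₂ → c₁ = c₂ := by
    intro j c' c₁ c₂ h₁ h₂ r₁ r₂
    refine eq_of_pairing hP h₁ h₂ fun x hx => ?_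
    let x₀ : 𝒳 (-j * q) := ⟨x, (neg_mul j (q : ℤ)).symm ▸ hx⟩
    rw [r₁ x₀ _ (val' j c' x₀).2 (hval' j c' x₀), r₂ x₀ _ (val' j c' x₀).2 (hval' j c' x₀)]
  choose G hG hGrel using hfwd
  have hGadd : ∀ j (a b : GrLC.comp 𝒜' 𝒞' j), G j (a + b) = G j a + G j b := fun j a b => by
    refine huniq j (a + b) _ _ (hG _ _) (add_mem (hG _ _) (hG _ _)) (hGrel _ _) fun x r hr hxr => ?_
    rw [LinearMap.map_add₂, hGrel j a x _ (val' j a x).2 (hval' j a x), hGrel j b x _ (val' j b x).2 (hval' j b x),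
      ← add_smul, ← map_add]
    have : val' j a x + val' j b x = ⟨r, hr⟩ := κ'.injective (Subtype.ext (by
      rw [hκ', hκ']
      show ((val' j a x : R') + val' j b x) • u' = r • u'
      rw [add_smul, ← hval', ← hval', ← hxr, ← LinearMap.map_add₂]
      rfl))
    rw [show (val' j a x : R') + val' j b x = r from congrArg Subtype.val this]
  let gAdd : C' →+ C := (DirectSum.toAddMonoid fun j =>
    AddMonoidHom.mk' (fun c : 𝒞' j => G j ⟨c.1, c.2⟩) fun a b => hGadd j ⟨a.1, a.2⟩ ⟨b.1, b.2⟩).comp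
      (decomposeAddEquiv 𝒞').toAddMonoidHom
  have hg : ∀ j, ∀ c (hc : c ∈ 𝒞' j), gAdd c = G j ⟨c, hc⟩ := fun j c hc => by
    show DirectSum.toAddMonoid _ (decompose 𝒞' c) = _
    rw [decompose_of_mem 𝒞' hc, DirectSum.toAddMonoid_of]
    rfl
  let g : C' →ₛₗ[algebraMap R' R] C :=
    { toFun := gAdd
      map_add' := map_add gAdd
      map_smul' := fun r c => by
        refine smul_induction 𝒜' (motive := fun r => gAdd (r • c) = algebraMap R' R r • gAdd c) (by simp) ?_ ?_ r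
        · intro i r hr
          refine induction 𝒞' (motive := fun c => gAdd (r • c) = algebraMap R' R r • gAdd c) (by simp) ?_ ?_ c
          · intro j c hc
            have hrc : r • c ∈ 𝒞' (i + j) := GrLib.smul_mem (ℳ := 𝒞') hr hc
            have hGc := hG j ⟨c, hc⟩
            have hrG : algebraMap R' R r • G j ⟨c, hc⟩ ∈ 𝒞 ((i + j) * q) := by
              rw [add_mul]; exact GrLib.smul_mem (ℳ := 𝒞) (map_mem hV hr) hGc
            rw [hg _ _ hrc, hg _ _ hc]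
            refine huniq (i + j) ⟨r • c, hrc⟩ _ _ (hG _ _) hrG (hGrel _ _) fun x s hs hxs => ?_
            have hk : i + -(i + j) = -j := by ring
            let x₁ : 𝒳 (-j * q) := ⟨_, smul_alg_mem hV hk hr x⟩
            have h1 : T (-j) x₁ = r • T (-(i + j)) x := hT.smul i (-(i + j)) (-j) hk r hr x x₁ rfl
            rw [LinearMap.map_smul₂, ← map_smul (P (G j ⟨c, hc⟩))]
            refine hGrel j ⟨c, hc⟩ x₁ s hs ?_
            show P' c (T (-j) x₁) = s • u'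
            rw [h1, map_smul, ← LinearMap.map_smul₂]
            exact hxs
          · intro a b ha hb
            rw [smul_add, map_add, map_add, ha, hb, smul_add]
        · intro a b ha hb
          rw [add_smul, map_add, ha, hb, map_add, add_smul] }
  have hzero : ∀ j, ∀ c ∈ 𝒞' j, gAdd c = 0 → c = 0 := by
    intro j c hc h
    rw [hg j c hc] at h
    by_contra hc0
    obtain ⟨y, hy, hne⟩ := hP'.left j c hc hc0
    obtain ⟨x, rfl⟩ := hT.surj (-j) y hy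
    have h1 := hGrel j ⟨c, hc⟩ x _ (val' j ⟨c, hc⟩ x).2 (hval' j ⟨c, hc⟩ x)
    rw [h, LinearMap.map_zero₂, ← hσ, ← hκ] at h1
    have h2 : σ (val' j ⟨c, hc⟩ x) = 0 := κ.map_eq_zero_iff.1 (Subtype.ext h1.symm)
    refine hne ?_
    have h3 := hval' j ⟨c, hc⟩ x
    rw [show val' j ⟨c, hc⟩ x = 0 from σ.map_eq_zero_iff.1 h2] at h3
    exact h3.trans (zero_smul R' u')
  refine ⟨g, (injective_iff_map_eq_zero g).2 fun c hc => eq_zero_of_proj 𝒞' fun j => ?_, fun j => ?_⟩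
  · refine hzero j _ (proj_mem 𝒞' j c) ?_
    have hproj : proj 𝒞 (j * q) (gAdd c) = gAdd (proj 𝒞' j c) := by
      refine induction 𝒞' (motive := fun c => proj 𝒞 (j * q) (gAdd c) = gAdd (proj 𝒞' j c)) (by simp) ?_ ?_ c
      · intro k y hy
        have hy' : gAdd y ∈ 𝒞 (k * q) := by rw [hg k y hy]; exact hG _ _
        by_cases hkj : k = j
        · subst hkj
          rw [proj_of_mem hy, proj_of_mem hy']
        · rw [proj_of_mem_ne hy hkj, map_zero, proj_of_mem_ne hy' (index_ne hV hkj)]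
      · intro a b ha hb
        simp only [map_add, ha, hb]
    rw [← hproj, show gAdd c = 0 from hc, map_zero]
  · refine le_antisymm ?_ fun c hc => ?_
    · rintro _ ⟨c, hc, rfl⟩
      show gAdd c ∈ _
      rw [hg j c hc]
      exact hG _ _
    · let L' : GrLC.comp 𝒜' 𝒳' (-j) →ₗ[GrLC.deg0 𝒜'] GrLC.comp 𝒜' 𝓔' 0 :=
        { toFun := fun y => κ' (σ.symm (κ.symm ⟨P c (hT.surj (-j) y y.2).choose,
            hP.mem _ c hc _ (hxmem j _)⟩))
          map_add' := fun y y' => by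
            rw [← map_add, ← map_add, ← map_add]
            refine congrArg κ' (congrArg σ.symm (congrArg κ.symm (Subtype.ext ?_)))
            show P c _ = P c _ + P c _
            rw [← map_add (P c)]
            refine congrArg (P c) ((congrArg Subtype.val (show (hT.surj (-j) _ (y + y').2).choose =
              (hT.surj (-j) _ y.2).choose + (hT.surj (-j) _ y'.2).choose from sub_eq_zero.1 (hT.inj (-j) _ ?_))).trans rfl)
            rw [map_sub, map_add, (hT.surj (-j) _ (y + y').2).choose_spec, (hT.surj (-j) _ y.2).choose_spec,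
              (hT.surj (-j) _ y'.2).choose_spec]
            exact sub_self _
          map_smul' := fun r y => by
            rw [RingHom.id_apply, ← map_smul, smul_eq_mul]
            refine congrArg κ' (σ.injective ?_)
            rw [σ.apply_symm_apply, map_mul, σ.apply_symm_apply, ← smul_eq_mul (σ r) (κ.symm _), ← map_smul]
            refine congrArg κ.symm (Subtype.ext ?_)
            show P c _ = (σ r : R) • P c _
            rw [← map_smul (P c), hσ]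
            let x₀ : 𝒳 (-j * q) := (hT.surj (-j) y y.2).choose
            have hmem : algebraMap R' R r • (x₀ : X) ∈ 𝒳 (-j * q) :=
              smul_alg_mem hV (zero_add (-j)) r.2 x₀
            refine congrArg (P c) (congrArg Subtype.val (sub_eq_zero.1 (hT.inj (-j)
              ((hT.surj (-j) _ (r • y).2).choose - ⟨_, hmem⟩) ?_)) :)
            rw [map_sub, (hT.surj (-j) _ (r • y).2).choose_spec, hT0 (-j) r x₀ ⟨_, hmem⟩ rfl,
              (hT.surj (-j) _ y.2).choose_spec]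
            exact sub_self _ }
      obtain ⟨c', hc', hL'⟩ := exists_rep h0' ⟨u', hu', hu0', hgen'⟩ hP' j L'
      refine ⟨c', hc', ?_⟩
      show gAdd c' = c
      rw [hg j c' hc']
      refine huniq j ⟨c', hc'⟩ _ _ (hG _ _) hc (hGrel _ _) fun x r hr hxr => ?_
      have hy := hL' ⟨T (-j) x, hT.mem _ x⟩
      rw [show P' c' (T (-j) x) = r • u' from hxr] at hy
      have hch : (hT.surj (-j) (T (-j) x) (hT.mem _ x)).choose = x :=
        sub_eq_zero.1 (hT.inj (-j) _ (by rw [map_sub, (hT.surj (-j) (T (-j) x) (hT.mem _ x)).choose_spec, sub_self]))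
      change r • u' = (κ' (σ.symm (κ.symm ⟨P c (hT.surj (-j) (T (-j) x) (hT.mem _ x)).choose, _⟩)) : E'') at hy
      have h2 : (⟨r, hr⟩ : GrLC.deg0 𝒜') = σ.symm (κ.symm ⟨P c (hT.surj (-j) (T (-j) x) (hT.mem _ x)).choose,
          hP.mem _ c hc _ (hxmem j _)⟩) := κ'.injective (Subtype.ext ((hκ' _).trans hy))
      rw [RingEquiv.eq_symm_apply, LinearEquiv.eq_symm_apply] at h2
      have h3 := congrArg Subtype.val h2
      rw [hκ, hσ] at h3
      rw [← hch]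
      exact h3.symm

end transfer

end Groth.Agent.CAlgH3.GrCanonPairing
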