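import Groth.Agent.CAlgH3.GrCanonApps
import Groth.Agent.CAlgH3.GrEndDeg
import Groth.Agent.GrSectLib.DenseSubring
import Groth.Agent.CAlgH3.CMRing
import Mathlib

/-!
The canonical module of a weighted polynomial ring, and the end of top cohomology from a free canonical module.
-/

set_option autoImplicit false

universe u

open DirectSum Groth.Agent.GrLib

namespace Groth.Agent.CAlgH3.GrCanonPoly

section top

variable {R : Type u} [CommRing R] {σ : Type u} [SetLike σ R] [AddSubgroupClass σ R] {𝒜 : ℤ → σ}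
  [GradedRing 𝒜] (m : HomogeneousIdeal 𝒜) {E' : Type u} [AddCommGroup E'] [Module R E']
  {𝓔 : ℤ → AddSubgroup E'} [Decomposition 𝓔] [SetLike.GradedSMul 𝒜 𝓔]
  {e : (R ⧸ m.toIdeal) →ₗ[R] E'} (he : GrLC.IsStarInjHull 𝒜 (GrLC.quotGr 𝒜 m) 𝓔 e)

include he in
/-- The *hull of a *maximal ideal of a positively graded ring ends in degree zero. -/
theorem endDeg_hull (hne : m.toIdeal ≠ ⊤) (hneg : ∀ k : ℤ, k < 0 → ∀ x ∈ 𝒜 k, x = 0)
    (hp : ∀ k : ℤ, 0 < k → ∀ x ∈ 𝒜 k, x ∈ m.toIdeal) :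
    GrLC.endDeg 𝓔 = (((0 : ℤ) : WithTop ℤ) : WithBot (WithTop ℤ)) := by
  refine le_antisymm ((endDeg_le_int _ _).2 fun n hn y hy => ?_) ?_
  · by_contra hy0
    obtain ⟨a, r, hr, hr0, t, ht⟩ := hull_essIn he n y hy trivial hy0
    have ha : 0 ≤ a := le_of_not_gt fun h => hr0 (by rw [hneg a h r hr, zero_smul])
    letI := qDecomp 𝒜 (p := (m.toIdeal : Submodule R R)) m.isHomogeneous
    obtain ⟨t', ht', htt⟩ := exists_preimage (ℳ := qGr 𝒜 (m.toIdeal : Submodule R R))
      (grHomDeg_zero_iff.2 he.grHom) (g := a + n) (y := r • y)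
      (by rw [add_zero]; exact smul_mem hr hy) ⟨t, ht⟩
    obtain ⟨s, hs, rfl⟩ := ht'
    refine hr0 ?_
    rw [← htt, show (Submodule.mkQ (m.toIdeal : Submodule R R)).toAddMonoidHom s = 0 from
      (Submodule.Quotient.mk_eq_zero _).2 (hp (a + n) (by omega) s hs)]
    exact map_zero e
  · refine le_iSup₂ (f := fun (k : ℤ) (_ : 𝓔 k ≠ ⊥) => ((k : WithTop ℤ) : WithBot (WithTop ℤ))) 0 fun h => hne ?_
    have h1 : e (Ideal.Quotient.mk m.toIdeal 1) ∈ 𝓔 0 :=
      he.grHom 0 _ ⟨1, SetLike.one_mem_graded 𝒜, rfl⟩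
    rw [h, AddSubgroup.mem_bot] at h1
    have h2 := he.injective (h1.trans (map_zero e).symm)
    rw [Ideal.Quotient.eq_zero_iff_mem] at h2
    exact (Ideal.eq_top_iff_one _).2 h2

include he in
/-- A free canonical module determines the end of the top cohomology. -/
theorem endDeg_of_free (hne : m.toIdeal ≠ ⊤) (hneg : ∀ k : ℤ, k < 0 → ∀ x ∈ 𝒜 k, x = 0)
    (hp : ∀ k : ℤ, 0 < k → ∀ x ∈ 𝒜 k, x ∈ m.toIdeal) {n : ℕ} {I : GrLC.StarInjRes 𝒜 𝒜}
    {C : Type u} [AddCommGroup C] [Module R C] {𝒞 : ℤ → AddSubgroup C} [Decomposition 𝒞]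
    [SetLike.GradedSMul 𝒜 𝒞] (hC : GrLC.IsStarCanonical 𝒜 𝒞 𝓔 m n I) {a : ℤ} {f : R →ₗ[R] C}
    (hf : Function.Bijective f) (hfa : GrLC.IsGrHomDeg 𝒜 𝒞 f a) :
    GrLC.endDeg (I.Hgr m n) = (((-a : ℤ) : WithTop ℤ) : WithBot (WithTop ℤ)) := by
  obtain ⟨-, φ, hφ⟩ := hC
  let F := LinearEquiv.ofBijective f hf
  let Θ : E' ≃ₗ[R] I.H m n :=
    ((LinearMap.ringLmapEquivSelf R R E').symm.trans (F.congrLeft E' R)).trans φ
  have hΘ : GrLC.IsGrHomDeg 𝓔 (I.Hgr m n) Θ.toLinearMap (-a) := fun g x hx => by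
    refine hφ (g + -a) _ fun k c hc => ?_
    have hsymm : F.symm c ∈ 𝒜 (k - a) := by
      obtain ⟨r, hr, hrc⟩ := exists_preimage hfa (g := k - a) (y := c) (by rwa [sub_add_cancel])
        ⟨F.symm c, F.apply_symm_apply c⟩
      rwa [show F.symm c = r from F.injective ((F.apply_symm_apply c).trans hrc.symm)]
    show F.symm c • x ∈ 𝓔 (k + (g + -a))
    have := smul_mem (ℳ := 𝓔) hsymm hx
    rwa [show k - a + g = k + (g + -a) by ring] at this
  rw [GrEndDeg.endDeg_eq_add 𝓔 (I.Hgr m n) (-a), endDeg_hull m he hne hneg hp]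
  · rw [← WithBot.coe_add, ← WithTop.coe_add, zero_add]
  · letI := Hdecomp I m n
    intro k hk h
    refine hk ((AddSubgroup.eq_bot_iff_forall _).2 fun y hy => ?_)
    obtain ⟨x, hx, hxy⟩ := exists_preimage hΘ (g := k - -a) (y := y) (by rwa [sub_add_cancel])
      ⟨Θ.symm y, Θ.apply_symm_apply y⟩
    rw [h, AddSubgroup.mem_bot] at hx
    rw [← hxy, hx, map_zero]
  · intro k hk
    refine ⟨k + -a, le_rfl, fun h => hk ((AddSubgroup.eq_bot_iff_forall _).2 fun x hx => ?_)⟩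
    exact Θ.injective (((AddSubgroup.eq_bot_iff_forall _).1 h _ (hΘ k x hx)).trans (map_zero _).symm)

end top

section poly

open MvPolynomial

attribute [local instance] MvPolynomial.weightedGradedAlgebra

variable {k : Type u} [Field k] {N : ℕ} {w : Fin N → ℤ}

local notation "S" => MvPolynomial (Fin N) k
local notation "W" => MvPolynomial.weightedHomogeneousSubmodule k w

theorem weight_nonneg (hw : ∀ i, 0 < w i) (d : Fin N →₀ ℕ) : 0 ≤ Finsupp.weight w d := by
  rw [Finsupp.weight_apply, Finsupp.sum]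
  exact Finset.sum_nonneg fun i _ => by
    have := (hw i).le
    simp only [nsmul_eq_mul]
    positivity

theorem eq_zero_of_neg (hw : ∀ i, 0 < w i) (n : ℤ) (hn : n < 0) (p : S) (hp : p ∈ W n) : p = 0 := by
  by_contra h
  obtain ⟨d, hd⟩ := MvPolynomial.exists_coeff_ne_zero h
  have := hp hd
  have := weight_nonneg hw d
  omega

theorem mem_span_X (n : ℤ) (hn : n ≠ 0) (p : S) (hp : p ∈ W n) :
    p ∈ Ideal.span (Set.range (X : Fin N → S)) := by
  rw [← Set.image_univ, mem_ideal_span_X_image]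
  intro d hd
  have h1 : Finsupp.weight w d = n := hp (by simpa using hd)
  by_contra hno
  push Not at hno
  have : d = 0 := Finsupp.ext fun i => hno i (Set.mem_univ i)
  rw [this, map_zero] at h1
  exact hn h1.symm

theorem span_eq (hw : ∀ i, 0 < w i) :
    Ideal.span (⋃ n ∈ Set.Ioi (0 : ℤ), (W n : Set S)) = Ideal.span (Set.range (X : Fin N → S)) := by
  refine le_antisymm (Ideal.span_le.2 ?_) (Ideal.span_mono ?_)
  · simp only [Set.iUnion_subset_iff]
    exact fun n hn p hp => mem_span_X n (ne_of_gt hn) p hp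
  · rintro _ ⟨i, rfl⟩
    exact Set.mem_iUnion₂.2 ⟨w i, hw i, isWeightedHomogeneous_X k w i⟩

theorem isWeaklyRegular_X : RingTheory.Sequence.IsWeaklyRegular S (List.ofFn (X : Fin N → S)) := by
  refine (RingTheory.Sequence.isWeaklyRegular_iff _ _).2 fun j hj => ?_
  have hj' : j < N := by simpa using hj
  rw [List.getElem_ofFn]
  have h := GrLib.isSMulRegular_X_mod k N j hj'
  have he : (Ideal.ofList ((List.ofFn (X : Fin N → S)).take j) • ⊤ : Submodule S S) =
      (varIdeal k N j : Submodule S S) := by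
    rw [smul_eq_mul, Ideal.mul_top]
    refine congrArg Ideal.span (Set.ext fun p => ?_)
    constructor
    · intro hp
      obtain ⟨i, hi, hip⟩ := List.mem_take_iff_getElem.1 hp
      rw [List.getElem_ofFn] at hip
      exact ⟨⟨i, by simp at hi; omega⟩, show i < j by omega, hip⟩
    · rintro ⟨i, hi, rfl⟩
      exact List.mem_take_iff_getElem.2 ⟨i, by simp; exact hi, by rw [List.getElem_ofFn]⟩
  exact ((Submodule.quotEquivOfEq _ _ he).isSMulRegular_congr _).2 h

theorem isCohenMacaulayRing : _root_.LocCoh.IsCohenMacaulayRing S :=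
  CAlgH3.isCohenMacaulayRing_of_isRegularRing (R := S)

theorem exists_canonical (hw : ∀ i, 0 < w i) (m : HomogeneousIdeal W) (hm : GrLC.IsStarLocal W m)
    (hmsp : m.toIdeal = Ideal.span (⋃ n ∈ Set.Ioi (0 : ℤ), (W n : Set S)))
    (I : GrLC.StarInjRes W W) {E' : Type u} [AddCommGroup E'] [Module S E'] {𝓔 : ℤ → AddSubgroup E'}
    [Decomposition 𝓔] [SetLike.GradedSMul W 𝓔] {e : (S ⧸ m.toIdeal) →ₗ[S] E'}
    (he : GrLC.IsStarInjHull W (GrLC.quotGr W m) 𝓔 e) {C : Type u} [AddCommGroup C] [Module S C]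
    {𝒞 : ℤ → AddSubgroup C} [Decomposition 𝒞] [SetLike.GradedSMul W 𝒞]
    (hC : GrLC.IsStarCanonical W 𝒞 𝓔 m N I) :
    ∃ f : S →ₗ[S] C, Function.Bijective f ∧ GrLC.IsGrHomDeg W 𝒞 f (∑ i, w i) := by
  haveI := isCohenMacaulayRing (k := k) (N := N)
  haveI hgor : _root_.LocCoh.IsGorensteinRing S :=
    { isGorensteinLocalRing_localization := fun p _ => GrSectLib.gorenstein_of_regular _ }
  have hneg : ∀ n : ℤ, n < 0 → ∀ p ∈ W n, p = 0 := fun n hn p hp => eq_zero_of_neg hw n hn p hp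
  haveI := isMaximal_starMaximal hneg hm
  have hdim : ringKrullDim S = (N : ℕ) := by
    rw [MvPolynomial.ringKrullDim_of_isNoetherianRing, ringKrullDim_eq_zero_of_field]
    simp
  obtain ⟨a, f, hf, hfa⟩ := (GrCanonApps.gorenstein_iff hneg m hm N hdim I he hC).1 hgor
  refine ⟨f, hf, ?_⟩
  have hh : m.toIdeal.height = N := by
    have h := (ringKrullDim_eq_height_starMaximal hneg hm).symm.trans hdim
    exact WithBot.coe_inj.1 h
  have hspan : m.toIdeal = Ideal.span (Set.range (X : Fin N → S)) := hmsp.trans (span_eq hw)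
  letI := qDecomp W (p := (m.toIdeal : Submodule S S)) m.isHomogeneous
  let F := starRes W (qGr W (m.toIdeal : Submodule S S))
  have hend := GrEndDeg.endDeg_regularSeq m N I N le_rfl (GrEndDeg.subsingleton_H_low m hh I) X w
    (fun i => isWeightedHomogeneous_X k w i) (fun i => (hw i).le)
    (fun i => by rw [hspan]; exact Ideal.subset_span ⟨i, rfl⟩) isWeaklyRegular_X
    (Submodule.mkQ (m.toIdeal : Submodule S S)) (mkQ_grHom _) (Submodule.mkQ_surjective _)
    (by rw [Submodule.ker_mkQ, hspan, smul_eq_mul, Ideal.mul_top]) F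
  have hp : ∀ n : ℤ, 0 < n → ∀ p ∈ W n, p ∈ m.toIdeal := fun n hn p hp => by
    rw [hspan]; exact mem_span_X n (ne_of_gt hn) p hp
  rw [endDeg_of_free m he (Ideal.IsMaximal.ne_top inferInstance) hneg hp hC hf hfa] at hend
  -- the residue field sits in degree zero
  have ht : ∀ q : S ⧸ (m.toIdeal : Submodule S S), ∃ j : ℕ, ∀ r ∈ m.toIdeal ^ j, r • q = 0 :=
    fun q => ⟨1, fun r hr => smul_eq_zero_of_mem r (by simpa using hr) q⟩
  have hq : ∀ n : ℤ, n ≠ 0 → ∀ q ∈ qGr W (m.toIdeal : Submodule S S) n, q = 0 := by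
    rintro n hn _ ⟨p, hpn, rfl⟩
    exact (Submodule.Quotient.mk_eq_zero _).2 (by rw [hspan]; exact mem_span_X n hn p hpn)
  have h0 : GrLC.endDeg (F.Hgr m 0) = (((0 : ℤ) : WithTop ℤ) : WithBot (WithTop ℤ)) := by
    refine le_antisymm ((endDeg_le_int _ _).2 fun n hn =>
      (exists_mem_Hgr_zero m F ht n).2 (hq n (ne_of_gt hn))) ?_
    refine le_iSup₂ (f := fun (j : ℤ) (_ : F.Hgr m 0 j ≠ ⊥) => ((j : WithTop ℤ) : WithBot (WithTop ℤ))) 0 fun h =>
      (Ideal.IsMaximal.ne_top (I := m.toIdeal) inferInstance) ((Ideal.eq_top_iff_one _).2 ?_)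
    have := (exists_mem_Hgr_zero m F ht 0).1 ((AddSubgroup.eq_bot_iff_forall _).1 h)
      (Submodule.Quotient.mk 1) ⟨1, SetLike.one_mem_graded W, rfl⟩
    exact (Submodule.Quotient.mk_eq_zero _).1 this
  rw [Nat.sub_self, h0, ← WithBot.coe_add, ← WithTop.coe_add, WithBot.coe_inj, WithTop.coe_inj] at hend
  rwa [show (∑ i, w i) = a by omega]

end poly

end Groth.Agent.CAlgH3.GrCanonPoly
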