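import Groth.Agent.GrLib.Prime
import Groth.Agent.GrLib.Piece
import Groth.Agent.CAlgH3.GrGorenstein
import Groth.Agent.CAlgH3.GrCanonApps
import Mathlib

/-!
Graded modules whose pieces pair perfectly with the pieces of the ring into one line.
-/

set_option autoImplicit false
set_option linter.unusedSectionVars false
set_option linter.style.haveILetI false

universe u

open DirectSum Groth.Agent.GrLib

namespace Groth.Agent.CAlgH3.GrDualAt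

variable {R : Type u} [CommRing R] (𝒜 : ℤ → AddSubgroup R) [GradedRing 𝒜] {X : Type u} [AddCommGroup X]
  [Module R X] (𝒳 : ℤ → AddSubgroup X)

/-- The pieces of `X` pair perfectly with those of the ring into the line in degree `a`. -/
structure IsDualAt (a : ℤ) : Prop where
  gen : ∃ u ∈ 𝒳 a, u ≠ 0 ∧ ∀ x ∈ 𝒳 a, ∃ c ∈ 𝒜 0, c • u = x
  ess : ∀ d, ∀ x ∈ 𝒳 d, x ≠ 0 → ∃ r ∈ 𝒜 (a - d), r • x ≠ 0
  faithful : ∀ s, ∀ r ∈ 𝒜 s, r ≠ 0 → ∃ x ∈ 𝒳 (a - s), r • x ≠ 0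

variable {𝒜 𝒳} {a : ℤ}

theorem IsDualAt.le (hD : IsDualAt 𝒜 𝒳 a) (hpos : ∀ k : ℤ, k < 0 → 𝒜 k = ⊥) {d : ℤ} {x : X}
    (hx : x ∈ 𝒳 d) (hx0 : x ≠ 0) : d ≤ a := by
  obtain ⟨r, hr, hrx⟩ := hD.ess d x hx hx0
  by_contra h
  rw [hpos (a - d) (by omega), AddSubgroup.mem_bot] at hr
  exact hrx (by rw [hr, zero_smul])

theorem IsDualAt.endDeg_eq (hD : IsDualAt 𝒜 𝒳 a) (hpos : ∀ k : ℤ, k < 0 → 𝒜 k = ⊥) :
    GrLC.endDeg 𝒳 = ((a : WithTop ℤ) : WithBot (WithTop ℤ)) := by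
  refine le_antisymm (iSup₂_le fun d hd => ?_) ?_
  · obtain ⟨x, hx, hx0⟩ : ∃ x ∈ 𝒳 d, x ≠ 0 := by
      by_contra hno
      push Not at hno
      exact hd ((AddSubgroup.eq_bot_iff_forall _).2 hno)
    exact WithBot.coe_le_coe.2 (WithTop.coe_le_coe.2 (hD.le hpos hx hx0))
  · obtain ⟨u, hu, hu0, -⟩ := hD.gen
    exact le_iSup₂ (f := fun (k : ℤ) (_ : 𝒳 k ≠ ⊥) => ((k : WithTop ℤ) : WithBot (WithTop ℤ))) a
      fun h => hu0 ((AddSubgroup.eq_bot_iff_forall _).1 h u hu)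

theorem IsDualAt.eq_of_endDeg (hD : IsDualAt 𝒜 𝒳 a) (hpos : ∀ k : ℤ, k < 0 → 𝒜 k = ⊥) {b : ℤ}
    (hb : GrLC.endDeg 𝒳 = ((b : WithTop ℤ) : WithBot (WithTop ℤ))) : a = b :=
  WithTop.coe_inj.1 (WithBot.coe_inj.1 ((hD.endDeg_eq hpos).symm.trans hb))

/-- Transport along a homogeneous bijection. -/
theorem IsDualAt.of_equiv {Y : Type u} [AddCommGroup Y] [Module R Y] {𝒴 : ℤ → AddSubgroup Y}
    [Decomposition 𝒳] [Decomposition 𝒴] (hD : IsDualAt 𝒜 𝒴 a) {g : ℤ} (φ : X ≃ₗ[R] Y)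
    (hφ : GrLC.IsGrHomDeg 𝒳 𝒴 φ.toLinearMap g) : IsDualAt 𝒜 𝒳 (a - g) := by
  have hback : ∀ d, ∀ y ∈ 𝒴 (d + g), φ.symm y ∈ 𝒳 d := fun d y hy => by
    obtain ⟨x, hx, hxy⟩ := exists_preimage hφ (g := d) (y := y) hy ⟨φ.symm y, φ.apply_symm_apply y⟩
    rwa [← hxy, LinearEquiv.coe_coe, φ.symm_apply_apply]
  refine ⟨?_, fun d x hx hx0 => ?_, fun s r hr hr0 => ?_⟩
  · obtain ⟨u, hu, hu0, hgen⟩ := hD.gen
    refine ⟨φ.symm u, hback _ u (by rwa [sub_add_cancel]), fun h => hu0 (φ.symm.map_eq_zero_iff.1 h),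
      fun x hx => ?_⟩
    obtain ⟨c, hc, hcu⟩ := hgen (φ x) (by have := hφ _ x hx; rwa [sub_add_cancel] at this)
    exact ⟨c, hc, φ.injective (by rw [map_smul, φ.apply_symm_apply, hcu])⟩
  · obtain ⟨r, hr, hrx⟩ := hD.ess (d + g) (φ x) (hφ d x hx) (fun h => hx0 (φ.map_eq_zero_iff.1 h))
    refine ⟨r, by rwa [show a - g - d = a - (d + g) by ring], fun h => hrx ?_⟩
    rw [← map_smul, h, map_zero]
  · obtain ⟨y, hy, hry⟩ := hD.faithful s r hr hr0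
    refine ⟨φ.symm y, hback _ y (by rwa [show a - g - s + g = a - s by ring]), fun h => hry ?_⟩
    rw [← φ.apply_symm_apply y, ← map_smul, h, map_zero]

section hull

variable {m : HomogeneousIdeal 𝒜} {E : Type u} [AddCommGroup E] [Module R E] {𝓔 : ℤ → AddSubgroup E}
  [Decomposition 𝓔] [SetLike.GradedSMul 𝒜 𝓔] {e : (R ⧸ m.toIdeal) →ₗ[R] E}

/-- The hull of the residue field is dual to the ring at degree zero. -/
theorem isDualAt_hull [IsNoetherianRing R] (hpos : ∀ k : ℤ, k < 0 → 𝒜 k = ⊥) (h0 : IsField (GrLC.deg0 𝒜)) (hm : GrLC.IsStarLocal 𝒜 m)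
    (he : GrLC.IsStarInjHull 𝒜 (GrLC.quotGr 𝒜 m) 𝓔 e) : IsDualAt 𝒜 𝓔 0 := by
  have hpos' : ∀ k : ℤ, k < 0 → ∀ x ∈ 𝒜 k, x = 0 := fun k hk x hx => by rw [hpos k hk] at hx; exact hx
  have hne : m.toIdeal ≠ ⊤ := fun h => hm.1.1 (HomogeneousIdeal.ext (by rw [h]; rfl))
  have hdiff : ∀ r : R, r - proj 𝒜 0 r ∈ m.toIdeal := fun r => by
    refine mem_of_proj_mem 𝒜 m.toIdeal fun g => ?_
    rw [map_sub]
    rcases lt_trichotomy g 0 with hg | hg | hg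
    · rw [hpos' g hg _ (proj_mem 𝒜 g r), proj_of_mem_ne (proj_mem 𝒜 0 r) hg.ne', sub_zero]
      exact zero_mem _
    · subst hg
      rw [proj_of_mem (proj_mem 𝒜 0 r), sub_self]
      exact zero_mem _
    · rw [proj_of_mem_ne (proj_mem 𝒜 0 r) hg.ne, sub_zero]
      exact starLocal_irrelevant_le hpos' hm.1
        (Ideal.subset_span (Set.mem_iUnion₂.2 ⟨g, hg, proj_mem 𝒜 g r⟩))
  let u : E := e (Submodule.Quotient.mk 1)
  have hu : u ∈ 𝓔 0 := he.grHom 0 _ ⟨1, SetLike.one_mem_graded 𝒜, rfl⟩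
  have hu0 : u ≠ 0 := fun h => hne ((Ideal.eq_top_iff_one _).2
    ((Submodule.Quotient.mk_eq_zero _).1 (he.injective (h.trans (map_zero e).symm))))
  have hrange : ∀ y ∈ LinearMap.range e, ∃ c ∈ 𝒜 0, c • u = y := by
    rintro _ ⟨t, rfl⟩
    obtain ⟨r, rfl⟩ := Submodule.Quotient.mk_surjective _ t
    refine ⟨proj 𝒜 0 r, proj_mem 𝒜 0 r, ?_⟩
    rw [← map_smul]
    refine congrArg e ((Submodule.Quotient.eq _).2 ?_)
    show (fun x => proj 𝒜 0 r • x) 1 - r ∈ m.toIdeal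
    simp only [smul_eq_mul, mul_one]
    rw [← neg_sub]
    exact neg_mem (hdiff r)
  have hess : ∀ d, ∀ x ∈ 𝓔 d, x ≠ 0 → ∃ r ∈ 𝒜 (-d), r • x ≠ 0 ∧ r • x ∈ LinearMap.range e := by
    intro d x hx hx0
    obtain ⟨b, r, hr, hrx, hrxe⟩ := GrBassCount.GrEss.exists_multiple (𝒜 := 𝒜)
      (isHomogeneous_range_quotGr he.grHom) (fun Q hQ _ hQ0 => he.essential Q hQ hQ0) hx
      (Submodule.mem_top : x ∈ (⊤ : Submodule R E)) hx0
    obtain ⟨c, hc, hcu⟩ := hrange _ hrxe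
    have h1 : r • x ∈ 𝓔 (b + d) := smul_mem hr hx
    have h2 : r • x ∈ 𝓔 (0 + 0) := hcu ▸ smul_mem hc hu
    by_cases hbd : b + d = 0
    · exact ⟨r, by rwa [show -d = b by omega], hrx, hrxe⟩
    · refine absurd ?_ hrx
      rw [← proj_of_mem h1]
      exact proj_of_mem_ne h2 (by omega)
  refine ⟨⟨u, hu, hu0, fun x hx => ?_⟩, fun d x hx hx0 => ?_, fun s r hr hr0 => ?_⟩
  · by_cases hx0 : x = 0
    · exact ⟨0, zero_mem _, by rw [hx0, zero_smul]⟩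
    obtain ⟨r, hr, hrx, hrxe⟩ := hess 0 x hx hx0
    rw [neg_zero] at hr
    obtain ⟨⟨i, hi⟩, hri⟩ := h0.mul_inv_cancel (a := (⟨r, hr⟩ : GrLC.deg0 𝒜))
      (fun h => hrx (by rw [show r = 0 from congrArg Subtype.val h, zero_smul]))
    have hri' : r * i = 1 := congrArg Subtype.val hri
    have hxe : x ∈ LinearMap.range e := by
      have := Submodule.smul_mem _ i hrxe
      rwa [smul_smul, mul_comm, hri', one_smul] at this
    exact hrange x hxe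
  · obtain ⟨r, hr, hrx, -⟩ := hess d x hx hx0
    exact ⟨r, by rwa [zero_sub], hrx⟩
  · letI := shiftDecomp 𝒜 (-s)
    let f : R →ₗ[R] R := LinearMap.toSpanSingleton R R r
    let g : R →ₗ[R] E := LinearMap.toSpanSingleton R E u
    have hf : GrLC.IsGrHom (shiftGr 𝒜 (-s)) 𝒜 f := fun k t ht => by
      have h1 : t • r ∈ 𝒜 (k + -s + s) := smul_mem (ℳ := 𝒜) ((mem_shiftGr (ℳ := 𝒜)).1 ht) hr
      rwa [neg_add_cancel_right] at h1
    have hg : GrLC.IsGrHomDeg (shiftGr 𝒜 (-s)) 𝓔 g (-s) := fun k t ht => by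
      have h1 : t • u ∈ 𝓔 (k + -s + 0) := smul_mem ((mem_shiftGr (ℳ := 𝒜)).1 ht) hu
      rwa [add_zero] at h1
    have hk : LinearMap.ker f ≤ LinearMap.ker g := fun t ht => by
      have hle : (Submodule.span R {r}).annihilator ≤ m.toIdeal := by
        refine GrCanonApps.le_starMax hm (isHomogeneous_ann (𝒜 := 𝒜) (𝓔 := 𝒜) hr) fun h => hr0 ?_
        have h1 : (1 : R) ∈ (Submodule.span R {r}).annihilator := h ▸ trivial
        rwa [Submodule.mem_annihilator_span_singleton, one_smul] at h1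
      have htm : t ∈ m.toIdeal := hle ((Submodule.mem_annihilator_span_singleton _ _).2 ht)
      show t • e (Submodule.Quotient.mk 1) = 0
      rw [← map_smul, smul_eq_zero_of_mem t htm, map_zero]
    obtain ⟨h, hh, hhf⟩ := exists_factor_deg he.starInj hf hg hk
    refine ⟨h 1, hh 0 1 SetLike.GradedOne.one_mem, fun h' => hu0 ?_⟩
    have h1 : h (f 1) = g 1 := LinearMap.congr_fun hhf 1
    change h ((1 : R) • r) = (1 : R) • u at h1
    rw [one_smul, one_smul] at h1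
    rw [← h1, ← mul_one r, ← smul_eq_mul, map_smul, h']

end hull

section gorenstein

variable {m : HomogeneousIdeal 𝒜}

/-- The top local cohomology of a positively graded Gorenstein ring is dual to the ring in some degree. -/
theorem exists_isDualAt_top [_root_.LocCoh.IsGorensteinRing R] (hpos : ∀ k : ℤ, k < 0 → 𝒜 k = ⊥)
    (h0 : IsField (GrLC.deg0 𝒜)) (hm : GrLC.IsStarLocal 𝒜 m) {n : ℕ} (hn : ringKrullDim R = n)
    (I : GrLC.StarInjRes 𝒜 𝒜) : ∃ b, IsDualAt 𝒜 (I.Hgr m n) b := by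
  have hpos' : ∀ k : ℤ, k < 0 → ∀ x ∈ 𝒜 k, x = 0 := fun k hk x hx => by rw [hpos k hk] at hx; exact hx
  have hh : m.toIdeal.height = n :=
    WithBot.coe_inj.1 ((ringKrullDim_eq_height_starMaximal hpos' hm).symm.trans hn)
  letI := qDecomp 𝒜 (p := (m.toIdeal : Submodule R R)) m.isHomogeneous
  obtain ⟨X, e, he⟩ := GrMinimalRes.exists_hull (𝒜 := 𝒜) (qGr 𝒜 (m.toIdeal : Submodule R R))
  have he' : GrLC.IsStarInjHull 𝒜 (GrLC.quotGr 𝒜 m) X.gr e :=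
    { injective := he.injective, grHom := he.grHom, essential := he.essential, starInj := he.starInj }
  obtain ⟨g, φ, hφ⟩ := GrGorenstein.exists_top_equiv m hm n hh I he'
  letI := Hdecomp I m n
  exact ⟨_, IsDualAt.of_equiv (isDualAt_hull hpos h0 hm he') φ hφ⟩

/-- The top local cohomology of a positively graded Gorenstein ring is dual to the ring at its end. -/
theorem isDualAt_top [_root_.LocCoh.IsGorensteinRing R] (hpos : ∀ k : ℤ, k < 0 → 𝒜 k = ⊥)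
    (h0 : IsField (GrLC.deg0 𝒜)) (hm : GrLC.IsStarLocal 𝒜 m) {n : ℕ} (hn : ringKrullDim R = n)
    (I : GrLC.StarInjRes 𝒜 𝒜) {b : ℤ}
    (hb : GrLC.endDeg (I.Hgr m n) = ((b : WithTop ℤ) : WithBot (WithTop ℤ))) :
    IsDualAt 𝒜 (I.Hgr m n) b := by
  obtain ⟨c, hc⟩ := exists_isDualAt_top hpos h0 hm hn I
  exact hc.eq_of_endDeg hpos hb ▸ hc

end gorenstein

section pairing

variable [IsNoetherianRing R] [SetLike.GradedSMul 𝒜 𝒳]

variable (𝒜 𝒳) in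
/-- Multiplication of pieces. -/
def pair (s e : ℤ) (b : ℤ) (h : s + e = b) :
    GrLC.comp 𝒜 𝒜 s →ₗ[GrLC.deg0 𝒜] GrLC.comp 𝒜 𝒳 e →ₗ[GrLC.deg0 𝒜] GrLC.comp 𝒜 𝒳 b :=
  LinearMap.mk₂ _ (fun r x => ⟨(r : R) • (x : X), by
      have := smul_mem (ℳ := 𝒳) (show (r : R) ∈ 𝒜 s from r.2) (show (x : X) ∈ 𝒳 e from x.2)
      rwa [h] at this⟩)
    (fun r r' x => Subtype.ext (add_smul _ _ _))
    (fun c r x => Subtype.ext (mul_smul (c : R) (r : R) (x : X)))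
    (fun r x x' => Subtype.ext (smul_add _ _ _))
    fun c r x => Subtype.ext (smul_comm (r : R) (c : R) (x : X))

theorem pair_apply (s e b : ℤ) (h : s + e = b) (r : GrLC.comp 𝒜 𝒜 s) (x : GrLC.comp 𝒜 𝒳 e) :
    (pair 𝒜 𝒳 s e b h r x : X) = (r : R) • (x : X) := rfl

theorem finrank_line (h0 : IsField (GrLC.deg0 𝒜))
    (hgen : ∃ u ∈ 𝒳 a, u ≠ 0 ∧ ∀ x ∈ 𝒳 a, ∃ c ∈ 𝒜 0, c • u = x) :
    Module.finrank (GrLC.deg0 𝒜) (GrLC.comp 𝒜 𝒳 a) = 1 := by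
  letI := h0.toField
  obtain ⟨u, hu, hu0, hg⟩ := hgen
  refine finrank_eq_one (⟨u, hu⟩ : GrLC.comp 𝒜 𝒳 a) (fun h => hu0 (congrArg Subtype.val h)) fun w => ?_
  obtain ⟨c, hc, hcu⟩ := hg w w.2
  exact ⟨⟨c, hc⟩, Subtype.ext hcu⟩

/-- Every functional on a piece of the ring is multiplication into the line. -/
theorem exists_eq_smul (h0 : IsField (GrLC.deg0 𝒜))
    (hgen : ∃ u ∈ 𝒳 a, u ≠ 0 ∧ ∀ x ∈ 𝒳 a, ∃ c ∈ 𝒜 0, c • u = x) (s : ℤ)
    (hf : ∀ r ∈ 𝒜 s, r ≠ 0 → ∃ x ∈ 𝒳 (a - s), r • x ≠ 0)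
    (L : GrLC.comp 𝒜 𝒜 s →ₗ[GrLC.deg0 𝒜] GrLC.comp 𝒜 𝒳 a) :
    ∃ x ∈ 𝒳 (a - s), ∀ r : GrLC.comp 𝒜 𝒜 s, (r : R) • x = (L r : X) := by
  letI := h0.toField
  haveI := isNoetherian_piece 𝒜 𝒜 s
  have h1 := finrank_line h0 hgen
  haveI : Module.Finite (GrLC.deg0 𝒜) (GrLC.comp 𝒜 𝒳 a) := Module.finite_of_finrank_eq_succ h1
  let ψ := LinearEquiv.ofFinrankEq (GrLC.comp 𝒜 𝒳 a) (GrLC.deg0 𝒜) (h1.trans (Module.finrank_self _).symm)
  let B := ((pair 𝒜 𝒳 s (a - s) a (add_sub_cancel s a)).compr₂ ψ.toLinearMap).flip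
  have htop : LinearMap.range B = ⊤ := by
    rw [← Subspace.dualCoannihilator_dualAnnihilator_eq (W := LinearMap.range B),
      show (LinearMap.range B).dualCoannihilator = ⊥ from ?_, Submodule.dualAnnihilator_bot]
    rw [Submodule.eq_bot_iff]
    intro r hr
    rw [Submodule.mem_dualCoannihilator] at hr
    by_contra hr0
    obtain ⟨x, hx, hrx⟩ := hf r r.2 fun h => hr0 (Subtype.ext h)
    have h2 : ψ (pair 𝒜 𝒳 s (a - s) a (add_sub_cancel s a) r ⟨x, hx⟩) = 0 := hr _ ⟨⟨x, hx⟩, rfl⟩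
    exact hrx (congrArg Subtype.val (ψ.map_eq_zero_iff.1 h2))
  obtain ⟨x, hx⟩ := LinearMap.range_eq_top.1 htop (ψ.toLinearMap ∘ₗ L)
  exact ⟨x.1, x.2, fun r => congrArg Subtype.val (ψ.injective (LinearMap.congr_fun hx r))⟩

/-- Opposite pieces have the same rank. -/
theorem IsDualAt.finrank_piece (hD : IsDualAt 𝒜 𝒳 a) (h0 : IsField (GrLC.deg0 𝒜)) (s : ℤ) :
    Module.finrank (GrLC.deg0 𝒜) (GrLC.comp 𝒜 𝒳 (a - s)) =
      Module.finrank (GrLC.deg0 𝒜) (GrLC.comp 𝒜 𝒜 s) := by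
  letI := h0.toField
  haveI := isNoetherian_piece 𝒜 𝒜 s
  have h1 := finrank_line h0 hD.gen
  haveI : Module.Finite (GrLC.deg0 𝒜) (GrLC.comp 𝒜 𝒳 a) := Module.finite_of_finrank_eq_succ h1
  let B := pair 𝒜 𝒳 s (a - s) a (add_sub_cancel s a)
  have hB : Function.Injective B := (injective_iff_map_eq_zero _).2 fun r hr => by
    by_contra hr0
    obtain ⟨x, hx, hrx⟩ := hD.faithful s r r.2 fun h => hr0 (Subtype.ext h)
    exact hrx (congrArg Subtype.val (LinearMap.congr_fun hr ⟨x, hx⟩))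
  have hB' : Function.Injective B.flip := (injective_iff_map_eq_zero _).2 fun x hx => by
    by_contra hx0
    obtain ⟨r, hr, hrx⟩ := hD.ess (a - s) x x.2 fun h => hx0 (Subtype.ext h)
    rw [sub_sub_cancel] at hr
    exact hrx (congrArg Subtype.val (LinearMap.congr_fun hx ⟨r, hr⟩))
  haveI : Module.Finite (GrLC.deg0 𝒜) (GrLC.comp 𝒜 𝒳 (a - s)) := Module.Finite.of_injective B.flip hB'
  refine le_antisymm ?_ ?_
  · have := LinearMap.finrank_le_finrank_of_injective hB'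
    rwa [Module.finrank_linearMap, h1, mul_one] at this
  · have := LinearMap.finrank_le_finrank_of_injective hB
    rwa [Module.finrank_linearMap, h1, mul_one] at this

end pairing

end Groth.Agent.CAlgH3.GrDualAt
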