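import Groth.Agent.CAlgH3.GrCanonPairing
import Groth.Agent.GrLib.StarInj
import Groth.Agent.GrLib.Acyclic
import Mathlib

/-!
Graded duals with values in a graded module: a module `D` mapping isomorphically onto the homogeneous
maps `X → E` in every degree.
-/

set_option autoImplicit false
set_option linter.unusedSectionVars false
set_option linter.style.haveILetI false

universe u

open DirectSum Groth.Agent.GrLib

namespace Groth.Agent.CAlgH3.GrGDual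

variable {R : Type u} [CommRing R] {𝒜 : ℤ → AddSubgroup R} [GradedRing 𝒜]
  {D : Type u} [AddCommGroup D] [Module R D] {X : Type u} [AddCommGroup X] [Module R X]
  {E : Type u} [AddCommGroup E] [Module R E]

/-- `P` identifies `D` with the sums of the homogeneous maps `X → E`, degree by degree. -/
structure IsDual (𝒟 : ℤ → AddSubgroup D) (𝒳 : ℤ → AddSubgroup X) (𝓔 : ℤ → AddSubgroup E)
    (P : D →ₗ[R] X →ₗ[R] E) : Prop where
  inj : Function.Injective P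
  deg : ∀ j, ∀ d ∈ 𝒟 j, GrLC.IsGrHomDeg 𝒳 𝓔 (P d) j
  surj : ∀ (j : ℤ) (f : X →ₗ[R] E), GrLC.IsGrHomDeg 𝒳 𝓔 f j → ∃ d ∈ 𝒟 j, P d = f

/-- The span of the homogeneous maps. -/
def finDeg (𝒳 : ℤ → AddSubgroup X) (𝓔 : ℤ → AddSubgroup E) : Submodule R (X →ₗ[R] E) :=
  Submodule.span R {f | ∃ j, GrLC.IsGrHomDeg 𝒳 𝓔 f j}

variable {𝒟 : ℤ → AddSubgroup D} {𝒳 : ℤ → AddSubgroup X} {𝓔 : ℤ → AddSubgroup E}

theorem IsDual.range_eq [Decomposition 𝒟] {P : D →ₗ[R] X →ₗ[R] E} (hP : IsDual 𝒟 𝒳 𝓔 P) :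
    LinearMap.range P = finDeg 𝒳 𝓔 := by
  refine le_antisymm ?_ ?_
  · rintro _ ⟨d, rfl⟩
    refine GrLib.induction 𝒟 (motive := fun d => P d ∈ finDeg 𝒳 𝓔) (by simp) (fun j d hd => ?_)
      (fun a b ha hb => by rw [map_add]; exact add_mem ha hb) d
    exact Submodule.subset_span ⟨j, hP.deg j d hd⟩
  · refine Submodule.span_le.2 ?_
    rintro f ⟨j, hf⟩
    obtain ⟨d, -, hd⟩ := hP.surj j f hf
    exact ⟨d, hd⟩

/-- Graded duals are unique. -/
theorem nonempty_equiv {D' : Type u} [AddCommGroup D'] [Module R D'] {P : D →ₗ[R] X →ₗ[R] E}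
    {P' : D' →ₗ[R] X →ₗ[R] E} (hP : Function.Injective P) (hP' : Function.Injective P')
    (h : LinearMap.range P = LinearMap.range P') : Nonempty (D ≃ₗ[R] D') :=
  ⟨(LinearEquiv.ofInjective P hP).trans ((LinearEquiv.ofEq _ _ h).trans (LinearEquiv.ofInjective P' hP').symm)⟩

/-- Transport of a graded dual along a bijective homomorphism of degree zero. -/
theorem IsDual.comp_equiv {X' : Type u} [AddCommGroup X'] [Module R X'] {𝒳' : ℤ → AddSubgroup X'}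
    {P : D →ₗ[R] X →ₗ[R] E} (hP : IsDual 𝒟 𝒳 𝓔 P) (e : X' ≃ₗ[R] X)
    (he : ∀ g, ∀ x ∈ 𝒳' g, e x ∈ 𝒳 g) (he' : ∀ g, ∀ x ∈ 𝒳 g, e.symm x ∈ 𝒳' g) :
    ∃ P' : D →ₗ[R] X' →ₗ[R] E, IsDual 𝒟 𝒳' 𝓔 P' ∧ ∀ d x, P' d x = P d (e x) := by
  refine ⟨LinearMap.lcomp R E e.toLinearMap ∘ₗ P,
    ⟨fun a b hab => hP.inj (LinearMap.ext fun x => ?_),
      fun j d hd g x hx => hP.deg j d hd g _ (he g x hx), fun j f hf => ?_⟩, fun d x => rfl⟩
  · obtain ⟨x', rfl⟩ := e.surjective x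
    exact LinearMap.congr_fun hab x'
  · obtain ⟨d, hd, hd'⟩ := hP.surj j (f ∘ₗ e.symm.toLinearMap) fun g x hx => hf g _ (he' g x hx)
    refine ⟨d, hd, LinearMap.ext fun x => ?_⟩
    show P d (e x) = f x
    rw [hd']
    exact congrArg f (e.symm_apply_apply x)

section ess

variable [Decomposition 𝒳] [SetLike.GradedSMul 𝒜 𝒳] [SetLike.GradedSMul 𝒜 𝓔]
  (hess : ∀ d, ∀ y ∈ 𝓔 d, y ≠ 0 → ∃ r ∈ 𝒜 (0 - d), r • y ≠ 0)

include hess in
/-- A homogeneous map into the hull is determined by the piece landing in degree zero. -/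
theorem eq_zero_of_deg {f : X →ₗ[R] E} {j : ℤ} (hf : GrLC.IsGrHomDeg 𝒳 𝓔 f j)
    (h : ∀ x ∈ 𝒳 (-j), f x = 0) : f = 0 := by
  refine linearMap_ext 𝒳 fun g x hx => ?_
  by_contra hne
  obtain ⟨r, hr, hr0⟩ := hess _ _ (hf g x hx) hne
  refine hr0 ?_
  rw [← map_smul]
  refine h _ ?_
  have := GrLib.smul_mem (ℳ := 𝒳) hr hx
  rwa [show 0 - (g + j) + g = -j by ring] at this

variable [IsNoetherianRing R] [Module.Finite R D] [Decomposition 𝒟] [SetLike.GradedSMul 𝒜 𝒟] [Decomposition 𝓔]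

include hess in
/-- A pairing that is nondegenerate into the line in degree zero gives a graded dual. -/
theorem of_isPairing (h0 : IsField (GrLC.deg0 𝒜))
    (hgen : ∃ u ∈ 𝓔 0, u ≠ 0 ∧ ∀ x ∈ 𝓔 0, ∃ c ∈ 𝒜 0, c • u = x)
    {P : D →ₗ[R] X →ₗ[R] E} (hP : GrCanonPairing.IsPairing 𝒟 𝒳 𝓔 P)
    (hdeg : ∀ j, ∀ d ∈ 𝒟 j, GrLC.IsGrHomDeg 𝒳 𝓔 (P d) j) : IsDual 𝒟 𝒳 𝓔 P := by
  refine ⟨(injective_iff_map_eq_zero _).2 fun d hd => ?_, hdeg, fun j f hf => ?_⟩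
  · refine eq_zero_of_proj 𝒟 fun j => ?_
    by_contra hne
    obtain ⟨x, hx, hne'⟩ := hP.left j _ (proj_mem 𝒟 j d) hne
    refine hne' ?_
    have key : ∀ d, proj 𝓔 0 (P d x) = P (proj 𝒟 j d) x := by
      intro d
      refine GrLib.induction 𝒟 (motive := fun d => proj 𝓔 0 (P d x) = P (proj 𝒟 j d) x) (by simp)
        (fun i y hy => ?_) (fun a b ha hb => by simp [map_add, LinearMap.add_apply, ha, hb]) d
      have hmem := hdeg i y hy (-j) x hx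
      by_cases hij : i = j
      · subst hij
        rw [proj_of_mem hy, proj_of_mem]
        rwa [neg_add_cancel] at hmem
      · rw [proj_of_mem_ne hy hij, map_zero, LinearMap.zero_apply,
          proj_of_mem_ne hmem (fun e => hij (by omega))]
    rw [← key, hd, LinearMap.zero_apply, map_zero]
  · let L : GrLC.comp 𝒜 𝒳 (-j) →ₗ[GrLC.deg0 𝒜] GrLC.comp 𝒜 𝓔 0 :=
      { toFun := fun x => ⟨f x, by
          have := hf (-j) x x.2
          rwa [neg_add_cancel] at this⟩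
        map_add' := fun x y => Subtype.ext (map_add f (x : X) (y : X))
        map_smul' := fun r x => Subtype.ext (map_smul f (r : R) (x : X)) }
    obtain ⟨c, hc, hcL⟩ := GrCanonPairing.exists_rep h0 hgen hP j L
    refine ⟨c, hc, sub_eq_zero.1 (eq_zero_of_deg (𝒳 := 𝒳) hess (f := P c - f) (j := j) (fun g x hx => ?_) fun x hx => ?_)⟩
    · exact sub_mem (hdeg j c hc g x hx) (hf g x hx)
    · show P c x - f x = 0
      rw [sub_eq_zero]
      exact hcL ⟨x, hx⟩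

end ess

section canonical

variable [IsNoetherianRing R] {m : HomogeneousIdeal 𝒜} {E' : Type u} [AddCommGroup E'] [Module R E']
  {𝓕 : ℤ → AddSubgroup E'} [Decomposition 𝓕] [SetLike.GradedSMul 𝒜 𝓕] {e : (R ⧸ m.toIdeal) →ₗ[R] E'}
  {C : Type u} [AddCommGroup C] [Module R C] {𝒞 : ℤ → AddSubgroup C} [Decomposition 𝒞]
  [SetLike.GradedSMul 𝒜 𝒞]

/-- A *canonical module is the graded dual of the top local cohomology. -/
theorem exists_dual_canonical (hpos : ∀ k : ℤ, k < 0 → 𝒜 k = ⊥) (h0 : IsField (GrLC.deg0 𝒜))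
    (hm : GrLC.IsStarLocal 𝒜 m) (he : GrLC.IsStarInjHull 𝒜 (GrLC.quotGr 𝒜 m) 𝓕 e) {n : ℕ}
    (I : GrLC.StarInjRes 𝒜 𝒜) (hC : GrLC.IsStarCanonical 𝒜 𝒞 𝓕 m n I) :
    ∃ P : C →ₗ[R] I.H m n →ₗ[R] E', IsDual 𝒞 (I.Hgr m n) 𝓕 P ∧
      GrCanonPairing.IsPairing 𝒞 (I.Hgr m n) 𝓕 P := by
  classical
  obtain ⟨hfin, φ, hφ⟩ := hC
  haveI := hfin
  letI := Hdecomp I m n
  have hD := GrDualAt.isDualAt_hull hpos h0 hm he
  have hpair := GrCanonPairing.isPairing_canonical hpos h0 hm he I φ hφ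
  refine ⟨φ.symm.toLinearMap.flip, of_isPairing hD.ess h0 hD.gen hpair fun j c hc g x hx => ?_, hpair⟩
  obtain ⟨f, hf, rfl⟩ : ∃ f, GrLC.IsGrHomDeg 𝒞 𝓕 f g ∧ φ f = x := by
    obtain ⟨S, hS⟩ := exists_sum_homComponent 𝒜 (ℳ := 𝒞) (𝒩 := 𝓕) (φ.symm x)
    refine ⟨_, homComponent_deg 𝒜 (ℳ := 𝒞) (𝒩 := 𝓕) (φ.symm x) g, ?_⟩
    have hmem : ∀ i, φ (homComponent 𝒜 𝒞 𝓕 (φ.symm x) i) ∈ I.Hgr m n i := fun i =>
      hφ i _ (homComponent_deg 𝒜 (ℳ := 𝒞) (𝒩 := 𝓕) (φ.symm x) i)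
    conv_rhs => rw [← proj_of_mem hx, ← φ.apply_symm_apply x, hS, map_sum, map_sum]
    by_cases hg : g ∈ S
    · rw [Finset.sum_eq_single_of_mem g hg fun i _ hi => proj_of_mem_ne (hmem i) hi, proj_of_mem (hmem g)]
    · rw [Finset.sum_eq_zero fun i hi => proj_of_mem_ne (g := g) (hmem i) fun e' => hg (e' ▸ hi)]
      have : homComponent 𝒜 𝒞 𝓕 (φ.symm x) g = 0 := linearMap_ext 𝒞 fun k y hy => by
        rw [homComponent_apply 𝒜 _ hy]
        conv_lhs => rw [hS, LinearMap.sum_apply, map_sum]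
        exact Finset.sum_eq_zero fun i hi => proj_of_mem_ne
          (homComponent_deg 𝒜 (ℳ := 𝒞) (𝒩 := 𝓕) (φ.symm x) i k y hy) fun e' => hg (by
            have hig : i = g := by omega
            exact hig ▸ hi)
      rw [this, map_zero]
  show φ.symm (φ f) c ∈ 𝓕 (g + j)
  rw [φ.symm_apply_apply, add_comm]
  exact hf j c hc

end canonical

end Groth.Agent.CAlgH3.GrGDual
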