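import Groth.Agent.CAlgH3.GrPolyChar
import Groth.Agent.CAlgH3.GrCanonApps
import Groth.Agent.CAlgH3.Parameters
import Groth.Agent.QReg6.Regular
import Mathlib

/-!
Linear systems of parameters of standard graded *local rings with infinite residue field.
-/

set_option autoImplicit false

universe u

open MvPolynomial DirectSum Groth.Agent.GrLib IsLocalRing

namespace Groth.Agent.CAlgH3.GrLinearSop

variable {R : Type u} [CommRing R] {𝒜 : ℤ → AddSubgroup R} [GradedRing 𝒜] [IsNoetherianRing R]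
  [IsArtinianRing (GrLC.deg0 𝒜)]
  (hneg : ∀ k : ℤ, k < 0 → ∀ x ∈ 𝒜 k, x = 0) {m : HomogeneousIdeal 𝒜} (hm : GrLC.IsStarLocal 𝒜 m)
  (hstd : Ideal.span (⋃ n ∈ Set.Ioi (0 : ℤ), (𝒜 n : Set R)) = Ideal.span ((𝒜 1 : AddSubgroup R) : Set R))
  (hinf : Infinite (R ⧸ m.toIdeal))

omit [IsArtinianRing (GrLC.deg0 𝒜)] in
include hneg hm in
theorem isUnit_of_notMem {g : ℤ} {a : R} (ha : a ∈ 𝒜 g) (h : a ∉ m.toIdeal) : IsUnit a := by
  by_contra hu
  refine h (le_starMaximal hneg hm (J := ⟨Ideal.span {a}, Ideal.homogeneous_span _ _ (by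
    rintro _ rfl; exact ⟨g, ha⟩)⟩) (fun h' => hu ?_) (Ideal.mem_span_singleton_self a))
  exact Ideal.span_singleton_eq_top.1 (congrArg HomogeneousIdeal.toIdeal h')

include hneg hm hstd hinf in
/-- A linear form outside finitely many primes other than the *maximal ideal. -/
theorem exists_linear_avoid (S : Finset (Ideal R)) (hS : ∀ p ∈ S, p.IsPrime ∧ p ≠ m.toIdeal) :
    ∃ x ∈ 𝒜 1, ∀ p ∈ S, x ∉ p := by
  classical
  induction S using Finset.induction with
  | empty => exact ⟨0, zero_mem _, by simp⟩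
  | insert p S hp ih =>
    obtain ⟨x, hx, hxS⟩ := ih fun q hq => hS q (Finset.mem_insert_of_mem hq)
    obtain ⟨hpp, hpm⟩ := hS p (Finset.mem_insert_self p S)
    by_cases hxp : x ∈ p
    swap
    · exact ⟨x, hx, fun q hq => (Finset.mem_insert.1 hq).elim (fun h => h ▸ hxp) (hxS q)⟩
    obtain ⟨v, hv, hvp⟩ : ∃ v ∈ 𝒜 1, v ∉ p := by
      by_contra hno
      push Not at hno
      haveI := hpp
      exact hpm (GrArtinBase.eq_of_prime_ge hneg hm hstd (Ideal.span_le.2 hno))
    have hrep : ∀ z : R ⧸ m.toIdeal, ∃ a ∈ 𝒜 0, Ideal.Quotient.mk m.toIdeal a = z := by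
      intro z
      obtain ⟨a, rfl⟩ := Ideal.Quotient.mk_surjective z
      refine ⟨proj 𝒜 0 a, proj_mem 𝒜 0 a, (Ideal.Quotient.eq).2 ?_⟩
      refine mem_of_proj_mem 𝒜 m.toIdeal fun g => ?_
      rw [map_sub]
      rcases lt_trichotomy g 0 with hg | hg | hg
      · rw [proj_of_mem_ne (proj_mem 𝒜 0 a) hg.ne', hneg g hg _ (proj_mem 𝒜 g _), sub_zero]
        exact zero_mem _
      · subst hg
        rw [proj_of_mem (proj_mem 𝒜 0 a), sub_self]
        exact zero_mem _
      · rw [proj_of_mem_ne (proj_mem 𝒜 0 a) hg.ne, zero_sub]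
        exact neg_mem (starLocal_irrelevant_le hneg hm.1
          (Ideal.subset_span (Set.mem_iUnion₂.2 ⟨g, hg, proj_mem 𝒜 g a⟩)))
    choose c hc hcz using hrep
    have hfin : (⋃ q ∈ S, {z : R ⧸ m.toIdeal | v + c z * x ∈ q}).Finite := by
      refine Set.Finite.biUnion S.finite_toSet fun q hq => Set.Subsingleton.finite fun z hz w hw => ?_
      by_contra hne
      have hu : IsUnit (c z - c w) := isUnit_of_notMem hneg hm (sub_mem (hc z) (hc w)) fun h => hne (by
        rw [← hcz z, ← hcz w]; exact (Ideal.Quotient.eq).2 h)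
      have hmem : (c z - c w) * x ∈ q := by
        have := q.sub_mem hz hw
        rwa [show v + c z * x - (v + c w * x) = (c z - c w) * x by ring] at this
      exact hxS q hq ((Ideal.unit_mul_mem_iff_mem q hu).1 hmem)
    haveI := hinf
    obtain ⟨z, hz⟩ := hfin.infinite_compl.nonempty
    refine ⟨v + c z * x, add_mem hv ?_, fun q hq hmem => ?_⟩
    · have := SetLike.GradedMul.mul_mem (hc z) hx
      rwa [zero_add] at this
    · rcases Finset.mem_insert.1 hq with rfl | hq
      · exact hvp ((q.add_mem_iff_left (q.mul_mem_left _ hxp)).1 hmem)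
      · exact hz (Set.mem_biUnion hq hmem)

variable {d : ℕ} (hd : ringKrullDim R = d)

include hneg hm hstd hinf hd in
/-- A linear system of parameters. -/
theorem exists_sop : ∃ x : Fin d → R, (∀ i, x i ∈ 𝒜 1) ∧ (Ideal.span (Set.range x)).radical = m.toIdeal := by
  haveI := isMaximal_starMaximal hneg hm
  have hh : m.toIdeal.height = d := WithBot.coe_inj.1 ((ringKrullDim_eq_height_starMaximal hneg hm).symm.trans hd)
  have key : ∀ j, j ≤ d → ∃ x : Fin j → R, (∀ i, x i ∈ 𝒜 1) ∧
      ∀ p : Ideal R, p.IsPrime → Ideal.span (Set.range x) ≤ p → (j : ℕ∞) ≤ p.height := by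
    intro j
    induction j with
    | zero => exact fun _ => ⟨fun i => i.elim0, fun i => i.elim0, fun p _ _ => by simp⟩
    | succ j ih =>
      intro hj
      obtain ⟨x, hx, hht⟩ := ih (by omega)
      classical
      let J := Ideal.span (Set.range x)
      obtain ⟨y, hy, hyS⟩ := exists_linear_avoid hneg hm hstd hinf
        ((Ideal.finite_minimalPrimes_of_isNoetherianRing R J).toFinset.filter fun q => q ≠ m.toIdeal) fun q hq => by
          rw [Finset.mem_filter, Set.Finite.mem_toFinset] at hq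
          exact ⟨hq.1.1.1, hq.2⟩
      refine ⟨Fin.snoc x y, fun i => ?_, fun p hp hle => ?_⟩
      · cases i using Fin.lastCases with
        | last => rw [Fin.snoc_last]; exact hy
        | cast i => rw [Fin.snoc_castSucc]; exact hx i
      haveI := hp
      have hJp : J ≤ p := Ideal.span_le.2 fun _ ⟨i, hi⟩ => hle (Ideal.subset_span
        ⟨i.castSucc, by rw [Fin.snoc_castSucc, hi]⟩)
      have hyp : y ∈ p := hle (Ideal.subset_span ⟨Fin.last j, Fin.snoc_last _ _⟩)
      obtain ⟨q, hq, hqp⟩ := Ideal.exists_minimalPrimes_le hJp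
      haveI := hq.1.1
      rcases eq_or_ne q m.toIdeal with hqm | hqm
      · rw [← (inferInstance : m.toIdeal.IsMaximal).eq_of_le hp.ne_top (hqm ▸ hqp), hh]
        exact_mod_cast hj
      · have hlt : q < p := lt_of_le_of_ne hqp fun h => hyS q (by
          rw [Finset.mem_filter, Set.Finite.mem_toFinset]; exact ⟨hq, hqm⟩) (h ▸ hyp)
        have h1 := Ideal.height_strict_mono_of_isPrime hlt
        have h2 := hht q hq.1.1 hq.1.2
        push_cast
        exact Order.add_one_le_of_lt (lt_of_le_of_lt h2 h1)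
  obtain ⟨x, hx, hht⟩ := key d le_rfl
  refine ⟨x, hx, le_antisymm ?_ ?_⟩
  · exact (Ideal.IsPrime.radical_le_iff inferInstance).2 (Ideal.span_le.2 fun _ ⟨i, hi⟩ => hi ▸
      GrArtinBase.irr_le hneg hm hstd (Ideal.subset_span (hx i)))
  · rw [← Ideal.sInf_minimalPrimes]
    refine le_sInf fun q hq => ?_
    haveI := hq.1.1
    haveI := Ideal.IsPrime.homogeneousCore (𝒜 := 𝒜) hq.1.1
    have hhom : (Ideal.span (Set.range x)).IsHomogeneous 𝒜 :=
      Ideal.homogeneous_span _ _ fun z ⟨i, hi⟩ => ⟨1, hi ▸ hx i⟩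
    have hcore : (Ideal.homogeneousCore 𝒜 q).toIdeal = q := le_antisymm (Ideal.toIdeal_homogeneousCore_le 𝒜 q)
      (hq.2 ⟨inferInstance, by
        rw [← hhom.toIdeal_homogeneousCore_eq_self]
        exact Ideal.homogeneousCore_mono 𝒜 hq.1.2⟩ (Ideal.toIdeal_homogeneousCore_le 𝒜 q))
    have hqm : q ≤ m.toIdeal := by
      rw [← hcore]
      exact le_starMaximal hneg hm fun h => hq.1.1.ne_top (hcore ▸ congrArg HomogeneousIdeal.toIdeal h)
    by_contra hne
    have hlt := Ideal.height_strict_mono_of_isPrime (lt_of_le_not_ge hqm hne)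
    rw [hh] at hlt
    exact not_lt.2 (hht q hq.1.1 hq.1.2) hlt

include hneg hm hd in
/-- A homogeneous system of parameters is a regular sequence. -/
theorem regular_of_sop [_root_.LocCoh.IsCohenMacaulayRing R] {x : Fin d → R} {g : Fin d → ℤ} (hx : ∀ i, x i ∈ 𝒜 (g i))
    (hrad : (Ideal.span (Set.range x)).radical = m.toIdeal) (k : Fin d) (a : R)
    (ha : a * x k ∈ Ideal.span (x '' Set.Iio k)) : a ∈ Ideal.span (x '' Set.Iio k) := by
  classical
  haveI := isMaximal_starMaximal hneg hm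
  let A := Localization.AtPrime m.toIdeal
  haveI := _root_.LocCoh.IsCohenMacaulayRing.isCohenMacaulayLocalRing_localization (R := R) m.toIdeal
  set J := Ideal.span (x '' Set.Iio k)
  have hxm : ∀ i, x i ∈ m.toIdeal := fun i => hrad.le (Ideal.le_radical (Ideal.subset_span ⟨i, rfl⟩))
  let gA : Fin d → A := fun i => algebraMap R A (x i)
  have hgA : ∀ i, gA i ∈ maximalIdeal A := fun i =>
    (IsLocalization.AtPrime.to_map_mem_maximal_iff A m.toIdeal (x i)).2 (hxm i)
  have hdA : ringKrullDim A = (Fintype.card (Fin d) : ℕ) := by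
    rw [Fintype.card_fin, IsLocalization.AtPrime.ringKrullDim_eq_height m.toIdeal,
      ← ringKrullDim_eq_height_starMaximal hneg hm, hd]
  have hJA : Ideal.map (algebraMap R A) (Ideal.span (Set.range x)) = Ideal.span (Set.range gA) := by
    rw [Ideal.map_span, ← Set.range_comp]
    rfl
  have hdim : ringKrullDim (A ⧸ Ideal.span (Set.range gA)) = 0 := by
    have hne : Ideal.span (Set.range gA) ≠ ⊤ := fun h => (maximalIdeal.isMaximal A).ne_top
      (top_le_iff.1 (h.ge.trans (Ideal.span_le.2 fun _ ⟨i, hi⟩ => hi ▸ hgA i)))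
    haveI : Nontrivial (A ⧸ Ideal.span (Set.range gA)) := Ideal.Quotient.nontrivial_iff.2 hne
    refine le_antisymm ?_ ringKrullDim_nonneg_of_nontrivial
    haveI : Ring.KrullDimLE 0 (A ⧸ Ideal.span (Set.range gA)) := by
      refine Ring.krullDimLE_zero_iff.2 fun P hP => ?_
      haveI := hP
      suffices h : maximalIdeal A ≤ P.comap (Ideal.Quotient.mk _) by
        have hmx : (P.comap (Ideal.Quotient.mk _)).IsMaximal := by
          rw [← (maximalIdeal.isMaximal A).eq_of_le (Ideal.IsPrime.ne_top inferInstance) h]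
          exact maximalIdeal.isMaximal A
        haveI := hmx
        rw [← Ideal.map_comap_of_surjective _ Ideal.Quotient.mk_surjective P]
        exact (Ideal.map_eq_top_or_isMaximal_of_surjective _ Ideal.Quotient.mk_surjective hmx).resolve_left
          fun h' => hP.ne_top (by rwa [Ideal.map_comap_of_surjective _ Ideal.Quotient.mk_surjective P] at h')
      rw [← Localization.AtPrime.map_eq_maximalIdeal, Ideal.map_le_iff_le_comap]
      refine hrad.ge.trans ((Ideal.IsPrime.radical_le_iff inferInstance).2 (Ideal.span_le.2 ?_))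
      rintro _ ⟨i, rfl⟩
      rw [SetLike.mem_coe, Ideal.mem_comap, Ideal.mem_comap,
        Ideal.Quotient.eq_zero_iff_mem.2 (show algebraMap R A (x i) ∈ Ideal.span (Set.range gA) from Ideal.subset_span ⟨i, rfl⟩)]
      exact zero_mem _
    exact Ring.krullDimLE_iff.1 this
  have hJhom : J.IsHomogeneous 𝒜 := Ideal.homogeneous_span _ _ fun z ⟨i, _, hi⟩ => ⟨g i, hi ▸ hx i⟩
  have key : ∀ b : R, ∀ t, b ∈ 𝒜 t → b * x k ∈ J → b ∈ J := by
    intro b t hb hbk
    have hreg := CAlgH3.isSMulRegular_of_isSystemOfParameters gA hgA hdA hdim (Finset.Iio k) k (by simp)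
    have hmapJ : Ideal.span (gA '' (Finset.Iio k : Finset (Fin d))) = J.map (algebraMap R A) := by
      rw [Ideal.map_span, Finset.coe_Iio, Set.image_image]
    have hb' : algebraMap R A b ∈ J.map (algebraMap R A) := by
      rw [← hmapJ, ← Ideal.Quotient.eq_zero_iff_mem]
      refine hreg ?_
      show gA k • Ideal.Quotient.mk _ (algebraMap R A b) = gA k • 0
      rw [smul_zero, Algebra.smul_def, Ideal.Quotient.algebraMap_eq, ← map_mul, Ideal.Quotient.eq_zero_iff_mem,
        hmapJ, ← map_mul, mul_comm]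
      exact Ideal.mem_map_of_mem _ hbk
    obtain ⟨⟨⟨u, hu⟩, s⟩, hus⟩ := (IsLocalization.mem_map_algebraMap_iff m.toIdeal.primeCompl A).1 hb'
    rw [← map_mul] at hus
    obtain ⟨c, hc⟩ := (IsLocalization.eq_iff_exists m.toIdeal.primeCompl A).1 hus
    refine GrCanonApps.mem_of_smul_mem hm (M := R) (ℳ := 𝒜) (N := J) hJhom hb
      (s := (c : R) * (s : R)) ((c * s).2) ?_
    rw [smul_eq_mul, show (c : R) * (s : R) * b = (c : R) * (b * (s : R)) by ring, hc]
    exact J.mul_mem_left _ hu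
  refine mem_of_proj_mem 𝒜 J fun t => key _ t (proj_mem 𝒜 t a) ?_
  have h1 := hJhom (g k + t) (show x k • a ∈ J by rwa [smul_eq_mul, mul_comm])
  change proj 𝒜 (g k + t) (x k • a) ∈ J at h1
  rwa [proj_smul (ℳ := 𝒜) (hx k), smul_eq_mul, mul_comm] at h1

include hneg hm hstd hinf hd in
/-- A standard graded Cohen–Macaulay ring with `a = -d` is a polynomial ring. -/
theorem exists_algEquiv [_root_.LocCoh.IsCohenMacaulayRing R] (I : GrLC.StarInjRes 𝒜 𝒜)
    (ha : GrLC.endDeg (I.Hgr m d) = (((-(d : ℤ) : ℤ) : WithTop ℤ) : WithBot (WithTop ℤ))) :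
    ∃ e : MvPolynomial (Fin d) (GrLC.deg0 𝒜) ≃ₐ[GrLC.deg0 𝒜] R, ∀ t : Fin d, e (MvPolynomial.X t) ∈ 𝒜 1 := by
  haveI := isMaximal_starMaximal hneg hm
  obtain ⟨x, hx, hrad⟩ := exists_sop hneg hm hstd hinf hd
  have hreg := regular_of_sop hneg hm hd (g := fun _ => 1) hx hrad
  have hxm : ∀ i, x i ∈ m.toIdeal := fun i => hrad.le (Ideal.le_radical (Ideal.subset_span ⟨i, rfl⟩))
  have hweak : RingTheory.Sequence.IsWeaklyRegular R (List.ofFn x) := by
    refine (RingTheory.Sequence.isWeaklyRegular_iff _ _).2 fun j hj => ?_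
    have hj' : j < d := by simpa using hj
    rw [List.getElem_ofFn]
    have he : (Ideal.ofList ((List.ofFn x).take j) • ⊤ : Submodule R R) =
        (Ideal.span (x '' Set.Iio (⟨j, hj'⟩ : Fin d)) : Submodule R R) := by
      rw [smul_eq_mul, Ideal.mul_top]
      refine congrArg Ideal.span (Set.ext fun p => ?_)
      constructor
      · intro hp
        obtain ⟨i, hi, hip⟩ := List.mem_take_iff_getElem.1 hp
        rw [List.getElem_ofFn] at hip
        exact ⟨⟨i, by simp at hi; omega⟩, show i < j by omega, hip⟩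
      · rintro ⟨i, hi, rfl⟩
        exact List.mem_take_iff_getElem.2 ⟨i, by simp; exact hi, by rw [List.getElem_ofFn]⟩
    refine ((Submodule.quotEquivOfEq _ _ he).isSMulRegular_congr _).2
      (IsSMulRegular.of_right_eq_zero_of_smul fun q hq => ?_)
    obtain ⟨a, rfl⟩ := Submodule.Quotient.mk_surjective _ q
    rw [← Submodule.Quotient.mk_smul, Submodule.Quotient.mk_eq_zero, smul_eq_mul, mul_comm] at hq
    rw [Submodule.Quotient.mk_eq_zero]
    exact hreg ⟨j, hj'⟩ a hq
  have hQ : (Ideal.span (Set.range x) • (⊤ : Submodule R R)).IsHomogeneous 𝒜 := by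
    rw [smul_eq_mul, Ideal.mul_top]
    exact Ideal.homogeneous_span _ _ fun z ⟨i, hi⟩ => ⟨1, hi ▸ hx i⟩
  letI := qDecomp 𝒜 hQ
  let F := starRes 𝒜 (qGr 𝒜 (Ideal.span (Set.range x) • (⊤ : Submodule R R)))
  have hh : m.toIdeal.height = d := WithBot.coe_inj.1 ((ringKrullDim_eq_height_starMaximal hneg hm).symm.trans hd)
  have h := GrEndDeg.endDeg_regularSeq m d I d le_rfl (GrEndDeg.subsingleton_H_low m hh I) x (fun _ => 1) hx
    (fun _ => zero_le_one) hxm hweak (Submodule.mkQ _) (mkQ_grHom _) (Submodule.mkQ_surjective _)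
    (Submodule.ker_mkQ _) F
  rw [Nat.sub_self, ha, Finset.sum_const, Finset.card_univ, Fintype.card_fin, nsmul_one] at h
  rw [← WithBot.coe_add, ← WithTop.coe_add, neg_add_cancel] at h
  obtain ⟨M, hM⟩ := Ideal.exists_pow_le_of_le_radical_of_fg hrad.ge (IsNoetherian.noetherian _)
  have htor : ∀ q : R ⧸ Ideal.span (Set.range x) • (⊤ : Submodule R R),
      ∃ k : ℕ, ∀ r ∈ m.toIdeal ^ k, r • q = 0 := by
    intro q
    obtain ⟨a, rfl⟩ := Submodule.Quotient.mk_surjective _ q
    refine ⟨M, fun r hr => ?_⟩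
    rw [← Submodule.Quotient.mk_smul, Submodule.Quotient.mk_eq_zero]
    exact Submodule.smul_mem_smul (hM hr) trivial
  have hgen : ∀ n : ℤ, 0 < n → ∀ z ∈ 𝒜 n, z ∈ Ideal.span (Set.range x) := by
    intro n hn z hz
    have hb : F.Hgr m 0 n = ⊥ := by
      by_contra hne
      have := (le_iSup₂ (f := fun (k : ℤ) (_ : F.Hgr m 0 k ≠ ⊥) =>
        ((k : WithTop ℤ) : WithBot (WithTop ℤ))) n hne).trans h.le
      simp only [WithBot.coe_le_coe, WithTop.coe_le_coe] at this
      omega
    have h1 := (exists_mem_Hgr_zero m F htor n).1 ((AddSubgroup.eq_bot_iff_forall _).1 hb) _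
      (mk_mem_qGr (p := Ideal.span (Set.range x) • (⊤ : Submodule R R)) hz)
    rwa [Submodule.Quotient.mk_eq_zero, smul_eq_mul, Ideal.mul_top] at h1
  have hsur := GrPolyChar.polyMap_surjective x hx hneg hgen
  have hq : CAlgX.IsQuasiRegular x := QReg6.isQuasiRegular_of_regular hreg
  have hinj : Function.Injective (GrPolyChar.polyMap (𝒜 := 𝒜) x) := by
    refine (injective_iff_map_eq_zero _).2 fun P hP => ?_
    rw [← sum_homogeneousComponent P]
    refine Finset.sum_eq_zero fun n _ => ?_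
    have h0 : GrPolyChar.polyMap x (homogeneousComponent n P) = 0 := by
      rw [← GrPolyChar.proj_polyMap x hx, hP, map_zero]
    have hQn : (MvPolynomial.map (GrLC.deg0 𝒜).subtype (homogeneousComponent n P)).IsHomogeneous n :=
      (homogeneousComponent_isHomogeneous n P).map _
    refine MvPolynomial.ext _ _ fun e => ?_
    have he := hq n _ hQn (by rw [MvPolynomial.eval_map, show eval₂ (GrLC.deg0 𝒜).subtype x _ = 0 from h0]; exact zero_mem _) e
    rw [MvPolynomial.coeff_map] at he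
    obtain ⟨c, hc⟩ := Ideal.mem_span_range_iff_exists_fun.1 he
    rw [coeff_zero]
    refine Subtype.ext ?_
    rw [ZeroMemClass.coe_zero]
    show (GrLC.deg0 𝒜).subtype _ = 0
    rw [← proj_of_mem (ℳ := 𝒜) (g := (0 : ℤ)) (show (GrLC.deg0 𝒜).subtype (coeff e _) ∈ 𝒜 0 from
      (coeff e (homogeneousComponent n P)).2), ← hc, map_sum]
    refine Finset.sum_eq_zero fun i _ => ?_
    rw [mul_comm, ← smul_eq_mul, proj_smul' (ℳ := 𝒜) (hx i), hneg (0 - 1) (by omega) _ (proj_mem 𝒜 _ _),
      smul_zero]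
  let e : MvPolynomial (Fin d) (GrLC.deg0 𝒜) →ₐ[GrLC.deg0 𝒜] R := MvPolynomial.aeval x
  have he : (e : MvPolynomial (Fin d) (GrLC.deg0 𝒜) → R) = GrPolyChar.polyMap x := rfl
  refine ⟨AlgEquiv.ofBijective e (he ▸ ⟨hinj, hsur⟩), fun t => ?_⟩
  show e (X t) ∈ 𝒜 1
  rw [MvPolynomial.aeval_X]
  exact hx t

end Groth.Agent.CAlgH3.GrLinearSop
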