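import Groth.Agent.TwistLib.G.Map
import Groth.Agent.TwistLib.G.RelExact
import Groth.Agent.SerreDual.Curve

/-!
# Degree shifting maps of sheaves attached to graded modules; exactness up to torsion

`mapC u : M(n)~ ⟶ N(n + c)~` for `u : M → N` of degree `c`; it is mono, epi, exact as soon as `u` is so
up to torsion with respect to a covering family of degree one elements.
-/

set_option autoImplicit false
set_option linter.unusedSectionVars false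
set_option backward.isDefEq.respectTransparency.types false

universe u

open DirectSum AlgebraicGeometry CategoryTheory TopologicalSpace Opposite
open Groth.Agent.ProjLib Groth.Agent.Coherent
open Groth.Agent.TwistLib.G

noncomputable section

namespace Groth.Agent.CAlgH3.GrModExact

variable {A σ : Type u} [CommRing A] [SetLike σ A] [AddSubgroupClass σ A] {𝒜 : ℕ → σ} [GradedRing 𝒜]
variable {M τ : Type u} [AddCommGroup M] [Module A M] [SetLike τ M] [AddSubgroupClass τ M] {ℳ : ℕ → τ}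
  [SetLike.GradedSMul 𝒜 ℳ]
variable {N τ' : Type u} [AddCommGroup N] [Module A N] [SetLike τ' N] [AddSubgroupClass τ' N] {𝒩 : ℕ → τ'}
  [SetLike.GradedSMul 𝒜 𝒩]
variable {L ρ : Type u} [AddCommGroup L] [Module A L] [SetLike ρ L] [AddSubgroupClass ρ L] {ℒ : ℕ → ρ}
  [SetLike.GradedSMul 𝒜 ℒ]
omit [SetLike.GradedSMul 𝒜 ℳ] in
/-- Sections are determined by their values. -/
theorem sext [SetLike.GradedSMul 𝒜 ℳ] {n : ℤ} {U : (Opens (ProjectiveSpectrum.top 𝒜))ᵒᵖ}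
    {s t : GrMod.sect 𝒜 ℳ n U} (h : ∀ x : U.unop, (s.1 x).1 = (t.1 x).1) : s = t :=
  Subtype.ext (funext fun x => Subtype.ext (h x))

variable (u : M →ₗ[A] N) (c : ℕ) (hu : ∀ (i : ℕ) (m : M), m ∈ ℳ i → u m ∈ 𝒩 (i + c)) {n n' : ℤ}
  (hn : n + c = n')

include hu hn in
theorem locMap_mem (x : ProjectiveSpectrum 𝒜) {q : GrMod.LocMod 𝒜 (M := M) x}
    (hq : q ∈ GrMod.tildeAt 𝒜 ℳ n x) : GrMod.locMap u x q ∈ GrMod.tildeAt 𝒜 𝒩 n' x := by
  induction hq using Submodule.span_induction with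
  | mem q h =>
    obtain ⟨i, j, m, s, hs, hij, rfl⟩ := h
    rw [GrMod.locMap_mk]
    exact Submodule.subset_span ⟨i + c, j, ⟨u m, hu i m m.2⟩, s, hs, by push_cast; omega, rfl⟩
  | zero => rw [map_zero]; exact zero_mem _
  | add q q' _ _ h h' => rw [map_add]; exact add_mem h h'
  | smul r q _ h =>
    rw [GrMod.a0_smul_def]
    change (LocalizedModule.map _ u) (r.val • q) ∈ _
    rw [LinearMap.map_smul, ← GrMod.a0_smul_def]
    exact Submodule.smul_mem _ r h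

/-- The map on sections. -/
def mapApp (U : (Opens (ProjectiveSpectrum.top 𝒜))ᵒᵖ) : GrMod.sect 𝒜 ℳ n U →+ GrMod.sect 𝒜 𝒩 n' U where
  toFun f := ⟨fun x => ⟨GrMod.locMap u x.1 (f.1 x).1, locMap_mem u c hu hn x.1 (f.1 x).2⟩, fun x => by
    obtain ⟨V, mV, iV, i, j, m, s, nin, e, w⟩ := f.2 x
    refine ⟨V, mV, iV, i + c, j, ⟨u m, hu i m m.2⟩, s, nin, ?_, fun y => ?_⟩
    · rcases e with e | e
      · exact Or.inl (by push_cast; omega)
      · exact Or.inr (show u (m : M) = 0 by rw [e, map_zero])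
    · exact (congrArg (GrMod.locMap u y.1) (w y)).trans (GrMod.locMap_mk u y.1 _ _)⟩
  map_zero' := Subtype.ext (funext fun x => Subtype.ext (map_zero (GrMod.locMap u x.1)))
  map_add' f g := Subtype.ext (funext fun x => Subtype.ext (map_add (GrMod.locMap u x.1) _ _))

theorem mapApp_smul (U : (Opens (ProjectiveSpectrum.top 𝒜))ᵒᵖ) (r : GrTwist.O (𝒜 := 𝒜) U)
    (f : GrMod.sect 𝒜 ℳ n U) : mapApp u c hu hn U (r • f) = r • mapApp u c hu hn U f := by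
  refine Subtype.ext (funext fun x => Subtype.ext ?_)
  refine (congrArg (GrMod.locMap u x.1) (GrMod.coe_smul_val n x.1 (r.1 x) (f.1 x))).trans ?_
  exact (LinearMap.map_smul (LocalizedModule.map _ u) (r.1 x).val (f.1 x).1).trans
    (GrMod.coe_smul_val n' x.1 (r.1 x) ((mapApp u c hu hn U f).1 x)).symm

variable (𝒜) in
/-- `M(n)~ ⟶ N(n')~` for a map of degree `c`, `n' = n + c`. -/
def mapC : GrMod.tilde 𝒜 ℳ n ⟶ GrMod.tilde 𝒜 𝒩 n' :=
  ⟨PresheafOfModules.homMk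
    { app := fun U => AddCommGrpCat.ofHom (mapApp u c hu hn U)
      naturality := fun _ _ _ => rfl }
    fun U r s => mapApp_smul u c hu hn U r s⟩

theorem mapC_val (V : (Proj 𝒜).Opens) (s : Γ(GrMod.tilde 𝒜 ℳ n, V)) (y : V) :
    GrMod.val ((mapC 𝒜 u c hu hn).app V s) y = GrMod.locMap u y.1 (GrMod.val s y) := rfl

theorem resM_val {V W : (Proj 𝒜).Opens} (h : W ≤ V) (s : Γ(GrMod.tilde 𝒜 ℳ n, V)) (y : W) :
    GrMod.val (resM (GrMod.tilde 𝒜 ℳ n) h s) y = GrMod.val s ⟨y.1, h y.2⟩ := rfl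

/-- Kernels up to torsion vanish. -/
def TorInj (t : ∀ _ : ProjectiveSpectrum 𝒜, A) : Prop :=
  ∀ (i : ℕ) (m : M), m ∈ ℳ i → u m = 0 → ∀ x, ∃ k : ℕ, t x ^ k • m = 0

variable (t : ∀ _ : ProjectiveSpectrum 𝒜, A) (ht : ∀ x, t x ∈ 𝒜 1)
  (htx : ∀ x, t x ∉ x.asHomogeneousIdeal.toIdeal)

include ht htx

theorem app_injective [DirectSum.Decomposition ℳ] [DirectSum.Decomposition 𝒩]
    (h : TorInj (ℳ := ℳ) u t) (V : (Proj 𝒜).Opens) : Function.Injective ((mapC 𝒜 u c hu hn).app V) := by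
  rw [injective_iff_map_eq_zero]
  intro s hs
  refine sext fun y => ?_
  obtain ⟨i, j, m, r, hr, -, he⟩ := tildeAt_eq_frac n y.1 (s.1 y).2
  have h0 : LocalizedModule.mk (u m.1) (⟨r.1, hr⟩ : y.1.asHomogeneousIdeal.toIdeal.primeCompl) = 0 := by
    refine Eq.trans ?_ (congrArg (fun z => GrMod.val (V := V) z y) hs)
    exact ((congrArg (GrMod.locMap u y.1) he).trans (GrMod.locMap_mk u y.1 _ _)).symm
  obtain ⟨⟨b, hb⟩, hbm⟩ := LocalizedModule.mk_eq.mp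
    (h0.trans (LocalizedModule.zero_mk (1 : y.1.asHomogeneousIdeal.toIdeal.primeCompl)).symm)
  have hbm' : b • u m.1 = 0 := by simpa [Submonoid.smul_def] using hbm
  obtain ⟨e, b', hb', hb'y, hkill⟩ := exists_homogeneous_kill (hu i m.1 m.2) y.1 hb hbm'
  obtain ⟨k, hk⟩ := h _ (b' • m.1) (SetLike.GradedSMul.smul_mem hb' m.2) (by rw [map_smul, hkill]) y.1
  refine he.trans ?_
  refine LocalizedModule.mk_eq.mpr ⟨⟨t y.1 ^ k * b', show _ ∉ y.1.asHomogeneousIdeal.toIdeal from fun hmem =>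
    (y.1.isPrime.mem_or_mem hmem).elim (fun h => htx y.1 (y.1.isPrime.mem_of_pow_mem k h)) hb'y⟩, ?_⟩
    |>.trans (LocalizedModule.zero_mk (1 : y.1.asHomogeneousIdeal.toIdeal.primeCompl))
  show (t y.1 ^ k * b') • (1 : A) • m.1 = (t y.1 ^ k * b') • r.1 • (0 : M)
  rw [one_smul, mul_smul, hk, smul_zero, smul_zero]

theorem mono_mapC [DirectSum.Decomposition ℳ] [DirectSum.Decomposition 𝒩] (h : TorInj (ℳ := ℳ) u t) :
    Mono (mapC 𝒜 u c hu hn) :=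
  SerreDual.mono_of_app_injective _ fun V => app_injective u c hu hn t ht htx h V

include hn in
/-- A local section lifting a fraction whose numerator is in the image up to a power of `t`. -/
theorem exists_local_lift {i j k e : ℕ} {x : ProjectiveSpectrum 𝒜} (a : N) (s : 𝒜 j) (b : A) (hb : b ∈ 𝒜 e)
    (hbx : b ∉ x.asHomogeneousIdeal.toIdeal) (hsx : s.1 ∉ x.asHomogeneousIdeal.toIdeal)
    (hij : (i : ℤ) = j + n') (i' : ℕ) (m : M) (hm : m ∈ ℳ i') (hi : i' + c = k + (e + i))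
    (hum : u m = t x ^ k • b • a) :
    ∃ (W : (Proj 𝒜).Opens), x ∈ W ∧ ∃ w : Γ(GrMod.tilde 𝒜 ℳ n, W),
      ∀ (y : W) (hy : s.1 ∉ y.1.asHomogeneousIdeal.toIdeal),
        GrMod.locMap u y.1 (GrMod.val w y) = LocalizedModule.mk a ⟨s.1, hy⟩ := by
  refine ⟨Proj.basicOpen 𝒜 (t x ^ k * (b * s.1)), fun h => ?_, ?_⟩
  · rcases x.isPrime.mem_or_mem h with h | h
    · exact htx x (x.isPrime.mem_of_pow_mem k h)
    · exact (x.isPrime.mem_or_mem h).elim hbx hsx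
  · have hd : t x ^ k * (b * s.1) ∈ 𝒜 (k + (e + j)) := by
      have h1 := SetLike.pow_mem_graded k (ht x)
      rw [smul_eq_mul, mul_one] at h1
      exact SetLike.mul_mem_graded h1 (SetLike.mul_mem_graded hb s.2)
    have hdeg : (i' : ℤ) = ((k + (e + j) : ℕ) : ℤ) + n := by push_cast; omega
    refine ⟨⟨fun y => ⟨LocalizedModule.mk m ⟨_, y.2⟩,
        Submodule.subset_span ⟨i', _, ⟨m, hm⟩, ⟨_, hd⟩, y.2, hdeg, rfl⟩⟩,
      fun y => ⟨_, y.2, 𝟙 _, i', _, ⟨m, hm⟩, ⟨_, hd⟩, fun z => z.2, Or.inl hdeg, fun z => rfl⟩⟩, fun y hy => ?_⟩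
    refine (GrMod.locMap_mk u y.1 _ _).trans ?_
    refine LocalizedModule.mk_eq.mpr ⟨1, ?_⟩
    show (1 : A) • s.1 • u m = (1 : A) • (t x ^ k * (b * s.1)) • a
    rw [hum, smul_smul s.1, smul_smul (s.1 * _)]
    congr 2
    ring

/-- Cokernels up to torsion vanish. -/
def TorSurj (t : ∀ _ : ProjectiveSpectrum 𝒜, A) : Prop :=
  ∀ (i : ℕ) (a : N), a ∈ 𝒩 i → ∀ x, ∃ (k i' : ℕ) (m : M), m ∈ ℳ i' ∧ i' + c = k + i ∧ u m = t x ^ k • a

theorem locally_surjective [DirectSum.Decomposition ℳ]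
    (h : TorSurj (ℳ := ℳ) (𝒩 := 𝒩) u c t) (W : (Proj 𝒜).Opens) (a : Γ(GrMod.tilde 𝒜 𝒩 n', W)) (y : Proj 𝒜)
    (hy : y ∈ W) : ∃ (W' : (Proj 𝒜).Opens) (h : W' ≤ W),
      y ∈ W' ∧ ∃ b : Γ(GrMod.tilde 𝒜 ℳ n, W'), (mapC 𝒜 u c hu hn).app W' b = resM _ h a := by
  obtain ⟨V, mV, iV, i, j, m, s, nin, e, w⟩ := (a : GrMod.sect 𝒜 𝒩 n' (op W)).2 ⟨y, hy⟩
  rcases e with e | e
  · obtain ⟨k, i', m', hm', hi', hum⟩ := h i m.1 m.2 y
    obtain ⟨W', hyW', b, hb⟩ := exists_local_lift (ℳ := ℳ) (u := u) (c := c) (hn := hn) (t := t) (ht := ht)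
      (htx := htx) (x := y) (k := k) (e := 0) m.1 s 1 SetLike.GradedOne.one_mem (one_notMem y) (nin ⟨y, mV⟩) e i' m' hm' (by omega)
      (by rwa [one_smul])
    refine ⟨W' ⊓ V, le_trans inf_le_right (leOfHom iV), ⟨hyW', mV⟩, resM _ inf_le_left b, sext fun z => ?_⟩
    exact (hb ⟨z.1, z.2.1⟩ (nin ⟨z.1, z.2.2⟩)).trans (w ⟨z.1, z.2.2⟩).symm
  · refine ⟨V, leOfHom iV, mV, 0, sext fun z => ?_⟩
    refine (map_zero (GrMod.locMap u z.1)).trans ?_
    refine Eq.trans ?_ (w z).symm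
    rw [show (m.1 : N) = 0 from e]
    exact (LocalizedModule.zero_mk _).symm

theorem epi_mapC [DirectSum.Decomposition ℳ] (h : TorSurj (ℳ := ℳ) (𝒩 := 𝒩) u c t) :
    Epi (mapC 𝒜 u c hu hn) :=
  epi_of_locally_surjective _ fun W a y hy => locally_surjective u c hu hn t ht htx h W a y hy

theorem isIso_mapC [DirectSum.Decomposition ℳ] [DirectSum.Decomposition 𝒩] (h₁ : TorInj (ℳ := ℳ) u t)
    (h₂ : TorSurj (ℳ := ℳ) (𝒩 := 𝒩) u c t) : IsIso (mapC 𝒜 u c hu hn) := by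
  have := mono_mapC u c hu hn t ht htx h₁
  have := epi_mapC u c hu hn t ht htx h₂
  exact isIso_of_mono_of_epi _

variable (v : N →ₗ[A] L) (hv : ∀ (i : ℕ) (m : N), m ∈ 𝒩 i → v m ∈ ℒ (i + 0))
  (hu₀ : ∀ (i : ℕ) (m : M), m ∈ ℳ i → u m ∈ 𝒩 (i + 0))

omit ht htx in
theorem mapC_comp_eq_zero (h0 : ∀ (i : ℕ) (m : M), m ∈ ℳ i → v (u m) = 0) [DirectSum.Decomposition ℳ] :
    mapC 𝒜 u 0 hu₀ (n := n) (n' := n) (by simp) ≫ mapC 𝒜 v 0 hv (n' := n) (by simp) = 0 := by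
  refine Scheme.Modules.hom_ext _ _ fun V => ?_
  ext s
  refine sext fun y => ?_
  obtain ⟨i, j, m, r, hr, -, he⟩ := tildeAt_eq_frac n y.1 ((s : GrMod.sect 𝒜 ℳ n (op V)).1 y).2
  show GrMod.locMap v y.1 (GrMod.locMap u y.1 (GrMod.val s y)) = 0
  rw [show GrMod.val s y = _ from he, GrMod.locMap_mk, GrMod.locMap_mk, h0 i m.1 m.2, LocalizedModule.zero_mk]

/-- Homology up to torsion vanishes. -/
def TorExact (t : ∀ _ : ProjectiveSpectrum 𝒜, A) : Prop :=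
  ∀ (i : ℕ) (a : N), a ∈ 𝒩 i → v a = 0 → ∀ x, ∃ (k : ℕ) (m : M), m ∈ ℳ (k + i) ∧ u m = t x ^ k • a

theorem exact_mapC [DirectSum.Decomposition ℳ] [DirectSum.Decomposition 𝒩] [DirectSum.Decomposition ℒ]
    (hex : TorExact (ℳ := ℳ) (𝒩 := 𝒩) u v t)
    (w : mapC 𝒜 u 0 hu₀ (n := n) (n' := n) (by simp) ≫ mapC 𝒜 v 0 hv (n' := n) (by simp) = 0) :
    (ShortComplex.mk (mapC 𝒜 u 0 hu₀ (n := n) (n' := n) (by simp))
      (mapC 𝒜 v 0 hv (n' := n) (by simp)) w).Exact := by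
  refine exact_of_locally _ _ w fun W a ha y hy => ?_
  obtain ⟨V, mV, iV, i, j, m, s, nin, e, w'⟩ := (a : GrMod.sect 𝒜 𝒩 n (op W)).2 ⟨y, hy⟩
  rcases e with e | e
  · have h0 : LocalizedModule.mk (v m.1)
        (⟨s.1, nin ⟨y, mV⟩⟩ : y.asHomogeneousIdeal.toIdeal.primeCompl) = 0 := by
      refine Eq.trans ?_ (congrArg (fun z => GrMod.val (V := W) z ⟨y, hy⟩) ha)
      exact ((congrArg (GrMod.locMap v y) (w' ⟨y, mV⟩)).trans (GrMod.locMap_mk v y _ _)).symm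
    obtain ⟨⟨b, hb⟩, hbm⟩ := LocalizedModule.mk_eq.mp
      (h0.trans (LocalizedModule.zero_mk (1 : y.asHomogeneousIdeal.toIdeal.primeCompl)).symm)
    have hbm' : b • v m.1 = 0 := by simpa [Submonoid.smul_def] using hbm
    obtain ⟨d, b', hb', hb'y, hkill⟩ := exists_homogeneous_kill (hv i m.1 m.2) y hb hbm'
    obtain ⟨k, m', hm', hum⟩ := hex _ (b' • m.1) (SetLike.GradedSMul.smul_mem hb' m.2)
      (by rw [map_smul, hkill]) y
    obtain ⟨W', hyW', z, hz⟩ := exists_local_lift (ℳ := ℳ) (u := u) (c := 0) (n := n) (n' := n) (hn := by simp)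
      (t := t) (ht := ht) (htx := htx) (x := y) m.1 s b' hb' hb'y (nin ⟨y, mV⟩) e _ m' hm'
      (by rw [vadd_eq_add]; omega) hum
    refine ⟨W' ⊓ V, le_trans inf_le_right (leOfHom iV), ⟨hyW', mV⟩, resM _ inf_le_left z, sext fun p => ?_⟩
    exact (hz ⟨p.1, p.2.1⟩ (nin ⟨p.1, p.2.2⟩)).trans (w' ⟨p.1, p.2.2⟩).symm
  · refine ⟨V, leOfHom iV, mV, 0, sext fun z => ?_⟩
    refine (map_zero (GrMod.locMap u z.1)).trans ?_
    refine Eq.trans ?_ (w' z).symm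
    rw [show (m.1 : N) = 0 from e]
    exact (LocalizedModule.zero_mk _).symm

/-- A sequence which is short exact up to torsion gives a short exact sequence of sheaves. -/
theorem shortExact_mapC [DirectSum.Decomposition ℳ] [DirectSum.Decomposition 𝒩] [DirectSum.Decomposition ℒ]
    (h₁ : TorInj (ℳ := ℳ) u t) (hex : TorExact (ℳ := ℳ) (𝒩 := 𝒩) u v t)
    (h₂ : TorSurj (ℳ := 𝒩) (𝒩 := ℒ) v 0 t)
    (w : mapC 𝒜 u 0 hu₀ (n := n) (n' := n) (by simp) ≫ mapC 𝒜 v 0 hv (n' := n) (by simp) = 0) :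
    (ShortComplex.mk (mapC 𝒜 u 0 hu₀ (n := n) (n' := n) (by simp))
      (mapC 𝒜 v 0 hv (n' := n) (by simp)) w).ShortExact where
  exact := exact_mapC u t ht htx v hv hu₀ hex w
  mono_f := mono_mapC u 0 hu₀ (by simp) t ht htx h₁
  epi_g := epi_mapC v 0 hv (by simp) t ht htx h₂

omit ht htx in
include hu in
/-- The section `m / 1` is natural. -/
theorem mapC_globalOf {i : ℕ} (m : ℳ i) (hi : (i : ℤ) + c = ((i + c : ℕ) : ℤ)) :
    (mapC 𝒜 u c hu hi).app ⊤ (GrMod.globalOf 𝒜 ℳ m) = GrMod.globalOf 𝒜 𝒩 ⟨u m, hu i m m.2⟩ :=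
  sext fun x => GrMod.locMap_mk u x.1 _ _

end Groth.Agent.CAlgH3.GrModExact

end
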