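import Groth.Agent.GrLib.Koszul
import Groth.Agent.GrLib.Reg

/-!
Linear generators of a graded ring: relations in degrees above the regularity are Koszul relations.
-/

namespace Groth.Agent.CAlgH3.GrRelations

open Groth.Agent.GrLib DirectSum

universe u v

variable {R : Type u} [CommRing R] {σ : Type u} [SetLike σ R] [AddSubgroupClass σ R] {𝒜 : ℤ → σ}
  [GradedRing 𝒜]

/-- A complex without its degree zero term. -/
noncomputable def trunc (C : GCx 𝒜) : GCx 𝒜 where
  X := fun p => match p with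
    | 0 => subGMod 𝒜 (C.X 1).gr (LinearMap.ker (C.d 0)) (isHomogeneous_ker (C.grHom 0))
    | p + 1 => C.X (p + 2)
  d := fun p => match p with
    | 0 => (C.d 1).codRestrict (LinearMap.ker (C.d 0)) fun x => C.dd 0 x
    | p + 1 => C.d (p + 2)
  grHom := fun p => match p with
    | 0 => fun k x hx => C.grHom 1 k x hx
    | p + 1 => C.grHom (p + 2)
  dd := fun p x => match p, x with
    | 0, x => Subtype.ext (C.dd 1 x)
    | p + 1, x => C.dd (p + 2) x

theorem kills_trunc (C : GCx 𝒜) {y : R} (h : C.Kills y) : (trunc C).Kills y := by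
  refine ⟨fun z => ?_, fun p z hz => ?_⟩
  · obtain ⟨k, w, hw⟩ := h.2 0 z.1 z.2
    exact ⟨k, w, Subtype.ext hw⟩
  · cases p with
    | zero => exact h.2 1 z (congrArg Subtype.val hz)
    | succ p => exact h.2 (p + 2) z hz

/-- The Koszul complex in low degrees: the first term is free on the generators, and the first
boundaries are relations which lift to relations in any ring mapping onto `R`. -/
theorem exists_koszul_low (a : HomogeneousIdeal 𝒜) (V : ℕ → ℤ → Prop)
    (hV : ∀ (i : ℕ) n, V i n → ∀ E : GrLC.StarInjRes 𝒜 𝒜, ∀ x ∈ E.Hgr a i n, x = 0) :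
    ∀ (L : ℕ) (y : Fin L → R) (_ : ∀ i, y i ∈ 𝒜 1),
    ∃ (C : GCx 𝒜) (e : R ≃ₗ[R] (C.X 0).carrier) (ψ : (Fin L → R) ≃ₗ[R] (C.X 1).carrier),
      (∀ r k, r ∈ 𝒜 k → e r ∈ (C.X 0).gr k) ∧
      (∀ c k, (∀ i, c i ∈ 𝒜 (k - 1)) → ψ c ∈ (C.X 1).gr k) ∧
      (∀ c, C.d 0 (ψ c) = e (∑ i, y i * c i)) ∧
      (∀ i, C.Kills (y i)) ∧ (∀ p, L < p → Subsingleton (C.X p).carrier) ∧ C.Bounded a V ∧
      ∀ w, ∀ (S : Type v) [CommRing S] (φ : S →+* R), Function.Surjective φ → ∀ Y : Fin L → S,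
        (∀ i, φ (Y i) = y i) → ∃ g : Fin L → S, (∀ i, φ (g i) = ψ.symm (C.d 1 w) i) ∧ ∑ i, Y i * g i = 0 := by
  intro L
  induction L with
  | zero =>
    intro y hy
    haveI : Subsingleton ((GCx.single 𝒜 𝒜).X 1).carrier :=
      inferInstanceAs (Subsingleton (⊥ : Submodule R R))
    refine ⟨GCx.single 𝒜 𝒜, LinearEquiv.refl R R, LinearEquiv.ofSubsingleton _ _,
      fun r k hr => mem_shiftGr.2 (by rwa [add_zero]), fun c k _ => ?_, fun c => ?_, fun i => i.elim0, fun p hp => ?_, GCx.bounded_single a V hV,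
      fun w S _ φ _ Y _ => ⟨0, fun i => i.elim0, Finset.sum_eq_zero fun i => i.elim0⟩⟩
    · rw [Subsingleton.elim (LinearEquiv.ofSubsingleton (R := R) (Fin 0 → R) ((GCx.single 𝒜 𝒜).X 1).carrier c) 0]
      exact AddSubgroup.zero_mem _
    · rw [Finset.univ_eq_empty, Finset.sum_empty, map_zero]
      rfl
    · obtain ⟨p, rfl⟩ : ∃ q, p = q + 1 := ⟨p - 1, by omega⟩
      exact inferInstanceAs (Subsingleton (⊥ : Submodule R R))
  | succ L ih =>
    intro y hy
    obtain ⟨C, e, ψ, he, hψ, hd, hk, htop, hb, hlift⟩ := ih (fun i => y i.succ) fun i => hy i.succ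
    let ψ' : (Fin (L + 1) → R) ≃ₗ[R] (C.X 1).carrier × (C.X 0).carrier :=
      { toFun := fun c => (ψ fun i => c i.succ, e (c 0))
        invFun := fun z => Fin.cons (e.symm z.2) (ψ.symm z.1)
        left_inv := fun c => by
          funext i
          cases i using Fin.cases <;> simp
        right_inv := fun z => by simp
        map_add' := fun c c' => Prod.ext (by rw [Prod.fst_add, ← map_add]; rfl)
          (by rw [Prod.snd_add, ← map_add]; rfl)
        map_smul' := fun r c => Prod.ext (by rw [Prod.smul_fst, RingHom.id_apply, ← map_smul]; rfl)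
          (by rw [Prod.smul_snd, RingHom.id_apply, ← map_smul]; rfl) }
    refine ⟨C.cone (hy 0), e, ψ', he, fun c k hc => ⟨hψ _ _ fun i => hc i.succ, ?_⟩, fun c => ?_, fun i => ?_,
      fun p hp => ?_, GCx.bounded_cone a (hy 0) hb, ?_⟩
    · show e (c 0) ∈ (C.X 0).gr (k + -1)
      exact he _ _ (by rw [← sub_eq_add_neg]; exact hc 0)
    · show C.d 0 (ψ fun i => c i.succ) + y 0 • e (c 0) = e (∑ i, y i * c i)
      rw [hd, ← map_smul, ← map_add, Fin.sum_univ_succ, smul_eq_mul, add_comm]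
    · cases i using Fin.cases with
      | zero => exact C.kills_cone_self (hy 0)
      | succ i => exact GCx.kills_cone C (hy 0) (hk i)
    · obtain ⟨q, rfl⟩ : ∃ q, p = q + 1 := ⟨p - 1, by omega⟩
      haveI := htop (q + 1) (by omega)
      haveI := htop q (by omega)
      exact inferInstanceAs (Subsingleton ((C.X (q + 1)).carrier × (C.X q).carrier))
    · rintro ⟨w, u⟩ S _ φ hφ Y hY
      obtain ⟨g, hg, hg0⟩ := hlift w S φ hφ (fun i => Y i.succ) fun i => hY i.succ
      choose h hh using fun i => hφ (ψ.symm u i)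
      refine ⟨Fin.cons (-(∑ j, Y j.succ * h j)) fun i => g i + Y 0 * h i, fun i => ?_, ?_⟩
      · show φ _ = (Fin.cons (e.symm (-(C.d 0 u))) (ψ.symm (C.d 1 w + y 0 • u)) : Fin (L + 1) → R) i
        cases i using Fin.cases with
        | zero =>
          rw [Fin.cons_zero, Fin.cons_zero, map_neg, map_neg, map_sum, neg_inj, ← ψ.apply_symm_apply u, hd,
            e.symm_apply_apply]
          exact Finset.sum_congr rfl fun j _ => by rw [map_mul, hY, hh]
        | succ i =>
          rw [Fin.cons_succ, Fin.cons_succ, map_add, map_add, map_mul, hY, hh, hg, map_smul, Pi.add_apply,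
            Pi.smul_apply, smul_eq_mul]
      · rw [Fin.sum_univ_succ, Fin.cons_zero]
        simp only [Fin.cons_succ, mul_add, Finset.sum_add_distrib, hg0, zero_add]
        rw [mul_neg, neg_add_eq_zero, Finset.mul_sum]
        exact Finset.sum_congr rfl fun j _ => by ring

variable [IsNoetherianRing R]

/-- A relation in a degree above the regularity lifts to a relation. -/
theorem exists_lift_relation (a : HomogeneousIdeal 𝒜) {L : ℕ} (y : Fin L → R) (hy : ∀ i, y i ∈ 𝒜 1)
    (ha : a.toIdeal = Ideal.span (Set.range y)) (E : GrLC.StarInjRes 𝒜 𝒜) (s : ℤ)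
    (hvan : ∀ i : ℕ, E.Hgr a i (s - i) = ⊥) (c : Fin L → R) (hc : ∀ i, c i ∈ 𝒜 s)
    (hrel : ∑ i, y i * c i = 0) {S : Type v} [CommRing S] (φ : S →+* R) (hφ : Function.Surjective φ)
    (Y : Fin L → S) (hY : ∀ i, φ (Y i) = y i) :
    ∃ g : Fin L → S, (∀ i, φ (g i) = c i) ∧ ∑ i, Y i * g i = 0 := by
  obtain ⟨C, e, ψ, -, hψ, hd, hk, htop, hb, hlift⟩ := exists_koszul_low.{u, v} a
    (fun i k => E.Hgr a i k = ⊥)
    (fun i k h E' => AddSubgroup.eq_bot_iff_forall _ |>.1 ((eq_bot_iff_of_comp a E' i k).1 h)) L y hy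
  have hgen : a.toIdeal = Ideal.span {z | z ∈ List.ofFn y} := by
    rw [ha]
    congr 1
    ext z
    simp
  have hck : ψ c ∈ LinearMap.ker (C.d 0) := LinearMap.mem_ker.2 (by rw [hd, hrel, map_zero])
  have hck' : (⟨ψ c, hck⟩ : LinearMap.ker (C.d 0)) ∈ ((trunc C).X 0).gr (s + 1) :=
    hψ c (s + 1) fun i => by rw [add_sub_cancel_right]; exact hc i
  have h0 : ∀ F : GrLC.StarInjRes 𝒜 ((trunc C).X 0).gr, ∀ x ∈ F.Hgr a 0 (s + 1), x = 0 := by
    intro F x hx
    letI := subDecomp (C.X 1).gr (isHomogeneous_ker (C.grHom 0))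
    letI := qDecomp (C.X 1).gr (isHomogeneous_ker (C.grHom 0))
    let G := starRes 𝒜 (C.X 1).gr
    obtain ⟨δ, -, hinj, -⟩ := exists_les F (starRes 𝒜 (qGr (C.X 1).gr (LinearMap.ker (C.d 0)))) G a
      (f := (LinearMap.ker (C.d 0)).subtype) (g := (LinearMap.ker (C.d 0)).mkQ) (subtype_grHom _)
      Subtype.coe_injective (mkQ_grHom _) (Submodule.mkQ_surjective _) (LinearMap.exact_subtype_mkQ _)
    refine hinj ((hb 1 0 (s + 1) ?_ G _ ?_).trans (map_zero _).symm)
    · simpa using hvan 0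
    · have := mapH_grHomDeg a (grHomDeg_zero_iff.2 (subtype_grHom (ℳ := (C.X 1).gr)
        (LinearMap.ker (C.d 0)))) 0 (E := F) (F := G) _ x hx
      rwa [add_zero] at this
  have hyp : ∀ q, ∀ F : GrLC.StarInjRes 𝒜 ((trunc C).X (q + 1)).gr,
      ∀ x ∈ F.Hgr a (1 + q) (s + 1), x = 0 := by
    intro q F x hx
    refine hb (q + 2) (1 + q) (s + 1) ?_ F x hx
    have := hvan (1 + q)
    rwa [show s + 1 - ((q + 2 : ℕ) : ℤ) = s - ((1 + q : ℕ) : ℤ) by push_cast; ring]
  obtain ⟨w, hw⟩ := GCx.mem_range a hgen (trunc C) (fun z hz => by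
      obtain ⟨i, rfl⟩ := List.mem_ofFn.1 hz
      exact kills_trunc C (hk i)) (L := L)
    (fun p hp => match p, hp with
      | p + 1, hp => htop (p + 2) (by omega)) (s + 1) h0 hyp _ hck'
  obtain ⟨g, hg, hg0⟩ := hlift w S φ hφ Y hY
  refine ⟨g, fun i => ?_, hg0⟩
  rw [hg, show C.d 1 w = ψ c from congrArg Subtype.val hw, ψ.symm_apply_apply]

end Groth.Agent.CAlgH3.GrRelations
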