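import Groth.Agent.CAlgH3.GrArtinBase
import Groth.Agent.CAlgH3.GrRelations
import Groth.Agent.CAlgH3.GrCanonPoly
import Groth.Agent.CAlgH3.GrEndDeg
import Mathlib

/-!
Polynomial rings among the standard graded algebras over a field.
-/

set_option autoImplicit false

universe u

open MvPolynomial DirectSum Groth.Agent.GrLib IsLocalRing

namespace Groth.Agent.CAlgH3.GrPolyChar

section generators

variable {R : Type u} [CommRing R] {𝒜 : ℤ → AddSubgroup R} [GradedRing 𝒜] {N : ℕ} (x : Fin N → R)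

/-- The ring map from the polynomial ring on the degree one elements `x`. -/
noncomputable def polyMap : MvPolynomial (Fin N) (GrLC.deg0 𝒜) →+* R :=
  eval₂Hom (GrLC.deg0 𝒜).subtype x

variable (hx : ∀ i, x i ∈ 𝒜 1)
include hx

theorem polyMap_mem {n : ℕ} {P : MvPolynomial (Fin N) (GrLC.deg0 𝒜)} (hP : P.IsHomogeneous n) :
    polyMap x P ∈ 𝒜 (n : ℤ) := by
  rw [P.as_sum, map_sum]
  refine sum_mem fun d hd => ?_
  rw [polyMap, eval₂Hom_monomial]
  have hd' : d.degree = n := by
    have := hP (mem_support_iff.1 hd)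
    rwa [Finsupp.degree_eq_weight_one]
  have h1 : d.prod (fun i e => x i ^ e) ∈ 𝒜 (n : ℤ) := by
    have := SetLike.prod_pow_mem_graded (A := 𝒜) (fun _ => (1 : ℤ)) x (fun i => d i) (F := d.support)
      fun i _ => hx i
    rw [← hd']
    simpa [Finsupp.prod, Finsupp.degree_apply] using this
  have := SetLike.GradedMul.mul_mem (A := 𝒜) (show ((P.coeff d : GrLC.deg0 𝒜) : R) ∈ 𝒜 0 from (P.coeff d).2) h1
  rwa [zero_add] at this

theorem proj_polyMap (n : ℕ) (P : MvPolynomial (Fin N) (GrLC.deg0 𝒜)) :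
    proj 𝒜 (n : ℤ) (polyMap x P) = polyMap x (homogeneousComponent n P) := by
  have hall : ∀ k : ℕ, polyMap x (homogeneousComponent k P) ∈ 𝒜 (k : ℤ) := fun k =>
    polyMap_mem x hx (homogeneousComponent_isHomogeneous k P)
  conv_lhs => rw [← sum_homogeneousComponent P, map_sum, map_sum]
  by_cases hn : n ∈ Finset.range (P.totalDegree + 1)
  · rw [Finset.sum_eq_single n (fun k _ hk => proj_of_mem_ne (hall k) (by exact_mod_cast hk))
      (fun h => absurd hn h), proj_of_mem (hall n)]
  · rw [Finset.sum_eq_zero fun k hk => proj_of_mem_ne (hall k) (by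
      intro h; rw [Int.natCast_inj] at h; exact hn (h ▸ hk))]
    rw [homogeneousComponent_eq_zero _ _ (by simp at hn; omega), map_zero]

theorem polyMap_surjective (hneg : ∀ k : ℤ, k < 0 → ∀ z ∈ 𝒜 k, z = 0)
    (hgen : ∀ n : ℤ, 0 < n → ∀ z ∈ 𝒜 n, z ∈ Ideal.span (Set.range x)) :
    Function.Surjective (polyMap (𝒜 := 𝒜) x) := by
  have key : ∀ n : ℕ, ∀ z ∈ 𝒜 (n : ℤ), z ∈ (polyMap (𝒜 := 𝒜) x).range := by
    intro n
    induction n with
    | zero => exact fun z hz => ⟨C ⟨z, hz⟩, eval₂Hom_C _ _ _⟩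
    | succ n ih =>
      intro z hz
      obtain ⟨c, hc⟩ := Ideal.mem_span_range_iff_exists_fun.1 (hgen _ (by omega) z hz)
      rw [← proj_of_mem hz, ← hc, map_sum]
      refine sum_mem fun i _ => ?_
      rw [mul_comm, ← smul_eq_mul, proj_smul' (ℳ := 𝒜) (hx i), smul_eq_mul]
      refine mul_mem ⟨X i, eval₂Hom_X' _ _ _⟩ (ih _ ?_)
      rw [show ((n + 1 : ℕ) : ℤ) - 1 = n by omega]
      exact proj_mem 𝒜 _ _
  intro z
  show z ∈ (polyMap (𝒜 := 𝒜) x).range
  refine DirectSum.Decomposition.inductionOn 𝒜 (motive := fun r => r ∈ (polyMap (𝒜 := 𝒜) x).range)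
    (zero_mem _) (fun {i} r => ?_) (fun a b ha hb => add_mem ha hb) z
  rcases lt_or_ge i 0 with hi | hi
  · rw [hneg i hi _ r.2]; exact zero_mem _
  · obtain ⟨n, rfl⟩ := Int.eq_ofNat_of_zero_le hi
    exact key n _ r.2

omit [GradedRing 𝒜] hx in
theorem homogeneousComponent_X_mul {A : Type u} [CommRing A] (i : Fin N) (k : ℕ) (g : MvPolynomial (Fin N) A) :
    homogeneousComponent (k + 1) (X i * g) = X i * homogeneousComponent k g := by
  classical
  ext d
  rw [coeff_homogeneousComponent, coeff_X_mul', coeff_X_mul']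
  by_cases hi : i ∈ d.support
  · rw [if_pos hi, if_pos hi, coeff_homogeneousComponent]
    have : Finsupp.single i 1 + (d - Finsupp.single i 1) = d :=
      add_tsub_cancel_of_le (Finsupp.single_le_iff.2 (by simpa [Nat.one_le_iff_ne_zero] using hi))
    conv_lhs => rw [← this, map_add, Finsupp.degree_single]
    simp [add_comm 1]
  · simp [hi]

variable [IsNoetherianRing R]

/-- Above the regularity the generators have no relations. -/
theorem polyMap_injective (m : HomogeneousIdeal 𝒜) (hm : m.toIdeal = Ideal.span (Set.range x))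
    (E : GrLC.StarInjRes 𝒜 𝒜) (hvan : ∀ s : ℤ, 1 ≤ s → ∀ i : ℕ, E.Hgr m i (s - i) = ⊥)
    (hind : ∀ c : Fin N → GrLC.deg0 𝒜, ∑ i, (c i : R) * x i = 0 → c = 0)
    (hsur : Function.Surjective (polyMap (𝒜 := 𝒜) x)) : Function.Injective (polyMap (𝒜 := 𝒜) x) := by
  have key : ∀ (n : ℕ) (P : MvPolynomial (Fin N) (GrLC.deg0 𝒜)), P.IsHomogeneous n → polyMap x P = 0 →
      P = 0 := by
    intro n
    induction n with
    | zero =>
      intro P hP h0
      rw [totalDegree_eq_zero_iff_eq_C.mp (Nat.le_zero.mp hP.totalDegree_le)] at h0 ⊢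
      rw [polyMap, eval₂Hom_C] at h0
      rw [show coeff 0 P = 0 from Subtype.ext h0, map_zero]
    | succ n ih =>
      intro P hP h0
      obtain ⟨g₀, hg₀⟩ := Ideal.mem_span_range_iff_exists_fun.1 (show P ∈ Ideal.span (Set.range
          (X : Fin N → MvPolynomial (Fin N) (GrLC.deg0 𝒜))) by
        rw [← Set.image_univ, mem_ideal_span_X_image]
        intro d hd
        by_contra hno
        push Not at hno
        have hd0 : d = 0 := Finsupp.ext fun i => hno i (Set.mem_univ i)
        have := hP (mem_support_iff.1 hd)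
        rw [hd0, map_zero] at this
        omega)
      let g : Fin N → MvPolynomial (Fin N) (GrLC.deg0 𝒜) := fun i => homogeneousComponent n (g₀ i)
      have hg : P = ∑ i, X i * g i := by
        rw [← show homogeneousComponent (n + 1) P = P by rw [homogeneousComponent_of_mem hP, if_pos rfl], ← hg₀, map_sum]
        exact Finset.sum_congr rfl fun i _ => by rw [mul_comm, homogeneousComponent_X_mul]
      have hrel : ∑ i, x i * polyMap x (g i) = 0 := by
        rw [← h0, hg, map_sum]
        exact Finset.sum_congr rfl fun i _ => by rw [map_mul]; exact congrArg (· * _) (eval₂Hom_X' _ _ _).symm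
      cases n with
      | zero =>
        have hgC : ∀ i, g i = C (coeff 0 (g₀ i)) := fun i => homogeneousComponent_zero _
        have hc := hind (fun i => coeff 0 (g₀ i)) (by
          rw [← hrel]
          refine Finset.sum_congr rfl fun i _ => ?_
          rw [hgC, polyMap, eval₂Hom_C, mul_comm]
          rfl)
        rw [hg]
        refine Finset.sum_eq_zero fun i _ => ?_
        rw [hgC, show coeff 0 (g₀ i) = 0 from congrFun hc i, map_zero, mul_zero]
      | succ n =>
        obtain ⟨h, hh, hh0⟩ := GrRelations.exists_lift_relation m x hx hm E ((n + 1 : ℕ) : ℤ)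
          (hvan _ (by omega)) (fun i => polyMap x (g i))
          (fun i => polyMap_mem x hx (homogeneousComponent_isHomogeneous _ _)) hrel (polyMap x) hsur X
          (fun i => eval₂Hom_X' _ _ _)
        have hgh : ∀ i, g i = homogeneousComponent (n + 1) (h i) := fun i => sub_eq_zero.1
          (ih _ ((homogeneousComponent_isHomogeneous _ _).sub (homogeneousComponent_isHomogeneous _ _)) (by
            rw [map_sub, ← proj_polyMap x hx _ (h i), hh, proj_of_mem
              (polyMap_mem x hx (homogeneousComponent_isHomogeneous _ _)), sub_self]))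
        calc P = ∑ i, X i * g i := hg
          _ = homogeneousComponent (n + 1 + 1) (∑ i, X i * h i) := by
            rw [map_sum]
            exact Finset.sum_congr rfl fun i _ => by rw [hgh, homogeneousComponent_X_mul]
          _ = 0 := by rw [hh0, map_zero]
  refine (injective_iff_map_eq_zero _).2 fun P hP => ?_
  rw [← sum_homogeneousComponent P]
  exact Finset.sum_eq_zero fun n _ => key n _ (homogeneousComponent_isHomogeneous n P)
    (by rw [← proj_polyMap x hx, hP, map_zero])

end generators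

variable {R : Type u} [CommRing R] {𝒜 : ℤ → AddSubgroup R} [GradedRing 𝒜] [IsNoetherianRing R]

theorem exists_basis (h0 : IsField (GrLC.deg0 𝒜)) :
    ∃ (N : ℕ) (x : Fin N → R), (∀ i, x i ∈ 𝒜 1) ∧
      Ideal.span ((𝒜 1 : AddSubgroup R) : Set R) = Ideal.span (Set.range x) ∧
      (∀ c : Fin N → GrLC.deg0 𝒜, ∑ i, (c i : R) * x i = 0 → c = 0) ∧
      ∀ (M : ℕ) (w : Fin M → R), (∀ j, w j ∈ 𝒜 1) →
        (∀ v ∈ 𝒜 1, ∃ c : Fin M → GrLC.deg0 𝒜, ∑ j, (c j : R) * w j = v) → N ≤ M := by
  letI := h0.toField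
  haveI : IsNoetherian (GrLC.deg0 𝒜) (GrLC.comp 𝒜 𝒜 (1 : ℤ)) := isNoetherian_piece 𝒜 𝒜 1
  let b := Module.finBasis (GrLC.deg0 𝒜) (GrLC.comp 𝒜 𝒜 (1 : ℤ))
  refine ⟨_, fun i => (b i : R), fun i => (b i).2, le_antisymm (Ideal.span_le.2 fun v hv => ?_)
    (Ideal.span_mono (Set.range_subset_iff.2 fun i => (b i).2)), fun c hc => ?_, fun M w hw hsp => ?_⟩
  · have h := congrArg Subtype.val (b.sum_repr ⟨v, hv⟩)
    rw [AddSubmonoidClass.coe_finsetSum] at h
    rw [SetLike.mem_coe, show v = _ from h.symm]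
    exact sum_mem fun i _ => Ideal.mul_mem_left _ _ (Ideal.subset_span ⟨i, rfl⟩)
  · funext i
    refine Fintype.linearIndependent_iff.1 b.linearIndependent c (Subtype.ext ?_) i
    rw [AddSubmonoidClass.coe_finsetSum]
    exact hc
  · have hle : (⊤ : Submodule (GrLC.deg0 𝒜) (GrLC.comp 𝒜 𝒜 (1 : ℤ))) ≤
        Submodule.span (GrLC.deg0 𝒜) (Set.range fun j => (⟨w j, hw j⟩ : GrLC.comp 𝒜 𝒜 (1 : ℤ))) := by
      rintro ⟨v, hv⟩ -
      obtain ⟨c, hc⟩ := hsp v hv
      refine (Submodule.mem_span_range_iff_exists_fun _).2 ⟨c, Subtype.ext ?_⟩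
      rw [AddSubmonoidClass.coe_finsetSum]
      exact hc
    calc Module.finrank (GrLC.deg0 𝒜) (GrLC.comp 𝒜 𝒜 (1 : ℤ))
        = Module.finrank (GrLC.deg0 𝒜) (⊤ : Submodule (GrLC.deg0 𝒜) (GrLC.comp 𝒜 𝒜 (1 : ℤ))) :=
          (finrank_top _ _).symm
      _ ≤ _ := Submodule.finrank_mono hle
      _ ≤ M := (finrank_range_le_card _).trans (by simp)

theorem iff_polynomial [_root_.LocCoh.IsCohenMacaulayRing R] (hneg : ∀ k : ℤ, k < 0 → ∀ z ∈ 𝒜 k, z = 0)
    (h0 : IsField (GrLC.deg0 𝒜)) (m : HomogeneousIdeal 𝒜) (hm : GrLC.IsStarLocal 𝒜 m)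
    (hmsp : m.toIdeal = Ideal.span ((𝒜 1 : AddSubgroup R) : Set R))
    (hstd : Ideal.span (⋃ n ∈ Set.Ioi (0 : ℤ), (𝒜 n : Set R)) = Ideal.span ((𝒜 1 : AddSubgroup R) : Set R))
    (r : ℕ) (hr : ringKrullDim R = r) (I : GrLC.StarInjRes 𝒜 𝒜) :
    GrLC.endDeg (I.Hgr m r) = (((-(r : ℤ) : ℤ) : WithTop ℤ) : WithBot (WithTop ℤ)) ↔
      Nonempty (R ≃+* MvPolynomial (Fin r) (GrLC.deg0 𝒜)) := by
  letI := h0.toField
  haveI := isMaximal_starMaximal hneg hm
  have hdim : ∀ M : ℕ, ringKrullDim (MvPolynomial (Fin M) (GrLC.deg0 𝒜)) = M := fun M => by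
    rw [MvPolynomial.ringKrullDim_of_isNoetherianRing, ringKrullDim_eq_zero_of_field]
    simp
  obtain ⟨N, x, hx, hspan, hind, hmin⟩ := exists_basis h0
  have hgen : ∀ n : ℤ, 0 < n → ∀ z ∈ 𝒜 n, z ∈ Ideal.span (Set.range x) := fun n hn z hz =>
    (hstd.trans hspan).le (Ideal.subset_span (Set.mem_iUnion₂.2 ⟨n, hn, hz⟩))
  have hsur := polyMap_surjective x hx hneg hgen
  constructor
  · intro hend
    have hvan : ∀ s : ℤ, 1 ≤ s → ∀ i : ℕ, I.Hgr m i (s - i) = ⊥ := by
      intro s hs i
      by_cases hi : i = r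
      · by_contra hne
        have hle := le_iSup₂ (f := fun (k : ℤ) (_ : I.Hgr m i k ≠ ⊥) =>
          ((k : WithTop ℤ) : WithBot (WithTop ℤ))) (s - i) hne
        subst hi
        have := hle.trans hend.le
        simp only [WithBot.coe_le_coe, WithTop.coe_le_coe] at this
        omega
      · exact GrArtinBase.Hgr_ne hneg hm hr I i hi _
    let φ : MvPolynomial (Fin N) (GrLC.deg0 𝒜) ≃+* R := RingEquiv.ofBijective (polyMap x)
      ⟨polyMap_injective x hx m (hmsp.trans hspan) I hvan hind hsur, hsur⟩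
    have hN : ((N : ℕ) : WithBot ℕ∞) = (r : ℕ) := by rw [← hdim N, ringKrullDim_eq_of_ringEquiv φ, hr]
    obtain rfl : N = r := by exact_mod_cast hN
    exact ⟨φ.symm⟩
  · rintro ⟨e⟩
    haveI : IsRegularRing R := IsRegularRing.of_ringEquiv e.symm
    haveI : IsDomain R := Function.Injective.isDomain e.toRingHom e.injective
    have hNr : N ≤ r := by
      let A := Localization.AtPrime m.toIdeal
      have hA : (maximalIdeal A).spanFinrank = r := by
        haveI : IsRegularLocalRing A := IsRegularRing.isRegularLocalRing_localization m.toIdeal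
        have h1 : ((maximalIdeal A).spanFinrank : WithBot ℕ∞) = ringKrullDim A :=
          IsRegularLocalRing.spanFinrank_maximalIdeal
        rw [IsLocalization.AtPrime.ringKrullDim_eq_height m.toIdeal,
          ← ringKrullDim_eq_height_starMaximal hneg hm, hr] at h1
        exact_mod_cast h1
      obtain ⟨S, hS, hcard⟩ : ∃ S : Finset A, Ideal.span (S : Set A) = maximalIdeal A ∧ S.card = r := by
        have hfg : Submodule.FG (maximalIdeal A : Submodule A A) := IsNoetherian.noetherian _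
        have h1 := Submodule.FG.generators_ncard hfg
        have h2 := Submodule.FG.finite_generators hfg
        exact ⟨h2.toFinset, by rw [h2.coe_toFinset]; exact (maximalIdeal A).span_generators,
          by rw [← hA, ← h1, Set.ncard_eq_toFinset_card _ h2]⟩
      have hrep : ∀ t : A, t ∈ maximalIdeal A → ∃ g ∈ m.toIdeal, ∃ s : m.toIdeal.primeCompl,
          t = IsLocalization.mk' A g s := by
        intro t ht
        obtain ⟨g, s, rfl⟩ := IsLocalization.exists_mk'_eq m.toIdeal.primeCompl t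
        exact ⟨g, (IsLocalization.AtPrime.mk'_mem_maximal_iff A m.toIdeal g s).1 ht, s, rfl⟩
      choose g hgm sd hgs using fun j : Fin S.card => hrep (S.equivFin.symm j).1
        (hS.le (Ideal.subset_span (S.equivFin.symm j).2))
      have hw : ∀ j, proj 𝒜 1 (g j) ∈ 𝒜 1 := fun j => proj_mem 𝒜 1 _
      rw [← hcard]
      refine hmin _ _ hw fun v hv => ?_
      have hv' : algebraMap R A v ∈ Ideal.map (algebraMap R A) (Ideal.span (Set.range g)) := by
        have hmem : algebraMap R A v ∈ maximalIdeal A :=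
          (IsLocalization.AtPrime.to_map_mem_maximal_iff A m.toIdeal v).2
            (hmsp.ge (Ideal.subset_span hv))
        rw [← hS] at hmem
        refine (Ideal.span_le.2 fun t ht => ?_) hmem
        obtain ⟨j, hj⟩ : ∃ j, (S.equivFin.symm j).1 = t := ⟨S.equivFin ⟨t, ht⟩, by simp⟩
        rw [SetLike.mem_coe, ← hj, hgs j, IsLocalization.mk'_eq_mul_mk'_one]
        exact Ideal.mul_mem_right _ _ (Ideal.mem_map_of_mem _ (Ideal.subset_span ⟨j, rfl⟩))
      obtain ⟨⟨⟨u, hu⟩, t⟩, hut⟩ := (IsLocalization.mem_map_algebraMap_iff m.toIdeal.primeCompl A).1 hv'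
      rw [← map_mul] at hut
      obtain ⟨c', hc'⟩ := (IsLocalization.eq_iff_exists m.toIdeal.primeCompl A).1 hut
      obtain ⟨c, hc⟩ := Ideal.mem_span_range_iff_exists_fun.1 (Ideal.mul_mem_left _ (c' : R) hu)
      set s : R := (c' : R) * (t : R) with hsdef
      have hsv : s * v = ∑ j, c j * g j := by rw [hc, ← hc', hsdef]; ring
      have hs0 : proj 𝒜 0 s ≠ 0 := by
        intro h
        refine (c' * t).2 (mem_of_proj_mem 𝒜 m.toIdeal fun k => ?_)
        show proj 𝒜 k s ∈ m.toIdeal
        rcases lt_trichotomy k 0 with hk | hk | hk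
        · rw [hneg k hk _ (proj_mem 𝒜 k s)]; exact zero_mem _
        · rw [hk, h]; exact zero_mem _
        · exact (hstd.trans hmsp.symm).le (Ideal.subset_span (Set.mem_iUnion₂.2 ⟨k, hk, proj_mem 𝒜 k s⟩))
      have hg0 : ∀ j, proj 𝒜 0 (g j) = 0 := by
        intro j
        obtain ⟨c₀, hc₀⟩ := Ideal.mem_span_range_iff_exists_fun.1 ((hmsp.trans hspan).le (hgm j))
        rw [← hc₀, map_sum]
        refine Finset.sum_eq_zero fun i _ => ?_
        rw [mul_comm, ← smul_eq_mul, proj_smul' (ℳ := 𝒜) (hx i), hneg (0 - 1) (by omega) _ (proj_mem 𝒜 _ _), smul_zero]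
      have hprod : ∀ a b : R, proj 𝒜 0 b = 0 → proj 𝒜 1 (a * b) = proj 𝒜 0 a * proj 𝒜 1 b := by
        intro a b hb
        refine DirectSum.Decomposition.inductionOn 𝒜
          (motive := fun a => proj 𝒜 1 (a * b) = proj 𝒜 0 a * proj 𝒜 1 b) (by simp) (fun {i} a => ?_)
          (fun a a' h h' => by rw [add_mul, map_add, h, h', map_add, add_mul]) a
        rw [← smul_eq_mul, proj_smul' (ℳ := 𝒜) a.2, smul_eq_mul]
        rcases lt_trichotomy i 0 with hi | hi | hi
        · rw [hneg i hi _ a.2, zero_mul, map_zero, zero_mul]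
        · subst hi
          rw [proj_of_mem a.2, sub_zero]
        · rw [proj_of_mem_ne a.2 hi.ne', zero_mul]
          rcases (show i = 1 ∨ 1 < i by omega) with rfl | h1
          · rw [sub_self, hb, mul_zero]
          · rw [hneg (1 - i) (by omega) _ (proj_mem 𝒜 _ _), mul_zero]
      have hv1 : proj 𝒜 0 s * v = ∑ j, proj 𝒜 0 (c j) * proj 𝒜 1 (g j) := by
        have := congrArg (proj 𝒜 1) hsv
        rw [map_sum, Finset.sum_congr rfl (fun j _ => hprod _ _ (hg0 j))] at this
        rwa [hprod _ _ (proj_of_mem_ne hv (by omega)), proj_of_mem hv] at this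
      let s0 : GrLC.deg0 𝒜 := ⟨proj 𝒜 0 s, proj_mem 𝒜 0 s⟩
      refine ⟨fun j => s0⁻¹ * ⟨proj 𝒜 0 (c j), proj_mem 𝒜 0 _⟩, ?_⟩
      have hs1 : (s0⁻¹ : GrLC.deg0 𝒜) * s0 = 1 := inv_mul_cancel₀ fun h => hs0 (congrArg Subtype.val h)
      calc ∑ j, ((s0⁻¹ * ⟨proj 𝒜 0 (c j), proj_mem 𝒜 0 _⟩ : GrLC.deg0 𝒜) : R) * proj 𝒜 1 (g j)
          = ((s0⁻¹ : GrLC.deg0 𝒜) : R) * (proj 𝒜 0 s * v) := by
            rw [hv1, Finset.mul_sum]
            exact Finset.sum_congr rfl fun j _ => mul_assoc _ _ _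
        _ = ((s0⁻¹ * s0 : GrLC.deg0 𝒜) : R) * v := (mul_assoc _ _ _).symm
        _ = v := by rw [hs1, OneMemClass.coe_one, one_mul]
    have hker : RingHom.ker (polyMap (𝒜 := 𝒜) x) = ⊥ := by
      by_contra hne
      haveI : (RingHom.ker (polyMap (𝒜 := 𝒜) x)).IsPrime := RingHom.ker_isPrime _
      have h1 := CAlgH3.ringKrullDim_quotient_add_one_le
        (bot_lt_iff_ne_bot.2 hne : (⊥ : Ideal (MvPolynomial (Fin N) (GrLC.deg0 𝒜))) < _)
      rw [ringKrullDim_eq_of_ringEquiv (RingHom.quotientKerEquivOfSurjective hsur), hr,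
        ringKrullDim_eq_of_ringEquiv (RingEquiv.quotientBot _), hdim] at h1
      have : r + 1 ≤ N := by exact_mod_cast h1
      omega
    have hinj : Function.Injective (polyMap (𝒜 := 𝒜) x) := (RingHom.injective_iff_ker_eq_bot _).2 hker
    let φ := RingEquiv.ofBijective (polyMap x) ⟨hinj, hsur⟩
    have hN : ((N : ℕ) : WithBot ℕ∞) = (r : ℕ) := by rw [← hdim N, ringKrullDim_eq_of_ringEquiv φ, hr]
    obtain rfl : N = r := by exact_mod_cast hN
    haveI : IsArtinianRing (GrLC.deg0 𝒜) := inferInstance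
    refine le_antisymm ?_ ?_
    · have hreg : RingTheory.Sequence.IsWeaklyRegular R (List.ofFn x) := by
        refine (AddEquiv.isWeaklyRegular_congr (e := φ.toAddEquiv) ?_).1 (GrCanonPoly.isWeaklyRegular_X (k := GrLC.deg0 𝒜) (N := N))
        rw [List.forall₂_iff_get]
        refine ⟨by simp, fun i h₁ h₂ p => ?_⟩
        simp only [List.get_eq_getElem, List.getElem_ofFn]
        show polyMap x (X _ * p) = x _ * polyMap x p
        rw [map_mul, polyMap, eval₂Hom_X']
      have hQ : (Ideal.span (Set.range x) • (⊤ : Submodule R R)).IsHomogeneous 𝒜 := by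
        rw [smul_eq_mul, Ideal.mul_top]
        exact Ideal.homogeneous_span _ _ (fun z ⟨i, hi⟩ => ⟨1, hi ▸ hx i⟩)
      letI := qDecomp 𝒜 hQ
      let F := starRes 𝒜 (qGr 𝒜 (Ideal.span (Set.range x) • (⊤ : Submodule R R)))
      have hh : m.toIdeal.height = N := WithBot.coe_inj.1
        ((ringKrullDim_eq_height_starMaximal hneg hm).symm.trans hr)
      have h := GrEndDeg.endDeg_regularSeq m N I N le_rfl (GrEndDeg.subsingleton_H_low m hh I) x (fun _ => 1) hx
        (fun _ => zero_le_one) (fun i => hmsp.ge (Ideal.subset_span (hx i))) hreg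
        (Submodule.mkQ _) (mkQ_grHom _) (Submodule.mkQ_surjective _) (Submodule.ker_mkQ _) F
      rw [Nat.sub_self] at h
      have hle : GrLC.endDeg (F.Hgr m 0) ≤ (((0 : ℤ) : WithTop ℤ) : WithBot (WithTop ℤ)) := by
        refine iSup₂_le fun k hk => WithBot.coe_le_coe.2 (WithTop.coe_le_coe.2 (le_of_not_gt fun hk0 => hk ?_))
        refine (AddSubgroup.eq_bot_iff_forall _).2 (Hgr_eq_zero_of_bdd hneg 0 ?_ F m 0 k hk0)
        intro n hn q hq
        obtain ⟨z, hz, rfl⟩ := mem_qGr.1 hq
        rw [Submodule.Quotient.mk_eq_zero, smul_eq_mul, Ideal.mul_top]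
        exact hgen n hn _ hz
      rw [h, Finset.sum_const, Finset.card_univ, Fintype.card_fin, nsmul_one] at hle
      generalize GrLC.endDeg (I.Hgr m N) = X at hle ⊢
      induction X with
      | bot => exact bot_le
      | coe X =>
        induction X with
        | top =>
          rw [← WithBot.coe_add, WithTop.top_add, WithBot.coe_le_coe] at hle
          exact absurd hle (not_le.2 (WithTop.coe_lt_top _))
        | coe a =>
          rw [← WithBot.coe_add, ← WithTop.coe_add, WithBot.coe_le_coe, WithTop.coe_le_coe] at hle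
          rw [WithBot.coe_le_coe, WithTop.coe_le_coe]
          omega
    · by_contra hlt
      have hb : I.Hgr m N (0 - N) = ⊥ := by
        by_contra hne
        rw [zero_sub] at hne
        exact hlt (le_iSup₂ (f := fun (k : ℤ) (_ : I.Hgr m N k ≠ ⊥) =>
          ((k : WithTop ℤ) : WithBot (WithTop ℤ))) _ hne)
      have h1 := GrArtinBase.piece_le_span hneg hm hstd hr I 0 hb 1 SetLike.GradedOne.one_mem
      exact one_ne_zero (α := R) ((Submodule.mem_bot R).1 ((Submodule.span_eq_bot.2 fun y hy =>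
        hneg (0 - 1) (by omega) y hy).le h1))

end Groth.Agent.CAlgH3.GrPolyChar
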