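import Groth.Agent.GrLib.LES
import Groth.Agent.GrLib.Acyclic
import Groth.Agent.GrLib.RegOps
import Groth.Agent.LocCoh.BaseChange
import Groth.Agent.CAlgH3.GrArtinBase

/-!
Veronese subrings: Veronese parts of graded modules and their local cohomology.
-/

set_option autoImplicit false

universe u

open DirectSum Groth.Agent.GrLib

namespace Groth.Agent.CAlgH3.GrVeronese

variable {R : Type u} [CommRing R] {𝒜 : ℤ → AddSubgroup R} [GradedRing 𝒜] {R' : Type u} [CommRing R']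
  {𝒜' : ℤ → AddSubgroup R'} [GradedRing 𝒜'] [Algebra R' R]

variable (𝒜 𝒜') in
/-- `R'` is the `q`-th Veronese subring of `R`. -/
structure IsVer (q : ℕ) : Prop where
  pos : 0 < q
  inj : Function.Injective (algebraMap R' R)
  deg : ∀ j : ℤ, (𝒜' j).map (algebraMap R' R : R' →+ R) = 𝒜 (j * q)

variable {q : ℕ} (hV : IsVer 𝒜 𝒜' q)
include hV

theorem map_mem {j : ℤ} {r : R'} (hr : r ∈ 𝒜' j) : algebraMap R' R r ∈ 𝒜 (j * q) :=
  (hV.deg j).le ⟨r, hr, rfl⟩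

theorem exists_of_mem {j : ℤ} {r : R} (hr : r ∈ 𝒜 (j * q)) : ∃ r' ∈ 𝒜' j, algebraMap R' R r' = r :=
  (hV.deg j).ge hr

theorem index_ne {j n : ℤ} (h : n ≠ j) : n * (q : ℤ) ≠ j * q := fun e =>
  h (mul_right_cancel₀ (show (q : ℤ) ≠ 0 by have := hV.pos; omega) e)

section module

variable {X : Type u} [AddCommGroup X] [Module R X] [Module R' X] [IsScalarTower R' R X]
  (𝒳 : ℤ → AddSubgroup X) [Decomposition 𝒳] [SetLike.GradedSMul 𝒜 𝒳]

theorem proj_smul_alg {j : ℤ} {r : R'} (hr : r ∈ 𝒜' j) (n : ℤ) (x : X) :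
    proj 𝒳 n (r • x) = r • proj 𝒳 (n - j * q) x := by
  rw [← IsScalarTower.algebraMap_smul R r x, proj_smul' (ℳ := 𝒳) (map_mem hV hr),
    IsScalarTower.algebraMap_smul]

/-- The elements whose components sit in degrees divisible by `q`. -/
def ver : Submodule R' X where
  carrier := {x | ∀ n : ℤ, ¬ (q : ℤ) ∣ n → proj 𝒳 n x = 0}
  zero_mem' := fun n _ => map_zero _
  add_mem' hx hy n hn := by rw [map_add, hx n hn, hy n hn, add_zero]
  smul_mem' r x hx n hn := by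
    refine smul_induction 𝒜' (motive := fun r => proj 𝒳 n (r • x) = 0) (by simp) ?_ ?_ r
    · intro j s hs
      rw [proj_smul_alg hV 𝒳 hs, hx _ (fun h => hn (by simpa using dvd_add h (dvd_mul_left (q : ℤ) j))),
        smul_zero]
    · intro r s hr hs
      rw [add_smul, map_add, hr, hs, add_zero]

theorem mem_ver_of_mem {j : ℤ} {x : X} (hx : x ∈ 𝒳 (j * q)) : x ∈ ver hV 𝒳 := fun _ hn =>
  proj_of_mem_ne hx fun h => hn (h ▸ dvd_mul_left _ _)

/-- The grading of the Veronese part. -/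
def verGr (j : ℤ) : AddSubgroup (ver hV 𝒳) :=
  (𝒳 (j * q)).comap (ver hV 𝒳).subtype.toAddMonoidHom

theorem mem_verGr {j : ℤ} {x : ver hV 𝒳} : x ∈ verGr hV 𝒳 j ↔ (x : X) ∈ 𝒳 (j * q) := Iff.rfl

theorem mem_iSup_verGr (x : ver hV 𝒳) : x ∈ ⨆ j, verGr hV 𝒳 j := by
  classical
  let S := (decompose 𝒳 (x : X)).support
  have hdvd : ∀ n ∈ S, (q : ℤ) ∣ n := fun n hn => by
    by_contra h
    exact (DFinsupp.mem_support_toFun _ _).1 hn (Subtype.ext (x.2 n h))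
  have hmem : ∀ n : S, ∃ j : ℤ, (n : ℤ) = j * q := fun n => by
    obtain ⟨j, hj⟩ := hdvd n n.2
    exact ⟨j, by rw [hj, mul_comm]⟩
  choose j hj using hmem
  have hx : x = ∑ n : S, (⟨proj 𝒳 (n : ℤ) (x : X),
      mem_ver_of_mem hV 𝒳 (j := j n) (by rw [← hj]; exact proj_mem 𝒳 _ _)⟩ : ver hV 𝒳) := by
    refine Subtype.ext ?_
    rw [AddSubmonoidClass.coe_finsetSum]
    conv_lhs => rw [← sum_support_decompose 𝒳 (x : X)]
    exact (Finset.sum_coe_sort S fun n => proj 𝒳 n (x : X)).symm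
  rw [hx]
  refine sum_mem fun n _ => AddSubgroup.mem_iSup_of_mem (j n) ?_
  show proj 𝒳 (n : ℤ) (x : X) ∈ 𝒳 (j n * q)
  rw [← hj]
  exact proj_mem 𝒳 _ _

/-- The Veronese part is graded. -/
noncomputable abbrev verDecomp : Decomposition (verGr hV 𝒳) :=
  decompositionOfProj (verGr hV 𝒳)
    (fun j => ((proj 𝒳 (j * q)).comp (ver hV 𝒳).subtype.toAddMonoidHom).codRestrict (ver hV 𝒳).toAddSubgroup
      fun _ => mem_ver_of_mem hV 𝒳 (proj_mem 𝒳 _ _))
    (fun j x hx => Subtype.ext (proj_of_mem hx))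
    (fun j k hne x hx => Subtype.ext (proj_of_mem_ne hx (index_ne hV hne)))
    (eq_top_iff.2 fun x _ => mem_iSup_verGr hV 𝒳 x)

instance verGr_gradedSMul : SetLike.GradedSMul 𝒜' (verGr hV 𝒳) where
  smul_mem {a g r x} hr hx := by
    rw [vadd_eq_add]
    show r • (x : X) ∈ 𝒳 ((a + g) * q)
    rw [← IsScalarTower.algebraMap_smul R r (x : X), add_mul]
    exact smul_mem (ℳ := 𝒳) (map_mem hV hr) hx

theorem exists_proj_ver : ∃ P : X →ₗ[R'] ver hV 𝒳, ∀ y : ver hV 𝒳, P y = y := by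
  classical
  let π : X →+ X := (DirectSum.toAddMonoid fun n => if (q : ℤ) ∣ n then AddSubgroup.subtype (𝒳 n) else 0).comp
    (decomposeAddEquiv 𝒳).toAddMonoidHom
  have hπ : ∀ n, ∀ x ∈ 𝒳 n, π x = if (q : ℤ) ∣ n then x else 0 := by
    intro n x hx
    show DirectSum.toAddMonoid _ (decompose 𝒳 x) = _
    rw [decompose_of_mem 𝒳 hx, DirectSum.toAddMonoid_of]
    split_ifs <;> rfl
  have hproj : ∀ x n, proj 𝒳 n (π x) = if (q : ℤ) ∣ n then proj 𝒳 n x else 0 := by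
    intro x n
    refine induction 𝒳 (motive := fun x => proj 𝒳 n (π x) = if (q : ℤ) ∣ n then proj 𝒳 n x else 0)
      (by simp) ?_ ?_ x
    · intro k y hy
      rw [hπ k y hy]
      by_cases hkn : k = n
      · subst hkn
        split_ifs
        · rfl
        · exact map_zero _
      · rw [proj_of_mem_ne hy hkn]
        split_ifs <;> first | exact proj_of_mem_ne hy hkn | exact map_zero _
    · intro y z hy hz
      rw [map_add, map_add, hy, hz]
      split_ifs <;> simp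
  let P : X →ₗ[R'] X :=
    { toFun := π
      map_add' := map_add π
      map_smul' := fun r x => by
        refine smul_induction 𝒜' (motive := fun r => π (r • x) = r • π x) (by simp) ?_ ?_ r
        · intro j s hs
          refine proj_ext 𝒳 fun n => ?_
          rw [hproj, proj_smul_alg hV 𝒳 hs, proj_smul_alg hV 𝒳 hs, hproj]
          have hiff : (q : ℤ) ∣ n ↔ (q : ℤ) ∣ n - j * q := by
            rw [dvd_sub_left (dvd_mul_left _ _)]
          by_cases h : (q : ℤ) ∣ n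
          · rw [if_pos h, if_pos (hiff.1 h)]
          · rw [if_neg h, if_neg (fun h' => h (hiff.2 h')), smul_zero]
        · intro r s hr hs
          rw [add_smul, map_add, hr, hs, add_smul] }
  refine ⟨P.codRestrict (ver hV 𝒳) fun x n hn => (hproj x n).trans (if_neg hn), fun y => Subtype.ext ?_⟩
  refine proj_ext 𝒳 fun n => ?_
  rw [show ((P.codRestrict (ver hV 𝒳) _ y : ver hV 𝒳) : X) = π (y : X) from rfl, hproj]
  split_ifs with h
  · rfl
  · exact (y.2 n h).symm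

end module

section ideals

theorem isNoetherianRing_ver [IsNoetherianRing R] : IsNoetherianRing R' := by
  obtain ⟨P, hP⟩ := exists_proj_ver hV (X := R) 𝒜
  have h1 : (1 : R) ∈ ver hV 𝒜 := mem_ver_of_mem hV 𝒜 (j := 0) (by rw [zero_mul]; exact SetLike.GradedOne.one_mem)
  have hmem : ∀ r : R', algebraMap R' R r ∈ ver hV 𝒜 := fun r => by
    rw [Algebra.algebraMap_eq_smul_one]
    exact Submodule.smul_mem _ r h1
  have hmain : ∀ I : Ideal R', ∀ r : R', algebraMap R' R r ∈ I.map (algebraMap R' R) → r ∈ I := by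
    intro I r hr
    obtain ⟨c, hc⟩ : ∃ c ∈ I • (⊤ : Submodule R' R), c = algebraMap R' R r := by
      rw [Ideal.smul_top_eq_map]
      exact ⟨_, hr, rfl⟩
    have h2 : ∀ c ∈ I • (⊤ : Submodule R' R), ∃ i ∈ I, (P c : R) = algebraMap R' R i := by
      intro c hc
      refine Submodule.smul_induction_on hc (fun i hi y _ => ?_) (fun a b ha hb => ?_)
      · obtain ⟨y', hy'⟩ : ∃ y' : R', algebraMap R' R y' = (P y : R) := by
          refine AddSubgroup.iSup_induction (verGr hV 𝒜) (C := fun z => ∃ y' : R', algebraMap R' R y' = (z : R))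
            (mem_iSup_verGr hV 𝒜 (P y)) (fun j z hz => ?_) ⟨0, by simp⟩ ?_
          · obtain ⟨y', -, hy'⟩ := exists_of_mem hV (show (z : R) ∈ 𝒜 (j * q) from hz)
            exact ⟨y', hy'⟩
          · rintro a b ⟨a', ha⟩ ⟨b', hb⟩
            exact ⟨a' + b', by rw [map_add, ha, hb]; rfl⟩
        exact ⟨i * y', I.mul_mem_right _ hi, by rw [map_smul, map_mul, hy', ← Algebra.smul_def]; rfl⟩
      · obtain ⟨i, hi, ha⟩ := ha
        obtain ⟨j, hj, hb⟩ := hb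
        exact ⟨i + j, I.add_mem hi hj, by rw [map_add, map_add, ← ha, ← hb]; rfl⟩
    obtain ⟨hcI, hcr⟩ := hc
    obtain ⟨i, hi, hci⟩ := h2 c hcI
    rw [hcr, show P (algebraMap R' R r) = ⟨_, hmem r⟩ from hP ⟨_, hmem r⟩] at hci
    rwa [hV.inj hci]
  rw [isNoetherianRing_iff, isNoetherian_iff']
  have hmono : StrictMono (fun I : Ideal R' => I.map (algebraMap R' R)) := by
    intro I J hIJ
    refine lt_of_le_of_ne (Ideal.map_mono hIJ.le) fun h => hIJ.not_ge fun r hr => hmain I r ?_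
    change I.map _ = J.map _ at h
    rw [h]
    exact Ideal.mem_map_of_mem _ hr
  exact hmono.wellFoundedGT

/-- The extension of a homogeneous ideal of the Veronese subring. -/
def extIdeal (m' : HomogeneousIdeal 𝒜') : HomogeneousIdeal 𝒜 :=
  ⟨m'.toIdeal.map (algebraMap R' R), by
    obtain ⟨S, hS⟩ := (Ideal.IsHomogeneous.iff_exists 𝒜' m'.toIdeal).1 m'.isHomogeneous
    rw [hS, Ideal.map_span]
    refine Ideal.homogeneous_span _ _ ?_
    rintro _ ⟨_, ⟨⟨z, j, hz⟩, -, rfl⟩, rfl⟩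
    exact ⟨_, map_mem hV hz⟩⟩

theorem extIdeal_toIdeal (m' : HomogeneousIdeal 𝒜') :
    (extIdeal hV m').toIdeal = m'.toIdeal.map (algebraMap R' R) := rfl

/-- Generated by the positive degrees, the two irrelevant ideals agree up to radical. -/
theorem exists_pow_le_extIdeal [IsNoetherianRing R] {m : HomogeneousIdeal 𝒜} {m' : HomogeneousIdeal 𝒜'}
    (hm : m.toIdeal = Ideal.span (⋃ n ∈ Set.Ioi (0 : ℤ), (𝒜 n : Set R)))
    (hm' : m'.toIdeal = Ideal.span (⋃ j ∈ Set.Ioi (0 : ℤ), (𝒜' j : Set R'))) :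
    (extIdeal hV m').toIdeal ≤ m.toIdeal ∧ ∃ N : ℕ, m.toIdeal ^ N ≤ (extIdeal hV m').toIdeal := by
  have hq := hV.pos
  constructor
  · rw [extIdeal_toIdeal, hm', Ideal.map_span, Ideal.span_le]
    rintro _ ⟨r, hr, rfl⟩
    obtain ⟨j, hj, hrj⟩ := Set.mem_iUnion₂.1 hr
    rw [hm]
    refine Ideal.subset_span (Set.mem_iUnion₂.2 ⟨j * q, ?_, map_mem hV hrj⟩)
    exact Set.mem_Ioi.2 (mul_pos hj (by exact_mod_cast hq))
  · refine Ideal.exists_pow_le_of_le_radical_of_fg ?_ (IsNoetherian.noetherian _)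
    rw [hm, Ideal.span_le]
    intro r hr
    obtain ⟨k, hk, hrk⟩ := Set.mem_iUnion₂.1 hr
    refine ⟨q, ?_⟩
    have h1 : r ^ q ∈ 𝒜 (k * q) := by
      have := SetLike.pow_mem_graded q hrk
      rwa [nsmul_eq_mul, mul_comm] at this
    obtain ⟨r', hr', hrr⟩ := exists_of_mem hV h1
    rw [← hrr, extIdeal_toIdeal]
    refine Ideal.mem_map_of_mem _ ?_
    rw [hm']
    exact Ideal.subset_span (Set.mem_iUnion₂.2 ⟨k, hk, hr'⟩)

end ideals

section cohomology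

variable {X : Type u} [AddCommGroup X] [Module R X] [Module R' X] [IsScalarTower R' R X]
  {𝒳 : ℤ → AddSubgroup X} [Decomposition 𝒳] [SetLike.GradedSMul 𝒜 𝒳]

/-- Veronese parts of *injective modules are acyclic. -/
theorem subsingleton_H_ver [IsNoetherianRing R] (hX : GrLC.IsStarInj 𝒜 𝒳) (m' : HomogeneousIdeal 𝒜') {i : ℕ}
    (hi : 0 < i) : Subsingleton (_root_.LocCoh.H m'.toIdeal i (ver hV 𝒳)) := by
  haveI := isNoetherianRing_ver hV
  obtain ⟨φ, -⟩ := LocCoh.exists_H_independence R' R m'.toIdeal i X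
  haveI : Subsingleton (_root_.LocCoh.H (m'.toIdeal.map (algebraMap R' R)) i X) :=
    subsingleton_H_of_isStarInj hX (extIdeal hV m') hi
  haveI : Subsingleton (_root_.LocCoh.H m'.toIdeal i X) := φ.symm.toEquiv.subsingleton
  obtain ⟨P, hP⟩ := exists_proj_ver hV 𝒳
  refine subsingleton_of_forall_eq 0 fun x => ?_
  have hid : P.comp (ver hV 𝒳).subtype = LinearMap.id := LinearMap.ext hP
  have h := LinearMap.congr_fun (congrArg (LocCoh.Hmap m'.toIdeal i) hid) x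
  rw [LocCoh.Hmap_comp, LinearMap.comp_apply, LocCoh.Hmap_id,
    Subsingleton.elim (LocCoh.Hmap m'.toIdeal i (ver hV 𝒳).subtype x) 0, map_zero] at h
  exact h.symm

theorem mem_gam_ver_iff [IsNoetherianRing R] {m : HomogeneousIdeal 𝒜} {m' : HomogeneousIdeal 𝒜'}
    (hle : (extIdeal hV m').toIdeal ≤ m.toIdeal) {N : ℕ} (hpow : m.toIdeal ^ N ≤ (extIdeal hV m').toIdeal)
    (x : ver hV 𝒳) : x ∈ GrLC.gam m'.toIdeal (ver hV 𝒳) ↔ (x : X) ∈ GrLC.gam m.toIdeal X := by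
  haveI := isNoetherianRing_ver hV
  rw [← GrArtinBase.gam_congr hle hpow X]
  have h1 : (x : X) ∈ GrLC.gam (extIdeal hV m').toIdeal X ↔ (x : X) ∈ GrLC.gam m'.toIdeal X :=
    LocCoh.mem_powTorsion_map_iff (R := R') (R' := R) m'.toIdeal (x : X)
  rw [h1]
  exact exists_congr fun k => ⟨fun h r hr => congrArg Subtype.val (h r hr), fun h r hr => Subtype.ext (h r hr)⟩

end cohomology

end Groth.Agent.CAlgH3.GrVeronese

namespace Groth.Agent.CAlgH3.GrVeronese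

section zero

variable {S : Type u} [CommRing S] {ℬ : ℤ → AddSubgroup S} [GradedRing ℬ] {M : Type u} [AddCommGroup M]
  [Module S M] {ℳ : ℤ → AddSubgroup M} [Decomposition ℳ] [SetLike.GradedSMul ℬ ℳ]
  (G : GrLC.StarInjRes ℬ ℳ) (a : HomogeneousIdeal ℬ)

/-- The class of a torsion element in `H⁰`. -/
noncomputable def h0cls : GrLC.gam a.toIdeal M →ₗ[S] G.H a 0 :=
  (G.toH a 0).comp (((G.ε).comp (GrLC.gam a.toIdeal M).subtype).codRestrict (G.cocyc a 0) fun x =>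
    ⟨map_gam_le G.ε (Submodule.mem_map_of_mem x.2), LinearMap.mem_ker.2 (d_comp_ε G _)⟩)

theorem h0cls_eq_zero {x : GrLC.gam a.toIdeal M} (h : h0cls G a x = 0) : x = 0 := by
  have h1 := (toH_eq_zero a).1 h
  exact Subtype.ext (G.ε_injective (((Submodule.mem_bot S).1 h1).trans (map_zero G.ε).symm))

theorem h0cls_mem {g : ℤ} {x : GrLC.gam a.toIdeal M} (hx : (x : M) ∈ ℳ g) : h0cls G a x ∈ G.Hgr a 0 g :=
  ⟨_, G.ε_grHom _ _ hx, rfl⟩

theorem exists_h0cls {g : ℤ} {y : G.H a 0} (hy : y ∈ G.Hgr a 0 g) :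
    ∃ x : GrLC.gam a.toIdeal M, (x : M) ∈ ℳ g ∧ h0cls G a x = y := by
  obtain ⟨z, hz, rfl⟩ := hy
  obtain ⟨w, hw⟩ := exists_ε_eq G (LinearMap.mem_ker.1 z.2.2)
  have hwz : G.ε (proj ℳ g w) = z := by rw [← proj_map G.ε_grHom, hw, proj_of_mem hz]
  obtain ⟨k, hk⟩ := z.2.1
  refine ⟨⟨proj ℳ g w, k, fun r hr => G.ε_injective ?_⟩, proj_mem ℳ g w, congrArg (G.toH a 0) (Subtype.ext hwz)⟩
  rw [map_smul, hwz, hk r hr, map_zero]

theorem mapH_h0cls {M₂ : Type u} [AddCommGroup M₂] [Module S M₂] {ℳ₂ : ℤ → AddSubgroup M₂} [Decomposition ℳ₂]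
    [SetLike.GradedSMul ℬ ℳ₂] (G₂ : GrLC.StarInjRes ℬ ℳ₂) {f : M →ₗ[S] M₂} (hf : GrLC.IsGrHomDeg ℳ ℳ₂ f 0)
    (x : GrLC.gam a.toIdeal M) :
    mapH G G₂ a hf 0 (h0cls G a x) = h0cls G₂ a ⟨f x, map_gam_le f (Submodule.mem_map_of_mem x.2)⟩ :=
  congrArg (G₂.toH a 0) (Subtype.ext ((someLift G G₂ f 0 hf).comm₀ x))

end zero

section verMap

variable {R : Type u} [CommRing R] {𝒜 : ℤ → AddSubgroup R} [GradedRing 𝒜] {R' : Type u} [CommRing R']
  {𝒜' : ℤ → AddSubgroup R'} [GradedRing 𝒜'] [Algebra R' R] {q : ℕ} (hV : IsVer 𝒜 𝒜' q)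
  {X : Type u} [AddCommGroup X] [Module R X] [Module R' X] [IsScalarTower R' R X]
  {𝒳 : ℤ → AddSubgroup X} [Decomposition 𝒳] [SetLike.GradedSMul 𝒜 𝒳]
  {Y : Type u} [AddCommGroup Y] [Module R Y] [Module R' Y] [IsScalarTower R' R Y]
  {𝒴 : ℤ → AddSubgroup Y} [Decomposition 𝒴] [SetLike.GradedSMul 𝒜 𝒴]
  {W : Type u} [AddCommGroup W] [Module R W] [Module R' W] [IsScalarTower R' R W]
  {𝒲 : ℤ → AddSubgroup W} [Decomposition 𝒲] [SetLike.GradedSMul 𝒜 𝒲]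

/-- The Veronese part of a homogeneous map. -/
noncomputable def verMap (f : X →ₗ[R] Y) (hf : GrLC.IsGrHom 𝒳 𝒴 f) : ver hV 𝒳 →ₗ[R'] ver hV 𝒴 :=
  ((f.restrictScalars R').comp (ver hV 𝒳).subtype).codRestrict _ fun x n hn => by
    show proj 𝒴 n (f x) = 0
    rw [proj_map hf, x.2 n hn, map_zero]

theorem verMap_coe (f : X →ₗ[R] Y) (hf : GrLC.IsGrHom 𝒳 𝒴 f) (x : ver hV 𝒳) :
    (verMap hV f hf x : Y) = f x := rfl

theorem verMap_grHom (f : X →ₗ[R] Y) (hf : GrLC.IsGrHom 𝒳 𝒴 f) :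
    GrLC.IsGrHom (verGr hV 𝒳) (verGr hV 𝒴) (verMap hV f hf) := fun c x hx => hf (c * q) x hx

theorem verMap_injective (f : X →ₗ[R] Y) (hf : GrLC.IsGrHom 𝒳 𝒴 f) (hi : Function.Injective f) :
    Function.Injective (verMap hV f hf) := fun x y h => Subtype.ext (hi (congrArg Subtype.val h :))

theorem verMap_surjective (f : X →ₗ[R] Y) (hf : GrLC.IsGrHom 𝒳 𝒴 f) (hs : Function.Surjective f) :
    Function.Surjective (verMap hV f hf) := by
  intro y
  refine AddSubgroup.iSup_induction (verGr hV 𝒴) (C := fun y => ∃ x, verMap hV f hf x = y)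
    (mem_iSup_verGr hV _ y) (fun c z hz => ?_) ⟨0, map_zero _⟩ ?_
  · obtain ⟨x, hx, hxz⟩ := exists_preimage (grHomDeg_zero_iff.2 hf) (g := c * q) (y := (z : Y))
      (by rw [add_zero]; exact hz) (hs _)
    exact ⟨⟨x, mem_ver_of_mem hV _ hx⟩, Subtype.ext hxz⟩
  · rintro a b ⟨x, rfl⟩ ⟨x', rfl⟩
    exact ⟨x + x', map_add _ x x'⟩

theorem verMap_exact (f : X →ₗ[R] Y) (hf : GrLC.IsGrHom 𝒳 𝒴 f) (g : Y →ₗ[R] W) (hg : GrLC.IsGrHom 𝒴 𝒲 g)
    (hi : Function.Injective f) (hfg : Function.Exact f g) :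
    Function.Exact (verMap hV f hf) (verMap hV g hg) := by
  intro y
  constructor
  · intro h
    obtain ⟨x, hx⟩ := (hfg (y : Y)).1 (congrArg Subtype.val h :)
    refine ⟨⟨x, fun n hn => hi ?_⟩, Subtype.ext hx⟩
    rw [map_zero, ← proj_map hf, hx, y.2 n hn]
  · rintro ⟨x, rfl⟩
    exact Subtype.ext (hfg.apply_apply_eq_zero (x : X))

/-- The torsion elements of degree `j * q`. -/
def gamPiece (m : HomogeneousIdeal 𝒜) (𝒳 : ℤ → AddSubgroup X) (q : ℕ) (j : ℤ) : AddSubgroup X :=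
  (GrLC.gam m.toIdeal X).toAddSubgroup ⊓ 𝒳 (j * q)

variable [IsNoetherianRing R] {m : HomogeneousIdeal 𝒜} {m' : HomogeneousIdeal 𝒜'}
  (hle : (extIdeal hV m').toIdeal ≤ m.toIdeal) {N : ℕ} (hpow : m.toIdeal ^ N ≤ (extIdeal hV m').toIdeal)
  (j : ℤ)

/-- A torsion element of degree `j * q` as a torsion element of the Veronese part. -/
noncomputable def toVer : gamPiece m 𝒳 q j →+ GrLC.gam m'.toIdeal (ver hV 𝒳) :=
  AddMonoidHom.mk' (fun z => ⟨⟨z.1, mem_ver_of_mem hV _ (j := j) z.2.2⟩,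
    (mem_gam_ver_iff hV hle hpow _).2 z.2.1⟩) fun _ _ => rfl

theorem toVer_surj {x : GrLC.gam m'.toIdeal (ver hV 𝒳)} (hx : (x : ver hV 𝒳) ∈ verGr hV 𝒳 j) :
    ∃ z, toVer hV hle hpow j z = x :=
  ⟨⟨x.1.1, (mem_gam_ver_iff hV hle hpow _).1 x.2, hx⟩, rfl⟩

/-- The class of a torsion element of degree `j * q` in `H⁰` of the Veronese part. -/
noncomputable def theta0 [IsNoetherianRing R'] [Decomposition (verGr hV 𝒳)]
    (G : GrLC.StarInjRes 𝒜' (verGr hV 𝒳)) : gamPiece m 𝒳 q j →+ G.H m' 0 :=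
  (h0cls G m').toAddMonoidHom.comp (toVer hV hle hpow j)

theorem theta0_props [IsNoetherianRing R'] [Decomposition (verGr hV 𝒳)]
    (G : GrLC.StarInjRes 𝒜' (verGr hV 𝒳)) :
      (∀ z, theta0 hV hle hpow j G z ∈ G.Hgr m' 0 j) ∧
      (∀ y ∈ G.Hgr m' 0 j, ∃ z, theta0 hV hle hpow j G z = y) ∧
      (∀ z, theta0 hV hle hpow j G z = 0 → z = 0) ∧
      ∀ (r : R') (z z' : gamPiece m 𝒳 q j), (z' : X) = r • (z : X) →
        theta0 hV hle hpow j G z' = r • theta0 hV hle hpow j G z := by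
  refine ⟨fun z => h0cls_mem G m' (show ((toVer hV hle hpow j z) : ver hV 𝒳) ∈ verGr hV 𝒳 j from z.2.2),
    fun y hy => ?_, fun z h => ?_, fun r z z' hz => ?_⟩
  · obtain ⟨x, hx, rfl⟩ := exists_h0cls G m' hy
    obtain ⟨z, rfl⟩ := toVer_surj hV hle hpow j hx
    exact ⟨z, rfl⟩
  · exact Subtype.ext (congrArg (fun t : GrLC.gam m'.toIdeal (ver hV 𝒳) => ((t : ver hV 𝒳) : X))
      (h0cls_eq_zero G m' h))
  · show h0cls G m' (toVer hV hle hpow j z') = r • h0cls G m' (toVer hV hle hpow j z)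
    rw [← map_smul]
    exact congrArg _ (Subtype.ext (Subtype.ext hz))

section ses

variable [IsNoetherianRing R'] [Decomposition (verGr hV 𝒳)] [Decomposition (verGr hV 𝒴)]
  [Decomposition (verGr hV 𝒲)]
  {f : X →ₗ[R] Y} (hf : GrLC.IsGrHom 𝒳 𝒴 f) {g : Y →ₗ[R] W} (hg : GrLC.IsGrHom 𝒴 𝒲 g)
  (hi : Function.Injective f) (hs : Function.Surjective g) (hfg : Function.Exact f g)
  (hY : GrLC.IsStarInj 𝒜 𝒴) (G : GrLC.StarInjRes 𝒜' (verGr hV 𝒳))

include hf hg hi hs hfg hY in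
/-- Dimension shifting for Veronese parts. -/
theorem exists_shift (G₁ : GrLC.StarInjRes 𝒜' (verGr hV 𝒲)) (p : ℕ) :
    ∃ δ : G₁.H m' p →ₗ[R'] G.H m' (p + 1), (∀ y ∈ G₁.Hgr m' p j, δ y ∈ G.Hgr m' (p + 1) j) ∧
      (∀ y ∈ G.Hgr m' (p + 1) j, ∃ x ∈ G₁.Hgr m' p j, δ x = y) ∧ (0 < p → Function.Injective δ) ∧
      ∀ y, δ y = 0 ↔ y ∈ LinearMap.range (mapH (starRes 𝒜' (verGr hV 𝒴)) G₁ m'
        (grHomDeg_zero_iff.2 (verMap_grHom hV g hg)) p) := by
  let GX := starRes 𝒜' (verGr hV 𝒴)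
  have hac : ∀ k, 0 < k → Subsingleton (GX.H m' k) := fun k hk => by
    haveI := subsingleton_H_ver hV hY m' hk
    obtain ⟨e⟩ := nonempty_H_equiv GX m' k
    exact e.toEquiv.subsingleton
  obtain ⟨δ, hδ, -, hex⟩ := exists_les G G₁ GX m' (verMap_grHom hV f hf) (verMap_injective hV f hf hi)
    (verMap_grHom hV g hg) (verMap_surjective hV g hg hs) (verMap_exact hV f hf g hg hi hfg)
  letI := Hdecomp G₁ m' p
  letI := Hdecomp G m' (p + 1)
  refine ⟨δ p, fun y hy => hδ p j y hy, fun y hy => ?_, fun hp => ?_, fun y => (hex p).2.1 y⟩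
  · exact exists_preimage (grHomDeg_zero_iff.2 (hδ p)) (g := j) (y := y) (by rwa [add_zero])
      (((hex p).2.2 y).1 (by haveI := hac (p + 1) p.succ_pos; exact Subsingleton.elim _ _))
  · haveI := hac p hp
    refine (injective_iff_map_eq_zero _).2 fun y hy => ?_
    obtain ⟨w, rfl⟩ := ((hex p).2.1 y).1 hy
    rw [Subsingleton.elim w 0, map_zero]

include hf hg hi hs hfg hY hle hpow in
/-- The first cohomology of a Veronese part: torsion elements modulo images. -/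
theorem exists_theta_one :
    ∃ Θ : gamPiece m 𝒲 q j →+ G.H m' 1, (∀ z, Θ z ∈ G.Hgr m' 1 j) ∧ (∀ y ∈ G.Hgr m' 1 j, ∃ z, Θ z = y) ∧
      (∀ z, Θ z = 0 ↔ ∃ w ∈ GrLC.gam m.toIdeal Y, g w = z) ∧
      ∀ (r : R') (z z' : gamPiece m 𝒲 q j), (z' : W) = r • (z : W) → Θ z' = r • Θ z := by
  let GY := starRes 𝒜' (verGr hV 𝒴)
  let G₁ := starRes 𝒜' (verGr hV 𝒲)
  obtain ⟨δ, hδ, hδs, -, hker⟩ := exists_shift hV (m' := m') j hf hg hi hs hfg hY G G₁ 0
  obtain ⟨h1, h2, h3, h4⟩ := theta0_props hV hle hpow j G₁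
  obtain ⟨x1, x2, -, -⟩ := theta0_props hV hle hpow j GY
  have hgam : ∀ x : gamPiece m 𝒴 q j, g x ∈ gamPiece m 𝒲 q j := fun x =>
    ⟨map_gam_le g (Submodule.mem_map_of_mem x.2.1), hg _ _ x.2.2⟩
  have key : ∀ x : gamPiece m 𝒴 q j,
      mapH GY G₁ m' (grHomDeg_zero_iff.2 (verMap_grHom hV g hg)) 0 (theta0 hV hle hpow j GY x) =
        theta0 hV hle hpow j G₁ ⟨g x, hgam x⟩ := fun x =>
    mapH_h0cls GY m' G₁ (grHomDeg_zero_iff.2 (verMap_grHom hV g hg)) (toVer hV hle hpow j x)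
  refine ⟨δ.toAddMonoidHom.comp (theta0 hV hle hpow j G₁), fun z => hδ _ (h1 z), fun y hy => ?_, fun z => ?_,
    fun r z z' hz => ?_⟩
  · obtain ⟨x, hx, rfl⟩ := hδs y hy
    obtain ⟨z, rfl⟩ := h2 x hx
    exact ⟨z, rfl⟩
  · refine (hker _).trans ⟨fun h => ?_, ?_⟩
    · letI := Hdecomp GY m' 0
      letI := Hdecomp G₁ m' 0
      obtain ⟨y, hy, hyz⟩ := exists_preimage
        (mapH_grHomDeg m' (grHomDeg_zero_iff.2 (verMap_grHom hV g hg)) 0 (E := GY) (F := G₁))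
        (g := j) (y := theta0 hV hle hpow j G₁ z) (by rw [add_zero]; exact h1 z) h
      obtain ⟨x, rfl⟩ := x2 y hy
      rw [key] at hyz
      have hzero := h3 (⟨g x, hgam x⟩ - z) (by rw [map_sub]; exact sub_eq_zero.2 hyz)
      exact ⟨x, x.2.1, congrArg Subtype.val (sub_eq_zero.1 hzero)⟩
    · rintro ⟨w, hw, hwz⟩
      have hw' : proj 𝒴 (j * q) w ∈ gamPiece m 𝒴 q j :=
        ⟨isHomogeneous_gam m.isHomogeneous (j * q) hw, proj_mem 𝒴 _ _⟩
      refine ⟨theta0 hV hle hpow j GY ⟨_, hw'⟩, (key ⟨_, hw'⟩).trans (congrArg _ (Subtype.ext ?_))⟩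
      show g (proj 𝒴 (j * q) w) = z.1
      rw [← proj_map hg, hwz, proj_of_mem z.2.2]
  · show δ (theta0 hV hle hpow j G₁ z') = r • δ (theta0 hV hle hpow j G₁ z)
    rw [h4 r z z' hz, map_smul]

end ses

end verMap

section main

variable {R : Type u} [CommRing R] {𝒜 : ℤ → AddSubgroup R} [GradedRing 𝒜] {R' : Type u} [CommRing R']
  {𝒜' : ℤ → AddSubgroup R'} [GradedRing 𝒜'] [Algebra R' R] {q : ℕ} (hV : IsVer 𝒜 𝒜' q) [IsNoetherianRing R]
  [IsNoetherianRing R']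
  {M : Type u} [AddCommGroup M] [Module R M] {ℳ : ℤ → AddSubgroup M} [Decomposition ℳ] [SetLike.GradedSMul 𝒜 ℳ]
  (E : GrLC.StarInjRes 𝒜 ℳ) [∀ n, Module R' (E.X n).carrier] [∀ n, IsScalarTower R' R (E.X n).carrier]
  {m : HomogeneousIdeal 𝒜} {m' : HomogeneousIdeal 𝒜'}
  (hle : (extIdeal hV m').toIdeal ≤ m.toIdeal) {N : ℕ} (hpow : m.toIdeal ^ N ≤ (extIdeal hV m').toIdeal)

/-- The homogeneous cocycles in degrees divisible by `q`. -/
def cyc (m : HomogeneousIdeal 𝒜) (q i : ℕ) (j : ℤ) : AddSubgroup (E.X i).carrier :=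
  (E.cocyc m i).toAddSubgroup ⊓ (E.X i).gr (j * q)

/-- Cocycles are torsion elements of the cosyzygies. -/
noncomputable def cycToPiece (m : HomogeneousIdeal 𝒜) (q i : ℕ) (j : ℤ) :
    cyc E m q i j →+ gamPiece m (subGr (E.X i).gr (Z E i)) q j :=
  AddMonoidHom.mk' (fun z => ⟨⟨z.1, z.2.1.2⟩, (by
    obtain ⟨k, hk⟩ := z.2.1.1
    exact ⟨k, fun r hr => Subtype.ext (hk r hr)⟩), z.2.2⟩) fun _ _ => rfl

omit [IsNoetherianRing R] [IsNoetherianRing R'] [Algebra R' R] [∀ n, Module R' (E.X n).carrier]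
  [∀ n, IsScalarTower R' R (E.X n).carrier] in
theorem cycToPiece_surj (i : ℕ) (j : ℤ) (x : gamPiece m (subGr (E.X i).gr (Z E i)) q j) :
    ∃ z, cycToPiece E m q i j z = x := by
  obtain ⟨k, hk⟩ := x.2.1
  exact ⟨⟨x.1.1, ⟨⟨k, fun r hr => congrArg Subtype.val (hk r hr)⟩, x.1.2⟩, x.2.2⟩, rfl⟩

theorem comp_theta {S : Type u} [CommRing S] {A B : Type u} [AddCommGroup A] [AddCommGroup B] {C : AddSubgroup A}
    {P : Type u} [AddCommGroup P] [Module S P] [SMul S A] (Pp : AddSubgroup P) (Bb : AddSubgroup B) [Module S B]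
    (K : A → Prop) (δ : P →ₗ[S] B) (Θ : C →+ P) (hδ : ∀ y ∈ Pp, δ y ∈ Bb) (hδs : ∀ y ∈ Bb, ∃ x ∈ Pp, δ x = y)
    (hδi : Function.Injective δ) (hΘ : ∀ z, Θ z ∈ Pp) (hΘs : ∀ y ∈ Pp, ∃ z, Θ z = y)
    (hΘk : ∀ z : C, Θ z = 0 ↔ K z) (hΘr : ∀ (r : S) (z z' : C), (z' : A) = r • (z : A) → Θ z' = r • Θ z) :
    ∃ Φ : C →+ B, (∀ z, Φ z ∈ Bb) ∧ (∀ y ∈ Bb, ∃ z, Φ z = y) ∧ (∀ z : C, Φ z = 0 ↔ K z) ∧
      ∀ (r : S) (z z' : C), (z' : A) = r • (z : A) → Φ z' = r • Φ z := by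
  refine ⟨δ.toAddMonoidHom.comp Θ, fun z => hδ _ (hΘ z), fun y hy => ?_, fun z => ?_, fun r z z' hz => ?_⟩
  · obtain ⟨x, hx, rfl⟩ := hδs y hy
    obtain ⟨z, rfl⟩ := hΘs x hx
    exact ⟨z, rfl⟩
  · exact (map_eq_zero_iff δ hδi).trans (hΘk z)
  · show δ (Θ z') = r • δ (Θ z)
    rw [hΘr r z z' hz, map_smul]

/-- Homogeneous cocycles of index `i` compute `H^p` of the Veronese part of a cosyzygy. -/
def HasTheta (n p i : ℕ) (j : ℤ) : Prop :=
  letI := subDecomp (E.X n).gr (isHomogeneous_ker (E.d_grHom n))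
  letI := verDecomp hV (subGr (E.X n).gr (Z E n))
  ∀ G : GrLC.StarInjRes 𝒜' (verGr hV (subGr (E.X n).gr (Z E n))),
    ∃ Θ : cyc E m q i j →+ G.H m' p, (∀ z, Θ z ∈ G.Hgr m' p j) ∧ (∀ y ∈ G.Hgr m' p j, ∃ z, Θ z = y) ∧
      (∀ z, Θ z = 0 ↔ (z : (E.X i).carrier) ∈ E.cobdy m i) ∧
      ∀ (r : R') (z z' : cyc E m q i j),
        (z' : (E.X i).carrier) = r • (z : (E.X i).carrier) → Θ z' = r • Θ z

include hle hpow in
theorem hasTheta_one (n : ℕ) (j : ℤ) : HasTheta (m := m) (m' := m') hV E n 1 (n + 1) j := by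
  letI := subDecomp (E.X n).gr (isHomogeneous_ker (E.d_grHom n))
  letI := subDecomp (E.X (n + 1)).gr (isHomogeneous_ker (E.d_grHom (n + 1)))
  letI := verDecomp hV (subGr (E.X n).gr (Z E n))
  letI := verDecomp hV (subGr (E.X (n + 1)).gr (Z E (n + 1)))
  letI := verDecomp hV (E.X n).gr
  intro G
  obtain ⟨Θ, h1, h2, h3, h4⟩ := exists_theta_one hV (𝒳 := subGr (E.X n).gr (Z E n)) (𝒴 := (E.X n).gr)
    (𝒲 := subGr (E.X (n + 1)).gr (Z E (n + 1))) hle hpow j (f := (Z E n).subtype) (subtype_grHom _)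
    (g := dZ E n) (fun c y hy => E.d_grHom n c y hy) Subtype.coe_injective (dZ_surjective E n) (dZ_exact E n)
    (E.starInj n) G
  refine ⟨Θ.comp (cycToPiece E m q (n + 1) j), fun z => h1 _, fun y hy => ?_, fun z => ?_,
    fun r z z' hz => h4 r _ _ (Subtype.ext hz)⟩
  · obtain ⟨w, hw⟩ := h2 y hy
    obtain ⟨z, hz⟩ := cycToPiece_surj E (m := m) (q := q) (n + 1) j w
    exact ⟨z, (congrArg Θ hz).trans hw⟩
  · refine (h3 _).trans ⟨?_, ?_⟩
    · rintro ⟨w, hw, hwz⟩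
      exact ⟨w, hw, congrArg Subtype.val hwz⟩
    · rintro ⟨w, hw, hwz⟩
      exact ⟨w, hw, Subtype.ext hwz⟩

include hle hpow in
theorem hasTheta_succ {n p i : ℕ} {j : ℤ} (hp : 0 < p) (h : HasTheta (m := m) (m' := m') hV E (n + 1) p i j) :
    HasTheta (m := m) (m' := m') hV E n (p + 1) i j := by
  letI := subDecomp (E.X n).gr (isHomogeneous_ker (E.d_grHom n))
  letI := subDecomp (E.X (n + 1)).gr (isHomogeneous_ker (E.d_grHom (n + 1)))
  letI := verDecomp hV (subGr (E.X n).gr (Z E n))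
  letI := verDecomp hV (subGr (E.X (n + 1)).gr (Z E (n + 1)))
  letI := verDecomp hV (E.X n).gr
  intro G
  obtain ⟨G₁⟩ : Nonempty (GrLC.StarInjRes 𝒜' (verGr hV (subGr (E.X (n + 1)).gr (Z E (n + 1))))) :=
    ⟨starRes 𝒜' (verGr hV (subGr (E.X (n + 1)).gr (Z E (n + 1))))⟩
  obtain ⟨Θ, hΘ, hΘs, hΘk, hΘr⟩ := h G₁
  obtain ⟨δ, hδ, hδs, hδi, -⟩ := exists_shift hV (𝒳 := subGr (E.X n).gr (Z E n)) (𝒴 := (E.X n).gr)
    (𝒲 := subGr (E.X (n + 1)).gr (Z E (n + 1))) (m' := m') j (f := (Z E n).subtype) (subtype_grHom _)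
    (g := dZ E n) (fun c y hy => E.d_grHom n c y hy) Subtype.coe_injective (dZ_surjective E n) (dZ_exact E n)
    (E.starInj n) G G₁ p
  exact comp_theta (G₁.Hgr m' p j) (G.Hgr m' (p + 1) j) (fun a => a ∈ E.cobdy m i) δ Θ hδ hδs (hδi hp) hΘ hΘs
    hΘk hΘr

include hle hpow in
theorem exists_theta : ∀ (p : ℕ), 0 < p → ∀ (n i : ℕ), n + p = i → ∀ (j : ℤ),
    HasTheta (m := m) (m' := m') hV E n p i j := by
  intro p hp n i hi j
  induction p, hp using Nat.le_induction generalizing n with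
  | base => subst hi; exact hasTheta_one hV E hle hpow n j
  | succ p hp ih => exact hasTheta_succ hV E hle hpow hp (ih (n + 1) (by omega))

end main

end Groth.Agent.CAlgH3.GrVeronese
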