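import Groth.Agent.CAlgH3.GrArtinBase
import Groth.Agent.CAlgH3.GrVeronese
import Groth.Agent.GrLib.Positive
import Groth.Agent.LocCoh.Vanishing
import Groth.Agent.LocCoh.LocalVanishing
import Groth.Agent.S17768
import Mathlib

/-!
Serre's formula: Hilbert function minus Hilbert polynomial is the alternating sum of the lengths of the
pieces of graded local cohomology.
-/

set_option autoImplicit false
set_option linter.unusedSectionVars false
set_option linter.style.haveILetI false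

universe u

open DirectSum Groth.Agent.GrLib

namespace Groth.Agent.CAlgH3.GrSerreFormula

section euler

variable {k : Type u} [CommRing k]

theorem toNat_length_eq_add {A B : Type u} [AddCommGroup A] [Module k A] [AddCommGroup B] [Module k B]
    [IsArtinian k A] [IsNoetherian k A] (f : A →ₗ[k] B) :
    ((Module.length k A).toNat : ℚ) =
      (Module.length k (LinearMap.ker f)).toNat + (Module.length k (LinearMap.range f)).toNat := by
  have h := Module.length_eq_add_of_exact (LinearMap.ker f).subtype f.rangeRestrict Subtype.coe_injective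
    f.surjective_rangeRestrict (fun x => by
      rw [← LinearMap.mem_ker, LinearMap.ker_rangeRestrict]
      exact ⟨fun hx => ⟨⟨x, hx⟩, rfl⟩, fun ⟨y, hy⟩ => hy ▸ y.2⟩)
  haveI := isNoetherian_of_surjective f.rangeRestrict (LinearMap.range_eq_top.2 f.surjective_rangeRestrict)
  haveI : IsArtinian k (LinearMap.range f) := isArtinian_of_surjective _ f.rangeRestrict f.surjective_rangeRestrict
  rw [h, ENat.toNat_add Module.length_ne_top Module.length_ne_top, Nat.cast_add]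

/-- The Euler characteristic of a long exact sequence. -/
theorem euler_les {A B C : ℕ → Type u} [∀ i, AddCommGroup (A i)] [∀ i, Module k (A i)]
    [∀ i, AddCommGroup (B i)] [∀ i, Module k (B i)] [∀ i, AddCommGroup (C i)] [∀ i, Module k (C i)]
    [∀ i, IsArtinian k (A i)] [∀ i, IsNoetherian k (A i)] [∀ i, IsArtinian k (B i)]
    [∀ i, IsNoetherian k (B i)] [∀ i, IsArtinian k (C i)] [∀ i, IsNoetherian k (C i)]
    (f : ∀ i, A i →ₗ[k] B i) (g : ∀ i, B i →ₗ[k] C i) (δ : ∀ i, C i →ₗ[k] A (i + 1))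
    (h0 : Function.Injective (f 0)) (hfg : ∀ i, Function.Exact (f i) (g i))
    (hgδ : ∀ i, Function.Exact (g i) (δ i)) (hδf : ∀ i, Function.Exact (δ i) (f (i + 1)))
    (N : ℕ) [Subsingleton (A (N + 1))] :
    ∑ i ∈ Finset.range (N + 1), (-1 : ℚ) ^ i * ((Module.length k (B i)).toNat : ℚ) =
      ∑ i ∈ Finset.range (N + 1), (-1 : ℚ) ^ i * ((Module.length k (A i)).toNat : ℚ) +
        ∑ i ∈ Finset.range (N + 1), (-1 : ℚ) ^ i * ((Module.length k (C i)).toNat : ℚ) := by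
  let γ : ℕ → ℚ := fun i => ((Module.length k (LinearMap.ker (f i))).toNat : ℚ)
  have key : ∀ i, ((Module.length k (A i)).toNat : ℚ) + ((Module.length k (C i)).toNat : ℚ) -
      ((Module.length k (B i)).toNat : ℚ) = γ i + γ (i + 1) := by
    intro i
    rw [toNat_length_eq_add (f i), toNat_length_eq_add (g i), toNat_length_eq_add (δ i),
      (hfg i).linearMap_ker_eq, (hgδ i).linearMap_ker_eq]
    simp only [γ]
    rw [(hδf i).linearMap_ker_eq]
    ring
  have tel : ∀ M : ℕ, ∑ i ∈ Finset.range M, (-1 : ℚ) ^ i * (γ i + γ (i + 1)) = γ 0 - (-1 : ℚ) ^ M * γ M := by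
    intro M
    induction M with
    | zero => simp
    | succ M ih => rw [Finset.sum_range_succ, ih, pow_succ]; ring
  have hz : γ 0 = 0 ∧ γ (N + 1) = 0 := by
    haveI : Subsingleton (LinearMap.ker (f 0)) := by
      rw [LinearMap.ker_eq_bot.2 h0]; infer_instance
    constructor <;> simp [γ]
  rw [← sub_eq_zero, ← neg_eq_zero, neg_sub, ← Finset.sum_add_distrib, ← Finset.sum_sub_distrib]
  rw [← tel (N + 1) |>.trans (by rw [hz.1, hz.2]; ring : γ 0 - (-1 : ℚ) ^ (N + 1) * γ (N + 1) = 0)]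
  refine Finset.sum_congr rfl fun i _ => ?_
  rw [← key]
  ring

end euler

variable {R : Type u} [CommRing R] [IsNoetherianRing R] {𝒜 : ℤ → AddSubgroup R} [GradedRing 𝒜]

section pieces

variable {X : Type u} [AddCommGroup X] [Module R X] {𝒳 : ℤ → AddSubgroup X} [Decomposition 𝒳]
  [SetLike.GradedSMul 𝒜 𝒳] {Y : Type u} [AddCommGroup Y] [Module R Y] {𝒴 : ℤ → AddSubgroup Y}
  [Decomposition 𝒴] [SetLike.GradedSMul 𝒜 𝒴] {Z : Type u} [AddCommGroup Z] [Module R Z]
  {𝒵 : ℤ → AddSubgroup Z} [Decomposition 𝒵] [SetLike.GradedSMul 𝒜 𝒵]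

/-- The length of a piece. -/
noncomputable def len (𝒜 : ℤ → AddSubgroup R) [GradedRing 𝒜] (𝒳 : ℤ → AddSubgroup X)
    [SetLike.GradedSMul 𝒜 𝒳] (n : ℤ) : ℚ :=
  ((Module.length (GrLC.deg0 𝒜) (GrLC.comp 𝒜 𝒳 n)).toNat : ℚ)

/-- A homogeneous map on pieces. -/
def pieceMap {f : X →ₗ[R] Y} {d : ℤ} (hf : GrLC.IsGrHomDeg 𝒳 𝒴 f d) {a b : ℤ} (h : a + d = b) :
    GrLC.comp 𝒜 𝒳 a →ₗ[GrLC.deg0 𝒜] GrLC.comp 𝒜 𝒴 b where
  toFun x := ⟨f x, h ▸ hf a x x.2⟩
  map_add' x y := Subtype.ext (map_add f (x : X) (y : X))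
  map_smul' r x := Subtype.ext (map_smul f (r : R) (x : X))

theorem pieceMap_exact {f : X →ₗ[R] Y} {d : ℤ} (hf : GrLC.IsGrHomDeg 𝒳 𝒴 f d) {g : Y →ₗ[R] Z} {e : ℤ}
    (hg : GrLC.IsGrHomDeg 𝒴 𝒵 g e) (hex : Function.Exact f g) {a b c : ℤ} (h : a + d = b) (h' : b + e = c) :
    Function.Exact (pieceMap (𝒜 := 𝒜) hf h) (pieceMap (𝒜 := 𝒜) hg h') := by
  intro y
  constructor
  · intro hy
    have hy' : (y : Y) ∈ 𝒴 (a + d) := h.symm ▸ y.2
    obtain ⟨x, hx, hxy⟩ := exists_preimage hf hy' ((hex y.1).1 (congrArg Subtype.val hy))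
    exact ⟨⟨x, hx⟩, Subtype.ext hxy⟩
  · rintro ⟨x, rfl⟩
    exact Subtype.ext (hex.apply_apply_eq_zero _)

theorem pieceMap_injective {f : X →ₗ[R] Y} {d : ℤ} (hf : GrLC.IsGrHomDeg 𝒳 𝒴 f d) (hi : Function.Injective f)
    {a b : ℤ} (h : a + d = b) : Function.Injective (pieceMap (𝒜 := 𝒜) hf h) := fun _ _ e =>
  Subtype.ext (hi (congrArg Subtype.val e))

variable [IsArtinianRing (GrLC.deg0 𝒜)]

omit [Decomposition 𝒳] in
theorem len_eq_zero {n : ℤ} (h : ∀ x ∈ 𝒳 n, x = 0) : len 𝒜 𝒳 n = 0 := by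
  haveI : Subsingleton (GrLC.comp 𝒜 𝒳 n) := subsingleton_of_forall_eq 0 fun x => Subtype.ext (h x x.2)
  simp [len]

theorem len_short [Module.Finite R Y] {f : X →ₗ[R] Y} {d : ℤ} (hf : GrLC.IsGrHomDeg 𝒳 𝒴 f d)
    (hi : Function.Injective f) {g : Y →ₗ[R] Z} (hg : GrLC.IsGrHom 𝒴 𝒵 g) (hs : Function.Surjective g)
    (hex : Function.Exact f g) (n : ℤ) : len 𝒜 𝒴 n = len 𝒜 𝒳 (n - d) + len 𝒜 𝒵 n := by
  let F := pieceMap (𝒜 := 𝒜) hf (sub_add_cancel n d)
  let G := pieceMap (𝒜 := 𝒜) (grHomDeg_zero_iff.2 hg) (add_zero n)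
  haveI : IsNoetherian (GrLC.deg0 𝒜) (GrLC.comp 𝒜 𝒴 n) := isNoetherian_piece 𝒜 𝒴 n
  haveI : IsArtinian (GrLC.deg0 𝒜) (GrLC.comp 𝒜 𝒴 n) := IsSemiprimaryRing.isNoetherian_iff_isArtinian.1 inferInstance
  have hG : Function.Surjective G := fun z => by
    obtain ⟨y, hy, hyz⟩ := exists_preimage (grHomDeg_zero_iff.2 hg) (g := n) (y := (z : Z))
      (by rw [add_zero]; exact z.2) (hs z)
    exact ⟨⟨y, hy⟩, Subtype.ext hyz⟩
  rw [len, toNat_length_eq_add G, (pieceMap_exact hf (grHomDeg_zero_iff.2 hg) hex (sub_add_cancel n d)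
    (add_zero n)).linearMap_ker_eq, LinearMap.range_eq_top.2 hG, Submodule.topEquiv.length_eq]
  congr 2
  exact congrArg ENat.toNat (LinearEquiv.ofInjective F (pieceMap_injective hf hi _)).length_eq.symm

end pieces

section main

variable [IsArtinianRing (GrLC.deg0 𝒜)] (hpos : ∀ n : ℤ, n < 0 → ∀ x ∈ 𝒜 n, x = 0)
  (hstd : Ideal.span (⋃ n ∈ Set.Ioi (0 : ℤ), (𝒜 n : Set R)) = Ideal.span ((𝒜 1 : AddSubgroup R) : Set R))
  {m : HomogeneousIdeal 𝒜} (hm : GrLC.IsStarLocal 𝒜 m) {D : ℕ} (hD : ringKrullDim R = D)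

variable {M : Type u} [AddCommGroup M] [Module R M] {ℳ : ℤ → AddSubgroup M} [Decomposition ℳ]
  [SetLike.GradedSMul 𝒜 ℳ]

/-- The alternating sum of lengths. -/
noncomputable def chi (E : GrLC.StarInjRes 𝒜 ℳ) (m : HomogeneousIdeal 𝒜) (D : ℕ) (n : ℤ) : ℚ :=
  ∑ i ∈ Finset.range (D + 1), (-1 : ℚ) ^ i * len 𝒜 (E.Hgr m i) n

include hpos hm in
theorem isNoetherian_Hpiece [Module.Finite R M] (E : GrLC.StarInjRes 𝒜 ℳ) (i : ℕ) (n : ℤ) :
    IsNoetherian (GrLC.deg0 𝒜) (GrLC.comp 𝒜 (E.Hgr m i) n) := by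
  haveI : IsArtinian (GrLC.deg0 𝒜) (GrLC.comp 𝒜 (E.Hgr m i) n) :=
    S17768.result R 𝒜 (fun k hk => (AddSubgroup.eq_bot_iff_forall _).2 (hpos k hk)) m hm M ℳ E i n
  exact IsSemiprimaryRing.isNoetherian_iff_isArtinian.2 inferInstance

include hpos hm hD in
theorem chi_add [Module.Finite R M] {N : Type u} [AddCommGroup N] [Module R N] [Module.Finite R N]
    {𝒩 : ℤ → AddSubgroup N} [Decomposition 𝒩] [SetLike.GradedSMul 𝒜 𝒩]
    {Q : Type u} [AddCommGroup Q] [Module R Q] [Module.Finite R Q] {𝒬 : ℤ → AddSubgroup Q}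
    [Decomposition 𝒬] [SetLike.GradedSMul 𝒜 𝒬]
    (E : GrLC.StarInjRes 𝒜 ℳ) (G : GrLC.StarInjRes 𝒜 𝒬) (F : GrLC.StarInjRes 𝒜 𝒩)
    {f : M →ₗ[R] N} {d : ℤ} (hf : GrLC.IsGrHomDeg ℳ 𝒩 f d) (hfi : Function.Injective f)
    {g : N →ₗ[R] Q} (hg : GrLC.IsGrHom 𝒩 𝒬 g) (hgs : Function.Surjective g) (hfg : Function.Exact f g)
    (n : ℤ) : chi F m D n = chi E m D (n - d) + chi G m D n := by
  obtain ⟨δ, hδ, hinj, hex⟩ := exists_les_deg E G F m hf hfi hg hgs hfg
  letI := fun i => Hdecomp E m i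
  letI := fun i => Hdecomp F m i
  letI := fun i => Hdecomp G m i
  haveI := fun i k => isNoetherian_Hpiece hpos hm E i k
  haveI := fun i k => isNoetherian_Hpiece hpos hm F i k
  haveI := fun i k => isNoetherian_Hpiece hpos hm G i k
  haveI : ∀ i k, IsArtinian (GrLC.deg0 𝒜) (GrLC.comp 𝒜 (E.Hgr m i) k) := fun i k =>
    IsSemiprimaryRing.isNoetherian_iff_isArtinian.1 inferInstance
  haveI : ∀ i k, IsArtinian (GrLC.deg0 𝒜) (GrLC.comp 𝒜 (F.Hgr m i) k) := fun i k =>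
    IsSemiprimaryRing.isNoetherian_iff_isArtinian.1 inferInstance
  haveI : ∀ i k, IsArtinian (GrLC.deg0 𝒜) (GrLC.comp 𝒜 (G.Hgr m i) k) := fun i k =>
    IsSemiprimaryRing.isNoetherian_iff_isArtinian.1 inferInstance
  haveI : Subsingleton (GrLC.comp 𝒜 (E.Hgr m (D + 1)) (n - d)) := by
    haveI : Subsingleton (E.H m (D + 1)) := by
      obtain ⟨e⟩ := nonempty_H_equiv E m (D + 1)
      haveI := LocCoh.subsingleton_H_of_supportDim_lt (I := m.toIdeal) (M := M) (i := D + 1)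
        (lt_of_le_of_lt (Module.supportDim_le_ringKrullDim R M) (by rw [hD]; exact_mod_cast Nat.lt_succ_self D))
      exact e.toEquiv.subsingleton
    exact subsingleton_of_forall_eq 0 fun y => Subtype.ext (Subsingleton.elim _ _)
  exact euler_les (A := fun i => GrLC.comp 𝒜 (E.Hgr m i) (n - d)) (B := fun i => GrLC.comp 𝒜 (F.Hgr m i) n)
    (C := fun i => GrLC.comp 𝒜 (G.Hgr m i) n)
    (fun i => pieceMap (mapH_grHomDeg m hf i) (sub_add_cancel n d))
    (fun i => pieceMap (mapH_grHomDeg m (grHomDeg_zero_iff.2 hg) i) (add_zero n))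
    (fun i => pieceMap (hδ i) (sub_eq_add_neg n d).symm)
    (pieceMap_injective _ hinj _)
    (fun i => pieceMap_exact _ _ (hex i).1 _ _) (fun i => pieceMap_exact _ _ (hex i).2.1 _ _)
    (fun i => pieceMap_exact _ _ (hex i).2.2 _ _) D

include hpos hm hD in
theorem chi_torsion [Module.Finite R M] (htor : GrLC.gam m.toIdeal M = ⊤) (E : GrLC.StarInjRes 𝒜 ℳ) (n : ℤ) :
    chi E m D n = len 𝒜 ℳ n := by
  rw [chi, Finset.sum_eq_single 0 (fun i _ hi => ?_) (fun h => absurd (Finset.mem_range.2 (Nat.succ_pos D)) h),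
    pow_zero, one_mul]
  · let Φ : GrLC.comp 𝒜 ℳ n →ₗ[GrLC.deg0 𝒜] GrLC.comp 𝒜 (E.Hgr m 0) n :=
      { toFun := fun x => ⟨GrVeronese.h0cls E m ⟨x.1, htor ▸ Submodule.mem_top⟩, GrVeronese.h0cls_mem E m x.2⟩
        map_add' := fun x y => Subtype.ext
          (map_add (GrVeronese.h0cls E m) ⟨x.1, htor ▸ Submodule.mem_top⟩ ⟨y.1, htor ▸ Submodule.mem_top⟩)
        map_smul' := fun r x => Subtype.ext
          (map_smul (GrVeronese.h0cls E m) (r : R) ⟨x.1, htor ▸ Submodule.mem_top⟩) }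
    have hb : Function.Bijective Φ := by
      refine ⟨(injective_iff_map_eq_zero _).2 fun x hx => Subtype.ext ?_, fun y => ?_⟩
      · have := congrArg Subtype.val (GrVeronese.h0cls_eq_zero E m (congrArg Subtype.val hx))
        exact this
      · obtain ⟨x, hx, hxy⟩ := GrVeronese.exists_h0cls E m y.2
        exact ⟨⟨x.1, hx⟩, Subtype.ext hxy⟩
    exact congrArg (fun a : ℕ∞ => (a.toNat : ℚ)) (LinearEquiv.ofBijective Φ hb).length_eq.symm
  · haveI : Subsingleton (E.H m i) := by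
      obtain ⟨e⟩ := nonempty_H_equiv E m i
      haveI := LocCoh.subsingleton_H_of_powerTorsion (I := m.toIdeal) i M
        (fun x => htor.ge (Submodule.mem_top (x := x))) (Nat.pos_of_ne_zero hi)
      exact e.toEquiv.subsingleton
    rw [len_eq_zero fun x _ => Subsingleton.elim x 0, mul_zero]

include hpos hstd hm hD in
/-- Serre's formula. -/
theorem serre_formula : ∀ (J : Ideal R) (M : Type u) [AddCommGroup M] [Module R M] [Module.Finite R M]
    (ℳ : ℤ → AddSubgroup M) [Decomposition ℳ] [SetLike.GradedSMul 𝒜 ℳ],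
    Module.annihilator R M = J → ∀ (E : GrLC.StarInjRes 𝒜 ℳ) (P : Polynomial ℚ),
      (∃ N : ℤ, ∀ n, N ≤ n → P.eval (n : ℚ) = len 𝒜 ℳ n) →
        ∀ n, len 𝒜 ℳ n - P.eval (n : ℚ) = chi E m D n := by
  classical
  intro J
  induction J using WellFoundedGT.induction with
  | _ J ih =>
    intro M _ _ _ ℳ _ _ hJ E P hP n
    obtain ⟨k, hk⟩ := GrArtinBase.exists_pow_le hpos hm hstd
    have hgc : ∀ (X : Type u) [AddCommGroup X] [Module R X],
        GrLC.gam (GrArtinBase.irr 𝒜).toIdeal X = GrLC.gam m.toIdeal X := fun X _ _ =>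
      GrArtinBase.gam_congr (GrArtinBase.irr_le hpos hm hstd) hk X
    have hΓh := isHomogeneous_gam (M := M) (ℳ := ℳ) m.isHomogeneous
    letI := subDecomp ℳ hΓh
    letI := qDecomp ℳ hΓh
    set Γ := GrLC.gam m.toIdeal M with hΓdef
    haveI : Module.Finite R Γ := Module.Finite.iff_fg.2 (IsNoetherian.noetherian _)
    have htor : GrLC.gam m.toIdeal Γ = ⊤ := eq_top_iff.2 fun x _ => by
      obtain ⟨j, hj⟩ := x.2
      exact ⟨j, fun r hr => Subtype.ext (hj r hr)⟩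
    let E₁ := starRes 𝒜 (subGr ℳ Γ)
    let E₂ := starRes 𝒜 (qGr ℳ Γ)
    have hchi := chi_add hpos hm hD E₁ E₂ E (grHomDeg_zero_iff.2 (subtype_grHom (ℳ := ℳ) Γ))
      Subtype.coe_injective (mkQ_grHom Γ) (Submodule.mkQ_surjective _) (LinearMap.exact_subtype_mkQ _) n
    have hlen := fun l => len_short (𝒜 := 𝒜) (grHomDeg_zero_iff.2 (subtype_grHom (ℳ := ℳ) Γ))
      Subtype.coe_injective (mkQ_grHom Γ) (Submodule.mkQ_surjective _) (LinearMap.exact_subtype_mkQ _) l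
    simp only [sub_zero] at hchi hlen
    rw [hchi, chi_torsion hpos hm hD htor E₁ n, hlen n, add_sub_assoc, add_right_inj]
    obtain ⟨kΓ, hkΓ⟩ := exists_pow_kill m.toIdeal Γ fun x => by
      obtain ⟨j, hj⟩ := x.2
      exact ⟨j, fun r hr => Subtype.ext (hj r hr)⟩
    obtain ⟨rΓ, hrΓ⟩ := exists_bdd_of_kill (ℳ := subGr ℳ Γ) hpos (GrArtinBase.irr 𝒜) hstd.symm kΓ
      fun r hr x => hkΓ r (Ideal.pow_right_mono (GrArtinBase.irr_le hpos hm hstd) _ hr) x
    obtain ⟨N, hN⟩ := hP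
    have hP' : ∀ l, max N (rΓ + 1) ≤ l → P.eval (l : ℚ) = len 𝒜 (qGr ℳ Γ) l := fun l hl => by
      rw [hN l (le_of_max_le_left hl), hlen l,
        len_eq_zero (hrΓ l (by have := le_of_max_le_right hl; omega)), zero_add]
    rcases subsingleton_or_nontrivial (M ⧸ Γ) with hsub | hnt
    · have hz : ∀ l, len 𝒜 (qGr ℳ Γ) l = 0 := fun l => len_eq_zero fun x _ => Subsingleton.elim x 0
      have hP0 : P = 0 := Polynomial.eq_zero_of_infinite_isRoot P
        (Set.infinite_of_injective_forall_mem (f := fun j : ℕ => ((max N (rΓ + 1) + j : ℤ) : ℚ))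
          (fun a b h => by simpa using h) fun j => (hP' _ (by omega)).trans (hz _))
      rw [hP0, Polynomial.eval_zero, sub_zero, hz]
      have hgt : GrLC.gam m.toIdeal (M ⧸ Γ) = ⊤ := Subsingleton.elim _ _
      rw [chi_torsion hpos hm hD hgt E₂ n, hz]
    obtain ⟨d, hd, x, hx, hreg⟩ := exists_regular_hom (ℳ := qGr ℳ Γ) hpos (GrArtinBase.irr 𝒜) hstd.symm
      (by rw [hgc]; exact gam_quotient_eq_bot m.toIdeal)
    set g := (x • LinearMap.id : (M ⧸ Γ) →ₗ[R] (M ⧸ Γ)) with hg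
    have hgd : GrLC.IsGrHomDeg (qGr ℳ Γ) (qGr ℳ Γ) g d := smul_id_grHomDeg hx
    letI := qDecomp (qGr ℳ Γ) (isHomogeneous_range_deg hgd)
    set U := LinearMap.range g
    have hJlt : J < Module.annihilator R ((M ⧸ Γ) ⧸ U) := by
      have hJ1 : J ≤ Module.annihilator R (M ⧸ Γ) := hJ ▸ LinearMap.annihilator_le_of_surjective _ (Submodule.mkQ_surjective Γ)
      have hxmem : x ∈ Module.annihilator R ((M ⧸ Γ) ⧸ U) := Module.mem_annihilator.2 fun z => by
        obtain ⟨y, rfl⟩ := Submodule.Quotient.mk_surjective U z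
        rw [← Submodule.Quotient.mk_smul, Submodule.Quotient.mk_eq_zero]
        exact ⟨y, rfl⟩
      refine lt_of_le_of_ne (hJ1.trans (LinearMap.annihilator_le_of_surjective _ (Submodule.mkQ_surjective U)))
        fun h => ?_
      obtain ⟨y, hy⟩ := exists_ne (0 : M ⧸ Γ)
      refine hy (hreg ?_)
      show x • y = x • 0
      rw [smul_zero]
      exact Module.mem_annihilator.1 (hJ1 (h ▸ hxmem)) y
    let E₃ := starRes 𝒜 (qGr (qGr ℳ Γ) U)
    have hlen2 := fun l => len_short (𝒜 := 𝒜) hgd hreg (mkQ_grHom (ℳ := qGr ℳ Γ) U) (Submodule.mkQ_surjective _)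
      (LinearMap.exact_map_mkQ_range g) l
    let P₂ : Polynomial ℚ := P - P.comp (Polynomial.X - Polynomial.C (d : ℚ))
    have hP₂e : ∀ l : ℤ, P₂.eval (l : ℚ) = P.eval (l : ℚ) - P.eval ((l - d : ℤ) : ℚ) := fun l => by
      simp [P₂]
    have hQ := fun l => ih _ hJlt _ (qGr (qGr ℳ Γ) U) rfl E₃ P₂ ⟨max N (rΓ + 1) + d, fun j hj => by
      rw [hP₂e, hP' j (by omega), hP' (j - d) (by omega), hlen2 j, add_sub_cancel_left]⟩ l
    let ψ : ℤ → ℚ := fun l => chi E₂ m D l - (len 𝒜 (qGr ℳ Γ) l - P.eval (l : ℚ))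
    have hper : ∀ l, ψ l = ψ (l - d) := fun l => by
      have h1 := chi_add hpos hm hD E₂ E₃ E₂ hgd hreg (mkQ_grHom (ℳ := qGr ℳ Γ) U) (Submodule.mkQ_surjective _)
        (LinearMap.exact_map_mkQ_range g) l
      have h2 := hQ l
      rw [hP₂e] at h2
      have h3 := hlen2 l
      simp only [ψ]
      linarith
    obtain ⟨r₂, hr₂⟩ := exists_vanishing_uniform (M := M ⧸ Γ) hpos (GrArtinBase.irr 𝒜) hstd.symm m
      (GrArtinBase.irr_le hpos hm hstd) E₂
    have hev : ∀ l, max (max N (rΓ + 1)) (r₂ + 1) ≤ l → ψ l = 0 := fun l hl => by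
      have h0 : chi E₂ m D l = 0 := Finset.sum_eq_zero fun i _ => by
        rw [len_eq_zero (hr₂ i l (by have := le_of_max_le_right hl; omega)), mul_zero]
      simp only [ψ, h0, hP' l (le_of_max_le_left hl), sub_self]
    have hall : ∀ (j : ℕ) (l : ℤ), max (max N (rΓ + 1)) (r₂ + 1) ≤ l + j * d → ψ l = 0 := by
      intro j
      induction j with
      | zero => intro l hl; exact hev l (by simpa using hl)
      | succ j ihj =>
        intro l hl
        have := ihj (l + d) (by push_cast at hl; linarith)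
        rwa [hper (l + d), add_sub_cancel_right] at this
    have hψ : ψ n = 0 := hall ((max (max N (rΓ + 1)) (r₂ + 1)) - n).toNat n (by
      have := Int.self_le_toNat ((max (max N (rΓ + 1)) (r₂ + 1)) - n)
      nlinarith)
    exact (sub_eq_zero.1 hψ).symm

end main

end Groth.Agent.CAlgH3.GrSerreFormula
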