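import Groth.Agent.CAlgH3.GrVeroneseIso
import Groth.Agent.CAlgH3.GrDualAt
import Mathlib

/-!
Duality of pieces along Veronese subrings.
-/

set_option autoImplicit false
set_option linter.unusedSectionVars false
set_option linter.style.haveILetI false

universe u

open DirectSum Groth.Agent.GrLib

namespace Groth.Agent.CAlgH3.GrVerDual

open GrDualAt GrVeronese GrVeroneseIso

variable {R : Type u} [CommRing R] {𝒜 : ℤ → AddSubgroup R} [GradedRing 𝒜]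

/-- In a standard graded ring high degrees are generated by any lower degree. -/
theorem mem_span_piece
    (hstd : Ideal.span (⋃ k ∈ Set.Ioi (0 : ℤ), (𝒜 k : Set R)) = Ideal.span ((𝒜 1 : AddSubgroup R) : Set R))
    (q : ℕ) : ∀ t : ℤ, (q : ℤ) ≤ t → ∀ x ∈ 𝒜 t, x ∈ Ideal.span ((𝒜 (q : ℤ) : AddSubgroup R) : Set R) := by
  induction q with
  | zero =>
    intro t _ x _
    rw [Nat.cast_zero, (Ideal.eq_top_iff_one _).2 (Ideal.subset_span (show (1 : R) ∈ _ from SetLike.one_mem_graded 𝒜))]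
    trivial
  | succ q ih =>
    intro t ht x hx
    have hx1 : x ∈ Ideal.span ((𝒜 1 : AddSubgroup R) : Set R) :=
      hstd ▸ Ideal.subset_span (Set.mem_iUnion₂.2 ⟨t, by simp only [Set.mem_Ioi]; omega, hx⟩)
    suffices h : ∀ s : R, proj 𝒜 t (s * x) ∈ Ideal.span ((𝒜 ((q + 1 : ℕ) : ℤ) : AddSubgroup R) : Set R) by
      simpa [proj_of_mem hx] using h 1
    clear hx
    induction hx1 using Submodule.span_induction with
    | mem l hl =>
      intro s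
      rw [mul_comm, ← smul_eq_mul, proj_smul' (ℳ := 𝒜) hl, smul_eq_mul]
      have h1 := ih (t - 1) (by omega) _ (proj_mem 𝒜 (t - 1) s)
      have h2 : Ideal.span ({l} : Set R) * Ideal.span ((𝒜 (q : ℤ) : AddSubgroup R) : Set R) ≤
          Ideal.span ((𝒜 ((q + 1 : ℕ) : ℤ) : AddSubgroup R) : Set R) := by
        rw [Ideal.span_mul_span', Ideal.span_le]
        rintro _ ⟨a, ha, c, hc, rfl⟩
        rw [Set.mem_singleton_iff.1 ha]
        refine Ideal.subset_span ?_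
        have := GrLib.smul_mem (ℳ := 𝒜) hl hc
        rw [smul_eq_mul, add_comm] at this
        push_cast
        exact this
      exact h2 (Ideal.mul_mem_mul (Ideal.mem_span_singleton_self l) h1)
    | zero => intro s; rw [mul_zero, map_zero]; exact zero_mem _
    | add y z _ _ hy hz => intro s; rw [mul_add, map_add]; exact add_mem (hy s) (hz s)
    | smul c y _ hy => intro s; rw [smul_eq_mul, ← mul_assoc]; exact hy _

/-- A linear map killing the kernel of a map into `V` factors through it. -/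
theorem exists_linear_factor {k : Type*} [Field k] {A V U : Type*} [AddCommGroup A] [Module k A]
    [AddCommGroup V] [Module k V] [AddCommGroup U] [Module k U] (Ψ : A →ₗ[k] V) (Λ : A →ₗ[k] U)
    (h : LinearMap.ker Ψ ≤ LinearMap.ker Λ) : ∃ L : V →ₗ[k] U, ∀ a, L (Ψ a) = Λ a := by
  obtain ⟨L, hL⟩ := LinearMap.exists_extend
    (((LinearMap.ker Ψ).liftQ Λ h).comp Ψ.quotKerEquivRange.symm.toLinearMap)
  refine ⟨L, fun a => ?_⟩
  have := LinearMap.congr_fun hL ⟨Ψ a, LinearMap.mem_range_self Ψ a⟩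
  refine this.trans ?_
  show (LinearMap.ker Ψ).liftQ Λ h (Ψ.quotKerEquivRange.symm ⟨Ψ a, _⟩) = Λ a
  rw [LinearMap.quotKerEquivRange_symm_apply_image Ψ a (LinearMap.mem_range_self Ψ a)]
  rfl

section killed

variable {X : Type u} [AddCommGroup X] [Module R X] {𝒳 : ℤ → AddSubgroup X} [SetLike.GradedSMul 𝒜 𝒳]
  [IsNoetherianRing R]

/-- Two regular elements killing the part invisible in degree `b` leave nothing invisible. -/
theorem ess_of_regular (h0 : IsField (GrLC.deg0 𝒜)) {b : ℤ}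
    (hgen : ∃ u ∈ 𝒳 b, u ≠ 0 ∧ ∀ x ∈ 𝒳 b, ∃ c ∈ 𝒜 0, c • u = x)
    (hf : ∀ s, ∀ r ∈ 𝒜 s, r ≠ 0 → ∃ x ∈ 𝒳 (b - s), r • x ≠ 0)
    {df dg : ℤ} {f g : R} (hfd : f ∈ 𝒜 df) (hgd : g ∈ 𝒜 dg)
    (hkf : ∀ d, ∀ h ∈ 𝒳 d, (∀ r ∈ 𝒜 (b - d), r • h = 0) → f • h = 0)
    (hkg : ∀ d, ∀ h ∈ 𝒳 d, (∀ r ∈ 𝒜 (b - d), r • h = 0) → g • h = 0)
    (hreg : ∀ r, g * r ∈ Ideal.span ({f} : Set R) → r ∈ Ideal.span ({f} : Set R))
    (hdiv : ∀ d, ∀ h ∈ 𝒳 d, ∃ y ∈ 𝒳 (d - df), f • y = h) :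
    ∀ d, ∀ h ∈ 𝒳 d, h ≠ 0 → ∃ r ∈ 𝒜 (b - d), r • h ≠ 0 := by
  letI := h0.toField
  intro d h hh hne
  by_contra! hK
  obtain ⟨h₀, hh₀, rfl⟩ := hdiv d h hh
  obtain ⟨t, ht⟩ : ∃ t, t = b - (d - df) := ⟨_, rfl⟩
  obtain ⟨v, hv⟩ : ∃ v, v = t + dg - df := ⟨_, rfl⟩
  let S := GrLC.comp 𝒜 𝒜 t
  let V := GrLC.comp 𝒜 𝒜 (t + dg)
  let Vf := GrLC.comp 𝒜 𝒜 v
  have hg' : ∀ r : S, g * (r : R) ∈ 𝒜 (t + dg) := fun r => by
    rw [add_comm t dg]; exact GrLib.smul_mem (ℳ := 𝒜) hgd r.2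
  have hf' : ∀ r : Vf, f * (r : R) ∈ 𝒜 (t + dg) := fun r => by
    rw [show t + dg = df + v by omega]; exact GrLib.smul_mem (ℳ := 𝒜) hfd r.2
  have hU : ∀ r : S, (r : R) • h₀ ∈ 𝒳 b := fun r => by
    have := GrLib.smul_mem (ℳ := 𝒳) (show (r : R) ∈ 𝒜 t from r.2) hh₀
    rwa [show t + (d - df) = b by omega] at this
  let Ψ : S × Vf →ₗ[GrLC.deg0 𝒜] V :=
    { toFun := fun p => ⟨g * (p.1 : R) + f * (p.2 : R), add_mem (hg' p.1) (hf' p.2)⟩
      map_add' := fun p p' => Subtype.ext (show g * ((p.1 : R) + p'.1) + f * ((p.2 : R) + p'.2) = _ by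
        show _ = g * (p.1 : R) + f * p.2 + (g * (p'.1 : R) + f * p'.2)
        ring)
      map_smul' := fun c p => Subtype.ext (show g * ((c : R) * p.1) + f * ((c : R) * p.2) = _ by
        show _ = (c : R) * (g * (p.1 : R) + f * p.2)
        ring) }
  let Λ : S × Vf →ₗ[GrLC.deg0 𝒜] GrLC.comp 𝒜 𝒳 b :=
    { toFun := fun p => ⟨(p.1 : R) • h₀, hU p.1⟩
      map_add' := fun p p' => Subtype.ext (add_smul _ _ _)
      map_smul' := fun c p => Subtype.ext (mul_smul (c : R) (p.1 : R) h₀) }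
  obtain ⟨L, hL⟩ := exists_linear_factor Ψ Λ fun p hp => Subtype.ext (by
    have hp0 : g * (p.1 : R) + f * (p.2 : R) = 0 := congrArg Subtype.val hp
    obtain ⟨w, hw⟩ := Ideal.mem_span_singleton'.1 (hreg p.1 (Ideal.mem_span_singleton'.2
      ⟨-(p.2 : R), by linear_combination -hp0⟩))
    have hw' : f * proj 𝒜 (t - df) w = p.1 := by
      rw [← smul_eq_mul, ← proj_smul' (ℳ := 𝒜) hfd, smul_eq_mul, mul_comm, hw]
      exact proj_of_mem p.1.2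
    show (p.1 : R) • h₀ = 0
    rw [← hw', mul_comm, mul_smul]
    exact hK _ (by rw [show b - d = t - df by omega]; exact proj_mem 𝒜 _ _))
  obtain ⟨h₂, hh₂, hL₂⟩ := exists_eq_smul h0 hgen (t + dg) (hf _) L
  have hgh₂ : g • h₂ ∈ 𝒳 (d - df) := by
    have := GrLib.smul_mem (ℳ := 𝒳) hgd hh₂
    rwa [show dg + (b - (t + dg)) = d - df by omega] at this
  have h1 : f • (h₀ - g • h₂) = 0 := hkf _ _ (sub_mem hh₀ hgh₂) fun r hr => by
    rw [← ht] at hr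
    have h := hL (⟨r, hr⟩, 0)
    have h' : (Ψ (⟨r, hr⟩, 0) : R) • h₂ = r • h₀ := (hL₂ _).trans (congrArg Subtype.val h)
    rw [smul_sub, sub_eq_zero, ← h']
    show (g * r + f * 0) • h₂ = r • g • h₂
    rw [mul_zero, add_zero, mul_comm, mul_smul]
  have h2 : g • (f • h₂) = 0 := by
    refine hkg (df + (b - (t + dg))) _ (GrLib.smul_mem (ℳ := 𝒳) hfd hh₂) fun r hr => ?_
    rw [show b - (df + (b - (t + dg))) = v by omega] at hr
    have h := hL (0, ⟨r, hr⟩)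
    have h' : (Ψ (0, ⟨r, hr⟩) : R) • h₂ = 0 := (hL₂ _).trans ((congrArg Subtype.val h).trans (zero_smul R h₀))
    rw [← h']
    show r • f • h₂ = (g * 0 + f * r) • h₂
    rw [mul_zero, zero_add, mul_comm, mul_smul]
  apply hne
  rw [smul_sub, sub_eq_zero] at h1
  rw [h1, smul_comm, h2]

end killed

section transfer

variable {R' : Type u} [CommRing R'] {𝒜' : ℤ → AddSubgroup R'} [GradedRing 𝒜'] [Algebra R' R] {q : ℕ}
  {A : Type u} [AddCommGroup A] [Module R A] {B : Type u} [AddCommGroup B] [Module R' B]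
  {𝒳 : ℤ → AddSubgroup A} [SetLike.GradedSMul 𝒜 𝒳] {𝒴 : ℤ → AddSubgroup B} {T : ∀ j : ℤ, 𝒳 (j * q) →+ B}
  (hV : IsVer 𝒜 𝒜' q) (hT : IsVerIso R 𝒜' q 𝒳 𝒴 T)

include hV in
theorem smul_alg_mem {a j k : ℤ} (hk : a + j = k) {r : R'} (hr : r ∈ 𝒜' a) (x : 𝒳 (j * q)) :
    algebraMap R' R r • (x : A) ∈ 𝒳 (k * q) := by
  have := GrLib.smul_mem (ℳ := 𝒳) (map_mem hV hr) x.2
  rwa [← add_mul, hk] at this

include hT hV in
theorem smul_T_eq_zero_iff {a j k : ℤ} (hk : a + j = k) {r : R'} (hr : r ∈ 𝒜' a) (x : 𝒳 (j * q)) :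
    r • T j x = 0 ↔ algebraMap R' R r • (x : A) = 0 := by
  rw [← hT.smul a j k hk r hr x ⟨_, smul_alg_mem hV hk hr x⟩ rfl]
  refine ⟨fun h => congrArg Subtype.val (hT.inj k _ h), fun h => ?_⟩
  rw [show (⟨_, smul_alg_mem hV hk hr x⟩ : 𝒳 (k * q)) = 0 from Subtype.ext h, map_zero]

include hT hV in
/-- Perfect pairings pass to Veronese parts when the line sits in a degree divisible by `q`. -/
theorem isDualAt_ver {c : ℤ} (hD : IsDualAt 𝒜 𝒳 (c * q)) : IsDualAt 𝒜' 𝒴 c := by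
  refine ⟨?_, fun d y hy hy0 => ?_, fun s r hr hr0 => ?_⟩
  · obtain ⟨u, hu, hu0, hgen⟩ := hD.gen
    refine ⟨T c ⟨u, hu⟩, hT.mem _ _, fun h => hu0 (congrArg Subtype.val (hT.inj c _ h)), fun y hy => ?_⟩
    obtain ⟨⟨x, hx⟩, rfl⟩ := hT.surj c y hy
    obtain ⟨c₀, hc₀, hcu⟩ := hgen x hx
    obtain ⟨r', hr', hrr⟩ := exists_of_mem hV (j := 0) (r := c₀) (by rwa [zero_mul])
    exact ⟨r', hr', (hT.smul 0 c c (zero_add c) r' hr' _ _ (by rw [hrr]; exact hcu.symm)).symm⟩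
  · obtain ⟨x, rfl⟩ := hT.surj d y hy
    obtain ⟨r, hr, hrx⟩ := hD.ess (d * q) x x.2
      fun h => hy0 (by rw [show x = 0 from Subtype.ext h, map_zero])
    rw [← sub_mul] at hr
    obtain ⟨r', hr', hrr⟩ := exists_of_mem hV hr
    exact ⟨r', hr', fun h => hrx (hrr ▸ (smul_T_eq_zero_iff hV hT (sub_add_cancel c d) hr' x).1 h)⟩
  · obtain ⟨x, hx, hrx⟩ := hD.faithful (s * q) _ (map_mem hV hr)
      fun h => hr0 (hV.inj (h.trans (map_zero _).symm))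
    rw [← sub_mul] at hx
    exact ⟨T (c - s) ⟨x, hx⟩, hT.mem _ _,
      fun h => hrx ((smul_T_eq_zero_iff hV hT (add_sub_cancel s c) hr ⟨x, hx⟩).1 h)⟩

include hT hV in
/-- A perfect pairing on the Veronese part gives one on the degrees divisible by `q`. -/
theorem dual_of_ver {c : ℤ} (hD : IsDualAt 𝒜' 𝒴 c) :
    (∃ u ∈ 𝒳 (c * q), u ≠ 0 ∧ ∀ x ∈ 𝒳 (c * q), ∃ c₀ ∈ 𝒜 0, c₀ • u = x) ∧
      (∀ j, ∀ x ∈ 𝒳 (j * q), x ≠ 0 → ∃ r ∈ 𝒜 ((c - j) * q), r • x ≠ 0) ∧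
      ∀ s, ∀ r ∈ 𝒜 (s * q), r ≠ 0 → ∃ x ∈ 𝒳 ((c - s) * q), r • x ≠ 0 := by
  refine ⟨?_, fun j x hx hx0 => ?_, fun s r hr hr0 => ?_⟩
  · obtain ⟨v, hv, hv0, hgen⟩ := hD.gen
    obtain ⟨⟨u, hu⟩, rfl⟩ := hT.surj c v hv
    refine ⟨u, hu, fun h => hv0 (by rw [show (⟨u, hu⟩ : 𝒳 (c * q)) = 0 from Subtype.ext h, map_zero]),
      fun x hx => ?_⟩
    obtain ⟨r', hr', hrv⟩ := hgen (T c ⟨x, hx⟩) (hT.mem _ _)
    refine ⟨algebraMap R' R r', by have := map_mem hV hr'; rwa [zero_mul] at this, ?_⟩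
    rw [← hT.smul 0 c c (zero_add c) r' hr' ⟨u, hu⟩ ⟨_, smul_alg_mem hV (zero_add c) hr' ⟨u, hu⟩⟩ rfl,
      ← sub_eq_zero, ← map_sub] at hrv
    exact sub_eq_zero.1 (congrArg Subtype.val (hT.inj c _ hrv) :)
  · obtain ⟨r', hr', hrx⟩ := hD.ess j (T j ⟨x, hx⟩) (hT.mem _ _)
      fun h => hx0 (congrArg Subtype.val (hT.inj j _ h))
    exact ⟨algebraMap R' R r', map_mem hV hr',
      fun h => hrx ((smul_T_eq_zero_iff hV hT (sub_add_cancel c j) hr' ⟨x, hx⟩).2 h)⟩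
  · obtain ⟨r', hr', rfl⟩ := exists_of_mem hV hr
    obtain ⟨y, hy, hry⟩ := hD.faithful s r' hr' fun h => hr0 (by rw [h, map_zero])
    obtain ⟨x, rfl⟩ := hT.surj _ y hy
    exact ⟨x, x.2, fun h => hry ((smul_T_eq_zero_iff hV hT (add_sub_cancel s c) hr' x).2 h)⟩

include hT hV in
/-- The socle of the Veronese part of a standard graded module sits in one degree. -/
theorem socle_concentrated
    (hstd : Ideal.span (⋃ k ∈ Set.Ioi (0 : ℤ), (𝒜 k : Set R)) = Ideal.span ((𝒜 1 : AddSubgroup R) : Set R))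
    (hpos : ∀ k : ℤ, k < 0 → 𝒜 k = ⊥) {a ρ j₀ : ℤ} (hD : IsDualAt 𝒜 𝒳 a) (hρ0 : 0 ≤ ρ) (hρq : ρ < q)
    (hj₀ : j₀ * q = a - ρ) :
    (∀ d, d ≠ j₀ → ∀ y ∈ 𝒴 d, y ≠ 0 → ∃ r ∈ 𝒜' 1, r • y ≠ 0) ∧
      ∀ y ∈ 𝒴 j₀, ∀ i : ℤ, 0 < i → ∀ r ∈ 𝒜' i, r • y = 0 := by
  refine ⟨fun d hd y hy hy0 => ?_, fun y hy i hi r hr => ?_⟩
  · obtain ⟨x, rfl⟩ := hT.surj d y hy
    obtain ⟨r₀, hr₀, hrx⟩ := hD.ess (d * q) x x.2
      fun h => hy0 (by rw [show x = 0 from Subtype.ext h, map_zero])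
    have hle : (q : ℤ) ≤ a - d * q := by
      by_contra hlt
      have h0 : 0 ≤ a - d * q := by
        by_contra h
        rw [hpos _ (by omega), AddSubgroup.mem_bot] at hr₀
        exact hrx (by rw [hr₀, zero_smul])
      have h1 : (j₀ - d) * q < 1 * q := by rw [sub_mul]; omega
      have h2 : (-1) * (q : ℤ) < (j₀ - d) * q := by rw [sub_mul]; omega
      have h1' := lt_of_mul_lt_mul_right h1 (Int.natCast_nonneg q)
      have h2' := lt_of_mul_lt_mul_right h2 (Int.natCast_nonneg q)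
      omega
    by_contra! hall
    apply hrx
    have hk : Ideal.span ((𝒜 (q : ℤ) : AddSubgroup R) : Set R) ≤ (Submodule.span R {(x : A)}).annihilator := by
      rw [Ideal.span_le]
      intro l hl
      rw [SetLike.mem_coe, Submodule.mem_annihilator_span_singleton]
      obtain ⟨r', hr', rfl⟩ := exists_of_mem hV (j := 1) (r := l) (by rwa [one_mul])
      exact (smul_T_eq_zero_iff hV hT rfl hr' x).1 (hall r' hr')
    exact (Submodule.mem_annihilator_span_singleton _ _).1 (hk (mem_span_piece hstd q _ hle r₀ hr₀))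
  · obtain ⟨x, rfl⟩ := hT.surj j₀ y hy
    rw [smul_T_eq_zero_iff hV hT rfl hr x]
    by_contra hne
    have := hD.le hpos (smul_alg_mem hV rfl hr x) hne
    nlinarith

include hT hV in
theorem eq_bot_iff_ver (j : ℤ) : 𝒴 j = ⊥ ↔ 𝒳 (j * q) = ⊥ := by
  rw [AddSubgroup.eq_bot_iff_forall, AddSubgroup.eq_bot_iff_forall]
  refine ⟨fun h x hx => congrArg Subtype.val (hT.inj j ⟨x, hx⟩ (h _ (hT.mem _ _))), fun h y hy => ?_⟩
  obtain ⟨x, rfl⟩ := hT.surj j y hy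
  rw [show x = 0 from Subtype.ext (h x x.2), map_zero]

end transfer

end Groth.Agent.CAlgH3.GrVerDual
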