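import Groth.Agent.CAlgH3.GrVeroneseThms
import Groth.Agent.CAlgH3.GrVerDual
import Groth.Agent.CAlgH3.GrEndDeg
import Groth.Agent.CAlgH3.GrCanonPoly
import Groth.Agent.GrLib.Hilbert
import Groth.Agent.GrSectLib.DenseSubring
import Mathlib

/-!
The standard graded polynomial ring with pieces as additive subgroups, and its Veronese subrings.
-/

set_option autoImplicit false
set_option linter.style.haveILetI false

universe u

open DirectSum MvPolynomial Groth.Agent.GrLib

namespace Groth.Agent.CAlgH3.GrVerPoly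

variable (k : Type u) [Field k] (s : ℕ)

local notation "S" => MvPolynomial (Fin s) k

/-- The standard pieces, as additive subgroups. -/
noncomputable def gr (n : ℤ) : AddSubgroup S := (GrSyz.stdGr k (Fin s) n).toAddSubgroup

noncomputable instance gradedRing : GradedRing (gr k s) :=
  let _ : Decomposition (gr k s) := decompositionOfProj (gr k s) (fun g => proj (GrSyz.stdGr k (Fin s)) g)
    (fun g x hx => proj_of_mem (ℳ := GrSyz.stdGr k (Fin s)) hx)
    (fun g h hne x hx => proj_of_mem_ne (ℳ := GrSyz.stdGr k (Fin s)) hx hne)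
    (eq_top_iff.2 fun x _ => GrLib.induction (GrSyz.stdGr k (Fin s))
      (motive := fun x => x ∈ ⨆ g, gr k s g) (zero_mem _)
      (fun g y hy => AddSubgroup.mem_iSup_of_mem g hy) (fun a b ha hb => add_mem ha hb) x)
  { one_mem := SetLike.one_mem_graded (GrSyz.stdGr k (Fin s))
    mul_mem := fun {_ _ _ _} ha hb => SetLike.mul_mem_graded (A := GrSyz.stdGr k (Fin s)) ha hb }

theorem mem_gr {n : ℤ} {p : S} : p ∈ gr k s n ↔ p ∈ GrSyz.stdGr k (Fin s) n := Iff.rfl

theorem gr_neg (n : ℤ) (hn : n < 0) : gr k s n = ⊥ :=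
  (AddSubgroup.eq_bot_iff_forall _).2 fun p hp => stdGr_eq_zero_of_neg k s n hn p hp

/-- Constants are the degree zero subring. -/
noncomputable def constEquiv : k ≃+* GrLC.deg0 (gr k s) :=
  RingEquiv.ofBijective
    ((MvPolynomial.C : k →+* S).codRestrict (GrLC.deg0 (gr k s)) fun c =>
      MvPolynomial.isWeightedHomogeneous_C (fun _ : Fin s => (1 : ℤ)) c)
    ⟨fun a b h => MvPolynomial.C_injective _ _ (congrArg Subtype.val h), fun x => by
      refine ⟨(x : S).coeff 0, Subtype.ext (MvPolynomial.ext _ _ fun d => ?_)⟩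
      change MvPolynomial.coeff d (MvPolynomial.C ((x : S).coeff 0)) = _
      rw [MvPolynomial.coeff_C]
      split_ifs with hd
      · rw [hd]
      · by_contra hne
        have h1 : Finsupp.weight (fun _ : Fin s => (1 : ℤ)) d = 0 := x.2 (Ne.symm hne)
        refine hd (Finsupp.ext fun i => ?_)
        rw [Finsupp.weight_apply, Finsupp.sum] at h1
        simp only [nsmul_eq_mul, mul_one] at h1
        by_cases hi : i ∈ d.support
        · have := (Finset.sum_eq_zero_iff_of_nonneg (fun j _ => Int.natCast_nonneg (d j))).1 h1 i hi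
          simp at this ⊢
          omega
        · simpa [Finsupp.mem_support_iff, eq_comm] using hi⟩

theorem isField_deg0 : IsField (GrLC.deg0 (gr k s)) :=
  (constEquiv k s).toMulEquiv.symm.isField (Field.toIsField k)

theorem span_pos : Ideal.span (⋃ n ∈ Set.Ioi (0 : ℤ), (gr k s n : Set S)) =
    Ideal.span (Set.range (MvPolynomial.X : Fin s → S)) :=
  GrCanonPoly.span_eq (w := fun _ : Fin s => (1 : ℤ)) fun _ => one_pos

theorem span_one : Ideal.span ((gr k s 1 : AddSubgroup S) : Set S) =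
    Ideal.span (Set.range (MvPolynomial.X : Fin s → S)) := by
  refine le_antisymm (Ideal.span_le.2 fun p hp => ?_) (Ideal.span_mono ?_)
  · exact GrCanonPoly.mem_span_X (w := fun _ : Fin s => (1 : ℤ)) 1 one_ne_zero p hp
  · rintro _ ⟨i, rfl⟩
    exact X_mem_stdGr k s i

theorem ringKrullDim_eq : ringKrullDim S = (s : ℕ) := by
  rw [MvPolynomial.ringKrullDim_of_isNoetherianRing, ringKrullDim_eq_zero_of_field]
  simp

theorem gorenstein : _root_.LocCoh.IsGorensteinRing S :=
  haveI : _root_.LocCoh.IsCohenMacaulayRing S := GrCanonPoly.isCohenMacaulayRing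
  { isGorensteinLocalRing_localization := fun _ _ => GrSectLib.gorenstein_of_regular _ }

/-- The `a`-invariant of the polynomial ring. -/
theorem endDeg_top (m : HomogeneousIdeal (gr k s)) (hm : GrLC.IsStarLocal (gr k s) m)
    (hmsp : m.toIdeal = Ideal.span (⋃ n ∈ Set.Ioi (0 : ℤ), (gr k s n : Set S)))
    (I : GrLC.StarInjRes (gr k s) (gr k s)) :
    GrLC.endDeg (I.Hgr m s) = ((((-(s : ℤ)) : ℤ) : WithTop ℤ) : WithBot (WithTop ℤ)) := by
  haveI : _root_.LocCoh.IsCohenMacaulayRing S := GrCanonPoly.isCohenMacaulayRing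
  have hneg : ∀ n : ℤ, n < 0 → ∀ p ∈ gr k s n, p = 0 := fun n hn p hp => stdGr_eq_zero_of_neg k s n hn p hp
  haveI := isMaximal_starMaximal hneg hm
  have hh : m.toIdeal.height = s := by
    have h := (ringKrullDim_eq_height_starMaximal hneg hm).symm.trans (ringKrullDim_eq k s)
    exact WithBot.coe_inj.1 h
  have hspan : m.toIdeal = Ideal.span (Set.range (MvPolynomial.X : Fin s → S)) := hmsp.trans (span_pos k s)
  letI := qDecomp (gr k s) (p := (m.toIdeal : Submodule S S)) m.isHomogeneous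
  let F := starRes (gr k s) (qGr (gr k s) (m.toIdeal : Submodule S S))
  have hend := GrEndDeg.endDeg_regularSeq m s I s le_rfl (GrEndDeg.subsingleton_H_low m hh I) MvPolynomial.X
    (fun _ => (1 : ℤ)) (fun i => X_mem_stdGr k s i) (fun _ => zero_le_one)
    (fun i => by rw [hspan]; exact Ideal.subset_span ⟨i, rfl⟩) GrCanonPoly.isWeaklyRegular_X
    (Submodule.mkQ (m.toIdeal : Submodule S S)) (mkQ_grHom _) (Submodule.mkQ_surjective _)
    (by rw [Submodule.ker_mkQ, hspan, smul_eq_mul, Ideal.mul_top]) F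
  have ht : ∀ q : S ⧸ (m.toIdeal : Submodule S S), ∃ j : ℕ, ∀ r ∈ m.toIdeal ^ j, r • q = 0 :=
    fun q => ⟨1, fun r hr => smul_eq_zero_of_mem r (by simpa using hr) q⟩
  have hq : ∀ n : ℤ, n ≠ 0 → ∀ q ∈ qGr (gr k s) (m.toIdeal : Submodule S S) n, q = 0 := by
    rintro n hn _ ⟨p, hpn, rfl⟩
    exact (Submodule.Quotient.mk_eq_zero _).2
      (by rw [hspan]; exact GrCanonPoly.mem_span_X (w := fun _ : Fin s => (1 : ℤ)) n hn p hpn)
  have h0 : GrLC.endDeg (F.Hgr m 0) = (((0 : ℤ) : WithTop ℤ) : WithBot (WithTop ℤ)) := by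
    refine le_antisymm ((endDeg_le_int _ _).2 fun n hn =>
      (exists_mem_Hgr_zero m F ht n).2 (hq n (ne_of_gt hn))) ?_
    refine le_iSup₂ (f := fun (j : ℤ) (_ : F.Hgr m 0 j ≠ ⊥) => ((j : WithTop ℤ) : WithBot (WithTop ℤ))) 0 fun h =>
      (Ideal.IsMaximal.ne_top (I := m.toIdeal) inferInstance) ((Ideal.eq_top_iff_one _).2 ?_)
    have := (exists_mem_Hgr_zero m F ht 0).1 ((AddSubgroup.eq_bot_iff_forall _).1 h)
      (Submodule.Quotient.mk 1) ⟨1, SetLike.one_mem_graded (gr k s), rfl⟩
    exact (Submodule.Quotient.mk_eq_zero _).1 this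
  rw [Nat.sub_self, h0] at hend
  simp only [Finset.sum_const, Finset.card_univ, Fintype.card_fin, nsmul_eq_mul, mul_one] at hend
  generalize GrLC.endDeg (I.Hgr m s) = x at hend ⊢
  induction x using WithBot.recBotCoe with
  | bot => simp at hend
  | coe x =>
    induction x using WithTop.recTopCoe with
    | top =>
      exact absurd (WithBot.coe_inj.1 hend) (by simp)
    | coe x =>
      rw [← WithBot.coe_add, ← WithTop.coe_add, WithBot.coe_inj, WithTop.coe_inj] at hend
      rw [show x = -(s : ℤ) by omega]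

/-- The dimension of a piece. -/
theorem finrank_piece {r : ℕ} (n : ℕ) :
    Module.finrank (GrLC.deg0 (gr k (r + 1))) (GrLC.comp (gr k (r + 1)) (gr k (r + 1)) (n : ℤ)) =
      (r + n).choose r := by
  have h := finrank_stdGr (k := k) (r := r) (n : ℤ)
  rw [hilb, if_pos (Int.natCast_nonneg n), Int.toNat_natCast] at h
  rw [← Nat.cast_inj (R := ℤ), ← h, Nat.cast_inj]
  refine congrArg Cardinal.toNat (rank_eq_of_equiv_equiv (constEquiv k (r + 1))
    ({ toFun := fun p => ⟨p.1, p.2⟩, invFun := fun p => ⟨p.1, p.2⟩, left_inv := fun _ => rfl,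
       right_inv := fun _ => rfl, map_add' := fun _ _ => rfl } :
      GrSyz.stdGr k (Fin (r + 1)) (n : ℤ) ≃+ GrLC.comp (gr k (r + 1)) (gr k (r + 1)) (n : ℤ))
    (constEquiv k (r + 1)).bijective
    fun c p => Subtype.ext ?_).symm
  show (c • (p : MvPolynomial (Fin (r + 1)) k)) = MvPolynomial.C c * (p : MvPolynomial (Fin (r + 1)) k)
  rw [MvPolynomial.smul_eq_C_mul]

/-- Homogeneous polynomials lie in the piece of their degree. -/
theorem mem_gr_of_isHomogeneous {p : S} {j : ℕ} (h : p.IsHomogeneous j) : p ∈ gr k s (j : ℤ) := by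
  intro d hd
  have h1 := h hd
  simp only [Finsupp.weight_apply, Finsupp.sum, Pi.one_apply, smul_eq_mul, mul_one] at h1 ⊢
  rw [← h1, Nat.cast_sum]
  simp

/-- The projections are the homogeneous components. -/
theorem proj_eq_component (n : ℕ) (p : S) :
    proj (gr k s) (n : ℤ) p = homogeneousComponent n p := by
  conv_lhs => rw [← sum_homogeneousComponent p]
  rw [map_sum, Finset.sum_eq_single n]
  · exact proj_of_mem (mem_gr_of_isHomogeneous k s (homogeneousComponent_isHomogeneous n p))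
  · exact fun j _ hj => proj_of_mem_ne (mem_gr_of_isHomogeneous k s (homogeneousComponent_isHomogeneous j p))
      (fun h => hj (Int.natCast_inj.1 h))
  · intro hn
    rw [homogeneousComponent_eq_zero n p (by simpa [Finset.mem_range, Nat.lt_succ_iff] using hn), map_zero]

section veronese

variable {k s}
variable {R' : Type u} [CommRing R'] (φ : R' →+* MvPolynomial (Fin s) k) (d : ℕ)

/-- The grading of a Veronese subring. -/
noncomputable def verGr (j : ℤ) : AddSubgroup R' := (gr k s (j * d)).comap φ.toAddMonoidHom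

theorem mem_verGr (j : ℤ) (x : R') : x ∈ verGr φ d j ↔ φ x ∈ gr k s (j * d) := Iff.rfl

variable (hrange : ∀ p : (MvPolynomial (Fin s) k), p ∈ φ.range ↔ ∀ j : ℕ, ¬ d ∣ j → homogeneousComponent j p = 0)

include hrange

theorem proj_eq_zero_of_not_dvd {g : ℤ} (hg : ¬ (d : ℤ) ∣ g) (x : R') : proj (gr k s) g (φ x) = 0 := by
  rcases lt_or_ge g 0 with h | h
  · exact (AddSubgroup.eq_bot_iff_forall _).1 (gr_neg k s g h) _ (proj_mem (gr k s) g _)
  · obtain ⟨j, rfl⟩ := Int.eq_ofNat_of_zero_le h
    rw [proj_eq_component]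
    exact (hrange _).1 ⟨x, rfl⟩ j fun hj => hg (Int.natCast_dvd_natCast.2 hj)

theorem mem_range_of_mem {g : ℤ} (hg : (d : ℤ) ∣ g) {p : (MvPolynomial (Fin s) k)} (hp : p ∈ gr k s g) : p ∈ φ.range := by
  refine (hrange p).2 fun j hj => ?_
  rw [← proj_eq_component]
  exact proj_of_mem_ne hp fun h => hj (Int.natCast_dvd_natCast.1 (h ▸ hg))

theorem map_verGr (j : ℤ) : (verGr φ d j).map (φ : R' →+ (MvPolynomial (Fin s) k)) = gr k s (j * d) := by
  refine le_antisymm (AddSubgroup.map_le_iff_le_comap.2 le_rfl) fun p hp => ?_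
  obtain ⟨x, rfl⟩ := mem_range_of_mem φ d hrange ⟨j, mul_comm _ _⟩ hp
  exact ⟨x, hp, rfl⟩

theorem exists_preimage (j : ℤ) (x : R') : ∃ y ∈ verGr φ d j, φ y = proj (gr k s) (j * d) (φ x) := by
  obtain ⟨y, hy⟩ := mem_range_of_mem φ d hrange ⟨j, mul_comm _ _⟩ (proj_mem (gr k s) (j * d) (φ x))
  exact ⟨y, by rw [mem_verGr, hy]; exact proj_mem _ _ _, hy⟩

theorem mem_of_pieces (hφ : Function.Injective φ) (P : AddSubgroup R') (x : R')
    (h : ∀ j : ℤ, proj (gr k s) (j * d) (φ x) ≠ 0 → ∀ y ∈ verGr φ d j, φ y = proj (gr k s) (j * d) (φ x) → y ∈ P) :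
    x ∈ P := by
  have : φ x ∈ P.map (φ : R' →+ (MvPolynomial (Fin s) k)) := mem_of_proj_mem (gr k s) _ fun g => by
    by_cases hz : proj (gr k s) g (φ x) = 0
    · rw [hz]; exact zero_mem _
    by_cases hg : (d : ℤ) ∣ g
    · obtain ⟨j, rfl⟩ := hg
      rw [mul_comm] at hz ⊢
      obtain ⟨y, hy, hyx⟩ := exists_preimage φ d hrange j x
      exact ⟨y, h j hz y hy hyx, hyx⟩
    · exact absurd (proj_eq_zero_of_not_dvd φ d hrange hg x) hz
  obtain ⟨y, hy, hyx⟩ := this
  exact hφ hyx ▸ hy

/-- The projections of a Veronese subring. -/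
noncomputable def verProj (hφ : Function.Injective φ) (j : ℤ) : R' →+ R' :=
  AddMonoidHom.mk' (fun x => (exists_preimage φ d hrange j x).choose) fun x y => hφ <| by
    rw [(exists_preimage φ d hrange j (x + y)).choose_spec.2, map_add, map_add, map_add,
      (exists_preimage φ d hrange j x).choose_spec.2, (exists_preimage φ d hrange j y).choose_spec.2]

theorem phi_verProj (hφ : Function.Injective φ) (j : ℤ) (x : R') :
    φ (verProj φ d hrange hφ j x) = proj (gr k s) (j * d) (φ x) :=
  (exists_preimage φ d hrange j x).choose_spec.2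

/-- The graded ring structure. -/
@[reducible] noncomputable def gradedRingVer (hφ : Function.Injective φ) (hd : 0 < d) :
    GradedRing (verGr φ d) :=
  let _ : Decomposition (verGr φ d) := decompositionOfProj (verGr φ d) (verProj φ d hrange hφ)
    (fun g x hx => hφ <| by rw [phi_verProj, proj_of_mem ((mem_verGr φ d _ x).1 hx)])
    (fun g h hne x hx => hφ <| by
      rw [phi_verProj, map_zero, proj_of_mem_ne ((mem_verGr φ d _ x).1 hx)
        (fun e => hne (mul_right_cancel₀ (Int.natCast_ne_zero.2 hd.ne') e))])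
    (eq_top_iff.2 fun x _ => mem_of_pieces φ d hrange hφ _ x fun j _ y hy _ =>
      AddSubgroup.mem_iSup_of_mem j hy)
  { one_mem := by
      rw [mem_verGr, map_one, zero_mul]
      exact SetLike.one_mem_graded (gr k s)
    mul_mem := fun {i j _ _} ha hb => by
      rw [mem_verGr, map_mul, add_mul]
      exact SetLike.mul_mem_graded (A := gr k s) ha hb }

omit hrange in
theorem constantCoeff_eq_zero {g : ℤ} (hg : g ≠ 0) {p : (MvPolynomial (Fin s) k)} (hp : p ∈ gr k s g) :
    MvPolynomial.constantCoeff p = 0 := by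
  by_contra h
  exact hg ((hp (by rwa [constantCoeff_eq] at h)).symm.trans (map_zero _))

/-- The irrelevant ideal. -/
theorem span_pos_ver (hφ : Function.Injective φ) (hd : 0 < d) :
    Ideal.span (⋃ j ∈ Set.Ioi (0 : ℤ), (verGr φ d j : Set R')) =
      Ideal.comap φ (RingHom.ker (MvPolynomial.constantCoeff : (MvPolynomial (Fin s) k) →+* k)) := by
  refine le_antisymm (Ideal.span_le.2 fun y hy => ?_) fun x hx => ?_
  · obtain ⟨j, hj, hy⟩ := Set.mem_iUnion₂.1 hy
    exact constantCoeff_eq_zero (mul_ne_zero (ne_of_gt hj) (Int.natCast_ne_zero.2 hd.ne')) hy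
  · refine mem_of_pieces φ d hrange hφ (Ideal.span (⋃ j ∈ Set.Ioi (0 : ℤ), (verGr φ d j : Set R'))).toAddSubgroup x fun j hz y hy _ => ?_
    rcases lt_trichotomy j 0 with hj | rfl | hj
    · exact absurd ((AddSubgroup.eq_bot_iff_forall _).1 (gr_neg k s _ (mul_neg_of_neg_of_pos hj (by omega)))
        _ (proj_mem (gr k s) _ _)) hz
    · refine absurd ?_ hz
      rw [zero_mul, show (0 : ℤ) = ((0 : ℕ) : ℤ) from rfl, proj_eq_component, homogeneousComponent_zero]
      change MvPolynomial.constantCoeff (φ x) = 0 at hx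
      rw [constantCoeff_eq] at hx
      rw [hx, map_zero]
    · exact Ideal.subset_span (Set.mem_iUnion₂.2 ⟨j, hj, hy⟩)

end veronese

end Groth.Agent.CAlgH3.GrVerPoly
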