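import Groth.Agent.CAlgH3.GrVerDual
import Groth.Agent.CAlgH3.GrTopSocle
import Groth.Agent.DimLib.Algebra
import Mathlib

/-!
Gorenstein and Cohen–Macaulay properties of Veronese subrings of positively graded rings over a field.
-/

set_option autoImplicit false
set_option linter.unusedSectionVars false
set_option linter.style.haveILetI false

universe u

open DirectSum Groth.Agent.GrLib IsLocalRing

namespace Groth.Agent.CAlgH3.GrVeroneseGor

open GrDualAt GrVeronese GrVeroneseIso GrVerDual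

section irrelevant

variable {R : Type u} [CommRing R] {𝒜 : ℤ → AddSubgroup R} [GradedRing 𝒜] {m : HomogeneousIdeal 𝒜}

variable (𝒜) in
/-- The ideal of positive degrees. -/
def posIdeal : HomogeneousIdeal 𝒜 :=
  ⟨Ideal.span (⋃ k ∈ Set.Ioi (0 : ℤ), (𝒜 k : Set R)), Ideal.homogeneous_span _ _ fun _ hx => by
    obtain ⟨k, -, hk⟩ := Set.mem_iUnion₂.1 hx
    exact ⟨k, hk⟩⟩

theorem mem_of_pos (hm : m.toIdeal = Ideal.span (⋃ k ∈ Set.Ioi (0 : ℤ), (𝒜 k : Set R))) {k : ℤ} (hk : 0 < k)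
    {x : R} (hx : x ∈ 𝒜 k) : x ∈ m.toIdeal :=
  hm ▸ Ideal.subset_span (Set.mem_iUnion₂.2 ⟨k, hk, hx⟩)

/-- Over a field in degree zero the positive degrees form the *maximal ideal. -/
theorem isStarLocal_pos [Nontrivial R] (hpos : ∀ k : ℤ, k < 0 → 𝒜 k = ⊥) (h0 : IsField (GrLC.deg0 𝒜))
    (hm : m.toIdeal = Ideal.span (⋃ k ∈ Set.Ioi (0 : ℤ), (𝒜 k : Set R))) : GrLC.IsStarLocal 𝒜 m := by
  have hne : m.toIdeal ≠ ⊤ := fun h => by
    have h1 : (1 : R) ∈ Ideal.span (⋃ k ∈ Set.Ioi (0 : ℤ), (𝒜 k : Set R)) := hm ▸ h ▸ trivial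
    have key : ∀ z ∈ Ideal.span (⋃ k ∈ Set.Ioi (0 : ℤ), (𝒜 k : Set R)), ∀ s : R, proj 𝒜 0 (s * z) = 0 := by
      intro z hz
      induction hz using Submodule.span_induction with
      | mem l hl =>
        intro s
        obtain ⟨k, hk, hl⟩ := Set.mem_iUnion₂.1 hl
        rw [mul_comm, ← smul_eq_mul, proj_smul' (ℳ := 𝒜) hl,
          (AddSubgroup.eq_bot_iff_forall _).1 (hpos (0 - k) (by simp only [Set.mem_Ioi] at hk; omega)) _
            (proj_mem 𝒜 _ s), smul_zero]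
      | zero => intro s; rw [mul_zero, map_zero]
      | add y z _ _ hy hz => intro s; rw [mul_add, map_add, hy, hz, add_zero]
      | smul c y _ hy => intro s; rw [smul_eq_mul, ← mul_assoc]; exact hy _
    have := key 1 h1 1
    rw [one_mul, proj_of_mem (SetLike.one_mem_graded 𝒜)] at this
    exact one_ne_zero this
  have hle : ∀ J : HomogeneousIdeal 𝒜, J.toIdeal ≠ ⊤ → J ≤ m := by
    intro J hJ x hx
    refine mem_of_proj_mem 𝒜 m.toIdeal fun g => ?_
    rcases lt_trichotomy g 0 with hg | hg | hg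
    · rw [(AddSubgroup.eq_bot_iff_forall _).1 (hpos g hg) _ (proj_mem 𝒜 g x)]
      exact zero_mem _
    · subst hg
      by_cases hz : proj 𝒜 0 x = 0
      · rw [hz]; exact zero_mem _
      obtain ⟨⟨i, hi⟩, hxi⟩ := h0.mul_inv_cancel (a := (⟨proj 𝒜 0 x, proj_mem 𝒜 0 x⟩ : GrLC.deg0 𝒜))
        fun h => hz (congrArg Subtype.val h)
      refine absurd ((Ideal.eq_top_iff_one _).2 ?_) hJ
      rw [← show proj 𝒜 0 x * i = 1 from congrArg Subtype.val hxi]
      exact Ideal.mul_mem_right _ _ (J.isHomogeneous 0 hx)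
    · exact mem_of_pos hm hg (proj_mem 𝒜 g x)
  refine ⟨⟨fun h => hne (by rw [h]; rfl), fun J hJ => ?_⟩, fun J hJ => ?_⟩
  · by_contra h
    exact hJ.not_ge (hle J fun h' => h (HomogeneousIdeal.ext (h'.trans rfl)))
  · refine (eq_or_lt_of_le (hle J fun h' => hJ.1 (HomogeneousIdeal.ext (h'.trans rfl)))).resolve_right fun h => ?_
    exact hne (by rw [hJ.2 m h]; rfl)

end irrelevant

variable {R : Type u} [CommRing R] {𝒜 : ℤ → AddSubgroup R} [GradedRing 𝒜] {R' : Type u} [CommRing R']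
  {𝒜' : ℤ → AddSubgroup R'} [GradedRing 𝒜'] [Algebra R' R] {q : ℕ} (hV : IsVer 𝒜 𝒜' q)
  (hpos : ∀ k : ℤ, k < 0 → 𝒜 k = ⊥) (h0 : IsField (GrLC.deg0 𝒜))
include hV

include hpos in
theorem pos_ver (k : ℤ) (hk : k < 0) : 𝒜' k = ⊥ := by
  have hq : (0 : ℤ) < q := by exact_mod_cast hV.pos
  refine (AddSubgroup.eq_bot_iff_forall _).2 fun r hr => hV.inj ?_
  rw [map_zero]
  exact (AddSubgroup.eq_bot_iff_forall _).1 (hpos _ (mul_neg_of_neg_of_pos hk hq)) _ (map_mem hV hr)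

include h0 in
theorem isField_deg0 : IsField (GrLC.deg0 𝒜') := by
  have h : ∀ r : GrLC.deg0 𝒜', algebraMap R' R r ∈ GrLC.deg0 𝒜 := fun r => by
    have := map_mem hV (show (r : R') ∈ 𝒜' 0 from r.2)
    rwa [zero_mul] at this
  let σ : GrLC.deg0 𝒜' →+* GrLC.deg0 𝒜 :=
    ((algebraMap R' R).comp (GrLC.deg0 𝒜').subtype).codRestrict (GrLC.deg0 𝒜) h
  have hi : Function.Injective σ := fun r s hrs => Subtype.ext (hV.inj (congrArg Subtype.val hrs :))
  refine MulEquiv.isField h0 (RingEquiv.ofBijective σ ⟨hi, fun r => ?_⟩).toMulEquiv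
  obtain ⟨r', hr', hrr⟩ := exists_of_mem hV (j := 0) (r := (r : R)) (by rw [zero_mul]; exact r.2)
  exact ⟨⟨r', hr'⟩, Subtype.ext hrr⟩

include hpos in
theorem isIntegral_ver : Algebra.IsIntegral R' R := by
  refine ⟨fun x => induction 𝒜 (motive := fun x => IsIntegral R' x) isIntegral_zero (fun k x hx => ?_)
    (fun _ _ => IsIntegral.add) x⟩
  rcases lt_or_ge k 0 with hk | hk
  · rw [(AddSubgroup.eq_bot_iff_forall _).1 (hpos k hk) x hx]
    exact isIntegral_zero
  · have h : x ^ q ∈ 𝒜 (k * q) := by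
      have := SetLike.pow_mem_graded q hx
      rwa [nsmul_eq_mul, mul_comm] at this
    obtain ⟨r, -, hr⟩ := exists_of_mem hV h
    exact IsIntegral.of_pow hV.pos (hr ▸ isIntegral_algebraMap)

include hpos in
theorem ringKrullDim_ver : ringKrullDim R' = ringKrullDim R :=
  haveI := isIntegral_ver hV hpos
  DimLib.ringKrullDim_eq_of_isIntegral hV.inj

variable [IsNoetherianRing R] {m : HomogeneousIdeal 𝒜} {m' : HomogeneousIdeal 𝒜'}
  (hmsp : m.toIdeal = Ideal.span (⋃ k ∈ Set.Ioi (0 : ℤ), (𝒜 k : Set R)))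
  (hm'sp : m'.toIdeal = Ideal.span (⋃ k ∈ Set.Ioi (0 : ℤ), (𝒜' k : Set R')))

include hmsp hm'sp in
/-- Local cohomology of the Veronese subring itself. -/
theorem exists_verIso_ring (I : GrLC.StarInjRes 𝒜 𝒜) (I' : GrLC.StarInjRes 𝒜' 𝒜') (p : ℕ) :
    ∃ T : ∀ j : ℤ, I.Hgr m p (j * q) →+ I'.H m' p, IsVerIso R 𝒜' q (I.Hgr m p) (I'.Hgr m' p) T := by
  haveI := isNoetherianRing_ver hV
  obtain ⟨hle, N, hN⟩ := exists_pow_le_extIdeal hV hmsp hm'sp
  exact exists_verIso hV I (Algebra.linearMap R' R) hV.inj hV.deg I' hle hN p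

include hpos h0 hmsp hm'sp in
/-- Below the dimension the local cohomology of the Veronese subring vanishes with that of the ring. -/
theorem cm_localization [m'.toIdeal.IsMaximal] [Nontrivial R'] {n : ℕ} (hn : ringKrullDim R = n)
    (I : GrLC.StarInjRes 𝒜 𝒜) (hlow : ∀ i < n, ∀ g, I.Hgr m i g = ⊥) :
    _root_.LocCoh.IsCohenMacaulayLocalRing (Localization.AtPrime m'.toIdeal) ∧
      ringKrullDim (Localization.AtPrime m'.toIdeal) = n := by
  haveI := isNoetherianRing_ver hV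
  have hpos' := pos_ver hV hpos
  have hm' := isStarLocal_pos hpos' (isField_deg0 hV h0) hm'sp
  have hd : ringKrullDim (Localization.AtPrime m'.toIdeal) = n := by
    rw [IsLocalization.AtPrime.ringKrullDim_eq_height m'.toIdeal, ← ringKrullDim_eq_height_starMaximal
      (fun k hk x hx => (AddSubgroup.eq_bot_iff_forall _).1 (hpos' k hk) x hx) hm', ringKrullDim_ver hV hpos, hn]
  refine ⟨LocCoh.isCohenMacaulay_of_subsingleton_H hd fun i hi => ?_, hd⟩
  let I' := starRes 𝒜' 𝒜'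
  obtain ⟨T, hT⟩ := exists_verIso_ring hV hmsp hm'sp I I' i
  letI := Hdecomp I' m' i
  haveI : Subsingleton (I'.H m' i) := subsingleton_of_forall_eq 0 fun y =>
    eq_zero_of_proj (I'.Hgr m' i) fun j => (AddSubgroup.eq_bot_iff_forall _).1
      ((eq_bot_iff_ver hV hT j).2 (hlow i hi _)) _ (proj_mem _ j y)
  obtain ⟨e⟩ := nonempty_H_equiv I' m' i
  haveI : Subsingleton (_root_.LocCoh.H m'.toIdeal i R') := e.symm.toEquiv.subsingleton
  let W := m'.toIdeal.primeCompl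
  let S := Localization W
  obtain ⟨e3⟩ := LocCoh.nonempty_localized_H_equiv W m'.toIdeal R' i
  have eS : LocalizedModule W R' ≃ₗ[S] S :=
    LinearEquiv.extendScalarsOfIsLocalization W S (IsLocalizedModule.iso W (Algebra.linearMap R' S))
  haveI : Subsingleton (LocalizedModule W (_root_.LocCoh.H m'.toIdeal i R')) :=
    subsingleton_of_forall_eq 0 fun v => by
      induction v using LocalizedModule.induction_on with
      | _ y t => rw [Subsingleton.elim y 0, LocalizedModule.zero_mk]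
  have e4 := e3.trans (LocCoh.Hequiv (m'.toIdeal.map (algebraMap R' S)) i eS)
  rw [show m'.toIdeal.map (algebraMap R' S) = maximalIdeal (Localization.AtPrime m'.toIdeal) from
    Localization.AtPrime.map_eq_maximalIdeal] at e4
  exact e4.symm.toEquiv.subsingleton

include hpos h0 hmsp hm'sp in
/-- The top Bass number of the Veronese subring. -/
theorem bassNum_ver [m'.toIdeal.IsMaximal] [Nontrivial R'] {n : ℕ} (hn : ringKrullDim R = n)
    (I : GrLC.StarInjRes 𝒜 𝒜) (hlow : ∀ i < n, ∀ g, I.Hgr m i g = ⊥) (I' : GrLC.StarInjRes 𝒜' 𝒜') :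
    GrLC.bassNum m'.toIdeal R' n = Module.length R' (_root_.LocCoh.torsionBy m'.toIdeal (I'.H m' n)) ∧
      (Module.length R' (_root_.LocCoh.torsionBy m'.toIdeal (I'.H m' n)) = 1 →
        _root_.LocCoh.IsGorensteinRing R') := by
  haveI := isNoetherianRing_ver hV
  obtain ⟨hcm, hd⟩ := cm_localization hV hpos h0 hmsp hm'sp hn I hlow
  haveI := hcm
  obtain ⟨h1, h2⟩ := GrTopSocle.bassNum_eq_length_socle m'.toIdeal hd
  rw [GrTopSocle.length_socle_H_congr m' I' n] at h1 h2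
  exact ⟨h1, fun h => GrCanonApps.isGorensteinRing_of_localized
    (isStarLocal_pos (pos_ver hV hpos) (isField_deg0 hV h0) hm'sp) (h2 h)⟩

include hpos h0 hmsp hm'sp in
/-- The type of a Veronese subring of a standard graded Gorenstein ring. -/
theorem bassNum_ver_standard [m'.toIdeal.IsMaximal] [Nontrivial R']
    (hstd : Ideal.span (⋃ k ∈ Set.Ioi (0 : ℤ), (𝒜 k : Set R)) = Ideal.span ((𝒜 1 : AddSubgroup R) : Set R))
    {n : ℕ} (hn : ringKrullDim R = n) (I : GrLC.StarInjRes 𝒜 𝒜) (hlow : ∀ i < n, ∀ g, I.Hgr m i g = ⊥)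
    {a ρ : ℤ} (hD : IsDualAt 𝒜 (I.Hgr m n) a) (hρ0 : 0 ≤ ρ) (hρq : ρ < q) (hρa : (q : ℤ) ∣ a - ρ) :
    GrLC.bassNum m'.toIdeal R' n = (Module.finrank (GrLC.deg0 𝒜) (GrLC.comp 𝒜 𝒜 ρ) : ℕ∞) ∧
      (Module.finrank (GrLC.deg0 𝒜) (GrLC.comp 𝒜 𝒜 ρ) = 1 → _root_.LocCoh.IsGorensteinRing R') := by
  haveI := isNoetherianRing_ver hV
  let I' := starRes 𝒜' 𝒜'
  obtain ⟨hb, hg⟩ := bassNum_ver hV hpos h0 hmsp hm'sp hn I hlow I'
  obtain ⟨j₀, hj₀⟩ := hρa
  rw [mul_comm] at hj₀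
  obtain ⟨T, hT⟩ := exists_verIso_ring hV hmsp hm'sp I I' n
  obtain ⟨hout, hin⟩ := socle_concentrated hV hT hstd hpos hD hρ0 hρq hj₀.symm
  obtain ⟨hle, N, hN⟩ := exists_pow_le_extIdeal hV hmsp hm'sp
  have hrank : Module.finrank (GrLC.deg0 𝒜') (GrLC.comp 𝒜' (I'.Hgr m' n) j₀) =
      Module.finrank (GrLC.deg0 𝒜) (GrLC.comp 𝒜 𝒜 ρ) := by
    rw [← hD.finrank_piece h0 ρ, hj₀]
    exact finrank_Hcomp hV I (Algebra.linearMap R' R) hV.inj hV.deg I' hle hN n j₀
  have h0' := isField_deg0 hV h0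
  letI := h0'.toField
  haveI : Module.Finite (GrLC.deg0 𝒜') (GrLC.comp 𝒜' (I'.Hgr m' n) j₀) := by
    by_cases hz : Module.finrank (GrLC.deg0 𝒜') (GrLC.comp 𝒜' (I'.Hgr m' n) j₀) = 0
    · rw [hrank] at hz
      haveI := isNoetherian_piece 𝒜 𝒜 ρ
      letI := h0.toField
      haveI : Subsingleton (GrLC.comp 𝒜' (I'.Hgr m' n) j₀) := subsingleton_of_forall_eq 0 fun y => by
        obtain ⟨x, hx⟩ := hT.surj j₀ y y.2
        refine Subtype.ext ?_
        rw [← hx, show x = 0 from Subtype.ext (by_contra fun hne => ?_), map_zero]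
        · rfl
        obtain ⟨r, hr, hrx⟩ := hD.ess (j₀ * q) x x.2 hne
        rw [← hj₀, sub_sub_cancel] at hr
        haveI : Subsingleton (GrLC.comp 𝒜 𝒜 ρ) := Module.finrank_zero_iff.1 hz
        exact hrx (by rw [show r = 0 from congrArg Subtype.val (Subsingleton.elim (⟨r, hr⟩ : GrLC.comp 𝒜 𝒜 ρ) 0),
          zero_smul])
      exact Module.Finite.of_finite
    · exact Module.finite_of_finrank_pos (Nat.pos_of_ne_zero hz)
  letI := Hdecomp I' m' n
  have hlen := GrTopSocle.length_socle_eq_finrank (𝒳 := I'.Hgr m' n) (m := m') (pos_ver hV hpos) h0'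
    (fun k hk r hr => mem_of_pos hm'sp hk hr) (c := j₀)
    (fun d hd y hy hy0 => by
      obtain ⟨r, hr, hry⟩ := hout d hd y hy hy0
      exact ⟨r, mem_of_pos hm'sp one_pos hr, hry⟩)
    (fun y hy r hr => by
      rw [hm'sp] at hr
      induction hr using Submodule.span_induction with
      | mem l hl =>
        obtain ⟨k, hk, hl⟩ := Set.mem_iUnion₂.1 hl
        exact hin y hy k hk l hl
      | zero => exact zero_smul _ _
      | add u v _ _ hu hv => rw [add_smul, hu, hv, add_zero]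
      | smul c u _ hu => rw [smul_eq_mul, mul_smul, hu, smul_zero])
  rw [hlen, hrank] at hb hg
  exact ⟨hb, fun h => hg (by rw [h]; rfl)⟩

include hpos h0 hmsp hm'sp in
/-- A Veronese subring of a Gorenstein ring is Gorenstein when `q` divides the end. -/
theorem gorenstein_ver [m'.toIdeal.IsMaximal] [Nontrivial R'] {n : ℕ} (hn : ringKrullDim R = n)
    (I : GrLC.StarInjRes 𝒜 𝒜) (hlow : ∀ i < n, ∀ g, I.Hgr m i g = ⊥) {c : ℤ}
    (hD : IsDualAt 𝒜 (I.Hgr m n) (c * q)) : _root_.LocCoh.IsGorensteinRing R' := by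
  haveI := isNoetherianRing_ver hV
  let I' := starRes 𝒜' 𝒜'
  obtain ⟨-, hg⟩ := bassNum_ver hV hpos h0 hmsp hm'sp hn I hlow I'
  obtain ⟨T, hT⟩ := exists_verIso_ring hV hmsp hm'sp I I' n
  have hD' := isDualAt_ver hV hT hD
  have hpos' := pos_ver hV hpos
  have h0' := isField_deg0 hV h0
  letI := h0'.toField
  letI := Hdecomp I' m' n
  have h1 := finrank_line (𝒳 := I'.Hgr m' n) h0' hD'.gen
  haveI : Module.Finite (GrLC.deg0 𝒜') (GrLC.comp 𝒜' (I'.Hgr m' n) c) := Module.finite_of_finrank_eq_succ h1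
  refine hg ((GrTopSocle.length_socle_eq_finrank (𝒳 := I'.Hgr m' n) (m := m') hpos' h0'
    (fun k hk r hr => mem_of_pos hm'sp hk hr) (c := c) (fun d hd y hy hy0 => ?_) fun y hy r hr => ?_).trans
      (by rw [h1]; rfl))
  · obtain ⟨r, hr, hry⟩ := hD'.ess d y hy hy0
    have := hD'.le hpos' hy hy0
    exact ⟨r, mem_of_pos hm'sp (by omega) hr, hry⟩
  · rw [hm'sp] at hr
    induction hr using Submodule.span_induction with
    | mem l hl =>
      obtain ⟨k, hk, hl⟩ := Set.mem_iUnion₂.1 hl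
      simp only [Set.mem_Ioi] at hk
      by_contra hne
      have := hD'.le hpos' (GrLib.smul_mem (ℳ := I'.Hgr m' n) hl hy) hne
      omega
    | zero => exact zero_smul _ _
    | add u v _ _ hu hv => rw [add_smul, hu, hv, add_zero]
    | smul e u _ hu => rw [smul_eq_mul, mul_smul, hu, smul_zero]

end Groth.Agent.CAlgH3.GrVeroneseGor
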