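import Groth.Agent.CAlgH3.GrVeroneseRank

/-!
Local cohomology of Veronese parts: one family of bijections in all degrees, compatible with the action of
the Veronese subring.
-/

set_option autoImplicit false
set_option linter.style.haveILetI false

universe u

open DirectSum Groth.Agent.GrLib

namespace Groth.Agent.CAlgH3.GrVeroneseIso

open GrVeronese

variable {R : Type u} [CommRing R] {𝒜 : ℤ → AddSubgroup R} [GradedRing 𝒜] {R' : Type u} [CommRing R']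
  {𝒜' : ℤ → AddSubgroup R'} [GradedRing 𝒜'] [Algebra R' R] {q : ℕ}

section iso

variable {A : Type u} [AddCommGroup A] [Module R A] {B : Type u} [AddCommGroup B] [Module R' B]

variable (R 𝒜') in
/-- Bijections between the pieces of degree `j * q` and `j`, compatible with the Veronese action. -/
structure IsVerIso (q : ℕ) (𝒳 : ℤ → AddSubgroup A) (𝒴 : ℤ → AddSubgroup B) (T : ∀ j : ℤ, 𝒳 (j * q) →+ B) :
    Prop where
  inj : ∀ j, ∀ x, T j x = 0 → x = 0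
  mem : ∀ j x, T j x ∈ 𝒴 j
  surj : ∀ j, ∀ y ∈ 𝒴 j, ∃ x, T j x = y
  smul : ∀ (a j k : ℤ), a + j = k → ∀ r ∈ 𝒜' a, ∀ (x : 𝒳 (j * q)) (x' : 𝒳 (k * q)),
    (x' : A) = algebraMap R' R r • (x : A) → T k x' = r • T j x

end iso

section phi

variable {A B : Type u} [AddCommGroup A] [AddCommGroup B] [Module R' B] [Module R A]

variable (𝒜') in
/-- Compatibility of a family of maps on pieces with the Veronese action. -/
def IsCompat (C : ℤ → AddSubgroup A) (Θ : ∀ j, C j →+ B) : Prop :=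
  ∀ (a j k : ℤ), a + j = k → ∀ r ∈ 𝒜' a, ∀ (z : C j) (z' : C k),
    (z' : A) = algebraMap R' R r • (z : A) → Θ k z' = r • Θ j z

theorem compat_comp {B₂ : Type u} [AddCommGroup B₂] [Module R' B₂] {C : ℤ → AddSubgroup A}
    {Θ : ∀ j, C j →+ B} (h : IsCompat (R := R) 𝒜' C Θ) (δ : B →ₗ[R'] B₂) :
    IsCompat (R := R) 𝒜' C fun j => δ.toAddMonoidHom.comp (Θ j) := fun a j k hk r hr z z' hz => by
  show δ (Θ k z') = r • δ (Θ j z)
  rw [h a j k hk r hr z z' hz, map_smul]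

end phi

variable (hV : IsVer 𝒜 𝒜' q) [IsNoetherianRing R] [IsNoetherianRing R']
include hV

section torsion

variable {X : Type u} [AddCommGroup X] [Module R X] [Module R' X] [IsScalarTower R' R X]
  {𝒳 : ℤ → AddSubgroup X} [Decomposition 𝒳] [SetLike.GradedSMul 𝒜 𝒳]
  {Y : Type u} [AddCommGroup Y] [Module R Y] [Module R' Y] [IsScalarTower R' R Y]
  {𝒴 : ℤ → AddSubgroup Y} [Decomposition 𝒴] [SetLike.GradedSMul 𝒜 𝒴]
  {W : Type u} [AddCommGroup W] [Module R W] [Module R' W] [IsScalarTower R' R W]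
  {𝒲 : ℤ → AddSubgroup W} [Decomposition 𝒲] [SetLike.GradedSMul 𝒜 𝒲]
  {m : HomogeneousIdeal 𝒜} {m' : HomogeneousIdeal 𝒜'}
  (hle : (extIdeal hV m').toIdeal ≤ m.toIdeal) {N : ℕ} (hpow : m.toIdeal ^ N ≤ (extIdeal hV m').toIdeal)

theorem isCompat_theta0 [Decomposition (verGr hV 𝒳)] (G : GrLC.StarInjRes 𝒜' (verGr hV 𝒳)) :
    IsCompat (R := R) 𝒜' (gamPiece m 𝒳 q) fun j => theta0 hV hle hpow j G := by
  intro a j k _ r _ z z' hz
  show h0cls G m' (toVer hV hle hpow k z') = r • h0cls G m' (toVer hV hle hpow j z)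
  rw [← map_smul]
  refine congrArg _ (Subtype.ext (Subtype.ext ?_))
  show (z' : X) = r • (z : X)
  rw [hz, IsScalarTower.algebraMap_smul]

variable [Decomposition (verGr hV 𝒳)] [Decomposition (verGr hV 𝒴)] [Decomposition (verGr hV 𝒲)]
  {f : X →ₗ[R] Y} (hf : GrLC.IsGrHom 𝒳 𝒴 f) {g : Y →ₗ[R] W} (hg : GrLC.IsGrHom 𝒴 𝒲 g)
  (hi : Function.Injective f) (hs : Function.Surjective g) (hfg : Function.Exact f g)
  (hY : GrLC.IsStarInj 𝒜 𝒴) (G : GrLC.StarInjRes 𝒜' (verGr hV 𝒳))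

include hf hg hi hs hfg hY in
/-- Dimension shifting, one map for all degrees. -/
theorem exists_shift_all (G₁ : GrLC.StarInjRes 𝒜' (verGr hV 𝒲)) (p : ℕ) :
    ∃ δ : G₁.H m' p →ₗ[R'] G.H m' (p + 1), (∀ j, ∀ y ∈ G₁.Hgr m' p j, δ y ∈ G.Hgr m' (p + 1) j) ∧
      (∀ j, ∀ y ∈ G.Hgr m' (p + 1) j, ∃ x ∈ G₁.Hgr m' p j, δ x = y) ∧ (0 < p → Function.Injective δ) ∧
      ∀ y, δ y = 0 ↔ y ∈ LinearMap.range (mapH (starRes 𝒜' (verGr hV 𝒴)) G₁ m'
        (grHomDeg_zero_iff.2 (verMap_grHom hV g hg)) p) := by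
  let GX := starRes 𝒜' (verGr hV 𝒴)
  have hac : ∀ k, 0 < k → Subsingleton (GX.H m' k) := fun k hk => by
    haveI := subsingleton_H_ver hV hY m' hk
    obtain ⟨e⟩ := nonempty_H_equiv GX m' k
    exact e.toEquiv.subsingleton
  obtain ⟨δ, hδ, -, hex⟩ := exists_les G G₁ GX m' (verMap_grHom hV f hf) (verMap_injective hV f hf hi)
    (verMap_grHom hV g hg) (verMap_surjective hV g hg hs) (verMap_exact hV f hf g hg hi hfg)
  letI := Hdecomp G₁ m' p
  letI := Hdecomp G m' (p + 1)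
  refine ⟨δ p, fun j y hy => hδ p j y hy, fun j y hy => ?_, fun hp => ?_, fun y => (hex p).2.1 y⟩
  · exact exists_preimage (grHomDeg_zero_iff.2 (hδ p)) (g := j) (y := y) (by rwa [add_zero])
      (((hex p).2.2 y).1 (by haveI := hac (p + 1) p.succ_pos; exact Subsingleton.elim _ _))
  · haveI := hac p hp
    refine (injective_iff_map_eq_zero _).2 fun y hy => ?_
    obtain ⟨w, rfl⟩ := ((hex p).2.1 y).1 hy
    rw [Subsingleton.elim w 0, map_zero]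

include hf hg hi hs hfg hY hle hpow in
/-- The first cohomology of a Veronese part in all degrees at once. -/
theorem exists_theta_one_all :
    ∃ Θ : ∀ j : ℤ, gamPiece m 𝒲 q j →+ G.H m' 1, (∀ j z, Θ j z ∈ G.Hgr m' 1 j) ∧
      (∀ j, ∀ y ∈ G.Hgr m' 1 j, ∃ z, Θ j z = y) ∧
      (∀ j z, Θ j z = 0 ↔ ∃ w ∈ GrLC.gam m.toIdeal Y, g w = z) ∧
      IsCompat (R := R) 𝒜' (gamPiece m 𝒲 q) Θ := by
  let GY := starRes 𝒜' (verGr hV 𝒴)
  let G₁ := starRes 𝒜' (verGr hV 𝒲)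
  obtain ⟨δ, hδ, hδs, -, hker⟩ := exists_shift_all hV (m' := m') hf hg hi hs hfg hY G G₁ 0
  refine ⟨fun j => δ.toAddMonoidHom.comp (theta0 hV hle hpow j G₁), fun j z => hδ j _ ?_, fun j y hy => ?_,
    fun j z => ?_, compat_comp (isCompat_theta0 hV hle hpow G₁) δ⟩
  · exact (theta0_props hV hle hpow j G₁).1 z
  · obtain ⟨x, hx, rfl⟩ := hδs j y hy
    obtain ⟨z, rfl⟩ := (theta0_props hV hle hpow j G₁).2.1 x hx
    exact ⟨z, rfl⟩
  · obtain ⟨h1, -, h3, -⟩ := theta0_props hV hle hpow j G₁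
    obtain ⟨-, x2, -, -⟩ := theta0_props hV hle hpow j GY
    have hgam : ∀ x : gamPiece m 𝒴 q j, g x ∈ gamPiece m 𝒲 q j := fun x =>
      ⟨map_gam_le g (Submodule.mem_map_of_mem x.2.1), hg _ _ x.2.2⟩
    have key : ∀ x : gamPiece m 𝒴 q j,
        mapH GY G₁ m' (grHomDeg_zero_iff.2 (verMap_grHom hV g hg)) 0 (theta0 hV hle hpow j GY x) =
          theta0 hV hle hpow j G₁ ⟨g x, hgam x⟩ := fun x =>
      mapH_h0cls GY m' G₁ (grHomDeg_zero_iff.2 (verMap_grHom hV g hg)) (toVer hV hle hpow j x)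
    refine (hker _).trans ⟨fun h => ?_, ?_⟩
    · letI := Hdecomp GY m' 0
      letI := Hdecomp G₁ m' 0
      obtain ⟨y, hy, hyz⟩ := exists_preimage
        (mapH_grHomDeg m' (grHomDeg_zero_iff.2 (verMap_grHom hV g hg)) 0 (E := GY) (F := G₁))
        (g := j) (y := theta0 hV hle hpow j G₁ z) (by rw [add_zero]; exact h1 z) h
      obtain ⟨x, rfl⟩ := x2 y hy
      rw [key] at hyz
      have hzero := h3 (⟨g x, hgam x⟩ - z) (by rw [map_sub]; exact sub_eq_zero.2 hyz)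
      exact ⟨x, x.2.1, congrArg Subtype.val (sub_eq_zero.1 hzero)⟩
    · rintro ⟨w, hw, hwz⟩
      have hw' : proj 𝒴 (j * q) w ∈ gamPiece m 𝒴 q j :=
        ⟨isHomogeneous_gam m.isHomogeneous (j * q) hw, proj_mem 𝒴 _ _⟩
      refine ⟨theta0 hV hle hpow j GY ⟨_, hw'⟩, (key ⟨_, hw'⟩).trans (congrArg _ (Subtype.ext ?_))⟩
      show g (proj 𝒴 (j * q) w) = z.1
      rw [← proj_map hg, hwz, proj_of_mem z.2.2]

end torsion

section main

variable {M : Type u} [AddCommGroup M] [Module R M] {ℳ : ℤ → AddSubgroup M} [Decomposition ℳ] [SetLike.GradedSMul 𝒜 ℳ]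
  (E : GrLC.StarInjRes 𝒜 ℳ) [∀ n, Module R' (E.X n).carrier] [∀ n, IsScalarTower R' R (E.X n).carrier]
  {m : HomogeneousIdeal 𝒜} {m' : HomogeneousIdeal 𝒜'}
  (hle : (extIdeal hV m').toIdeal ≤ m.toIdeal) {N : ℕ} (hpow : m.toIdeal ^ N ≤ (extIdeal hV m').toIdeal)

/-- Homogeneous cocycles of index `i` compute `H^p` of the Veronese part of a cosyzygy, in all degrees. -/
def HasThetaAll (n p i : ℕ) : Prop :=
  letI := subDecomp (E.X n).gr (isHomogeneous_ker (E.d_grHom n))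
  letI := verDecomp hV (subGr (E.X n).gr (Z E n))
  ∀ G : GrLC.StarInjRes 𝒜' (verGr hV (subGr (E.X n).gr (Z E n))),
    ∃ Θ : ∀ j : ℤ, cyc E m q i j →+ G.H m' p, (∀ j z, Θ j z ∈ G.Hgr m' p j) ∧
      (∀ j, ∀ y ∈ G.Hgr m' p j, ∃ z, Θ j z = y) ∧
      (∀ j z, Θ j z = 0 ↔ (z : (E.X i).carrier) ∈ E.cobdy m i) ∧ IsCompat (R := R) 𝒜' (cyc E m q i) Θ

include hle hpow in
theorem hasThetaAll_zero : HasThetaAll (m := m) (m' := m') hV E 0 0 0 := by
  letI := subDecomp (E.X 0).gr (isHomogeneous_ker (E.d_grHom 0))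
  letI := verDecomp hV (subGr (E.X 0).gr (Z E 0))
  intro G
  refine ⟨fun j => (theta0 hV hle hpow j G).comp (cycToPiece E m q 0 j),
    fun j z => (theta0_props hV hle hpow j G).1 _, fun j y hy => ?_, fun j z => ?_,
    fun a j k hk r hr z z' hz => isCompat_theta0 hV hle hpow G a j k hk r hr _ _ (Subtype.ext hz)⟩
  · obtain ⟨w, hw⟩ := (theta0_props hV hle hpow j G).2.1 y hy
    obtain ⟨z, hz⟩ := cycToPiece_surj E (m := m) (q := q) 0 j w
    exact ⟨z, (congrArg (theta0 hV hle hpow j G) hz).trans hw⟩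
  · refine ⟨fun h => (Submodule.mem_bot R).2 (congrArg
      (fun t : gamPiece m (subGr (E.X 0).gr (Z E 0)) q j => (t.1 : (E.X 0).carrier))
      ((theta0_props hV hle hpow j G).2.2.1 _ h)), fun h => ?_⟩
    show theta0 hV hle hpow j G (cycToPiece E m q 0 j z) = 0
    rw [show cycToPiece E m q 0 j z = 0 from Subtype.ext (Subtype.ext ((Submodule.mem_bot R).1 h)), map_zero]

include hle hpow in
theorem hasThetaAll_one (n : ℕ) : HasThetaAll (m := m) (m' := m') hV E n 1 (n + 1) := by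
  letI := subDecomp (E.X n).gr (isHomogeneous_ker (E.d_grHom n))
  letI := subDecomp (E.X (n + 1)).gr (isHomogeneous_ker (E.d_grHom (n + 1)))
  letI := verDecomp hV (subGr (E.X n).gr (Z E n))
  letI := verDecomp hV (subGr (E.X (n + 1)).gr (Z E (n + 1)))
  letI := verDecomp hV (E.X n).gr
  intro G
  obtain ⟨Θ, h1, h2, h3, h4⟩ := exists_theta_one_all hV (𝒳 := subGr (E.X n).gr (Z E n)) (𝒴 := (E.X n).gr)
    (𝒲 := subGr (E.X (n + 1)).gr (Z E (n + 1))) hle hpow (f := (Z E n).subtype) (subtype_grHom _)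
    (g := dZ E n) (fun c y hy => E.d_grHom n c y hy) Subtype.coe_injective (dZ_surjective E n) (dZ_exact E n)
    (E.starInj n) G
  refine ⟨fun j => (Θ j).comp (cycToPiece E m q (n + 1) j), fun j z => h1 j _, fun j y hy => ?_, fun j z => ?_,
    fun a j k hk r hr z z' hz => h4 a j k hk r hr _ _ (Subtype.ext hz)⟩
  · obtain ⟨w, hw⟩ := h2 j y hy
    obtain ⟨z, hz⟩ := cycToPiece_surj E (m := m) (q := q) (n + 1) j w
    exact ⟨z, (congrArg (Θ j) hz).trans hw⟩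
  · refine (h3 j _).trans ⟨?_, ?_⟩
    · rintro ⟨w, hw, hwz⟩
      exact ⟨w, hw, congrArg Subtype.val hwz⟩
    · rintro ⟨w, hw, hwz⟩
      exact ⟨w, hw, Subtype.ext hwz⟩

theorem compat_step {A P B : Type u} [AddCommGroup A] [AddCommGroup P] [AddCommGroup B] [Module R A]
    [Module R' P] [Module R' B] {C : ℤ → AddSubgroup A} (Pp : ℤ → AddSubgroup P) (Bb : ℤ → AddSubgroup B)
    (K : A → Prop) (δ : P →ₗ[R'] B) (Θ : ∀ j, C j →+ P) (hδ : ∀ j, ∀ y ∈ Pp j, δ y ∈ Bb j)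
    (hδs : ∀ j, ∀ y ∈ Bb j, ∃ x ∈ Pp j, δ x = y) (hδi : Function.Injective δ) (hΘ : ∀ j z, Θ j z ∈ Pp j)
    (hΘs : ∀ j, ∀ y ∈ Pp j, ∃ z, Θ j z = y) (hΘk : ∀ j (z : C j), Θ j z = 0 ↔ K z)
    (hΘr : IsCompat (R := R) 𝒜' C Θ) :
    ∃ Φ : ∀ j, C j →+ B, (∀ j z, Φ j z ∈ Bb j) ∧ (∀ j, ∀ y ∈ Bb j, ∃ z, Φ j z = y) ∧
      (∀ j (z : C j), Φ j z = 0 ↔ K z) ∧ IsCompat (R := R) 𝒜' C Φ := by
  refine ⟨fun j => δ.toAddMonoidHom.comp (Θ j), fun j z => hδ j _ (hΘ j z), fun j y hy => ?_,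
    fun j z => (map_eq_zero_iff δ hδi).trans (hΘk j z), compat_comp hΘr δ⟩
  obtain ⟨x, hx, rfl⟩ := hδs j y hy
  obtain ⟨z, rfl⟩ := hΘs j x hx
  exact ⟨z, rfl⟩

include hle hpow in
theorem hasThetaAll_succ {n p i : ℕ} (hp : 0 < p) (h : HasThetaAll (m := m) (m' := m') hV E (n + 1) p i) :
    HasThetaAll (m := m) (m' := m') hV E n (p + 1) i := by
  letI := subDecomp (E.X n).gr (isHomogeneous_ker (E.d_grHom n))
  letI := subDecomp (E.X (n + 1)).gr (isHomogeneous_ker (E.d_grHom (n + 1)))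
  letI := verDecomp hV (subGr (E.X n).gr (Z E n))
  letI := verDecomp hV (subGr (E.X (n + 1)).gr (Z E (n + 1)))
  letI := verDecomp hV (E.X n).gr
  intro G
  obtain ⟨G₁⟩ : Nonempty (GrLC.StarInjRes 𝒜' (verGr hV (subGr (E.X (n + 1)).gr (Z E (n + 1))))) :=
    ⟨starRes 𝒜' (verGr hV (subGr (E.X (n + 1)).gr (Z E (n + 1))))⟩
  obtain ⟨Θ, hΘ, hΘs, hΘk, hΘr⟩ := h G₁
  obtain ⟨δ, hδ, hδs, hδi, -⟩ := exists_shift_all hV (𝒳 := subGr (E.X n).gr (Z E n)) (𝒴 := (E.X n).gr)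
    (𝒲 := subGr (E.X (n + 1)).gr (Z E (n + 1))) (m' := m') (f := (Z E n).subtype) (subtype_grHom _)
    (g := dZ E n) (fun c y hy => E.d_grHom n c y hy) Subtype.coe_injective (dZ_surjective E n) (dZ_exact E n)
    (E.starInj n) G G₁ p
  exact compat_step hV (G₁.Hgr m' p) (G.Hgr m' (p + 1)) (fun a => a ∈ E.cobdy m i) δ Θ hδ hδs (hδi hp) hΘ hΘs
    hΘk hΘr

include hle hpow in
theorem hasThetaAll_pos : ∀ (p : ℕ), 0 < p → ∀ (n i : ℕ), n + p = i →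
    HasThetaAll (m := m) (m' := m') hV E n p i := by
  intro p hp n i hi
  induction p, hp using Nat.le_induction generalizing n with
  | base => subst hi; exact hasThetaAll_one hV E hle hpow n
  | succ p hp ih => exact hasThetaAll_succ hV E hle hpow hp (ih (n + 1) (by omega))

/-- Descend to classes. -/
theorem exists_verIso_of_compat {p : ℕ} {B : Type u} [AddCommGroup B] [Module R' B] (𝒴 : ℤ → AddSubgroup B)
    (Φ : ∀ j : ℤ, cyc E m q p j →+ B) (h1 : ∀ j z, Φ j z ∈ 𝒴 j) (h2 : ∀ j, ∀ y ∈ 𝒴 j, ∃ z, Φ j z = y)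
    (h3 : ∀ j z, Φ j z = 0 ↔ (z : (E.X p).carrier) ∈ E.cobdy m p)
    (h4 : IsCompat (R := R) 𝒜' (cyc E m q p) Φ) :
    ∃ T : ∀ j : ℤ, E.Hgr m p (j * q) →+ B, IsVerIso R 𝒜' q (E.Hgr m p) 𝒴 T := by
  have hrep : ∀ (j : ℤ) (x : E.Hgr m p (j * q)),
      ∃ z : cyc E m q p j, E.toH m p ⟨z.1, z.2.1⟩ = (x : E.H m p) := fun j x => by
    obtain ⟨w, hw, hwx⟩ := x.2
    exact ⟨⟨w.1, w.2, hw⟩, hwx⟩
  choose s hs using hrep
  have hsame : ∀ (j : ℤ) (z w : cyc E m q p j),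
      E.toH m p ⟨z.1, z.2.1⟩ = E.toH m p ⟨w.1, w.2.1⟩ → Φ j z = Φ j w := fun j z w h => by
    have h0 : E.toH m p (⟨z.1, z.2.1⟩ - ⟨w.1, w.2.1⟩) = 0 := by rw [map_sub, h, sub_self]
    refine sub_eq_zero.1 ?_
    rw [← map_sub]
    exact (h3 j _).2 ((toH_eq_zero m).1 h0)
  refine ⟨fun j => AddMonoidHom.mk' (fun x => Φ j (s j x)) fun x y => ?_,
    ⟨fun j x hx => Subtype.ext ?_, fun j x => h1 j _, fun j y hy => ?_, fun a j k hk r hr x x' hx => ?_⟩⟩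
  · show Φ j (s j (x + y)) = Φ j (s j x) + Φ j (s j y)
    rw [← map_add]
    refine hsame j _ _ ?_
    rw [hs, AddSubgroup.coe_add, ← hs j x, ← hs j y, ← map_add]
    rfl
  · show (x : E.H m p) = 0
    rw [← hs j x]
    exact (toH_eq_zero m).2 ((h3 j _).1 hx)
  · obtain ⟨z, rfl⟩ := h2 j y hy
    exact ⟨⟨_, ⟨⟨z.1, z.2.1⟩, z.2.2, rfl⟩⟩, hsame j _ _ (hs j _)⟩
  · have hmem : algebraMap R' R r • ((s j x) : (E.X p).carrier) ∈ cyc E m q p k := by
      refine ⟨Submodule.smul_mem _ _ (s j x).2.1, ?_⟩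
      have h := GrLib.smul_mem (ℳ := (E.X p).gr) (map_mem hV hr) (s j x).2.2
      rwa [← add_mul, hk] at h
    show Φ k (s k x') = r • Φ j (s j x)
    rw [← h4 a j k hk r hr (s j x) ⟨_, hmem⟩ rfl]
    refine hsame k _ _ ?_
    rw [hs, hx, ← hs j x, ← map_smul]
    rfl

end main

/-- Local cohomology of a Veronese part in all degrees at once. -/
theorem exists_verIso {M : Type u} [AddCommGroup M] [Module R M] {ℳ : ℤ → AddSubgroup M} [Decomposition ℳ]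
    [SetLike.GradedSMul 𝒜 ℳ] [Module R' M] [IsScalarTower R' R M] (E : GrLC.StarInjRes 𝒜 ℳ)
    {M' : Type u} [AddCommGroup M'] [Module R' M'] {ℳ' : ℤ → AddSubgroup M'} [Decomposition ℳ']
    [SetLike.GradedSMul 𝒜' ℳ'] (g : M' →ₗ[R'] M) (hg : Function.Injective g)
    (hdeg : ∀ j : ℤ, (ℳ' j).map g.toAddMonoidHom = ℳ (j * q)) (F : GrLC.StarInjRes 𝒜' ℳ')
    {m : HomogeneousIdeal 𝒜} {m' : HomogeneousIdeal 𝒜'} (hle : (extIdeal hV m').toIdeal ≤ m.toIdeal) {N : ℕ}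
    (hpow : m.toIdeal ^ N ≤ (extIdeal hV m').toIdeal) (p : ℕ) :
    ∃ T : ∀ j : ℤ, E.Hgr m p (j * q) →+ F.H m' p, IsVerIso R 𝒜' q (E.Hgr m p) (F.Hgr m' p) T := by
  letI : ∀ n, Module R' (E.X n).carrier := fun n => Module.compHom _ (algebraMap R' R)
  haveI : ∀ n, IsScalarTower R' R (E.X n).carrier := fun n => IsScalarTower.of_algebraMap_smul fun _ _ => rfl
  letI := subDecomp (E.X 0).gr (isHomogeneous_ker (E.d_grHom 0))
  letI := verDecomp hV (subGr (E.X 0).gr (Z E 0))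
  letI := verDecomp hV ℳ
  let η : M →ₗ[R] Z E 0 := E.ε.codRestrict (Z E 0) fun x => LinearMap.mem_ker.2 (d_comp_ε E x)
  have hη : GrLC.IsGrHom ℳ (subGr (E.X 0).gr (Z E 0)) η := fun c x hx => E.ε_grHom c x hx
  have hηb : Function.Bijective η := ⟨fun x y h => E.ε_injective (congrArg Subtype.val h :), fun z => by
    obtain ⟨x, hx⟩ := exists_ε_eq E (LinearMap.mem_ker.1 z.2)
    exact ⟨x, Subtype.ext hx⟩⟩
  let e₂ := LinearEquiv.ofBijective (verMap hV η hη)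
    ⟨verMap_injective hV η hη hηb.1, verMap_surjective hV η hη hηb.2⟩
  obtain ⟨e₁, he₁, -⟩ := exists_equiv_ver hV g hg hdeg
  let e : M' ≃ₗ[R'] ver hV (subGr (E.X 0).gr (Z E 0)) := e₁.trans e₂
  have he : GrLC.IsGrHom ℳ' (verGr hV (subGr (E.X 0).gr (Z E 0))) e.toLinearMap := fun c x hx =>
    verMap_grHom hV η hη c _ (he₁ c x hx)
  let G := starRes 𝒜' (verGr hV (subGr (E.X 0).gr (Z E 0)))
  obtain ⟨Θ, hΘ, hΘs, hΘk, hΘr⟩ : ∃ Θ : ∀ j : ℤ, cyc E m q p j →+ G.H m' p, (∀ j z, Θ j z ∈ G.Hgr m' p j) ∧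
      (∀ j, ∀ y ∈ G.Hgr m' p j, ∃ z, Θ j z = y) ∧
      (∀ j z, Θ j z = 0 ↔ (z : (E.X p).carrier) ∈ E.cobdy m p) ∧ IsCompat (R := R) 𝒜' (cyc E m q p) Θ := by
    rcases Nat.eq_zero_or_pos p with rfl | hp
    · exact hasThetaAll_zero hV E hle hpow G
    · exact hasThetaAll_pos hV E hle hpow p hp 0 p (zero_add p) G
  have hes : GrLC.IsGrHom (verGr hV (subGr (E.X 0).gr (Z E 0))) ℳ' e.symm.toLinearMap := fun k y hy => by
    have h2 := proj_map (𝒩 := verGr hV (subGr (E.X 0).gr (Z E 0))) he k (e.symm y)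
    rw [LinearEquiv.coe_coe, e.apply_symm_apply, proj_of_mem hy] at h2
    have h3 := congrArg e.symm h2
    rw [e.symm_apply_apply] at h3
    show e.symm y ∈ ℳ' k
    rw [h3]
    exact proj_mem ℳ' _ _
  let T := mapH G F m' (grHomDeg_zero_iff.2 hes) p
  let T' := mapH F G m' (grHomDeg_zero_iff.2 he) p
  have hTT' : ∀ y, T (T' y) = y := fun y => mapH_symm_mapH m' e he hes F G p y
  have hT'T : ∀ y, T' (T y) = y := fun y => mapH_symm_mapH m' e.symm hes he G F p y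
  have hT : ∀ j, ∀ y ∈ G.Hgr m' p j, T y ∈ F.Hgr m' p j := fun j y hy => by
    simpa using mapH_grHomDeg m' (grHomDeg_zero_iff.2 hes) p (E := G) (F := F) j y hy
  have hT' : ∀ j, ∀ y ∈ F.Hgr m' p j, T' y ∈ G.Hgr m' p j := fun j y hy => by
    simpa using mapH_grHomDeg m' (grHomDeg_zero_iff.2 he) p (E := F) (F := G) j y hy
  obtain ⟨Φ, h1, h2, h3, h4⟩ := compat_step hV (G.Hgr m' p) (F.Hgr m' p) (fun a => a ∈ E.cobdy m p) T Θ
    hT (fun j y hy => ⟨T' y, hT' j y hy, hTT' y⟩) (Function.LeftInverse.injective hT'T) hΘ hΘs hΘk hΘr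
  exact exists_verIso_of_compat hV E (F.Hgr m' p) Φ h1 h2 h3 h4

end Groth.Agent.CAlgH3.GrVeroneseIso
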