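import Groth.Agent.CAlgH3.GrVeronese
import Mathlib

/-!
The ranks of the pieces of local cohomology of Veronese parts.
-/

set_option autoImplicit false

universe u

open DirectSum Groth.Agent.GrLib

namespace Groth.Agent.CAlgH3.GrVeronese

variable {R : Type u} [CommRing R] {𝒜 : ℤ → AddSubgroup R} [GradedRing 𝒜] {R' : Type u} [CommRing R']
  {𝒜' : ℤ → AddSubgroup R'} [GradedRing 𝒜'] [Algebra R' R] {q : ℕ} (hV : IsVer 𝒜 𝒜' q)
  {M : Type u} [AddCommGroup M] [Module R M] {ℳ : ℤ → AddSubgroup M} [Decomposition ℳ] [SetLike.GradedSMul 𝒜 ℳ]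

section equiv

variable [Module R' M] [IsScalarTower R' R M] {M' : Type u} [AddCommGroup M'] [Module R' M']
  {ℳ' : ℤ → AddSubgroup M'} [Decomposition ℳ'] [SetLike.GradedSMul 𝒜' ℳ']

include hV in
/-- A module with a Veronese embedding is the Veronese part. -/
theorem exists_equiv_ver (g : M' →ₗ[R'] M) (hg : Function.Injective g)
    (hdeg : ∀ j : ℤ, (ℳ' j).map g.toAddMonoidHom = ℳ (j * q)) :
    ∃ e : M' ≃ₗ[R'] ver hV ℳ, GrLC.IsGrHom ℳ' (verGr hV ℳ) e.toLinearMap ∧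
      GrLC.IsGrHom (verGr hV ℳ) ℳ' e.symm.toLinearMap := by
  have hmem : ∀ x, g x ∈ ver hV ℳ := fun x => induction ℳ' (motive := fun x => g x ∈ ver hV ℳ)
    (by rw [map_zero]; exact zero_mem _) (fun j y hy => mem_ver_of_mem hV ℳ ((hdeg j).le ⟨y, hy, rfl⟩))
    (fun y z hy hz => by rw [map_add]; exact add_mem hy hz) x
  let f := g.codRestrict (ver hV ℳ) hmem
  have hfg : GrLC.IsGrHom ℳ' (verGr hV ℳ) f := fun j y hy => (hdeg j).le ⟨y, hy, rfl⟩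
  have hbij : Function.Bijective f := ⟨fun x y h => hg (congrArg Subtype.val h :), fun z => by
    refine AddSubgroup.iSup_induction (verGr hV ℳ) (C := fun z => ∃ x, f x = z) (mem_iSup_verGr hV _ z)
      (fun j y hy => ?_) ⟨0, map_zero f⟩ ?_
    · obtain ⟨x, -, hx⟩ := (hdeg j).ge hy
      exact ⟨x, Subtype.ext hx⟩
    · rintro a b ⟨x, rfl⟩ ⟨y, rfl⟩
      exact ⟨x + y, map_add f x y⟩⟩
  refine ⟨LinearEquiv.ofBijective f hbij, hfg, fun j y hy => ?_⟩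
  obtain ⟨x, hx, hxy⟩ := (hdeg j).ge hy
  rw [show y = LinearEquiv.ofBijective f hbij x from Subtype.ext hxy.symm, LinearEquiv.coe_coe,
    LinearEquiv.symm_apply_apply]
  exact hx

end equiv

section zero

variable [IsNoetherianRing R] [IsNoetherianRing R'] [Module R' M] [IsScalarTower R' R M]
  [Decomposition (verGr hV ℳ)] {m : HomogeneousIdeal 𝒜} {m' : HomogeneousIdeal 𝒜'}
  (hle : (extIdeal hV m').toIdeal ≤ m.toIdeal) {N : ℕ} (hpow : m.toIdeal ^ N ≤ (extIdeal hV m').toIdeal) (j : ℤ)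

include hle hpow in
theorem exists_theta_zero (G : GrLC.StarInjRes 𝒜' (verGr hV ℳ)) :
    ∃ Θ : gamPiece m ℳ q j →+ G.H m' 0, (∀ z, Θ z ∈ G.Hgr m' 0 j) ∧ (∀ y ∈ G.Hgr m' 0 j, ∃ z, Θ z = y) ∧
      (∀ z, Θ z = 0 ↔ z = 0) ∧
      ∀ (r : R') (z z' : gamPiece m ℳ q j), (z' : M) = r • (z : M) → Θ z' = r • Θ z := by
  obtain ⟨h1, h2, h3, h4⟩ := theta0_props hV hle hpow j G
  exact ⟨theta0 hV hle hpow j G, h1, h2, fun z => ⟨h3 z, fun h => by rw [h, map_zero]⟩, h4⟩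

end zero

theorem hasTheta_zero [IsNoetherianRing R] [IsNoetherianRing R'] (E : GrLC.StarInjRes 𝒜 ℳ)
    [∀ n, Module R' (E.X n).carrier] [∀ n, IsScalarTower R' R (E.X n).carrier]
    {m : HomogeneousIdeal 𝒜} {m' : HomogeneousIdeal 𝒜'} (hle : (extIdeal hV m').toIdeal ≤ m.toIdeal) {N : ℕ}
    (hpow : m.toIdeal ^ N ≤ (extIdeal hV m').toIdeal) (j : ℤ) :
    HasTheta (m := m) (m' := m') hV E 0 0 0 j := by
  letI := subDecomp (E.X 0).gr (isHomogeneous_ker (E.d_grHom 0))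
  letI := verDecomp hV (subGr (E.X 0).gr (Z E 0))
  intro G
  obtain ⟨Θ₀, h1, h2, h3, h4⟩ := exists_theta_zero hV (ℳ := subGr (E.X 0).gr (Z E 0)) hle hpow j G
  refine ⟨Θ₀.comp (cycToPiece E m q 0 j), fun z => h1 _, fun y hy => ?_, fun z => ?_,
    fun r z z' hz => h4 r _ _ (Subtype.ext hz)⟩
  · obtain ⟨w, hw⟩ := h2 y hy
    obtain ⟨z, hz⟩ := cycToPiece_surj E (m := m) (q := q) 0 j w
    exact ⟨z, (congrArg Θ₀ hz).trans hw⟩
  · refine (h3 _).trans ⟨fun h => ?_, fun h => ?_⟩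
    · exact (Submodule.mem_bot R).2
        (congrArg (fun t : gamPiece m (subGr (E.X 0).gr (Z E 0)) q j => (t.1 : (E.X 0).carrier)) h)
    · exact Subtype.ext (Subtype.ext ((Submodule.mem_bot R).1 h))

theorem mapH_symm_mapH {S : Type u} [CommRing S] {ℬ : ℤ → AddSubgroup S} [GradedRing ℬ] (a : HomogeneousIdeal ℬ)
    {X : Type u} [AddCommGroup X] [Module S X] {𝒳 : ℤ → AddSubgroup X} [Decomposition 𝒳] [SetLike.GradedSMul ℬ 𝒳]
    {Y : Type u} [AddCommGroup Y] [Module S Y] {𝒴 : ℤ → AddSubgroup Y} [Decomposition 𝒴] [SetLike.GradedSMul ℬ 𝒴]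
    (e : X ≃ₗ[S] Y) (he : GrLC.IsGrHom 𝒳 𝒴 e.toLinearMap) (hes : GrLC.IsGrHom 𝒴 𝒳 e.symm.toLinearMap)
    (F : GrLC.StarInjRes ℬ 𝒳) (G : GrLC.StarInjRes ℬ 𝒴) (p : ℕ) (y : F.H a p) :
    mapH G F a (grHomDeg_zero_iff.2 hes) p (mapH F G a (grHomDeg_zero_iff.2 he) p y) = y := by
  have hid : GrLC.IsGrHomDeg 𝒳 𝒳 (LinearMap.id : X →ₗ[S] X) 0 := grHomDeg_zero_iff.2 fun _ _ h => h
  have h := LinearMap.congr_fun (mapH_comp (G := F) (F := G) (E := F) a (grHomDeg_zero_iff.2 he)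
    (grHomDeg_zero_iff.2 hes) (by rw [LinearEquiv.comp_coe, LinearEquiv.self_trans_symm]; simpa using hid) p) y
  rw [mapH_congr a (show e.symm.toLinearMap ∘ₗ e.toLinearMap = LinearMap.id by
    rw [LinearEquiv.comp_coe, LinearEquiv.self_trans_symm]; rfl) (add_zero 0) _ hid, mapH_id] at h
  exact h.symm

theorem finrank_congr_of_theta {A : Type u} [AddCommGroup A] [Module R A] [Module R' A] [IsScalarTower R' R A]
    {C : AddSubgroup A} (hC : ∀ r ∈ 𝒜' 0, ∀ z ∈ C, r • z ∈ C) (hV : IsVer 𝒜 𝒜' q)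
    {B : Type u} [AddCommGroup B] [Module R B] (Q : Submodule (GrLC.deg0 𝒜) B) (Ψ : C →+ B)
    (hΨ : ∀ z, Ψ z ∈ Q) (hΨs : ∀ y ∈ Q, ∃ z, Ψ z = y)
    (hΨr : ∀ (r : R) (z z' : C), (z' : A) = r • (z : A) → Ψ z' = r • Ψ z)
    {B' : Type u} [AddCommGroup B'] [Module R' B'] (Q' : Submodule (GrLC.deg0 𝒜') B') (Φ : C →+ B')
    (hΦ : ∀ z, Φ z ∈ Q') (hΦs : ∀ y ∈ Q', ∃ z, Φ z = y)
    (hΦr : ∀ (r : R') (z z' : C), (z' : A) = r • (z : A) → Φ z' = r • Φ z)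
    (hker : ∀ z, Φ z = 0 ↔ Ψ z = 0) :
    Module.finrank (GrLC.deg0 𝒜') Q' = Module.finrank (GrLC.deg0 𝒜) Q := by
  let σ : GrLC.deg0 𝒜' → GrLC.deg0 𝒜 := fun r => ⟨algebraMap R' R r, by
    have h := map_mem hV (show (r : R') ∈ 𝒜' 0 from r.2)
    rwa [zero_mul] at h⟩
  have hσ : Function.Bijective σ := ⟨fun r s h => Subtype.ext (hV.inj (congrArg Subtype.val h :)), fun r => by
    obtain ⟨r', hr', hrr⟩ := exists_of_mem hV (j := 0) (r := (r : R)) (by rw [zero_mul]; exact r.2)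
    exact ⟨⟨r', hr'⟩, Subtype.ext hrr⟩⟩
  choose s hs using fun y : Q' => hΦs y y.2
  have hsame : ∀ z w : C, Φ z = Φ w → Ψ z = Ψ w := fun z w h => sub_eq_zero.1 (by
    rw [← map_sub]; exact (hker _).1 (by rw [map_sub, h, sub_self]))
  let e : Q' →+ Q := AddMonoidHom.mk' (fun y => ⟨Ψ (s y), hΨ _⟩) fun y y' => Subtype.ext (by
    show Ψ (s (y + y')) = Ψ (s y) + Ψ (s y')
    rw [← map_add]
    exact hsame _ _ (by rw [map_add, hs, hs, hs]; rfl))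
  have hbij : Function.Bijective e := by
    refine ⟨(injective_iff_map_eq_zero _).2 fun y hy => Subtype.ext ?_, fun y => ?_⟩
    · rw [← hs y]
      exact (hker _).2 (congrArg Subtype.val hy)
    · obtain ⟨z, hz⟩ := hΨs y y.2
      exact ⟨⟨Φ z, hΦ z⟩, Subtype.ext ((hsame _ _ (hs _)).trans hz)⟩
  have hc : ∀ (r : GrLC.deg0 𝒜') (y : Q'), AddEquiv.ofBijective e hbij (r • y) =
      σ r • AddEquiv.ofBijective e hbij y := fun r y => Subtype.ext (by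
    show Ψ (s (r • y)) = algebraMap R' R (r : R') • Ψ (s y)
    let z' : C := ⟨(r : R') • (s y : A), hC r r.2 _ (s y).2⟩
    rw [← hΨr (algebraMap R' R (r : R')) (s y) z' (IsScalarTower.algebraMap_smul R (r : R') (s y : A)).symm]
    exact hsame _ _ (by rw [hs, hΦr (r : R') (s y) z' rfl, hs]; rfl))
  exact congrArg Cardinal.toNat (rank_eq_of_equiv_equiv σ (AddEquiv.ofBijective e hbij) hσ hc)

include hV in
theorem finrank_Hcomp_of_theta (E : GrLC.StarInjRes 𝒜 ℳ) [∀ n, Module R' (E.X n).carrier]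
    [∀ n, IsScalarTower R' R (E.X n).carrier] {m : HomogeneousIdeal 𝒜} (p : ℕ) (j : ℤ)
    {B' : Type u} [AddCommGroup B'] [Module R' B'] (Q' : Submodule (GrLC.deg0 𝒜') B') (Φ : cyc E m q p j →+ B')
    (h1 : ∀ z, Φ z ∈ Q') (h2 : ∀ y ∈ Q', ∃ z, Φ z = y)
    (h3 : ∀ z, Φ z = 0 ↔ (z : (E.X p).carrier) ∈ E.cobdy m p)
    (h4 : ∀ (r : R') (z z' : cyc E m q p j),
      (z' : (E.X p).carrier) = r • (z : (E.X p).carrier) → Φ z' = r • Φ z) :
    Module.finrank (GrLC.deg0 𝒜') Q' = Module.finrank (GrLC.deg0 𝒜) (E.Hcomp m p (j * q)) := by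
  let Ψ : cyc E m q p j →+ E.H m p := AddMonoidHom.mk' (fun z => E.toH m p ⟨z.1, z.2.1⟩) fun z w => rfl
  refine finrank_congr_of_theta (C := cyc E m q p j) ?_ hV (E.Hcomp m p (j * q)) Ψ
    (fun z => ⟨⟨z.1, z.2.1⟩, z.2.2, rfl⟩) (fun y hy => ?_) (fun r z z' hz => ?_) Q' Φ h1 h2 h4 fun z => ?_
  · intro r hr z hz
    rw [← IsScalarTower.algebraMap_smul R r z]
    refine ⟨Submodule.smul_mem _ _ hz.1, ?_⟩
    have := smul_mem (ℳ := (E.X p).gr) (map_mem hV hr) hz.2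
    rwa [zero_mul, zero_add] at this
  · obtain ⟨w, hw, rfl⟩ := hy
    exact ⟨⟨w.1, w.2, hw⟩, rfl⟩
  · show E.toH m p ⟨z'.1, _⟩ = r • E.toH m p ⟨z.1, _⟩
    rw [← map_smul]
    exact congrArg _ (Subtype.ext hz)
  · exact (h3 z).trans (toH_eq_zero (E := E) m (z := ⟨z.1, z.2.1⟩)).symm

include hV in
/-- The pieces of local cohomology of a Veronese part. -/
theorem finrank_Hcomp [IsNoetherianRing R] [Module R' M] [IsScalarTower R' R M] (E : GrLC.StarInjRes 𝒜 ℳ)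
    {M' : Type u} [AddCommGroup M'] [Module R' M'] {ℳ' : ℤ → AddSubgroup M'} [Decomposition ℳ']
    [SetLike.GradedSMul 𝒜' ℳ'] (g : M' →ₗ[R'] M) (hg : Function.Injective g)
    (hdeg : ∀ j : ℤ, (ℳ' j).map g.toAddMonoidHom = ℳ (j * q)) (F : GrLC.StarInjRes 𝒜' ℳ')
    {m : HomogeneousIdeal 𝒜} {m' : HomogeneousIdeal 𝒜'} (hle : (extIdeal hV m').toIdeal ≤ m.toIdeal) {N : ℕ}
    (hpow : m.toIdeal ^ N ≤ (extIdeal hV m').toIdeal) (p : ℕ) (j : ℤ) :
    Module.finrank (GrLC.deg0 𝒜') (F.Hcomp m' p j) = Module.finrank (GrLC.deg0 𝒜) (E.Hcomp m p (j * q)) := by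
  haveI := isNoetherianRing_ver hV
  letI : ∀ n, Module R' (E.X n).carrier := fun n => Module.compHom _ (algebraMap R' R)
  haveI : ∀ n, IsScalarTower R' R (E.X n).carrier := fun n => IsScalarTower.of_algebraMap_smul fun _ _ => rfl
  letI := subDecomp (E.X 0).gr (isHomogeneous_ker (E.d_grHom 0))
  letI := verDecomp hV (subGr (E.X 0).gr (Z E 0))
  letI := verDecomp hV ℳ
  let η : M →ₗ[R] Z E 0 := E.ε.codRestrict (Z E 0) fun x => LinearMap.mem_ker.2 (d_comp_ε E x)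
  have hη : GrLC.IsGrHom ℳ (subGr (E.X 0).gr (Z E 0)) η := fun c x hx => E.ε_grHom c x hx
  have hηb : Function.Bijective η := ⟨fun x y h => E.ε_injective (congrArg Subtype.val h :), fun z => by
    obtain ⟨x, hx⟩ := exists_ε_eq E (LinearMap.mem_ker.1 z.2)
    exact ⟨x, Subtype.ext hx⟩⟩
  let e₂ := LinearEquiv.ofBijective (verMap hV η hη)
    ⟨verMap_injective hV η hη hηb.1, verMap_surjective hV η hη hηb.2⟩
  obtain ⟨e₁, he₁, he₁'⟩ := exists_equiv_ver hV g hg hdeg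
  let e : M' ≃ₗ[R'] ver hV (subGr (E.X 0).gr (Z E 0)) := e₁.trans e₂
  have he : GrLC.IsGrHom ℳ' (verGr hV (subGr (E.X 0).gr (Z E 0))) e.toLinearMap := fun c x hx =>
    verMap_grHom hV η hη c _ (he₁ c x hx)
  let G := starRes 𝒜' (verGr hV (subGr (E.X 0).gr (Z E 0)))
  obtain ⟨Θ, hΘ, hΘs, hΘk, hΘr⟩ : ∃ Θ : cyc E m q p j →+ G.H m' p, (∀ z, Θ z ∈ G.Hgr m' p j) ∧
      (∀ y ∈ G.Hgr m' p j, ∃ z, Θ z = y) ∧ (∀ z, Θ z = 0 ↔ (z : (E.X p).carrier) ∈ E.cobdy m p) ∧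
      ∀ (r : R') (z z' : cyc E m q p j),
        (z' : (E.X p).carrier) = r • (z : (E.X p).carrier) → Θ z' = r • Θ z := by
    rcases Nat.eq_zero_or_pos p with rfl | hp
    · exact hasTheta_zero hV E hle hpow j G
    · exact exists_theta hV E hle hpow p hp 0 p (zero_add p) j G
  have hes : GrLC.IsGrHom (verGr hV (subGr (E.X 0).gr (Z E 0))) ℳ' e.symm.toLinearMap := fun k y hy => by
    have h2 := proj_map (𝒩 := verGr hV (subGr (E.X 0).gr (Z E 0))) he k (e.symm y)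
    rw [LinearEquiv.coe_coe, e.apply_symm_apply, proj_of_mem hy] at h2
    have h3 := congrArg e.symm h2
    rw [e.symm_apply_apply] at h3
    show e.symm y ∈ ℳ' k
    rw [h3]
    exact proj_mem ℳ' _ _
  let T := mapH G F m' (grHomDeg_zero_iff.2 hes) p
  let T' := mapH F G m' (grHomDeg_zero_iff.2 he) p
  have hTT' : ∀ y, T (T' y) = y := fun y => mapH_symm_mapH m' e he hes F G p y
  have hT'T : ∀ y, T' (T y) = y := fun y => mapH_symm_mapH m' e.symm hes he G F p y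
  have hT : ∀ y ∈ G.Hgr m' p j, T y ∈ F.Hgr m' p j := fun y hy => by
    simpa using mapH_grHomDeg m' (grHomDeg_zero_iff.2 hes) p (E := G) (F := F) j y hy
  have hT' : ∀ y ∈ F.Hgr m' p j, T' y ∈ G.Hgr m' p j := fun y hy => by
    simpa using mapH_grHomDeg m' (grHomDeg_zero_iff.2 he) p (E := F) (F := G) j y hy
  obtain ⟨Φ, h1, h2, h3, h4⟩ := comp_theta (G.Hgr m' p j) (F.Hgr m' p j) (fun a => a ∈ E.cobdy m p) T Θ
    hT (fun y hy => ⟨T' y, hT' y hy, hTT' y⟩) (Function.LeftInverse.injective hT'T) hΘ hΘs hΘk hΘr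
  exact finrank_Hcomp_of_theta hV E p j (F.Hcomp m' p j) Φ h1 h2 h3 h4

end Groth.Agent.CAlgH3.GrVeronese
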