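import Groth.Agent.CAlgH3.GrVeroneseGor
import Groth.Agent.GrLib.Positive
import Groth.Agent.CAlgH3.GrEndDeg
import Mathlib

/-!
The theorems of Goto and Watanabe on Veronese subrings of Gorenstein rings.
-/

set_option autoImplicit false
set_option linter.unusedSectionVars false
set_option linter.style.haveILetI false

universe u

open DirectSum Groth.Agent.GrLib IsLocalRing
open scoped Pointwise

namespace Groth.Agent.CAlgH3.GrVeroneseThms

open GrDualAt GrVeronese GrVeroneseIso GrVerDual GrVeroneseGor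

variable {R : Type u} [CommRing R] {𝒜 : ℤ → AddSubgroup R} [GradedRing 𝒜]

theorem cm_of_gorenstein [_root_.LocCoh.IsGorensteinRing R] : _root_.LocCoh.IsCohenMacaulayRing R :=
  { (inferInstance : IsNoetherianRing R) with
    isCohenMacaulayLocalRing_localization := fun p _ => by
      haveI := _root_.LocCoh.IsGorensteinRing.isGorensteinLocalRing_localization (A := R) p
      exact LocCoh.isCohenMacaulayLocalRing_of_gorenstein }

theorem nontrivial_of_dim {n : ℕ} (hn : ringKrullDim R = n) : Nontrivial R := by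
  by_contra h
  rw [not_nontrivial_iff_subsingleton] at h
  rw [ringKrullDim_eq_bot_of_subsingleton] at hn
  exact WithBot.bot_ne_coe hn

variable {m : HomogeneousIdeal 𝒜}

/-- Vanishing below the dimension for a Cohen–Macaulay ring. -/
theorem Hgr_low [_root_.LocCoh.IsCohenMacaulayRing R] (hpos : ∀ k : ℤ, k < 0 → 𝒜 k = ⊥) (hm : GrLC.IsStarLocal 𝒜 m)
    {n : ℕ} (hn : ringKrullDim R = n) (I : GrLC.StarInjRes 𝒜 𝒜) (i : ℕ) (hi : i < n) (g : ℤ) :
    I.Hgr m i g = ⊥ := by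
  have hpos' : ∀ k : ℤ, k < 0 → ∀ x ∈ 𝒜 k, x = 0 := fun k hk x hx => by rw [hpos k hk] at hx; exact hx
  haveI := isMaximal_starMaximal hpos' hm
  haveI := GrEndDeg.subsingleton_H_low m
    (WithBot.coe_inj.1 ((ringKrullDim_eq_height_starMaximal hpos' hm).symm.trans hn)) I i hi
  exact (AddSubgroup.eq_bot_iff_forall _).2 fun x _ => Subsingleton.elim _ _

/-- In positive dimension a Cohen–Macaulay ring has no torsion at the *maximal ideal. -/
theorem gam_eq_bot [_root_.LocCoh.IsCohenMacaulayRing R] (hpos : ∀ k : ℤ, k < 0 → 𝒜 k = ⊥)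
    (hm : GrLC.IsStarLocal 𝒜 m) {n : ℕ} (hn : ringKrullDim R = n) (h1 : 1 ≤ n) :
    GrLC.gam m.toIdeal R = ⊥ := by
  have hpos' : ∀ k : ℤ, k < 0 → ∀ x ∈ 𝒜 k, x = 0 := fun k hk x hx => by rw [hpos k hk] at hx; exact hx
  haveI := isMaximal_starMaximal hpos' hm
  let I := starRes 𝒜 𝒜
  haveI := GrEndDeg.subsingleton_H_low m
    (WithBot.coe_inj.1 ((ringKrullDim_eq_height_starMaximal hpos' hm).symm.trans hn)) I 0 h1
  refine eq_bot_iff.2 fun x hx => (Submodule.mem_bot R).2 ?_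
  exact congrArg Subtype.val (h0cls_eq_zero I m (x := ⟨x, hx⟩) (Subsingleton.elim _ _))

theorem pow_irr_le (k : ℕ) :
    Ideal.span ((𝒜 1 : AddSubgroup R) : Set R) ^ k ≤ Ideal.span ((𝒜 (k : ℤ) : AddSubgroup R) : Set R) := by
  induction k with
  | zero =>
    rw [Nat.cast_zero, (Ideal.eq_top_iff_one (Ideal.span ((𝒜 0 : AddSubgroup R) : Set R))).2
      (Ideal.subset_span (show (1 : R) ∈ _ from SetLike.one_mem_graded 𝒜))]
    exact le_top
  | succ k ih =>
    rw [pow_succ]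
    refine (Ideal.mul_mono ih le_rfl).trans ?_
    rw [Ideal.span_mul_span', Ideal.span_le]
    rintro _ ⟨a, ha, c, hc, rfl⟩
    refine Ideal.subset_span ?_
    have := GrLib.smul_mem (ℳ := 𝒜) ha hc
    push_cast
    exact this

/-- An element killed by all forms of one degree is torsion. -/
theorem mem_gam_of_piece (hmsp : m.toIdeal = Ideal.span (⋃ k ∈ Set.Ioi (0 : ℤ), (𝒜 k : Set R)))
    (hstd : Ideal.span (⋃ k ∈ Set.Ioi (0 : ℤ), (𝒜 k : Set R)) = Ideal.span ((𝒜 1 : AddSubgroup R) : Set R))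
    {k : ℕ} {x : R} (hx : ∀ v ∈ 𝒜 (k : ℤ), v * x = 0) : x ∈ GrLC.gam m.toIdeal R := by
  refine ⟨k, fun r hr => ?_⟩
  rw [hmsp, hstd] at hr
  have hle : Ideal.span ((𝒜 (k : ℤ) : AddSubgroup R) : Set R) ≤ (Submodule.span R {x}).annihilator := by
    rw [Ideal.span_le]
    exact fun v hv => (Submodule.mem_annihilator_span_singleton _ _).2 (hx v hv)
  exact (Submodule.mem_annihilator_span_singleton _ _).1 (hle (pow_irr_le k hr))

/-- A standard graded ring of positive depth with two linear forms has two forms in every positive degree. -/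
theorem finrank_ne_one [IsNoetherianRing R]
    (hmsp : m.toIdeal = Ideal.span (⋃ k ∈ Set.Ioi (0 : ℤ), (𝒜 k : Set R)))
    (hstd : Ideal.span (⋃ k ∈ Set.Ioi (0 : ℤ), (𝒜 k : Set R)) = Ideal.span ((𝒜 1 : AddSubgroup R) : Set R))
    (h0 : IsField (GrLC.deg0 𝒜)) (hgam : GrLC.gam m.toIdeal R = ⊥)
    (hR1 : 2 ≤ Module.finrank (GrLC.deg0 𝒜) (GrLC.comp 𝒜 𝒜 1)) {ρ : ℤ} (hρ : 0 < ρ) :
    Module.finrank (GrLC.deg0 𝒜) (GrLC.comp 𝒜 𝒜 ρ) ≠ 1 := by
  letI := h0.toField
  intro hrk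
  obtain ⟨⟨v₀, hv₀⟩, hv₀0, hgen⟩ := finrank_eq_one_iff'.1 hrk
  obtain ⟨l, hl, w, hw, hlw⟩ : ∃ l ∈ 𝒜 1, ∃ w ∈ 𝒜 (ρ - 1), w * l ≠ 0 := by
    by_contra! hno
    have key : ∀ z ∈ Ideal.span ((𝒜 1 : AddSubgroup R) : Set R), ∀ s : R, proj 𝒜 ρ (s * z) = 0 := by
      intro z hz
      induction hz using Submodule.span_induction with
      | mem l hl =>
        intro s
        rw [mul_comm, ← smul_eq_mul, proj_smul' (ℳ := 𝒜) hl, smul_eq_mul, mul_comm]
        exact hno l hl _ (proj_mem 𝒜 _ s)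
      | zero => intro s; rw [mul_zero, map_zero]
      | add y z _ _ hy hz => intro s; rw [mul_add, map_add, hy, hz, add_zero]
      | smul c y _ hy => intro s; rw [smul_eq_mul, ← mul_assoc]; exact hy _
    have := key v₀ (hstd ▸ Ideal.subset_span (Set.mem_iUnion₂.2 ⟨ρ, hρ, hv₀⟩)) 1
    rw [one_mul, proj_of_mem (show v₀ ∈ 𝒜 ρ from hv₀)] at this
    exact hv₀0 (Subtype.ext this)
  have hwl : w * l ∈ 𝒜 ρ := by
    have := GrLib.smul_mem (ℳ := 𝒜) hw hl
    rwa [sub_add_cancel] at this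
  obtain ⟨c, hc⟩ := hgen ⟨w * l, hwl⟩
  have hc' : (c : R) * v₀ = w * l := congrArg Subtype.val hc
  have hc0 : c ≠ 0 := fun h => hlw (by rw [← hc', h]; exact zero_mul _)
  have hreg : ∀ x, w * x = 0 → x = 0 := by
    intro x hx
    have hx' : x ∈ GrLC.gam m.toIdeal R := by
      refine mem_gam_of_piece hmsp hstd (k := ρ.toNat) fun v hv => ?_
      rw [Int.toNat_of_nonneg hρ.le] at hv
      obtain ⟨e, he⟩ := hgen ⟨v, hv⟩
      have he' : (e : R) * v₀ = v := congrArg Subtype.val he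
      obtain ⟨⟨i, hi⟩, hci⟩ := h0.mul_inv_cancel hc0
      have hci' : (c : R) * i = 1 := congrArg Subtype.val hci
      calc v * x = (e : R) * i * ((c : R) * v₀) * x := by
            rw [← he']
            linear_combination (-((e : R) * v₀ * x)) * hci'
        _ = (e : R) * i * l * (w * x) := by rw [hc']; ring
        _ = 0 := by rw [hx, mul_zero]
    rwa [hgam, Submodule.mem_bot] at hx'
  let μ : GrLC.comp 𝒜 𝒜 1 →ₗ[GrLC.deg0 𝒜] GrLC.comp 𝒜 𝒜 ρ :=
    { toFun := fun r => ⟨w * (r : R), by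
        have := GrLib.smul_mem (ℳ := 𝒜) hw (show (r : R) ∈ 𝒜 1 from r.2)
        rwa [sub_add_cancel] at this⟩
      map_add' := fun r r' => Subtype.ext (mul_add w (r : R) r')
      map_smul' := fun e r => Subtype.ext (mul_left_comm w (e : R) r) }
  have hμ : Function.Injective μ := (injective_iff_map_eq_zero _).2 fun r hr =>
    Subtype.ext (hreg _ (congrArg Subtype.val hr))
  haveI : Module.Finite (GrLC.deg0 𝒜) (GrLC.comp 𝒜 𝒜 ρ) := Module.finite_of_finrank_eq_succ hrk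
  have := LinearMap.finrank_le_finrank_of_injective hμ
  omega

/-- A positively graded Cohen–Macaulay ring is Gorenstein when its top local cohomology is dual to it. -/
theorem gorenstein_of_isDualAt [_root_.LocCoh.IsCohenMacaulayRing R] (hpos : ∀ k : ℤ, k < 0 → 𝒜 k = ⊥)
    (h0 : IsField (GrLC.deg0 𝒜)) (hm : GrLC.IsStarLocal 𝒜 m)
    (hmsp : m.toIdeal = Ideal.span (⋃ k ∈ Set.Ioi (0 : ℤ), (𝒜 k : Set R)))
    {n : ℕ} (hn : ringKrullDim R = n) (I : GrLC.StarInjRes 𝒜 𝒜) {b : ℤ} (hD : IsDualAt 𝒜 (I.Hgr m n) b) :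
    _root_.LocCoh.IsGorensteinRing R := by
  have hpos' : ∀ k : ℤ, k < 0 → ∀ x ∈ 𝒜 k, x = 0 := fun k hk x hx => by rw [hpos k hk] at hx; exact hx
  haveI := isMaximal_starMaximal hpos' hm
  haveI := _root_.LocCoh.IsCohenMacaulayRing.isCohenMacaulayLocalRing_localization (R := R) m.toIdeal
  have hd : ringKrullDim (Localization.AtPrime m.toIdeal) = n := by
    rw [IsLocalization.AtPrime.ringKrullDim_eq_height m.toIdeal, ← ringKrullDim_eq_height_starMaximal hpos' hm, hn]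
  obtain ⟨-, h2⟩ := GrTopSocle.bassNum_eq_length_socle m.toIdeal hd
  refine GrCanonApps.isGorensteinRing_of_localized hm (h2 ?_)
  rw [GrTopSocle.length_socle_H_congr m I n]
  letI := h0.toField
  letI := Hdecomp I m n
  have h1 := finrank_line (𝒳 := I.Hgr m n) h0 hD.gen
  haveI : Module.Finite (GrLC.deg0 𝒜) (GrLC.comp 𝒜 (I.Hgr m n) b) := Module.finite_of_finrank_eq_succ h1
  refine (GrTopSocle.length_socle_eq_finrank (𝒳 := I.Hgr m n) (m := m) hpos h0
    (fun k hk r hr => mem_of_pos hmsp hk hr) (c := b) (fun d hd y hy hy0 => ?_) fun y hy r hr => ?_).trans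
      (by rw [h1]; rfl)
  · obtain ⟨r, hr, hry⟩ := hD.ess d y hy hy0
    have := hD.le hpos hy hy0
    exact ⟨r, mem_of_pos hmsp (by omega) hr, hry⟩
  · rw [hmsp] at hr
    induction hr using Submodule.span_induction with
    | mem l hl =>
      obtain ⟨k, hk, hl⟩ := Set.mem_iUnion₂.1 hl
      simp only [Set.mem_Ioi] at hk
      by_contra hne
      have := hD.le hpos (GrLib.smul_mem (ℳ := I.Hgr m n) hl hy) hne
      omega
    | zero => exact zero_smul _ _
    | add u v _ _ hu hv => rw [add_smul, hu, hv, add_zero]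
    | smul e u _ hu => rw [smul_eq_mul, mul_smul, hu, smul_zero]

/-- A homogeneous regular pair in large degrees dividing the top local cohomology. -/
theorem exists_regular_pair [_root_.LocCoh.IsCohenMacaulayRing R] (hpos : ∀ k : ℤ, k < 0 → 𝒜 k = ⊥)
    (hm : GrLC.IsStarLocal 𝒜 m) (hmsp : m.toIdeal = Ideal.span (⋃ k ∈ Set.Ioi (0 : ℤ), (𝒜 k : Set R)))
    {n : ℕ} (hn : ringKrullDim R = n) (h2 : 2 ≤ n) (I : GrLC.StarInjRes 𝒜 𝒜) {q : ℕ} (hq : 0 < q) :
    ∃ (df dg : ℤ) (f g : R), (q : ℤ) ≤ df ∧ (q : ℤ) ≤ dg ∧ f ∈ 𝒜 df ∧ g ∈ 𝒜 dg ∧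
      (∀ r, g * r ∈ Ideal.span ({f} : Set R) → r ∈ Ideal.span ({f} : Set R)) ∧
      ∀ d, ∀ h ∈ I.Hgr m n d, ∃ y ∈ I.Hgr m n (d - df), f • y = h := by
  have hpos' : ∀ k : ℤ, k < 0 → ∀ x ∈ 𝒜 k, x = 0 := fun k hk x hx => by rw [hpos k hk] at hx; exact hx
  haveI := isMaximal_starMaximal hpos' hm
  have hh := WithBot.coe_inj.1 ((ringKrullDim_eq_height_starMaximal hpos' hm).symm.trans hn)
  obtain ⟨d₁, hd₁, x, hx, hxreg⟩ := exists_regular_hom (ℳ := 𝒜) hpos' m hmsp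
    (gam_eq_bot hpos hm hn (by omega))
  let f := x ^ q
  have hdeg : ∀ {d : ℤ}, 0 < d → (q : ℤ) ≤ d * q := fun {d} hd => by nlinarith
  have hf : f ∈ 𝒜 (d₁ * q) := by
    have := SetLike.pow_mem_graded q hx
    rwa [nsmul_eq_mul, mul_comm] at this
  have hfm : f ∈ m.toIdeal := mem_of_pos hmsp (mul_pos hd₁ (by exact_mod_cast hq)) hf
  have hfreg : IsSMulRegular R f := hxreg.pow q
  let P : Submodule R R := Ideal.span {f}
  have hP : P.IsHomogeneous 𝒜 := isHomogeneous_span 𝒜 fun v hv => ⟨_, (Set.mem_singleton_iff.1 hv) ▸ hf⟩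
  letI := qDecomp 𝒜 hP
  let F := starRes 𝒜 (qGr 𝒜 P)
  have hker : LinearMap.ker P.mkQ = f • (⊤ : Submodule R R) := by
    rw [Submodule.ker_mkQ]
    exact (Submodule.ideal_span_singleton_smul f (⊤ : Submodule R R) ▸ (Ideal.mul_top _).symm)
  haveI h0 : Subsingleton (F.H m 0) := GrEndDeg.subsingleton_quot m hf hfreg P.mkQ_surjective (mkQ_grHom (ℳ := 𝒜) P) hker I F 0
    (GrEndDeg.subsingleton_H_low m hh I 0 (by omega)) (GrEndDeg.subsingleton_H_low m hh I 1 (by omega))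
  have hgam : GrLC.gam m.toIdeal (R ⧸ P) = ⊥ := eq_bot_iff.2 fun y hy => (Submodule.mem_bot R).2
    (congrArg Subtype.val (h0cls_eq_zero F m (x := ⟨y, hy⟩) (Subsingleton.elim _ _)))
  obtain ⟨d₂, hd₂, y, hy, hyreg⟩ := exists_regular_hom (ℳ := qGr 𝒜 P) hpos' m hmsp hgam
  have hg : y ^ q ∈ 𝒜 (d₂ * q) := by
    have := SetLike.pow_mem_graded q hy
    rwa [nsmul_eq_mul, mul_comm] at this
  refine ⟨d₁ * q, d₂ * q, f, y ^ q, hdeg hd₁, hdeg hd₂, hf, hg, fun r hr => ?_, fun d h hh' => ?_⟩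
  · refine (Submodule.Quotient.mk_eq_zero P).1 (hyreg.pow q ?_)
    show y ^ q • Submodule.Quotient.mk r = y ^ q • (0 : R ⧸ P)
    rw [smul_zero, ← Submodule.Quotient.mk_smul]
    exact (Submodule.Quotient.mk_eq_zero P).2 hr
  · haveI : Subsingleton (F.H m n) := by
      obtain ⟨e⟩ := nonempty_H_equiv F m n
      haveI : Subsingleton (_root_.LocCoh.H m.toIdeal n (R ⧸ P)) := LocCoh.subsingleton_H_of_supportDim_lt (by
        rw [Module.supportDim_quotient_eq_ringKrullDim]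
        have hle := ringKrullDim_quotient_succ_le_of_nonZeroDivisor (R := R) (r := f)
          (mem_nonZeroDivisors_iff_right.2 fun z hz => hfreg (show f • z = f • (0 : R) by
            rw [smul_eq_mul, smul_zero, mul_comm]; exact hz))
        rw [hn] at hle
        obtain ⟨k, hk⟩ : ∃ k : ℕ, n = k + 1 := ⟨n - 1, by omega⟩
        subst hk
        have hne : ringKrullDim (R ⧸ P) ≤ (k : ℕ) := by
          change ringKrullDim (R ⧸ P) + 1 ≤ _ at hle
          revert hle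
          generalize ringKrullDim (R ⧸ P) = z
          intro hle
          induction z with
          | bot => exact bot_le
          | coe z =>
            have h1 : z + 1 ≤ (k : ℕ∞) + 1 := WithBot.coe_le_coe.1 (hle.trans_eq (by push_cast; rfl))
            exact WithBot.coe_le_coe.2 ((WithTop.add_le_add_iff_right ENat.one_ne_top).1 h1)
        exact hne.trans_lt (by exact_mod_cast Nat.lt_succ_self k))
      exact e.toEquiv.subsingleton
    have hex : Function.Exact (f • LinearMap.id : R →ₗ[R] R) P.mkQ := fun z => by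
      show P.mkQ z = 0 ↔ _
      rw [← LinearMap.mem_ker, hker]
      exact ⟨fun ⟨w, _, hw⟩ => ⟨w, hw⟩, fun ⟨w, hw⟩ => ⟨w, trivial, hw⟩⟩
    obtain ⟨δ, -, -, hE⟩ := exists_les_deg I F I m (smul_id_grHomDeg (ℳ := 𝒜) hf) hfreg
      (mkQ_grHom (ℳ := 𝒜) P) P.mkQ_surjective hex
    letI := Hdecomp I m n
    obtain ⟨w, hw, hwh⟩ := exists_preimage (mapH_grHomDeg m (smul_id_grHomDeg (ℳ := 𝒜) hf) n (E := I) (F := I))
      (g := d - d₁ * q) (y := h) (by rwa [sub_add_cancel]) (((hE n).1 h).1 (Subsingleton.elim _ _))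
    refine ⟨w, hw, ?_⟩
    rw [← hwh, mapH_smul_id m hf]
    rfl

/-- Goto–Watanabe: a standard graded ring with a Gorenstein Veronese subring is Gorenstein. -/
theorem gorenstein_of_ver [_root_.LocCoh.IsCohenMacaulayRing R] (hpos : ∀ k : ℤ, k < 0 → 𝒜 k = ⊥)
    (h0 : IsField (GrLC.deg0 𝒜)) (hm : GrLC.IsStarLocal 𝒜 m)
    (hmsp : m.toIdeal = Ideal.span (⋃ k ∈ Set.Ioi (0 : ℤ), (𝒜 k : Set R)))
    (hstd : Ideal.span (⋃ k ∈ Set.Ioi (0 : ℤ), (𝒜 k : Set R)) = Ideal.span ((𝒜 1 : AddSubgroup R) : Set R))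
    {n : ℕ} (hn : ringKrullDim R = n) (h2 : 2 ≤ n) (I : GrLC.StarInjRes 𝒜 𝒜) {R' : Type u} [CommRing R']
    {𝒜' : ℤ → AddSubgroup R'} [GradedRing 𝒜'] [Algebra R' R] {q : ℕ} (hV : IsVer 𝒜 𝒜' q)
    [_root_.LocCoh.IsGorensteinRing R'] :
    _root_.LocCoh.IsGorensteinRing R ∧ ∃ c : ℤ, IsDualAt 𝒜 (I.Hgr m n) (c * q) := by
  let m' := posIdeal 𝒜'
  have hpos₂ := pos_ver hV hpos
  have hn' : ringKrullDim R' = n := (ringKrullDim_ver hV hpos).trans hn
  haveI := nontrivial_of_dim hn'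
  have h0' := isField_deg0 hV h0
  obtain ⟨c, hD'⟩ := exists_isDualAt_top hpos₂ h0' (isStarLocal_pos hpos₂ h0' (m := m') rfl) hn' (starRes 𝒜' 𝒜')
  obtain ⟨T, hT⟩ := exists_verIso_ring hV hmsp (m' := m') rfl I (starRes 𝒜' 𝒜') n
  obtain ⟨hgen, hess, hfaith⟩ := dual_of_ver hV hT hD'
  have hgam := gam_eq_bot hpos hm hn (by omega)
  have hq := hV.pos
  have hf : ∀ s, ∀ r ∈ 𝒜 s, r ≠ 0 → ∃ x ∈ I.Hgr m n (c * q - s), r • x ≠ 0 := by
    intro s r hr hr0
    have hs : 0 ≤ s := by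
      by_contra h
      exact hr0 ((AddSubgroup.eq_bot_iff_forall _).1 (hpos s (by omega)) r hr)
    obtain ⟨k, hk⟩ := Int.eq_ofNat_of_zero_le (show (0 : ℤ) ≤ ((q : ℤ) - 1) * s from mul_nonneg (by omega) hs)
    obtain ⟨v, hv, hvr⟩ : ∃ v ∈ 𝒜 (k : ℤ), v * r ≠ 0 := by
      by_contra! hall
      have := mem_gam_of_piece hmsp hstd hall
      rw [hgam, Submodule.mem_bot] at this
      exact hr0 this
    have hvr' : v * r ∈ 𝒜 (s * q) := by
      have := GrLib.smul_mem (ℳ := 𝒜) hv hr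
      rwa [show (k : ℤ) + s = s * q by rw [← hk]; ring] at this
    obtain ⟨x, hx, hvx⟩ := hfaith s _ hvr' hvr
    refine ⟨v • x, ?_, fun h => hvx ?_⟩
    · have := GrLib.smul_mem (ℳ := I.Hgr m n) hv hx
      rwa [show (k : ℤ) + (c - s) * q = c * q - s by rw [← hk]; ring] at this
    · rw [mul_comm, mul_smul, h]
  have hkill : ∀ (D : ℤ) (f : R), (q : ℤ) ≤ D → f ∈ 𝒜 D → ∀ d, ∀ h ∈ I.Hgr m n d,
      (∀ r ∈ 𝒜 (c * q - d), r • h = 0) → f • h = 0 := by
    intro D f hD hf d h hh hK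
    obtain ⟨s, hs⟩ := Int.eq_ofNat_of_zero_le (Int.emod_nonneg (-d) (show (q : ℤ) ≠ 0 by omega))
    have hsq : (s : ℤ) < q := hs ▸ Int.emod_lt_of_pos _ (by omega)
    obtain ⟨j, hj⟩ : (q : ℤ) ∣ d + s := by
      rw [← hs, show d + (-d) % (q : ℤ) = -((-d) - (-d) % (q : ℤ)) by ring]
      exact dvd_neg.2 Int.dvd_self_sub_emod
    have hle : Ideal.span ((𝒜 (s : ℤ) : AddSubgroup R) : Set R) ≤ (Submodule.span R {h}).annihilator := by
      rw [Ideal.span_le]
      intro u hu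
      rw [SetLike.mem_coe, Submodule.mem_annihilator_span_singleton]
      by_contra hne
      have huh : u • h ∈ I.Hgr m n (j * q) := by
        have := GrLib.smul_mem (ℳ := I.Hgr m n) hu hh
        rwa [show (s : ℤ) + d = j * q by rw [mul_comm j, ← hj, add_comm]] at this
      obtain ⟨r, hr, hrh⟩ := hess j _ huh hne
      refine hrh ?_
      rw [← mul_smul]
      refine hK _ ?_
      have := GrLib.smul_mem (ℳ := 𝒜) hr hu
      rwa [show (c - j) * q + (s : ℤ) = c * q - d by rw [sub_mul, mul_comm j, ← hj]; ring] at this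
    exact (Submodule.mem_annihilator_span_singleton _ _).1 (hle (mem_span_piece hstd s D (by omega) f hf))
  obtain ⟨df, dg, f, g, hdf, hdg, hfd, hgd, hreg, hdiv⟩ := exists_regular_pair hpos hm hmsp hn h2 I hq
  have hD : IsDualAt 𝒜 (I.Hgr m n) (c * q) :=
    ⟨hgen, ess_of_regular h0 hgen hf hfd hgd (hkill df f hdf hfd) (hkill dg g hdg hgd) hreg hdiv, hf⟩
  exact ⟨gorenstein_of_isDualAt hpos h0 hm hmsp hn I hD, c, hD⟩

end Groth.Agent.CAlgH3.GrVeroneseThms
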