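import Groth.Agent.DimLib.Algebra
import Groth.Agent.GrLib.Basic
import Mathlib

/-! One-dimensional graded domains over an algebraically closed field are semigroup rings. -/

universe u

open Groth.Agent.GrLib (proj proj_of_mem proj_of_mem_ne proj_mem)

namespace Groth.Agent.CAlgH3.GradedCurve

variable {k : Type u} [Field k] {R : Type u} [CommRing R] [Algebra k R]
  {𝒜 : ℤ → Submodule k R} [GradedAlgebra 𝒜]

theorem proj_smul_k (g : ℤ) (c : k) (x : R) : proj 𝒜 g (c • x) = c • proj 𝒜 g x := by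
  induction x using DirectSum.Decomposition.inductionOn 𝒜 with
  | zero => simp
  | @homogeneous i m =>
    by_cases h : i = g
    · subst h; rw [proj_of_mem m.2, proj_of_mem (Submodule.smul_mem _ c m.2)]
    · rw [proj_of_mem_ne m.2 h, proj_of_mem_ne (Submodule.smul_mem _ c m.2) h, smul_zero]
  | add x y hx hy => simp only [smul_add, map_add, hx, hy]

theorem bijective_of_basis {ι : Type*} (deg : ι → ℕ) (hdeg : Function.Injective deg) (e : ι → R)
    (he : ∀ i, e i ∈ 𝒜 (deg i)) (hne : ∀ i, e i ≠ 0)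
    (hspan : ∀ (n : ℤ) (x : R), x ∈ 𝒜 n → x ≠ 0 → ∃ i, (deg i : ℤ) = n ∧ ∃ c : k, x = c • e i) :
    Function.Bijective (Finsupp.linearCombination k e) := by
  classical
  refine ⟨?_, ?_⟩
  · rw [injective_iff_map_eq_zero]
    intro f hf
    ext i
    have h := congrArg (proj 𝒜 (deg i)) hf
    rw [Finsupp.linearCombination_apply, Finsupp.sum, map_sum, map_zero, Finset.sum_eq_single i] at h
    · rw [proj_smul_k, proj_of_mem (he i)] at h
      exact (smul_eq_zero.1 h).resolve_right (hne i)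
    · intro j _ hj
      exact proj_of_mem_ne (Submodule.smul_mem _ _ (he j)) (by exact_mod_cast hdeg.ne hj)
    · intro hi
      rw [Finsupp.notMem_support_iff.1 hi, zero_smul, map_zero]
  · intro x
    induction x using DirectSum.Decomposition.inductionOn 𝒜 with
    | zero => exact ⟨0, map_zero _⟩
    | @homogeneous n m =>
      by_cases hm : (m : R) = 0
      · exact ⟨0, by rw [map_zero, hm]⟩
      · obtain ⟨i, -, c, hc⟩ := hspan n m m.2 hm
        exact ⟨Finsupp.single i c, by rw [Finsupp.linearCombination_single, hc]⟩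
    | add x y hx hy =>
      obtain ⟨a, rfl⟩ := hx
      obtain ⟨b, rfl⟩ := hy
      exact ⟨a + b, map_add _ _ _⟩

variable [IsAlgClosed k] [IsDomain R] [Algebra.FiniteType k R]

theorem exists_smul (h1 : ringKrullDim R = 1) (h0 : 𝒜 0 = Submodule.span k {(1 : R)}) {d : ℤ} {a b : R}
    (ha : a ∈ 𝒜 d) (hb : b ∈ 𝒜 d) (hb0 : b ≠ 0) : ∃ c : k, a = c • b := by
  classical
  rcases eq_or_ne d 0 with rfl | hd
  · rw [h0, Submodule.mem_span_singleton] at ha hb
    obtain ⟨u, rfl⟩ := ha
    obtain ⟨v, rfl⟩ := hb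
    have hv : v ≠ 0 := fun h => hb0 (by rw [h, zero_smul])
    exact ⟨u / v, by rw [smul_smul, div_mul_cancel₀ _ hv]⟩
  · have hdep : ¬ AlgebraicIndependent k ![a, b] := by
      intro h
      have h2 := h.lift_cardinalMk_le_trdeg
      obtain ⟨s, g, -, -, hs, ht⟩ := DimLib.exists_normalization (k := k) (A := R)
      rw [h1] at hs
      have : s = 1 := by exact_mod_cast hs.symm
      rw [ht, this, Cardinal.mk_fin, Cardinal.lift_natCast, Cardinal.lift_natCast] at h2
      have : (2 : ℕ) ≤ 1 := by exact_mod_cast h2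
      omega
    rw [algebraicIndependent_iff] at hdep
    push Not at hdep
    obtain ⟨P, hP, hP0⟩ := hdep
    obtain ⟨j, hj⟩ : ∃ j, MvPolynomial.homogeneousComponent j P ≠ 0 := by
      by_contra! h
      exact hP0 (by rw [← MvPolynomial.sum_homogeneousComponent P]; exact Finset.sum_eq_zero fun i _ => h i)
    set Q := MvPolynomial.homogeneousComponent j P with hQdef
    have hQh : Q.IsHomogeneous j := MvPolynomial.homogeneousComponent_isHomogeneous j P
    have hmem : ∀ i : ℕ, MvPolynomial.aeval ![a, b] (MvPolynomial.homogeneousComponent i P) ∈ 𝒜 ((i : ℤ) * d) := by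
      intro i
      rw [MvPolynomial.aeval_def, MvPolynomial.eval₂_eq]
      refine Submodule.sum_mem _ fun m hm => ?_
      rw [← Algebra.smul_def]
      refine Submodule.smul_mem _ _ ?_
      have hdegm : m 0 + m 1 = i := by
        have := (MvPolynomial.homogeneousComponent_isHomogeneous i P) (MvPolynomial.mem_support_iff.1 hm)
        rw [Finsupp.weight_apply, Finsupp.sum_fintype _ _ (by simp), Fin.sum_univ_two] at this
        simpa using this
      rw [Finset.prod_subset (Finset.subset_univ _) (fun x _ hx => by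
        rw [Finsupp.notMem_support_iff.1 hx, pow_zero]), Fin.prod_univ_two]
      have h := SetLike.mul_mem_graded (A := 𝒜) (SetLike.pow_mem_graded (m 0) ha) (SetLike.pow_mem_graded (m 1) hb)
      simp only [Matrix.cons_val_zero, Matrix.cons_val_one, nsmul_eq_mul] at h ⊢
      rwa [show ((i : ℤ) * d) = (m 0 : ℤ) * d + (m 1 : ℤ) * d by rw [← hdegm]; push_cast; ring]
    have hQ0 : MvPolynomial.aeval ![a, b] Q = 0 := by
      have h := congrArg (proj 𝒜 ((j : ℤ) * d)) hP
      conv_lhs at h => rw [← MvPolynomial.sum_homogeneousComponent P]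
      rw [map_sum, map_sum, map_zero, Finset.sum_eq_single j] at h
      · rwa [proj_of_mem (hmem j)] at h
      · intro i _ hi
        refine proj_of_mem_ne (hmem i) fun he => hi ?_
        exact_mod_cast mul_right_cancel₀ hd he
      · intro hj'
        exfalso
        refine hj (MvPolynomial.homogeneousComponent_eq_zero _ _ ?_)
        simp only [Finset.mem_range, not_lt] at hj'
        omega
    let K := FractionRing R
    let φ := algebraMap R K
    have hinj : Function.Injective φ := IsFractionRing.injective R K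
    have hb' : φ b ≠ 0 := fun h => hb0 (hinj (by rw [h, map_zero]))
    let x : K := φ a / φ b
    let q : Polynomial k := ∑ m ∈ Q.support, Polynomial.C (Q.coeff m) * Polynomial.X ^ (m 0)
    have hdeg : ∀ m ∈ Q.support, m 0 + m 1 = j := fun m hm => by
      have := hQh (MvPolynomial.mem_support_iff.1 hm)
      rw [Finsupp.weight_apply, Finsupp.sum_fintype _ _ (by simp), Fin.sum_univ_two] at this
      simpa using this
    have hq : q ≠ 0 := by
      obtain ⟨m, hm⟩ := MvPolynomial.support_nonempty.2 hj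
      intro h
      have h2 := congrArg (fun p : Polynomial k => p.coeff (m 0)) h
      simp only [q, Polynomial.finsetSum_coeff, Polynomial.coeff_C_mul, Polynomial.coeff_X_pow, mul_ite,
        mul_one, mul_zero, Polynomial.coeff_zero] at h2
      rw [Finset.sum_eq_single m, if_pos rfl] at h2
      · exact MvPolynomial.mem_support_iff.1 hm h2
      · intro m' hm' hne
        refine if_neg fun he => hne ?_
        have e1 := hdeg m hm
        have e2 := hdeg m' hm'
        ext i
        fin_cases i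
        · exact he.symm
        · show m' 1 = m 1; omega
      · exact fun h => absurd hm h
    have hx : Polynomial.aeval x q = 0 := by
      have h : Polynomial.aeval x q * φ b ^ j = φ (MvPolynomial.aeval ![a, b] Q) := by
        rw [MvPolynomial.aeval_def, MvPolynomial.eval₂_eq, map_sum, map_sum, Finset.sum_mul]
        refine Finset.sum_congr rfl fun m hm => ?_
        rw [map_mul, map_mul, map_pow, Polynomial.aeval_X, Polynomial.aeval_C, map_prod,
          IsScalarTower.algebraMap_apply k R K, mul_assoc]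
        congr 1
        rw [Finset.prod_subset (Finset.subset_univ _) (fun y _ hy => by
          rw [Finsupp.notMem_support_iff.1 hy, pow_zero, map_one]), Fin.prod_univ_two, map_pow, map_pow]
        simp only [Matrix.cons_val_zero, Matrix.cons_val_one]
        rw [← hdeg m hm, pow_add, ← mul_assoc, div_pow, div_mul_cancel₀ _ (pow_ne_zero _ hb')]
      rw [hQ0, map_zero] at h
      exact (mul_eq_zero.1 h).resolve_right (pow_ne_zero _ hb')
    have hint : IsIntegral k x := IsAlgebraic.isIntegral ⟨q, hq, hx⟩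
    obtain ⟨c, hc⟩ := minpoly.mem_range_of_degree_eq_one k x
      (IsAlgClosed.degree_eq_one_of_irreducible k (minpoly.irreducible hint))
    refine ⟨c, hinj ?_⟩
    rw [Algebra.smul_def, map_mul, ← IsScalarTower.algebraMap_apply k R K, hc, div_mul_cancel₀ _ hb']

omit [IsAlgClosed k] [Algebra.FiniteType k R] in
theorem pow_mem' {d : ℤ} {A : R} (hA : A ∈ 𝒜 d) (m : ℕ) : A ^ m ∈ 𝒜 ((m : ℤ) * d) := by
  have := SetLike.pow_mem_graded (A := 𝒜) m hA
  rwa [nsmul_eq_mul] at this

theorem structure_thm (hpos : ∀ n : ℤ, n < 0 → 𝒜 n = ⊥) (h0 : 𝒜 0 = Submodule.span k {(1 : R)})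
    (h1 : ringKrullDim R = 1) :
    (∃ H : AddSubmonoid ℕ, Nonempty (R ≃+* AddMonoidAlgebra k H)) ∧
      (Ideal.span (⋃ n ∈ Set.Ioi (0 : ℤ), (𝒜 n : Set R)) = Ideal.span ((𝒜 1 : Submodule k R) : Set R) →
        Nonempty (R ≃+* Polynomial k)) := by
  classical
  have hneg : ∀ n : ℤ, n < 0 → ∀ x ∈ 𝒜 n, x = 0 := fun n hn x hx => by
    rw [hpos n hn] at hx; exact hx
  -- a nonzero element of positive degree
  obtain ⟨e₁, he₁, z, hz, hz0⟩ : ∃ e : ℕ, 0 < e ∧ ∃ z ∈ 𝒜 (e : ℤ), z ≠ 0 := by
    by_contra! hcon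
    have htop : ∀ x : R, x ∈ Submodule.span k {(1 : R)} := by
      intro x
      induction x using DirectSum.Decomposition.inductionOn 𝒜 with
      | zero => exact zero_mem _
      | @homogeneous n m =>
        rcases lt_trichotomy n 0 with hn | rfl | hn
        · rw [hneg n hn _ m.2]; exact zero_mem _
        · exact h0 ▸ m.2
        · obtain ⟨t, rfl⟩ : ∃ t : ℕ, n = (t : ℤ) := ⟨n.toNat, (Int.toNat_of_nonneg hn.le).symm⟩
          rw [hcon t (by omega) _ m.2]; exact zero_mem _
      | add x y hx hy => exact add_mem hx hy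
    have hfield : IsField R := by
      refine ⟨⟨0, 1, zero_ne_one⟩, mul_comm, fun {x} hx => ?_⟩
      obtain ⟨c, rfl⟩ := Submodule.mem_span_singleton.1 (htop x)
      have hc : c ≠ 0 := fun h => hx (by rw [h, zero_smul])
      exact ⟨c⁻¹ • 1, by rw [smul_mul_smul_comm, mul_inv_cancel₀ hc, one_mul, one_smul]⟩
    rw [ringKrullDim_eq_zero_of_isField hfield] at h1
    exact zero_ne_one h1
  -- the gcd generator
  let S : Set ℕ := {g | 0 < g ∧ ∃ (p q : ℕ) (A B : R), A ∈ 𝒜 (p : ℤ) ∧ B ∈ 𝒜 (q : ℤ) ∧ A ≠ 0 ∧ B ≠ 0 ∧ p = q + g}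
  have hS : ∃ g, g ∈ S := ⟨e₁, he₁, e₁, 0, z, 1, hz,
    by simpa using SetLike.one_mem_graded 𝒜, hz0, one_ne_zero, (zero_add _).symm⟩
  obtain ⟨hgpos, p, q, A, B, hA, hB, hA0, hB0, hpq⟩ := Nat.find_spec hS
  set g := Nat.find hS with hg
  let H : AddSubmonoid ℕ :=
    { carrier := {n | ∃ x ∈ 𝒜 (n : ℤ), x ≠ 0}
      add_mem' := fun {m n} hm hn => by
        obtain ⟨x, hx, hx0⟩ := hm
        obtain ⟨y, hy, hy0⟩ := hn
        exact ⟨x * y, by simpa using SetLike.mul_mem_graded hx hy, mul_ne_zero hx0 hy0⟩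
      zero_mem' := ⟨1, by simpa using SetLike.one_mem_graded 𝒜, one_ne_zero⟩ }
  have hdvd : ∀ n ∈ H, g ∣ n := by
    rintro n ⟨x, hx, hx0⟩
    rw [Nat.dvd_iff_mod_eq_zero]
    by_contra hr
    have hlt : n % g < g := Nat.mod_lt _ hgpos
    refine Nat.find_min hS hlt ⟨Nat.pos_of_ne_zero hr, n + (n / g) * q, (n / g) * p,
      x * B ^ (n / g), A ^ (n / g), ?_, ?_, mul_ne_zero hx0 (pow_ne_zero _ hB0), pow_ne_zero _ hA0, ?_⟩
    · simpa using SetLike.mul_mem_graded hx (pow_mem' hB (n / g))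
    · simpa using pow_mem' hA (n / g)
    · rw [hpq, mul_add]
      have := Nat.div_add_mod' n g
      omega
  have hE : ∀ n : H, ∃ c ∈ 𝒜 ((n : ℕ) : ℤ), c ≠ 0 ∧ c * B ^ ((n : ℕ) / g) = A ^ ((n : ℕ) / g) := by
    rintro ⟨n, hn⟩
    obtain ⟨x, hx, hx0⟩ := id hn
    set m := n / g
    have hnm : n = m * g := (Nat.div_mul_cancel (hdvd n hn)).symm
    obtain ⟨c, hc⟩ := exists_smul h1 h0 (pow_mem' hA m)
      (show x * B ^ m ∈ 𝒜 ((m : ℤ) * p) by
        have h := SetLike.mul_mem_graded hx (pow_mem' hB m)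
        rwa [show (n : ℤ) + (m : ℤ) * q = (m : ℤ) * p by rw [hnm, hpq]; push_cast; ring] at h)
      (mul_ne_zero hx0 (pow_ne_zero _ hB0))
    refine ⟨c • x, Submodule.smul_mem _ _ hx, ?_, by rw [hc, smul_mul_assoc]⟩
    intro h
    exact pow_ne_zero m hA0 (by rw [hc, ← smul_mul_assoc, h, zero_mul])
  choose E hEm hE0 hEeq using hE
  have hspan : ∀ (n : ℤ) (x : R), x ∈ 𝒜 n → x ≠ 0 →
      ∃ i : H, ((i : ℕ) : ℤ) = n ∧ ∃ c : k, x = c • E i := by
    intro n x hx hx0
    have hn : 0 ≤ n := not_lt.1 fun h => hx0 (hneg n h x hx)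
    obtain ⟨t, rfl⟩ : ∃ t : ℕ, n = (t : ℤ) := ⟨n.toNat, (Int.toNat_of_nonneg hn).symm⟩
    exact ⟨⟨t, x, hx, hx0⟩, rfl, exists_smul h1 h0 hx (hEm ⟨t, x, hx, hx0⟩) (hE0 _)⟩
  have hbij := bijective_of_basis (fun i : H => (i : ℕ)) Subtype.val_injective E hEm hE0 hspan
  have hmul : ∀ i i' : H, E (i + i') = E i * E i' := by
    intro i i'
    have hd : ((i + i' : H) : ℕ) / g = (i : ℕ) / g + (i' : ℕ) / g := by
      rw [AddSubmonoid.coe_add, Nat.add_div_of_dvd_right (hdvd _ i.2)]
    refine mul_right_cancel₀ (pow_ne_zero (((i + i' : H) : ℕ) / g) hB0) ?_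
    rw [hEeq, hd, pow_add, pow_add, ← hEeq i, ← hEeq i']
    ring
  have hone : E 0 = 1 := by
    have := hEeq 0
    simpa using this
  let f : Multiplicative H →* R :=
    { toFun := fun i => E i.toAdd, map_one' := hone, map_mul' := fun i i' => hmul _ _ }
  let Φ := AddMonoidAlgebra.lift k R H f
  have hΦ : Function.Bijective Φ := by
    have hΦ' : ∀ y : H →₀ k, Φ (AddMonoidAlgebra.ofCoeff y) = Finsupp.linearCombination k E y := fun y => by
      simp [Φ, f, AddMonoidAlgebra.lift_apply, Finsupp.linearCombination_apply]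
    constructor
    · intro x y hxy
      have := hbij.1 (a₁ := x.coeff) (a₂ := y.coeff) (by rw [← hΦ', ← hΦ']; simpa using hxy)
      ext i
      exact congrArg (fun z : H →₀ k => z i) this
    · intro r
      obtain ⟨y, hy⟩ := hbij.2 r
      exact ⟨AddMonoidAlgebra.ofCoeff y, (hΦ' y).trans hy⟩
  refine ⟨⟨H, ⟨(RingEquiv.ofBijective Φ hΦ).symm⟩⟩, fun hstd => ?_⟩
  obtain ⟨t, ht, ht0⟩ : ∃ t ∈ 𝒜 1, t ≠ (0 : R) := by
    by_contra! hcon
    have hzm : z ∈ Ideal.span (⋃ n ∈ Set.Ioi (0 : ℤ), (𝒜 n : Set R)) :=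
      Ideal.subset_span (Set.mem_iUnion₂.2 ⟨(e₁ : ℤ), Set.mem_Ioi.2 (by exact_mod_cast he₁), hz⟩)
    rw [hstd, Ideal.span_eq_bot.2 hcon, Ideal.mem_bot] at hzm
    exact hz0 hzm
  have hbij' := bijective_of_basis (𝒜 := 𝒜) id Function.injective_id (fun n : ℕ => t ^ n)
    (fun n => by simpa using pow_mem' ht n) (fun n => pow_ne_zero n ht0) (fun n x hx hx0 => by
      have hn : 0 ≤ n := not_lt.1 fun h => hx0 (hneg n h x hx)
      obtain ⟨s, rfl⟩ : ∃ s : ℕ, n = (s : ℤ) := ⟨n.toNat, (Int.toNat_of_nonneg hn).symm⟩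
      exact ⟨s, rfl, exists_smul h1 h0 hx (by simpa using pow_mem' ht s) (pow_ne_zero s ht0)⟩)
  let Ψ : Polynomial k →ₐ[k] R := Polynomial.aeval t
  have hΨ : Function.Bijective Ψ := by
    have hΨ' : ∀ p : Polynomial k, Ψ p = Finsupp.linearCombination k (fun n : ℕ => t ^ n) p.toFinsupp.coeff := fun p => by
      induction p using Polynomial.induction_on' with
      | add p q hp hq => simp [map_add, hp, hq]
      | monomial n a => simp [Ψ, Polynomial.aeval_monomial, Polynomial.toFinsupp_monomial, Algebra.smul_def]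
    constructor
    · intro x y hxy
      rw [hΨ', hΨ'] at hxy
      have := hbij'.1 hxy
      ext n
      exact congrArg (fun z : ℕ →₀ k => z n) this
    · intro r
      obtain ⟨y, hy⟩ := hbij'.2 r
      exact ⟨⟨AddMonoidAlgebra.ofCoeff y⟩, (hΨ' _).trans hy⟩
  exact ⟨(RingEquiv.ofBijective Ψ hΨ).symm⟩

end Groth.Agent.CAlgH3.GradedCurve
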