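import Mathlib.RingTheory.GradedAlgebra.Homogeneous.Ideal
import Mathlib.RingTheory.FiniteType

/-! Elementary facts about graded modules in non-negative degrees. -/

universe u

open DirectSum

namespace Groth.Agent.CAlgH3

section nakayama

variable {R S : Type u} [CommRing R] [CommRing S] [Algebra R S] (𝒜 : ℕ → Submodule R S) [GradedAlgebra 𝒜]
  {M : Type u} [AddCommGroup M] [Module R M] [Module S M]
  (ℳ : ℕ → Submodule R M) [DirectSum.Decomposition ℳ] [SetLike.GradedSMul 𝒜 ℳ]

/-- The degree `d` component of `m`, as an additive map. -/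
noncomputable def gproj (d : ℕ) : M →ₗ[R] M :=
  (ℳ d).subtype ∘ₗ DFinsupp.lapply d ∘ₗ (DirectSum.decomposeLinearEquiv ℳ).toLinearMap

theorem gproj_apply (d : ℕ) (m : M) : gproj ℳ d m = (DirectSum.decompose ℳ m d : M) := rfl

theorem gproj_mem (d : ℕ) (m : M) : gproj ℳ d m ∈ ℳ d := (DirectSum.decompose ℳ m d).2

theorem gproj_of_mem {d : ℕ} {m : M} (h : m ∈ ℳ d) : gproj ℳ d m = m := by
  rw [gproj_apply, DirectSum.decompose_of_mem_same ℳ h]

theorem gproj_of_mem_ne {d e : ℕ} {m : M} (h : m ∈ ℳ e) (hne : e ≠ d) : gproj ℳ d m = 0 := by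
  rw [gproj_apply, DirectSum.decompose_of_mem_ne ℳ h hne]

include 𝒜 in
theorem gproj_smul_mem {P : AddSubmonoid M} (d : ℕ) (a : S) (m : M)
    (h : ∀ i j : ℕ, i + j = d → (DirectSum.decompose 𝒜 a i : S) • (DirectSum.decompose ℳ m j : M) ∈ P) :
    gproj ℳ d (a • m) ∈ P := by
  classical
  rw [show gproj ℳ d (a • m) = gproj ℳ d ((∑ i ∈ (DirectSum.decompose 𝒜 a).support, (DirectSum.decompose 𝒜 a i : S)) •
    ∑ j ∈ (DirectSum.decompose ℳ m).support, (DirectSum.decompose ℳ m j : M)) by
      rw [DirectSum.sum_support_decompose 𝒜 a, DirectSum.sum_support_decompose ℳ m]]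
  rw [Finset.sum_smul, map_sum]
  refine sum_mem fun i _ => ?_
  rw [Finset.smul_sum, map_sum]
  refine sum_mem fun j _ => ?_
  have hmem : (DirectSum.decompose 𝒜 a i : S) • (DirectSum.decompose ℳ m j : M) ∈ ℳ (i + j) :=
    SetLike.GradedSMul.smul_mem (DirectSum.decompose 𝒜 a i).2 (DirectSum.decompose ℳ m j).2
  by_cases hd : i + j = d
  · subst hd
    rw [gproj_of_mem ℳ hmem]
    exact h i j rfl
  · rw [gproj_of_mem_ne ℳ hmem hd]
    exact zero_mem _

theorem mem_of_forall_gproj {P : AddSubmonoid M} {m : M} (h : ∀ d, gproj ℳ d m ∈ P) : m ∈ P := by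
  classical
  rw [← DirectSum.sum_support_decompose ℳ m]
  exact sum_mem fun d _ => h d

include 𝒜 in
/-- Graded Nakayama: homogeneous generators modulo `S₊ M` generate. -/
theorem span_eq_top_of_irrelevant {n : ℕ} (x : Fin n → M) (hx : ∀ i, SetLike.IsHomogeneousElem ℳ (x i))
    (h : Submodule.span S (Set.range x) ⊔ (HomogeneousIdeal.irrelevant 𝒜).toIdeal • (⊤ : Submodule S M) = ⊤) :
    Submodule.span S (Set.range x) = ⊤ := by
  classical
  set P := Submodule.span S (Set.range x) with hP
  suffices ∀ d, ∀ m : M, gproj ℳ d m ∈ P from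
    eq_top_iff.2 fun m _ => mem_of_forall_gproj ℳ (P := P.toAddSubmonoid) fun d => this d m
  intro d
  induction d using Nat.strong_induction_on with
  | _ d ih =>
    intro m
    have hm : m ∈ P ⊔ (HomogeneousIdeal.irrelevant 𝒜).toIdeal • (⊤ : Submodule S M) := h.ge Submodule.mem_top
    obtain ⟨p, hp, q, hq, rfl⟩ := Submodule.mem_sup.1 hm
    rw [map_add]
    refine add_mem ?_ ?_
    · obtain ⟨c, rfl⟩ := (Submodule.mem_span_range_iff_exists_fun S).1 hp
      rw [map_sum]
      refine sum_mem fun k _ => ?_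
      obtain ⟨e, he⟩ := hx k
      refine gproj_smul_mem 𝒜 ℳ (P := P.toAddSubmonoid) d (c k) (x k) fun i j _ => ?_
      by_cases hje : e = j
      · subst hje
        rw [DirectSum.decompose_of_mem_same ℳ he]
        exact P.smul_mem _ (Submodule.subset_span ⟨k, rfl⟩)
      · rw [DirectSum.decompose_of_mem_ne ℳ he hje, smul_zero]
        exact zero_mem _
    · refine Submodule.smul_induction_on hq (fun a ha z _ => ?_) fun y z hy hz => by rw [map_add]; exact add_mem hy hz
      refine gproj_smul_mem 𝒜 ℳ (P := P.toAddSubmonoid) d a z fun i j hij => ?_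
      rcases Nat.eq_zero_or_pos i with hi | hi
      · subst hi
        have ha' : (DirectSum.decompose 𝒜 a 0 : S) = 0 := by
          have := (HomogeneousIdeal.mem_irrelevant_iff 𝒜 a).1 ha
          rwa [GradedRing.proj_apply] at this
        rw [ha', zero_smul]
        exact zero_mem _
      · exact P.smul_mem _ (gproj_apply ℳ j z ▸ ih j (by omega) z)

end nakayama

section finite

variable {A S : Type u} [CommRing A] [CommRing S] [Algebra A S] (𝒜 : ℕ → Submodule A S) [GradedAlgebra 𝒜]

include 𝒜 in
theorem irrelevant_eq_span (h0 : ∀ s ∈ 𝒜 0, s ∈ Set.range (algebraMap A S)) [Algebra.FiniteType A S] :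
    ∃ t : Finset S, (∀ g ∈ t, ∃ k, 0 < k ∧ g ∈ 𝒜 k) ∧
      ∀ a : S, a - (DirectSum.decompose 𝒜 a 0 : S) ∈ Ideal.span (t : Set S) := by
  classical
  obtain ⟨s, hs⟩ := Algebra.FiniteType.out (R := A) (A := S)
  let t : Finset S := s.biUnion fun g => ((DirectSum.decompose 𝒜 g).support.filter (0 < ·)).image fun i => (DirectSum.decompose 𝒜 g i : S)
  refine ⟨t, ?_, ?_⟩
  · intro g hg
    simp only [t, Finset.mem_biUnion, Finset.mem_image, Finset.mem_filter] at hg
    obtain ⟨g₀, -, i, ⟨-, hi⟩, rfl⟩ := hg
    exact ⟨i, hi, (DirectSum.decompose 𝒜 g₀ i).2⟩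
  have key : ∀ a : S, ∃ c : A, a - algebraMap A S c ∈ Ideal.span (t : Set S) := by
    intro a
    have ha : a ∈ Algebra.adjoin A (s : Set S) := hs ▸ Algebra.mem_top
    induction ha using Algebra.adjoin_induction with
    | mem g hg =>
      obtain ⟨c, hc⟩ := h0 _ (DirectSum.decompose 𝒜 g 0).2
      refine ⟨c, ?_⟩
      have hsplit := DirectSum.sum_support_decompose 𝒜 g
      rw [← Finset.sum_filter_add_sum_filter_not _ (0 < ·)] at hsplit
      have h2 : ∑ i ∈ (DirectSum.decompose 𝒜 g).support.filter (fun i => ¬ 0 < i), (DirectSum.decompose 𝒜 g i : S) =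
          algebraMap A S c := by
        rw [hc, Finset.sum_filter, Finset.sum_eq_single 0]
        · simp
        · intro i _ hi; rw [if_neg (by omega)]
        · intro h; simp [DFinsupp.notMem_support_iff.1 h]
      rw [h2] at hsplit
      rw [← hsplit, add_sub_cancel_right]
      refine sum_mem fun i hi => Ideal.subset_span ?_
      simp only [t, Finset.coe_biUnion, Set.mem_iUnion, Finset.coe_image, Set.mem_image]
      exact ⟨g, hg, i, hi, rfl⟩
    | algebraMap r => exact ⟨r, by rw [sub_self]; exact zero_mem _⟩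
    | add x y _ _ hx hy =>
      obtain ⟨c, hc⟩ := hx; obtain ⟨d, hd⟩ := hy
      exact ⟨c + d, by rw [map_add, add_sub_add_comm]; exact add_mem hc hd⟩
    | mul x y _ _ hx hy =>
      obtain ⟨c, hc⟩ := hx; obtain ⟨d, hd⟩ := hy
      refine ⟨c * d, ?_⟩
      rw [map_mul, show x * y - algebraMap A S c * algebraMap A S d =
        y * (x - algebraMap A S c) + algebraMap A S c * (y - algebraMap A S d) by ring]
      exact add_mem (Ideal.mul_mem_left _ _ hc) (Ideal.mul_mem_left _ _ hd)
  intro a
  obtain ⟨c, hc⟩ := key a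
  have hproj : ∀ z ∈ Ideal.span (t : Set S), (DirectSum.decompose 𝒜 z 0 : S) = 0 := by
    intro z hz
    have hle : Ideal.span (t : Set S) ≤ (HomogeneousIdeal.irrelevant 𝒜).toIdeal := by
      refine Ideal.span_le.2 fun g hg => ?_
      simp only [t, Finset.coe_biUnion, Set.mem_iUnion, Finset.coe_image, Set.mem_image, Finset.mem_coe, Finset.mem_filter] at hg
      obtain ⟨g₀, -, i, ⟨-, hi⟩, rfl⟩ := hg
      refine (HomogeneousIdeal.mem_irrelevant_iff 𝒜 _).2 ?_
      rw [GradedRing.proj_apply, DirectSum.decompose_of_mem_ne 𝒜 (DirectSum.decompose 𝒜 g₀ i).2 (by omega)]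
    have := (HomogeneousIdeal.mem_irrelevant_iff 𝒜 z).1 (hle hz)
    rwa [GradedRing.proj_apply] at this
  have h1 := hproj _ hc
  rw [DirectSum.decompose_sub, DirectSum.sub_apply, AddSubgroupClass.coe_sub,
    DirectSum.decompose_of_mem_same 𝒜 (SetLike.algebraMap_mem_graded 𝒜 c), sub_eq_zero] at h1
  rwa [h1]

include 𝒜 in
/-- Graded pieces of a finite graded module over a finitely generated graded algebra are finite. -/
theorem finite_gradedPiece (h0 : ∀ s ∈ 𝒜 0, s ∈ Set.range (algebraMap A S)) [Algebra.FiniteType A S]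
    {M : Type u} [AddCommGroup M] [Module A M] [Module S M] [IsScalarTower A S M] [Module.Finite S M]
    (ℳ : ℕ → Submodule A M) [DirectSum.Decomposition ℳ] [SetLike.GradedSMul 𝒜 ℳ] (n : ℕ) : (ℳ n).FG := by
  classical
  obtain ⟨t, ht, hspan⟩ := irrelevant_eq_span 𝒜 h0
  obtain ⟨v, hv⟩ := Module.Finite.fg_top (R := S) (M := M)
  induction n using Nat.strong_induction_on with
  | _ n ih =>
    let P : Submodule A M := Submodule.span A ((v.image (gproj ℳ n) : Finset M) : Set M) ⊔
      t.sup fun g => if hk : ∃ k, 0 < k ∧ g ∈ 𝒜 k ∧ k ≤ n then (ℳ (n - hk.choose)).map ((LinearMap.lsmul S M g).restrictScalars A) else ⊥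
    have hP : ℳ n = P := by
      refine le_antisymm (fun z hz => ?_) (sup_le (Submodule.span_le.2 ?_) (Finset.sup_le fun g _ => ?_))
      · rw [← gproj_of_mem ℳ hz]
        obtain ⟨c, -, hc⟩ := Submodule.mem_span_finset.1 (hv.ge (Submodule.mem_top (x := z)))
        rw [← hc, map_sum]
        refine Submodule.sum_mem _ fun w hw => ?_
        rw [show c w • w = (DirectSum.decompose 𝒜 (c w) 0 : S) • w + (c w - (DirectSum.decompose 𝒜 (c w) 0 : S)) • w by
          rw [← add_smul, add_sub_cancel], map_add]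
        refine add_mem ?_ ?_
        · obtain ⟨a, ha⟩ := h0 _ (DirectSum.decompose 𝒜 (c w) 0).2
          rw [← ha, algebraMap_smul, map_smul]
          exact Submodule.smul_mem _ _ (Submodule.mem_sup_left (Submodule.subset_span (Finset.mem_image_of_mem _ hw)))
        · suffices ∀ q ∈ Ideal.span (t : Set S), ∀ y : M, gproj ℳ n (q • y) ∈ P from this _ (hspan _) w
          intro q hq
          refine Submodule.span_induction (fun g hg y => ?_) (fun y => by simp) (fun a b _ _ ha hb y => ?_)
            (fun s a _ ha y => ?_) hq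
          · obtain ⟨k, hk, hgk⟩ := ht g hg
            refine gproj_smul_mem 𝒜 ℳ (P := P.toAddSubmonoid) n g y fun i j hij => ?_
            by_cases hik : k = i
            · subst hik
              rw [DirectSum.decompose_of_mem_same 𝒜 hgk]
              have hex : ∃ k, 0 < k ∧ g ∈ 𝒜 k ∧ k ≤ n := ⟨k, hk, hgk, by omega⟩
              by_cases hg0 : g = 0
              · rw [hg0, zero_smul]; exact zero_mem _
              have hkk : hex.choose = k := by
                by_contra hne
                exact hg0 ((DirectSum.decompose_of_mem_same 𝒜 hex.choose_spec.2.1).symm.trans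
                  (DirectSum.decompose_of_mem_ne 𝒜 hgk (Ne.symm hne)))
              refine Submodule.mem_sup_right (Finset.le_sup (α := Submodule A M) hg ?_)
              rw [dif_pos hex, hkk, show n - k = j by omega]
              exact ⟨_, (DirectSum.decompose ℳ y j).2, rfl⟩
            · rw [DirectSum.decompose_of_mem_ne 𝒜 hgk hik, zero_smul]; exact zero_mem _
          · rw [add_smul, map_add]; exact add_mem (ha y) (hb y)
          · rw [smul_eq_mul, mul_comm, mul_smul]; exact ha _
      · rw [Finset.coe_image]; rintro _ ⟨w, -, rfl⟩; exact gproj_mem ℳ n w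
      · split_ifs with hk
        · rintro _ ⟨y, hy, rfl⟩
          have := SetLike.GradedSMul.smul_mem (A := 𝒜) (B := ℳ) hk.choose_spec.2.1 hy
          rwa [show hk.choose +ᵥ (n - hk.choose) = n from Nat.add_sub_cancel' hk.choose_spec.2.2] at this
        · exact bot_le
    rw [hP]
    refine Submodule.FG.sup (Submodule.fg_span (Finset.finite_toSet _)) (Submodule.fg_finset_sup _ _ fun g _ => ?_)
    split_ifs with hk
    · exact (ih _ (by have := hk.choose_spec; omega)).map _
    · exact Submodule.fg_bot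

end finite

end Groth.Agent.CAlgH3
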