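import Groth.Agent.CAlgH3.AffineCodimOne
import Groth.Agent.CAlgH3.AmpleCodimOne
import Groth.Agent.GrpdLib.GenericThick
import Groth.Agent.GrpdLib.PullbackGrpd
import Groth.Agent.GrpdLib.Restrict
import Groth.Agent.EGA43.FlatDescent.SchemeOpen
import Groth.Agent.VarietyLib.AffineMerge
import Groth.Agent.Props12.KerReduced
import Groth.Agent.S1885

/-!
# Invariant affine neighbourhoods of orbits of codimension at most one
-/

set_option autoImplicit false
set_option backward.isDefEq.respectTransparency.types false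
universe u

open CategoryTheory CategoryTheory.Limits AlgebraicGeometry TopologicalSpace
open Groth.Agent.VarietyLib Groth.Agent.GrpdLib Groth.Agent.GrpdLib.GenericThick

namespace Groth.Agent.CAlgH3.GrpdCodimOne

set_option maxHeartbeats 800000

/-- Over a maximal point of a reduced scheme every morphism is flat. -/
theorem flat_stalkMap_of_maximal {X Y : Scheme.{u}} [IsReduced Y] (f : X ⟶ Y) (x : X)
    (h : ∀ y, y ⤳ f x → y = f x) : (f.stalkMap x).hom.Flat := by
  have : Ring.KrullDimLE 0 (Y.presheaf.stalk (f x)) := Ring.KrullDimLE.mk₀ fun P hP => by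
    have hp : (Y.fromSpecStalk (f x)) ⟨P, hP⟩ ⤳ f x :=
      (Set.ext_iff.1 (Y.range_fromSpecStalk (x := f x)) _).1 ⟨_, rfl⟩
    have := h _ hp
    conv at this => rhs; rw [← Scheme.fromSpecStalk_closedPoint (x := f x)]
    have e := (Y.fromSpecStalk (f x)).isEmbedding.injective this
    rw [show P = _ from congrArg PrimeSpectrum.asIdeal e]
    exact IsLocalRing.maximalIdeal.isMaximal _
  have hF : IsField (Y.presheaf.stalk (f x)) := Ring.KrullDimLE.isField_of_isReduced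
  let := hF.toField
  let := (f.stalkMap x).hom.toAlgebra
  exact (inferInstance : Module.Flat (Y.presheaf.stalk (f x)) (X.presheaf.stalk x))

/-- Affineness is local on an affine open containing the open. -/
theorem isAffineOpen_of_local {X : Scheme.{u}} {B D : X.Opens} (hB : IsAffineOpen B) (hDB : D ≤ B)
    (h : ∀ x ∈ B, ∃ V : X.Opens, x ∈ V ∧ IsAffineOpen (D ⊓ V)) : IsAffineOpen D := by
  choose V hxV hV using fun x : B => h x.1 x.2
  choose c hc hxc using fun x : B => hB.exists_basicOpen_le (V := V x) ⟨x.1, hxV x⟩ x.2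
  have hspan : Ideal.span (Set.range c) = ⊤ := by
    rw [← hB.iSup_basicOpen_eq_self_iff]
    exact le_antisymm (iSup_le fun r => X.basicOpen_le _) fun y hy =>
      Opens.mem_iSup.2 ⟨⟨c ⟨y, hy⟩, ⟨_, rfl⟩⟩, hxc ⟨y, hy⟩⟩
  refine isAffineOpen_of_isAffineOpen_basicOpen D ((X.presheaf.map (homOfLE hDB).op).hom '' Set.range c)
    (by rw [← Ideal.map_span, hspan, Ideal.map_top]) ?_
  rintro _ ⟨_, ⟨x, rfl⟩, rfl⟩
  have e : X.basicOpen (X.presheaf.map (homOfLE hDB).op (c x)) =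
      X.basicOpen (X.presheaf.map (homOfLE ((inf_le_left : D ⊓ V x ≤ D).trans hDB)).op (c x)) := by
    rw [Scheme.basicOpen_res, Scheme.basicOpen_res]
    exact le_antisymm (le_inf (le_inf inf_le_left (inf_le_right.trans (hc x))) inf_le_right)
      (inf_le_inf inf_le_left le_rfl)
  show IsAffineOpen (X.basicOpen (X.presheaf.map (homOfLE hDB).op (c x)))
  rw [e]
  exact (hV x).basicOpen _

variable {S : Scheme.{u}} (G : Grpd.GroupoidScheme S) [IsFinite G.s] [IsFinite G.t] [G.U.IsSeparated]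
  [IsLocallyNoetherian G.U]

/-- The reduction of the objects. -/
noncomputable abbrev red : csub (⊤ : Closeds G.U) ⟶ G.U := cι ⊤

/-- Where the source is flat over the reduction, the arrows all landing in a basic open cut out a basic
open. -/
theorem exists_basicOpen_of_flat {V W : G.U.Opens} (hV : IsAffineOpen V)
    (hVW : ∀ q : G.R, G.s q ∈ V → G.t q ∈ W) (b : Γ(G.U, W))
    (hfl : ∀ z, red G (pullback.snd G.s (red G) z) ∈ V →
      ((pullback.snd G.s (red G)).stalkMap z).hom.Flat) :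
    ∃ g : Γ(G.U, V), ∀ x ∈ V, x ∈ G.U.basicOpen g ↔ ∀ q : G.R, G.s q = x → G.t q ∈ G.U.basicOpen b := by
  let ρ := red G
  let q := pullback.snd G.s ρ
  have : IsLocallyNoetherian (csub (⊤ : Closeds G.U)) := LocallyOfFiniteType.isLocallyNoetherian ρ
  have : IsFinite q := MorphismProperty.pullback_snd _ _ inferInstance
  let Vr := ρ ⁻¹ᵁ V
  have : IsAffine Vr.toScheme := hV.preimage ρ
  have : IsAffine (q ⁻¹ᵁ Vr).toScheme := (hV.preimage ρ).preimage q
  have : Flat ((q ⁻¹ᵁ Vr).ι ≫ q) := by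
    rw [Flat.iff_flat_stalkMap]
    intro y
    rw [Scheme.Hom.stalkMap_comp]
    exact (hfl _ y.2).comp (RingHom.Flat.of_bijective (ConcreteCategory.bijective_of_isIso ((q ⁻¹ᵁ Vr).ι.stalkMap y)))
  have : Flat (q ∣_ Vr) := by
    have sq : IsPullback (𝟙 _) (q ∣_ Vr) ((q ∣_ Vr) ≫ Vr.ι) Vr.ι :=
      IsPullback.of_vert_isIso_mono ⟨by simp⟩ |>.flip
    refine MorphismProperty.of_isPullback (P := @Flat) sq ?_
    rw [morphismRestrict_ι]; infer_instance
  have : IsFinite (q ∣_ Vr) := IsZariskiLocalAtTarget.restrict (P := @IsFinite) (f := q) inferInstance _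
  let α : (q ⁻¹ᵁ Vr).toScheme ⟶ G.U := (q ⁻¹ᵁ Vr).ι ≫ pullback.fst G.s ρ ≫ G.t
  have hα : ⊤ ≤ α ⁻¹ᵁ W := fun y _ => by
    show α y ∈ W
    simp only [α, Scheme.Hom.comp_apply]
    refine hVW _ ?_
    rw [← Scheme.Hom.comp_apply, pullback.condition, Scheme.Hom.comp_apply]
    exact y.2
  have hh : ∀ y, y ∈ (q ⁻¹ᵁ Vr).toScheme.basicOpen (α.appLE W ⊤ hα b) ↔ α y ∈ G.U.basicOpen b := fun y => by
    show _ ↔ y ∈ α ⁻¹ᵁ G.U.basicOpen b
    rw [Scheme.preimage_basicOpen, Scheme.Hom.appLE, CommRingCat.comp_apply, Scheme.basicOpen_res]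
    exact ⟨fun h => h.2, fun h => ⟨trivial, h⟩⟩
  obtain ⟨g₀, hg₀⟩ := exists_basicOpen_eq_forall_fibre (q ∣_ Vr) (α.appLE W ⊤ hα b)
  obtain ⟨g, hg⟩ := ρ.app_surjective V hV (Vr.topIso.hom g₀)
  refine ⟨g, fun x hx => ?_⟩
  obtain ⟨w, rfl⟩ : ∃ w, ρ w = x := (range_cι (⊤ : Closeds G.U)).ge trivial
  have e1 : ρ w ∈ G.U.basicOpen g ↔ (⟨w, hx⟩ : Vr.toScheme) ∈ Vr.toScheme.basicOpen g₀ := by
    show w ∈ ρ ⁻¹ᵁ G.U.basicOpen g ↔ _
    rw [Scheme.preimage_basicOpen, hg]
    have : Vr.ι ''ᵁ Vr.toScheme.basicOpen g₀ = (csub (⊤ : Closeds G.U)).basicOpen (Vr.topIso.hom g₀) := by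
      rw [Scheme.image_basicOpen]
      simp only [Scheme.Opens.topIso_hom, Scheme.Opens.ι_appIso, Iso.refl_inv]
      exact ((csub (⊤ : Closeds G.U)).basicOpen_res_eq _ _).symm
    rw [← this]
    exact ⟨fun ⟨z, hz, hzw⟩ => (Subtype.ext hzw : z = ⟨w, hx⟩) ▸ hz, fun hz => ⟨_, hz, rfl⟩⟩
  refine e1.trans ((hg₀ _).trans ?_)
  constructor
  · intro H r hr
    obtain ⟨z, hz₁, hz₂⟩ := Scheme.Pullback.exists_preimage_pullback (f := G.s) (g := ρ) r w hr
    have hzV : z ∈ q ⁻¹ᵁ Vr := by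
      show q z ∈ Vr
      rw [hz₂]; exact hx
    have := (hh ⟨z, hzV⟩).1 (H ⟨z, hzV⟩ (Subtype.ext ((morphismRestrict_base_coe q Vr _).trans hz₂)))
    simp only [α, Scheme.Hom.comp_apply] at this
    rw [← hz₁]
    exact this
  · intro H y hy
    refine (hh y).2 ?_
    simp only [α, Scheme.Hom.comp_apply]
    refine H _ ?_
    rw [← Scheme.Hom.comp_apply, pullback.condition, Scheme.Hom.comp_apply]
    exact congrArg ρ ((morphismRestrict_base_coe q Vr y).symm.trans (congrArg Subtype.val hy))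

/-- **Invariant affine neighbourhood of an orbit of codimension at most one.** -/
theorem exists_invariant_affine_dim_le_one (u : G.U)
    (hdim : ∀ r : G.R, G.s r = u → ringKrullDim (G.U.presheaf.stalk (G.t r)) ≤ 1) :
    ∃ W : G.U.Opens, IsAffineOpen W ∧ u ∈ W ∧ G.s ⁻¹ᵁ W = G.t ⁻¹ᵁ W := by
  classical
  have hid : ∀ x : G.U, G.s (G.e x) = x ∧ G.t (G.e x) = x := fun x => by
    rw [← Scheme.Hom.comp_apply, G.e_s, ← Scheme.Hom.comp_apply, G.e_t]; exact ⟨rfl, rfl⟩
  let E : Set G.U := ⇑G.t '' (⇑G.s ⁻¹' {u})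
  have hEfin : E.Finite := (G.s.finite_preimage_singleton u).image _
  have huE : u ∈ E := ⟨G.e u, (hid u).1, (hid u).2⟩
  have hEstep : ∀ q : G.R, G.s q ∈ E → G.t q ∈ E := fun q ⟨r, hr, hrq⟩ => by
    obtain ⟨m, hm, hm'⟩ := saturation_eq G (r' := q) hr hrq.symm
    exact ⟨m, hm, hm'⟩
  have hEdim : ∀ x ∈ E, ringKrullDim (G.U.presheaf.stalk x) ≤ 1 := by
    rintro _ ⟨r, hr, rfl⟩; exact hdim r hr
  obtain ⟨W, hW, hEW⟩ := AffineCodimOne.exists_affine (X := G.U) (fun U hU => by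
    have : CompactSpace U := isCompact_iff_compactSpace.1 hU
    have : IsNoetherian U.toScheme := ⟨⟩
    exact NoetherianSpace.finite_irreducibleComponents (α := U.toScheme)) hEfin.toFinset
    (fun x hx => ⟨inferInstance, hEdim x (hEfin.mem_toFinset.1 hx)⟩)
  replace hEW : E ⊆ W := fun x hx => hEW x (hEfin.mem_toFinset.2 hx)
  let W' := core G W
  have hW'W : W' ≤ W := core_le G W
  have hW'inv := core_invariant G W
  have hEW' : ∀ x ∈ E, x ∈ W' := fun x hx => mem_core G W x fun q hq => hEW (hEstep q (hq ▸ hx))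
  -- the non-flat locus and its saturation
  let ρ := red G
  have : IsLocallyNoetherian (csub (⊤ : Closeds G.U)) := LocallyOfFiniteType.isLocallyNoetherian ρ
  have : IsReduced (csub (⊤ : Closeds G.U)) := Props12.isReduced_subscheme_vanishingIdeal _
  let qq := pullback.snd G.s ρ
  have : IsFinite qq := MorphismProperty.pullback_snd _ _ inferInstance
  let F0 : Set G.U := ⇑ρ '' (⇑qq '' {z | (qq.stalkMap z).hom.Flat}ᶜ)
  have hF0c : IsClosed F0 := ρ.isClosedMap _ (qq.isClosedMap _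
    (EGA43.FlatDescent.isOpen_flat_stalkMap qq).isClosed_compl)
  have hF0max : ∀ x ∈ F0, x ∉ AmpleOne.gens (Set.univ : Set G.U) := by
    rintro _ ⟨w, ⟨z, hz, rfl⟩, rfl⟩ hmax
    refine hz (flat_stalkMap_of_maximal qq z fun y hy => ?_)
    exact ρ.isClosedEmbedding.injective (hmax.2 _ trivial (hy.map ρ.continuous))
  let F : Set G.U := ⇑G.t '' (⇑G.s ⁻¹' F0)
  have hFc : IsClosed F := G.t.isClosedMap _ (hF0c.preimage G.s.continuous)
  have hFinv : ∀ q : G.R, G.s q ∈ F ↔ G.t q ∈ F := fun q => Set.ext_iff.1 (saturation_invariant G F0) q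
  have hF0F : F0 ⊆ F := fun x hx => ⟨G.e x, by show G.s (G.e x) ∈ F0; rw [(hid x).1]; exact hx, (hid x).2⟩
  have hEmax : ∀ e ∈ E, ∀ y ∈ F, y ⤳ e → y = e := by
    intro e he y hy hye
    by_contra hne
    obtain ⟨r, hr, hry⟩ := hy
    obtain ⟨r', hrr', hr'⟩ := G.s.isClosedMap.specializingMap (show G.s (G.i r) ⤳ e by
      rw [s_i_apply, hry]; exact hye)
    have hx : G.s r ⤳ G.t r' := by
      have := hrr'.map G.t.continuous
      rwa [t_i_apply] at this
    have he' : G.t r' ∈ E := hEstep r' (hr'.symm ▸ he)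
    by_cases hxe : G.s r = G.t r'
    · have hyE : y ∈ E := hry ▸ hEstep r (hxe.symm ▸ he')
      obtain ⟨r₁, hr₁, hr₁y⟩ := hyE
      obtain ⟨r₀, hr₀, hr₀e⟩ := he
      obtain ⟨m, hm₁, hm₂⟩ := exists_arrow_trans G r₀ (G.i r₁) (by rw [t_i_apply]; exact hr₀.trans hr₁.symm)
      rw [hr₀e] at hm₁
      rw [s_i_apply, hr₁y] at hm₂
      refine not_specializes G m ?_ ?_
      · rw [hm₁, hm₂]; exact hne
      · rw [hm₁, hm₂]; exact hye
    · exact hF0max _ hr (AmpleOne.mem_gens_univ_of_dim_le_one (hEdim _ he') hx hxe)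
  -- a function on `W`
  obtain ⟨b, hbW', hEb, hbinv⟩ : ∃ b : Γ(G.U, W), G.U.basicOpen b ≤ W' ∧ (∀ x ∈ E, x ∈ G.U.basicOpen b) ∧
      ∀ q : G.R, G.s q ∈ F → G.s q ∈ G.U.basicOpen b → G.t q ∈ G.U.basicOpen b := by
    by_cases hEF : ∀ x ∈ E, x ∉ F
    · obtain ⟨b, hb, hbE⟩ := exists_basicOpen_finset hW (O := W' ⊓ ⟨Fᶜ, hFc.isOpen_compl⟩)
        (inf_le_left.trans hW'W) hEfin.toFinset
        (fun x hx => ⟨hEW' x (hEfin.mem_toFinset.1 hx), hEF x (hEfin.mem_toFinset.1 hx)⟩)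
      exact ⟨b, hb.trans inf_le_left, fun x hx => hbE x (hEfin.mem_toFinset.2 hx),
        fun q hq hqb => absurd hq (hb hqb).2⟩
    push Not at hEF
    obtain ⟨e₀, he₀, he₀F⟩ := hEF
    have hEF : ∀ x ∈ E, x ∈ F := by
      obtain ⟨r₀, hr₀, rfl⟩ := he₀
      have huF : u ∈ F := hr₀ ▸ (hFinv r₀).2 he₀F
      rintro _ ⟨r, hr, rfl⟩
      exact (hFinv r).1 (hr.symm ▸ huF)
    let G1 := restrict G W' hW'inv
    let C1 : Closeds W'.toScheme := ⟨W'.ι ⁻¹' F, hFc.preimage W'.ι.continuous⟩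
    let i1 : csub C1 ⟶ G1.U := cι C1
    have : IsLocallyNoetherian (csub C1) := LocallyOfFiniteType.isLocallyNoetherian (cι C1)
    let G2 := pbGrpd G1 i1
    have h1 : IsFinite G1.s := IsZariskiLocalAtTarget.restrict (P := @IsFinite) (f := G.s) inferInstance _
    have h1' : IsClosedImmersion i1 := inferInstanceAs (IsClosedImmersion (cι C1))
    have : IsFinite (pullback.fst G1.t i1) := MorphismProperty.pullback_fst _ _ inferInstance
    have hs2 : IsFinite G2.s := MorphismProperty.pullback_snd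
      (pullback.fst G1.t i1 ≫ G1.s) i1 inferInstance
    have ht2 : IsFinite G2.t := by
      have := isIso_i G2
      exact G2.i_s ▸ inferInstance
    have : IsLocallyNoetherian G2.U := ‹IsLocallyNoetherian (csub C1)›
    let pt : G2.U → G.U := fun x => W'.ι (i1 x)
    have hptF : ∀ x, pt x ∈ F := fun x => (range_cι C1).le ⟨x, rfl⟩
    have hptinj : Function.Injective pt := fun x y h =>
      (cι C1).isClosedEmbedding.injective (W'.ι.isOpenEmbedding.injective h)
    let arr : G2.R → G.R := fun r => (G.s ⁻¹ᵁ W').ι (pbρ G1 i1 r)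
    have harrs : ∀ r, G.s (arr r) = pt (G2.s r) := fun r => by
      have := congrArg (fun φ : pbR G1 i1 ⟶ G1.U => W'.ι (φ r)) (pbρ_s G1 i1)
      simp only [Scheme.Hom.comp_apply] at this
      refine Eq.trans ?_ this
      show ((G.s ⁻¹ᵁ W').ι ≫ G.s) (pbρ G1 i1 r) = ((G.s ∣_ W') ≫ W'.ι) (pbρ G1 i1 r)
      rw [morphismRestrict_ι]
    have harrt : ∀ r, G.t (arr r) = pt (G2.t r) := fun r => by
      have := congrArg (fun φ : pbR G1 i1 ⟶ G1.U => W'.ι (φ r)) (pbρ_t G1 i1)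
      simp only [Scheme.Hom.comp_apply] at this
      refine Eq.trans ?_ this
      show ((G.s ⁻¹ᵁ W').ι ≫ G.t) (pbρ G1 i1 r) = (restrictT G W' hW'inv ≫ W'.ι) (pbρ G1 i1 r)
      rw [restrictT_ι]
    have hlift : ∀ x ∈ E, ∃ a : G2.U, pt a = x := fun x hx => by
      obtain ⟨a, ha⟩ := (range_cι C1).ge (show (⟨x, hEW' x hx⟩ : W'.toScheme) ∈ (C1 : Set W'.toScheme) from
        hEF x hx)
      exact ⟨a, congrArg W'.ι ha⟩
    choose lift hlift using hlift
    let A := Γ(G.U, W)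
    let jj : G2.U ⟶ Spec (CommRingCat.of A) := i1 ≫ G.U.homOfLE hW'W ≫ hW.isoSpec.hom
    have : IsImmersion jj := inferInstanceAs (IsImmersion (cι C1 ≫ G.U.homOfLE hW'W ≫ hW.isoSpec.hom))
    have hjj : ∀ a, hW.fromSpec (jj a) = pt a := fun a => by
      rw [← Scheme.Hom.comp_apply]
      show ((cι C1 ≫ G.U.homOfLE hW'W ≫ hW.isoSpec.hom) ≫ hW.fromSpec) a = _
      simp only [Category.assoc, hW.isoSpec_hom_fromSpec, Scheme.homOfLE_ι]
      rfl
    let Z : Set (Spec (CommRingCat.of A)) := hW.fromSpec ⁻¹' (W' : Set G.U)ᶜ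
    let I : Ideal A := PrimeSpectrum.vanishingIdeal Z
    have hZ : PrimeSpectrum.zeroLocus (I : Set A) = Z := by
      rw [PrimeSpectrum.zeroLocus_vanishingIdeal_eq_closure]
      exact (W'.isOpen.isClosed_compl.preimage hW.fromSpec.continuous).closure_eq
    obtain ⟨h, hhI, -, hhu, hhinv⟩ := Groth.Agent.S1885.result S G2 hEfin.toFinset.card
      (fun i => lift _ (hEfin.mem_toFinset.1 (hEfin.toFinset.equivFin.symm i).2))
      (fun i r hr x hx => by
        refine hptinj (hEmax _ ?_ _ (hptF x) (hx.map (cι C1 ≫ W'.ι).continuous))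
        show pt (G2.t r) ∈ E
        rw [← harrt]
        refine hEstep _ ?_
        rw [harrs, hr, hlift]
        exact hEfin.mem_toFinset.1 (hEfin.toFinset.equivFin.symm i).2)
      A jj I (fun a ha => by
        rw [hZ] at ha
        exact ha (by rw [hjj]; exact (i1 a).2))
      (by
        rw [hZ]
        refine (congrArg IsClosed (show (Z ∪ Set.range jj : Set (Spec (CommRingCat.of A))) =
          hW.fromSpec ⁻¹' ((W' : Set G.U)ᶜ ∪ F) from ?_)).mpr
          ((W'.isOpen.isClosed_compl.union hFc).preimage hW.fromSpec.continuous)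
        ext p
        constructor
        · rintro (hp | ⟨a, rfl⟩)
          · exact Or.inl hp
          · exact Or.inr (by rw [hjj]; exact hptF a)
        · rintro (hp | hp)
          · exact Or.inl hp
          · by_cases hpW : hW.fromSpec p ∈ W'
            · obtain ⟨a, ha⟩ := (range_cι C1).ge
                (show (⟨_, hpW⟩ : W'.toScheme) ∈ (C1 : Set W'.toScheme) from hp)
              refine Or.inr ⟨a, hW.fromSpec.isOpenEmbedding.injective ?_⟩
              rw [hjj]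
              exact congrArg W'.ι ha
            · exact Or.inl hpW)
    have hmem : ∀ p, hW.fromSpec p ∈ G.U.basicOpen h ↔ h ∉ p.asIdeal := fun p => by
      rw [← Scheme.Hom.mem_preimage, hW.fromSpec_preimage_basicOpen]; rfl
    have hΩ : ∀ a, pt a ∈ G.U.basicOpen h ↔ a ∈ jj ⁻¹ᵁ PrimeSpectrum.basicOpen h := fun a => by
      rw [← hjj, hmem]; rfl
    refine ⟨h, fun x hx => ?_, fun x hx => ?_, fun q hqF hqh => ?_⟩
    · obtain ⟨p, rfl⟩ := hW.range_fromSpec.ge (G.U.basicOpen_le h hx)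
      by_contra hxW'
      exact (hmem p).1 hx ((PrimeSpectrum.mem_vanishingIdeal _ _).1 hhI p hxW')
    · have := (hΩ _).2 (hhu (hEfin.toFinset.equivFin ⟨x, hEfin.mem_toFinset.2 hx⟩))
      rw [hlift] at this
      simpa using this
    · have hqW' : q ∈ G.s ⁻¹ᵁ W' := by
        show G.s q ∈ W'
        obtain ⟨p, hp⟩ := hW.range_fromSpec.ge (G.U.basicOpen_le h hqh)
        by_contra hn
        exact (hmem p).1 (hp.symm ▸ hqh) ((PrimeSpectrum.mem_vanishingIdeal _ _).1 hhI p (by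
          show hW.fromSpec p ∉ W'; rw [hp]; exact hn))
      have htW' : G.t q ∈ W' := hW'inv.le hqW'
      let q1 : G1.R := ⟨q, hqW'⟩
      have ht1 : W'.ι (G1.t q1) = G.t q := by
        show (restrictT G W' hW'inv ≫ W'.ι) q1 = _
        rw [restrictT_ι]; rfl
      have hs1 : W'.ι (G1.s q1) = G.s q := by
        show ((G.s ∣_ W') ≫ W'.ι) q1 = _
        rw [morphismRestrict_ι]; rfl
      obtain ⟨a, ha⟩ := (range_cι C1).ge (show G1.t q1 ∈ (C1 : Set W'.toScheme) from by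
        show W'.ι (G1.t q1) ∈ F
        rw [ht1]; exact (hFinv q).1 hqF)
      obtain ⟨c, hc⟩ := (range_cι C1).ge (show G1.s q1 ∈ (C1 : Set W'.toScheme) from by
        show W'.ι (G1.s q1) ∈ F
        rw [hs1]; exact hqF)
      obtain ⟨y, hy₁, hy₂⟩ := Scheme.Pullback.exists_preimage_pullback (f := G1.t) (g := i1) q1 a ha.symm
      obtain ⟨z, hz₁, hz₂⟩ := Scheme.Pullback.exists_preimage_pullback (f := pullback.fst G1.t i1 ≫ G1.s)
        (g := i1) y c (by rw [Scheme.Hom.comp_apply, hy₁]; exact hc.symm)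
      have harr : arr z = q := by
        show (G.s ⁻¹ᵁ W').ι ((pullback.fst _ _ ≫ pullback.fst G1.t i1) z) = q
        rw [Scheme.Hom.comp_apply, hz₁, hy₁]; rfl
      have h3 : G2.s z ∈ jj ⁻¹ᵁ PrimeSpectrum.basicOpen h := (hΩ _).1 (by rw [← harrs, harr]; exact hqh)
      have h4 := (hΩ _).2 (hhinv.le h3)
      rwa [← harrt, harr] at h4
  -- the largest invariant open inside `D(b)`
  let B := G.U.basicOpen b
  have hBW' : B ≤ W' := hbW'
  refine ⟨core G B, isAffineOpen_of_local (hW.basicOpen b) (core_le G B) fun x hxB => ?_,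
    mem_core G B u fun q hq => hEb _ ⟨q, hq, rfl⟩, core_invariant G B⟩
  by_cases hxD : x ∈ core G B
  · obtain ⟨V, hV, hxV, hVD⟩ := exists_isAffineOpen_mem_and_subset hxD
    exact ⟨V, hxV, (inf_eq_right.2 hVD : core G B ⊓ V = V).symm ▸ hV⟩
  have hxF : x ∉ F := fun hxF => hxD (mem_core G B x fun q hq =>
    hbinv q (hq.symm ▸ hxF) (hq.symm ▸ hxB))
  obtain ⟨V, hV, hxV, hVB⟩ := exists_isAffineOpen_mem_and_subset (x := x)
    (U := B ⊓ ⟨Fᶜ, hFc.isOpen_compl⟩) ⟨hxB, hxF⟩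
  obtain ⟨g, hg⟩ := exists_basicOpen_of_flat G hV
    (fun q hq => hW'W (hW'inv.le (show q ∈ G.s ⁻¹ᵁ W' from hBW' (hVB hq).1))) b fun z hz => by
      by_contra hn
      exact (hVB hz).2 (hF0F ⟨_, ⟨z, hn, rfl⟩, rfl⟩)
  refine ⟨V, hxV, ?_⟩
  have : core G B ⊓ V = G.U.basicOpen g := by
    ext y
    constructor
    · rintro ⟨hyD, hyV⟩
      exact (hg y hyV).2 fun q hq => core_le G B ((core_invariant G B).le
        (show q ∈ G.s ⁻¹ᵁ core G B from (hq.symm ▸ hyD : G.s q ∈ core G B)))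
    · intro hy
      exact ⟨mem_core G B y ((hg y (G.U.basicOpen_le g hy)).1 hy), G.U.basicOpen_le g hy⟩
  rw [this]
  exact hV.basicOpen g

end Groth.Agent.CAlgH3.GrpdCodimOne
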