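import Groth.Agent.GrpdLib.GenericThickMain
import Mathlib.AlgebraicGeometry.Limits

/-!
# The invariant stratification of the objects of a finite groupoid
-/

set_option autoImplicit false
set_option backward.isDefEq.respectTransparency.types false
universe u

open CategoryTheory CategoryTheory.Limits AlgebraicGeometry TopologicalSpace
open Groth.Agent.GrpdLib Groth.Agent.GrpdLib.GenericThick

namespace Groth.Agent.CAlgH3.GrpdStrata

/-- Gluing ideal sheaves along a clopen decomposition of any size. -/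
theorem exists_glue {Y : Scheme.{u}} {ι : Type u} (U : ι → Y.Opens)
    (hdis : Pairwise fun k l => Disjoint (U k) (U l)) (hU : ⨆ k, U k = ⊤)
    (I : ∀ k, (U k).toScheme.IdealSheafData) :
    ∃ J : Y.IdealSheafData, ∀ k, J.comap (U k).ι = I k := by
  let Zs : ι → Scheme.{u} := fun k => (I k).subscheme
  let d : ∐ Zs ⟶ Y := Sigma.desc fun k => (I k).subschemeι ≫ (U k).ι
  have hd : ∀ k y, d (Sigma.ι Zs k y) = (U k).ι ((I k).subschemeι y) := fun k y => by
    rw [← Scheme.Hom.comp_apply]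
    simp only [d, Sigma.ι_desc, Scheme.Hom.comp_apply]
  have sq : ∀ k, IsPullback (I k).subschemeι (Sigma.ι Zs k) (U k).ι d := fun k => by
    refine IsOpenImmersion.isPullback _ _ _ _ (by simp [d, Zs]) ?_
    ext p
    obtain ⟨⟨l, y⟩, rfl⟩ := (sigmaMk Zs).surjective p
    rw [sigmaMk_mk]
    show d (Sigma.ι Zs l y) ∈ (U k).ι.opensRange ↔ Sigma.ι Zs l y ∈ (Sigma.ι Zs k).opensRange
    rw [Scheme.Opens.opensRange_ι, hd]
    constructor
    · intro h
      by_cases hlk : l = k
      · subst hlk; exact ⟨y, rfl⟩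
      · exact (Set.disjoint_left.1 (Opens.coe_disjoint.2 (hdis hlk)) ((I l).subschemeι y).2 h).elim
    · rintro ⟨z, hz⟩
      have h2 := congrArg d hz
      rw [hd, hd] at h2
      rw [← h2]
      exact ((I k).subschemeι z).2
  have : IsClosedImmersion d := by
    refine IsZariskiLocalAtTarget.of_iSup_eq_top (P := @IsClosedImmersion) U hU fun k => ?_
    rw [← (isPullback_morphismRestrict d (U k)).isoIsPullback_hom_fst _ _ (sq k)]
    infer_instance
  refine ⟨d.ker, fun k => ?_⟩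
  rw [← Scheme.IdealSheafData.ker_fst_of_isClosedImmersion, ← (sq k).isoPullback_inv_fst,
    Scheme.Hom.ker_comp_of_isIso, Scheme.IdealSheafData.ker_subschemeι]

variable {S : Scheme.{u}} (G : Grpd.GroupoidScheme S) [IsFinite G.s] [IsFinite G.t]

set_option maxHeartbeats 1000000 in
/-- **The stratification.** -/
theorem exists_strata : ∃ (V : G.U.Opens) (V' : V.toScheme.IdealSheafData),
    G.s ⁻¹ᵁ V = G.t ⁻¹ᵁ V ∧ V'.support = ⊤ ∧
    (∃ φ : pullback G.s (V'.subschemeι ≫ V.ι) ≅ pullback G.t (V'.subschemeι ≫ V.ι),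
      φ.hom ≫ pullback.fst G.t (V'.subschemeι ≫ V.ι) = pullback.fst G.s (V'.subschemeι ≫ V.ι)) ∧
    (∀ u : G.U, ∃ r : G.R, G.t r = u ∧ G.s r ∈ closure (V : Set G.U)) ∧
    Mor2.IsFinLocFree (pullback.snd G.s (V'.subschemeι ≫ V.ι)) ∧
    Mor2.IsFinLocFree (pullback.snd G.t (V'.subschemeι ≫ V.ι)) ∧
    ((∀ r (U : G.U.affineOpens), ((FitStrat.fit G.s r).ideal U).FG) →
      LocallyOfFinitePresentation V'.subschemeι ∧
        ∀ u : G.U, (∀ r : G.R, G.s r = u → ∀ x : G.U, x ⤳ G.t r → x = G.t r) → u ∈ V) := by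
  classical
  let Z := FitStrat.fit G.s
  have hanti : ∀ {a b : ℕ}, a ≤ b → ∀ x, x ∈ (Z b).support → x ∈ (Z a).support := fun {a b} hab x hx =>
    Scheme.IdealSheafData.support_antitone (FitStrat.fit_mono G.s hab) hx
  have hsinv : ∀ (r : ℕ) (q : G.R), G.s q ∈ (Z r).support ↔ G.t q ∈ (Z r).support := fun r =>
    mem_support_iff_of_comap_eq G (comap_fit_invariant G r)
  have hZ0 : ∀ x : G.U, x ∈ (Z 0).support := fun x => by
    rw [show Z 0 = ⊥ from FitStrat.fit_zero_eq_bot G.s G.e G.e_s, Scheme.IdealSheafData.support_bot]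
    trivial
  let str : ℕ → G.U.Opens := fun r =>
    ⟨interior ((Z r).support : Set G.U) ∩ ((Z (r + 1)).support : Set G.U)ᶜ,
      isOpen_interior.inter (Z (r + 1)).support.isClosed.isOpen_compl⟩
  let W : ℕ → G.U.Opens := fun r => core G (str r)
  have hWstr : ∀ r, W r ≤ str r := fun r => core_le G _
  have hWinv : ∀ r, G.s ⁻¹ᵁ W r = G.t ⁻¹ᵁ W r := fun r => core_invariant G _
  have hdisj : Pairwise fun k l : ℕ => Disjoint (W k) (W l) := fun k l hkl => by
    show Disjoint (W k) (W l)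
    rw [← Opens.coe_disjoint, Set.disjoint_left]
    intro x hk hl
    have h1 := hWstr k hk
    have h2 := hWstr l hl
    rcases Nat.lt_or_gt_of_ne hkl with h | h
    · exact h1.2 (hanti h _ (interior_subset h2.1))
    · exact h2.2 (hanti h _ (interior_subset h1.1))
  let V : G.U.Opens := ⨆ k, W k
  have hVinv : G.s ⁻¹ᵁ V = G.t ⁻¹ᵁ V := Opens.ext (Set.ext fun q => by
    show G.s q ∈ ⨆ k, W k ↔ G.t q ∈ ⨆ k, W k
    simp only [Opens.mem_iSup]
    exact exists_congr fun k => Set.ext_iff.1 (congrArg (fun X : Opens G.R => (X : Set G.R)) (hWinv k)) q)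
  have hdense : ∀ u : G.U, ∃ r : G.R, G.t r = u ∧ G.s r ∈ closure (V : Set G.U) := by
    by_contra! hcon
    obtain ⟨u, hu⟩ := hcon
    let C : Set G.U := ⇑G.t '' (⇑G.s ⁻¹' closure (V : Set G.U))
    let O : G.U.Opens := ⟨Cᶜ, (G.t.isClosedMap _ (isClosed_closure.preimage G.s.continuous)).isOpen_compl⟩
    have hO : ∀ q : G.R, G.s q ∈ O ↔ G.t q ∈ O := fun q =>
      not_congr (Set.ext_iff.1 (saturation_invariant G (closure (V : Set G.U))) q)
    have huO : u ∈ O := fun ⟨r, hr, hru⟩ => hu r hru hr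
    have hex : ∃ r, ∃ x ∈ O, x ∉ (Z (r + 1)).support := by
      obtain ⟨r, hr⟩ := FitStrat.exists_notMem_support G.s u
      exact ⟨r, u, huO, fun h => hr (hanti (Nat.le_succ r) _ h)⟩
    let r := Nat.find hex
    obtain ⟨x, hxO, hxr⟩ : ∃ x ∈ O, x ∉ (Z (r + 1)).support := Nat.find_spec hex
    have hOZ : (O : Set G.U) ⊆ (Z r).support := fun y hy => by
      by_cases h : r = 0
      · rw [h]; exact hZ0 y
      · obtain ⟨k, hk⟩ := Nat.exists_eq_succ_of_ne_zero h
        have h1 := Nat.find_min hex (show k < r by omega)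
        rw [hk]
        exact not_not.1 fun hn => h1 ⟨y, hy, hn⟩
    let N : G.U.Opens := O ⊓ ⟨((Z (r + 1)).support : Set G.U)ᶜ, (Z (r + 1)).support.isClosed.isOpen_compl⟩
    have hN : N ≤ str r := fun y hy =>
      ⟨interior_maximal (fun z (hz : z ∈ N) => hOZ hz.1) N.isOpen hy, hy.2⟩
    refine hxO ⟨G.e x, ?_, by rw [← Scheme.Hom.comp_apply, G.e_t]; rfl⟩
    show G.s (G.e x) ∈ closure (V : Set G.U)
    rw [← Scheme.Hom.comp_apply, G.e_s]
    refine subset_closure (Opens.mem_iSup.2 ⟨r, mem_core G _ x fun q hq => hN ?_⟩)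
    exact ⟨(hO q).1 (hq.symm ▸ hxO), fun h => hxr (hq ▸ (hsinv (r + 1) q).2 h)⟩
  let P : ℕ → V.toScheme.Opens := fun k => V.ι ⁻¹ᵁ W k
  have hPdisj : Pairwise fun k l : ℕ => Disjoint (P k) (P l) := fun k l hkl => by
    show Disjoint (P k) (P l)
    rw [← Opens.coe_disjoint]
    exact (Opens.coe_disjoint.2 (hdisj hkl)).preimage _
  have hPtop : ⨆ k, P k = ⊤ := eq_top_iff.2 fun y _ => by
    obtain ⟨k, hk⟩ := Opens.mem_iSup.1 (show V.ι y ∈ ⨆ k, W k from y.2)
    exact Opens.mem_iSup.2 ⟨k, hk⟩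
  obtain ⟨J, hJ'⟩ := exists_glue (fun k : ULift.{u} ℕ => P k.down) (fun k l hkl => hPdisj fun h => hkl (ULift.ext _ _ h))
    (by rw [← hPtop]; exact Equiv.iSup_comp (Equiv.ulift.{u, 0} (α := ℕ)) (g := P))
    (fun k => (Z k.down).comap ((P k.down).ι ≫ V.ι))
  have hJ : ∀ k, J.comap (P k).ι = (Z k).comap ((P k).ι ≫ V.ι) := fun k => hJ' ⟨k⟩
  have hJsup : J.support = ⊤ := TopologicalSpace.Closeds.ext (Set.eq_univ_of_forall fun y => by
    obtain ⟨k, hk⟩ := Opens.mem_iSup.1 (hPtop ▸ Opens.mem_top y : y ∈ ⨆ k, P k)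
    have h := congrArg (fun I : (P k).toScheme.IdealSheafData => (⟨y, hk⟩ : (P k).toScheme) ∈ I.support) (hJ k)
    simp only [Scheme.IdealSheafData.support_comap] at h
    exact (Iff.of_eq h).2 (interior_subset (hWstr k hk).1 : V.ι y ∈ ((Z k).support : Set G.U)))
  have hinvJ : J.comap (G.s.resLE V (G.s ⁻¹ᵁ V) le_rfl) = J.comap (G.t.resLE V (G.s ⁻¹ᵁ V) hVinv.le) := by
    refine IdealGlue.eq_of_comap_eq (fun k => (G.s.resLE V (G.s ⁻¹ᵁ V) le_rfl) ⁻¹ᵁ P k) ?_ fun k => ?_
    · rw [← Scheme.Hom.preimage_iSup, hPtop]; rfl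
    · set N := (G.s.resLE V (G.s ⁻¹ᵁ V) le_rfl) ⁻¹ᵁ P k
      have main : ∀ (a : G.R ⟶ G.U) (ha : G.s ⁻¹ᵁ V ≤ a ⁻¹ᵁ V),
          (∀ y : N, a ((G.s ⁻¹ᵁ V).ι y.1) ∈ W k) →
          (J.comap (a.resLE V (G.s ⁻¹ᵁ V) ha)).comap N.ι = ((Z k).comap a).comap (N.ι ≫ (G.s ⁻¹ᵁ V).ι) := by
        intro a ha hrange
        have hr : Set.range (N.ι ≫ a.resLE V (G.s ⁻¹ᵁ V) ha) ⊆ Set.range (P k).ι := by
          rintro _ ⟨y, rfl⟩
          rw [Scheme.Opens.range_ι]
          show V.ι ((N.ι ≫ a.resLE V (G.s ⁻¹ᵁ V) ha) y) ∈ W k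
          rw [← Scheme.Hom.comp_apply, Category.assoc, Scheme.Hom.resLE_comp_ι, Scheme.Hom.comp_apply,
            Scheme.Hom.comp_apply]
          exact hrange y
        rw [← Scheme.IdealSheafData.comap_comp, ← IsOpenImmersion.lift_fac _ _ hr,
          Scheme.IdealSheafData.comap_comp, hJ k, ← Scheme.IdealSheafData.comap_comp,
          ← Scheme.IdealSheafData.comap_comp, ← Category.assoc, IsOpenImmersion.lift_fac, Category.assoc,
          Scheme.Hom.resLE_comp_ι, Category.assoc]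
      have hsW : ∀ y : N, G.s ((G.s ⁻¹ᵁ V).ι y.1) ∈ W k := fun y => by
        have h : V.ι ((G.s.resLE V (G.s ⁻¹ᵁ V) le_rfl) y.1) ∈ W k := y.2
        rwa [← Scheme.Hom.comp_apply, Scheme.Hom.resLE_comp_ι, Scheme.Hom.comp_apply] at h
      rw [main G.s le_rfl hsW, main G.t hVinv.le fun y => orbit_subset_of_invariant G (hWinv k) _ (hsW y),
        comap_fit_invariant G k]
  have hfree : Mor2.IsFinLocFree (pullback.snd G.s (J.subschemeι ≫ V.ι)) := by
    have hloc : ∀ k, Mor2.IsFinLocFree (pullback.snd G.s (J.subschemeι ≫ V.ι) ∣_ (J.subschemeι ⁻¹ᵁ P k)) :=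
      fun k => by
        have sq := (isPullback_morphismRestrict (pullback.snd G.s (J.subschemeι ≫ V.ι)) (J.subschemeι ⁻¹ᵁ P k)).flip
        refine isFinLocFree_of_stratum G (sq.paste_horiz (IsPullback.of_hasPullback G.s _)) k ?_ fun y => ?_
        · rw [← Category.assoc, Scheme.IdealSheafData.comap_comp]
          have hr : Set.range ((J.subschemeι ⁻¹ᵁ P k).ι ≫ J.subschemeι) ⊆ Set.range (P k).ι := by
            rintro _ ⟨y, rfl⟩
            rw [Scheme.Opens.range_ι]
            exact y.2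
          rw [← Scheme.IdealSheafData.comap_comp, ← IsOpenImmersion.lift_fac _ _ hr, Category.assoc,
            Scheme.IdealSheafData.comap_comp, ← hJ k, ← Scheme.IdealSheafData.comap_comp,
            IsOpenImmersion.lift_fac, Scheme.IdealSheafData.comap_comp]
          refine le_bot_iff.1 ((Scheme.IdealSheafData.comap_mono _ (Scheme.IdealSheafData.le_map_iff_comap_le.1
            (by rw [Scheme.IdealSheafData.map_bot, Scheme.IdealSheafData.ker_subschemeι] : J ≤ _))).trans ?_)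
          exact le_of_eq (Scheme.IdealSheafData.comap_bot _)
        · rw [Scheme.Hom.comp_apply, Scheme.Hom.comp_apply]
          exact (hWstr k y.2).2
    have htop : ⨆ k, J.subschemeι ⁻¹ᵁ P k = ⊤ := by rw [← Scheme.Hom.preimage_iSup, hPtop]; rfl
    exact ⟨(IsZariskiLocalAtTarget.iff_of_iSup_eq_top (P := @IsFinite) _ htop).2 fun k => (hloc k).1,
      (IsZariskiLocalAtTarget.iff_of_iSup_eq_top (P := @Flat) _ htop).2 fun k => (hloc k).2.1,
      (IsZariskiLocalAtTarget.iff_of_iSup_eq_top (P := @LocallyOfFinitePresentation) _ htop).2 fun k => (hloc k).2.2⟩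
  refine ⟨V, J, hVinv, hJsup, exists_iso_pullback G V hVinv J hinvJ, hdense, hfree,
    isFinLocFree_snd_t G _ hfree, fun hfg => ⟨?_, fun u hu => ?_⟩⟩
  · refine (IsZariskiLocalAtTarget.iff_of_iSup_eq_top (P := @LocallyOfFinitePresentation) P hPtop).2 fun k => ?_
    have h1 : LocallyOfFinitePresentation ((Z k).comap ((P k).ι ≫ V.ι)).subschemeι := by
      have : LocallyOfFinitePresentation (Z k).subschemeι :=
        H8Lim.locallyOfFinitePresentation_of_ker_fg _ fun U => by rw [Scheme.IdealSheafData.ker_subschemeι]; exact hfg _ U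
      rw [← Scheme.IdealSheafData.comapIso_hom_fst]
      infer_instance
    rw [← hJ k] at h1
    have h2 : LocallyOfFinitePresentation (pullback.fst (P k).ι J.subschemeι) := by
      rw [← Scheme.IdealSheafData.comapIso_inv_subschemeι]
      infer_instance
    rw [← (isPullback_morphismRestrict J.subschemeι (P k)).isoPullback_hom_fst]
    infer_instance
  · have hex : ∃ r, u ∉ (Z (r + 1)).support := by
      obtain ⟨r, hr⟩ := FitStrat.exists_notMem_support G.s u
      exact ⟨r, fun h => hr (hanti (Nat.le_succ r) _ h)⟩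
    let r := Nat.find hex
    have hu' : u ∉ (Z (r + 1)).support := Nat.find_spec hex
    have huZ : u ∈ (Z r).support := by
      by_cases h : r = 0
      · rw [h]; exact hZ0 u
      · obtain ⟨k, hk⟩ := Nat.exists_eq_succ_of_ne_zero h
        rw [hk]
        exact not_not.1 (Nat.find_min hex (show k < r by omega))
    refine Opens.mem_iSup.2 ⟨r, mem_core G _ u fun q hq => ⟨?_, fun h => ?_⟩⟩
    · obtain ⟨N, hxN, hN⟩ := exists_open_subset_support (Z r) (G.t q) (hu q hq) (hfg r)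
        ((hsinv r q).1 (hq.symm ▸ huZ))
      exact interior_maximal hN N.isOpen hxN
    · have h' := (hsinv (r + 1) q).2 h
      rw [hq] at h'
      exact hu' h'

end Groth.Agent.CAlgH3.GrpdStrata
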