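import Mathlib
import Groth.Agent.CAlgH3.GrMinimal

/-! Hilbert-Burch: maximal minors and degrees of a homogeneous presentation matrix. -/

universe u

open Matrix

namespace Groth.Agent.CAlgH3.HilbertBurchDeg

section

variable {R : Type*} [CommRing R] {t : ℕ}

/-- The matrix `Φ` with the column `v` put in front. -/
def aug (Φ : Matrix (Fin (t + 1)) (Fin t) R) (v : Fin (t + 1) → R) : Matrix (Fin (t + 1)) (Fin (t + 1)) R :=
  Matrix.of fun i => Fin.cons (v i) (Φ i)

/-- The signed maximal minor of `Φ` omitting the row `k`. -/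
def minor (Φ : Matrix (Fin (t + 1)) (Fin t) R) (k : Fin (t + 1)) : R := (aug Φ (Pi.single k 1)).det

variable (Φ : Matrix (Fin (t + 1)) (Fin t) R) (g : Fin (t + 1) → R)

theorem adjugate_zero (v : Fin (t + 1) → R) (j : Fin (t + 1)) :
    (aug Φ v).adjugate 0 j = minor Φ j := by
  have h : (aug Φ v).adjugate *ᵥ Pi.single j 1 = cramer (aug Φ v) (Pi.single j 1) :=
    (cramer_eq_adjugate_mulVec _ _).symm
  have h2 := congrFun h 0
  rw [cramer_apply, mulVec_single_one] at h2
  rw [minor]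
  refine h2.trans (congrArg Matrix.det ?_)
  ext i l
  refine Fin.cases ?_ ?_ l
  · simp [aug]
  · intro l; simp [aug, Fin.succ_ne_zero]

theorem det_aug_mul (hg : g ᵥ* Φ = 0) (v : Fin (t + 1) → R) (j : Fin (t + 1)) :
    (aug Φ v).det * g j = (g ⬝ᵥ v) * minor Φ j := by
  have h1 : g ᵥ* aug Φ v = Pi.single 0 (g ⬝ᵥ v) := by
    funext l
    refine Fin.cases ?_ ?_ l
    · simp [aug, vecMul, dotProduct]
    · intro l
      have := congrFun hg l
      simp [aug, vecMul, dotProduct, Fin.succ_ne_zero] at this ⊢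
      exact this
  have h2 := congrFun (congrArg (fun x => x ᵥ* (aug Φ v).adjugate) h1) j
  simp only [vecMul_vecMul, mul_adjugate, single_vecMul] at h2
  rw [vecMul_smul, vecMul_one] at h2
  simpa [adjugate_zero] using h2

theorem minor_mul_comm (hg : g ᵥ* Φ = 0) (j k : Fin (t + 1)) :
    minor Φ k * g j = g k * minor Φ j := by
  have := det_aug_mul Φ g hg (Pi.single k 1) j
  rw [dotProduct_single, mul_one] at this
  exact this

theorem minor_ne_zero [IsDomain R] (hg : g ᵥ* Φ = 0) (hinj : ∀ w, Φ *ᵥ w = 0 → w = 0)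
    (k : Fin (t + 1)) (hk : g k ≠ 0) : minor Φ k ≠ 0 := by
  intro h
  obtain ⟨x, hx, hx0⟩ := Matrix.exists_mulVec_eq_zero_iff.2 h
  have e : ∀ i, (Pi.single k 1 : Fin (t + 1) → R) i * x 0 + (Φ *ᵥ Fin.tail x) i = 0 := fun i => by
    have := congrFun hx0 i
    rw [mulVec, dotProduct, Fin.sum_univ_succ] at this
    simpa [aug, mulVec, dotProduct, Fin.tail] using this
  have e' : x 0 • (Pi.single k 1 : Fin (t + 1) → R) + Φ *ᵥ Fin.tail x = 0 :=
    funext fun i => by simpa [mul_comm] using e i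
  have h0 : x 0 = 0 := by
    have := congrArg (g ⬝ᵥ ·) e'
    simp only [dotProduct_add, dotProduct_smul, dotProduct_single, dotProduct_zero] at this
    rw [dotProduct_mulVec, hg, zero_dotProduct, add_zero, smul_eq_mul, mul_one] at this
    exact (mul_eq_zero.1 this).resolve_right hk
  rw [h0, zero_smul, zero_add] at e'
  refine hx (funext fun l => ?_)
  refine Fin.cases h0 (fun l => ?_) l
  exact congrFun (hinj _ e') l

theorem exists_unit_mul [IsDomain R] [UniqueFactorizationMonoid R] (hg : g ᵥ* Φ = 0)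
    (hinj : ∀ w, Φ *ᵥ w = 0 → w = 0) (hne : ∀ k, g k ≠ 0)
    (hgcd : ∀ q : R, Prime q → ∃ k, ¬ q ∣ g k)
    (hex : ∀ u, g ⬝ᵥ u = 0 → ∃ z, Φ *ᵥ z = u) :
    ∃ h : R, IsUnit h ∧ ∀ k, minor Φ k = h * g k := by
  obtain ⟨a, b, c, hab, ha, hb⟩ :=
    UniqueFactorizationMonoid.exists_reduced_factors (g 0) (hne 0) (minor Φ 0)
  have hc : c ≠ 0 := fun h => hne 0 (by rw [← ha, h, zero_mul])
  have hdiv : ∀ j, a ∣ g j := fun j => by
    refine hab.dvd_of_dvd_mul_left (z := g j) ⟨minor Φ j, mul_left_cancel₀ hc ?_⟩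
    calc c * (b * g j) = minor Φ 0 * g j := by rw [← mul_assoc, hb]
      _ = g 0 * minor Φ j := minor_mul_comm Φ g hg j 0
      _ = c * (a * minor Φ j) := by rw [← mul_assoc, ha]
  have hau : IsUnit a := by
    by_contra hau
    have ha0 : a ≠ 0 := fun h => hne 0 (by rw [← ha, h, mul_zero])
    obtain ⟨q, hq, hqa⟩ := WfDvdMonoid.exists_irreducible_factor hau ha0
    obtain ⟨k, hk⟩ := hgcd q (UniqueFactorizationMonoid.irreducible_iff_prime.1 hq)
    exact hk (hqa.trans (hdiv k))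
  obtain ⟨h, hh⟩ : g 0 ∣ minor Φ 0 := by
    rw [← ha, ← hb]
    exact mul_dvd_mul_left c hau.dvd
  have hall : ∀ k, minor Φ k = h * g k := fun k => mul_left_cancel₀ (hne 0) <| by
    rw [← minor_mul_comm Φ g hg k 0, hh, mul_assoc]
  refine ⟨h, ?_, hall⟩
  by_contra hu
  have h0 : h ≠ 0 := fun h' => minor_ne_zero Φ g hg hinj 0 (hne 0) (by rw [hall, h', zero_mul])
  obtain ⟨q, hq, hqh⟩ := WfDvdMonoid.exists_irreducible_factor hu h0
  have hqp : Prime q := UniqueFactorizationMonoid.irreducible_iff_prime.1 hq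
  obtain ⟨k, hk⟩ := hgcd q hqp
  haveI hP : (Ideal.span {q}).IsPrime := (Ideal.span_singleton_prime hqp.ne_zero).2 hqp
  let π := Ideal.Quotient.mk (Ideal.span {q})
  have hπ : ∀ x, π x = 0 ↔ q ∣ x := fun x => by
    rw [Ideal.Quotient.eq_zero_iff_mem, Ideal.mem_span_singleton]
  have hdet : ((aug Φ (Pi.single k 1)).map π).det = 0 := by
    rw [← RingHom.mapMatrix_apply, ← RingHom.map_det]
    exact (hπ _).2 ((hqh.mul_right (g k)).trans (by rw [← hall k]; rfl))
  obtain ⟨x, hx, hx0⟩ := Matrix.exists_mulVec_eq_zero_iff.2 hdet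
  choose y hy using fun i => Ideal.Quotient.mk_surjective (x i)
  have e : ∀ i, q ∣ (aug Φ (Pi.single k 1) *ᵥ y) i := fun i => by
    rw [← hπ, RingHom.map_mulVec]
    rw [show π ∘ y = x from funext hy]
    exact congrFun hx0 i
  choose u hu' using e
  have hu'' : aug Φ (Pi.single k 1) *ᵥ y = y 0 • (Pi.single k 1 : Fin (t + 1) → R) + Φ *ᵥ Fin.tail y := by
    funext i
    rw [mulVec, dotProduct, Fin.sum_univ_succ]
    simp [aug, mulVec, dotProduct, Fin.tail, mul_comm]
  have hgu : y 0 * g k = q * (g ⬝ᵥ u) := by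
    have h1 : g ⬝ᵥ (aug Φ (Pi.single k 1) *ᵥ y) = q * (g ⬝ᵥ u) := by
      rw [show aug Φ (Pi.single k 1) *ᵥ y = q • u from funext hu', dotProduct_smul, smul_eq_mul]
    rw [← h1, hu'', dotProduct_add, dotProduct_smul, dotProduct_single, dotProduct_mulVec, hg,
      zero_dotProduct, add_zero, smul_eq_mul, mul_one]
  obtain ⟨c', hc'⟩ := (hqp.dvd_or_dvd ⟨_, hgu⟩).resolve_right hk
  let u' : Fin (t + 1) → R := u - c' • (Pi.single k 1 : Fin (t + 1) → R)
  have hu1 : Φ *ᵥ Fin.tail y = q • u' := by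
    funext i
    have h1 := congrFun hu'' i
    rw [hu' i] at h1
    simp only [u', Pi.smul_apply, Pi.sub_apply, Pi.add_apply, smul_eq_mul, hc'] at h1 ⊢
    linear_combination -h1
  have hu2 : g ⬝ᵥ u' = 0 := by
    refine (mul_eq_zero.1 ?_).resolve_left hqp.ne_zero
    rw [← smul_eq_mul, ← dotProduct_smul, ← hu1, dotProduct_mulVec, hg, zero_dotProduct]
  obtain ⟨z, hz⟩ := hex u' hu2
  have hyz : Fin.tail y - q • z = 0 := hinj _ (by rw [mulVec_sub, mulVec_smul, hz, hu1, sub_self])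
  refine hx (funext fun l => ?_)
  rw [← hy l]
  refine Fin.cases ?_ (fun l => ?_) l
  · exact (hπ _).2 ⟨c', hc'⟩
  · refine (hπ _).2 ⟨z l, ?_⟩
    have := congrFun hyz l
    simpa [Fin.tail, sub_eq_zero] using this

theorem last_eq_zero [IsDomain R] (hg : g ᵥ* Φ = 0) (hinj : ∀ w, Φ *ᵥ w = 0 → w = 0)
    (i : Fin t) (hblock : ∀ (a : Fin (t + 1)) (l : Fin t), (a : ℕ) ≤ i → i ≤ l → Φ a l = 0) :
    g (Fin.last t) = 0 := by
  obtain ⟨i, hi⟩ := i
  obtain ⟨n, rfl⟩ : ∃ n, t = i + (n + 1) := ⟨t - i - 1, by omega⟩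
  let r : Fin (n + 1) → Fin (i + (n + 1) + 1) := fun p => ⟨i + 1 + p, by omega⟩
  let s : Fin (n + 1) → Fin (i + (n + 1)) := fun p => ⟨i + p, by omega⟩
  have hs : Function.Injective s := fun a b h => by simp [s, Fin.ext_iff] at h; exact Fin.ext h
  let D := Φ.submatrix r s
  have hout : ∀ a, (∀ p, r p ≠ a) → ∀ q, Φ a (s q) = 0 := fun a ha q => hblock a (s q)
    (by by_contra hh
        exact ha ⟨(a : ℕ) - (i + 1), by simp at hh; omega⟩ (Fin.ext (by simp [r] at hh ⊢; omega)))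
    (by simp [s, Fin.le_def])
  have hr : Function.Injective r := fun a b h => by simp [r, Fin.ext_iff] at h; exact Fin.ext h
  have hD : D.det ≠ 0 := by
    intro h
    obtain ⟨v, hv, hv0⟩ := Matrix.exists_mulVec_eq_zero_iff.2 h
    have hw : Φ *ᵥ (Function.extend s v 0) = 0 := funext fun a => by
      rw [mulVec, dotProduct, ← Fintype.sum_of_injective s hs (fun q => Φ a (s q) * v q) _
        (fun l hl => by rw [Function.extend_apply' _ _ _ (by simpa using hl), Pi.zero_apply, mul_zero])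
        (fun q => by rw [hs.extend_apply])]
      by_cases ha : ∃ p, r p = a
      · obtain ⟨p, rfl⟩ := ha
        exact congrFun hv0 p
      · exact Finset.sum_eq_zero fun q _ => by rw [hout a (not_exists.1 ha) q, zero_mul]
    refine hv (funext fun q => ?_)
    have := congrFun (hinj _ hw) (s q)
    rwa [hs.extend_apply] at this
  have h1 : (g ∘ r) ᵥ* D = 0 := funext fun q => by
    have h2 := congrFun hg (s q)
    rw [vecMul, dotProduct, ← Fintype.sum_of_injective r hr (fun p => g (r p) * Φ (r p) (s q)) _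
      (fun a ha => by rw [hout a (by simpa using ha) q, mul_zero]) (fun p => rfl)] at h2
    exact h2
  have := congrFun (Matrix.eq_zero_of_vecMul_eq_zero hD h1) (Fin.last n)
  rw [Function.comp_apply, show r (Fin.last n) = Fin.last _ from Fin.ext (by simp [r]; omega)] at this
  exact this

theorem det_mem_graded {σ : Type*} [SetLike σ R] [AddSubgroupClass σ R] (𝒜 : ℤ → σ) [GradedRing 𝒜]
    {n : ℕ} (A : Matrix (Fin n) (Fin n) R) (a c : Fin n → ℤ) (h : ∀ i j, A i j ∈ 𝒜 (c j - a i)) :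
    A.det ∈ 𝒜 (∑ j, c j - ∑ i, a i) := by
  rw [Matrix.det_apply]
  refine sum_mem fun p _ => ?_
  have h1 : ∏ j, A (p j) j ∈ 𝒜 (∑ j, c j - ∑ i, a i) := by
    rw [← Equiv.sum_comp p a, ← Finset.sum_sub_distrib]
    exact SetLike.prod_mem_graded 𝒜 _ _ (fun j _ => h (p j) j)
  rcases Int.units_eq_one_or (Equiv.Perm.sign p) with h2 | h2 <;> rw [h2]
  · rwa [one_smul]
  · rw [Units.neg_smul, one_smul]
    exact neg_mem h1

end

end Groth.Agent.CAlgH3.HilbertBurchDeg
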