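import Mathlib
import Groth.Agent.CAlgH3.HilbertBurchDeg

/-! Degrees in the minimal resolution of finitely many points of the projective plane. -/

universe u

open Matrix MvPolynomial GrSyz

namespace Groth.Agent.CAlgH3.HilbertBurchPts

open HilbertBurchDeg

section

variable {k : Type u} [Field k] {m : ℕ}

theorem eq_zero_of_mem {n : ℤ} (hn : n ≤ 0) {x : MvPolynomial (Fin m) k} (hx : x ∈ stdGr k (Fin m) n)
    (hI : x ∈ (irrel (stdGr k (Fin m))).toIdeal) : x = 0 := by
  ext d
  rw [coeff_zero]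
  by_contra h
  have h1 := (mem_stdGr_iff k (Fin m) n x).1 hx h
  have h2 : d = 0 := by
    have h3 : (Finsupp.weight fun _ : Fin m => (1 : ℤ)) d = ((d.degree : ℕ) : ℤ) := by
      simp [Finsupp.weight_apply, Finsupp.degree_apply, Finsupp.sum]
    rw [h3] at h1
    exact (Finsupp.degree_eq_zero_iff d).1 (by omega)
  subst h2
  exact h (GrMinimal.constantCoeff_irrel k m x hI)

theorem natDeg_of_mem {n : ℤ} {x : MvPolynomial (Fin m) k} (hx : x ∈ stdGr k (Fin m) n) (hx0 : x ≠ 0)
    {n' : ℤ} (hx' : x ∈ stdGr k (Fin m) n') : n = n' :=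
  DirectSum.degree_eq_of_mem_mem (stdGr k (Fin m)) hx hx' hx0

theorem exists_const {c q : MvPolynomial (Fin m) k} (h : c * q ≠ 0) (hd : (c * q).totalDegree ≤ 1)
    (hq : 1 ≤ q.totalDegree) : ∃ a : k, c = C a := by
  have hc : c ≠ 0 := left_ne_zero_of_mul h
  rw [totalDegree_mul_of_isDomain hc (right_ne_zero_of_mul h)] at hd
  exact ⟨_, (totalDegree_eq_zero_iff_eq_C).1 (by omega)⟩

/-- the linear form `p j X i - p i X j` vanishing at `p` -/
noncomputable def lin (p : Fin m → k) (i j : Fin m) : MvPolynomial (Fin m) k := C (p j) * X i - C (p i) * X j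

theorem lin_homog (p : Fin m → k) (i j : Fin m) : (lin p i j).IsHomogeneous 1 :=
  ((isHomogeneous_X k i).C_mul _).sub ((isHomogeneous_X k j).C_mul _)

theorem eval_lin (p : Fin m → k) (i j : Fin m) : eval p (lin p i j) = 0 := by
  simp [lin, mul_comm]

theorem exists_not_dvd_lin {q : MvPolynomial (Fin 3) k} (hq : Prime q) {p : Fin 3 → k} (hp : p ≠ 0) :
    ∃ i j, ¬ q ∣ lin p i j := by
  obtain ⟨j, hj⟩ := Function.ne_iff.1 hp
  obtain ⟨a, b, hab, haj, hbj⟩ := (by decide : ∀ j : Fin 3, ∃ a b : Fin 3, a ≠ b ∧ a ≠ j ∧ b ≠ j) j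
  by_contra hall
  push Not at hall
  have hq1 : 1 ≤ q.totalDegree := by
    by_contra h
    have h0 := (totalDegree_eq_zero_iff_eq_C).1 (show q.totalDegree = 0 by omega)
    have hc : coeff 0 q ≠ 0 := fun hc => hq.ne_zero (by rw [h0, hc, C_0])
    exact hq.not_unit (h0 ▸ (IsUnit.mk0 _ hc).map C)
  have cf : ∀ i l : Fin 3, i ≠ j → coeff (Finsupp.single l 1) (lin p i j) =
      (if i = l then p j else 0) - (if j = l then p i else 0) := fun i l _ => by
    simp [lin, coeff_C_mul, coeff_X, Finsupp.single_left_inj]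
  have ex : ∀ i, i ≠ j → ∃ c : k, c ≠ 0 ∧ lin p i j = C c * q := fun i hij => by
    have hne : lin p i j ≠ 0 := fun h => hj (by
      have := cf i i hij
      rw [h, coeff_zero, if_pos rfl, if_neg (fun e => hij e.symm), sub_zero] at this
      exact this.symm)
    obtain ⟨c, hc⟩ := hall i j
    have hc' : lin p i j = c * q := hc.trans (mul_comm _ _)
    obtain ⟨a', rfl⟩ := exists_const (hc' ▸ hne) (hc' ▸ (lin_homog p i j).totalDegree_le) hq1
    exact ⟨a', fun h => hne (by rw [hc', h, C_0, zero_mul]), hc'⟩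
  obtain ⟨c, hc, ha⟩ := ex a haj
  obtain ⟨c', hc', hb⟩ := ex b hbj
  have e1 := cf a a haj
  have e2 := cf b a hbj
  rw [ha, coeff_C_mul, if_pos rfl, if_neg haj.symm, sub_zero] at e1
  rw [hb, coeff_C_mul, if_neg hab.symm, if_neg haj.symm, sub_zero] at e2
  exact hj (by rw [← e1, (mul_eq_zero.1 e2).resolve_left hc', mul_zero]; rfl)

theorem not_dvd_points (Z : Finset (Fin 3 → k)) (hZ : ∀ p ∈ Z, p ≠ 0)
    (I : Ideal (MvPolynomial (Fin 3) k))
    (hI : ∀ f, f ∈ I ↔ ∀ p ∈ Z, ∀ j : ℕ, eval p (homogeneousComponent j f) = 0)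
    (q : MvPolynomial (Fin 3) k) (hq : Prime q) : ∃ x ∈ I, ¬ q ∣ x := by
  classical
  choose i j hij using fun p : Z => exists_not_dvd_lin hq (hZ p.1 p.2)
  refine ⟨∏ p : Z, lin p.1 (i p) (j p), (hI _).2 fun p hp n => ?_, fun h => ?_⟩
  · have hh : (∏ p : Z, lin p.1 (i p) (j p)).IsHomogeneous (∑ _p : Z, 1) :=
      IsHomogeneous.prod _ _ _ fun p _ => lin_homog _ _ _
    rw [homogeneousComponent_of_mem hh]
    split
    · rw [map_prod]
      exact Finset.prod_eq_zero (i := (⟨p, hp⟩ : Z)) (Finset.mem_univ _) (eval_lin p (i ⟨p, hp⟩) (j ⟨p, hp⟩))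
    · exact map_zero _
  · obtain ⟨p, -, hp⟩ := hq.exists_mem_finset_dvd h
    exact hij p hp

theorem not_one_mem (Z : Finset (Fin 3 → k)) (hZne : Z.Nonempty)
    (I : Ideal (MvPolynomial (Fin 3) k))
    (hI : ∀ f, f ∈ I ↔ ∀ p ∈ Z, ∀ j : ℕ, eval p (homogeneousComponent j f) = 0) :
    (1 : MvPolynomial (Fin 3) k) ∉ I := fun h => by
  obtain ⟨p, hp⟩ := hZne
  have := (hI 1).1 h p hp 0
  simp at this

theorem main (I : Ideal (MvPolynomial (Fin m) k)) (h1I : (1 : MvPolynomial (Fin m) k) ∉ I)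
    (hgcd : ∀ q, Prime q → ∃ x ∈ I, ¬ q ∣ x)
    (M : Type u) [AddCommGroup M] [Module k M] [Module (MvPolynomial (Fin m) k) M]
    (ℳ : ℤ → Submodule k M) [DirectSum.Decomposition ℳ] [SetLike.GradedSMul (stdGr k (Fin m)) ℳ]
    (π : MvPolynomial (Fin m) k →ₗ[MvPolynomial (Fin m) k] M) (hπ : Function.Surjective π)
    (hπg : GrLC.IsGrHom (stdGr k (Fin m)) ℳ π) (hker : LinearMap.ker π = I)
    (F : FreeRes (stdGr k (Fin m)) ℳ) (hF : F.IsMinimal (irrel (stdGr k (Fin m))).toIdeal)
    (hlen : F.HasLengthLE 2) (t : ℕ) (h1 : F.rk 1 = t + 1) (h2 : F.rk 2 = t)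
    (ha : ∀ i j : Fin (t + 1), i ≤ j → F.deg 1 (Fin.cast h1.symm j) ≤ F.deg 1 (Fin.cast h1.symm i))
    (hb : ∀ i j : Fin t, i ≤ j → F.deg 2 (Fin.cast h2.symm j) ≤ F.deg 2 (Fin.cast h2.symm i)) :
    (∀ i : Fin t, 1 ≤ F.deg 2 (Fin.cast h2.symm i) - F.deg 1 (Fin.cast h1.symm i.castSucc) ∧
        1 ≤ F.deg 2 (Fin.cast h2.symm i) - F.deg 1 (Fin.cast h1.symm i.succ)) ∧
      ∑ i : Fin (t + 1), F.deg 1 (Fin.cast h1.symm i) = ∑ j : Fin t, F.deg 2 (Fin.cast h2.symm j) := by
  classical
  let S := MvPolynomial (Fin m) k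
  have hπ1 : π 1 ≠ 0 := fun h => h1I (hker ▸ h)
  choose c hc using fun b => hπ (F.aug b)
  have haug : ∀ v, F.augLin v = π (∑ b, v b * c b) := fun v => by
    rw [map_sum, Fintype.linearCombination_apply]
    exact Finset.sum_congr rfl fun b _ => by rw [← smul_eq_mul, map_smul, hc]
  have hkerm : ∀ v, F.augLin v = 0 → ∀ b, constantCoeff (v b) = 0 := fun v hv b => by
    have hv' : v ∈ LinearMap.ker (Fintype.linearCombination S F.aug) := hv
    rw [F.exact_zero] at hv'
    obtain ⟨w, rfl⟩ := hv'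
    rw [Matrix.mulVecLin_apply, Matrix.mulVec, dotProduct, map_sum]
    exact Finset.sum_eq_zero fun x _ => by
      rw [map_mul, GrMinimal.constantCoeff_irrel k m _ (hF 0 b x), zero_mul]
  have hr0 : F.rk 0 = 1 := by
    refine le_antisymm (not_lt.1 fun h => ?_) (Nat.one_le_iff_ne_zero.2 fun h => hπ1 ?_)
    · obtain ⟨v, hv⟩ := F.aug_surjective (π 1)
      let b0 : Fin (F.rk 0) := ⟨0, by omega⟩
      let b1 : Fin (F.rk 0) := ⟨1, h⟩
      have key : ∀ b b', constantCoeff ((Pi.single b 1 - c b • v : Fin (F.rk 0) → S) b') = 0 := fun b =>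
        hkerm _ (by
          rw [map_sub, map_smul, hv, Fintype.linearCombination_apply_single, one_smul, ← map_smul,
            smul_eq_mul, mul_one, hc, sub_self])
      have e1 := key b0 b0
      have e2 := key b1 b0
      have e3 := key b1 b1
      have hne : b1 ≠ b0 := by simp [b0, b1, Fin.ext_iff]
      simp only [Pi.sub_apply, Pi.smul_apply, smul_eq_mul, map_sub, map_mul, Pi.single_eq_same,
        Pi.single_eq_of_ne hne.symm, map_one, sub_eq_zero] at e1 e2 e3
      rw [map_zero] at e2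
      replace e2 := e2.symm
      rcases mul_eq_zero.1 e2 with e | e
      · rw [e, zero_mul] at e3; exact one_ne_zero e3
      · rw [e, mul_zero] at e1; exact one_ne_zero e1
    · obtain ⟨v, hv⟩ := F.aug_surjective (π 1)
      haveI : IsEmpty (Fin (F.rk 0)) := by rw [h]; infer_instance
      rw [← hv, Subsingleton.elim v 0, map_zero]
  let b0 : Fin (F.rk 0) := ⟨0, by omega⟩
  have hsub : ∀ b : Fin (F.rk 0), b = b0 := fun b => Fin.ext (by simp [b0]; omega)
  have haug' : ∀ v, F.augLin v = π (v b0 * c b0) := fun v => by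
    rw [haug, Finset.sum_eq_single b0 (fun b _ hb => absurd (hsub b) hb) (by simp)]
  have hcc : constantCoeff (c b0) ≠ 0 := fun h => by
    obtain ⟨v, hv⟩ := F.aug_surjective (π 1)
    have : ∀ b, constantCoeff ((Pi.single b0 1 - c b0 • v : Fin (F.rk 0) → S) b) = 0 :=
      hkerm _ (by
        rw [map_sub, map_smul, hv, Fintype.linearCombination_apply_single, one_smul, ← map_smul,
          smul_eq_mul, mul_one, hc, sub_self])
    have := this b0
    simp [h] at this
  -- the degree of the generator is zero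
  have hd0 : F.deg 0 b0 = 0 := by
    by_contra hne
    have hsplit : c b0 = C (constantCoeff (c b0)) + (c b0 - C (constantCoeff (c b0))) := by ring
    let e : S := (DirectSum.decompose (stdGr k (Fin m)) (c b0) 0 : S)
    have he : e = C (constantCoeff (c b0)) := by
      show ((DirectSum.decompose (stdGr k (Fin m)) (c b0)) 0 : S) = _
      have h0 : C (constantCoeff (c b0)) ∈ stdGr k (Fin m) 0 := isWeightedHomogeneous_C _ _
      ext dd
      by_cases hdd : dd = 0
      · subst hdd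
        rw [coeff_C, if_pos rfl, constantCoeff_eq]
        erw [weightedDecomposition.decompose'_apply]
        rw [coeff_weightedHomogeneousComponent, if_pos (map_zero _)]
      · rw [coeff_C, if_neg (Ne.symm hdd)]
        erw [weightedDecomposition.decompose'_apply]
        rw [coeff_weightedHomogeneousComponent, if_neg]
        intro h
        apply hdd
        have h3 : (Finsupp.weight fun _ : Fin m => (1 : ℤ)) dd = ((dd.degree : ℕ) : ℤ) := by
          simp [Finsupp.weight_apply, Finsupp.degree_apply, Finsupp.sum]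
        rw [h3] at h
        exact (Finsupp.degree_eq_zero_iff dd).1 (by omega)
    have hp := GrLib.proj_map hπg 0 (c b0)
    rw [hc, GrLib.proj_of_mem_ne (F.aug_mem b0) hne] at hp
    change 0 = π e at hp
    rw [he, ← mul_one (C (constantCoeff (c b0)) : S), ← smul_eq_mul, map_smul] at hp
    apply hπ1
    have := congrArg ((C (constantCoeff (c b0))⁻¹ : S) • ·) hp.symm
    simpa [smul_smul, ← map_mul, hcc] using this
  have hkerI : ∀ v, F.augLin v = 0 ↔ v b0 * c b0 ∈ I := fun v => by rw [haug', ← hker, LinearMap.mem_ker]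
  -- the matrices
  let Φ : Matrix (Fin (t + 1)) (Fin t) S := fun a l => F.d 1 (Fin.cast h1.symm a) (Fin.cast h2.symm l)
  let g : Fin (t + 1) → S := fun a => F.d 0 b0 (Fin.cast h1.symm a)
  let A : Fin (t + 1) → ℤ := fun a => F.deg 1 (Fin.cast h1.symm a)
  let B : Fin t → ℤ := fun l => F.deg 2 (Fin.cast h2.symm l)
  have hd0' : ∀ v, F.dLin 0 v b0 = g ⬝ᵥ (v ∘ Fin.cast h1.symm) := fun v => by
    simp only [Matrix.mulVecLin_apply, Matrix.mulVec, dotProduct]
    exact (Equiv.sum_comp (finCongr h1.symm) fun x => F.d 0 b0 x * v x).symm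
  have hd1' : ∀ w a, F.dLin 1 w (Fin.cast h1.symm a) = (Φ *ᵥ (w ∘ Fin.cast h2.symm)) a := fun w a => by
    simp only [Matrix.mulVecLin_apply, Matrix.mulVec, dotProduct]
    exact (Equiv.sum_comp (finCongr h2.symm) fun x => F.d 1 (Fin.cast h1.symm a) x * w x).symm
  have hinj : ∀ w, Φ *ᵥ w = 0 → w = 0 := fun w hw => by
    have hw' : w ∘ Fin.cast h2 ∈ LinearMap.ker (F.dLin 1) := by
      rw [LinearMap.mem_ker]
      funext x
      refine (hd1' (w ∘ Fin.cast h2) (Fin.cast h1 x)).trans ?_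
      exact congrFun hw _
    rw [FreeRes.dLin, F.exact_succ 1] at hw'
    obtain ⟨z, hz⟩ := hw'
    haveI : IsEmpty (Fin (F.rk (1 + 1 + 1))) := by rw [hlen 3 (by omega)]; infer_instance
    rw [Subsingleton.elim z 0, map_zero] at hz
    funext l
    simpa using (congrFun hz (Fin.cast h2.symm l)).symm
  have hg : g ᵥ* Φ = 0 := funext fun l => by
    have := congrFun (congrFun (GrMinimal.d_mul_d F 0) b0) (Fin.cast h2.symm l)
    rw [Matrix.mul_apply, Matrix.zero_apply] at this
    rw [Matrix.vecMul, dotProduct]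
    exact (Equiv.sum_comp (finCongr h1.symm) fun x => F.d 0 b0 x * F.d 1 x (Fin.cast h2.symm l)).trans this
  have hex : ∀ u, g ⬝ᵥ u = 0 → ∃ z, Φ *ᵥ z = u := fun u hu => by
    have hu' : u ∘ Fin.cast h1 ∈ LinearMap.ker (F.dLin 0) := by
      rw [LinearMap.mem_ker]
      funext b
      rw [hsub b, hd0']
      exact hu
    rw [FreeRes.dLin, F.exact_succ 0] at hu'
    obtain ⟨z, hz⟩ := hu'
    refine ⟨z ∘ Fin.cast h2.symm, funext fun a => ?_⟩
    rw [← hd1']
    simpa using congrFun hz (Fin.cast h1.symm a)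
  have hne : ∀ a, g a ≠ 0 := fun a h => by
    obtain ⟨z, hz⟩ := hex (Pi.single a 1) (by rw [dotProduct_single, h, zero_mul])
    have := congrArg constantCoeff (congrFun hz a)
    rw [Pi.single_eq_same, map_one, Matrix.mulVec, dotProduct, map_sum,
      Finset.sum_eq_zero fun x _ => by rw [map_mul, GrMinimal.constantCoeff_irrel k m _ (hF 1 _ _), zero_mul]] at this
    exact zero_ne_one this
  have hgq : ∀ q : S, Prime q → ∃ a, ¬ q ∣ g a := fun q hq => by
    obtain ⟨x, hx, hxq⟩ := hgcd q hq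
    by_contra hall
    push Not at hall
    have hv : (fun _ => x : Fin (F.rk 0) → S) ∈ LinearMap.ker (Fintype.linearCombination S F.aug) :=
      (hkerI _).2 (I.mul_mem_right _ hx)
    rw [F.exact_zero] at hv
    obtain ⟨w, hw⟩ := hv
    apply hxq
    rw [← congrFun hw b0, hd0', dotProduct]
    exact Finset.dvd_sum fun a _ => (hall a).mul_right _
  have hΦdeg : ∀ a l, Φ a l ∈ stdGr k (Fin m) (B l - A a) := fun a l => F.d_mem 1 _ _
  have hgdeg : ∀ a, g a ∈ stdGr k (Fin m) (A a) := fun a => by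
    have := F.d_mem 0 b0 (Fin.cast h1.symm a)
    rwa [hd0, sub_zero] at this
  have hdiag : ∀ i : Fin t, 1 ≤ B i - A i.castSucc := fun i => by
    by_contra hlt
    refine hne _ (last_eq_zero Φ g hg hinj i fun a l hai hil => ?_)
    have e1 : A i.castSucc ≤ A a := ha a i.castSucc (by simpa [Fin.le_def] using hai)
    have e2 : B l ≤ B i := hb i l hil
    exact eq_zero_of_mem (by omega) (hΦdeg a l) (hF 1 _ _)
  refine ⟨fun i => ⟨hdiag i, ?_⟩, ?_⟩
  · have e1 : A i.succ ≤ A i.castSucc := ha _ _ (Fin.castSucc_le_succ i)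
    have := hdiag i
    show 1 ≤ B i - A i.succ
    omega
  · obtain ⟨h, hu, hh⟩ := exists_unit_mul Φ g hg hinj hne hgq hex
    obtain ⟨r, hr, rfl⟩ := MvPolynomial.isUnit_iff_eq_C_of_isReduced.1 hu
    have hm : minor Φ 0 ∈ stdGr k (Fin m) ((A 0 + ∑ l, B l) - ∑ a, A a) := by
      rw [minor, ← Fin.sum_cons]
      refine det_mem_graded _ _ _ _ fun a l => ?_
      refine Fin.cases ?_ (fun l => ?_) l
      · rcases eq_or_ne a 0 with rfl | ha0
        · simp only [aug, Matrix.of_apply, Fin.cons_zero, Pi.single_eq_same, sub_self]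
          exact SetLike.GradedOne.one_mem
        · simp only [aug, Matrix.of_apply, Fin.cons_zero, Pi.single_eq_of_ne ha0]
          exact zero_mem _
      · simp only [aug, Matrix.of_apply, Fin.cons_succ]
        exact hΦdeg a l
    have hm' : minor Φ 0 ∈ stdGr k (Fin m) (A 0) := by
      rw [hh 0, ← smul_eq_C_mul]
      exact Submodule.smul_mem _ _ (hgdeg 0)
    have := natDeg_of_mem hm (minor_ne_zero Φ g hg hinj 0 (hne 0)) hm'
    show ∑ a, A a = ∑ l, B l
    omega

end

end Groth.Agent.CAlgH3.HilbertBurchPts
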