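import Mathlib
import Groth.Prelude.Def_KZero

/-! The class in `K₀` of the graded pieces of a finite graded module over a standard graded Noetherian
algebra is eventually an integer combination of binomial coefficients. -/

set_option autoImplicit false

universe u

namespace Groth.Agent.CAlgH3.HilbertK0

open CategoryTheory

variable {A : Type u} [CommRing A]

/-- Finite modules. -/
abbrev P0 (A : Type u) [CommRing A] : ObjectProperty (ModuleCat.{u} A) := fun X => Module.Finite A X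

/-- The class of a module. -/
noncomputable abbrev cl (V : Type u) [AddCommGroup V] [Module A V] : KZero.K0sub (P0 A) :=
  KZero.clSub (P0 A) (ModuleCat.of A V)

lemma cl_shortExact {U V W : Type u} [AddCommGroup U] [Module A U] [AddCommGroup V] [Module A V]
    [AddCommGroup W] [Module A W] [Module.Finite A U] [Module.Finite A V] [Module.Finite A W]
    (f : U →ₗ[A] V) (g : V →ₗ[A] W) (hf : Function.Injective f) (hg : Function.Surjective g)
    (h : Function.Exact f g) : cl (A := A) V = cl (A := A) U + cl (A := A) W := by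
  have hS : (ShortComplex.mk (ModuleCat.ofHom f) (ModuleCat.ofHom g)
      (ModuleCat.hom_ext h.linearMap_comp_eq_zero)).ShortExact :=
    { exact := (CategoryTheory.ShortComplex.ShortExact.moduleCat_exact_iff_function_exact _).2 h
      mono_f := (ModuleCat.mono_iff_injective _).2 hf
      epi_g := (ModuleCat.epi_iff_surjective _).2 hg }
  have h1 : P0 A (ModuleCat.of A U) := (inferInstance : Module.Finite A U)
  have h2 : P0 A (ModuleCat.of A V) := (inferInstance : Module.Finite A V)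
  have h3 : P0 A (ModuleCat.of A W) := (inferInstance : Module.Finite A W)
  simp only [cl, KZero.clSub, dif_pos h1, dif_pos h2, dif_pos h3]
  rw [← QuotientAddGroup.mk_add, QuotientAddGroup.eq]
  refine (KZero.relSub (P0 A)).neg_mem_iff.1 ?_
  refine AddSubgroup.subset_closure ⟨_, h1, h2, h3, hS, ?_⟩
  abel

/-- A submodule split by a linear map. -/
lemma cl_map {V W : Type u} [AddCommGroup V] [Module A V] [AddCommGroup W] [Module A W]
    (f : V →ₗ[A] W) (U : Submodule A V) (hU : Module.Finite A U)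
    (hK : Module.Finite A ↥(U ⊓ LinearMap.ker f)) :
    cl (A := A) U = cl (A := A) ↥(U ⊓ LinearMap.ker f) + cl (A := A) ↥(U.map f) := by
  haveI : Module.Finite A ↥(U.map f) := Module.Finite.map U f
  refine cl_shortExact (Submodule.inclusion inf_le_left)
    ((f.domRestrict U).codRestrict (U.map f) fun x => Submodule.mem_map_of_mem x.2)
    (Submodule.inclusion_injective _) ?_ ?_
  · rintro ⟨_, v, hv, rfl⟩
    exact ⟨⟨v, hv⟩, rfl⟩
  · intro x
    constructor
    · intro hx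
      exact ⟨⟨x.1, x.2, congrArg Subtype.val hx⟩, rfl⟩
    · rintro ⟨y, rfl⟩
      exact Subtype.ext y.2.2

lemma cl_bot {V : Type u} [AddCommGroup V] [Module A V] : cl (A := A) (⊥ : Submodule A V) = 0 := by
  have := cl_shortExact (A := A) (U := (⊥ : Submodule A V)) (V := (⊥ : Submodule A V))
    (W := (⊥ : Submodule A V)) LinearMap.id LinearMap.id Function.injective_id Function.surjective_id
    (fun x => by simp [Subsingleton.elim x 0])
  simpa using this

section Binom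

variable {K : Type*} [AddCommGroup K]

/-- Eventually a combination of binomial coefficients. -/
def EB (f : ℕ → K) : Prop :=
  ∃ (r : ℕ) (a : ℕ → K) (N : ℕ), (∀ i, r ≤ i → a i = 0) ∧
    ∀ n, N ≤ n → f n = ∑ i ∈ Finset.range r, ((n.choose i : ℕ) : ℤ) • a i

lemma EB.pad {a : ℕ → K} {r s n : ℕ} (h : ∀ i, r ≤ i → a i = 0) (hs : r ≤ s) :
    ∑ i ∈ Finset.range r, ((n.choose i : ℕ) : ℤ) • a i = ∑ i ∈ Finset.range s, ((n.choose i : ℕ) : ℤ) • a i :=
  Finset.sum_subset (Finset.range_mono hs) fun i _ hi => by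
    rw [h i (by simpa using hi), smul_zero]

lemma EB.sub {f g : ℕ → K} (hf : EB f) (hg : EB g) : EB fun n => f n - g n := by
  obtain ⟨r, a, N, ha, hf⟩ := hf
  obtain ⟨s, b, N', hb, hg⟩ := hg
  refine ⟨max r s, a - b, max N N', fun i hi => ?_, fun n hn => ?_⟩
  · simp [ha i (le_of_max_le_left hi), hb i (le_of_max_le_right hi)]
  · dsimp only
    rw [hf n (le_of_max_le_left hn), hg n (le_of_max_le_right hn), EB.pad ha (le_max_left r s),
      EB.pad hb (le_max_right r s), ← Finset.sum_sub_distrib]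
    simp [smul_sub]

lemma EB.shift {f : ℕ → K} (hf : EB f) : EB fun n => f (n + 1) := by
  obtain ⟨r, a, N, ha, hf⟩ := hf
  refine ⟨r, fun i => a i + a (i + 1), N, fun i hi => by simp [ha i hi, ha (i + 1) (by omega)],
    fun n hn => ?_⟩
  dsimp only
  rw [hf (n + 1) (by omega), EB.pad ha (Nat.le_succ r), Finset.sum_range_succ']
  have h2 : ∑ i ∈ Finset.range r, ((n.choose (i + 1) : ℕ) : ℤ) • a (i + 1) + ((n.choose 0 : ℕ) : ℤ) • a 0 =
      ∑ i ∈ Finset.range r, ((n.choose i : ℕ) : ℤ) • a i := by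
    rw [EB.pad (n := n) ha (Nat.le_succ r), Finset.sum_range_succ']
  simp only [Nat.choose_succ_succ, Nat.cast_add, add_smul, Finset.sum_add_distrib, smul_add,
    Nat.choose_zero_right] at h2 ⊢
  rw [add_assoc, h2, add_comm]

lemma EB.congr {f g : ℕ → K} {N : ℕ} (hf : EB f) (h : ∀ n, N ≤ n → g n = f n) : EB g := by
  obtain ⟨r, a, N', ha, hf⟩ := hf
  exact ⟨r, a, max N N', ha, fun n hn => by rw [h n (le_of_max_le_left hn), hf n (le_of_max_le_right hn)]⟩

lemma EB.of_diff {f : ℕ → K} (hf : EB fun n => f (n + 1) - f n) : EB f := by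
  obtain ⟨r, a, N, ha, hf⟩ := hf
  set c := f N - ∑ i ∈ Finset.range r, ((N.choose (i + 1) : ℕ) : ℤ) • a i
  refine ⟨r + 1, fun i => Nat.rec c (fun j _ => a j) i, N, fun i hi => ?_, fun n hn => ?_⟩
  · obtain ⟨j, rfl⟩ : ∃ j, i = j + 1 := ⟨i - 1, by omega⟩
    exact ha j (by omega)
  rw [Finset.sum_range_succ']
  simp only [Nat.choose_zero_right, Nat.cast_one, one_smul]
  induction n, hn using Nat.le_induction with
  | base => simp [c]
  | succ n hn ih =>
    have h := hf n hn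
    simp only [Nat.choose_succ_succ, Nat.cast_add, add_smul, Finset.sum_add_distrib]
    rw [add_assoc, ← ih, ← h, sub_add_cancel]

end Binom

variable {S : Type u} [CommRing S] [Algebra A S] (𝒜 : ℕ → Submodule A S)
  [GradedAlgebra 𝒜] {M : Type u} [AddCommGroup M] [Module A M] [Module S M] [IsScalarTower A S M]
  (ℳ : ℕ → Submodule A M) [DirectSum.Decomposition ℳ] [SetLike.GradedSMul 𝒜 ℳ]

/-- The homogeneous components. -/
noncomputable def proj (n : ℕ) : M →ₗ[A] M :=
  (ℳ n).subtype ∘ₗ DirectSum.component A ℕ (fun i => ↥(ℳ i)) n ∘ₗ (DirectSum.decomposeLinearEquiv ℳ).toLinearMap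

lemma proj_apply (n : ℕ) (m : M) : proj ℳ n m = (DirectSum.decompose ℳ m n : M) := rfl

lemma proj_mem (n : ℕ) (m : M) : proj ℳ n m ∈ ℳ n := (DirectSum.decompose ℳ m n).2

lemma proj_of_mem {n : ℕ} {m : M} (h : m ∈ ℳ n) : proj ℳ n m = m :=
  DirectSum.decompose_of_mem_same ℳ h

lemma proj_of_ne {i n : ℕ} {m : M} (h : m ∈ ℳ i) (hne : i ≠ n) : proj ℳ n m = 0 :=
  DirectSum.decompose_of_mem_ne ℳ h hne

lemma smul_mem {i j : ℕ} {s : S} {m : M} (hs : s ∈ 𝒜 i) (hm : m ∈ ℳ j) : s • m ∈ ℳ (i + j) :=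
  SetLike.GradedSMul.smul_mem hs hm

lemma proj_smul {i n : ℕ} {s : S} (hs : s ∈ 𝒜 i) (m : M) :
    proj ℳ (i + n) (s • m) = s • proj ℳ n m := by
  induction m using DirectSum.Decomposition.inductionOn ℳ with
  | zero => simp
  | @homogeneous j y =>
    rcases eq_or_ne j n with rfl | h
    · rw [proj_of_mem ℳ y.2, proj_of_mem ℳ (smul_mem 𝒜 ℳ hs y.2)]
    · rw [proj_of_ne ℳ y.2 h, smul_zero, proj_of_ne ℳ (smul_mem 𝒜 ℳ hs y.2) (by omega)]
  | add y z hy hz => rw [smul_add, map_add, map_add, hy, hz, smul_add]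

lemma proj_smul_lt {i n : ℕ} {s : S} (hs : s ∈ 𝒜 i) (hn : n < i) (m : M) : proj ℳ n (s • m) = 0 := by
  induction m using DirectSum.Decomposition.inductionOn ℳ with
  | zero => simp
  | @homogeneous j y => exact proj_of_ne ℳ (smul_mem 𝒜 ℳ hs y.2) (by omega)
  | add y z hy hz => rw [smul_add, map_add, hy, hz, add_zero]

/-- A submodule stable under taking components. -/
def Homog (P : Submodule S M) : Prop := ∀ m ∈ P, ∀ n, proj ℳ n m ∈ P

lemma finite_of_le (h0 : ∀ s ∈ 𝒜 0, s ∈ Set.range (algebraMap A S)) [IsNoetherian S M]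
    {n : ℕ} (U : Submodule A M) (hU : U ≤ ℳ n) : Module.Finite A U := by
  classical
  obtain ⟨G, hG, hspan⟩ := Submodule.fg_span_iff_fg_span_finset_subset _ |>.1
    (IsNoetherian.noetherian (Submodule.span S (U : Set M)))
  refine Module.Finite.iff_fg.2 ⟨G, le_antisymm (Submodule.span_le.2 hG) fun m hm => ?_⟩
  have hm' : m ∈ Submodule.span S (G : Set M) := hspan ▸ Submodule.subset_span hm
  obtain ⟨k, c, g, hgc⟩ := Submodule.mem_span_set'.1 hm'
  rw [← proj_of_mem ℳ (hU hm), ← hgc, map_sum]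
  refine Submodule.sum_mem _ fun i _ => ?_
  generalize c i = s
  have hgi : ((g i) : M) ∈ ℳ n := hU (hG (g i).2)
  induction s using DirectSum.Decomposition.inductionOn 𝒜 with
  | zero => simp
  | @homogeneous j t =>
    rcases eq_or_ne (j + n) n with hj | hj
    · obtain rfl : j = 0 := by omega
      obtain ⟨a, ha⟩ := h0 _ t.2
      rw [← ha, algebraMap_smul, map_smul, proj_of_mem ℳ hgi]
      exact Submodule.smul_mem _ a (Submodule.subset_span (g i).2)
    · rw [proj_of_ne ℳ (smul_mem 𝒜 ℳ t.2 hgi) hj]; exact zero_mem _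
  | add b c hb hc => rw [add_smul, map_add]; exact add_mem hb hc

variable (Q : Submodule S M)

/-- The degree `n` piece of the subquotient `(P + Q) / Q`. -/
abbrev G (P : Submodule S M) (n : ℕ) : Submodule A (M ⧸ Q) :=
  (P.restrictScalars A ⊓ ℳ n).map (Q.mkQ.restrictScalars A)

variable {Q}

lemma mem_of_irrelevant {r : ℕ} (x : Fin r → S) {P : Submodule S M}
    (hgen : (HomogeneousIdeal.irrelevant 𝒜).toIdeal = Ideal.span (Set.range x))
    (hx : ∀ j, ∀ m ∈ P, x j • m ∈ Q) {i : ℕ} (hi : 0 < i) {s : S} (hs : s ∈ 𝒜 i) {m : M} (hm : m ∈ P) :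
    s • m ∈ Q := by
  have h : s ∈ Ideal.span (Set.range x) := hgen ▸ HomogeneousIdeal.mem_irrelevant_of_mem 𝒜 hi hs
  clear hs
  induction h using Submodule.span_induction with
  | mem y hy => obtain ⟨j, rfl⟩ := hy; exact hx j m hm
  | zero => simp
  | add a b _ _ ha hb => rw [add_smul]; exact add_mem ha hb
  | smul c a _ ha => rw [smul_assoc]; exact Q.smul_mem c ha

theorem eb_cl (h0 : ∀ s ∈ 𝒜 0, s ∈ Set.range (algebraMap A S)) [IsNoetherian S M] {R : ℕ}
    (x : Fin R → S) (hx1 : ∀ j, x j ∈ 𝒜 1)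
    (hgen : (HomogeneousIdeal.irrelevant 𝒜).toIdeal = Ideal.span (Set.range x)) (r : ℕ) :
    ∀ P Q : Submodule S M, Homog ℳ P → Homog ℳ Q → Q ≤ P →
      (∀ j : Fin R, r ≤ (j : ℕ) → ∀ m ∈ P, x j • m ∈ Q) →
      EB fun n => cl (A := A) (G ℳ Q P n) := by
  classical
  have fin : ∀ (Q' : Submodule S M) (P' : Submodule S M) (n : ℕ), Module.Finite A (G ℳ Q' P' n) :=
    fun Q' P' n => by
      haveI := finite_of_le 𝒜 ℳ h0 (P'.restrictScalars A ⊓ ℳ n) inf_le_right
      exact Module.Finite.map _ _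
  induction r with
  | zero =>
    intro P Q hP hQ hQP hx
    have hpos : ∀ (i : ℕ), 0 < i → ∀ s ∈ 𝒜 i, ∀ m ∈ P, s • m ∈ Q := fun i hi s hs m hm =>
      mem_of_irrelevant 𝒜 x hgen (fun j m hm => hx j (Nat.zero_le _) m hm) hi hs hm
    obtain ⟨Gs, hGs⟩ := IsNoetherian.noetherian (R := S) P
    set D := Gs.sup fun g => ((DirectSum.decompose ℳ g).support).sup id with hD
    have hdeg : ∀ g ∈ Gs, ∀ i, D < i → proj ℳ i g = 0 := by
      intro g hg i hi
      rw [proj_apply]
      by_contra h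
      have h1 : i ∈ (DirectSum.decompose ℳ g).support :=
        DFinsupp.mem_support_iff.2 fun h' => h (by rw [h']; rfl)
      exact absurd ((Finset.le_sup (f := id) h1).trans (Finset.le_sup (f := fun g =>
        ((DirectSum.decompose ℳ g).support).sup id) hg)) (not_le.2 hi)
    refine EB.congr (N := D + 1) ⟨0, fun _ => 0, 0, fun _ _ => rfl, fun n _ => (Finset.sum_range_zero _).symm⟩
      fun n hn => ?_
    suffices hbot : G ℳ Q P n = ⊥ by rw [hbot]; exact cl_bot
    rw [eq_bot_iff]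
    rintro _ ⟨m, ⟨hm, hmn⟩, rfl⟩
    rw [Submodule.mem_bot]
    refine (Submodule.Quotient.mk_eq_zero Q).2 ?_
    rw [← proj_of_mem ℳ hmn]
    replace hm : m ∈ Submodule.span S (Gs : Set M) := hGs ▸ hm
    clear hmn
    obtain ⟨k, c, g, rfl⟩ := Submodule.mem_span_set'.1 hm
    rw [map_sum]
    refine Submodule.sum_mem _ fun l _ => ?_
    generalize c l = s
    have hgP : ((g l) : M) ∈ P := hGs ▸ Submodule.subset_span (g l).2
    induction s using DirectSum.Decomposition.inductionOn 𝒜 with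
    | zero => simp
    | @homogeneous i t =>
      rcases lt_or_ge n i with hni | hni
      · rw [proj_smul_lt 𝒜 ℳ t.2 hni]; exact zero_mem _
      obtain ⟨j, rfl⟩ : ∃ j, n = i + j := ⟨n - i, by omega⟩
      rw [proj_smul 𝒜 ℳ t.2]
      rcases Nat.eq_zero_or_pos i with rfl | hi
      · rw [hdeg _ (g l).2 j (by omega), smul_zero]; exact zero_mem _
      · exact hpos i hi _ t.2 _ (hP _ hgP j)
    | add b c hb hc => rw [add_smul, map_add]; exact add_mem hb hc
  | succ r ih =>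
    intro P Q hP hQ hQP hx
    rcases lt_or_ge r R with hr | hr
    swap
    · exact ih P Q hP hQ hQP fun j _ => absurd j.2 (by omega)
    set y := x ⟨r, hr⟩ with hy
    have hy1 : y ∈ 𝒜 1 := hx1 _
    set K : Submodule S M := P ⊓ Q.comap (LinearMap.lsmul S M y) with hK
    set Q' : Submodule S M := Q ⊔ P.map (LinearMap.lsmul S M y) with hQ'
    have hKH : Homog ℳ K := fun m hm n => ⟨hP m hm.1 n, by
      have h := hQ _ (show y • m ∈ Q from hm.2) (1 + n)
      rwa [proj_smul 𝒜 ℳ hy1] at h⟩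
    have hQ'H : Homog ℳ Q' := by
      intro m hm n
      obtain ⟨q, hq, _, ⟨p, hp, rfl⟩, rfl⟩ := Submodule.mem_sup.1 hm
      rw [map_add]
      refine add_mem (Submodule.mem_sup_left (hQ q hq n)) (Submodule.mem_sup_right ?_)
      rcases Nat.eq_zero_or_pos n with rfl | hn
      · rw [LinearMap.lsmul_apply, proj_smul_lt 𝒜 ℳ hy1 Nat.one_pos]; exact zero_mem _
      · obtain ⟨j, rfl⟩ : ∃ j, n = 1 + j := ⟨n - 1, by omega⟩
        rw [LinearMap.lsmul_apply, proj_smul 𝒜 ℳ hy1]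
        exact ⟨_, hP p hp j, rfl⟩
    have hQ'P : Q' ≤ P := sup_le hQP (by rintro _ ⟨p, hp, rfl⟩; exact P.smul_mem y hp)
    have hQK : Q ≤ K := fun m hm => ⟨hQP hm, Q.smul_mem y hm⟩
    have hrec : ∀ j : Fin R, r ≤ (j : ℕ) → j ≠ ⟨r, hr⟩ → r + 1 ≤ (j : ℕ) := fun j hj hne =>
      Nat.lt_of_le_of_ne hj fun h => hne (Fin.ext h.symm)
    have hKx : ∀ j : Fin R, r ≤ (j : ℕ) → ∀ m ∈ K, x j • m ∈ Q := fun j hj m hm => by
      rcases eq_or_ne j ⟨r, hr⟩ with rfl | hne
      · exact hm.2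
      · exact hx j (hrec j hj hne) m hm.1
    have hPx : ∀ j : Fin R, r ≤ (j : ℕ) → ∀ m ∈ P, x j • m ∈ Q' := fun j hj m hm => by
      rcases eq_or_ne j ⟨r, hr⟩ with rfl | hne
      · exact Submodule.mem_sup_right ⟨m, hm, rfl⟩
      · exact Submodule.mem_sup_left (hx j (hrec j hj hne) m hm)
    refine EB.of_diff ((EB.sub ((ih P Q' hP hQ'H hQ'P hPx).shift) (ih K Q hKH hQ hQK hKx)).congr
      (N := 0) fun n _ => ?_)
    -- the four term sequence
    let f₁ : (M ⧸ Q) →ₗ[A] (M ⧸ Q) := (LinearMap.lsmul S (M ⧸ Q) y).restrictScalars A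
    let f₂ : (M ⧸ Q) →ₗ[A] (M ⧸ Q') := (Submodule.factor (le_sup_left : Q ≤ Q')).restrictScalars A
    have e1 : G ℳ Q P n ⊓ LinearMap.ker f₁ = G ℳ Q K n := by
      ext z
      constructor
      · rintro ⟨⟨m, ⟨hm, hmn⟩, rfl⟩, hz⟩
        exact ⟨m, ⟨⟨hm, (Submodule.Quotient.mk_eq_zero Q).1 hz⟩, hmn⟩, rfl⟩
      · rintro ⟨m, ⟨hm, hmn⟩, rfl⟩
        exact ⟨⟨m, ⟨hm.1, hmn⟩, rfl⟩, (Submodule.Quotient.mk_eq_zero Q).2 hm.2⟩
    have e2 : G ℳ Q P (n + 1) ⊓ LinearMap.ker f₂ = (G ℳ Q P n).map f₁ := by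
      ext z
      constructor
      · rintro ⟨⟨m, ⟨hm, hmn⟩, rfl⟩, hz⟩
        have hz' : m ∈ Q' := (Submodule.Quotient.mk_eq_zero Q').1 hz
        obtain ⟨q, hq, _, ⟨p, hp, rfl⟩, hqp⟩ := Submodule.mem_sup.1 hz'
        have h := congrArg (proj ℳ (1 + n)) hqp
        rw [map_add, LinearMap.lsmul_apply, proj_smul 𝒜 ℳ hy1, add_comm 1 n, proj_of_mem ℳ hmn] at h
        refine ⟨Q.mkQ (proj ℳ n p), ⟨_, ⟨hP p hp n, proj_mem ℳ n p⟩, rfl⟩, ?_⟩
        change Submodule.Quotient.mk (y • proj ℳ n p) = Submodule.Quotient.mk m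
        rw [Submodule.Quotient.eq, ← h, sub_add_eq_sub_sub, sub_right_comm, sub_self, zero_sub]
        exact Q.neg_mem (hQ q hq _)
      · rintro ⟨_, ⟨m, ⟨hm, hmn⟩, rfl⟩, rfl⟩
        refine ⟨⟨y • m, ⟨P.smul_mem y hm, ?_⟩, rfl⟩, ?_⟩
        · rw [add_comm]; exact smul_mem 𝒜 ℳ hy1 hmn
        · exact (Submodule.Quotient.mk_eq_zero Q').2 (Submodule.mem_sup_right ⟨m, hm, rfl⟩)
    have e3 : (G ℳ Q P (n + 1)).map f₂ = G ℳ Q' P (n + 1) := by
      rw [G, G, ← Submodule.map_comp]; rfl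
    have h1 := cl_map f₁ (G ℳ Q P n) (fin Q P n) (by rw [e1]; exact fin Q K n)
    have h2 := cl_map f₂ (G ℳ Q P (n + 1)) (fin Q P (n + 1)) (by
      rw [e2]; haveI := fin Q P n; exact Module.Finite.map _ _)
    rw [e1] at h1
    rw [e2, e3] at h2
    rw [h1, h2]
    abel

theorem main {A S : Type u} [CommRing A] [CommRing S] [Algebra A S] [IsNoetherianRing S]
    (𝒜 : ℕ → Submodule A S) [GradedAlgebra 𝒜]
    (h0 : ∀ s ∈ 𝒜 0, s ∈ Set.range (algebraMap A S))
    (h1 : (HomogeneousIdeal.irrelevant 𝒜).toIdeal = Ideal.span (𝒜 1 : Set S))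
    (M : Type u) [AddCommGroup M] [Module A M] [Module S M] [IsScalarTower A S M] [Module.Finite S M]
    (ℳ : ℕ → Submodule A M) [DirectSum.Decomposition ℳ] [SetLike.GradedSMul 𝒜 ℳ] :
    ∃ (r : ℕ) (a : Fin r → KZero.K0sub (fun X : ModuleCat.{u} A => Module.Finite A X)) (N : ℕ), ∀ n : ℕ, N ≤ n →
      KZero.clSub (fun X : ModuleCat.{u} A => Module.Finite A X) (ModuleCat.of A ↥(ℳ n)) =
        ∑ i : Fin r, ((n.choose (i : ℕ) : ℕ) : ℤ) • a i := by
  classical
  obtain ⟨T, hT, hTspan⟩ := Submodule.fg_span_iff_fg_span_finset_subset _ |>.1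
    (IsNoetherian.noetherian (Ideal.span (𝒜 1 : Set S)))
  let x : Fin T.card → S := fun j => (T.equivFin.symm j : S)
  have hrange : Set.range x = T := by
    ext s
    constructor
    · rintro ⟨j, rfl⟩; exact (T.equivFin.symm j).2
    · exact fun hs => ⟨T.equivFin ⟨s, hs⟩, by simp [x]⟩
  obtain ⟨r, a, N, -, h⟩ := eb_cl 𝒜 ℳ h0 x (fun j => hT (T.equivFin.symm j).2)
    (by rw [hrange, h1]; exact hTspan) T.card ⊤ ⊥ (fun _ _ _ => trivial)
    (fun m hm n => by rw [Submodule.mem_bot] at hm ⊢; rw [hm, map_zero]) bot_le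
    (fun j hj => absurd j.2 (by omega))
  refine ⟨r, fun i => a i, N, fun n hn => ?_⟩
  rw [Fin.sum_univ_eq_sum_range (fun i => ((n.choose i : ℕ) : ℤ) • a i)]
  refine Eq.trans ?_ (h n hn)
  haveI := finite_of_le 𝒜 ℳ h0 (ℳ n) le_rfl
  let e : ↥(ℳ n) ≃ₗ[A] ↥(G ℳ (⊥ : Submodule S M) ⊤ n) :=
    ((Submodule.equivMapOfInjective ((⊥ : Submodule S M).mkQ.restrictScalars A)
      (fun a b hab => sub_eq_zero.1 ((Submodule.mem_bot S).1 ((Submodule.Quotient.eq _).1 hab))) (ℳ n)).trans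
      (LinearEquiv.ofEq _ _ (by simp [G])))
  haveI : Module.Finite A ↥(G ℳ (⊥ : Submodule S M) ⊤ n) := Module.Finite.equiv e
  have hb : cl (A := A) ↥(ℳ n) = cl (A := A) (⊥ : Submodule A M) + cl (A := A) ↥(G ℳ (⊥ : Submodule S M) ⊤ n) :=
    cl_shortExact (Submodule.inclusion bot_le) e.toLinearMap (Submodule.inclusion_injective _) e.surjective
      (fun z => by
        constructor
        · intro hz; exact ⟨0, by rw [map_zero]; exact (e.map_eq_zero_iff.1 hz).symm⟩
        · rintro ⟨w, rfl⟩; simp [Subsingleton.elim w 0])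
  rwa [cl_bot, zero_add] at hb

end Groth.Agent.CAlgH3.HilbertK0
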