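import Groth.Agent.GrLib.Reg
import Groth.Agent.GrLib.GradedDim
import Groth.Agent.GrLib.Piece
import Groth.Agent.LocCoh.DepthLocal

/-! The Hilbert function of a standard graded Cohen–Macaulay algebra is nondecreasing. -/

universe u

open Polynomial

namespace Groth.Agent.CAlgH3.HilbertMono

variable {R : Type u} [CommRing R] [_root_.LocCoh.IsCohenMacaulayRing R] {𝒜 : ℤ → AddSubgroup R} [GradedRing 𝒜]

theorem exists_regular (hpos : ∀ n : ℤ, n < 0 → 𝒜 n = ⊥) (h0 : IsField (GrLC.deg0 𝒜))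
    (h1 : 1 ≤ ringKrullDim R) :
    ∃ r ∈ Ideal.span (⋃ n ∈ Set.Ioi (0 : ℤ), (𝒜 n : Set R)), IsSMulRegular R r := by
  have hpos' : ∀ n : ℤ, n < 0 → ∀ x ∈ 𝒜 n, x = 0 := fun n hn x hx => by rw [hpos n hn] at hx; exact hx
  let a : HomogeneousIdeal 𝒜 := ⟨Ideal.span (⋃ n ∈ Set.Ioi (0 : ℤ), (𝒜 n : Set R)),
    Ideal.homogeneous_span 𝒜 _ (fun x hx => by
      obtain ⟨d, -, hxd⟩ := Set.mem_iUnion₂.1 hx; exact ⟨d, hxd⟩)⟩
  have hle : ∀ J : HomogeneousIdeal 𝒜, J ≠ ⊤ → J ≤ a := by
    intro J hJ x hx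
    refine GrLib.mem_of_proj_mem 𝒜 a.toIdeal fun g => ?_
    have hxg : GrLib.proj 𝒜 g x ∈ J.toIdeal := J.isHomogeneous g hx
    rcases lt_trichotomy g 0 with hg | hg | hg
    · rw [hpos' g hg _ (GrLib.proj_mem 𝒜 g x)]; exact zero_mem _
    · subst hg
      by_cases hz : GrLib.proj 𝒜 0 x = 0
      · rw [hz]; exact zero_mem _
      · exfalso
        obtain ⟨y, hy⟩ := h0.mul_inv_cancel (a := (⟨_, GrLib.proj_mem 𝒜 0 x⟩ : GrLC.deg0 𝒜))
          (fun h => hz (congrArg Subtype.val h))
        refine hJ (HomogeneousIdeal.ext ((Ideal.eq_top_iff_one _).2 ?_))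
        have := J.toIdeal.mul_mem_right (y : R) hxg
        rwa [show GrLib.proj 𝒜 0 x * (y : R) = 1 from congrArg Subtype.val hy] at this
    · exact Ideal.subset_span (Set.mem_iUnion₂.2 ⟨g, hg, GrLib.proj_mem 𝒜 g x⟩)
  obtain ⟨P, hP⟩ : ∃ P : PrimeSpectrum R, True := by
    by_contra h
    simp only [exists_const_iff, and_true] at h
    haveI : IsEmpty (PrimeSpectrum R) := not_nonempty_iff.1 h
    rw [ringKrullDim, Order.krullDim_eq_bot] at h1
    exact absurd h1 (by simp)
  have hatop : a.toIdeal ≠ ⊤ := by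
    intro h
    have hc : (Ideal.homogeneousCore 𝒜 P.asIdeal) ≠ ⊤ := fun h' => P.2.ne_top (top_unique (by
      have := Ideal.toIdeal_homogeneousCore_le 𝒜 P.asIdeal
      rwa [h'] at this))
    have hne : (1 : R) ≠ 0 := fun e => P.2.ne_top ((Ideal.eq_top_iff_one _).2 (by rw [e]; exact zero_mem _))
    refine hne ?_
    have h1' : (1 : R) ∈ a.toIdeal := h ▸ trivial
    have h2 : ∀ x ∈ a.toIdeal, GrLib.proj 𝒜 0 x = 0 := by
      intro x hx
      induction hx using Submodule.span_induction with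
      | mem y hy =>
        obtain ⟨d, hd, hyd⟩ := Set.mem_iUnion₂.1 hy
        exact GrLib.proj_of_mem_ne hyd (ne_of_gt hd)
      | zero => exact map_zero _
      | add y z _ _ hy hz => rw [map_add, hy, hz, add_zero]
      | smul c y _ hy =>
        refine GrLib.smul_induction 𝒜 (motive := fun r => GrLib.proj 𝒜 0 (r • y) = 0) (by simp) ?_ ?_ c
        · intro b s hs
          rcases lt_trichotomy b 0 with hb | hb | hb
          · rw [hpos' b hb s hs, zero_smul, map_zero]
          · subst hb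
            have h3 := GrLib.proj_smul (ℳ := 𝒜) hs 0 y
            rw [add_zero] at h3
            rw [h3, hy, smul_zero]
          · have h3 := GrLib.proj_smul (ℳ := 𝒜) hs (-b) y
            rw [add_neg_cancel] at h3
            rw [h3, hpos' (-b) (by omega) _ (GrLib.proj_mem 𝒜 _ y), smul_zero]
        · intro u v hu hv; rw [add_smul, map_add, hu, hv, add_zero]
    rw [← h2 1 h1', GrLib.proj_of_mem (SetLike.one_mem_graded 𝒜)]
  have hm : GrLC.IsStarLocal 𝒜 a := by
    refine ⟨⟨fun h => hatop (by rw [h]; rfl), fun n hn => ?_⟩, fun n hn => ?_⟩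
    · by_contra hne
      exact hn.not_ge (hle n hne)
    · exact (hn.le_iff.1 (hle n hn.1)).resolve_left (fun h => hatop (by rw [h]; rfl)) |>.symm
  have hh : (1 : ℕ∞) ≤ a.toIdeal.height := by
    rw [GrLib.ringKrullDim_eq_height_starMaximal hpos' hm] at h1
    exact WithBot.coe_le_coe.1 h1
  rw [← (LocCoh.isCohenMacaulayRing_iff_idealDepth R).1 inferInstance _ hatop] at hh
  have hne : a.toIdeal • (⊤ : Submodule R R) ≠ ⊤ := by simpa using hatop
  obtain ⟨rs, hlen, hmem, hreg⟩ := (LocCoh.natCast_le_idealDepth_iff_exists _ _ hne 1).1 hh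
  match rs, hlen, hmem, hreg with
  | r :: rs, _, hmem, hreg => exact ⟨r, hmem r (List.mem_cons_self ..),
      ((RingTheory.Sequence.isWeaklyRegular_cons_iff R r rs).1 hreg.toIsWeaklyRegular).1⟩

theorem finrank_le_succ (hpos : ∀ n : ℤ, n < 0 → 𝒜 n = ⊥) (h0 : IsField (GrLC.deg0 𝒜))
    (hstd : Ideal.span (⋃ n ∈ Set.Ioi (0 : ℤ), (𝒜 n : Set R)) = Ideal.span ((𝒜 1 : AddSubgroup R) : Set R))
    (h1 : 1 ≤ ringKrullDim R) (n : ℤ) :
    Module.finrank (GrLC.deg0 𝒜) (GrLC.comp 𝒜 𝒜 n) ≤ Module.finrank (GrLC.deg0 𝒜) (GrLC.comp 𝒜 𝒜 (n + 1)) := by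
  classical
  haveI : Nontrivial (GrLC.deg0 𝒜) := h0.nontrivial
  obtain ⟨r, hr, hreg⟩ := exists_regular hpos h0 h1
  obtain ⟨gens, hgens, hspan⟩ := GrLib.exists_linear_gens (R := R)
    (⟨Ideal.span ((𝒜 1 : AddSubgroup R) : Set R), Ideal.homogeneous_span 𝒜 _ fun x hx => ⟨1, hx⟩⟩ : HomogeneousIdeal 𝒜) rfl
  let x : Fin gens.length → R := fun i => gens[i]
  haveI : ∀ d, Module.Finite (GrLC.deg0 𝒜) (GrLC.comp 𝒜 𝒜 d) := fun d => by
    haveI := GrLib.isNoetherian_piece 𝒜 𝒜 d
    infer_instance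
  haveI : ∀ d, Module.Free (GrLC.deg0 𝒜) (GrLC.comp 𝒜 𝒜 d) := fun d => by
    letI := h0.toField
    exact Module.Free.of_divisionRing (GrLC.deg0 𝒜) (GrLC.comp 𝒜 𝒜 d)
  let b := Module.finBasis (GrLC.deg0 𝒜) (GrLC.comp 𝒜 𝒜 n)
  let c := Module.finBasis (GrLC.deg0 𝒜) (GrLC.comp 𝒜 𝒜 (n + 1))
  set K := GrLC.deg0 𝒜
  have hmem : ∀ i j, x i * (b j : R) ∈ GrLC.comp 𝒜 𝒜 (n + 1) := fun i j => by
    have h := SetLike.mul_mem_graded (hgens (x i) (List.getElem_mem _)) (b j).2
    show _ ∈ 𝒜 (n + 1)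
    rwa [add_comm] at h
  let A : Fin gens.length → _ → _ → K := fun i l j => c.repr ⟨x i * (b j : R), hmem i j⟩ l
  let Φ : Matrix _ _ K[X] := Matrix.of fun l j => ∑ i, Polynomial.C (A i l j) * X ^ (i : ℕ)
  let φ : K[X] →+* R[X] := Polynomial.mapRingHom K.subtype
  let f : R[X] := ∑ i, Polynomial.C (x i) * X ^ (i : ℕ)
  have hf : f ∈ nonZeroDivisors R[X] := by
    rw [Polynomial.mem_nonZeroDivisors_iff]
    intro e he
    have hex : ∀ i, e * x i = 0 := fun i => by
      have := congrArg (fun q : R[X] => q.coeff (i : ℕ)) he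
      simp only [f, coeff_smul, finset_sum_coeff, coeff_C_mul, coeff_X_pow, smul_eq_mul, mul_ite, mul_one,
        mul_zero, coeff_zero, Fin.val_inj, Finset.sum_ite_eq, Finset.mem_univ, if_true] at this
      exact this
    refine hreg (show r • e = r • (0 : R) from ?_)
    rw [smul_zero, smul_eq_mul, mul_comm]
    have hle : Ideal.span (⋃ n ∈ Set.Ioi (0 : ℤ), (𝒜 n : Set R)) ≤ LinearMap.ker (LinearMap.mulLeft R e) := by
      rw [hstd]
      refine hspan.trans_le (Ideal.span_le.2 fun y hy => ?_)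
      obtain ⟨i, hi, rfl⟩ := List.mem_iff_getElem.1 hy
      exact hex ⟨i, hi⟩
    exact hle hr
  have hinj : Function.Injective Φ.mulVecLin := by
    rw [injective_iff_map_eq_zero]
    intro v hv
    have hrepr : ∀ i j, x i * (b j : R) = ∑ l, (A i l j : R) * (c l : R) := fun i j => by
      have := congrArg Subtype.val (c.sum_repr ⟨x i * (b j : R), hmem i j⟩)
      rw [Submodule.coe_sum] at this
      exact this.symm.trans rfl
    have hg : f * ∑ j, φ (v j) * Polynomial.C (b j : R) = 0 := by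
      have hvl : ∀ l, ∑ j, (∑ i, Polynomial.C (A i l j) * X ^ (i : ℕ)) * v j = 0 := fun l => congrFun hv l
      calc f * ∑ j, φ (v j) * Polynomial.C (b j : R)
          = ∑ i : Fin gens.length, ∑ j, φ (v j) * X ^ (i : ℕ) * Polynomial.C (x i * (b j : R)) := by
            simp only [f, Finset.sum_mul, Finset.mul_sum, map_mul]
            rw [Finset.sum_comm]
            exact Finset.sum_congr rfl fun i _ => Finset.sum_congr rfl fun j _ => by ring
        _ = ∑ i : Fin gens.length, ∑ j, ∑ l, φ (v j) * X ^ (i : ℕ) * (φ (Polynomial.C (A i l j)) * Polynomial.C (c l : R)) := by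
            refine Finset.sum_congr rfl fun i _ => Finset.sum_congr rfl fun j _ => ?_
            rw [hrepr, map_sum, Finset.mul_sum]
            refine Finset.sum_congr rfl fun l _ => ?_
            rw [map_mul]
            simp [φ]
        _ = ∑ l, φ (∑ j, (∑ i, Polynomial.C (A i l j) * X ^ (i : ℕ)) * v j) * Polynomial.C (c l : R) := by
            have hX : φ X = X := Polynomial.map_X _
            simp only [map_sum, map_mul, map_pow, hX, Finset.sum_mul]
            rw [Finset.sum_comm, Finset.sum_congr rfl fun j _ => Finset.sum_comm, Finset.sum_comm]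
            exact Finset.sum_congr rfl fun l _ => Finset.sum_congr rfl fun j _ =>
              Finset.sum_congr rfl fun i _ => by ring
        _ = 0 := by simp only [hvl, map_zero, zero_mul, Finset.sum_const_zero]
    have hg0 := (mul_left_mem_nonZeroDivisors_eq_zero_iff hf).1 hg
    funext j
    refine Polynomial.ext fun t => ?_
    have hlin : ∑ j, (v j).coeff t • b j = 0 := by
      refine Subtype.ext ?_
      have := congrArg (fun q : R[X] => q.coeff t) hg0
      simp only [finset_sum_coeff, coeff_mul_C, coeff_zero] at this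
      rw [Submodule.coe_sum]
      refine Eq.trans (Finset.sum_congr rfl fun j _ => ?_) this
      show ((v j).coeff t : R) * (b j : R) = (Polynomial.map K.subtype (v j)).coeff t * (b j : R)
      rw [Polynomial.coeff_map]; rfl
    exact (Fintype.linearIndependent_iff.1 b.linearIndependent _ hlin j).trans (coeff_zero t).symm
  simpa using LinearMap.finrank_le_finrank_of_injective hinj

end Groth.Agent.CAlgH3.HilbertMono
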