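import Groth.Agent.Coherent.Serre.Uniform
import Groth.Agent.Coherent.ProjSpaceFinite
import Groth.Agent.Coherent.Devissage
import Groth.Agent.ModStalk.Exact
import Groth.Agent.AmpleLib.Generated
import Groth.Agent.CurveRR24.Sky
import Groth.Agent.AmpleLib.FTIdeal

/-!
# Uniform vanishing for the powers of an ideal with a globally generated twist

If `I ⊗ L` is globally generated, the modules `I^p ⊗ L^p` form an eventually generated system, so Serre
vanishing holds for them uniformly in `p`.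
-/

set_option autoImplicit false
set_option backward.isDefEq.respectTransparency.types false

universe u

open CategoryTheory CategoryTheory.Limits AlgebraicGeometry Opposite TopologicalSpace
open Groth.Agent.Coherent Groth.Agent.PicLib Groth.Agent.AmpleLib

noncomputable section

namespace Groth.Agent.CAlgH3.IdealPowVanish

variable {X : Scheme.{u}}

/-- Germs of global sections span the stalks of a globally generated module. -/
theorem span_germ_top_eq_top {H : X.Modules} (hH : Curv2.IsGloballyGenerated H) (x : X) :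
    Submodule.span (X.presheaf.stalk x)
      (Set.range fun s : Γ(H, ⊤) => (H.presheaf.germ ⊤ x trivial s : H.presheaf.stalk x)) = ⊤ := by
  obtain ⟨ι, p₀, hp⟩ := hH
  let p : freeMod X ι ⟶ H := p₀
  haveI : Epi p := hp
  refine Submodule.eq_top_iff'.2 fun z => ?_
  set S := Submodule.span (X.presheaf.stalk x)
      (Set.range fun s : Γ(H, ⊤) => (H.presheaf.germ ⊤ x trivial s : H.presheaf.stalk x)) with hS
  haveI : Epi ((DerSch.stalkFunctor X x).map p) := (DerSch.stalkFunctor X x).map_epi p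
  obtain ⟨y, rfl⟩ :=
    (ModuleCat.epi_iff_surjective ((DerSch.stalkFunctor X x).map p)).1 inferInstance z
  have hl := isColimitOfPreserves (DerSch.stalkFunctor X x)
    (SheafOfModules.isColimitFreeCofan (R := X.ringCatSheaf) ι)
  have h0 : (DerSch.stalkFunctor X x).map p ≫ ModuleCat.ofHom S.mkQ = 0 := by
    refine hl.hom_ext fun ⟨i⟩ => ?_
    refine ModuleCat.hom_ext (LinearMap.ext fun c => ?_)
    obtain ⟨V, hV, r, rfl⟩ := (Coh.structureModule X).presheaf.exists_germ_eq c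
    show S.mkQ (((DerSch.stalkFunctor X x).map p).hom (((DerSch.stalkFunctor X x).map (freeInj i)).hom
      ((Coh.structureModule X).presheaf.germ V x hV r))) = _
    rw [stalk_map_germ, stalk_map_germ, Submodule.mkQ_apply]
    refine ((Submodule.Quotient.mk_eq_zero S).2 ?_).trans (LinearMap.congr_fun (rfl : (0 : _ →ₗ[X.presheaf.stalk x] _) = 0) _)
    rw [show p.app V ((freeInj i).app V r) = (freeInj i ≫ p).app V r from rfl, app_unit,
      ← resM_unitVal (freeInj i ≫ p) (le_top : V ≤ ⊤), QCohLoc.germ_smul',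
      TopCat.Presheaf.germ_res_apply H.presheaf (homOfLE (le_top : V ≤ ⊤))]
    exact S.smul_mem _ (Submodule.subset_span ⟨_, rfl⟩)
  have h1 := congrArg (fun f => f.hom y) h0
  exact (Submodule.Quotient.mk_eq_zero S).1 h1

/-- A coherent globally generated module is generated by finitely many global sections. -/
theorem exists_genOn_top [CompactSpace X] {H : X.Modules} (hH : LocallyFinGen H)
    (hgg : Curv2.IsGloballyGenerated H) :
    ∃ (N : ℕ) (s : Fin N → Γ(H, ⊤)), ∀ (W : X.Opens) (a : Γ(H, W)), ∀ y ∈ W,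
      ∃ (W' : X.Opens) (h : W' ≤ W), y ∈ W' ∧ ∃ c : Fin N → Γ(X, W'),
        resM H h a = ∑ i, c i • resM H le_top (s i) := by
  classical
  have hloc : ∀ y : X, ∃ (O : X.Opens) (S : Finset Γ(H, ⊤)), y ∈ O ∧ ∀ (W : X.Opens), W ≤ O →
      ∀ (a : Γ(H, W)), ∀ z ∈ W, ∃ (W' : X.Opens) (h : W' ≤ W), z ∈ W' ∧
        resM H h a ∈ Submodule.span Γ(X, W') ((fun s => resM H (le_top : W' ≤ ⊤) s) '' (S : Set Γ(H, ⊤))) := by
    intro y
    obtain ⟨U, I, fI, g, hyU, hg⟩ := hH y
    have hspan : ∀ i : I, ∃ (O : X.Opens) (hO : O ≤ U) (S : Finset Γ(H, ⊤)), y ∈ O ∧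
        resM H hO (g i) ∈ Submodule.span Γ(X, O) ((fun s => resM H (le_top : O ≤ ⊤) s) '' (S : Set Γ(H, ⊤))) := by
      intro i
      have hmem := (span_germ_top_eq_top hgg y).ge
        (Submodule.mem_top (x := H.presheaf.germ U y hyU (g i)))
      obtain ⟨c, hc⟩ := Finsupp.mem_span_range_iff_exists_finsupp.1 hmem
      have hlift : ∀ s : Γ(H, ⊤), ∃ (V : X.Opens) (hV : y ∈ V) (r : Γ(X, V)),
          X.presheaf.germ V y hV r = c s := fun s => by
        obtain ⟨V, hV, r, hr⟩ := X.presheaf.exists_germ_eq (c s)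
        exact ⟨V, hV, r, hr⟩
      choose V hV r hr using hlift
      let O₀ : X.Opens := U ⊓ c.support.inf V
      have hyO₀ : y ∈ O₀ := ⟨hyU, by
        have : ∀ S : Finset Γ(H, ⊤), y ∈ S.inf V := fun S => by
          induction S using Finset.induction with
          | empty => simp
          | insert a S _ ih => rw [Finset.inf_insert]; exact ⟨hV a, ih⟩
        exact this _⟩
      let r₀ : Γ(H, ⊤) → Γ(X, O₀) := fun s =>
        if hs : s ∈ c.support then res ((inf_le_right : O₀ ≤ _).trans (Finset.inf_le hs)) (r s) else 0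
      have hgerm : H.presheaf.germ O₀ y hyO₀ (resM H inf_le_left (g i)) =
          H.presheaf.germ O₀ y hyO₀ (∑ s ∈ c.support, r₀ s • resM H le_top s) := by
        rw [map_sum]
        refine (TopCat.Presheaf.germ_res_apply H.presheaf (homOfLE inf_le_left) y hyO₀ (g i)).trans ?_
        rw [← hc, Finsupp.sum]
        refine Finset.sum_congr rfl fun s hs => ?_
        rw [QCohLoc.germ_smul']
        refine congrArg₂ (· • ·) ?_
          (TopCat.Presheaf.germ_res_apply H.presheaf (homOfLE (le_top : O₀ ≤ ⊤)) y hyO₀ s).symm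
        show c s = X.presheaf.germ O₀ y hyO₀ (r₀ s)
        simp only [r₀, dif_pos hs]
        rw [← hr s]
        exact (TopCat.Presheaf.germ_res_apply X.presheaf (homOfLE _) y hyO₀ (r s)).symm
      obtain ⟨O, hyO, i₁, i₂, e⟩ := TopCat.Presheaf.germ_eq H.presheaf y hyO₀ hyO₀ _ _ hgerm
      refine ⟨O, i₁.le.trans inf_le_left, c.support, hyO, ?_⟩
      have e' : resM H i₁.le (resM H inf_le_left (g i)) =
          resM H i₁.le (∑ s ∈ c.support, r₀ s • resM H le_top s) := e
      rw [resM_resM, map_sum] at e'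
      rw [e']
      refine Submodule.sum_mem _ fun s hs => ?_
      rw [resM_smul, resM_resM]
      exact Submodule.smul_mem _ _ (Submodule.subset_span ⟨s, hs, rfl⟩)
    choose O hO S hyO hS using hspan
    refine ⟨U ⊓ Finset.univ.inf O, Finset.univ.biUnion S, ⟨hyU, ?_⟩, fun W hW a z hz => ?_⟩
    · have : ∀ J : Finset I, y ∈ J.inf O := fun J => by
        induction J using Finset.induction with
        | empty => simp
        | insert a J _ ih => rw [Finset.inf_insert]; exact ⟨hyO a, ih⟩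
      exact this _
    · obtain ⟨W', hle, hzW', c, hc⟩ := hg W (hW.trans inf_le_left) a z hz
      refine ⟨W', hle, hzW', ?_⟩
      rw [hc]
      refine Submodule.sum_mem _ fun i _ => Submodule.smul_mem _ _ ?_
      have hWO : W' ≤ O i := hle.trans (hW.trans (inf_le_right.trans (Finset.inf_le (Finset.mem_univ i))))
      rw [show resM H (hle.trans (hW.trans inf_le_left)) (g i) = resM H hWO (resM H (hO i) (g i)) from
        (resM_resM _ _ _ _).symm]
      refine Submodule.span_induction (p := fun x _ => resM H hWO x ∈ _) (fun x hx => ?_)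
        (by rw [map_zero]; exact Submodule.zero_mem _)
        (fun x x' _ _ hx hx' => by rw [map_add]; exact Submodule.add_mem _ hx hx')
        (fun r x _ hx => by rw [resM_smul]; exact Submodule.smul_mem _ _ hx) (hS i)
      obtain ⟨s, hs, rfl⟩ := hx
      rw [resM_resM]
      exact Submodule.subset_span ⟨s, Finset.mem_biUnion.2 ⟨i, Finset.mem_univ i, hs⟩, rfl⟩
  choose O S hyO hS using hloc
  obtain ⟨t, ht⟩ := isCompact_univ.elim_finite_subcover (fun y : X => (O y : Set X)) (fun y => (O y).2)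
    fun y _ => Set.mem_iUnion.2 ⟨y, hyO y⟩
  let σ : Finset Γ(H, ⊤) := t.biUnion S
  refine ⟨σ.card, fun i => (σ.equivFin.symm i).1, fun W a y hy => ?_⟩
  obtain ⟨y₀, hy₀, hyy₀⟩ := Set.mem_iUnion₂.1 (ht (Set.mem_univ y))
  obtain ⟨W', hle, hyW', hmem⟩ := hS y₀ (W ⊓ O y₀) inf_le_right (resM H inf_le_left a) y ⟨hy, hyy₀⟩
  rw [resM_resM] at hmem
  refine ⟨W', hle.trans inf_le_left, hyW', ?_⟩
  have hmem' : resM H (hle.trans inf_le_left) a ∈ Submodule.span Γ(X, W')
      (Set.range fun i : Fin σ.card => resM H (le_top : W' ≤ ⊤) (σ.equivFin.symm i).1) := by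
    refine Submodule.span_mono ?_ hmem
    rintro _ ⟨s, hs, rfl⟩
    exact ⟨σ.equivFin ⟨s, Finset.mem_biUnion.2 ⟨y₀, hy₀, hs⟩⟩, by simp⟩
  obtain ⟨c, hc⟩ := (Submodule.mem_span_range_iff_exists_fun Γ(X, W')).1 hmem'
  exact ⟨c, hc.symm⟩

/-- A map factors through a subobject if it does so locally. -/
theorem comp_cokernel_eq_zero {A B C : X.Modules} (f : A ⟶ B) (j : C ⟶ B)
    (h : ∀ (U : X.Opens) (z : Γ(A, U)), ∀ y ∈ U, ∃ (W : X.Opens) (hle : W ≤ U), y ∈ W ∧
      ∃ w : Γ(C, W), f.app W (resM A hle z) = j.app W w) : f ≫ cokernel.π j = 0 := by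
  refine Scheme.Modules.hom_ext _ _ fun U => ?_
  ext z
  refine sec_ext _ _ _ fun y hy => ?_
  obtain ⟨W, hle, hyW, w, hw⟩ := h U z y hy
  refine ⟨W, hle, hyW, ?_⟩
  rw [← app_resM]
  show (cokernel.π j).app W (f.app W (resM A hle z)) = resM (cokernel j) hle 0
  rw [hw, map_zero]
  exact ConcreteCategory.congr_hom (congrArg (fun φ => Scheme.Modules.Hom.app φ W) (cokernel.condition j)) w

theorem app_comp_eq {A B C : X.Modules} {f : A ⟶ B} {j : B ⟶ C} {g : A ⟶ C} (h : f ≫ j = g) {U : X.Opens}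
    (x : Γ(A, U)) : j.app U (f.app U x) = g.app U x :=
  ConcreteCategory.congr_hom (congrArg (fun φ => Scheme.Modules.Hom.app φ U) h) x

theorem comp_eq_of_square {A B C A' B' C' : X.Modules} {a a' : A ⟶ B} {b b' : B ⟶ C} (jA : A ⟶ A') (jB : B ⟶ B')
    (jC : C ⟶ C') [Mono jC] {α α' : A' ⟶ B'} {β β' : B' ⟶ C'} (ha : a ≫ jB = jA ≫ α) (ha' : a' ≫ jB = jA ≫ α')
    (hb : b ≫ jC = jB ≫ β) (hb' : b' ≫ jC = jB ≫ β') (hc : α ≫ β' = α' ≫ β) : a ≫ b' = a' ≫ b := by
  rw [← cancel_mono jC, Category.assoc, Category.assoc, hb, hb', ← Category.assoc, ← Category.assoc, ha, ha',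
    Category.assoc, Category.assoc, hc]

theorem sum_tmul_right {M L : X.Modules} {N : ℕ} {U : X.Opens} (A : Γ(M, U)) (l : Fin N → Γ(L, U)) :
    ∑ i, tmul A (l i) = tmul A (∑ i, l i) :=
  (map_sum (AddMonoidHom.mk' (fun x : Γ(L, U) => tmul A x) fun x x' => tmul_add_right _ _ _) l Finset.univ).symm

section system

variable {L : X.Modules} (I : X.IdealSheafData)

/-- The twisted powers. -/
abbrev pw (L : X.Modules) (p : ℕ) : X.Modules :=
  CohB1.tensorMod (ClSub.idealMod (I ^ p)) (CohB1.tensorPow L p)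

/-- Multiplication by a global section. -/
def mulBy (M : X.Modules) (σ : Γ(L, (⊤ : X.Opens))) : M ⟶ CohB1.tensorMod M L :=
  toUnitTensor M ≫ tensorSwap _ _ ≫ tensorMap (𝟙 M) (Coherent.unitDesc L σ)

theorem mulBy_app (M : X.Modules) (σ : Γ(L, (⊤ : X.Opens))) (W : X.Opens) (a : Γ(M, W)) :
    (mulBy M σ).app W a = tmul a (resM L le_top σ) := by
  show (tensorMap _ _).app W ((tensorSwap _ _).app W (tmul _ a)) = _
  rw [show (tensorSwap _ _).app W (tmul (show Γ(Coh.structureModule X, W) from (1 : Γ(X, W))) a) = tmul a _ from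
    Bilin.desc_tmul _ _ _ _, tensorMap_tmul]
  exact congrArg₂ tmul rfl (Coherent.unitVal_unitDesc L σ W)

theorem mulBy_comm (hL : PicF.IsInvertible L) (M : X.Modules) (σ τ : Γ(L, (⊤ : X.Opens))) :
    mulBy M σ ≫ mulBy _ τ = mulBy M τ ≫ mulBy _ σ := by
  refine Scheme.Modules.hom_ext _ _ fun U => ?_
  ext z
  refine sec_ext _ _ _ fun y hy => ?_
  obtain ⟨V, hyV, g, hg⟩ := exists_isGen hL y
  refine ⟨U ⊓ V, inf_le_left, ⟨hy, hyV⟩, ?_⟩
  rw [← app_resM, ← app_resM]
  simp only [Scheme.Modules.Hom.comp_app, ConcreteCategory.comp_apply, mulBy_app]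
  obtain ⟨e, he⟩ := (hg _ inf_le_right).2 (resM L (le_top : U ⊓ V ≤ ⊤) σ)
  obtain ⟨e', he'⟩ := (hg _ inf_le_right).2 (resM L (le_top : U ⊓ V ≤ ⊤) τ)
  rw [← he, ← he']
  simp only [tmul_smul_right, tmul_smul_left, smul_smul, mul_comm e]

theorem mono_twistMul (J : X.IdealSheafData) {P : X.Modules} (hP : PicF.IsInvertible P) :
    Mono (twistMul J P) := by
  haveI := mono_idealModι J
  haveI := EulerLib.mono_tensorMap hP (ClSub.idealModι J)
  exact mono_comp _ _

variable {I} (hL : PicF.IsInvertible L) (s : Γ(CohB1.tensorMod (ClSub.idealMod I) L, (⊤ : X.Opens)))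

theorem mem_ideal_of_section (J : X.IdealSheafData) {W : X.Opens} (hW : IsAffineOpen W)
    (k : Γ(ClSub.idealMod J, W)) :
    (show Γ(X, W) from (ClSub.idealModι J).app W k) ∈ J.ideal ⟨W, hW⟩ := by
  rw [← J.ker_subschemeι_app ⟨W, hW⟩, RingHom.mem_ker]
  exact (mem_range_idealModι J W _).1 ⟨k, rfl⟩

theorem exists_section_of_mem (J : X.IdealSheafData) {W : X.Opens} (hW : IsAffineOpen W)
    {f : Γ(X, W)} (hf : f ∈ J.ideal ⟨W, hW⟩) : ∃ k, (ClSub.idealModι J).app W k = f :=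
  (mem_range_idealModι J W f).2 (by
    rw [← J.ker_subschemeι_app ⟨W, hW⟩, RingHom.mem_ker] at hf
    exact hf)

include hL in
theorem exists_local_value (J : X.IdealSheafData) (p : ℕ) {W : X.Opens} {g : Γ(L, W)} (hg : IsGen L W g)
    (z : Γ(CohB1.tensorMod (ClSub.idealMod J) (CohB1.tensorPow L p), W)) :
    ∃ k : Γ(ClSub.idealMod J, W), z = tmul k (powSec g p) ∧
      (twistMul J _).app W z = (show Γ(X, W) from (ClSub.idealModι J).app W k) • powSec g p := by
  obtain ⟨k, hk⟩ := (bijective_tmul_gen (M := ClSub.idealMod J) (isGen_powSec hg p) W le_rfl).2 z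
  simp only [resM_self] at hk
  subst hk
  exact ⟨k, rfl, twistMul_tmul _ _ _ _⟩

include hL in
theorem step_factors (p : ℕ) :
    (twistMul (I ^ p) (CohB1.tensorPow L p) ≫ mulBy _ ((twistMul I L).app ⊤ s)) ≫
      cokernel.π (twistMul (I ^ (p + 1)) (CohB1.tensorPow L (p + 1))) = 0 := by
  refine comp_cokernel_eq_zero _ _ fun U z y hy => ?_
  obtain ⟨V, hyV, g, hg⟩ := exists_isGen hL y
  obtain ⟨W, hW, hyW, hWUV⟩ := exists_isAffineOpen_mem_and_subset (x := y) (U := U ⊓ V) ⟨hy, hyV⟩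
  have hWU : W ≤ U := fun x hx => (hWUV hx).1
  have hWV : W ≤ V := fun x hx => (hWUV hx).2
  obtain ⟨k, -, hk⟩ := exists_local_value hL (I ^ p) p (hg.restrict hWV) (resM _ hWU z)
  obtain ⟨c, hc⟩ := (bijective_tmul_gen (M := ClSub.idealMod I) hg W hWV).2 (resM _ le_top s)
  have hσ : resM L (le_top : W ≤ ⊤) ((twistMul I L).app ⊤ s) =
      (show Γ(X, W) from (ClSub.idealModι I).app W c) • resM L hWV g := by
    rw [← app_resM, ← hc]
    exact twistMul_tmul _ _ _ _
  have hmem : (show Γ(X, W) from (ClSub.idealModι (I ^ p)).app W k) *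
      (show Γ(X, W) from (ClSub.idealModι I).app W c) ∈ (I ^ (p + 1)).ideal ⟨W, hW⟩ := by
    rw [Scheme.IdealSheafData.ideal_pow, Pi.pow_apply, pow_succ]
    refine Ideal.mul_mem_mul ?_ (mem_ideal_of_section I hW c)
    have := mem_ideal_of_section (I ^ p) hW k
    rwa [Scheme.IdealSheafData.ideal_pow, Pi.pow_apply] at this
  obtain ⟨w, hw⟩ := exists_section_of_mem (I ^ (p + 1)) hW hmem
  refine ⟨W, hWU, hyW, tmul w (powSec (resM L hWV g) (p + 1)), ?_⟩
  rw [Scheme.Modules.Hom.comp_app, ConcreteCategory.comp_apply, mulBy_app, hk, hσ, tmul_smul_smul]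
  refine Eq.trans ?_ (twistMul_tmul _ _ _ _).symm
  rw [hw]
  rfl

/-- Multiplication by a section of `I ⊗ L`. -/
def step (p : ℕ) : pw I L p ⟶ pw I L (p + 1) :=
  haveI : Mono (twistMul (I ^ (p + 1)) (CohB1.tensorPow L (p + 1))) :=
    mono_twistMul _ (isInvertible_tensorPow hL (p + 1))
  Abelian.monoLift (twistMul (I ^ (p + 1)) (CohB1.tensorPow L (p + 1))) _ (step_factors hL s p)

theorem step_fac (p : ℕ) : step hL s p ≫ twistMul (I ^ (p + 1)) (CohB1.tensorPow L (p + 1)) =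
    twistMul (I ^ p) (CohB1.tensorPow L p) ≫ mulBy _ ((twistMul I L).app ⊤ s) :=
  haveI : Mono (twistMul (I ^ (p + 1)) (CohB1.tensorPow L (p + 1))) :=
    mono_twistMul _ (isInvertible_tensorPow hL (p + 1))
  Abelian.monoLift_comp (twistMul (I ^ (p + 1)) (CohB1.tensorPow L (p + 1))) _ _

theorem step_comm (s' : Γ(CohB1.tensorMod (ClSub.idealMod I) L, (⊤ : X.Opens))) (p : ℕ) :
    step hL s p ≫ step hL s' (p + 1) = step hL s' p ≫ step hL s (p + 1) := by
  haveI : Mono (twistMul (I ^ (p + 1 + 1)) (CohB1.tensorPow L (p + 1 + 1))) :=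
    mono_twistMul _ (isInvertible_tensorPow hL (p + 1 + 1))
  exact comp_eq_of_square _ _ _ (step_fac hL s p) (step_fac hL s' p) (step_fac hL s (p + 1))
    (step_fac hL s' (p + 1)) (mulBy_comm hL _ _ _)

include hL in
theorem local_mul {N : ℕ} (σ : Fin N → Γ(CohB1.tensorMod (ClSub.idealMod I) L, (⊤ : X.Opens)))
    (hσ : ∀ (W : X.Opens) (a : Γ(CohB1.tensorMod (ClSub.idealMod I) L, W)), ∀ y ∈ W,
      ∃ (W' : X.Opens) (h : W' ≤ W), y ∈ W' ∧ ∃ c : Fin N → Γ(X, W'),
        resM _ h a = ∑ i, c i • resM _ le_top (σ i))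
    {p : ℕ} {W : X.Opens} (hW : IsAffineOpen W) {g : Γ(L, W)} (y : X) (hy : y ∈ W)
    {a₁ c : Γ(X, W)} (ha₁ : a₁ ∈ (I ^ p).ideal ⟨W, hW⟩) (hc : c ∈ I.ideal ⟨W, hW⟩)
    (w : Γ(pw I L (p + 1), W))
    (hw : (twistMul (I ^ (p + 1)) _).app W w = (a₁ * c) • powSec g (p + 1)) :
    ∃ (W' : X.Opens) (h : W' ≤ W), y ∈ W' ∧ ∃ b : Fin N → Γ(pw I L p, W'),
      ∑ i, (step hL (σ i) p).app W' (b i) = resM _ h w := by
  obtain ⟨ka, hka⟩ := exists_section_of_mem (I ^ p) hW ha₁
  obtain ⟨kc, hkc⟩ := exists_section_of_mem I hW hc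
  obtain ⟨W', h, hyW', e, he⟩ := hσ W (tmul kc g) y hy
  refine ⟨W', h, hyW', fun i => e i • resM _ h (tmul ka (powSec g p)), ?_⟩
  haveI : Mono (twistMul (I ^ (p + 1)) (CohB1.tensorPow L (p + 1))) :=
    mono_twistMul _ (isInvertible_tensorPow hL (p + 1))
  refine app_injective_of_mono (twistMul (I ^ (p + 1)) (CohB1.tensorPow L (p + 1))) _ ?_
  rw [map_sum]
  have e1 : ∀ i, (twistMul (I ^ (p + 1)) _).app W' ((step hL (σ i) p).app W'
      (e i • resM _ h (tmul ka (powSec g p)))) =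
      tmul (resM _ h (a₁ • powSec g p)) (e i • resM L le_top ((twistMul I L).app ⊤ (σ i))) := by
    intro i
    refine (app_comp_eq (step_fac hL (σ i) p) _).trans ((app_comp_eq rfl _).symm.trans ?_)
    refine (mulBy_app _ _ _ _).trans ?_
    rw [Scheme.Modules.Hom.app_smul,
      app_resM, twistMul_tmul, hka, tmul_smul_left, tmul_smul_right]
  have e2 : ∑ i, e i • resM L (le_top : W' ≤ ⊤) ((twistMul I L).app ⊤ (σ i)) = resM L h (c • g) := by
    have := congrArg ((twistMul I L).app W') he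
    rw [map_sum, app_resM, twistMul_tmul, hkc] at this
    rw [this]
    exact Finset.sum_congr rfl fun i _ => by rw [Scheme.Modules.Hom.app_smul, app_resM]
  refine (Finset.sum_congr rfl fun i _ => e1 i).trans ?_
  rw [app_resM, hw]
  refine (sum_tmul_right _ _).trans ?_
  rw [e2, ← resM_tmul, tmul_smul_smul]
  rfl

include hL in
theorem local_surjective {N : ℕ} (σ : Fin N → Γ(CohB1.tensorMod (ClSub.idealMod I) L, (⊤ : X.Opens)))
    (hσ : ∀ (W : X.Opens) (a : Γ(CohB1.tensorMod (ClSub.idealMod I) L, W)), ∀ y ∈ W,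
      ∃ (W' : X.Opens) (h : W' ≤ W), y ∈ W' ∧ ∃ c : Fin N → Γ(X, W'),
        resM _ h a = ∑ i, c i • resM _ le_top (σ i))
    {p : ℕ} {W : X.Opens} (hW : IsAffineOpen W) {g : Γ(L, W)} (y : X) (hy : y ∈ W)
    {f : Γ(X, W)} (hf : f ∈ (I ^ (p + 1)).ideal ⟨W, hW⟩) :
    ∀ w : Γ(pw I L (p + 1), W), (twistMul (I ^ (p + 1)) _).app W w = f • powSec g (p + 1) →
    ∃ (W' : X.Opens) (h : W' ≤ W), y ∈ W' ∧ ∃ b : Fin N → Γ(pw I L p, W'),
      ∑ i, (step hL (σ i) p).app W' (b i) = resM _ h w := by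
  rw [Scheme.IdealSheafData.ideal_pow, Pi.pow_apply, pow_succ] at hf
  induction hf using Submodule.mul_induction_on' with
  | mem_mul_mem a₁ ha₁ c hc =>
    exact fun w hw => local_mul hL σ hσ hW y hy
      (by rw [Scheme.IdealSheafData.ideal_pow, Pi.pow_apply]; exact ha₁) hc w hw
  | add f₁ hf₁ f₂ hf₂ ih₁ ih₂ =>
    intro w hw
    obtain ⟨k₁, hk₁⟩ := exists_section_of_mem (I ^ (p + 1)) hW (f := f₁)
      (by rw [Scheme.IdealSheafData.ideal_pow, Pi.pow_apply, pow_succ]; exact hf₁)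
    let w₁ : Γ(pw I L (p + 1), W) := tmul k₁ (powSec g (p + 1))
    have hw₁ : (twistMul (I ^ (p + 1)) _).app W w₁ = f₁ • powSec g (p + 1) := by
      rw [twistMul_tmul, hk₁]
    have hw₂ : (twistMul (I ^ (p + 1)) _).app W (w - w₁) = f₂ • powSec g (p + 1) := by
      rw [map_sub, hw, hw₁, ← sub_smul, add_sub_cancel_left]
    obtain ⟨W₁, h₁, hy₁, b₁, hb₁⟩ := ih₁ w₁ hw₁
    obtain ⟨W₂, h₂, hy₂, b₂, hb₂⟩ := ih₂ (w - w₁) hw₂
    refine ⟨W₁ ⊓ W₂, inf_le_left.trans h₁, ⟨hy₁, hy₂⟩,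
      fun i => resM _ inf_le_left (b₁ i) + resM _ inf_le_right (b₂ i), ?_⟩
    simp only [map_add, Finset.sum_add_distrib, app_resM, ← map_sum, hb₁, hb₂, resM_resM]
    rw [← map_add, add_sub_cancel]

include hL in
theorem secEG_steps [IsLocallyNoetherian X] {N : ℕ}
    (σ : Fin N → Γ(CohB1.tensorMod (ClSub.idealMod I) L, (⊤ : X.Opens)))
    (hσ : ∀ (W : X.Opens) (a : Γ(CohB1.tensorMod (ClSub.idealMod I) L, W)), ∀ y ∈ W,
      ∃ (W' : X.Opens) (h : W' ≤ W), y ∈ W' ∧ ∃ c : Fin N → Γ(X, W'),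
        resM _ h a = ∑ i, c i • resM _ le_top (σ i)) :
    SecEG (fun p => pw I L p) fun i p => step hL (σ i) p := by
  classical
  haveI := hasFiniteBiproducts X
  have hqc : ∀ p, Coh.IsQCoh (pw I L p) := fun p =>
    haveI := (CurveRR24.isCoh_idealMod' (I ^ p)).1
    isQCoh_tensor_invertible _ (isInvertible_tensorPow hL p)
  intro U hU
  refine ⟨0, fun p _ x => ?_⟩
  let Φ : (⨁ fun _ : Fin N => pw I L p) ⟶ pw I L (p + 1) := biproduct.desc fun i => step hL (σ i) p
  have hlift : ∀ (V : X.Opens) (c : Fin N → Γ(pw I L p, V)),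
      ∃ b, Φ.app V b = ∑ i, (step hL (σ i) p).app V (c i) := fun V c => by
    refine ⟨∑ i, (biproduct.ι (fun _ : Fin N => pw I L p) i).app V (c i), ?_⟩
    rw [map_sum]
    exact Finset.sum_congr rfl fun i _ => ConcreteCategory.congr_hom
      (congrArg (fun φ => Scheme.Modules.Hom.app φ V) (biproduct.ι_desc (fun i => step hL (σ i) p) i)) (c i)
  haveI : Epi Φ := epi_of_locally_surjective Φ fun U₀ a y hy => by
    obtain ⟨V, hyV, g, hg⟩ := exists_isGen hL y
    obtain ⟨W, hW, hyW, hWUV⟩ := exists_isAffineOpen_mem_and_subset (x := y) (U := U₀ ⊓ V) ⟨hy, hyV⟩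
    have hWU : W ≤ U₀ := fun z hz => (hWUV hz).1
    have hWV : W ≤ V := fun z hz => (hWUV hz).2
    obtain ⟨k, -, hkv⟩ := exists_local_value hL (I ^ (p + 1)) (p + 1) (hg.restrict hWV) (resM _ hWU a)
    obtain ⟨W', h, hyW', c, hc⟩ := local_surjective hL σ hσ hW y hyW (mem_ideal_of_section _ hW k) _ hkv
    obtain ⟨b, hb⟩ := hlift W' c
    exact ⟨W', h.trans hWU, hyW', b, (hb.trans hc).trans (resM_resM _ _ _ _)⟩
  haveI := isQCoh_biproduct (fun _ : Fin N => pw I L p) (fun _ => hqc p)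
  haveI := hqc (p + 1)
  have hS : (ShortComplex.mk (kernel.ι Φ) Φ (kernel.condition Φ)).ShortExact :=
    { exact := ShortComplex.exact_kernel Φ }
  haveI : Coh.IsQCoh (kernel Φ) := isQCoh_kernel Φ
  obtain ⟨b, hb⟩ := sections_surjective hS hU x
  refine ⟨fun i => (biproduct.π (fun _ : Fin N => pw I L p) i).app U b, ?_⟩
  refine hb.symm.trans ?_
  show Φ.app U b = _
  conv_lhs => rw [← biproduct_sections_total (fun _ : Fin N => pw I L p) U b]
  rw [map_sum]
  exact Finset.sum_congr rfl fun i _ => ConcreteCategory.congr_hom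
    (congrArg (fun φ => Scheme.Modules.Hom.app φ U) (biproduct.ι_desc (fun i => step hL (σ i) p) i)) _

include hL in
/-- Uniform vanishing along the powers of `I`. -/
theorem exists_vanishesFrom [IsLocallyNoetherian X] [CompactSpace X]
    (hgg : Curv2.IsGloballyGenerated (CohB1.tensorMod (ClSub.idealMod I) L))
    {A : X.Modules} (hA : PicF.IsInvertible A)
    (hV : ∀ F : X.Modules, Coh.IsCoh F → ∃ n₀, Coherent.Serre.VanishesFrom A n₀ F) :
    ∃ n₀, ∀ p, Coherent.Serre.VanishesFrom A n₀ (pw I L p) := by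
  have hcoh : ∀ p, Coh.IsCoh (pw I L p) := fun p =>
    EulerLib.isCoh_twist (isInvertible_tensorPow hL p) (CurveRR24.isCoh_idealMod' (I ^ p))
  obtain ⟨N, σ, hσ⟩ := exists_genOn_top (locallyFinGen_of_isFT _
    (EulerLib.isCoh_twist hL (CurveRR24.isCoh_idealMod' I)).2) hgg
  exact Coherent.Serre.exists_uniform_vanishesFrom hA hV N (fun p => pw I L p) hcoh (fun i p => step hL (σ i) p)
    (fun i j p => step_comm hL (σ i) (σ j) p) (secEG_steps hL σ hσ)

end system

end Groth.Agent.CAlgH3.IdealPowVanish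

end
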