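import Mathlib
import Groth.Prelude.Def_Wider
import Groth.Agent.S0306
import Groth.Agent.S0307

/-! An injective module over a Noetherian ring is the directed union of modules which are finite over
Artinian algebras: the pieces `E[p ^ n]` of its indecomposable summands. -/

set_option autoImplicit false

universe u

namespace Groth.Agent.CAlgH3.InjColim

open InjHull

variable {A : Type u} [CommRing A] {p : Ideal A} [p.IsPrime]
  {E : Type u} [AddCommGroup E] [Module A E] {g : p.ResidueField →ₗ[A] E}

lemma residue_unit (s : A) (hs : s ∉ p) : IsUnit (algebraMap A p.ResidueField s) :=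
  isUnit_iff_ne_zero.2 fun h => hs (Ideal.algebraMap_residueField_eq_zero.1 h)

lemma bijective_smul (hg : IsInjectiveHull g) (s : A) (hs : s ∉ p) :
    Function.Bijective (algebraMap A (Module.End A E) s) := by
  set f : E →ₗ[A] E := algebraMap A (Module.End A E) s
  have hf : ∀ x, f x = s • x := fun x => rfl
  obtain ⟨u, hu⟩ := residue_unit s hs
  have hinj : Function.Injective f := by
    rw [← LinearMap.ker_eq_bot]
    by_contra h
    obtain ⟨x, ⟨hx, ⟨z, rfl⟩⟩, hne⟩ := (Submodule.ne_bot_iff _).1 (hg.essential _ h)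
    have hx' : s • g z = 0 := hx
    rw [← map_smul] at hx'
    have hz := hg.injective (hx'.trans (map_zero g).symm)
    rw [Algebra.smul_def, ← hu, Units.mul_right_eq_zero] at hz
    exact hne (by rw [hz, map_zero])
  refine ⟨hinj, ?_⟩
  obtain ⟨r, hr⟩ := hg.isInjective.out f hinj LinearMap.id
  have hk : LinearMap.ker r = ⊥ := by
    by_contra h
    obtain ⟨x, ⟨hx, ⟨z, rfl⟩⟩, hne⟩ := (Submodule.ne_bot_iff _).1 (hg.essential _ h)
    have hz : g z = f (g (↑u⁻¹ * z)) := by
      rw [hf, ← map_smul, Algebra.smul_def, ← hu, Units.mul_inv_cancel_left]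
    have hx' : r (g z) = 0 := hx
    rw [hz] at hx'
    have h0 : g (↑u⁻¹ * z) = 0 := (hr (g (↑u⁻¹ * z))).symm.trans hx'
    exact hne (by rw [hz, h0, map_zero])
  intro x
  refine ⟨r x, ?_⟩
  exact LinearMap.ker_eq_bot.1 hk (hr (r x))

variable [IsNoetherianRing A]

lemma exists_pow_smul_eq_zero (hg : IsInjectiveHull g) (x : E) :
    ∃ n : ℕ, ∀ a ∈ p ^ (n + 1), a • x = 0 := by
  have hnil : ∀ a ∈ p, ∃ m : ℕ, a ^ m • x = 0 := by
    intro a ha
    let c : ℕ →o Ideal A :=
      ⟨fun m => LinearMap.ker (LinearMap.toSpanSingleton A E (a ^ m • x)),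
        monotone_nat_of_le_succ fun m b hb => by
          simp only [LinearMap.mem_ker, LinearMap.toSpanSingleton_apply] at hb ⊢
          rw [pow_succ', mul_smul, smul_comm, hb, smul_zero]⟩
    obtain ⟨N, hN⟩ := (wellFoundedGT_iff_monotone_chain_condition.1 inferInstance) c
    refine ⟨N, ?_⟩
    by_contra h
    obtain ⟨y, ⟨hy, ⟨z, rfl⟩⟩, hne⟩ := (Submodule.ne_bot_iff _).1
      (hg.essential (Submodule.span A {a ^ N • x}) (by simpa using h))
    obtain ⟨b, hb⟩ := Submodule.mem_span_singleton.1 hy
    have hb1 : b ∈ c (N + 1) := by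
      change b • a ^ (N + 1) • x = 0
      rw [pow_succ', mul_smul, smul_comm, hb, ← map_smul, Algebra.smul_def,
        Ideal.algebraMap_residueField_eq_zero.2 ha, zero_mul, map_zero]
    rw [← hN (N + 1) (Nat.le_succ N)] at hb1
    exact hne (hb.symm.trans hb1)
  have hle : p ≤ Ideal.radical (LinearMap.ker (LinearMap.toSpanSingleton A E x)) := fun a ha => by
    obtain ⟨m, hm⟩ := hnil a ha
    exact ⟨m, hm⟩
  obtain ⟨n, hn⟩ := Ideal.exists_pow_le_of_le_radical_of_fg hle (IsNoetherian.noetherian p)
  exact ⟨n, fun a ha => hn (Ideal.pow_le_pow_right (Nat.le_succ n) ha)⟩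

variable (p) in
/-- The Artinian ring `A_p / p ^ (n + 1) A_p`. -/
abbrev Q (n : ℕ) : Type u :=
  Localization.AtPrime p ⧸ (p.map (algebraMap A (Localization.AtPrime p))) ^ (n + 1)

instance (n : ℕ) : IsArtinianRing (Q p n) := by
  have hne : (p.map (algebraMap A (Localization.AtPrime p))) ^ (n + 1) ≠ ⊤ := by
    rw [Localization.AtPrime.map_eq_maximalIdeal]
    exact fun h => (IsLocalRing.maximalIdeal.isMaximal _).ne_top
      (top_le_iff.1 (h ▸ Ideal.pow_le_self (Nat.succ_ne_zero n)))
  have : Nontrivial (Q p n) := Ideal.Quotient.nontrivial_iff.2 hne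
  have : IsLocalRing (Q p n) := .of_surjective' _ Ideal.Quotient.mk_surjective
  rw [isArtinianRing_iff_isNilpotent_maximalIdeal,
    ← IsLocalRing.map_maximalIdeal_of_surjective _ Ideal.Quotient.mk_surjective]
  refine ⟨n + 1, (Ideal.map_pow _ _ _).symm.trans ((Ideal.map_eq_bot_iff_le_ker _).2 (le_of_eq ?_))⟩
  rw [Ideal.mk_ker, Localization.AtPrime.map_eq_maximalIdeal]

variable (p E) in
abbrev T (n : ℕ) : Submodule A E := Submodule.torsionBySet A E (↑(p ^ (n + 1)) : Set A)

theorem exists_module (hg : IsInjectiveHull g) (n : ℕ) :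
    ∃ (_ : Module (Q p n) (T p E n)) (_ : IsScalarTower A (Q p n) (T p E n)),
      Module.Finite (Q p n) (T p E n) := by
  have hmem : ∀ {x : E}, x ∈ T p E n ↔ ∀ a ∈ p ^ (n + 1), a • x = 0 := by
    simp [T, Submodule.mem_torsionBySet_iff, Subtype.forall]
  have hbij : ∀ s : p.primeCompl, IsUnit ((Algebra.ofId A (Module.End A (T p E n))) s) := by
    intro s
    rw [Module.End.isUnit_iff]
    obtain ⟨hi, hs⟩ := bijective_smul hg (s : A) s.2
    refine ⟨fun x y h => Subtype.ext (hi (congrArg Subtype.val h)), fun x => ?_⟩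
    obtain ⟨y, hy⟩ := hs x
    have hy' : (s : A) • y = (x : E) := hy
    refine ⟨⟨y, hmem.2 fun a ha => hi ?_⟩, Subtype.ext hy⟩
    change (s : A) • (a • y) = (s : A) • (0 : E)
    rw [smul_zero, smul_comm, hy', hmem.1 x.2 a ha]
  have : IsLocalizedModule p.primeCompl (LinearMap.id : T p E n →ₗ[A] T p E n) :=
    { map_units := hbij
      surj := fun y => ⟨(y, 1), by simp⟩
      exists_of_eq := fun h => ⟨1, by simpa using h⟩ }
  let e : T p E n ≃ₗ[A] LocalizedModule p.primeCompl (T p E n) :=
    (IsLocalizedModule.iso p.primeCompl (LinearMap.id : T p E n →ₗ[A] T p E n)).symm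
  letI mL : Module (Localization.AtPrime p) (T p E n) := e.toAddEquiv.module _
  have hmul : ∀ (c : Localization.AtPrime p) (x : T p E n), e (c • x) = c • e x :=
    fun c x => e.apply_symm_apply _
  haveI : IsScalarTower A (Localization.AtPrime p) (T p E n) :=
    IsScalarTower.of_algebraMap_smul fun a x => e.injective (by
      rw [hmul, algebraMap_smul, map_smul])
  have htor : Module.IsTorsionBySet (Localization.AtPrime p) (T p E n)
      ↑((p.map (algebraMap A (Localization.AtPrime p))) ^ (n + 1)) := by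
    intro x ⟨c, hc⟩
    change c • x = 0
    rw [← Ideal.map_pow] at hc
    induction hc using Submodule.span_induction with
    | mem y hy =>
      obtain ⟨a, ha, rfl⟩ := hy
      rw [algebraMap_smul]
      exact Subtype.ext (hmem.1 x.2 a ha)
    | zero => exact zero_smul _ _
    | add y z _ _ hy hz => rw [add_smul, hy, hz, add_zero]
    | smul b y _ hy => rw [smul_eq_mul, mul_smul, hy, smul_zero]
  letI mQ : Module (Q p n) (T p E n) := htor.module
  have htow : IsScalarTower A (Q p n) (T p E n) := htor.isScalarTower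
  refine ⟨mQ, htow, ?_⟩
  -- the layers `E[p ^ k]`
  let K : ℕ → Submodule (Q p n) (T p E n) := fun k =>
    Submodule.torsionBySet (Q p n) (T p E n) (algebraMap A (Q p n) '' ↑(p ^ k))
  have hK : ∀ {k : ℕ} {x : T p E n}, x ∈ K k ↔ ∀ a ∈ p ^ k, a • x = 0 := by
    intro k x
    simp [K, Submodule.mem_torsionBySet_iff, Subtype.forall, algebraMap_smul]
  have hone : (K 1).FG := by
    have hu : g 1 ∈ T p E n := hmem.2 fun a ha => by
      rw [← map_smul, Algebra.smul_def, Ideal.algebraMap_residueField_eq_zero.2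
        (Ideal.pow_le_self (Nat.succ_ne_zero n) ha), zero_mul, map_zero]
    refine ⟨{⟨g 1, hu⟩}, le_antisymm ?_ fun x hx => ?_⟩
    · rw [Finset.coe_singleton, Submodule.span_le, Set.singleton_subset_iff]
      refine hK.2 fun a ha => Subtype.ext ?_
      rw [pow_one] at ha
      change a • g 1 = 0
      rw [← map_smul, Algebra.smul_def, Ideal.algebraMap_residueField_eq_zero.2 ha, zero_mul, map_zero]
    rw [Finset.coe_singleton, Submodule.mem_span_singleton]
    rcases eq_or_ne x 0 with rfl | hx0
    · exact ⟨algebraMap A (Q p n) 0, by rw [algebraMap_smul, zero_smul]⟩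
    obtain ⟨y, ⟨hy, ⟨z, rfl⟩⟩, hne⟩ := (Submodule.ne_bot_iff _).1
      (hg.essential (Submodule.span A {(x : E)}) (by simpa using hx0))
    obtain ⟨b, hb⟩ := Submodule.mem_span_singleton.1 hy
    have hbp : b ∉ p := fun h => hne (by
      rw [← hb]; exact congrArg Subtype.val (hK.1 hx b (by rwa [pow_one])))
    obtain ⟨⟨w, t⟩, hwt⟩ := IsLocalization.surj (nonZeroDivisors (A ⧸ p)) z
    obtain ⟨a, rfl⟩ := Ideal.Quotient.mk_surjective w
    obtain ⟨s, hs⟩ := Ideal.Quotient.mk_surjective (t : A ⧸ p)
    have hsp : s ∉ p := fun h => nonZeroDivisors.ne_zero t.2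
      (by rw [← hs, Ideal.Quotient.eq_zero_iff_mem]; exact h)
    have hu' : IsUnit (algebraMap A (Q p n) (s * b)) := by
      rw [IsScalarTower.algebraMap_apply A (Localization.AtPrime p) (Q p n)]
      exact (IsLocalization.map_units (Localization.AtPrime p)
        (⟨s * b, p.primeCompl.mul_mem hsp hbp⟩ : p.primeCompl)).map _
    obtain ⟨c, hc⟩ := hu'
    have key : (s * b) • x = a • (⟨g 1, hu⟩ : T p E n) := by
      refine Subtype.ext ?_
      change (s * b) • (x : E) = a • g 1
      rw [mul_smul, hb, ← map_smul, ← map_smul]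
      congr 1
      rw [← hs] at hwt
      rw [Algebra.smul_def, Algebra.smul_def, mul_one, mul_comm,
        IsScalarTower.algebraMap_apply A (A ⧸ p) p.ResidueField s,
        IsScalarTower.algebraMap_apply A (A ⧸ p) p.ResidueField a]
      exact hwt
    refine ⟨(↑c⁻¹ : Q p n) * algebraMap A (Q p n) a, ?_⟩
    rw [mul_smul, algebraMap_smul, ← key, ← algebraMap_smul (Q p n) (s * b) x, ← hc, smul_smul,
      Units.inv_mul, one_smul]
  have hfin : ∀ k, (K k).FG := by
    intro k
    induction k with
    | zero =>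
      have : K 0 = ⊥ := eq_bot_iff.2 fun x hx =>
        (Submodule.mem_bot _).2 ((one_smul A x).symm.trans (hK.1 hx 1 (by simp)))
      rw [this]; exact Submodule.fg_bot
    | succ k ih =>
      obtain ⟨r, a, ha⟩ := Submodule.fg_iff_exists_fin_generating_family.1 (IsNoetherian.noetherian p)
      have haP : ∀ i, a i ∈ p := fun i => ha ▸ Submodule.subset_span ⟨i, rfl⟩
      let μ : T p E n →ₗ[Q p n] (Fin r → T p E n) :=
        LinearMap.pi fun i => (algebraMap A (Q p n) (a i)) • LinearMap.id
      have hμ : ∀ x i, μ x i = a i • x := fun x i => by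
        simp [μ, algebraMap_smul]
      refine Submodule.fg_of_fg_map_of_fg_inf_ker μ ?_ ?_
      · have := isNoetherian_of_fg_of_noetherian _ (Submodule.fg_pi (p := fun _ : Fin r => K k) fun _ => ih)
        refine Submodule.FG.of_le_of_isNoetherian (T := Submodule.pi Set.univ fun _ : Fin r => K k) ?_
        rintro _ ⟨x, hx, rfl⟩ i -
        refine hK.2 fun b hb => ?_
        rw [hμ, ← mul_smul]
        exact hK.1 hx _ (by rw [pow_succ]; exact Ideal.mul_mem_mul hb (haP i))
      · have := isNoetherian_of_fg_of_noetherian _ hone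
        refine Submodule.FG.of_le_of_isNoetherian (T := K 1) fun x hx => hK.2 fun b hb => ?_
        rw [pow_one, ← ha] at hb
        have hle : Submodule.span A (Set.range a) ≤
            LinearMap.ker (LinearMap.toSpanSingleton A (T p E n) x) := by
          rw [Submodule.span_le]
          rintro _ ⟨i, rfl⟩
          exact (hμ x i).symm.trans (congrFun hx.2 i)
        exact hle hb
  have htop : K (n + 1) = ⊤ := eq_top_iff.2 fun x _ => hK.2 fun a ha => Subtype.ext (hmem.1 x.2 a ha)
  exact ⟨htop ▸ hfin (n + 1)⟩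

/-- The product module over a product ring. -/
theorem exists_module_pi {ι : Type u} [Finite ι] (B : ι → Type u) [∀ i, CommRing (B i)]
    [∀ i, Algebra A (B i)] [∀ i, IsArtinianRing (B i)] (M : ι → Type u) [∀ i, AddCommGroup (M i)]
    [∀ i, Module A (M i)] [∀ i, Module (B i) (M i)] [∀ i, IsScalarTower A (B i) (M i)]
    [∀ i, Module.Finite (B i) (M i)] {D : Type u} [AddCommGroup D] [Module A D]
    (e : D ≃ₗ[A] (∀ i, M i)) :
    ∃ (R : Type u) (_ : CommRing R) (_ : Algebra A R) (_ : IsArtinianRing R) (_ : Module R D)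
      (_ : IsScalarTower A R D), Module.Finite R D := by
  classical
  cases nonempty_fintype ι
  letI : Module (∀ i, B i) D := e.toAddEquiv.module _
  have hmul : ∀ (c : ∀ i, B i) (x : D) (i : ι), e (c • x) i = c i • e x i := fun c x i => by
    change e (e.symm (c • e x)) i = _
    rw [LinearEquiv.apply_symm_apply]; rfl
  refine ⟨∀ i, B i, inferInstance, inferInstance, inferInstance, inferInstance,
    IsScalarTower.of_algebraMap_smul fun a x => e.injective (funext fun i => by
      rw [hmul, map_smul, Pi.algebraMap_apply, algebraMap_smul]; rfl), ?_⟩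
  choose s hs using fun i => (Module.finite_def.1 (inferInstance : Module.Finite (B i) (M i)))
  let v : ((i : ι) × ↥(s i)) → D := fun z => e.symm (Pi.single z.1 z.2.1)
  refine Module.Finite.of_fg_top ?_
  refine ⟨Finset.univ.image v, eq_top_iff.2 fun x _ => ?_⟩
  set S := Submodule.span (∀ i, B i) (↑(Finset.univ.image v) : Set D)
  have hi : ∀ i (m : M i), e.symm (Pi.single i m) ∈ S := by
    intro i m
    have hm : m ∈ Submodule.span (B i) (↑(s i) : Set (M i)) := by rw [hs i]; trivial
    induction hm using Submodule.span_induction with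
    | mem y hy => exact Submodule.subset_span (Finset.mem_coe.2
        (Finset.mem_image.2 ⟨⟨i, ⟨y, hy⟩⟩, Finset.mem_univ _, rfl⟩))
    | zero => simp
    | add y z _ _ hy hz => rw [Pi.single_add, map_add]; exact add_mem hy hz
    | smul c y _ hy =>
      have : e.symm (Pi.single i (c • y)) = (Pi.single i c : ∀ i, B i) • e.symm (Pi.single i y) :=
        e.injective (funext fun j => by
          rw [hmul, LinearEquiv.apply_symm_apply, LinearEquiv.apply_symm_apply]
          obtain rfl | h := eq_or_ne j i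
          · simp
          · simp [h])
      rw [this]; exact S.smul_mem _ hy
  rw [← e.symm_apply_apply x, ← Finset.univ_sum_single (e x), map_sum]
  exact S.sum_mem fun i _ => hi i _

theorem main (A : Type u) [CommRing A] [IsNoetherianRing A]
    (J : Type u) [AddCommGroup J] [Module A J] [Module.Injective A J] :
    ∃ (ι : Type u) (_ : CategoryTheory.SmallCategory ι) (_ : CategoryTheory.IsFiltered ι)
      (D : CategoryTheory.Functor ι (ModuleCat.{u} A))
      (c : CategoryTheory.Limits.Cocone D) (_ : CategoryTheory.Limits.IsColimit c),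
      Nonempty (CategoryTheory.Iso c.pt (ModuleCat.of A J)) ∧
      ∀ i : ι, ∃ (B : Type u) (_ : CommRing B) (_ : Algebra A B) (_ : IsArtinianRing B)
        (_ : Module B (D.obj i)) (_ : IsScalarTower A B (D.obj i)), Module.Finite B (D.obj i) := by
  classical
  obtain ⟨κ, E, hint, hE⟩ := Groth.Agent.S0307.result A J inferInstance
  choose p hp g hg using fun i => Groth.Agent.S0306.result A ↥(E i) (hE i).1 (hE i).2
  let N : κ → ℕ → Submodule A J := fun i n => (T (p i) (E i) n).map (E i).subtype
  have hN : ∀ i, Monotone (N i) := fun i a b h => Submodule.map_mono fun x hx => by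
    simp only [T, Submodule.mem_torsionBySet_iff, Subtype.forall] at hx ⊢
    exact fun c hc => hx c (Ideal.pow_le_pow_right (Nat.succ_le_succ h) hc)
  let G : Finset κ × ℕ → Submodule A J := fun z => ⨆ i : ↥z.1, N i z.2
  have hG : Monotone G := by
    intro a b h
    exact iSup_le fun i => (hN i.1 h.2).trans (le_iSup (fun j : ↥b.1 => N j b.2) ⟨i.1, h.1 i.2⟩)
  have hcov : ∀ x : J, ∃ z, x ∈ G z := by
    intro x
    have hx : x ∈ ⨆ i, E i := by rw [hint.submodule_iSup_eq_top]; trivial
    induction hx using Submodule.iSup_induction' with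
    | mem i y hy =>
      haveI := hp i
      obtain ⟨n, hn⟩ := exists_pow_smul_eq_zero (hg i) ⟨y, hy⟩
      refine ⟨({i}, n), le_iSup (fun j : ↥({i} : Finset κ) => N j n) ⟨i, by simp⟩ ⟨⟨y, hy⟩, ?_, rfl⟩⟩
      simpa [T, Submodule.mem_torsionBySet_iff, Subtype.forall] using hn
    | zero => exact ⟨(∅, 0), zero_mem _⟩
    | add y z _ _ hy hz =>
      obtain ⟨a, ha⟩ := hy
      obtain ⟨b, hb⟩ := hz
      exact ⟨a ⊔ b, add_mem (hG le_sup_left ha) (hG le_sup_right hb)⟩
  let f : ∀ a b, a ≤ b → G a →ₗ[A] G b := fun a b h => Submodule.inclusion (hG h)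
  haveI : DirectedSystem (fun z => ↥(G z)) (fun a b h => ⇑(f a b h)) :=
    { map_self := fun _ _ => rfl, map_map := fun _ _ _ _ _ _ => rfl }
  let L := Module.DirectLimit.lift A (Finset κ × ℕ) (fun z => ↥(G z)) f (fun z => (G z).subtype)
    (fun _ _ _ _ => rfl)
  have hL : Function.Bijective L := by
    refine ⟨Module.DirectLimit.lift_injective _ _ fun z => (G z).injective_subtype, fun x => ?_⟩
    obtain ⟨z, hz⟩ := hcov x
    exact ⟨Module.DirectLimit.of A _ _ f z ⟨x, hz⟩, Module.DirectLimit.lift_of _ _ _⟩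
  refine ⟨Finset κ × ℕ, Preorder.smallCategory _, inferInstance, ModuleCat.directLimitDiagram _ f,
    ModuleCat.directLimitCocone _ f, ModuleCat.directLimitIsColimit _ f,
    ⟨(LinearEquiv.ofBijective L hL).toModuleIso⟩, fun z => ?_⟩
  obtain ⟨F, n⟩ := z
  haveI : ∀ i : ↥F, (p i.1).IsPrime := fun i => hp i.1
  choose m hm hf using fun i : ↥F => exists_module (hg i.1) n
  have hindep : iSupIndep fun i : ↥F => N i n := by
    refine (hint.submodule_iSupIndep.comp Subtype.val_injective).mono fun i => ?_
    exact Submodule.map_subtype_le _ _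
  let e₁ : (∀ i : ↥F, ↥(N i n)) ≃ₗ[A] ↥(G (F, n)) :=
    (DirectSum.linearEquivFunOnFintype A ↥F _).symm.trans
      ((LinearEquiv.ofInjective _ hindep.dfinsupp_lsum_injective).trans
        (LinearEquiv.ofEq _ _ (Submodule.iSup_eq_range_dfinsupp_lsum _).symm))
  exact exists_module_pi (fun i : ↥F => Q (p i.1) n) (fun i : ↥F => ↥(T (p i.1) (E i.1) n))
    (e₁.symm.trans (LinearEquiv.piCongrRight fun i =>
      ((T (p i.1) (E i.1) n).equivMapOfInjective _ (E i.1).injective_subtype).symm))

end Groth.Agent.CAlgH3.InjColim
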