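import Groth.Agent.RefHullLib.ClassLaw
import Groth.Agent.RefHullLib.DivSheaf
import Groth.Agent.RefHullLib.RankOne
import Groth.Agent.PicLib.FormalGen
import Groth.Agent.CAlgMisc2.Normal
import Groth.Agent.Misc15.StalkLoc
import Mathlib

/-! Invertible modules as rank one reflexive modules; integral rational functions. -/

set_option autoImplicit false
set_option backward.isDefEq.respectTransparency.types false
universe u

open CategoryTheory AlgebraicGeometry

namespace Groth.Agent.CAlgH3.InvertibleDivisor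

open RefHullLib

variable {X : Scheme.{u}} [IsIntegral X] [IsLocallyNoetherian X]

omit [IsLocallyNoetherian X] in
theorem exists_gen {L : X.Modules} (hL : PicF.IsInvertible L) (x : X) :
    ∃ t : L.presheaf.stalk x, Function.Bijective fun a : X.presheaf.stalk x => a • t := by
  obtain ⟨U, hU, g, hg⟩ := PicLib.exists_isGen hL x
  exact ⟨_, SDiv28.bijective_smul_germ_gen hg hU⟩

theorem isRef1 {L : X.Modules} (hL : PicF.IsInvertible L) : RefHull.IsRef1 L := by
  obtain ⟨t, ht⟩ := exists_gen hL (genericPoint X)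
  have hc := PicLib.isCoh_of_isInvertible hL
  exact ⟨hc, (isReflexive_iff_stalks hc).2 fun x => isReflexiveAt_of_gen (exists_gen hL x).choose_spec,
    genInvertible_of_bijective_genericPoint hc t ht⟩

theorem sOrd_smul_unitOne {f : X.functionField} (hf : f ≠ 0) {x : X} (hx : Order.coheight x = 1) :
    sOrd (Coh.structureModule X) x (f • AssSch12.unitOne (genericPoint X)) = Scheme.ord f x := by
  rw [sOrd_smul (Coherent.isCoh_structureModule X).1 hx (bijective_smul_unitOne x) hf unitOne_ne_zero,
    sOrd_unitOne hx, zero_add]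

/-- `O_x → O_y → K` is `O_x → K`. -/
theorem algebraMap_stalkSpecializes {x y : X} (h : y ⤳ x) (a : X.presheaf.stalk x) :
    algebraMap (X.presheaf.stalk y) X.functionField ((X.presheaf.stalkSpecializes h).hom a) =
      algebraMap (X.presheaf.stalk x) X.functionField a := by
  obtain ⟨U, hxU, r, rfl⟩ := X.presheaf.exists_germ_eq a
  rw [TopCat.Presheaf.germ_stalkSpecializes_apply X.presheaf hxU h r, algebraMap_germ, algebraMap_germ]

/-- A rational function of nonnegative order at a normal point of codimension one is integral there;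
if the order is positive it lies in the maximal ideal. -/
theorem exists_of_ord_nonneg (hX : Pi1.IsNormalScheme X) {y : X} (hy : Order.coheight y = 1)
    {φ : X.functionField} (hφ : φ ≠ 0) (h : 0 ≤ Scheme.ord φ y) :
    ∃ a : X.presheaf.stalk y, algebraMap (X.presheaf.stalk y) X.functionField a = φ ∧
      (1 ≤ Scheme.ord φ y → a ∈ IsLocalRing.maximalIdeal (X.presheaf.stalk y)) := by
  haveI := (hX y).1
  haveI := (hX y).2
  have hdim : ringKrullDim (X.presheaf.stalk y) = 1 := (ringKrullDim_eq_one_iff_coheight y).2 hy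
  haveI : IsRegularLocalRing (X.presheaf.stalk y) := CAlgH3.isRegularLocalRing_of_normal_dim_le_one hdim.le
  obtain ⟨_, hdvr⟩ := CAlgMisc2.dvr_iff.2
    ⟨spanFinrank_le_of_dim_le (R := X.presheaf.stalk y) (k := 1) (by exact_mod_cast hdim.le), hdim⟩
  obtain ⟨ϖ, hϖ⟩ := IsDiscreteValuationRing.exists_irreducible (X.presheaf.stalk y)
  haveI : Ring.KrullDimLE 1 (X.presheaf.stalk y) := krullDimLE_of_coheight_le hy.le
  let w := algebraMap (X.presheaf.stalk y) X.functionField ϖ
  have hw : w ≠ 0 := (map_ne_zero_iff _ (IsFractionRing.injective _ _)).2 hϖ.ne_zero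
  have hw1 : Scheme.ord w y = 1 := (Scheme.ord_eq_iff hy hw).2 (Ring.ordFrac_irreducible hϖ)
  obtain ⟨k, hk⟩ := Int.eq_ofNat_of_zero_le h
  have hwk : Scheme.ord (w ^ k) y = k := by
    clear hk
    induction k with
    | zero => rw [pow_zero]; exact (Scheme.ord_eq_iff hy one_ne_zero).2 (map_one _)
    | succ k ih => rw [pow_succ, Scheme.ord_mul (pow_ne_zero k hw) hw, ih, hw1]; push_cast; ring
  have h0 : Scheme.ord (φ / w ^ k) y = 0 := by
    have := Scheme.ord_mul (x := y) (div_ne_zero hφ (pow_ne_zero k hw)) (pow_ne_zero k hw)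
    rw [div_mul_cancel₀ _ (pow_ne_zero k hw), hwk, hk] at this
    omega
  obtain ⟨u, hu⟩ := exists_unit_of_ord_eq_zero hX hy (div_ne_zero hφ (pow_ne_zero k hw)) h0
  refine ⟨u * ϖ ^ k, by rw [map_mul, map_pow, hu, div_mul_cancel₀ _ (pow_ne_zero k hw)], fun h1 => ?_⟩
  exact Ideal.mul_mem_left _ _ (Ideal.pow_mem_of_mem _ ((IsLocalRing.mem_maximalIdeal _).2 hϖ.not_isUnit) k (by omega))

theorem ord_nonneg (hX : Pi1.IsNormalScheme X) {y : X} (hy : Order.coheight y = 1)
    (a : X.presheaf.stalk y) (ha : a ≠ 0) :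
    0 ≤ Scheme.ord (algebraMap (X.presheaf.stalk y) X.functionField a) y ∧
      (a ∈ IsLocalRing.maximalIdeal (X.presheaf.stalk y) →
        1 ≤ Scheme.ord (algebraMap (X.presheaf.stalk y) X.functionField a) y) := by
  haveI := (hX y).1
  have ha' : algebraMap (X.presheaf.stalk y) X.functionField a ≠ 0 :=
    (map_ne_zero_iff _ (IsFractionRing.injective _ _)).2 ha
  haveI : Ring.KrullDimLE 1 (X.presheaf.stalk y) := krullDimLE_of_coheight_le hy.le
  obtain ⟨m, hm⟩ := ENat.ne_top_iff_exists.mp (Ring.ord_ne_top (mem_nonZeroDivisors_of_ne_zero ha))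
  have hord : Scheme.ord (algebraMap (X.presheaf.stalk y) X.functionField a) y = m := by
    rw [Scheme.ord_eq_iff hy ha']
    show Ring.ordFrac (X.presheaf.stalk y) (algebraMap (X.presheaf.stalk y) X.functionField a) = _
    rw [Ring.ordFrac_eq_ord _ ha,
      Ring.ordMonoidWithZeroHom_eq_coe _ (mem_nonZeroDivisors_of_ne_zero ha) hm.symm]
  refine ⟨by rw [hord]; positivity, fun hmem => ?_⟩
  rw [hord]
  have : m ≠ 0 := by
    rintro rfl
    have hl : Module.length (X.presheaf.stalk y) (X.presheaf.stalk y ⧸ Ideal.span {a}) = 0 := hm.symm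
    rw [Module.length_eq_zero_iff, Submodule.Quotient.subsingleton_iff, Ideal.span_singleton_eq_top] at hl
    exact hmem hl
  omega

end Groth.Agent.CAlgH3.InvertibleDivisor
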