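import Mathlib.RingTheory.Ideal.Cotangent
import Mathlib.RingTheory.LocalRing.ResidueField.Basic
import Mathlib.RingTheory.Localization.AtPrime.Basic
import Mathlib.Algebra.MvPolynomial.PDeriv
import Mathlib.LinearAlgebra.Matrix.Rank
import Mathlib.LinearAlgebra.Dimension.Free
import Mathlib.LinearAlgebra.FiniteDimensional.Lemmas

/-! The Zariski tangent space at a rational point and the rank of the Jacobian. -/

universe u

open IsLocalRing MvPolynomial

namespace Groth.Agent.CAlgH3

variable {k : Type u} [Field k] {n : ℕ}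

/-- The gradient at `a`. -/
noncomputable def grad (a : Fin n → k) : MvPolynomial (Fin n) k →ₗ[k] (Fin n → k) :=
  LinearMap.pi fun j => (aeval a).toLinearMap ∘ₗ (pderiv j).toLinearMap

theorem grad_apply (a : Fin n → k) (p : MvPolynomial (Fin n) k) (j : Fin n) :
    grad a p j = eval a (pderiv j p) := by
  simp [grad, aeval_eq_eval]

theorem grad_mul (a : Fin n → k) (p q : MvPolynomial (Fin n) k) :
    grad a (p * q) = eval a q • grad a p + eval a p • grad a q := by
  ext j; simp [grad_apply]; ring

/-- The linear part of `p` at `a`. -/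
noncomputable def lin (a : Fin n → k) (v : Fin n → k) : MvPolynomial (Fin n) k := ∑ j, C (v j) * (X j - C (a j))

theorem taylor (a : Fin n → k) (p : MvPolynomial (Fin n) k) :
    p - C (eval a p) - lin a (grad a p) ∈ (RingHom.ker (eval a)) ^ 2 := by
  classical
  induction p using MvPolynomial.induction_on with
  | C c => simp [lin, grad_apply]
  | add p q hp hq =>
    have : p + q - C (eval a (p + q)) - lin a (grad a (p + q)) =
        (p - C (eval a p) - lin a (grad a p)) + (q - C (eval a q) - lin a (grad a q)) := by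
      simp only [map_add, lin, Pi.add_apply, add_mul, Finset.sum_add_distrib]
      ring
    rw [this]
    exact add_mem hp hq
  | mul_X p i hp =>
    have h1 : ((X i : MvPolynomial (Fin n) k) - C (a i)) * (p - C (eval a p)) ∈ (RingHom.ker (eval a)) ^ 2 := by
      rw [pow_two]
      exact Ideal.mul_mem_mul (by simp [RingHom.mem_ker]) (by simp [RingHom.mem_ker])
    have hlin : lin a (grad a (p * X i)) = C (a i) * lin a (grad a p) + C (eval a p) * (X i - C (a i)) := by
      have : grad a (p * X i) = a i • grad a p + eval a p • Pi.single i 1 := by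
        rw [grad_mul, eval_X]
        congr 2
        ext j
        rw [grad_apply]
        rcases eq_or_ne j i with rfl | h
        · simp
        · simp [pderiv_X_of_ne (Ne.symm h), Pi.single_eq_of_ne h]
      simp only [this, lin, Pi.add_apply, Pi.smul_apply, smul_eq_mul, map_add, map_mul, add_mul,
        Finset.sum_add_distrib, Finset.mul_sum, mul_assoc]
      congr 1
      rw [Finset.sum_eq_single i (fun j _ hj => by simp [Pi.single_eq_of_ne hj]) (by simp)]
      simp
    have : p * X i - C (eval a (p * X i)) - lin a (grad a (p * X i)) =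
        C (a i) * (p - C (eval a p) - lin a (grad a p)) + (X i - C (a i)) * (p - C (eval a p)) := by
      rw [hlin, map_mul, eval_X, map_mul]; ring
    rw [this]
    exact add_mem (Ideal.mul_mem_left _ _ hp) h1

theorem grad_eq_zero_of_mem_sq {a : Fin n → k} {p : MvPolynomial (Fin n) k}
    (hp : p ∈ (RingHom.ker (eval a)) ^ 2) : grad a p = 0 := by
  rw [pow_two] at hp
  induction hp using Submodule.mul_induction_on' with
  | mem_mul_mem x hx y hy => rw [grad_mul, RingHom.mem_ker.1 hx, RingHom.mem_ker.1 hy, zero_smul, zero_smul, add_zero]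
  | add x _ y _ hx hy => rw [map_add, hx, hy, add_zero]

theorem grad_lin (a : Fin n → k) (v : Fin n → k) : grad a (lin a v) = v := by
  classical
  ext i
  rw [grad_apply, lin, map_sum, map_sum, Finset.sum_eq_single i
    (fun j _ hj => by simp [pderiv_X_of_ne hj]) (by simp)]
  simp

theorem eval_lin (a : Fin n → k) (v : Fin n → k) : eval a (lin a v) = 0 := by
  simp [lin]

variable {r : ℕ}

set_option maxHeartbeats 1000000 in
/-- The embedding dimension at a rational point plus the rank of the Jacobian is `n`. -/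
theorem finrank_cotangentSpace_add_rank (F : Fin r → MvPolynomial (Fin n) k) (a : Fin n → k)
    (𝔪 : Ideal (MvPolynomial (Fin n) k ⧸ Ideal.span (Set.range F))) [𝔪.IsMaximal]
    (h𝔪 : 𝔪.comap (Ideal.Quotient.mk (Ideal.span (Set.range F))) = RingHom.ker (MvPolynomial.eval a))
    (B : Type u) [CommRing B] [IsLocalRing B] [Algebra (MvPolynomial (Fin n) k ⧸ Ideal.span (Set.range F)) B]
    [Algebra k B] [IsScalarTower k (MvPolynomial (Fin n) k ⧸ Ideal.span (Set.range F)) B]
    [IsLocalization.AtPrime B 𝔪] :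
    Module.finrank (ResidueField B) (CotangentSpace B) +
      (Matrix.of fun i j => eval a (pderiv j (F i))).rank = n := by
  classical
  let P := MvPolynomial (Fin n) k
  let I : Ideal P := Ideal.span (Set.range F)
  let A := P ⧸ I
  let ma : Ideal P := RingHom.ker (eval a)
  let π : P →ₐ[k] B := (IsScalarTower.toAlgHom k A B).comp (Ideal.Quotient.mkₐ k I)
  have hπm : ∀ p ∈ ma, π p ∈ maximalIdeal B := fun p hp => by
    rw [← IsLocalization.AtPrime.map_eq_maximalIdeal 𝔪 B]
    exact Ideal.mem_map_of_mem _ (h𝔪.ge hp : p ∈ 𝔪.comap _)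
  have hsq : ∀ p ∈ ma ^ 2, π p ∈ (maximalIdeal B) ^ 2 := fun p hp =>
    Ideal.le_comap_pow (f := (π : P →+* B)) (K := maximalIdeal B) 2 (Ideal.pow_right_mono (fun p hp => hπm p hp) 2 hp)
  have hF : ∀ i, eval a (F i) = 0 := fun i => by
    have : F i ∈ 𝔪.comap (Ideal.Quotient.mk I) := by
      rw [Ideal.mem_comap, Ideal.Quotient.eq_zero_iff_mem.2 (show F i ∈ I from Ideal.subset_span ⟨i, rfl⟩)]
      exact zero_mem _
    exact RingHom.mem_ker.1 (h𝔪.le this)
  have hI : I ≤ ma := Ideal.span_le.2 (by rintro _ ⟨i, rfl⟩; exact RingHom.mem_ker.2 (hF i))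
  -- the map from the dual of the tangent space
  let linL : (Fin n → k) →ₗ[k] P :=
    { toFun := lin a
      map_add' := fun v w => by simp [lin, add_mul, Finset.sum_add_distrib, P]
      map_smul' := fun c v => by simp [lin, Finset.smul_sum, smul_eq_C_mul, mul_assoc, P] }
  let Φ₀ : (Fin n → k) →ₗ[k] ((maximalIdeal B).restrictScalars k) :=
    LinearMap.codRestrict _ (π.toLinearMap ∘ₗ linL) (fun v => hπm _ (RingHom.mem_ker.2 (eval_lin a v)))
  let Φ : (Fin n → k) →ₗ[k] CotangentSpace B :=
    { toFun := fun v => (maximalIdeal B).toCotangent ⟨(Φ₀ v : B), (Φ₀ v).2⟩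
      map_add' := fun v w => by rw [← map_add]; congr 1; ext; simp only [Submodule.coe_add, map_add]
      map_smul' := fun c v => by
        rw [RingHom.id_apply, ← LinearMap.map_smul_of_tower]; congr 1; ext; simp only [map_smul]; rfl }
  have hcls : ∀ p (hp : p ∈ ma), (maximalIdeal B).toCotangent ⟨π p, hπm p hp⟩ = Φ (grad a p) := fun p hp => by
    change _ = (maximalIdeal B).toCotangent _
    rw [Ideal.toCotangent_eq]
    change π p - π (lin a (grad a p)) ∈ _
    rw [← map_sub]
    have := taylor a p
    rw [RingHom.mem_ker.1 hp, map_zero, sub_zero] at this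
    exact hsq _ this
  let R₀ : Submodule k (Fin n → k) := Submodule.span k (Set.range fun i => grad a (F i))
  have hR₀ : R₀ ≤ LinearMap.ker Φ := Submodule.span_le.2 (by
    rintro _ ⟨i, rfl⟩
    rw [SetLike.mem_coe, LinearMap.mem_ker, ← hcls _ (RingHom.mem_ker.2 (hF i)), Ideal.toCotangent_eq_zero]
    change π (F i) ∈ _
    have : π (F i) = 0 := by
      change algebraMap A B (Ideal.Quotient.mk I (F i)) = 0
      rw [Ideal.Quotient.eq_zero_iff_mem.2 (show F i ∈ I from Ideal.subset_span ⟨i, rfl⟩), map_zero]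
    rw [this]; exact zero_mem _)
  have hgradI : ∀ p ∈ I, grad a p ∈ R₀ := fun p hp => by
    induction hp using Submodule.span_induction with
    | mem x hx => obtain ⟨i, rfl⟩ := hx; exact Submodule.subset_span ⟨i, rfl⟩
    | zero => rw [map_zero]; exact zero_mem _
    | add x y _ _ hx hy => rw [map_add]; exact add_mem hx hy
    | smul c x hxI hx =>
      rw [smul_eq_mul, grad_mul, RingHom.mem_ker.1 (hI hxI), zero_smul, zero_add]
      exact R₀.smul_mem _ hx
  have hker : LinearMap.ker Φ = R₀ := by
    refine le_antisymm (fun v hv => ?_) hR₀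
    rw [LinearMap.mem_ker] at hv
    change (maximalIdeal B).toCotangent _ = 0 at hv
    rw [Ideal.toCotangent_eq_zero] at hv
    change algebraMap A B (Ideal.Quotient.mk I (lin a v)) ∈ (maximalIdeal B) ^ 2 at hv
    rw [← IsLocalization.AtPrime.map_eq_maximalIdeal 𝔪 B, ← Ideal.map_pow] at hv
    obtain ⟨s, hs, hsv⟩ := (IsLocalization.algebraMap_mem_map_algebraMap_iff 𝔪.primeCompl B (𝔪 ^ 2) _).1 hv
    obtain ⟨s, rfl⟩ := Ideal.Quotient.mk_surjective s
    have hsa : eval a s ≠ 0 := fun h => hs (h𝔪.ge (RingHom.mem_ker.2 h) : s ∈ 𝔪.comap _)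
    have hmem : s * lin a v ∈ ma ^ 2 ⊔ I := by
      have hm : 𝔪 = ma.map (Ideal.Quotient.mk I) := by
        rw [← Ideal.map_comap_of_surjective _ Ideal.Quotient.mk_surjective 𝔪, h𝔪]
      have : Ideal.Quotient.mk I (s * lin a v) ∈ (ma ^ 2).map (Ideal.Quotient.mk I) := by
        rw [map_mul, Ideal.map_pow, ← hm]; exact hsv
      rwa [← Ideal.mem_comap, Ideal.comap_map_of_surjective _ Ideal.Quotient.mk_surjective,
        ← RingHom.ker_eq_comap_bot, Ideal.mk_ker] at this
    obtain ⟨x, hx, y, hy, hxy⟩ := Submodule.mem_sup.1 hmem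
    have h1 := congrArg (grad a) hxy
    rw [map_add, grad_eq_zero_of_mem_sq hx, zero_add, grad_mul, eval_lin, zero_smul, zero_add, grad_lin] at h1
    have h2 : eval a s • v ∈ R₀ := h1 ▸ hgradI y hy
    exact (Submodule.smul_mem_iff _ hsa).1 h2
  have hsurj : Function.Surjective Φ := by
    intro c
    obtain ⟨⟨x, hx⟩, rfl⟩ := (maximalIdeal B).toCotangent_surjective c
    obtain ⟨p, s, rfl⟩ := IsLocalization.exists_mk'_eq 𝔪.primeCompl x
    obtain ⟨p, rfl⟩ := Ideal.Quotient.mk_surjective p
    obtain ⟨s, hs⟩ := s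
    obtain ⟨s, rfl⟩ := Ideal.Quotient.mk_surjective s
    have hsa : eval a s ≠ 0 := fun h => hs (h𝔪.ge (RingHom.mem_ker.2 h) : s ∈ 𝔪.comap _)
    have hp : p ∈ ma := h𝔪.le (IsLocalization.AtPrime.mk'_mem_maximal_iff B 𝔪 _ _ |>.1 hx)
    refine ⟨(eval a s)⁻¹ • grad a p, ?_⟩
    rw [map_smul, inv_smul_eq_iff₀ hsa, ← hcls p hp, ← algebraMap_smul B (eval a s), ← map_smul, Ideal.toCotangent_eq]
    change π p - algebraMap k B (eval a s) * _ ∈ _
    have h1 : π p = π s * IsLocalization.mk' B (Ideal.Quotient.mk I p) (⟨_, hs⟩ : 𝔪.primeCompl) :=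
      (IsLocalization.mk'_spec' B (Ideal.Quotient.mk I p) (⟨_, hs⟩ : 𝔪.primeCompl)).symm
    rw [h1, ← π.commutes, ← sub_mul, ← map_sub, pow_two]
    exact Ideal.mul_mem_mul (hπm _ (RingHom.mem_ker.2 (by rw [map_sub, show algebraMap k P = MvPolynomial.C from rfl, eval_C, sub_self]))) hx
  -- residue field is `k`
  let κ := ResidueField B
  have : IsScalarTower k κ (CotangentSpace B) := IsScalarTower.of_algebraMap_smul fun c v => by
    rw [IsScalarTower.algebraMap_apply k B κ, algebraMap_smul, algebraMap_smul]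
  have hbij : Function.Bijective (algebraMap k κ) := by
    refine ⟨RingHom.injective _, fun z => ?_⟩
    obtain ⟨z, rfl⟩ := residue_surjective z
    obtain ⟨p, s, rfl⟩ := IsLocalization.exists_mk'_eq 𝔪.primeCompl z
    obtain ⟨p, rfl⟩ := Ideal.Quotient.mk_surjective p
    obtain ⟨s, hs⟩ := s
    obtain ⟨s, rfl⟩ := Ideal.Quotient.mk_surjective s
    have hsa : eval a s ≠ 0 := fun h => hs (h𝔪.ge (RingHom.mem_ker.2 h) : s ∈ 𝔪.comap _)
    have key : ∀ q : P, residue B (π q) = algebraMap k κ (eval a q) := fun q => by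
      rw [IsScalarTower.algebraMap_apply k B κ, ← π.commutes, ← sub_eq_zero]
      change residue B (π q) - residue B _ = 0
      rw [← map_sub, ← map_sub, residue_eq_zero_iff]
      exact hπm _ (RingHom.mem_ker.2 (by rw [map_sub, show algebraMap k P = MvPolynomial.C from rfl, eval_C, sub_self]))
    refine ⟨eval a p / eval a s, mul_left_cancel₀ ((map_ne_zero (algebraMap k κ)).2 hsa) ?_⟩
    rw [← map_mul, mul_div_cancel₀ _ hsa, ← key, ← key, ← map_mul]
    congr 1
    exact (IsLocalization.mk'_spec' B (Ideal.Quotient.mk I p) (⟨_, hs⟩ : 𝔪.primeCompl)).symm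
  have h1 : Module.finrank k κ = 1 := by
    rw [← (AlgEquiv.ofBijective (Algebra.ofId k κ) hbij).toLinearEquiv.finrank_eq, Module.finrank_self]
  have h2 : Module.finrank κ (CotangentSpace B) = Module.finrank k (CotangentSpace B) := by
    rw [← Module.finrank_mul_finrank k κ (CotangentSpace B), h1, one_mul]
  have h3 : (Matrix.of fun i j => eval a (pderiv j (F i))).rank = Module.finrank k R₀ := by
    rw [Matrix.rank_eq_finrank_span_row]
    have : (fun i => grad a (F i)) = (Matrix.of fun i j => eval a (pderiv j (F i))).row := funext fun i => funext (grad_apply a (F i))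
    change _ = Module.finrank k (Submodule.span k (Set.range fun i => grad a (F i)))
    rw [this]
  have h4 := LinearMap.finrank_range_add_finrank_ker Φ
  rw [LinearMap.range_eq_top.2 hsurj, finrank_top, hker, Module.finrank_pi, Fintype.card_fin] at h4
  change Module.finrank κ (CotangentSpace B) + _ = n
  rw [h2, h3]
  exact h4

end Groth.Agent.CAlgH3
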