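import Groth.Prelude.Def_Smoothing
import Mathlib.RingTheory.Kaehler.Basic
import Mathlib.RingTheory.Smooth.Basic
import Mathlib.RingTheory.Flat.EquationalCriterion
import Mathlib.LinearAlgebra.ExteriorPower.Basis
import Mathlib.Algebra.Module.Projective
import Mathlib.Algebra.MvPolynomial.PDeriv
import Mathlib.RingTheory.FinitePresentation

/-! Differentials of an ind-smooth algebra, and their exterior powers, are flat. -/

set_option autoImplicit false
set_option linter.style.haveILetI false

universe u

open MvPolynomial KaehlerDifferential

namespace Groth.Agent.CAlgH3.KaehlerFlat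

section Pure

variable {A : Type u} [CommRing A] {F M : Type u} [AddCommGroup F] [Module A F] [AddCommGroup M] [Module A M]

/-- Every kernel element is killed by an endomorphism over the identity of the quotient. -/
def PureQuot (q : F →ₗ[A] M) : Prop :=
  ∀ z, q z = 0 → ∃ π : F →ₗ[A] F, q ∘ₗ π = q ∧ π z = 0

theorem PureQuot.exists_finset {q : F →ₗ[A] M} (h : PureQuot q) (T : Finset F) (hT : ∀ z ∈ T, q z = 0) :
    ∃ π : F →ₗ[A] F, q ∘ₗ π = q ∧ ∀ z ∈ T, π z = 0 := by
  classical
  induction T using Finset.induction with
  | empty => exact ⟨LinearMap.id, LinearMap.comp_id q, fun z hz => absurd hz (Finset.notMem_empty z)⟩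
  | @insert a T ha ih =>
    obtain ⟨π, hπ, hπT⟩ := ih fun z hz => hT z (Finset.mem_insert_of_mem hz)
    obtain ⟨π', hπ', hπa⟩ := h (π a) (by
      show (q ∘ₗ π) a = 0
      rw [hπ]; exact hT a (Finset.mem_insert_self a T))
    refine ⟨π' ∘ₗ π, by rw [← LinearMap.comp_assoc, hπ', hπ], fun z hz => ?_⟩
    rcases Finset.mem_insert.1 hz with rfl | hz
    · exact hπa
    · rw [LinearMap.comp_apply, hπT z hz, map_zero]

theorem flat_of_pureQuot [Module.Flat A F] {q : F →ₗ[A] M} (hq : Function.Surjective q) (h : PureQuot q) :
    Module.Flat A M := by
  rw [Module.Flat.iff_forall_isTrivialRelation]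
  intro l f x hfx
  choose y hy using fun i => hq (x i)
  obtain ⟨π, hπ, hz⟩ := h (∑ i, f i • y i) (by rw [map_sum]; simpa only [map_smul, hy] using hfx)
  rw [map_sum] at hz
  simp only [map_smul] at hz
  obtain ⟨k, a, w, hw, ha⟩ := Module.Flat.isTrivialRelation_of_sum_smul_eq_zero hz
  refine ⟨k, a, fun j => q (w j), fun i => ?_, ha⟩
  have hw' : π (y i) = ∑ j, a i j • w j := hw i
  show x i = ∑ j, a i j • q (w j)
  rw [← hy i, ← LinearMap.congr_fun hπ (y i), LinearMap.comp_apply, hw', map_sum]
  simp only [map_smul]

theorem PureQuot.exterior {q : F →ₗ[A] M} (hq : Function.Surjective q) (h : PureQuot q) (i : ℕ) :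
    PureQuot (exteriorPower.map i q) := by
  classical
  -- elements killed by every endomorphism that kills a suitable finite subset of the kernel
  let W : Submodule A (⋀[A]^i F) :=
    { carrier := {z | ∃ T : Finset F, (∀ t ∈ T, q t = 0) ∧
        ∀ π : F →ₗ[A] F, q ∘ₗ π = q → (∀ t ∈ T, π t = 0) → exteriorPower.map i π z = 0}
      zero_mem' := ⟨∅, by simp, fun π _ _ => map_zero _⟩
      add_mem' := fun {a b} ⟨T, hT, ha⟩ ⟨T', hT', hb⟩ =>
        ⟨T ∪ T', fun t ht => (Finset.mem_union.1 ht).elim (hT t) (hT' t), fun π hπ hk => by
          rw [map_add, ha π hπ fun t ht => hk t (Finset.mem_union_left _ ht),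
            hb π hπ fun t ht => hk t (Finset.mem_union_right _ ht), add_zero]⟩
      smul_mem' := fun c z ⟨T, hT, hz⟩ => ⟨T, hT, fun π hπ hk => by rw [map_smul, hz π hπ hk, smul_zero]⟩ }
  choose s hs using hq
  have hwd : ∀ y y' : Fin i → F, (∀ l, q (y l) = q (y' l)) →
      (Submodule.Quotient.mk (exteriorPower.ιMulti A i y) : _ ⧸ W) = Submodule.Quotient.mk (exteriorPower.ιMulti A i y') := by
    intro y y' hy
    rw [Submodule.Quotient.eq]
    refine ⟨Finset.univ.image fun l => y l - y' l, fun t ht => ?_, fun π _ hk => ?_⟩
    · obtain ⟨l, -, rfl⟩ := Finset.mem_image.1 ht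
      rw [map_sub, hy, sub_self]
    · rw [map_sub, exteriorPower.map_apply_ιMulti, exteriorPower.map_apply_ιMulti, sub_eq_zero]
      refine congrArg (exteriorPower.ιMulti A i) (funext fun l => ?_)
      have := hk (y l - y' l) (Finset.mem_image_of_mem _ (Finset.mem_univ l))
      rw [map_sub, sub_eq_zero] at this
      exact this
  let back : M [⋀^Fin i]→ₗ[A] ((⋀[A]^i F) ⧸ W) :=
    { toFun := fun m => Submodule.Quotient.mk (exteriorPower.ιMulti A i fun l => s (m l))
      map_update_add' := fun {inst} m l a b => by
        have : inst = instDecidableEqFin i := Subsingleton.elim _ _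
        subst this
        rw [hwd (fun j => s (Function.update m l (a + b) j)) (Function.update (fun j => s (m j)) l (s a + s b))
            (fun j => by by_cases hj : j = l
                         · subst hj; simp [hs]
                         · simp [hs, hj]),
          hwd (fun j => s (Function.update m l a j)) (Function.update (fun j => s (m j)) l (s a))
            (fun j => by by_cases hj : j = l
                         · subst hj; simp [hs]
                         · simp [hs, hj]),
          hwd (fun j => s (Function.update m l b j)) (Function.update (fun j => s (m j)) l (s b))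
            (fun j => by by_cases hj : j = l
                         · subst hj; simp [hs]
                         · simp [hs, hj]),
          ← Submodule.Quotient.mk_add, AlternatingMap.map_update_add]
      map_update_smul' := fun {inst} m l c a => by
        have : inst = instDecidableEqFin i := Subsingleton.elim _ _
        subst this
        rw [hwd (fun j => s (Function.update m l (c • a) j)) (Function.update (fun j => s (m j)) l (c • s a))
            (fun j => by by_cases hj : j = l
                         · subst hj; simp [hs]
                         · simp [hs, hj]),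
          hwd (fun j => s (Function.update m l a j)) (Function.update (fun j => s (m j)) l (s a))
            (fun j => by by_cases hj : j = l
                         · subst hj; simp [hs]
                         · simp [hs, hj]),
          ← Submodule.Quotient.mk_smul, AlternatingMap.map_update_smul]
      map_eq_zero_of_eq' := fun m a b hab hne => by
        show Submodule.Quotient.mk _ = 0
        rw [AlternatingMap.map_eq_zero_of_eq _ (fun l => s (m l)) (congrArg s hab) hne, Submodule.Quotient.mk_zero] }
  have hback : (exteriorPower.alternatingMapLinearEquiv back) ∘ₗ exteriorPower.map i q = W.mkQ := by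
    refine exteriorPower.linearMap_ext (AlternatingMap.ext fun y => ?_)
    show exteriorPower.alternatingMapLinearEquiv back (exteriorPower.map i q (exteriorPower.ιMulti A i y)) = _
    rw [exteriorPower.map_apply_ιMulti, exteriorPower.alternatingMapLinearEquiv_apply_ιMulti]
    exact hwd _ y fun l => hs _
  intro z hz
  have hzW : z ∈ W := by
    rw [← Submodule.Quotient.mk_eq_zero W, ← Submodule.mkQ_apply, ← hback, LinearMap.comp_apply, hz, map_zero]
  obtain ⟨T, hT, hz'⟩ := hzW
  obtain ⟨π, hπ, hπT⟩ := h.exists_finset T hT
  exact ⟨exteriorPower.map i π, by rw [← exteriorPower.map_comp, hπ], hz' π hπ hπT⟩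

end Pure

section Kaehler

variable (k : Type u) [CommRing k] (A : Type u) [CommRing A] [Algebra k A]

/-- The free cover of the differentials. -/
noncomputable def cover : (A →₀ A) →ₗ[A] Ω[A⁄k] :=
  Finsupp.linearCombination A fun a => D k A a

/-- The gradient of a polynomial in the elements of `A`. -/
noncomputable def grad : MvPolynomial A k →ₗ[k] (A →₀ A) :=
  (MvPolynomial.basisMonomials A k).constr k fun d =>
    d.sum fun a e => Finsupp.single a (aeval id (monomial (d - Finsupp.single a 1) ((e : ℕ) : k)))

theorem grad_apply (f : MvPolynomial A k) (a : A) : grad k A f a = aeval id (pderiv a f) := by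
  classical
  induction f using MvPolynomial.induction_on' with
  | monomial d c =>
    rw [show monomial d c = c • MvPolynomial.basisMonomials A k d by
      rw [MvPolynomial.coe_basisMonomials, MvPolynomial.smul_monomial, smul_eq_mul, mul_one],
      map_smul, Derivation.map_smul, map_smul, grad, Module.Basis.constr_basis, Finsupp.smul_apply,
      MvPolynomial.coe_basisMonomials, pderiv_monomial, one_mul]
    congr 1
    rw [Finsupp.sum, Finsupp.finsetSum_apply, Finset.sum_eq_single a]
    · rw [Finsupp.single_eq_same]
    · intro b _ hb
      rw [Finsupp.single_eq_of_ne (Ne.symm hb)]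
    · intro ha
      rw [Finsupp.notMem_support_iff.1 ha, Nat.cast_zero, monomial_zero, map_zero, Finsupp.single_zero,
        Finsupp.zero_apply]
  | add f g hf hg => simp only [map_add, Finsupp.add_apply, hf, hg]

theorem grad_mul (f g : MvPolynomial A k) :
    grad k A (f * g) = aeval (id : A → A) f • grad k A g + aeval (id : A → A) g • grad k A f := by
  refine Finsupp.ext fun a => ?_
  simp only [Finsupp.add_apply, Finsupp.smul_apply, grad_apply, Derivation.leibniz, map_add, smul_eq_mul, map_mul]

theorem grad_X (a : A) : grad k A (X a) = Finsupp.single a 1 := by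
  classical
  refine Finsupp.ext fun b => ?_
  rw [grad_apply, pderiv_X, Finsupp.single_apply, Pi.single_apply]
  by_cases h : a = b
  · subst h; simp
  · simp [h, Ne.symm h]

theorem cover_grad (f : MvPolynomial A k) : cover k A (grad k A f) = D k A (aeval id f) := by
  induction f using MvPolynomial.induction_on with
  | C c =>
    rw [aeval_C, Derivation.map_algebraMap]
    have h0 : grad k A (C c) = 0 := Finsupp.ext fun a => by rw [grad_apply, pderiv_C, map_zero, Finsupp.zero_apply]
    rw [h0, map_zero]
  | add f g hf hg => simp only [map_add, hf, hg]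
  | mul_X f a hf =>
    rw [grad_mul, map_add, map_smul, map_smul, hf, map_mul, Derivation.leibniz, aeval_X, grad_X, cover,
      Finsupp.linearCombination_single, one_smul]
    rfl

theorem cover_surjective : Function.Surjective (cover k A) := by
  rw [← LinearMap.range_eq_top, cover, Finsupp.range_linearCombination, KaehlerDifferential.span_range_derivation]

/-- The kernel of the cover consists of gradients of relations. -/
theorem ker_cover (z : A →₀ A) (hz : cover k A z = 0) :
    ∃ f : MvPolynomial A k, aeval (id : A → A) f = 0 ∧ grad k A f = z := by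
  have haev : ∀ a : A, aeval (id : A → A) (X a : MvPolynomial A k) = a := fun a => aeval_X _ a
  let K : Submodule A (A →₀ A) :=
    { carrier := {z | ∃ f : MvPolynomial A k, aeval (id : A → A) f = 0 ∧ grad k A f = z}
      zero_mem' := ⟨0, map_zero _, map_zero _⟩
      add_mem' := fun {a b} ⟨f, hf, ha⟩ ⟨g, hg, hb⟩ =>
        ⟨f + g, by rw [map_add, hf, hg, add_zero], by rw [map_add, ha, hb]⟩
      smul_mem' := fun c z ⟨f, hf, hfz⟩ =>
        ⟨X c * f, by rw [map_mul, hf, mul_zero], by rw [grad_mul, hf, zero_smul, add_zero, haev, hfz]⟩ }
  have hwd : ∀ f g : MvPolynomial A k, aeval (id : A → A) f = aeval (id : A → A) g →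
      (Submodule.Quotient.mk (grad k A f) : _ ⧸ K) = Submodule.Quotient.mk (grad k A g) := fun f g h => by
    rw [Submodule.Quotient.eq]
    exact ⟨f - g, by rw [map_sub, h, sub_self], map_sub _ _ _⟩
  let d : Derivation k A ((A →₀ A) ⧸ K) :=
    { toFun := fun a => Submodule.Quotient.mk (grad k A (X a))
      map_add' := fun a b => by
        rw [hwd (X (a + b)) (X a + X b) (by simp), map_add, Submodule.Quotient.mk_add]
      map_smul' := fun c a => by
        rw [hwd (X (c • a)) (c • X a) (by simp), map_smul, RingHom.id_apply]
        rfl
      map_one_eq_zero' := by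
        show Submodule.Quotient.mk (grad k A (X (1 : A))) = 0
        rw [hwd (X (1 : A)) (C 1) (by simp), show grad k A (C 1) = 0 from Finsupp.ext fun a => by
          rw [grad_apply, pderiv_C, map_zero, Finsupp.zero_apply], Submodule.Quotient.mk_zero]
      leibniz' := fun a b => by
        show Submodule.Quotient.mk (grad k A (X (a * b))) = _
        rw [hwd (X (a * b)) (X a * X b) (by simp), grad_mul, haev, haev, Submodule.Quotient.mk_add,
          Submodule.Quotient.mk_smul, Submodule.Quotient.mk_smul]
        rfl }
  have hd : d.liftKaehlerDifferential ∘ₗ cover k A = K.mkQ := by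
    refine Finsupp.lhom_ext fun a c => ?_
    rw [LinearMap.comp_apply, cover, Finsupp.linearCombination_single, map_smul,
      Derivation.liftKaehlerDifferential_comp_D]
    show c • Submodule.Quotient.mk (grad k A (X a)) = Submodule.Quotient.mk (Finsupp.single a c)
    rw [grad_X, ← Submodule.Quotient.mk_smul, Finsupp.smul_single, smul_eq_mul, mul_one]
  have : z ∈ K := by
    rw [← Submodule.Quotient.mk_eq_zero K, ← Submodule.mkQ_apply, ← hd, LinearMap.comp_apply, hz, map_zero]
  exact this

theorem pureQuot_cover (h : Smoothing.IndSmooth k A) : PureQuot (cover k A) := by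
  classical
  intro z hz
  obtain ⟨f, hf, rfl⟩ := ker_cover k A z hz
  let s := {a // a ∈ f.vars}
  obtain ⟨f', hf'⟩ := exists_rename_eq_of_vars_subset_range f (Subtype.val : s → A) Subtype.val_injective
    (fun a ha => ⟨⟨a, ha⟩, rfl⟩)
  let I : Ideal (MvPolynomial s k) := Ideal.span {f'}
  have hfI : f' ∈ I := Ideal.subset_span rfl
  haveI : Algebra.FinitePresentation k (MvPolynomial s k ⧸ I) :=
    Algebra.FinitePresentation.quotient ⟨{f'}, by simp [I]⟩
  have hev : aeval (Subtype.val : s → A) f' = 0 := by
    have h0 : aeval (id : A → A) (rename Subtype.val f') = 0 := by rw [hf', hf]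
    rw [aeval_rename] at h0
    exact h0
  let φ : (MvPolynomial s k ⧸ I) →ₐ[k] A := Ideal.Quotient.liftₐ I (aeval Subtype.val) fun x hx => by
    obtain ⟨c, rfl⟩ := Ideal.mem_span_singleton'.1 hx
    rw [map_mul, hev, mul_zero]
  have hφ : ∀ r, φ (Ideal.Quotient.mk I r) = aeval (Subtype.val : s → A) r := fun r => rfl
  obtain ⟨B, _, _, hB, g, h', hgh⟩ := h (MvPolynomial s k ⧸ I) inferInstance φ
  haveI := hB
  haveI : Module.Projective B Ω[B⁄k] := inferInstance
  obtain ⟨sec, hsec⟩ := Module.projective_lifting_property (cover k B) LinearMap.id (cover_surjective k B)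
  let θ : (B →₀ B) →+ (A →₀ A) := (Finsupp.mapDomain.addMonoidHom h').comp
    (Finsupp.mapRange.addMonoidHom h'.toRingHom.toAddMonoidHom)
  have hθ : ∀ b c, θ (Finsupp.single b c) = Finsupp.single (h' b) (h' c) := fun b c => by
    simp [θ]
  have hθsmul : ∀ (c : B) (v : B →₀ B), θ (c • v) = h' c • θ v := fun c v => by
    induction v using Finsupp.induction_linear with
    | zero => simp
    | add v w hv hw => rw [smul_add, map_add, hv, hw, map_add, smul_add]
    | single b e => rw [Finsupp.smul_single, hθ, hθ, Finsupp.smul_single, smul_eq_mul, smul_eq_mul, map_mul]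
  letI : Algebra B A := h'.toRingHom.toAlgebra
  haveI : IsScalarTower k B A := IsScalarTower.of_algebraMap_eq fun c => (h'.commutes c).symm
  have hqθ : ∀ v, cover k A (θ v) = KaehlerDifferential.map k k B A (cover k B v) := fun v => by
    induction v using Finsupp.induction_linear with
    | zero => simp
    | add v w hv hw => simp only [map_add, hv, hw]
    | single b e =>
      rw [hθ, cover, cover, Finsupp.linearCombination_single, Finsupp.linearCombination_single, map_smul,
        KaehlerDifferential.map_D]
      exact (algebraMap_smul A e (D k A (h' b))).symm ▸ rfl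
  let img : A → (A →₀ A) := fun a =>
    if ha : a ∈ f.vars then θ (sec (D k B (g (Ideal.Quotient.mk I (X ⟨a, ha⟩))))) else Finsupp.single a 1
  refine ⟨Finsupp.linearCombination A img, ?_, ?_⟩
  · refine Finsupp.lhom_ext fun a c => ?_
    rw [LinearMap.comp_apply, Finsupp.linearCombination_single, map_smul]
    show c • cover k A (img a) = cover k A (Finsupp.single a c)
    conv_rhs => rw [cover, Finsupp.linearCombination_single]
    congr 1
    simp only [img]
    split_ifs with ha
    · rw [hqθ, show cover k B (sec (D k B (g (Ideal.Quotient.mk I (X ⟨a, ha⟩))))) =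
        D k B (g (Ideal.Quotient.mk I (X ⟨a, ha⟩))) from LinearMap.congr_fun hsec _, KaehlerDifferential.map_D]
      congr 1
      show h' (g _) = a
      rw [← AlgHom.comp_apply, hgh]
      exact (hφ _).trans (aeval_X _ _)
    · rw [cover, Finsupp.linearCombination_single, one_smul]
  -- the gradient of a polynomial in `s`, computed upstairs
  · have key : ∀ p : MvPolynomial s k, Finsupp.linearCombination A img (grad k A (rename Subtype.val p)) =
        θ (sec (D k B (g (Ideal.Quotient.mk I p)))) := by
      intro p
      induction p using MvPolynomial.induction_on with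
      | C c =>
        rw [rename_C, show grad k A (C c) = 0 from Finsupp.ext fun a => by
          rw [grad_apply, pderiv_C, map_zero, Finsupp.zero_apply], map_zero,
          show Ideal.Quotient.mk I (C c) = algebraMap k _ c from rfl, AlgHom.commutes, Derivation.map_algebraMap,
          map_zero, map_zero]
      | add p q hp hq => simp only [map_add, hp, hq]
      | mul_X p a hp =>
        have hev1 : ∀ r : MvPolynomial s k, aeval (id : A → A) (rename Subtype.val r) = h' (g (Ideal.Quotient.mk I r)) :=
          fun r => by
            rw [aeval_rename, ← AlgHom.comp_apply, hgh]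
            exact (hφ r).symm
        rw [map_mul, grad_mul, map_add, map_smul, map_smul, hp, rename_X, grad_X, Finsupp.linearCombination_single,
          one_smul, hev1, aeval_X, map_mul, map_mul, Derivation.leibniz, map_add, map_smul, map_smul, map_add, hθsmul,
          hθsmul]
        simp only [img, dif_pos a.2, id]
        congr 2
        rw [← AlgHom.comp_apply, hgh]
        exact ((hφ _).trans (aeval_X _ _)).symm
    rw [← hf', key, Ideal.Quotient.eq_zero_iff_mem.2 hfI, map_zero, map_zero, map_zero, map_zero]

theorem flat_exteriorPower_kaehler (h : Smoothing.IndSmooth k A) (i : ℕ) :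
    Module.Flat A ↥(⋀[A]^i Ω[A⁄k]) :=
  flat_of_pureQuot (exteriorPower.map_surjective (cover_surjective k A))
    ((pureQuot_cover k A h).exterior (cover_surjective k A) i)

end Kaehler

end Groth.Agent.CAlgH3.KaehlerFlat
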