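import Mathlib

/-! Kaehler differentials of finitely generated field extensions and separating transcendence bases. -/

set_option autoImplicit false
universe u v w

open scoped TensorProduct

namespace Groth.Agent.CAlgH3.KaehlerTrdeg

variable {k : Type u} {F : Type v} [Field k] [Field F] [Algebra k F] {ι : Type w} {x : ι → F}

theorem exists_basis (hx : IsTranscendenceBasis k x)
    (hsep : Algebra.IsSeparable (IntermediateField.adjoin k (Set.range x)) F) :
    ∃ b : Module.Basis ι F (Ω[F⁄k]), ∀ i, b i = KaehlerDifferential.D k F (x i) := by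
  let P := MvPolynomial ι k
  let E := IntermediateField.adjoin k (Set.range x)
  let Q := FractionRing P
  let e : Q ≃ₐ[k] E := hx.1.aevalEquivField
  letI : Algebra Q F := ((algebraMap E F).comp e.toRingEquiv.toRingHom).toAlgebra
  haveI : IsScalarTower k Q F := IsScalarTower.of_algebraMap_eq fun c => by
    show algebraMap k F c = algebraMap E F (e (algebraMap k Q c))
    rw [e.commutes]; rfl
  haveI : Algebra.IsSeparable Q F := Algebra.IsSeparable.of_equiv_equiv e.symm.toRingEquiv (RingEquiv.refl F)
    (by ext z; show algebraMap E F (e (e.symm z)) = algebraMap E F z; rw [e.apply_symm_apply])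
  haveI : Algebra.FormallyEtale Q F := Algebra.FormallyEtale.of_isSeparable Q F
  letI : Algebra P F := ((algebraMap Q F).comp (algebraMap P Q)).toAlgebra
  haveI : IsScalarTower P Q F := IsScalarTower.of_algebraMap_eq fun _ => rfl
  haveI : IsScalarTower k P F := IsScalarTower.of_algebraMap_eq fun c => by
    show _ = algebraMap Q F (algebraMap P Q (algebraMap k P c))
    rw [← IsScalarTower.algebraMap_apply k P Q, ← IsScalarTower.algebraMap_apply k Q F]
  haveI : Algebra.FormallyEtale P Q := Algebra.FormallyEtale.of_isLocalization (nonZeroDivisors P)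
  haveI : Algebra.FormallyEtale P F := Algebra.FormallyEtale.comp P Q F
  refine ⟨((KaehlerDifferential.mvPolynomialBasis k ι).baseChange F).map
    (KaehlerDifferential.tensorKaehlerEquivOfFormallyEtale k P F), fun i => ?_⟩
  rw [Module.Basis.map_apply, Module.Basis.baseChange_apply, KaehlerDifferential.tensorKaehlerEquivOfFormallyEtale_apply,
    KaehlerDifferential.mapBaseChange_tmul, one_smul]
  have hb : KaehlerDifferential.mvPolynomialBasis k ι i = KaehlerDifferential.D k P (MvPolynomial.X i) := by
    apply (KaehlerDifferential.mvPolynomialBasis k ι).repr.injective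
    rw [Module.Basis.repr_self, KaehlerDifferential.mvPolynomialBasis_repr_D, MvPolynomial.mkDerivation_X]
  rw [hb, KaehlerDifferential.map_D]
  congr 1
  show ((e (algebraMap P Q (MvPolynomial.X i))) : F) = x i
  rw [AlgebraicIndependent.aevalEquivField_algebraMap_apply_coe, MvPolynomial.aeval_X]

theorem isSeparable_of_span {K : Type v} [Field K] [Algebra k K] [Algebra K F] [IsScalarTower k K F]
    (hF : (⊤ : IntermediateField k F).FG)
    (h : Submodule.span F (Set.range fun a : K => KaehlerDifferential.D k F (algebraMap K F a)) = ⊤) :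
    Algebra.IsSeparable K F := by
  haveI : Algebra.EssFiniteType k F := IntermediateField.fg_top_iff.1 hF
  haveI : Algebra.EssFiniteType K F := Algebra.EssFiniteType.of_comp k K F
  refine (Algebra.FormallyUnramified.iff_isSeparable K F).1 ⟨?_⟩
  refine subsingleton_of_forall_eq 0 fun ω => ?_
  obtain ⟨η, rfl⟩ := KaehlerDifferential.map_surjective k K F ω
  have : η ∈ LinearMap.ker (KaehlerDifferential.map k K F F) := by
    have hle : Submodule.span F (Set.range fun a : K => KaehlerDifferential.D k F (algebraMap K F a)) ≤
        LinearMap.ker (KaehlerDifferential.map k K F F) := Submodule.span_le.2 (by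
      rintro _ ⟨a, rfl⟩
      show KaehlerDifferential.map k K F F _ = 0
      rw [KaehlerDifferential.map_D]
      exact Derivation.map_algebraMap _ a)
    exact hle (h.symm ▸ Submodule.mem_top)
  exact this

theorem separable_iff [IsAlgClosed k] (hF : (⊤ : IntermediateField k F).FG) (hx : IsTranscendenceBasis k x) :
    Algebra.IsSeparable (IntermediateField.adjoin k (Set.range x)) F ↔
      (LinearIndependent F (fun i : ι => KaehlerDifferential.D k F (x i)) ∧
        Submodule.span F (Set.range fun i : ι => KaehlerDifferential.D k F (x i)) = ⊤) := by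
  refine ⟨fun h => ?_, fun h => ?_⟩
  · obtain ⟨b, hb⟩ := exists_basis hx h
    rw [show (fun i : ι => KaehlerDifferential.D k F (x i)) = b from funext fun i => (hb i).symm]
    exact ⟨b.linearIndependent, b.span_eq⟩
  · refine isSeparable_of_span (K := IntermediateField.adjoin k (Set.range x)) hF (top_unique ?_)
    rw [← h.2]
    refine Submodule.span_mono ?_
    rintro _ ⟨i, rfl⟩
    exact ⟨⟨x i, IntermediateField.subset_adjoin k _ ⟨i, rfl⟩⟩, rfl⟩

theorem rank_eq [PerfectField k] (hF : (⊤ : IntermediateField k F).FG) (d : ℕ) (x : Fin d → F)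
    (hx : IsTranscendenceBasis k x) : Module.rank F (Ω[F⁄k]) = d := by
  haveI : Algebra.EssFiniteType k F := IntermediateField.fg_top_iff.1 hF
  obtain ⟨s, hs, hsep⟩ := exists_isTranscendenceBasis_and_isSeparable_of_perfectField k F
  have hsep' : Algebra.IsSeparable (IntermediateField.adjoin k (Set.range ((↑) : s → F))) F := by
    rw [show Set.range ((↑) : s → F) = (s : Set F) from Subtype.range_coe]; exact hsep
  obtain ⟨b, -⟩ := exists_basis hs hsep'
  have h1 := hs.lift_cardinalMk_eq_trdeg
  have h2 := hx.lift_cardinalMk_eq_trdeg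
  rw [rank_eq_card_basis b]
  simp [Cardinal.lift_id', Cardinal.mk_fintype] at h1 h2 ⊢
  exact_mod_cast h1.trans h2.symm

theorem map_zero_or_injective [IsAlgClosed k] {K L : Type v} [Field K] [Field L] [Algebra k K] [Algebra k L] [Algebra K L]
    [IsScalarTower k K L] (hK : (⊤ : IntermediateField k K).FG)
    (hx : ∃ x : K, IsTranscendenceBasis k (fun _ : Unit => x)) [FiniteDimensional K L] :
    (KaehlerDifferential.map k k K L = 0 ∨ Function.Injective (KaehlerDifferential.map k k K L)) ∧
      (Function.Injective (KaehlerDifferential.map k k K L) ↔ Algebra.IsSeparable K L) := by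
  obtain ⟨x, hx⟩ := hx
  haveI : Algebra.EssFiniteType k K := IntermediateField.fg_top_iff.1 hK
  haveI : Algebra.EssFiniteType k L := Algebra.EssFiniteType.comp k K L
  have hL : (⊤ : IntermediateField k L).FG := IntermediateField.fg_top_iff.2 inferInstance
  have h1 : IsTranscendenceBasis k (fun _ : Fin 1 => x) := hx.comp_equiv finOneEquiv
  have rK : Module.rank K (Ω[K⁄k]) = 1 := by simpa using rank_eq hK 1 _ h1
  refine ⟨?_, fun hinj => ?_, fun hsep => ?_⟩
  · haveI : Module.Finite K (Ω[K⁄k]) := Module.finite_of_rank_eq_nat rK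
    obtain ⟨v, hv0, hv⟩ := finrank_eq_one_iff'.1 (Module.finrank_eq_of_rank_eq rK)
    refine or_iff_not_imp_left.2 fun hne => (injective_iff_map_eq_zero _).2 fun w hw => ?_
    obtain ⟨c, rfl⟩ := hv w
    rw [map_smul] at hw
    rcases smul_eq_zero.1 hw with h | h
    · rw [h, zero_smul]
    · refine absurd (LinearMap.ext fun y => ?_) hne
      obtain ⟨e, rfl⟩ := hv y
      rw [map_smul, h, smul_zero, LinearMap.zero_apply]
  · have h2 : IsTranscendenceBasis k (fun _ : Fin 1 => algebraMap K L x) :=
      h1.algebraMap_comp (A := L)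
    have rL : Module.rank L (Ω[L⁄k]) = 1 := by simpa using rank_eq hL 1 _ h2
    haveI : Module.Finite L (Ω[L⁄k]) := Module.finite_of_rank_eq_nat rL
    refine isSeparable_of_span (K := K) hL ?_
    have hne : ∃ a : K, KaehlerDifferential.D k L (algebraMap K L a) ≠ 0 := by
      by_contra hc
      push_neg at hc
      haveI : Nontrivial (Ω[K⁄k]) := Module.nontrivial_of_finrank_eq_succ (n := 0) (Module.finrank_eq_of_rank_eq rK)
      refine (not_subsingleton (Ω[K⁄k])) ⟨fun a b => hinj ?_⟩
      have : KaehlerDifferential.map k k K L = 0 :=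
        Derivation.liftKaehlerDifferential_unique _ _ (Derivation.ext fun a => by simp [hc])
      rw [this]
      rfl
    obtain ⟨a, ha⟩ := hne
    refine top_unique ((finrank_eq_one_iff_of_nonzero _ ha).1 (Module.finrank_eq_of_rank_eq rL) ▸ Submodule.span_mono ?_)
    exact Set.singleton_subset_iff.2 ⟨a, rfl⟩
  · haveI := Algebra.FormallyEtale.of_isSeparable K L
    intro a b hab
    have : (1 : L) ⊗ₜ[K] a = (1 : L) ⊗ₜ[K] b := by
      apply (KaehlerDifferential.tensorKaehlerEquivOfFormallyEtale k K L).injective
      simpa using hab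
    exact Module.Flat.tensorProduct_mk_injective (R := K) (S := L) (M := Ω[K⁄k]) this

end Groth.Agent.CAlgH3.KaehlerTrdeg
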