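import Groth.Agent.CAlgH3.GrMinimal
import Groth.Agent.GrLib.Std
import Mathlib.Algebra.MvPolynomial.Division

/-!
Koszul chains of the variables as functions on finite sets, and the vanishing of graded Betti numbers.
-/

set_option autoImplicit false
set_option linter.unusedSectionVars false

universe u

open MvPolynomial Groth.Agent.GrLib

noncomputable section

namespace Groth.Agent.CAlgH3.KoszulBetti

variable {k : Type u} [Field k] {m : ℕ}

local notation "S" => MvPolynomial (Fin m) k
local notation "𝔸" => GrSyz.stdGr k (Fin m)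

/-- The Koszul sign. -/
def sgn (v : Fin m) (s : Finset (Fin m)) : ℤ := (-1) ^ (s.filter (· < v)).card

theorem sgn_mul_self (v : Fin m) (s : Finset (Fin m)) : sgn v s * sgn v s = 1 := by
  rw [sgn, ← pow_add, ← two_mul, pow_mul, neg_one_sq, one_pow]

theorem sgn_insert (v w : Fin m) (s : Finset (Fin m)) (hw : w ∉ s) :
    sgn v (insert w s) = if w < v then -sgn v s else sgn v s := by
  rw [sgn, sgn, Finset.filter_insert]
  split
  · rw [Finset.card_insert_of_notMem (fun h => hw (Finset.mem_filter.1 h).1), pow_succ, mul_neg_one]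
  · rfl

theorem sgn_comm {v w : Fin m} {s : Finset (Fin m)} (hv : v ∉ s) (hw : w ∉ s) (hne : v ≠ w) :
    sgn v s * sgn w (insert v s) + sgn w s * sgn v (insert w s) = 0 := by
  rw [sgn_insert w v s hv, sgn_insert v w s hw]
  rcases lt_or_gt_of_ne hne with h | h
  · rw [if_pos h, if_neg h.asymm]; ring
  · rw [if_neg h.asymm, if_pos h]; ring

variable {M : Type u} [AddCommGroup M] [Module (MvPolynomial (Fin m) k) M]

/-- The Koszul differential. -/
def kd' (k : Type u) [Field k] {M : Type u} [AddCommGroup M] [Module (MvPolynomial (Fin m) k) M] (z : Finset (Fin m) → M) (s : Finset (Fin m)) : M :=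
  ∑ v ∈ sᶜ, sgn v s • ((X v : MvPolynomial (Fin m) k) • z (insert v s))

/-- The homotopy attached to a variable. -/
def kh (v : Fin m) (z : Finset (Fin m) → M) (s : Finset (Fin m)) : M :=
  if v ∈ s then sgn v (s.erase v) • z (s.erase v) else 0

theorem kd_sub (z z' : Finset (Fin m) → M) : kd' k (z - z') = kd' k z - kd' k z' := by
  funext s
  simp only [kd', Pi.sub_apply, smul_sub, Finset.sum_sub_distrib]

theorem kd_sum {κ : Type*} (F : Finset κ) (z : κ → Finset (Fin m) → M) :
    kd' k (∑ i ∈ F, z i) = ∑ i ∈ F, kd' k (z i) := by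
  funext s
  simp only [kd', Finset.sum_apply, Finset.smul_sum]
  exact Finset.sum_comm

theorem kd_zero : kd' k (0 : Finset (Fin m) → M) = 0 := by
  funext s
  simp [kd']

theorem kd_map {N : Type u} [AddCommGroup N] [Module S N] (φ : M →ₗ[S] N) (z : Finset (Fin m) → M) :
    kd' k (fun s => φ (z s)) = fun s => φ (kd' k z s) := by
  funext s
  simp only [kd', map_sum, map_zsmul, map_smul]

theorem kd_kd (z : Finset (Fin m) → M) : kd' k (kd' k z) = 0 := by
  funext s
  let f : Fin m → Fin m → M := fun v w => if v ∉ s ∧ w ∉ s ∧ v ≠ w then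
    (sgn v s * sgn w (insert v s)) • ((X v * X w : S) • z (insert w (insert v s))) else 0
  have h1 : kd' k (kd' k z) s = ∑ p : Fin m × Fin m, f p.1 p.2 := by
    rw [Fintype.sum_prod_type, kd', ← Finset.sum_subset (Finset.subset_univ sᶜ)]
    · refine Finset.sum_congr rfl fun v hv => ?_
      rw [kd', Finset.smul_sum, Finset.smul_sum, ← Finset.sum_subset (Finset.subset_univ (insert v s)ᶜ)]
      · refine Finset.sum_congr rfl fun w hw => ?_
        simp only [Finset.mem_compl, Finset.mem_insert, not_or] at hw hv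
        rw [show f v w = _ from if_pos ⟨hv, hw.2, Ne.symm hw.1⟩, smul_comm (X v : S) (sgn w _), smul_smul, smul_smul]
      · intro w _ hw
        simp only [Finset.mem_compl, Finset.mem_insert, not_not] at hw
        exact if_neg fun h => hw.elim (fun e => h.2.2 e.symm) h.2.1
    · intro v _ hv
      simp only [Finset.mem_compl, not_not] at hv
      exact Finset.sum_eq_zero fun w _ => if_neg fun h => h.1 hv
  rw [h1, Pi.zero_apply]
  refine Finset.sum_involution (fun p _ => (p.2, p.1)) (fun p _ => ?_) (fun p _ hp => ?_)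
    (fun p _ => Finset.mem_univ _) (fun p _ => rfl)
  · obtain ⟨v, w⟩ := p
    by_cases h : v ∉ s ∧ w ∉ s ∧ v ≠ w
    · show f v w + f w v = 0
      rw [show f v w = _ from if_pos h, show f w v = _ from if_pos ⟨h.2.1, h.1, h.2.2.symm⟩, mul_comm (X w : S) (X v),
        Finset.insert_comm v w, ← add_smul, sgn_comm h.1 h.2.1 h.2.2, zero_smul]
    · show f v w + f w v = 0
      rw [show f v w = 0 from if_neg h, show f w v = 0 from if_neg fun h' => h ⟨h'.2.1, h'.1, h'.2.2.symm⟩, add_zero]
  · intro h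
    have h2 : p.2 = p.1 := (Prod.ext_iff.1 h).1
    exact hp (if_neg fun h' => h'.2.2 h2.symm)

theorem kd_kh (v : Fin m) (z : Finset (Fin m) → M) (s : Finset (Fin m)) :
    kd' k (kh v z) s + kh v (kd' k z) s = (X v : S) • z s := by
  by_cases hv : v ∈ s
  · rw [kh, if_pos hv, kd', kd', Finset.smul_sum]
    have hc : (s.erase v)ᶜ = insert v sᶜ := by rw [Finset.compl_erase]
    rw [hc, Finset.sum_insert (by simp [hv]), ← add_assoc, add_right_comm, ← Finset.sum_add_distrib,
      Finset.sum_eq_zero, zero_add, smul_smul, sgn_mul_self, one_smul, Finset.insert_erase hv]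
    intro w hw
    rw [Finset.mem_compl] at hw
    have hne : v ≠ w := fun e => hw (e ▸ hv)
    have hw' : w ∉ s.erase v := fun h => hw (Finset.mem_of_mem_erase h)
    rw [kh, if_pos (Finset.mem_insert_of_mem hv),
      Finset.erase_insert_of_ne hne.symm, smul_comm (X w : S) (sgn v (insert w (s.erase v))), smul_smul, smul_smul,
      ← add_smul]
    have h2 := sgn_comm (Finset.notMem_erase v s) hw' hne
    rw [Finset.insert_erase hv] at h2
    rw [show sgn w s * sgn v (insert w (s.erase v)) + sgn v (s.erase v) * sgn w (s.erase v) = 0 from ?_, zero_smul]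
    have h3 := sgn_mul_self v (s.erase v)
    have h4 := sgn_mul_self w (s.erase v)
    have h5 := sgn_mul_self v (insert w (s.erase v))
    linear_combination (sgn v (s.erase v) * sgn v (insert w (s.erase v))) * h2 -
      (sgn w s * sgn v (insert w (s.erase v))) * h3 - (sgn v (s.erase v) * sgn w (s.erase v)) * h5
  · rw [kh, if_neg hv, add_zero, kd', Finset.sum_eq_single v]
    · rw [kh, if_pos (Finset.mem_insert_self v s), Finset.erase_insert hv, smul_comm (X v : S) (sgn v s),
        smul_smul, sgn_mul_self, one_smul]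
    · intro w hw hne
      rw [kh, if_neg (by rw [Finset.mem_insert]; rintro (h | h); exacts [hne h.symm, hv h]), smul_zero, smul_zero]
    · intro h
      exact absurd (Finset.mem_compl.2 hv) h

/-- Chains of Koszul degree `q` with coefficients satisfying `P`. -/
def Ch (q : ℕ) (P : M → Prop) (z : Finset (Fin m) → M) : Prop :=
  (∀ s, s.card ≠ q → z s = 0) ∧ ∀ s, P (z s)

theorem kd_card {q : ℕ} {z : Finset (Fin m) → M} (h : ∀ s, s.card ≠ q + 1 → z s = 0) (s : Finset (Fin m))
    (hs : s.card ≠ q) : kd' k z s = 0 :=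
  Finset.sum_eq_zero fun v hv => by
    rw [h _ (by rw [Finset.card_insert_of_notMem (Finset.mem_compl.1 hv)]; omega), smul_zero, smul_zero]

theorem kd_eq_zero_of_card_zero {z : Finset (Fin m) → M} (h : ∀ s, s.card ≠ 0 → z s = 0) : kd' k z = 0 := by
  funext s
  exact Finset.sum_eq_zero fun v _ => by
    rw [h _ (Finset.card_ne_zero.2 (Finset.insert_nonempty v s)), smul_zero, smul_zero]

theorem kh_card {q : ℕ} (v : Fin m) {z : Finset (Fin m) → M} (h : ∀ s, s.card ≠ q → z s = 0) (s : Finset (Fin m))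
    (hs : s.card ≠ q + 1) : kh v z s = 0 := by
  by_cases hv : v ∈ s
  · have h0 := Finset.card_pos.2 ⟨v, hv⟩
    rw [kh, if_pos hv, h _ (by rw [Finset.card_erase_of_mem hv]; omega), smul_zero]
  · rw [kh, if_neg hv]

section Graded

variable {ℳ : ℤ → AddSubgroup M} (hX : ∀ (v : Fin m) (t : ℤ) (x : M), x ∈ ℳ (t - 1) → (X v : (MvPolynomial (Fin m) k)) • x ∈ ℳ t)
include hX

theorem kd_mem {t : ℤ} {z : Finset (Fin m) → M} (h : ∀ s, z s ∈ ℳ (t - 1)) (s : Finset (Fin m)) : kd' k z s ∈ ℳ t :=
  sum_mem fun v _ => zsmul_mem (hX v t _ (h _)) _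

end Graded

section Free

/-- Monomials without variables below `v`. -/
def good (v : Fin m) (α : Fin m →₀ ℕ) : Prop := ∀ w, w < v → α w = 0

open Classical in
/-- The contracting operator. -/
def con (v : Fin m) (f : S) : S :=
  ∑ β ∈ (MvPolynomial.divMonomial f (Finsupp.single v 1)).support.filter (good v),
    monomial β (coeff β (MvPolynomial.divMonomial f (Finsupp.single v 1)))

open Classical in
theorem coeff_con (v : Fin m) (f : S) (α : Fin m →₀ ℕ) :
    coeff α (con v f) = if good v α then coeff (Finsupp.single v 1 + α) f else 0 := by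
  rw [con, coeff_sum]
  simp only [coeff_monomial, Finset.sum_ite_eq', Finset.mem_filter, mem_support_iff, coeff_divMonomial]
  by_cases hg : good v α
  · by_cases h0 : coeff (Finsupp.single v 1 + α) f = 0
    · simp [hg, h0]
    · simp [hg, h0]
  · simp [hg]

/-- The contracting homotopy. -/
def H (z : Finset (Fin m) → S) (s : Finset (Fin m)) : S :=
  if hs : s.Nonempty then con (s.min' hs) (z (s.erase (s.min' hs))) else 0

theorem H_mem {t : ℤ} {z : Finset (Fin m) → S} (h : ∀ s, z s ∈ 𝔸 t) (s : Finset (Fin m)) : H z s ∈ 𝔸 (t - 1) := by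
  rw [H]
  split
  · rw [GrSyz.mem_stdGr_iff]
    intro α hα
    rw [coeff_con] at hα
    split at hα
    · have h1 := (GrSyz.mem_stdGr_iff _ _ _ _).1 (h _) hα
      rw [map_add, Finsupp.weight_single] at h1
      simp only [one_smul] at h1
      omega
    · exact absurd rfl hα
  · exact zero_mem _

theorem H_card {q : ℕ} {z : Finset (Fin m) → S} (h : ∀ s, s.card ≠ q → z s = 0) (s : Finset (Fin m))
    (hs : s.card ≠ q + 1) : H z s = 0 := by
  rw [H]
  split
  · rename_i hne
    have h0 := Finset.card_pos.2 hne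
    rw [h _ (by rw [Finset.card_erase_of_mem (s.min'_mem hne)]; omega)]
    refine MvPolynomial.ext _ _ fun α => ?_
    rw [coeff_con]
    simp
  · rfl

open Classical in
theorem coeff_zsmul_X (c : ℤ) (v : Fin m) (f : S) (α : Fin m →₀ ℕ) :
    coeff α (c • ((X v : S) • f)) = if α v = 0 then 0 else c • coeff (α - Finsupp.single v 1) f := by
  rw [zsmul_eq_mul, smul_eq_mul, ← map_intCast (C : k →+* S), coeff_C_mul, coeff_X_mul']
  by_cases h : α v = 0
  · rw [if_neg (by simp [Finsupp.mem_support_iff, h]), mul_zero, if_pos h]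
  · rw [if_pos (Finsupp.mem_support_iff.2 h), if_neg h, zsmul_eq_mul]

/-- Koszul cycles of the polynomial ring without constant part are boundaries. -/
theorem kd_H {z : Finset (Fin m) → S} (hz : kd' k z = 0) (h0 : constantCoeff (z ∅) = 0) : kd' k (H z) = z := by
  classical
  funext s
  refine MvPolynomial.ext _ _ fun α => ?_
  by_cases hU : (s ∪ α.support).Nonempty
  swap
  · rw [Finset.not_nonempty_iff_eq_empty, Finset.union_eq_empty, Finsupp.support_eq_empty] at hU
    obtain ⟨rfl, rfl⟩ := hU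
    rw [kd', coeff_sum, Finset.sum_eq_zero fun v _ => by rw [coeff_zsmul_X, if_pos (by simp)]]
    rw [← h0, constantCoeff_eq]
  set v₀ := (s ∪ α.support).min' hU with hv₀
  have hmin : ∀ w, w ∈ s ∪ α.support → v₀ ≤ w := fun w hw => Finset.min'_le _ _ hw
  have hgoodα : good v₀ α := fun w hw => by
    by_contra h
    exact absurd (hmin w (Finset.mem_union_right _ (Finsupp.mem_support_iff.2 h))) (not_le.2 hw)
  by_cases hs : v₀ ∈ s
  · -- compare with the differential at `s.erase v₀`, monomial `α + v₀`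
    have hd : coeff (Finsupp.single v₀ 1 + α) (kd' k z (s.erase v₀)) = 0 := by rw [hz]; simp
    rw [kd', Finset.compl_erase, Finset.sum_insert (by simp [hs]), coeff_add, coeff_zsmul_X,
      if_neg (by simp), add_tsub_cancel_left, Finset.insert_erase hs] at hd
    rw [kd', coeff_sum]
    rw [coeff_sum] at hd
    have key : ∀ v ∈ sᶜ, coeff α (sgn v s • ((X v : S) • H z (insert v s))) =
        -(sgn v₀ (s.erase v₀) • coeff (Finsupp.single v₀ 1 + α)
          (sgn v (s.erase v₀) • ((X v : S) • z (insert v (s.erase v₀))))) := by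
      intro v hv
      rw [Finset.mem_compl] at hv
      have hne : v₀ ≠ v := fun e => hv (e ▸ hs)
      rw [coeff_zsmul_X, coeff_zsmul_X]
      by_cases hαv : α v = 0
      · rw [if_pos hαv, if_pos (by simp [hαv, hne]), smul_zero, neg_zero]
      rw [if_neg hαv, if_neg (by simp [hαv, hne])]
      have hvU : v₀ < v := lt_of_le_of_ne (hmin v (Finset.mem_union_right _ (Finsupp.mem_support_iff.2 hαv))) hne
      have hmin' : (insert v s).min' (Finset.insert_nonempty v s) = v₀ := by
        refine le_antisymm (Finset.min'_le _ _ (Finset.mem_insert_of_mem hs)) (Finset.le_min' _ _ _ fun w hw => ?_)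
        rcases Finset.mem_insert.1 hw with rfl | hw
        · exact hvU.le
        · exact hmin w (Finset.mem_union_left _ hw)
      rw [H, dif_pos (Finset.insert_nonempty v s), hmin', coeff_con,
        if_pos (show good v₀ _ from fun w hw => by rw [Finsupp.coe_tsub, Pi.sub_apply, hgoodα w hw, Nat.zero_sub]), Finset.erase_insert_of_ne hne.symm]
      have he : Finsupp.single v₀ 1 + (α - Finsupp.single v 1) = Finsupp.single v₀ 1 + α - Finsupp.single v 1 := by
        ext w
        simp only [Finsupp.coe_add, Finsupp.coe_tsub, Pi.add_apply, Pi.sub_apply, Finsupp.single_apply]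
        by_cases h : v = w
        · subst h; simp [hne]
        · simp [h]
      rw [he, smul_smul, ← neg_smul]
      congr 1
      have h2 := sgn_comm (Finset.notMem_erase v₀ s) (fun h => hv (Finset.mem_of_mem_erase h)) hne
      rw [Finset.insert_erase hs] at h2
      have h3 := sgn_insert v v₀ (s.erase v₀) (Finset.notMem_erase v₀ s)
      rw [Finset.insert_erase hs, if_pos hvU] at h3
      rw [h3]
      have h5 := sgn_mul_self v₀ (s.erase v₀)
      have h6 : sgn v₀ (s.erase v₀) = 1 := by
        rw [sgn, Finset.filter_false_of_mem, Finset.card_empty, pow_zero]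
        intro w hw
        exact not_lt.2 (hmin w (Finset.mem_union_left _ (Finset.mem_of_mem_erase hw)))
      rw [h6, one_mul]
    rw [Finset.sum_congr rfl key, Finset.sum_neg_distrib, ← Finset.smul_sum, eq_neg_of_add_eq_zero_right hd,
      smul_neg, neg_neg, smul_smul, sgn_mul_self, one_smul]
  · have hv : α v₀ ≠ 0 := by
      rcases Finset.mem_union.1 (Finset.min'_mem _ hU) with h | h
      · exact absurd h hs
      · exact Finsupp.mem_support_iff.1 h
    rw [kd', coeff_sum, Finset.sum_eq_single v₀]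
    · have hmin' : (insert v₀ s).min' (Finset.insert_nonempty _ s) = v₀ :=
        le_antisymm (Finset.min'_le _ _ (Finset.mem_insert_self _ _)) (Finset.le_min' _ _ _ fun w hw => by
          rcases Finset.mem_insert.1 hw with rfl | hw
          · exact le_rfl
          · exact hmin w (Finset.mem_union_left _ hw))
      have h6 : sgn v₀ s = 1 := by
        rw [sgn, Finset.filter_false_of_mem, Finset.card_empty, pow_zero]
        intro w hw
        exact not_lt.2 (hmin w (Finset.mem_union_left _ hw))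
      rw [coeff_zsmul_X, if_neg hv, h6, one_smul, H, dif_pos (Finset.insert_nonempty _ s), hmin', coeff_con,
        if_pos (show good v₀ _ from fun w hw => by rw [Finsupp.coe_tsub, Pi.sub_apply, hgoodα w hw, Nat.zero_sub]), Finset.erase_insert hs,
        add_tsub_cancel_of_le (Finsupp.single_le_iff.2 (Nat.one_le_iff_ne_zero.2 hv))]
    · intro v hvs hne
      rw [coeff_zsmul_X]
      by_cases hαv : α v = 0
      · rw [if_pos hαv]
      rw [if_neg hαv, H, dif_pos (Finset.insert_nonempty v s), coeff_con, if_neg, smul_zero]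
      intro hg
      have hlt : v₀ < (insert v s).min' (Finset.insert_nonempty v s) := by
        rw [Finset.lt_min'_iff]
        intro w hw
        rcases Finset.mem_insert.1 hw with rfl | hw
        · exact lt_of_le_of_ne (hmin w (Finset.mem_union_right _ (Finsupp.mem_support_iff.2 hαv))) hne.symm
        · exact lt_of_le_of_ne (hmin w (Finset.mem_union_left _ hw)) fun e => hs (e ▸ hw)
      have := hg v₀ hlt
      simp [hne] at this
      exact hv this
    · intro h
      exact absurd (Finset.mem_compl.2 hs) h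

/-- The degree pieces of a free module with degrees `deg`. -/
def Fg {n : ℕ} (deg : Fin n → ℤ) (t : ℤ) : AddSubgroup (Fin n → S) where
  carrier := {f | ∀ a, f a ∈ 𝔸 (t - deg a)}
  zero_mem' a := zero_mem _
  add_mem' hx hy a := add_mem (hx a) (hy a)
  neg_mem' hx a := neg_mem (hx a)

theorem Fg_X {n : ℕ} (deg : Fin n → ℤ) (v : Fin m) (t : ℤ) (x : Fin n → S) (hx : x ∈ Fg (k := k) deg (t - 1)) :
    (X v : S) • x ∈ Fg (k := k) deg t := fun a => by
  have := SetLike.GradedMul.mul_mem (GrLib.X_mem_stdGr k m v) (hx a)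
  rwa [show 1 + (t - 1 - deg a) = t - deg a by ring] at this

/-- Koszul cycles of a free module without constant part are boundaries. -/
theorem exists_free {n : ℕ} (deg : Fin n → ℤ) {q : ℕ} {t : ℤ} {z : Finset (Fin m) → Fin n → S}
    (hz : Ch q (· ∈ Fg (k := k) deg t) z) (hd : kd' k z = 0) (h0 : ∀ a, constantCoeff (z ∅ a) = 0) :
    ∃ u, Ch (q + 1) (· ∈ Fg (k := k) deg (t - 1)) u ∧ kd' k u = z := by
  refine ⟨fun s a => H (fun s' => z s' a) s, ⟨fun s hs => funext fun a =>
    H_card (fun s' hs' => congrFun (hz.1 s' hs') a) s hs, fun s a => ?_⟩, ?_⟩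
  · have := H_mem (fun s' => hz.2 s' a) s
    rwa [show t - deg a - 1 = t - 1 - deg a by ring] at this
  · funext s a
    have h := congrFun (kd_map (LinearMap.proj (R := MvPolynomial (Fin m) k) (φ := fun _ : Fin n => MvPolynomial (Fin m) k) a) fun s a => H (fun s' => z s' a) s) s
    simp only [LinearMap.proj_apply] at h
    rw [← h, kd_H _ (h0 a)]
    exact (kd_map (LinearMap.proj (R := MvPolynomial (Fin m) k) (φ := fun _ : Fin n => MvPolynomial (Fin m) k) a) z).trans
      (by rw [hd]; exact _root_.funext fun _ => rfl)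

/-- One step of dimension shifting along a minimal map. -/
theorem step {n : ℕ} (deg : Fin n → ℤ) {N : Type u} [AddCommGroup N] [Module S N] (𝒩 : ℤ → AddSubgroup N)
    (φ : (Fin n → S) →ₗ[S] N) (hφ : ∀ t f, f ∈ Fg (k := k) deg t → φ f ∈ 𝒩 t)
    (hlift : ∀ t y, y ∈ 𝒩 t → y ∈ LinearMap.range φ → ∃ f ∈ Fg (k := k) deg t, φ f = y)
    (hmin : ∀ f, φ f = 0 → ∀ a, constantCoeff (f a) = 0) (q : ℕ) (t : ℤ)
    (HN : ∀ y : Finset (Fin m) → N, Ch (q + 1) (fun x => x ∈ 𝒩 (t - 1) ∧ x ∈ LinearMap.range φ) y → kd' k y = 0 →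
      ∃ v : Finset (Fin m) → N, Ch (q + 2) (fun x => x ∈ 𝒩 (t - 2) ∧ x ∈ LinearMap.range φ) v ∧ kd' k v = y)
    (z : Finset (Fin m) → Fin n → S) (hz : Ch q (fun x => x ∈ Fg (k := k) deg t ∧ φ x = 0) z) (hd : kd' k z = 0) :
    ∃ w, Ch (q + 1) (fun x => x ∈ Fg (k := k) deg (t - 1) ∧ φ x = 0) w ∧ kd' k w = z := by
  obtain ⟨u, hu, hdu⟩ := exists_free deg ⟨hz.1, fun s => (hz.2 s).1⟩ hd fun a => hmin _ (hz.2 ∅).2 a
  have hy : kd' k (fun s => φ (u s)) = 0 := by
    rw [kd_map, hdu]
    exact funext fun s => (hz.2 s).2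
  obtain ⟨v, hv, hdv⟩ := HN _ ⟨fun s hs => by rw [hu.1 s hs, map_zero],
    fun s => ⟨hφ _ _ (hu.2 s), LinearMap.mem_range_self φ _⟩⟩ hy
  choose v' hv' hφv' using fun s => hlift _ _ (hv.2 s).1 (hv.2 s).2
  classical
  let v'' : Finset (Fin m) → Fin n → S := fun s => if s.card = q + 2 then v' s else 0
  have hv'' : ∀ s, φ (v'' s) = v s := fun s => by
    by_cases h : s.card = q + 2
    · simp only [v'', if_pos h, hφv']
    · simp only [v'', if_neg h, map_zero, hv.1 s h]
  refine ⟨u - kd' k v'', ⟨fun s hs => ?_, fun s => ⟨sub_mem (hu.2 s) ?_, ?_⟩⟩, ?_⟩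
  · show u s - kd' k v'' s = 0
    rw [hu.1 s hs, kd_card (fun s' hs' => if_neg hs') s hs, sub_zero]
  · refine kd_mem (Fg_X deg) (t := t - 1) (fun s' => ?_) s
    simp only [v'']
    split
    · rw [show t - 1 - 1 = t - 2 by ring]; exact hv' s'
    · exact zero_mem _
  · show φ (u s - kd' k v'' s) = 0
    rw [map_sub, ← congrFun (kd_map φ v'') s, show (fun s => φ (v'' s)) = v from funext hv'', hdv, sub_self]
  · rw [kd_sub, hdu, kd_kd, sub_zero]

end Free

section Betti

variable {R : Type u} [AddCommGroup R] [Module k R] [Module (MvPolynomial (Fin m) k) R] [IsScalarTower k (MvPolynomial (Fin m) k) R]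
  {ℛ : ℤ → Submodule k R} [DirectSum.Decomposition ℛ] [SetLike.GradedSMul (GrSyz.stdGr k (Fin m)) ℛ]

variable (ℛ) in
/-- The pieces as additive subgroups. -/
def Rg (t : ℤ) : AddSubgroup R := (ℛ t).toAddSubgroup

theorem Rg_X (v : Fin m) (t : ℤ) (x : R) (hx : x ∈ Rg ℛ (t - 1)) : (X v : S) • x ∈ Rg ℛ t := by
  have : (X v : S) • x ∈ ℛ (1 + (t - 1)) := SetLike.GradedSMul.smul_mem (B := ℛ) (GrLib.X_mem_stdGr k m v) (show x ∈ ℛ (t - 1) from hx)
  rwa [show 1 + (t - 1) = t by ring] at this

/-- Tensors annihilated by every contraction. -/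
def W (i : ℕ) (f : (Fin i → Fin m) → R) : Prop :=
  ∀ (s : Fin i) (c : Fin i → Fin m), ∑ v : Fin m, (X v : S) • f (Function.update c s v) = 0

variable (ℛ) in
/-- Componentwise pieces. -/
def Tg (i : ℕ) (t : ℤ) : AddSubgroup ((Fin i → Fin m) → R) where
  carrier := {f | ∀ c, f c ∈ ℛ t}
  zero_mem' c := zero_mem _
  add_mem' hx hy c := add_mem (hx c) (hy c)
  neg_mem' hx c := neg_mem (hx c)

theorem Tg_X (i : ℕ) (v : Fin m) (t : ℤ) (x : (Fin i → Fin m) → R) (hx : x ∈ Tg ℛ i (t - 1)) :
    (X v : S) • x ∈ Tg ℛ i t := fun c => Rg_X v t _ (hx c)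

theorem W_zero (i : ℕ) : W (k := k) (m := m) i (0 : (Fin i → Fin m) → R) := fun s c => by simp

theorem W_proj {i : ℕ} {f : (Fin i → Fin m) → R} (hf : W (k := k) i f) (t : ℤ) :
    W (k := k) i (fun c => proj ℛ t (f c)) := fun s c => by
  have h := congrArg (proj ℛ (t + 1)) (hf s c)
  rw [map_sum, map_zero] at h
  rw [← h]
  refine Finset.sum_congr rfl fun v _ => ?_
  rw [proj_smul' (ℳ := ℛ) (GrLib.X_mem_stdGr k m v), add_sub_cancel_right]

/-- The component of a multiple of a homogeneous element. -/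
theorem proj_smul_hom {e : ℤ} {x : R} (hx : x ∈ ℛ e) (t : ℤ) (f : S) :
    proj ℛ t (f • x) = proj 𝔸 (t - e) f • x := by
  refine GrLib.induction 𝔸 (motive := fun f => proj ℛ t (f • x) = proj 𝔸 (t - e) f • x) ?_ ?_ ?_ f
  · simp
  · intro g f hf
    have hfx : f • x ∈ ℛ (g + e) := SetLike.GradedSMul.smul_mem hf hx
    by_cases hg : g = t - e
    · subst hg
      rw [sub_add_cancel] at hfx
      rw [proj_of_mem hf, proj_of_mem hfx]
    · rw [proj_of_mem_ne hf hg, proj_of_mem_ne hfx (by omega), zero_smul]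
  · intro a b ha hb
    simp only [add_smul, map_add, ha, hb]

/-- Homogeneous tensors of large degree are divisible. -/
theorem exists_div {i : ℕ} {T : ℤ} {G : Set ((Fin i → Fin m) → R)}
    (hG : ∀ g ∈ G, W (k := k) i g ∧ ∃ e, e ≤ T ∧ ∀ c, g c ∈ ℛ e)
    {f : (Fin i → Fin m) → R} (hf : f ∈ Submodule.span S G) {t : ℤ} (ht : T < t) :
    ∃ u : Fin m → (Fin i → Fin m) → R, (∀ v, W (k := k) i (u v) ∧ u v ∈ Tg ℛ i (t - 1)) ∧
      ∀ c, proj ℛ t (f c) = ∑ v, (X v : S) • u v c := by
  classical
  let P : ((Fin i → Fin m) → R) → Prop := fun f => W (k := k) i f ∧ ∀ t, T < t →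
    ∃ u : Fin m → (Fin i → Fin m) → R, (∀ v, W (k := k) i (u v) ∧ u v ∈ Tg ℛ i (t - 1)) ∧
      ∀ c, proj ℛ t (f c) = ∑ v, (X v : S) • u v c
  have h0 : P 0 := ⟨W_zero i, fun t _ => ⟨0, fun v => ⟨W_zero i, zero_mem _⟩, fun c => by simp⟩⟩
  have hadd : ∀ f g, P f → P g → P (f + g) := fun f g hf hg => ⟨fun s c => by
      simp only [Pi.add_apply, smul_add, Finset.sum_add_distrib, hf.1 s c, hg.1 s c, add_zero], fun t ht => by
      obtain ⟨u, hu, hu'⟩ := hf.2 t ht
      obtain ⟨w, hw, hw'⟩ := hg.2 t ht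
      refine ⟨u + w, fun v => ⟨fun s c => ?_, add_mem (hu v).2 (hw v).2⟩, fun c => ?_⟩
      · simp only [Pi.add_apply, smul_add, Finset.sum_add_distrib, (hu v).1 s c, (hw v).1 s c, add_zero]
      · simp only [Pi.add_apply, map_add, smul_add, Finset.sum_add_distrib, hu' c, hw' c]⟩
  suffices P f from this.2 t ht
  induction hf using Submodule.span_induction with
  | mem g hg =>
    obtain ⟨hW, e, he, hge⟩ := hG g hg
    exact ⟨hW, fun t ht => ⟨0, fun v => ⟨W_zero i, zero_mem _⟩, fun c => by
      rw [proj_of_mem_ne (hge c) (by omega)]; simp⟩⟩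
  | zero => exact h0
  | add f g _ _ hf hg => exact hadd f g hf hg
  | smul a g _ hg =>
    induction a using MvPolynomial.induction_on generalizing g with
    | C a =>
      refine ⟨fun s c => ?_, fun t ht => ?_⟩
      · simp only [Pi.smul_apply, smul_comm _ (C a : S), ← Finset.smul_sum, hg.1 s c, smul_zero]
      obtain ⟨u, hu, hu'⟩ := hg.2 t ht
      have ha : (C a : S) ∈ 𝔸 0 := (GrSyz.mem_stdGr_iff _ _ _ _).2 (isWeightedHomogeneous_C _ a)
      refine ⟨fun v => (C a : S) • u v, fun v => ⟨fun s c => ?_, fun c => ?_⟩, fun c => ?_⟩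
      · simp only [Pi.smul_apply, smul_comm _ (C a : S), ← Finset.smul_sum, (hu v).1 s c, smul_zero]
      · have : (C a : S) • u v c ∈ ℛ (0 + (t - 1)) := SetLike.GradedSMul.smul_mem ha ((hu v).2 c)
        rwa [zero_add] at this
      · simp only [Pi.smul_apply]
        rw [proj_smul' (ℳ := ℛ) ha, sub_zero, hu' c, Finset.smul_sum]
        exact Finset.sum_congr rfl fun v _ => smul_comm _ _ _
    | add p q hp hq => rw [add_smul]; exact hadd _ _ (hp g ‹_› hg) (hq g ‹_› hg)
    | mul_X p l hp =>
      have hg' := hp g ‹_› hg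
      rw [mul_comm, mul_smul]
      refine ⟨fun s c => ?_, fun t ht => ⟨fun v c => if v = l then proj ℛ (t - 1) ((p • g) c) else 0, fun v => ?_, fun c => ?_⟩⟩
      · simp only [Pi.smul_apply, smul_comm _ (X l : S), ← Finset.smul_sum]
        exact (congrArg ((X l : S) • ·) (hg'.1 s c)).trans (smul_zero _)
      · by_cases hv : v = l
        · simp only [if_pos hv]
          exact ⟨W_proj hg'.1 _, fun c => proj_mem ℛ _ _⟩
        · simp only [if_neg hv]
          exact ⟨W_zero i, zero_mem _⟩
      · simp only [Pi.smul_apply]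
        rw [proj_smul' (ℳ := ℛ) (GrLib.X_mem_stdGr k m l), Finset.sum_eq_single l (fun v _ hv => by
          rw [if_neg hv, smul_zero]) (fun h => absurd (Finset.mem_univ l) h), if_pos rfl]

/-- Koszul homology of `W i` vanishes in large degree, when the `W`'s are generated in low degree. -/
theorem vanish {p : ℕ} {T : ℤ}
    (hgen : ∀ i : ℕ, i ≤ p → ∀ f : (Fin i → Fin m) → R, W (k := k) i f →
      f ∈ Submodule.span S {g | W (k := k) i g ∧ ∃ e, e ≤ T ∧ ∀ c, g c ∈ ℛ e}) :
    ∀ q i : ℕ, i + q ≤ p → ∀ t, T < t → ∀ z : Finset (Fin m) → (Fin i → Fin m) → R,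
      Ch q (fun x => W (k := k) i x ∧ x ∈ Tg ℛ i t) z → kd' k z = 0 →
      ∃ y, Ch (q + 1) (fun x => W (k := k) i x ∧ x ∈ Tg ℛ i (t - 1)) y ∧ kd' k y = z := by
  classical
  intro q
  induction q using Nat.strong_induction_on with
  | _ q ih =>
  intro i hiq t ht z hz hd
  choose u₀ hu₀ hu₀' using fun s => exists_div (ℛ := ℛ) (fun g hg => hg) (hgen i (by omega) _ (hz.2 s).1) ht
  let u : Finset (Fin m) → Fin m → (Fin i → Fin m) → R := fun s v => if s.card = q then u₀ s v else 0
  have hu : ∀ s v, W (k := k) i (u s v) ∧ u s v ∈ Tg ℛ i (t - 1) := fun s v => by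
    by_cases h : s.card = q
    · simp only [u, if_pos h]; exact hu₀ s v
    · simp only [u, if_neg h]; exact ⟨W_zero i, zero_mem _⟩
  have hzu : ∀ s c, z s c = ∑ v, (X v : S) • u s v c := fun s c => by
    by_cases h : s.card = q
    · simp only [u, if_pos h]
      rw [← hu₀' s c, proj_of_mem ((hz.2 s).2 c)]
    · simp [u, if_neg h, hz.1 s h]
  let U : Finset (Fin m) → (Fin (i + 1) → Fin m) → R := fun s c => u s (c 0) (Fin.tail c)
  have hUd : ∀ s, W (k := k) (i + 1) (kd' k U s) := by
    intro s j c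
    refine Fin.cases ?_ (fun j' => ?_) j
    · have h := congrFun (congrFun hd s) (Fin.tail c)
      simp only [kd', Finset.sum_apply, Pi.smul_apply, Pi.zero_apply, hzu, Finset.smul_sum] at h
      simp only [kd', Finset.sum_apply, Pi.smul_apply, U, Function.update_self, Fin.tail_update_zero, Finset.smul_sum]
      rw [← h, Finset.sum_comm]
      refine Finset.sum_congr rfl fun w _ => Finset.sum_congr rfl fun v _ => ?_
      rw [smul_comm (X v : S) (sgn w s), smul_comm (X v : S) (X w : S)]
    · simp only [kd', Finset.sum_apply, Pi.smul_apply, U, Function.update_of_ne (Fin.succ_ne_zero j').symm,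
        Fin.tail_update_succ, Finset.smul_sum]
      rw [Finset.sum_comm]
      refine Finset.sum_eq_zero fun w _ => ?_
      rw [Finset.sum_congr rfl fun v _ => (by rw [smul_comm (X v : S) (sgn w s), smul_comm (X v : S) (X w : S)] :
        (X v : S) • sgn w s • (X w : S) • u (insert w s) (c 0) (Function.update (Fin.tail c) j' v) =
          sgn w s • (X w : S) • (X v : S) • u (insert w s) (c 0) (Function.update (Fin.tail c) j' v)),
        ← Finset.smul_sum, ← Finset.smul_sum, (hu (insert w s) (c 0)).1 j' (Fin.tail c), smul_zero, smul_zero]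
  obtain ⟨w, hw, hwd⟩ : ∃ w, Ch q (fun x => W (k := k) (i + 1) x ∧ x ∈ Tg ℛ (i + 1) (t - 1)) w ∧ kd' k w = kd' k U := by
    rcases q with _ | q
    · refine ⟨0, ⟨fun _ _ => rfl, fun _ => ⟨W_zero _, zero_mem _⟩⟩, ?_⟩
      rw [kd_zero, kd_eq_zero_of_card_zero fun s hs => _root_.funext fun c => by
        show u s (c 0) (Fin.tail c) = 0
        simp only [u, if_neg hs]
        rfl]
    · obtain ⟨w, hw, hwd⟩ := ih q (by omega) (i + 1) (by omega) t ht (kd' k U)
        ⟨kd_card fun s hs => _root_.funext fun c => by simp [U, u, hs], fun s => ⟨hUd s,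
          kd_mem (Tg_X (ℛ := ℛ) (i + 1)) (t := t) (z := U) (fun s' (c : Fin (i + 1) → Fin m) => (hu s' (c 0)).2 (Fin.tail c)) s⟩⟩ (kd_kd U)
      exact ⟨w, hw, hwd⟩
  -- the slots of `U - w` are cycles
  let sl : Fin m → ((Fin (i + 1) → Fin m) → R) →ₗ[S] ((Fin i → Fin m) → R) :=
    fun v => LinearMap.funLeft S R fun c => Fin.cons v c
  let y : Fin m → Finset (Fin m) → (Fin i → Fin m) → R := fun v s => sl v (U s - w s)
  have hyd : ∀ v, kd' k (y v) = 0 := fun v => by
    rw [show y v = fun s => sl v ((U - w) s) from rfl, kd_map, kd_sub, hwd, sub_self]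
    exact funext fun s => map_zero _
  have hyW : ∀ v s, W (k := k) i (y v s) ∧ y v s ∈ Tg ℛ i (t - 1) := fun v s => by
    refine ⟨fun j c => ?_, fun c => ?_⟩
    · simp only [y, sl, LinearMap.funLeft_apply, Pi.sub_apply, U, Fin.cons_zero, Fin.tail_cons, smul_sub,
        Finset.sum_sub_distrib, (hu s v).1 j c, zero_sub, neg_eq_zero]
      have h := (hw.2 s).1 j.succ (Fin.cons v c)
      simp only [← Fin.cons_update] at h
      exact h
    · simp only [y, sl, LinearMap.funLeft_apply, Pi.sub_apply, U, Fin.cons_zero, Fin.tail_cons]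
      exact sub_mem ((hu s v).2 c) ((hw.2 s).2 _)
  refine ⟨∑ v, kh v (y v), ⟨fun s hs => ?_, fun s => ?_⟩, ?_⟩
  · rw [Finset.sum_apply]
    refine Finset.sum_eq_zero fun v _ => kh_card v (fun s' hs' => ?_) s hs
    funext c
    simp [y, sl, LinearMap.funLeft_apply, U, u, hs', hw.1 s' hs']
  · rw [Finset.sum_apply]
    refine ⟨fun j c => ?_, sum_mem fun v _ => ?_⟩
    · simp only [Finset.sum_apply, Finset.smul_sum]
      rw [Finset.sum_comm]
      refine Finset.sum_eq_zero fun v _ => ?_
      unfold kh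
      split
      · simp only [Pi.smul_apply, smul_comm _ (sgn v (s.erase v)), ← Finset.smul_sum,
          (hyW v (s.erase v)).1 j c, smul_zero]
      · simp
    · unfold kh
      split
      · exact zsmul_mem (hyW v _).2 _
      · exact zero_mem _
  · rw [kd_sum]
    funext s c
    rw [Finset.sum_apply, Finset.sum_apply, hzu s c]
    have h0 : ∑ v, (X v : S) • w s (Fin.cons v c) = 0 := by
      rcases isEmpty_or_nonempty (Fin m) with he | ⟨⟨d⟩⟩
      · exact Finset.sum_eq_zero fun v _ => isEmptyElim v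
      · have h := (hw.2 s).1 0 (Fin.cons d c)
        simpa [Fin.update_cons_zero] using h
    have h1 : ∀ v, kd' k (kh v (y v)) s = (X v : S) • y v s := fun v => by
      have h2 : kh v (0 : Finset (Fin m) → (Fin i → Fin m) → R) s = 0 := by
        unfold kh; split <;> simp
      rw [← kd_kh (k := k) v (y v) s, hyd v, h2, add_zero]
    simp only [h1, y, sl, Pi.smul_apply, LinearMap.funLeft_apply, Pi.sub_apply, U, Fin.cons_zero, Fin.tail_cons,
      smul_sub, Finset.sum_sub_distrib, h0, sub_zero]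

variable [Module.Finite (MvPolynomial (Fin m) k) R]

/-- Betti numbers vanish when the tensors are generated in low degree. -/
theorem betti_eq_zero {p : ℕ} {j : ℤ}
    (hgen : ∀ i : ℕ, i ≤ p → ∀ f : (Fin i → Fin m) → R, W (k := k) i f →
      f ∈ Submodule.span S {g | W (k := k) i g ∧ ∃ e, e ≤ j - (p : ℤ) - 1 ∧ ∀ c, g c ∈ ℛ e})
    (F : GrSyz.FreeRes (GrSyz.stdGr k (Fin m)) ℛ)
    (hF : F.IsMinimal (GrSyz.irrel (GrSyz.stdGr k (Fin m))).toIdeal) : F.betti p j = 0 := by
  classical
  have hmin0 : ∀ (i : ℕ) (f : Fin (F.rk i) → S), f ∈ LinearMap.range (Matrix.mulVecLin (F.d i)) →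
      ∀ a, constantCoeff (f a) = 0 := by
    rintro i _ ⟨g, rfl⟩ a
    simp only [Matrix.mulVecLin_apply, Matrix.mulVec, dotProduct, map_sum, map_mul]
    exact Finset.sum_eq_zero fun b _ => by rw [GrMinimal.constantCoeff_irrel k m _ (hF i a b), zero_mul]
  -- vanishing for `R`
  have hR : ∀ z : Finset (Fin m) → R, Ch p (· ∈ Rg ℛ (j - p)) z → kd' k z = 0 →
      ∃ y, Ch (p + 1) (· ∈ Rg ℛ (j - p - 1)) y ∧ kd' k y = z := by
    intro z hz hd
    let ev : ((Fin 0 → Fin m) → R) →ₗ[S] R := LinearMap.proj Fin.elim0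
    let di : R →ₗ[S] ((Fin 0 → Fin m) → R) := LinearMap.pi fun _ => LinearMap.id
    obtain ⟨y, hy, hyd⟩ := vanish (ℛ := ℛ) hgen p 0 (by omega) (j - p) (by omega) (fun s => di (z s))
      ⟨fun s hs => by show di (z s) = 0; rw [hz.1 s hs, map_zero], fun s => ⟨fun a => a.elim0, fun c => hz.2 s⟩⟩
      (by rw [kd_map, hd]; exact funext fun s => map_zero di)
    refine ⟨fun s => ev (y s), ⟨fun s hs => by show ev (y s) = 0; rw [hy.1 s hs, map_zero], fun s => (hy.2 s).2 _⟩, ?_⟩
    rw [kd_map, hyd]
    rfl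
  by_contra hne
  obtain ⟨b, hb⟩ := Finset.card_pos.1 (Nat.pos_of_ne_zero hne)
  rw [Finset.mem_filter] at hb
  -- the augmentation and its degree properties
  let aug := Fintype.linearCombination S F.aug
  have haug : ∀ (t : ℤ) (f : Fin (F.rk 0) → S), f ∈ Fg (k := k) (F.deg 0) t → aug f ∈ Rg ℛ t := fun t f hf => by
    simp only [aug, Fintype.linearCombination_apply]
    refine sum_mem fun a _ => ?_
    have : f a • F.aug a ∈ ℛ (t - F.deg 0 a + F.deg 0 a) := SetLike.GradedSMul.smul_mem (hf a) (F.aug_mem a)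
    rwa [sub_add_cancel] at this
  have hlift0 : ∀ (t : ℤ) (y : R), y ∈ Rg ℛ t → y ∈ LinearMap.range aug →
      ∃ f ∈ Fg (k := k) (F.deg 0) t, aug f = y := by
    rintro t _ hy ⟨g, rfl⟩
    refine ⟨fun a => proj 𝔸 (t - F.deg 0 a) (g a), fun a => proj_mem 𝔸 _ _, ?_⟩
    conv_rhs => rw [← proj_of_mem (ℳ := ℛ) hy]
    simp only [aug, Fintype.linearCombination_apply, map_sum]
    exact Finset.sum_congr rfl fun a _ => (proj_smul_hom (F.aug_mem a) t (g a)).symm
  have hdeg : ∀ (i : ℕ) (t : ℤ) (f : Fin (F.rk (i + 1)) → S), f ∈ Fg (k := k) (F.deg (i + 1)) t →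
      Matrix.mulVecLin (F.d i) f ∈ Fg (k := k) (F.deg i) t := fun i t f hf a => by
    simp only [Matrix.mulVecLin_apply, Matrix.mulVec, dotProduct]
    refine sum_mem fun c _ => ?_
    have := SetLike.GradedMul.mul_mem (F.d_mem i a c) (hf c)
    rwa [show F.deg (i + 1) c - F.deg i a + (t - F.deg (i + 1) c) = t - F.deg i a by ring] at this
  have hliftS : ∀ (i : ℕ) (t : ℤ) (y : Fin (F.rk i) → S), y ∈ Fg (k := k) (F.deg i) t →
      y ∈ LinearMap.range (Matrix.mulVecLin (F.d i)) →
      ∃ f ∈ Fg (k := k) (F.deg (i + 1)) t, Matrix.mulVecLin (F.d i) f = y := by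
    rintro i t _ hy ⟨g, rfl⟩
    refine ⟨fun c => proj 𝔸 (t - F.deg (i + 1) c) (g c), fun c => proj_mem 𝔸 _ _, funext fun a => ?_⟩
    conv_rhs => rw [← proj_of_mem (ℳ := 𝔸) (hy a)]
    simp only [Matrix.mulVecLin_apply, Matrix.mulVec, dotProduct, map_sum]
    refine Finset.sum_congr rfl fun c _ => ?_
    rw [← smul_eq_mul, ← smul_eq_mul, proj_smul' (ℳ := 𝔸) (F.d_mem i a c),
      show t - F.deg i a - (F.deg (i + 1) c - F.deg i a) = t - F.deg (i + 1) c by ring]
  -- dimension shifting
  have key : ∀ i q : ℕ, q + i + 1 = p → ∀ t : ℤ, t = j - p + 1 + i → ∀ z : Finset (Fin m) → Fin (F.rk i) → S,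
      Ch q (fun x => x ∈ Fg (k := k) (F.deg i) t ∧ x ∈ LinearMap.range (Matrix.mulVecLin (F.d i))) z → kd' k z = 0 →
      ∃ w, Ch (q + 1) (fun x => x ∈ Fg (k := k) (F.deg i) (t - 1) ∧ x ∈ LinearMap.range (Matrix.mulVecLin (F.d i))) w ∧
        kd' k w = z := by
    intro i
    induction i with
    | zero =>
      intro q hq t ht z hz hd
      have hker : ∀ x, aug x = 0 ↔ x ∈ LinearMap.range (Matrix.mulVecLin (F.d 0)) := fun x => by
        rw [← F.exact_zero]; rfl
      simp only [← hker] at hz ⊢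
      refine step (F.deg 0) (Rg ℛ) aug haug hlift0 (fun f hf => hmin0 0 f ((hker f).1 hf)) q t (fun y hy hyd => ?_) z hz hd
      obtain rfl : q + 1 = p := hq
      obtain ⟨v, hv, hvd⟩ := hR y ⟨hy.1, fun s => by
        have := (hy.2 s).1
        rwa [ht, show j - ((q + 1 : ℕ) : ℤ) + 1 + ((0 : ℕ) : ℤ) - 1 = j - ((q + 1 : ℕ) : ℤ) by push_cast; ring] at this⟩ hyd
      refine ⟨v, ⟨hv.1, fun s => ⟨?_, F.aug_surjective (v s)⟩⟩, hvd⟩
      have := hv.2 s
      rwa [ht, show j - ((q + 1 : ℕ) : ℤ) + 1 + ((0 : ℕ) : ℤ) - 2 = j - ((q + 1 : ℕ) : ℤ) - 1 by push_cast; ring]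
    | succ i ih =>
      intro q hq t ht z hz hd
      have hker : ∀ x, Matrix.mulVecLin (F.d i) x = 0 ↔ x ∈ LinearMap.range (Matrix.mulVecLin (F.d (i + 1))) :=
        fun x => by rw [← F.exact_succ i]; rfl
      simp only [← hker] at hz ⊢
      refine step (F.deg (i + 1)) (Fg (k := k) (F.deg i)) _ (hdeg i) (hliftS i)
        (fun f hf => hmin0 (i + 1) f ((hker f).1 hf)) q t (fun y hy hyd => ?_) z hz hd
      have := ih (q + 1) (by omega) (t - 1) (by rw [ht]; push_cast; ring) y hy hyd
      rwa [show t - 1 - 1 = t - 2 by ring] at this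
  rcases p with _ | i
  · -- degree zero
    obtain ⟨y, hy, hyd⟩ := hR (fun s => if s = ∅ then F.aug b else 0)
      ⟨fun s hs => if_neg fun e => hs (by simp [e]), fun s => by
        show (if s = ∅ then F.aug b else 0) ∈ _
        split
        · have := F.aug_mem b; rw [hb.2] at this; simpa [Rg] using this
        · exact zero_mem _⟩ (kd_eq_zero_of_card_zero fun s hs => if_neg fun e => hs (by simp [e]))
    choose g hg using fun s => F.aug_surjective (y s)
    have h1 : aug (Pi.single b 1 - ∑ v, (X v : S) • g {v}) = 0 := by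
      have h := congrFun hyd ∅
      simp only [kd', Finset.compl_empty, if_pos] at h
      rw [map_sub, map_sum, sub_eq_zero]
      refine (Fintype.linearCombination_apply_single _ _ b 1).trans ?_
      rw [one_smul, ← h]
      refine Finset.sum_congr rfl fun v _ => ?_
      simp [sgn, map_smul, aug, hg]
    have h2 := hmin0 0 _ (by rw [← F.exact_zero]; exact h1) b
    simp [Finset.sum_apply] at h2
  · -- positive degree
    obtain ⟨w, hw, hwd⟩ := key i 0 (by omega) j (by push_cast; ring)
      (fun s => if s = ∅ then Matrix.mulVecLin (F.d i) (Pi.single b 1) else 0)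
      ⟨fun s hs => if_neg fun e => hs (by simp [e]), fun s => by
        show (if s = ∅ then _ else _) ∈ _ ∧ (if s = ∅ then _ else _) ∈ _
        split
        · refine ⟨hdeg i j _ fun c => ?_, LinearMap.mem_range_self _ _⟩
          by_cases hc : c = b
          · subst hc
            rw [Pi.single_eq_same, hb.2, sub_self]
            exact SetLike.GradedOne.one_mem
          · rw [Pi.single_eq_of_ne hc]; exact zero_mem _
        · exact ⟨zero_mem _, zero_mem _⟩⟩ (kd_eq_zero_of_card_zero fun s hs => if_neg fun e => hs (by simp [e]))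
    choose g hg using fun s => (hw.2 s).2
    have h1 : Matrix.mulVecLin (F.d i) (Pi.single b 1 - ∑ v, (X v : S) • g {v}) = 0 := by
      have h := congrFun hwd ∅
      simp only [kd', Finset.compl_empty, if_pos] at h
      rw [map_sub, map_sum, sub_eq_zero, ← h]
      refine Finset.sum_congr rfl fun v _ => ?_
      rw [map_smul, hg]
      simp [sgn]
    have h2 := hmin0 (i + 1) _ (by rw [← F.exact_succ i]; exact h1) b
    simp [Finset.sum_apply] at h2

end Betti

end Groth.Agent.CAlgH3.KoszulBetti
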