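import Mathlib.RingTheory.Valuation.ValuationSubring
import Mathlib.RingTheory.DiscreteValuationRing.Basic

/-! Intersections of finite-character families of discrete valuation subrings of a field. -/

universe u

namespace Groth.Agent.CAlgH3.KrullFamily

variable {K : Type u} [Field K]

/-- A discrete valuation ring has value group of rank one. -/
theorem exists_pow_mul_eq_one (W : ValuationSubring K) [IsDiscreteValuationRing W] {y t : K}
    (hy : 1 < W.valuation y) (ht : W.valuation t < 1) (ht0 : t ≠ 0) :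
    ∃ i j : ℕ, 0 < i ∧ 0 < j ∧ W.valuation y ^ i * W.valuation t ^ j = 1 := by
  obtain ⟨ϖ, hϖ⟩ := IsDiscreteValuationRing.exists_irreducible W
  have key : ∀ x : K, x ≠ 0 → W.valuation x < 1 → ∃ a : ℕ, 0 < a ∧ W.valuation x = W.valuation (ϖ : K) ^ a := by
    intro x hx hlt
    let x' : W := ⟨x, (W.valuation_le_one_iff x).1 hlt.le⟩
    have hx' : x' ≠ 0 := fun h => hx (congrArg Subtype.val h)
    obtain ⟨a, w, hw⟩ := IsDiscreteValuationRing.eq_unit_mul_pow_irreducible hx' hϖ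
    have hv : W.valuation x = W.valuation (ϖ : K) ^ a := by
      have := congrArg (fun z : W => W.valuation (z : K)) hw
      simpa [x', (W.valuation_eq_one_iff (w : W)).1 w.isUnit] using this
    refine ⟨a, Nat.pos_of_ne_zero fun h => hlt.ne ?_, hv⟩
    rw [hv, h, pow_zero]
  have hy0 : y ≠ 0 := fun h => by simp [h] at hy
  obtain ⟨a, ha, hva⟩ := key y⁻¹ (inv_ne_zero hy0) (by rw [map_inv₀]; exact inv_lt_one_of_one_lt₀ hy)
  obtain ⟨b, hb, hvb⟩ := key t ht0 ht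
  refine ⟨b, a, hb, ha, ?_⟩
  rw [map_inv₀, inv_eq_iff_eq_inv] at hva
  rw [hva, hvb, inv_pow, ← pow_mul, ← pow_mul, mul_comm b a, inv_mul_cancel₀]
  exact pow_ne_zero _ ((Valuation.ne_zero_iff _).2 fun h => hϖ.ne_zero (Subtype.ext h))

variable (R : Subring K) (𝒲 : Set (ValuationSubring K))

/-- A family cutting out `R`. -/
structure IsFamily : Prop where
  mem_iff : ∀ x, x ∈ R ↔ ∀ W ∈ 𝒲, x ∈ W
  finite : ∀ x, {W ∈ 𝒲 | x ∉ W}.Finite
  dvr : ∀ W ∈ 𝒲, IsDiscreteValuationRing W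
  center : ∀ W ∈ 𝒲, ∃ t ∈ R, t ≠ 0 ∧ W.valuation t < 1

/-- `W` is the localisation of `R` at its centre. -/
def Essential (W : ValuationSubring K) : Prop :=
  ∀ z ∈ W, ∃ s ∈ R, W.valuation s = 1 ∧ s * z ∈ R

variable {R 𝒲}

theorem IsFamily.le (h : IsFamily R 𝒲) {W : ValuationSubring K} (hW : W ∈ 𝒲) {x : K} (hx : x ∈ R) :
    W.valuation x ≤ 1 :=
  (W.valuation_le_one_iff x).2 ((h.mem_iff x).1 hx W hW)

/-- If `x ∈ W` for every member on which all of `S` are units, some element of `S` moves `x` into `R`. -/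
theorem IsFamily.exists_mul_mem (h : IsFamily R 𝒲) {S : Submonoid K} (hS : ∀ s ∈ S, s ∈ R) (hS0 : (0 : K) ∉ S) {x : K}
    (hx : ∀ W ∈ 𝒲, (∀ s ∈ S, W.valuation s = 1) → x ∈ W) : ∃ s ∈ S, s * x ∈ R := by
  classical
  have key : ∀ W ∈ {W ∈ 𝒲 | x ∉ W}, ∃ e ∈ S, e * x ∈ W := by
    rintro W ⟨hW, hxW⟩
    obtain ⟨s, hs, hs1⟩ : ∃ s ∈ S, W.valuation s < 1 := by
      by_contra! hh
      exact hxW (hx W hW fun s hs => le_antisymm (h.le hW (hS s hs)) (hh s hs))
    have := h.dvr W hW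
    have hvx : 1 < W.valuation x := not_le.1 fun hle => hxW ((W.valuation_le_one_iff x).1 hle)
    obtain ⟨i, j, hi, -, hij⟩ := exists_pow_mul_eq_one W hvx hs1 (fun e => hS0 (e ▸ hs))
    refine ⟨s ^ j, pow_mem hs j, (W.valuation_le_one_iff _).1 ?_⟩
    rw [map_mul, map_pow, mul_comm, ← hij]
    gcongr
    exact le_self_pow₀ hvx.le hi.ne'
  choose! e he hex using key
  let F := (h.finite x).toFinset
  refine ⟨∏ W ∈ F, e W, prod_mem fun W hW => he W ((h.finite x).mem_toFinset.1 hW), (h.mem_iff _).2 fun W hW => ?_⟩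
  rw [← W.valuation_le_one_iff, map_mul, map_prod]
  by_cases hxW : x ∈ W
  · exact mul_le_one' (Finset.prod_le_one' fun W' hW' => h.le hW (hS _ (he W' ((h.finite x).mem_toFinset.1 hW'))))
      ((W.valuation_le_one_iff x).2 hxW)
  · have hWF : W ∈ F := (h.finite x).mem_toFinset.2 ⟨hW, hxW⟩
    rw [← Finset.mul_prod_erase F _ hWF, mul_right_comm]
    refine mul_le_one' ?_ (Finset.prod_le_one' fun W' hW' =>
      h.le hW (hS _ (he W' ((h.finite x).mem_toFinset.1 (Finset.mem_of_mem_erase hW')))))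
    rw [← map_mul]
    exact (W.valuation_le_one_iff _).2 (hex W ⟨hW, hxW⟩)

/-- An irredundant member is the localisation of `R` at its centre. -/
theorem IsFamily.essential_of_irredundant (h : IsFamily R 𝒲) {W : ValuationSubring K} (hW : W ∈ 𝒲)
    {y : K} (hy : y ∉ W) (hy' : ∀ W' ∈ 𝒲, W' ≠ W → y ∈ W') : Essential R W := by
  intro z hz
  let S : Submonoid K :=
    { carrier := {s | s ∈ R ∧ W.valuation s = 1}
      one_mem' := ⟨R.one_mem, map_one _⟩
      mul_mem' := fun ha hb => ⟨R.mul_mem ha.1 hb.1, by rw [map_mul, ha.2, hb.2, mul_one]⟩ }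
  have h0 : (0 : K) ∉ S := fun h => by simpa using h.2
  obtain ⟨s, hs, hsz⟩ := h.exists_mul_mem (S := S) (fun s hs => hs.1) h0 (x := z) (fun W' hW' hall => by
    by_contra hzW'
    have hne : W' ≠ W := fun e => hzW' (e ▸ hz)
    obtain ⟨t, htR, ht0, ht⟩ := h.center W' hW'
    rcases eq_or_lt_of_le (h.le hW htR) with h1 | h1
    · exact ht.ne (hall t ⟨htR, h1⟩)
    · have := h.dvr W hW
      obtain ⟨i, j, -, hj, hij⟩ := exists_pow_mul_eq_one W (not_le.1 fun hle => hy ((W.valuation_le_one_iff y).1 hle)) h1 ht0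
      have heW : W.valuation (y ^ i * t ^ j) = 1 := by rw [map_mul, map_pow, map_pow, hij]
      have heR : y ^ i * t ^ j ∈ R := (h.mem_iff _).2 fun W'' hW'' => by
        by_cases he : W'' = W
        · exact he ▸ (W.valuation_le_one_iff _).1 heW.le
        · exact W''.toSubring.mul_mem (W''.toSubring.pow_mem (hy' W'' hW'' he) i) (W''.toSubring.pow_mem ((h.mem_iff t).1 htR W'' hW'') j)
      refine absurd (hall _ ⟨heR, heW⟩) (ne_of_lt ?_)
      rw [map_mul, map_pow, map_pow]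
      exact lt_of_le_of_lt (mul_le_of_le_one_left' (pow_le_one' ((W'.valuation_le_one_iff y).2 (hy' W' hW' hne)) i))
        (pow_lt_one₀ zero_le ht hj.ne'))
  exact ⟨s, hs.1, hs.2, hsz⟩

/-- Every element outside `R` is excluded by an essential member. -/
theorem IsFamily.exists_essential (h : IsFamily R 𝒲) {x : K} (hx : x ∉ R) :
    ∃ W ∈ 𝒲, x ∉ W ∧ Essential R W := by
  classical
  let F := {W ∈ 𝒲 | x ∉ W}
  let Good : Set (ValuationSubring K) → Prop := fun G => G ⊆ F ∧ ∀ y, (∀ W ∈ (𝒲 \ F) ∪ G, y ∈ W) → y ∈ R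
  have hgoodF : Good F := ⟨subset_rfl, fun y hy => (h.mem_iff y).2 fun W hW =>
    hy W (if hWF : W ∈ F then Or.inr hWF else Or.inl ⟨hW, hWF⟩)⟩
  obtain ⟨G, hG⟩ : ∃ G, Minimal Good G :=
    Set.Finite.exists_minimal (s := {G | Good G}) ((h.finite x).finite_subsets.subset fun G hG => hG.1) ⟨F, hgoodF⟩
  obtain ⟨⟨hGF, hGR⟩, hmin⟩ := hG
  obtain ⟨W, hW⟩ : G.Nonempty := by
    by_contra hne
    refine hx (hGR x fun W hW => ?_)
    rcases hW with ⟨hW, hWF⟩ | hW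
    · by_contra hh; exact hWF ⟨hW, hh⟩
    · exact absurd ⟨W, hW⟩ hne
  have h' : IsFamily R ((𝒲 \ F) ∪ G) := by
    have hsub : (𝒲 \ F) ∪ G ⊆ 𝒲 := Set.union_subset Set.sdiff_subset fun W hW => (hGF hW).1
    exact ⟨fun y => ⟨fun hy W hW => (h.mem_iff y).1 hy W (hsub hW), hGR y⟩,
      fun y => (h.finite y).subset fun W hW => ⟨hsub hW.1, hW.2⟩, fun W hW => h.dvr W (hsub hW),
      fun W hW => h.center W (hsub hW)⟩
  obtain ⟨y, hy, hyR⟩ : ∃ y, (∀ W' ∈ (𝒲 \ F) ∪ (G \ {W}), y ∈ W') ∧ y ∉ R := by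
    by_contra! hh
    exact (hmin (y := G \ {W}) ⟨Set.sdiff_subset.trans hGF, hh⟩ Set.sdiff_subset hW).2 rfl
  have hne : ∀ W' ∈ (𝒲 \ F) ∪ G, W' ≠ W → y ∈ W' := fun W' hW' hne =>
    hy W' (hW'.imp id fun hh => ⟨hh, hne⟩)
  refine ⟨W, (hGF hW).1, (hGF hW).2, h'.essential_of_irredundant (Or.inr hW) (fun hyW => hyR (hGR y fun W' hW' => ?_)) hne⟩
  by_cases he : W' = W
  · exact he ▸ hyW
  · exact hne W' hW' he

/-- The centre of an essential discrete member has height one. -/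
theorem Essential.mem_of_prime {W : ValuationSubring K} [IsDiscreteValuationRing W] (he : Essential R W)
    {P : Ideal R} [hP : P.IsPrime] (hPW : ∀ r ∈ P, W.valuation (r : K) < 1)
    {t : R} (ht : t ∈ P) (ht0 : (t : K) ≠ 0) {u : R} (hu : W.valuation (u : K) < 1) : u ∈ P := by
  by_cases hu0 : (u : K) = 0
  · have h : u = 0 := Subtype.ext hu0
    rw [h]; exact P.zero_mem
  have htm := hPW t ht
  obtain ⟨i, j, hi, -, hij⟩ := exists_pow_mul_eq_one W (y := (t : K)⁻¹) (t := (u : K))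
    (by rw [map_inv₀]; exact (one_lt_inv₀ (zero_lt_iff.2 ((Valuation.ne_zero_iff _).2 ht0))).2 htm) hu hu0
  have hw : W.valuation ((t : K)⁻¹ ^ i * (u : K) ^ j) = 1 := by rw [map_mul, map_pow, map_pow, hij]
  obtain ⟨s, hsR, hs, hsw⟩ := he _ ((W.valuation_le_one_iff _).1 hw.le)
  have hmem : (⟨s, hsR⟩ : R) * u ^ j ∈ P := by
    have : (⟨s, hsR⟩ : R) * u ^ j = t ^ i * ⟨_, hsw⟩ := by
      apply Subtype.ext
      simp only [Subring.coe_mul, SubmonoidClass.coe_pow, inv_pow]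
      field_simp
    rw [this]
    exact P.mul_mem_right _ (P.pow_mem_of_mem ht i hi)
  rcases hP.mem_or_mem hmem with h | h
  · exact absurd hs (hPW _ h).ne
  · exact hP.mem_of_pow_mem j h

/-- A finite family of discrete members with one common centre localises to a single member. -/
theorem IsFamily.exists_eq (h : IsFamily R 𝒲) {S : Submonoid K} (hS : ∀ s ∈ S, s ∈ R) (hS0 : (0 : K) ∉ S)
    (hne : ∃ W ∈ 𝒲, ∀ s ∈ S, W.valuation s = 1)
    (hcen : ∀ W ∈ 𝒲, (∀ s ∈ S, W.valuation s = 1) → ∀ W' ∈ 𝒲, (∀ s ∈ S, W'.valuation s = 1) →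
      ∀ r ∈ R, W.valuation r = 1 → W'.valuation r = 1) :
    ∃ W ∈ 𝒲, (∀ s ∈ S, W.valuation s = 1) ∧ ∀ x, x ∈ W ↔ ∃ s ∈ S, s * x ∈ R := by
  classical
  let 𝒱 := {W ∈ 𝒲 | ∀ s ∈ S, W.valuation s = 1}
  have hfwd : ∀ W ∈ 𝒱, ∀ x, (∃ s ∈ S, s * x ∈ R) → x ∈ W := by
    rintro W ⟨hW, hs1⟩ x ⟨s, hs, hsx⟩
    have := h.le hW hsx
    rw [map_mul, hs1 s hs, one_mul] at this
    exact (W.valuation_le_one_iff x).1 this
  let T : Subring K := ⨅ W : 𝒱, W.1.toSubring
  have hT : ∀ x, x ∈ T ↔ ∀ W ∈ 𝒱, x ∈ W := fun x => by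
    simp [T, Subring.mem_iInf]
  have hfam : IsFamily T 𝒱 := ⟨hT, fun x => (h.finite x).subset fun W hW => ⟨hW.1.1, hW.2⟩,
    fun W hW => h.dvr W hW.1, fun W hW => (h.center W hW.1).imp fun t ht => ⟨(hT t).2 fun W' hW' => (h.mem_iff t).1 ht.1 W' hW'.1, ht.2⟩⟩
  -- all essential members agree
  have hT' : ∀ x ∈ T, ∃ s ∈ S, s * x ∈ R := fun x hx =>
    h.exists_mul_mem hS hS0 fun W hW hs => (hT x).1 hx W ⟨hW, hs⟩
  have hsub : ∀ W ∈ 𝒱, Essential T W → ∀ W' ∈ 𝒱, ∀ z ∈ W, z ∈ W' := by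
    intro W hW he W' hW' z hz
    obtain ⟨s, hsT, hs, hsz⟩ := he z hz
    obtain ⟨a, ha, har⟩ := hT' s hsT
    have h1 : W'.valuation (a * s) = 1 := hcen W hW.1 hW.2 W' hW'.1 hW'.2 _ har (by rw [map_mul, hW.2 a ha, hs, one_mul])
    rw [map_mul, hW'.2 a ha, one_mul] at h1
    have h2 := hfam.le hW' hsz
    rw [map_mul, h1, one_mul] at h2
    exact (W'.valuation_le_one_iff z).1 h2
  obtain ⟨W₀, hW₀, hs₀⟩ := hne
  obtain ⟨t, htR, ht0, ht⟩ := h.center W₀ hW₀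
  have : t⁻¹ ∉ T := fun hh => by
    have := hfam.le (⟨hW₀, hs₀⟩ : W₀ ∈ 𝒱) hh
    rw [map_inv₀] at this
    exact absurd this (not_le.2 ((one_lt_inv₀ (zero_lt_iff.2 ((Valuation.ne_zero_iff _).2 ht0))).2 ht))
  obtain ⟨W, hW, -, he⟩ := hfam.exists_essential this
  refine ⟨W, hW.1, hW.2, fun x => ⟨fun hx => hT' x ((hT x).2 fun W' hW' => hsub W hW he W' hW' x hx), hfwd W hW x⟩⟩

end Groth.Agent.CAlgH3.KrullFamily
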