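import Groth.Agent.CAlgH3.QuotientLocal
import Mathlib.RingTheory.AdjoinRoot
import Mathlib.FieldTheory.Separable
import Mathlib.RingTheory.Ideal.GoingDown
import Mathlib.RingTheory.Ideal.KrullsHeightTheorem
import Mathlib.RingTheory.LocalRing.ResidueField.Ideal

/-! Regularity of simple finite extensions `A[X]/(h)`. -/

universe u

open IsLocalRing Polynomial

namespace Groth.Agent.CAlgH3

variable {A : Type u} [CommRing A]

/-- If `t ∈ P` is regular and `R/(t)` is a regular ring then `R_P` is regular. -/
theorem isRegularLocalRing_of_regular_quotient {R : Type u} [CommRing R] [IsNoetherianRing R] {t : R}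
    [IsRegularRing (R ⧸ Ideal.span {t})] {P : Ideal R} [P.IsPrime] (htP : Ideal.span {t} ≤ P)
    (hreg : IsSMulRegular R t) : IsRegularLocalRing (Localization.AtPrime P) := by
  let q : Ideal (R ⧸ Ideal.span {t}) := P.map (Ideal.Quotient.mk _)
  have hle : RingHom.ker (Ideal.Quotient.mk (Ideal.span {t})) ≤ P := by rw [Ideal.mk_ker]; exact htP
  have hqp : q.IsPrime := Ideal.map_isPrime_of_surjective Ideal.Quotient.mk_surjective hle
  have hq : q.comap (Ideal.Quotient.mk (Ideal.span {t})) = P := by
    rw [Ideal.comap_map_of_surjective _ Ideal.Quotient.mk_surjective, ← RingHom.ker_eq_comap_bot, sup_eq_left]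
    exact hle
  exact aux q hq htP hreg
where
  aux {R : Type u} [CommRing R] [IsNoetherianRing R] {t : R} [IsRegularRing (R ⧸ Ideal.span {t})] {P : Ideal R} [P.IsPrime]
      (q : Ideal (R ⧸ Ideal.span {t})) [q.IsPrime] (hq : q.comap (Ideal.Quotient.mk (Ideal.span {t})) = P)
      (htP : Ideal.span {t} ≤ P) (hreg : IsSMulRegular R t) : IsRegularLocalRing (Localization.AtPrime P) := by
    subst hq
    let L := Localization.AtPrime (q.comap (Ideal.Quotient.mk (Ideal.span {t})))
    obtain ⟨e, -⟩ := exists_quotientLocalEquiv (Ideal.span {t}) q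
    have : IsNoetherianRing L := IsLocalization.isNoetherianRing (q.comap (Ideal.Quotient.mk (Ideal.span {t}))).primeCompl L inferInstance
    have hmapt : (Ideal.span {t}).map (algebraMap R L) = Ideal.span {algebraMap R L t} := by
      rw [Ideal.map_span, Set.image_singleton]
    have htm : algebraMap R L t ∈ maximalIdeal L :=
      (IsLocalization.AtPrime.to_map_mem_maximal_iff L (q.comap (Ideal.Quotient.mk (Ideal.span {t}))) _).2
        (htP (Ideal.mem_span_singleton_self t))
    have : IsRegularLocalRing (Localization.AtPrime q) := inferInstance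
    have : IsRegularLocalRing (L ⧸ Ideal.span {algebraMap R L t}) :=
      IsRegularLocalRing.of_ringEquiv ((Ideal.quotEquivOfEq hmapt.symm).trans e).symm
    exact isRegularLocalRing_of_quotient htm
      (hreg.of_isLocalizedModule L (q.comap (Ideal.Quotient.mk (Ideal.span {t}))).primeCompl (Algebra.linearMap R L))

/-- At a prime where `h` is separable, `A[X]/(h)` is unramified. -/
theorem maximalIdeal_eq_map_of_separable (h : A[X]) (P : Ideal (AdjoinRoot h)) [P.IsPrime]
    (hsep : (h.map (algebraMap A (P.comap (AdjoinRoot.of h)).ResidueField)).Separable) :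
    maximalIdeal (Localization.AtPrime P) =
      (P.comap (AdjoinRoot.of h)).map ((algebraMap (AdjoinRoot h) (Localization.AtPrime P)).comp (AdjoinRoot.of h)) := by
  set p := P.comap (AdjoinRoot.of h) with hp
  let L := Localization.AtPrime P
  let f : A →+* L := (algebraMap (AdjoinRoot h) L).comp (AdjoinRoot.of h)
  have hle : p.map f ≤ maximalIdeal L := by
    refine Ideal.map_le_iff_le_comap.2 fun a ha => ?_
    exact (IsLocalization.AtPrime.to_map_mem_maximal_iff L P _).2 ha
  refine le_antisymm ?_ hle
  let F := L ⧸ p.map f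
  have : Nontrivial F := Ideal.Quotient.nontrivial_iff.2 (ne_top_of_le_ne_top (maximalIdeal.isMaximal L).ne_top hle)
  have : IsLocalRing F := isLocalRing_quotient hle
  let fF : A →+* F := (Ideal.Quotient.mk _).comp f
  have hf1 : p ≤ RingHom.ker fF := fun a ha =>
    Ideal.Quotient.eq_zero_iff_mem.2 (Ideal.mem_map_of_mem f ha)
  have hf2 : p.primeCompl ≤ (IsUnit.submonoid F).comap fF := fun a ha =>
    show IsUnit (fF a) from
      (IsLocalization.map_units L (⟨AdjoinRoot.of h a, ha⟩ : P.primeCompl)).map (Ideal.Quotient.mk (p.map f))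
  let ψ := Ideal.ResidueField.lift p fF hf1 hf2
  let t : F := Ideal.Quotient.mk _ (algebraMap (AdjoinRoot h) L (AdjoinRoot.root h))
  let Φ : p.ResidueField[X] →+* F := Polynomial.eval₂RingHom ψ t
  have hΦ : ∀ g : A[X], Φ (g.map (algebraMap A p.ResidueField)) = Ideal.Quotient.mk _ (algebraMap (AdjoinRoot h) L (AdjoinRoot.mk h g)) := by
    intro g
    have : ψ.comp (algebraMap A p.ResidueField) = fF := RingHom.ext fun a => Ideal.ResidueField.lift_algebraMap _ _ _ hf2 a
    rw [Polynomial.coe_eval₂RingHom, Polynomial.eval₂_map, this]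
    induction g using Polynomial.induction_on' with
    | add a b ha hb => simp [ha, hb]
    | monomial n a => simp [fF, f, t, ← Polynomial.C_mul_X_pow_eq_monomial]
  let Q := (maximalIdeal F).comap Φ
  have hQ : Q.IsPrime := inferInstance
  let hb := h.map (algebraMap A p.ResidueField)
  have hhQ : Φ hb = 0 := by rw [hΦ, AdjoinRoot.mk_self]; simp
  have hb0 : hb ≠ 0 := hsep.ne_zero
  have hker : ∀ g ∈ Q, Φ g = 0 := by
    have hQ0 : Q ≠ ⊥ := fun e => hb0 ((Submodule.mem_bot p.ResidueField[X]).1 (e ▸ (show hb ∈ Q by simp [Q, hhQ])))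
    obtain ⟨π, hπ'⟩ := (inferInstance : Submodule.IsPrincipal Q)
    have hπ : Q = Ideal.span {π} := hπ'
    have hπ0 : π ≠ 0 := fun e => hQ0 (by rw [hπ, e, Ideal.span_singleton_zero])
    have hprime : Prime π := (Ideal.span_singleton_prime hπ0).1 (hπ ▸ hQ)
    obtain ⟨r, hr⟩ : π ∣ hb := Ideal.mem_span_singleton.1 (hπ ▸ (show hb ∈ Q by simp [Q, hhQ]))
    have hrQ : r ∉ Q := fun hrQ => by
      obtain ⟨r', hr'⟩ : π ∣ r := Ideal.mem_span_singleton.1 (hπ ▸ hrQ)
      exact hprime.not_unit (hsep.squarefree π ⟨r', (hr.trans (by rw [hr', mul_assoc]) : hb = π * π * r')⟩)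
    have hru : IsUnit (Φ r) := by simpa [Q] using hrQ
    have hπz : Φ π = 0 := hru.mul_left_eq_zero.1 (by rw [← map_mul, ← hr, hhQ])
    intro g hg
    obtain ⟨w, rfl⟩ : π ∣ g := Ideal.mem_span_singleton.1 (hπ ▸ hg)
    rw [map_mul, hπz, zero_mul]
  rw [← Localization.AtPrime.map_eq_maximalIdeal]
  refine Ideal.map_le_iff_le_comap.2 fun b hb' => ?_
  obtain ⟨g, rfl⟩ := AdjoinRoot.mk_surjective b
  rw [Ideal.mem_comap, ← Ideal.Quotient.eq_zero_iff_mem, ← hΦ]
  refine hker _ ?_
  change Φ (g.map (algebraMap A p.ResidueField)) ∈ maximalIdeal F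
  rw [hΦ, ← IsLocalRing.map_maximalIdeal_of_surjective _ Ideal.Quotient.mk_surjective]
  exact Ideal.mem_map_of_mem _ ((IsLocalization.AtPrime.to_map_mem_maximal_iff L P _).2 hb')

/-- `A[X]/(h)` is regular at primes where `h` is monic separable and `A` is regular. -/
theorem isRegularLocalRing_adjoinRoot_of_separable [IsNoetherianRing A] (h : A[X]) (hm : h.Monic)
    (P : Ideal (AdjoinRoot h)) [P.IsPrime]
    [IsRegularLocalRing (Localization.AtPrime (P.comap (AdjoinRoot.of h)))]
    (hsep : (h.map (algebraMap A (P.comap (AdjoinRoot.of h)).ResidueField)).Separable) :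
    IsRegularLocalRing (Localization.AtPrime P) := by
  set p := P.comap (AdjoinRoot.of h) with hp
  let L := Localization.AtPrime P
  let f : A →+* L := (algebraMap (AdjoinRoot h) L).comp (AdjoinRoot.of h)
  let Ap := Localization.AtPrime p
  have hu : ∀ y : p.primeCompl, IsUnit (f y) := fun y =>
    IsLocalization.map_units L (⟨AdjoinRoot.of h y, y.2⟩ : P.primeCompl)
  let φ : Ap →+* L := IsLocalization.lift hu
  have hmax : maximalIdeal L = (maximalIdeal Ap).map φ := by
    rw [maximalIdeal_eq_map_of_separable h P hsep, ← Localization.AtPrime.map_eq_maximalIdeal, Ideal.map_map,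
      IsLocalization.lift_comp]
  have : IsNoetherianRing (AdjoinRoot h) := inferInstance
  have : IsNoetherianRing L := IsLocalization.isNoetherianRing P.primeCompl L inferInstance
  refine IsRegularLocalRing.of_spanFinrank_maximalIdeal_le (R := L) ?_
  have : Module.Free A (AdjoinRoot h) := hm.free_adjoinRoot
  have : P.LiesOver p := ⟨rfl⟩
  have : Algebra.HasGoingDown A (AdjoinRoot h) := Algebra.HasGoingDown.of_flat
  have hh : p.height ≤ P.height := by
    rw [Ideal.height_eq_height_add_of_liesOver_of_hasGoingDown p P]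
    exact le_self_add
  refine le_trans ?_ ((IsLocalization.AtPrime.ringKrullDim_eq_height P L).symm.le.trans' (WithBot.coe_le_coe.2 hh))
  rw [← IsLocalization.AtPrime.ringKrullDim_eq_height p Ap, ← IsRegularLocalRing.spanFinrank_maximalIdeal (R := Ap)]
  obtain ⟨s, hs1, hs2⟩ := (IsNoetherian.noetherian (maximalIdeal Ap)).exists_span_finset_card_eq_spanFinrank
  refine Nat.cast_le.2 ?_
  have e : maximalIdeal L = Ideal.span (φ '' ↑s) :=
    hmax.trans ((congrArg (Ideal.map φ) hs2.symm).trans (Ideal.map_span _ _))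
  rw [← hs1, e]
  refine (Submodule.spanFinrank_span_le_ncard_of_finite ((Finset.finite_toSet _).image _)).trans ?_
  exact (Set.ncard_image_le (Finset.finite_toSet _)).trans (le_of_eq (Set.ncard_coe_finset _))

theorem isRegularRing_kummer [IsDomain A] [IsRegularRing A] (s : A) (hs : s ≠ 0)
    [IsRegularRing (A ⧸ Ideal.span {s})] (e : ℕ) (he : 0 < e) (heu : IsUnit (e : A)) :
    IsRegularRing (AdjoinRoot (X ^ e - C s)) := by
  set h : A[X] := X ^ e - C s with hh
  have hm : h.Monic := monic_X_pow_sub_C s he.ne'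
  have : IsNoetherianRing (AdjoinRoot h) := inferInstance
  have hroot : AdjoinRoot.root h ^ e = AdjoinRoot.of h s := by
    have := AdjoinRoot.mk_self (f := h)
    rw [hh, map_sub, map_pow, AdjoinRoot.mk_X, AdjoinRoot.mk_C, sub_eq_zero] at this
    exact this
  rw [isRegularRing_iff]
  intro P hP
  let p := P.comap (AdjoinRoot.of h)
  by_cases hsp : s ∈ p
  · -- `t = X` is a regular element cutting out `A/s`
    let t := AdjoinRoot.root h
    have htP : t ∈ P := hP.mem_of_pow_mem e (by rw [hroot]; exact hsp)
    let ev : AdjoinRoot h →+* A ⧸ Ideal.span {s} :=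
      AdjoinRoot.lift (Ideal.Quotient.mk _) 0 (by
        rw [hh, eval₂_sub, eval₂_X_pow, eval₂_C, zero_pow he.ne', zero_sub, neg_eq_zero]
        exact Ideal.Quotient.eq_zero_iff_mem.2 (Ideal.mem_span_singleton_self s))
    have hevs : Function.Surjective ev := fun z => by
      obtain ⟨a, rfl⟩ := Ideal.Quotient.mk_surjective z
      exact ⟨AdjoinRoot.of h a, AdjoinRoot.lift_of _⟩
    have hker : RingHom.ker ev = Ideal.span {t} := by
      refine le_antisymm (fun z hz => ?_) ((Ideal.span_singleton_le_iff_mem _).2 ?_)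
      · obtain ⟨g, rfl⟩ := AdjoinRoot.mk_surjective z
        rw [RingHom.mem_ker] at hz
        rw [← X_mul_divX_add g] at hz ⊢
        rw [map_add, map_mul, AdjoinRoot.mk_X, AdjoinRoot.mk_C] at hz ⊢
        rw [map_add, map_mul, AdjoinRoot.lift_root, zero_mul, zero_add, AdjoinRoot.lift_of,
          Ideal.Quotient.eq_zero_iff_mem, Ideal.mem_span_singleton'] at hz
        obtain ⟨c, hc⟩ := hz
        refine add_mem (Ideal.mul_mem_right _ _ (Ideal.mem_span_singleton_self t)) ?_
        rw [← hc, map_mul, ← hroot]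
        exact Ideal.mul_mem_left _ _ (Ideal.pow_mem_of_mem _ (Ideal.mem_span_singleton_self t) e he)
      · exact AdjoinRoot.lift_root _
    let eq : AdjoinRoot h ⧸ Ideal.span {t} ≃+* A ⧸ Ideal.span {s} :=
      (Ideal.quotEquivOfEq hker.symm).trans (RingHom.quotientKerEquivOfSurjective hevs)
    have : IsRegularRing (AdjoinRoot h ⧸ Ideal.span {t}) := IsRegularRing.of_ringEquiv eq.symm
    let L := Localization.AtPrime P
    have htm : algebraMap (AdjoinRoot h) L t ∈ maximalIdeal L :=
      (IsLocalization.AtPrime.to_map_mem_maximal_iff L P _).2 htP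
    have hfree : Module.Free A (AdjoinRoot h) := hm.free_adjoinRoot
    have hsreg : IsSMulRegular (AdjoinRoot h) t := by
      have h1 : IsSMulRegular (AdjoinRoot h) s :=
        Module.Flat.isSMulRegular_of_nonZeroDivisors (mem_nonZeroDivisors_of_ne_zero hs)
      intro a b hab
      refine h1 ?_
      change t * a = t * b at hab
      change s • a = s • b
      rw [Algebra.smul_def, Algebra.smul_def, AdjoinRoot.algebraMap_eq, ← hroot]
      obtain ⟨k, rfl⟩ := Nat.exists_eq_succ_of_ne_zero he.ne'
      rw [pow_succ, mul_assoc, mul_assoc, hab]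
    have hreg : IsSMulRegular L (algebraMap (AdjoinRoot h) L t) :=
      hsreg.of_isLocalizedModule L P.primeCompl (Algebra.linearMap (AdjoinRoot h) L)
    have : IsNoetherianRing L := IsLocalization.isNoetherianRing P.primeCompl L inferInstance
    have hmapt : (Ideal.span {t}).map (algebraMap (AdjoinRoot h) L) = Ideal.span {algebraMap (AdjoinRoot h) L t} := by
      rw [Ideal.map_span, Set.image_singleton]
    exact isRegularLocalRing_of_regular_quotient (Ideal.span_singleton_le_iff_mem _ |>.2 htP) hsreg
  · -- separable case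
    refine isRegularLocalRing_adjoinRoot_of_separable h hm P ?_
    have hmap : h.map (algebraMap A p.ResidueField) = X ^ e - C (algebraMap A p.ResidueField s) := by simp [hh]
    rw [hmap]
    refine separable_X_pow_sub_C _ ?_ ?_
    · rw [← map_natCast (algebraMap A p.ResidueField)]
      exact (heu.map (algebraMap A p.ResidueField)).ne_zero
    · rwa [Ne, Ideal.algebraMap_residueField_eq_zero]

end Groth.Agent.CAlgH3
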