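import Groth.Agent.CAlgH3.MiracleFlat
import Groth.Agent.CAlgH.CompleteLocal
import Groth.Agent.LocCoh.Monomial
import Groth.Agent.Misc15.PerfectClosureFlat

/-! Kunz's theorem. -/

universe u

open IsLocalRing

namespace Groth.Agent.CAlgH3.Kunz

variable {R : Type u} [CommRing R]

local notation "len" I:arg => Module.length R (R ⧸ I)

/-- Lech independence. -/
def Indep {n : ℕ} (y : Fin n → R) : Prop :=
  ∀ a : Fin n → R, ∑ i, a i * y i = 0 → ∀ i, a i ∈ Ideal.span (Set.range y)

theorem span_range_update_le {n : ℕ} (y : Fin n → R) (i₀ : Fin n) (g h : R) (e : y i₀ = g * h) :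
    Ideal.span (Set.range y) ≤ Ideal.span (Set.range (Function.update y i₀ g)) := by
  refine Ideal.span_le.2 ?_
  rintro _ ⟨j, rfl⟩
  by_cases hj : j = i₀
  · subst hj
    rw [e]
    exact Ideal.mul_mem_right h _ (Ideal.subset_span ⟨j, by simp⟩)
  · exact Ideal.subset_span ⟨j, by simp [hj]⟩

theorem mem_of_mul_mem {n : ℕ} {y : Fin n → R} (hy : Indep y) (i₀ : Fin n) (g h : R) (e : y i₀ = g * h)
    (a : R) (ha : g * a ∈ Ideal.span (Set.range y)) :
    a ∈ Ideal.span (Set.range (Function.update y i₀ h)) := by
  classical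
  obtain ⟨c, hc⟩ := Ideal.mem_span_range_iff_exists_fun.1 ha
  have h0 : ∑ i, (c i * h - if i = i₀ then a else 0) * y i = 0 := by
    rw [Finset.sum_congr rfl (fun i _ => show (c i * h - if i = i₀ then a else 0) * y i =
      h * (c i * y i) - (if i = i₀ then a * y i else 0) by split <;> ring)]
    rw [Finset.sum_sub_distrib, ← Finset.mul_sum, hc, Finset.sum_ite_eq' Finset.univ i₀, if_pos (Finset.mem_univ _), e]
    ring
  have h1 := hy _ h0 i₀
  rw [if_pos rfl] at h1
  have h2 := span_range_update_le y i₀ h g (e.trans (mul_comm g h)) h1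
  have h3 : c i₀ * h ∈ Ideal.span (Set.range (Function.update y i₀ h)) :=
    Ideal.mul_mem_left _ _ (Ideal.subset_span ⟨i₀, by simp⟩)
  have := sub_mem h3 h2
  simpa using this

theorem Indep.update {n : ℕ} {y : Fin n → R} (hy : Indep y) (i₀ : Fin n) (g h : R) (e : y i₀ = g * h) :
    Indep (Function.update y i₀ g) := by
  classical
  intro b hb i
  have h0 : ∑ j, (if j = i₀ then b j else b j * h) * y j = 0 := by
    rw [Finset.sum_congr rfl (fun j _ => show (if j = i₀ then b j else b j * h) * y j =
      h * (b j * Function.update y i₀ g j) by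
        by_cases hj : j = i₀
        · subst hj; rw [if_pos rfl, Function.update_self, e]; ring
        · rw [if_neg hj, Function.update_of_ne hj]; ring)]
    rw [← Finset.mul_sum, hb, mul_zero]
  have h1 := hy _ h0 i
  by_cases hi : i = i₀
  · subst hi
    rw [if_pos rfl] at h1
    exact span_range_update_le y i g h e h1
  · rw [if_neg hi, mul_comm] at h1
    exact mem_of_mul_mem hy i₀ h g (e.trans (mul_comm g h)) _ h1

theorem length_update {n : ℕ} {y : Fin n → R} (hy : Indep y) (i₀ : Fin n) (g h : R) (e : y i₀ = g * h) :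
    len (Ideal.span (Set.range y)) = len (Ideal.span (Set.range (Function.update y i₀ g))) +
      len (Ideal.span (Set.range (Function.update y i₀ h))) := by
  classical
  refine le_antisymm ?_ ?_
  · refine LocCoh.length_le_add_of_colon g ?_ fun r hr => ?_
    · refine Ideal.span_le.2 ?_
      rintro _ ⟨j, rfl⟩
      by_cases hj : j = i₀
      · subst hj
        rw [Function.update_self]
        exact Submodule.mem_sup_right (Ideal.mem_span_singleton_self g)
      · rw [Function.update_of_ne hj]
        exact Submodule.mem_sup_left (Ideal.subset_span ⟨j, rfl⟩)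
    · obtain ⟨c, hc⟩ := Ideal.mem_span_range_iff_exists_fun.1 hr
      rw [← hc, Finset.mul_sum]
      refine Ideal.sum_mem _ fun j _ => ?_
      by_cases hj : j = i₀
      · subst hj
        rw [Function.update_self, show g * (c j * h) = c j * y j by rw [e]; ring]
        exact Ideal.mul_mem_left _ _ (Ideal.subset_span ⟨j, rfl⟩)
      · rw [Function.update_of_ne hj]
        exact Ideal.mul_mem_left _ _ (Ideal.mul_mem_left _ _ (Ideal.subset_span ⟨j, rfl⟩))
  · rw [add_comm]
    exact LocCoh.length_add_le_of_colon g (span_range_update_le y i₀ g h e)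
      (Ideal.subset_span ⟨i₀, by simp⟩) (fun r hr => mem_of_mul_mem hy i₀ g h e r hr)

theorem length_powers [IsLocalRing R] {n : ℕ} (x : Fin n → R) (hx : Ideal.span (Set.range x) = maximalIdeal R) :
    ∀ (s : ℕ) (k : Fin n → ℕ), (∑ i, k i = s) → (∀ i, 1 ≤ k i) → Indep (fun i => x i ^ k i) →
      len (Ideal.span (Set.range fun i => x i ^ k i)) = ((∏ i, k i : ℕ) : ℕ∞) := by
  classical
  intro s
  induction s using Nat.strong_induction_on with
  | _ s ih =>
    intro k hk h1 hI
    by_cases hall : ∀ i, k i = 1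
    · obtain rfl : k = fun _ => 1 := funext hall
      have hone : (fun i => x i ^ 1) = x := funext fun i => pow_one _
      show Module.length R (R ⧸ Ideal.span (Set.range fun i => x i ^ (1:ℕ))) = _
      rw [hone, hx, Finset.prod_const_one, Nat.cast_one]
      haveI : IsSimpleModule R (R ⧸ maximalIdeal R) :=
        isSimpleModule_iff_isCoatom.2 (maximalIdeal.isMaximal R).out
      exact Module.length_eq_one R (R ⧸ maximalIdeal R)
    · push Not at hall
      obtain ⟨i₀, hi₀⟩ := hall
      obtain ⟨l, hl⟩ : ∃ l, k i₀ = l + 2 := ⟨k i₀ - 2, by have := h1 i₀; omega⟩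
      have e : (fun i => x i ^ k i) i₀ = x i₀ ^ (l + 1) * x i₀ ^ 1 := by
        show x i₀ ^ k i₀ = _
        rw [hl, ← pow_add]
      have upd : ∀ m : ℕ, Function.update (fun i => x i ^ k i) i₀ (x i₀ ^ m) =
          fun i => x i ^ Function.update k i₀ m i := by
        intro m
        funext i
        by_cases hi : i = i₀
        · subst hi; simp
        · simp [hi]
      have hsum : ∀ m, (∑ i, Function.update k i₀ m i) + k i₀ = s + m := by
        intro m
        rw [Finset.sum_update_of_mem (Finset.mem_univ i₀), ← hk,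
          Finset.sum_eq_sum_sdiff_singleton_add (Finset.mem_univ i₀) k]
        omega
      have hprod : ∀ m, ∏ i, Function.update k i₀ m i = m * ∏ i ∈ Finset.univ \ {i₀}, k i := fun m =>
        Finset.prod_update_of_mem (Finset.mem_univ i₀) _ _
      have hpos : ∀ m, 1 ≤ m → ∀ i, 1 ≤ Function.update k i₀ m i := by
        intro m hm i
        by_cases hi : i = i₀
        · subst hi; simpa using hm
        · simpa [hi] using h1 i
      have hA := hI.update i₀ _ _ e
      have hB := hI.update i₀ _ _ (e.trans (mul_comm _ _))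
      rw [length_update hI i₀ _ _ e]
      rw [upd] at hA hB
      rw [upd, upd]
      have s1 := hsum (l + 1)
      have s2 := hsum 1
      rw [ih _ (by omega) _ rfl (hpos _ (by omega)) hA, ih _ (by omega) _ rfl (hpos _ le_rfl) hB, hprod, hprod,
        ← Nat.cast_add, Finset.prod_eq_prod_sdiff_singleton_mul (Finset.mem_univ i₀) k, hl]
      congr 1
      ring

theorem indep_pow [IsNoetherianRing R] [IsLocalRing R] (p : ℕ) [Fact p.Prime] [CharP R p]
    (hF : (frobenius R p).Flat) (e : ℕ) {n : ℕ} (x : Fin n → R)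
    (hx : Ideal.span (Set.range x) = maximalIdeal R) (hn : (maximalIdeal R).spanFinrank = n) :
    Indep (fun i => x i ^ p ^ e) := by
  classical
  intro a ha
  obtain ⟨k, c, b, hb, hc⟩ := Misc15.trivialRelation_of_flat (Misc15.flat_iterateFrobenius p hF e) x a
    (by rw [← ha]; exact Finset.sum_congr rfl fun i _ => by rw [iterateFrobenius_def, mul_comm])
  have hmem : ∀ i j, c i j ∈ maximalIdeal R := by
    intro i j
    by_contra hu
    obtain ⟨u, hu⟩ := not_not.1 (mt (mem_nonunits_iff.2) (by simpa [IsLocalRing.mem_maximalIdeal] using hu))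
    have hle : maximalIdeal R ≤ Ideal.span (x '' ↑(Finset.univ.erase i)) := by
      rw [← hx, Ideal.span_le]
      rintro _ ⟨l, rfl⟩
      by_cases hl : l = i
      · subst hl
        have := hc j
        rw [← Finset.add_sum_erase _ _ (Finset.mem_univ l), add_eq_zero_iff_eq_neg, ← hu] at this
        rw [SetLike.mem_coe, show x l = (x l * u) * ↑u⁻¹ by simp, this]
        refine Ideal.mul_mem_right _ _ (neg_mem (Ideal.sum_mem _ fun m hm => ?_))
        exact Ideal.mul_mem_right _ _ (Ideal.subset_span ⟨m, hm, rfl⟩)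
      · exact Ideal.subset_span ⟨l, by simp [hl], rfl⟩
    have heq : maximalIdeal R = Ideal.span (x '' ↑(Finset.univ.erase i)) :=
      le_antisymm hle (Ideal.span_le.2 (by
        rintro _ ⟨l, -, rfl⟩; exact hx ▸ Ideal.subset_span ⟨l, rfl⟩))
    have hcard := Submodule.spanFinrank_span_le_ncard_of_finite (R := R)
      ((Finset.univ.erase i).finite_toSet.image x)
    rw [← Ideal.span, ← heq, hn, ← Finset.coe_image, Set.ncard_coe_finset] at hcard
    have := hcard.trans Finset.card_image_le
    simp at this
    have := i.pos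
    omega
  intro i
  rw [hb i]
  refine Ideal.sum_mem _ fun j _ => Ideal.mul_mem_right _ _ ?_
  obtain ⟨r, hr⟩ := Ideal.mem_span_range_iff_exists_fun.1 (hx.symm ▸ hmem i j : c i j ∈ Ideal.span (Set.range x))
  rw [iterateFrobenius_def, ← hr]
  haveI : ExpChar R p := ExpChar.prime Fact.out
  rw [sum_pow_char_pow]
  refine Ideal.sum_mem _ fun l _ => ?_
  rw [mul_pow]
  exact Ideal.mul_mem_left _ _ (Ideal.subset_span ⟨l, rfl⟩)

theorem regular_of_flat (R : Type u) [CommRing R] [IsNoetherianRing R] [IsLocalRing R] (p : ℕ)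
    [Fact p.Prime] [CharP R p] (hF : (frobenius R p).Flat) : IsRegularLocalRing R := by
  classical
  haveI : ExpChar R p := ExpChar.prime Fact.out
  obtain ⟨d, a, hd, ha, hart⟩ := CAlgH.exists_sop R
  obtain ⟨s, hs1, hs2⟩ := (IsNoetherian.noetherian (maximalIdeal R)).exists_span_finset_card_eq_spanFinrank
  let n := s.card
  let x : Fin n → R := fun i => (s.equivFin.symm i : R)
  have hrange : Set.range x = ↑s := by
    ext z; constructor
    · rintro ⟨i, rfl⟩; exact (s.equivFin.symm i).2
    · intro hz; exact ⟨s.equivFin ⟨z, hz⟩, by simp [x]⟩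
  have hx : Ideal.span (Set.range x) = maximalIdeal R := by rw [hrange]; exact hs2
  have hL : Module.length R (R ⧸ Ideal.span (Set.range a)) ≠ ⊤ := by
    rw [Module.length_eq_of_surjective (R := R ⧸ Ideal.span (Set.range a)) (S := R)
      (M := R ⧸ Ideal.span (Set.range a)) Ideal.Quotient.mk_surjective]
    exact Module.length_ne_top
  obtain ⟨L, hL'⟩ := ENat.ne_top_iff_exists.1 hL
  have key : ∀ e, (p ^ e) ^ n ≤ (p ^ e) ^ d * L := by
    intro e
    have h1 := length_powers x hx _ (fun _ => p ^ e) rfl (fun _ => Nat.one_le_pow _ _ (Fact.out : p.Prime).pos)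
      (indep_pow p hF e x hx hs1.symm)
    rw [Finset.prod_const, Finset.card_univ, Fintype.card_fin] at h1
    have hle : Ideal.span (Set.range fun i => a i ^ p ^ e) ≤ Ideal.span (Set.range fun i => x i ^ p ^ e) := by
      refine Ideal.span_le.2 ?_
      rintro _ ⟨i, rfl⟩
      obtain ⟨r, hr⟩ := Ideal.mem_span_range_iff_exists_fun.1 (hx.symm ▸ ha i : a i ∈ Ideal.span (Set.range x))
      simp only [SetLike.mem_coe, ← hr]
      rw [sum_pow_char_pow]
      refine Ideal.sum_mem _ fun l _ => ?_
      rw [mul_pow]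
      exact Ideal.mul_mem_left _ _ (Ideal.subset_span ⟨l, rfl⟩)
    have h2 := LocCoh.length_pow_le (p ^ e) (Nat.one_le_pow _ _ (Fact.out : p.Prime).pos)
      (List.ofFn a) ⊥ 0 (by rw [zero_mul]; exact zero_mem _)
    rw [bot_sup_eq, bot_sup_eq, List.map_ofFn, LocCoh.ofList_ofFn, LocCoh.ofList_ofFn, List.length_ofFn,
      Ideal.span_singleton_eq_bot.2 rfl, sup_bot_eq] at h2
    have h3 := (LocCoh.length_quotient_antitone hle).trans (h2 : Module.length R (R ⧸ Ideal.span (Set.range fun i => a i ^ p ^ e)) ≤ _)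
    rw [h1, ← hL', ← Nat.cast_mul, ← Nat.cast_add, Nat.cast_le] at h3
    refine h3.trans (le_of_eq ?_)
    have : 1 ≤ (p ^ e) ^ d := Nat.one_le_pow _ _ (Nat.pow_pos (Fact.out : p.Prime).pos)
    obtain ⟨N, hN⟩ : ∃ N, (p ^ e) ^ d = N + 1 := ⟨_, (Nat.sub_add_cancel this).symm⟩
    rw [hN, Nat.add_sub_cancel]
    ring
  have hnd : n ≤ d := by
    by_contra! hlt
    have h1 := key L
    have hq : 0 < (p ^ L) ^ d := Nat.pow_pos (Nat.pow_pos (Fact.out : p.Prime).pos)
    obtain ⟨m, hm⟩ : ∃ m, n = d + 1 + m := ⟨n - (d + 1), by omega⟩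
    rw [hm, pow_add, pow_succ, mul_assoc] at h1
    have h2 : p ^ L ≤ L := (Nat.le_mul_of_pos_right _ (Nat.pow_pos (Nat.pow_pos (Fact.out : p.Prime).pos))).trans
      (Nat.le_of_mul_le_mul_left h1 hq)
    exact absurd h2 (not_le.2 (Nat.lt_pow_self (Fact.out : p.Prime).one_lt))
  exact ⟨le_antisymm (hs1 ▸ hd ▸ Nat.cast_le.2 hnd) (ringKrullDim_le_spanFinrank_maximalIdeal R)⟩

theorem flat_of_regular (R : Type u) [CommRing R] [IsRegularLocalRing R] (p : ℕ) [Fact p.Prime] [CharP R p] :
    (frobenius R p).Flat := by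
  haveI := CAlgH3.isCohenMacaulayLocalRing_of_regular R
  letI alg : Algebra R R := (frobenius R p).toAlgebra
  haveI hloc : IsLocalHom (@algebraMap R R _ _ alg) := ⟨fun x hx => by
    rw [show @algebraMap R R _ _ alg x = x ^ p from rfl] at hx
    exact (isUnit_pow_iff (Fact.out : p.Prime).ne_zero).1 hx⟩
  refine @CAlgH3.flat_of_dim_eq _ R _ _ rfl R _ _ alg hloc ?_
  have h0 : ringKrullDim (R ⧸ (maximalIdeal R).map (@algebraMap R R _ _ alg)) = 0 := by
    have hne : (maximalIdeal R).map (@algebraMap R R _ _ alg) ≤ maximalIdeal R := Ideal.map_le_iff_le_comap.2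
      fun z hz => by
        show z ^ p ∈ maximalIdeal R
        exact Ideal.pow_mem_of_mem _ hz p (Fact.out : p.Prime).pos
    haveI : Nontrivial (R ⧸ (maximalIdeal R).map (@algebraMap R R _ _ alg)) :=
      Ideal.Quotient.nontrivial_iff.2 (ne_top_of_le_ne_top (maximalIdeal.isMaximal R).ne_top hne)
    haveI : IsLocalRing (R ⧸ (maximalIdeal R).map (@algebraMap R R _ _ alg)) :=
      .of_surjective' _ Ideal.Quotient.mk_surjective
    haveI : Ring.KrullDimLE 0 (R ⧸ (maximalIdeal R).map (@algebraMap R R _ _ alg)) := by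
      rw [Ring.krullDimLE_zero_iff]
      intro P hP
      have h1 : P.comap (Ideal.Quotient.mk _) = maximalIdeal R := by
        refine le_antisymm (IsLocalRing.le_maximalIdeal (Ideal.IsPrime.comap _).ne_top) fun z hz => ?_
        refine (Ideal.IsPrime.comap (Ideal.Quotient.mk _)).mem_of_pow_mem p ?_
        have h4 : z ^ p ∈ (maximalIdeal R).map (@algebraMap R R _ _ alg) :=
          Ideal.mem_map_of_mem (@algebraMap R R _ _ alg) hz
        rw [Ideal.mem_comap, Ideal.Quotient.eq_zero_iff_mem.2 h4]
        exact zero_mem _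
      have h2 := Ideal.map_comap_of_surjective _ Ideal.Quotient.mk_surjective P
      rw [h1, IsLocalRing.map_maximalIdeal_of_surjective _ Ideal.Quotient.mk_surjective] at h2
      exact h2 ▸ IsLocalRing.maximalIdeal.isMaximal _
    exact ringKrullDimZero_iff_ringKrullDim_eq_zero.1 inferInstance
  rw [h0, add_zero]

theorem charP_localization (R : Type u) [CommRing R] (p : ℕ) [Fact p.Prime] [CharP R p] (P : Ideal R) [P.IsPrime] :
    CharP (Localization.AtPrime P) p :=
  (CharP.charP_iff_prime_eq_zero Fact.out).2 (by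
    rw [← map_natCast (algebraMap R (Localization.AtPrime P)), CharP.cast_eq_zero, map_zero])

theorem kunz (p : ℕ) [Fact p.Prime] (R : Type u) [CommRing R] [IsNoetherianRing R] [CharP R p] :
    IsRegularRing R ↔ (frobenius R p).Flat := by
  have hcomap : ∀ (P : Ideal R) [P.IsPrime], Ideal.comap (frobenius R p) P = P := by
    intro P hP
    ext z
    rw [Ideal.mem_comap, frobenius_def]
    exact ⟨hP.mem_of_pow_mem p, fun h => Ideal.pow_mem_of_mem _ h p (Fact.out : p.Prime).pos⟩
  have hloc : ∀ (Q : Ideal R) [Q.IsPrime] (h : Q = Ideal.comap (frobenius R p) Q)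
      [CharP (Localization.AtPrime Q) p],
      Localization.localRingHom Q Q (frobenius R p) h = frobenius (Localization.AtPrime Q) p := by
    intro Q _ h _
    apply IsLocalization.ringHom_ext Q.primeCompl
    ext z
    simp only [RingHom.comp_apply, Localization.localRingHom_to_map, frobenius_def, map_pow]
  constructor
  · intro hR
    refine RingHom.Flat.ofLocalizationPrime _ fun P hP => ?_
    have h := hcomap P
    haveI := charP_localization R p P
    have hflat := flat_of_regular (Localization.AtPrime P) p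
    rw [← hloc P h.symm] at hflat
    have key : ∀ (Q : Ideal R) [Q.IsPrime] (e : Q = Ideal.comap (frobenius R p) P), Q = P →
        (Localization.localRingHom Q P (frobenius R p) e).Flat := by
      intro Q _ e hQ
      subst hQ
      exact hflat
    exact key _ rfl h
  · intro hF
    rw [isRegularRing_iff]
    intro P hP
    haveI := charP_localization R p P
    refine regular_of_flat _ p ?_
    rw [← hloc P (hcomap P).symm]
    exact hF.localRingHom P P _

end Groth.Agent.CAlgH3.Kunz
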