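import Mathlib

/-! Multiplicative 2-cocycles of the multiplicative group with values in units of Laurent polynomials
are coboundaries: modulo every prime they are constant, and additive cocycles are integrated by
the constant-coefficient functional in the last variable. -/

set_option autoImplicit false

universe u

namespace Groth.Agent.CAlgH3.LaurentCocycle

open AddMonoidAlgebra

variable {A : Type u} [CommRing A]

noncomputable def dm {m n : ℕ} (M : Matrix (Fin m) (Fin n) ℤ) :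
    AddMonoidAlgebra A (Fin n → ℤ) →ₐ[A] AddMonoidAlgebra A (Fin m → ℤ) :=
  AddMonoidAlgebra.mapDomainAlgHom A A (Matrix.mulVecLin M).toAddMonoidHom

lemma dm_single {m n : ℕ} (M : Matrix (Fin m) (Fin n) ℤ) (v : Fin n → ℤ) (a : A) :
    dm M (single v a) = single (M.mulVec v) a := by
  simp [dm, AddMonoidAlgebra.mapDomain_single]

lemma dm_dm {l m n : ℕ} (M : Matrix (Fin l) (Fin m) ℤ) (N : Matrix (Fin m) (Fin n) ℤ)
    (x : AddMonoidAlgebra A (Fin n → ℤ)) : dm M (dm N x) = dm (M * N) x := by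
  induction x using AddMonoidAlgebra.induction_linear with
  | zero => simp
  | add x y hx hy => simp [hx, hy]
  | single v a => simp [dm_single, Matrix.mulVec_mulVec]

noncomputable def um {m n : ℕ} (M : Matrix (Fin m) (Fin n) ℤ) :
    (AddMonoidAlgebra A (Fin n → ℤ))ˣ →* (AddMonoidAlgebra A (Fin m → ℤ))ˣ :=
  Units.map (AddMonoidAlgebra.mapDomainRingHom A (Matrix.mulVecLin M).toAddMonoidHom).toMonoidHom

lemma coe_um {m n : ℕ} (M : Matrix (Fin m) (Fin n) ℤ) (x : (AddMonoidAlgebra A (Fin n → ℤ))ˣ) :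
    (um M x : AddMonoidAlgebra A (Fin m → ℤ)) = dm M (x : AddMonoidAlgebra A (Fin n → ℤ)) := rfl

lemma um_um {l m n : ℕ} (M : Matrix (Fin l) (Fin m) ℤ) (N : Matrix (Fin m) (Fin n) ℤ)
    (x : (AddMonoidAlgebra A (Fin n → ℤ))ˣ) : um M (um N x) = um (M * N) x :=
  Units.ext (by simp only [coe_um, dm_dm])

def D0 : Matrix (Fin 3) (Fin 2) ℤ := !![0, 0; 1, 0; 0, 1]
def D1 : Matrix (Fin 3) (Fin 2) ℤ := !![1, 0; 1, 0; 0, 1]
def D2 : Matrix (Fin 3) (Fin 2) ℤ := !![1, 0; 0, 1; 0, 1]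
def D3 : Matrix (Fin 3) (Fin 2) ℤ := !![1, 0; 0, 1; 0, 0]
def E0 : Matrix (Fin 2) (Fin 1) ℤ := !![0; 1]
def E1 : Matrix (Fin 2) (Fin 1) ℤ := !![1; 1]
def E2 : Matrix (Fin 2) (Fin 1) ℤ := !![1; 0]

noncomputable def d1 (η : (AddMonoidAlgebra A (Fin 1 → ℤ))ˣ) :
    (AddMonoidAlgebra A (Fin 2 → ℤ))ˣ := um E0 η * (um E1 η)⁻¹ * um E2 η

noncomputable def d2 (ξ : (AddMonoidAlgebra A (Fin 2 → ℤ))ˣ) :
    (AddMonoidAlgebra A (Fin 3 → ℤ))ˣ := um D0 ξ * (um D1 ξ)⁻¹ * um D2 ξ * (um D3 ξ)⁻¹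

lemma d1_mul (x y : (AddMonoidAlgebra A (Fin 1 → ℤ))ˣ) : d1 (x * y) = d1 x * d1 y := by
  simp only [d1, map_mul, mul_inv]
  ac_rfl

lemma d2_mul (x y : (AddMonoidAlgebra A (Fin 2 → ℤ))ˣ) : d2 (x * y) = d2 x * d2 y := by
  simp only [d2, map_mul, mul_inv]
  ac_rfl

lemma d2_inv (x : (AddMonoidAlgebra A (Fin 2 → ℤ))ˣ) : d2 x⁻¹ = (d2 x)⁻¹ := by
  simp only [d2, map_inv, mul_inv]

lemma alt {G : Type*} [CommGroup G] (a b c d e f : G) :
    a * b⁻¹ * c * (a⁻¹ * d * e⁻¹) * (b * d⁻¹ * f) * (c⁻¹ * e * f⁻¹) = 1 := by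
  rw [← ofMul_eq_zero]
  simp only [ofMul_mul, ofMul_inv]
  abel

lemma d2_d1 (η : (AddMonoidAlgebra A (Fin 1 → ℤ))ˣ) : d2 (d1 η) = 1 := by
  simp only [d2, d1, map_mul, map_inv, um_um, mul_inv, inv_inv]
  rw [show D0 * E0 = D1 * E0 by decide, show D0 * E1 = D2 * E0 by decide,
    show D0 * E2 = D3 * E0 by decide, show D1 * E1 = D2 * E1 by decide,
    show D1 * E2 = D3 * E1 by decide, show D2 * E2 = D3 * E2 by decide]
  exact alt _ _ _ _ _ _

/-- Take the constant coefficient in the last variable. -/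
noncomputable def mu (n : ℕ) :
    AddMonoidAlgebra A (Fin (n + 1) → ℤ) →ₗ[A] AddMonoidAlgebra A (Fin n → ℤ) where
  toFun x := Finsupp.linearCombination A (fun v : Fin (n + 1) → ℤ =>
    if v (Fin.last n) = 0 then (single (Fin.init v) 1 : AddMonoidAlgebra A (Fin n → ℤ)) else 0) x.coeff
  map_add' x y := by simp [coeff_add]
  map_smul' a x := by simp [coeff_smul]

lemma mu_single {n : ℕ} (v : Fin (n + 1) → ℤ) (a : A) :
    mu n (single v a) = if v (Fin.last n) = 0 then single (Fin.init v) a else 0 := by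
  simp only [mu, LinearMap.coe_mk, AddHom.coe_mk, coeff_single, Finsupp.linearCombination_single]
  split_ifs <;> simp

lemma mu_D (x : AddMonoidAlgebra A (Fin 2 → ℤ)) :
    mu 2 (dm D0 x) = dm E0 (mu 1 x) ∧ mu 2 (dm D1 x) = dm E1 (mu 1 x) ∧
      mu 2 (dm D2 x) = dm E2 (mu 1 x) ∧ mu 2 (dm D3 x) = x := by
  induction x using AddMonoidAlgebra.induction_linear with
  | zero => simp
  | add x y hx hy => simp [hx, hy]
  | single v a =>
    refine ⟨?_, ?_, ?_, ?_⟩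
    all_goals
      simp only [dm_single, mu_single]
      simp only [D0, D1, D2, D3, E0, E1, E2]
      simp [Matrix.mulVec, dotProduct, Fin.sum_univ_two]
    all_goals
      first
      | (split_ifs with h <;> simp [dm_single])
      | skip
    all_goals
      first
      | (congr 1; funext i; fin_cases i <;> simp [Fin.init, Matrix.vecHead, *])
      | skip

noncomputable abbrev J (N : Ideal A) (k n : ℕ) : Ideal (AddMonoidAlgebra A (Fin n → ℤ)) :=
  (N ^ k).map (algebraMap A _)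

lemma map_mem_J {N : Ideal A} {k m n : ℕ}
    (f : AddMonoidAlgebra A (Fin n → ℤ) →ₗ[A] AddMonoidAlgebra A (Fin m → ℤ))
    {x : AddMonoidAlgebra A (Fin n → ℤ)} (hx : x ∈ J N k n) : f x ∈ J N k m := by
  change x ∈ Submodule.restrictScalars A (J N k n) at hx
  rw [← Ideal.smul_top_eq_map] at hx
  have := Submodule.mem_map_of_mem (f := f) hx
  rw [Submodule.map_smul''] at this
  have := Submodule.smul_mono (le_refl (N ^ k)) (le_top : Submodule.map f ⊤ ≤ ⊤) this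
  rwa [Ideal.smul_top_eq_map] at this

lemma mul_mem_J {N : Ideal A} {k n : ℕ} (hk : 1 ≤ k) {x y : AddMonoidAlgebra A (Fin n → ℤ)}
    (hx : x ∈ J N k n) (hy : y ∈ J N k n) : x * y ∈ J N (k + 1) n := by
  have := Ideal.mul_mem_mul hx hy
  rw [← Ideal.map_mul, ← pow_add] at this
  exact Ideal.map_mono (Ideal.pow_le_pow_right (by omega)) this

lemma step {N : Ideal A} {k : ℕ} (hk : 1 ≤ k) {K : ℕ} (hN : N ^ K = ⊥)
    (ξ : (AddMonoidAlgebra A (Fin 2 → ℤ))ˣ) (hξ : d2 ξ = 1)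
    (h : (ξ : AddMonoidAlgebra A (Fin 2 → ℤ)) - 1 ∈ J N k 2) :
    ∃ η, ((ξ * (d1 η)⁻¹ : (AddMonoidAlgebra A (Fin 2 → ℤ))ˣ) : AddMonoidAlgebra A (Fin 2 → ℤ)) - 1
      ∈ J N (k + 1) 2 := by
  set x := (ξ : AddMonoidAlgebra A (Fin 2 → ℤ)) - 1 with hx
  set g := mu 1 x with hg
  have hgJ : g ∈ J N k 1 := map_mem_J _ h
  have hgnil : IsNilpotent g := by
    refine ⟨K, ?_⟩
    have h1 := Ideal.pow_mem_pow hgJ K
    rw [← Ideal.map_pow, ← pow_mul, mul_comm, pow_mul, hN, ← Ideal.zero_eq_bot,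
      zero_pow (by omega), Ideal.zero_eq_bot, Ideal.map_bot] at h1
    exact h1
  obtain ⟨η, hη⟩ := hgnil.isUnit_one_add
  refine ⟨η, ?_⟩
  have hcoc : (um D0 ξ * um D2 ξ : (AddMonoidAlgebra A (Fin 3 → ℤ))ˣ) = um D1 ξ * um D3 ξ := by
    rw [← div_eq_one, div_eq_mul_inv, mul_inv, ← hξ, d2]
    ac_rfl
  have hcoc' := congrArg (Units.val (α := AddMonoidAlgebra A (Fin 3 → ℤ))) hcoc
  simp only [Units.val_mul, coe_um, show (ξ : AddMonoidAlgebra A (Fin 2 → ℤ)) = 1 + x by simp [hx],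
    map_add, map_one] at hcoc'
  have hm : ∀ {m : ℕ} (M : Matrix (Fin m) (Fin 2) ℤ), dm M x ∈ J N k m := fun M =>
    map_mem_J (dm M).toLinearMap h
  have hlin : dm D0 x + dm D2 x - dm D1 x - dm D3 x ∈ J N (k + 1) 3 := by
    rw [show dm D0 x + dm D2 x - dm D1 x - dm D3 x = dm D1 x * dm D3 x - dm D0 x * dm D2 x by
      linear_combination hcoc']
    exact sub_mem (mul_mem_J hk (hm D1) (hm D3)) (mul_mem_J hk (hm D0) (hm D2))
  have hlin' := map_mem_J (mu 2) hlin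
  obtain ⟨m0, m1, m2, m3⟩ := mu_D x
  rw [map_sub, map_sub, map_add, m0, m1, m2, m3, ← hg] at hlin'
  have hn : ∀ {m : ℕ} (M : Matrix (Fin m) (Fin 1) ℤ), dm M g ∈ J N k m := fun M =>
    map_mem_J (dm M).toLinearMap hgJ
  have hfin : (ξ : AddMonoidAlgebra A (Fin 2 → ℤ)) * dm E1 (1 + g) - dm E0 (1 + g) * dm E2 (1 + g)
      ∈ J N (k + 1) 2 := by
    rw [show (ξ : AddMonoidAlgebra A (Fin 2 → ℤ)) = 1 + x by simp [hx], map_add, map_add, map_add,
      map_one, map_one, map_one,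
      show (1 + x) * (1 + dm E1 g) - (1 + dm E0 g) * (1 + dm E2 g) =
        -(dm E0 g + dm E2 g - dm E1 g - x) + (x * dm E1 g - dm E0 g * dm E2 g) by ring]
    exact add_mem (neg_mem hlin') (sub_mem (mul_mem_J hk h (hn E1)) (mul_mem_J hk (hn E0) (hn E2)))
  rw [← hη] at hfin
  set u := um E0 η * um E2 η with hu
  have key : ((ξ * (d1 η)⁻¹ : (AddMonoidAlgebra A (Fin 2 → ℤ))ˣ) : AddMonoidAlgebra A (Fin 2 → ℤ)) - 1
      = ((u⁻¹ : (AddMonoidAlgebra A (Fin 2 → ℤ))ˣ) : AddMonoidAlgebra A (Fin 2 → ℤ)) *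
        ((ξ : AddMonoidAlgebra A (Fin 2 → ℤ)) * dm E1 (η : AddMonoidAlgebra A (Fin 1 → ℤ)) -
          dm E0 (η : AddMonoidAlgebra A (Fin 1 → ℤ)) * dm E2 (η : AddMonoidAlgebra A (Fin 1 → ℤ))) := by
    rw [mul_sub, ← coe_um E1, ← coe_um E0, ← coe_um E2, ← Units.val_mul (um E0 η), ← hu,
      Units.inv_mul, ← Units.val_mul, ← Units.val_mul]
    congr 2
    simp only [d1, hu, mul_inv, inv_inv]
    ac_rfl
  rw [key]
  exact Ideal.mul_mem_left _ _ hfin

/-- A unit of a Laurent polynomial ring over a domain is a monomial. -/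
lemma exists_single_of_isUnit {D : Type u} [CommRing D] [IsDomain D] {n : ℕ}
    {f : AddMonoidAlgebra D (Fin n → ℤ)} (hf : IsUnit f) :
    ∃ v a, a ≠ 0 ∧ f = single v a := by
  classical
  obtain ⟨g, hfg⟩ := hf.exists_right_inv
  have hcard : ¬ 1 < f.coeff.support.card * g.coeff.support.card := by
    intro hc
    obtain ⟨p, hp, q, hq, hne, hpu, hqu⟩ := TwoUniqueSums.uniqueAdd_of_one_lt_card hc
    rw [Finset.mem_product] at hp hq
    have : ∀ {r : (Fin n → ℤ) × (Fin n → ℤ)}, r.1 ∈ f.coeff.support → r.2 ∈ g.coeff.support →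
        UniqueAdd f.coeff.support g.coeff.support r.1 r.2 → r.1 + r.2 = 0 := by
      intro r h1 h2 hr
      have he := AddMonoidAlgebra.coeff_mul_add_of_uniqueAdd hr
      rw [hfg] at he
      by_contra h
      refine mul_ne_zero (Finsupp.mem_support_iff.1 h1) (Finsupp.mem_support_iff.1 h2) ?_
      rw [← he, AddMonoidAlgebra.one_def, coeff_single, Finsupp.single_apply, if_neg (Ne.symm h)]
    have he := (this hp.1 hp.2 hpu).trans (this hq.1 hq.2 hqu).symm
    obtain ⟨e1, e2⟩ := hqu hp.1 hp.2 he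
    exact hne (Prod.ext e1 e2)
  have hf0 : f ≠ 0 := fun h => by simp [h] at hfg
  have hg0 : g ≠ 0 := fun h => by simp [h] at hfg
  have h1 : f.coeff.support.card = 1 := by
    have hfp : 0 < f.coeff.support.card := Finset.card_pos.2 (Finsupp.support_nonempty_iff.2
      fun h => hf0 (by ext; simp [h]))
    have hgp : 0 < g.coeff.support.card := Finset.card_pos.2 (Finsupp.support_nonempty_iff.2
      fun h => hg0 (by ext; simp [h]))
    have := Nat.le_mul_of_pos_right f.coeff.support.card hgp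
    omega
  obtain ⟨v, hv, hfv⟩ := Finsupp.card_support_eq_one.1 h1
  exact ⟨v, f.coeff v, hv, by ext1; rw [coeff_single, ← hfv]⟩

lemma coeff_mem_nilradical {ξ : (AddMonoidAlgebra A (Fin 2 → ℤ))ˣ} (hξ : d2 ξ = 1)
    {v : Fin 2 → ℤ} (hv : v ≠ 0) :
    (ξ : AddMonoidAlgebra A (Fin 2 → ℤ)).coeff v ∈ nilradical A := by
  classical
  rw [nilradical_eq_sInf]
  simp only [Submodule.mem_sInf, Set.mem_setOf_eq]
  intro P hP
  let q : ∀ n : ℕ, AddMonoidAlgebra A (Fin n → ℤ) →+* AddMonoidAlgebra (A ⧸ P) (Fin n → ℤ) :=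
    fun n => AddMonoidAlgebra.mapRingHom _ (Ideal.Quotient.mk P)
  have hcomm : ∀ {m n : ℕ} (M : Matrix (Fin m) (Fin n) ℤ) (x : AddMonoidAlgebra A (Fin n → ℤ)),
      q m (dm M x) = dm M (q n x) := by
    intro m n M x
    induction x using AddMonoidAlgebra.induction_linear with
    | zero => simp
    | add x y hx hy => simp [hx, hy]
    | single w a => simp [q, dm_single]
  obtain ⟨w, a, ha, hw⟩ := exists_single_of_isUnit (ξ.isUnit.map (q 2))
  have hcoc : (um D0 ξ * um D2 ξ : (AddMonoidAlgebra A (Fin 3 → ℤ))ˣ) = um D1 ξ * um D3 ξ := by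
    rw [← div_eq_one, div_eq_mul_inv, mul_inv, ← hξ, d2]
    ac_rfl
  have h := congrArg (fun z : (AddMonoidAlgebra A (Fin 3 → ℤ))ˣ =>
    q 3 (z : AddMonoidAlgebra A (Fin 3 → ℤ))) hcoc
  simp only [Units.val_mul, coe_um, map_mul, hcomm, hw, dm_single, single_mul_single] at h
  have hw0 : D0.mulVec w + D2.mulVec w = D1.mulVec w + D3.mulVec w :=
    Finsupp.single_left_injective (mul_ne_zero ha ha) (congrArg AddMonoidAlgebra.coeff h)
  have e0 := congrFun hw0 0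
  have e2 := congrFun hw0 2
  simp [D0, D1, D2, D3, Matrix.mulVec, dotProduct, Fin.sum_univ_two] at e0 e2
  have hw' : w = 0 := by
    funext i; fin_cases i
    · simpa using e0
    · simpa using e2
  have hc := congrArg (fun z : AddMonoidAlgebra (A ⧸ P) (Fin 2 → ℤ) => z.coeff v) hw
  simp only [q, AddMonoidAlgebra.coeff_mapRingHom, coeff_single, hw',
    Finsupp.single_eq_of_ne hv] at hc
  exact Ideal.Quotient.eq_zero_iff_mem.1 hc

theorem exists_eq_d1 (ξ : (AddMonoidAlgebra A (Fin 2 → ℤ))ˣ) (hξ : d2 ξ = 1) : ∃ η, ξ = d1 η := by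
  classical
  set N : Ideal A := Ideal.span ↑(((ξ : AddMonoidAlgebra A (Fin 2 → ℤ)).coeff.support.erase 0).image
    fun v => (ξ : AddMonoidAlgebra A (Fin 2 → ℤ)).coeff v) with hNdef
  have hNle : N ≤ nilradical A := by
    rw [hNdef, Ideal.span_le]
    intro a ha
    simp only [Finset.coe_image, Set.mem_image, Finset.mem_coe, Finset.mem_erase] at ha
    obtain ⟨v, ⟨hv, -⟩, rfl⟩ := ha
    exact coeff_mem_nilradical hξ hv
  obtain ⟨K, hK⟩ := (Ideal.FG.isNilpotent_iff_le_nilradical ⟨_, rfl⟩).2 hNle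
  rw [Ideal.zero_eq_bot] at hK
  -- descending induction
  have main : ∀ j k : ℕ, 1 ≤ k → K ≤ k + j → ∀ ξ : (AddMonoidAlgebra A (Fin 2 → ℤ))ˣ, d2 ξ = 1 →
      (ξ : AddMonoidAlgebra A (Fin 2 → ℤ)) - 1 ∈ J N k 2 → ∃ η, ξ = d1 η := by
    intro j
    induction j with
    | zero =>
      intro k hk hKk ξ _ h
      have : N ^ k = ⊥ := eq_bot_iff.2 ((Ideal.pow_le_pow_right (by omega)).trans hK.le)
      simp only [J, this, Ideal.map_bot, Ideal.mem_bot, sub_eq_zero] at h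
      exact ⟨1, Units.ext (by simp [d1, h])⟩
    | succ j ih =>
      intro k hk hKk ξ hξ h
      obtain ⟨η, hη⟩ := step hk hK ξ hξ h
      obtain ⟨η', hη'⟩ := ih (k + 1) (by omega) (by omega) (ξ * (d1 η)⁻¹)
        (by rw [d2_mul, d2_inv, hξ, d2_d1, inv_one, mul_one]) hη
      exact ⟨η' * η, by rw [d1_mul, ← hη', inv_mul_cancel_right]⟩
  let ε : AddMonoidAlgebra A (Fin 2 → ℤ) →ₐ[A] A := AddMonoidAlgebra.lift A A (Fin 2 → ℤ) 1
  set c : Aˣ := Units.map (ε : AddMonoidAlgebra A (Fin 2 → ℤ) →* A) ξ with hc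
  set η₀ : (AddMonoidAlgebra A (Fin 1 → ℤ))ˣ :=
    Units.map (algebraMap A (AddMonoidAlgebra A (Fin 1 → ℤ))).toMonoidHom c
  set cc : (AddMonoidAlgebra A (Fin 2 → ℤ))ˣ :=
    Units.map (algebraMap A (AddMonoidAlgebra A (Fin 2 → ℤ))).toMonoidHom c with hcc
  have hd : d1 η₀ = cc := by
    have : ∀ M : Matrix (Fin 2) (Fin 1) ℤ, um M η₀ = cc := fun M =>
      Units.ext ((coe_um M η₀).trans ((dm M).commutes (c : A)))
    simp only [d1, this, mul_inv_cancel, one_mul]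
  have hmem : ((ξ * cc⁻¹ : (AddMonoidAlgebra A (Fin 2 → ℤ))ˣ) : AddMonoidAlgebra A (Fin 2 → ℤ)) - 1
      ∈ J N 1 2 := by
    have h1 : (ξ : AddMonoidAlgebra A (Fin 2 → ℤ)) - (cc : AddMonoidAlgebra A (Fin 2 → ℤ)) ∈ J N 1 2 := by
      rw [show (cc : AddMonoidAlgebra A (Fin 2 → ℤ)) =
        algebraMap A _ (ε (ξ : AddMonoidAlgebra A (Fin 2 → ℤ))) from rfl]
      set x := (ξ : AddMonoidAlgebra A (Fin 2 → ℤ)) with hx
      have hsum : x - algebraMap A _ (ε x) = ∑ v ∈ x.coeff.support,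
          (single v (x.coeff v) - algebraMap A _ (ε (single v (x.coeff v)))) := by
        rw [Finset.sum_sub_distrib, ← map_sum, ← map_sum]
        rw [show ∑ v ∈ x.coeff.support, single v (x.coeff v) = x from AddMonoidAlgebra.sum_coeff_single x]
      rw [hsum]
      refine Ideal.sum_mem _ fun v hv => ?_
      have hs : single v (x.coeff v) - algebraMap A _ (ε (single v (x.coeff v))) =
          algebraMap A _ (x.coeff v) * (single v 1 - 1) := by
        simp [ε, mul_sub, AddMonoidAlgebra.single_mul_single]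
      rw [hs]
      rcases eq_or_ne v 0 with rfl | hv0
      · simp [AddMonoidAlgebra.one_def]
      refine Ideal.mul_mem_right _ _ (Ideal.mem_map_of_mem _ ?_)
      rw [pow_one, hNdef]
      exact Ideal.subset_span (Finset.mem_image_of_mem _ (Finset.mem_erase.2 ⟨hv0, hv⟩))
    have h2 := Ideal.mul_mem_right ((cc⁻¹ : (AddMonoidAlgebra A (Fin 2 → ℤ))ˣ) :
      AddMonoidAlgebra A (Fin 2 → ℤ)) _ h1
    rwa [sub_mul, Units.mul_inv, ← Units.val_mul] at h2
  obtain ⟨η, hη⟩ := main K 1 le_rfl (by omega) (ξ * cc⁻¹)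
    (by rw [d2_mul, d2_inv, hξ, ← hd, d2_d1, inv_one, mul_one]) hmem
  exact ⟨η * η₀, by rw [d1_mul, hd, ← hη, inv_mul_cancel_right]⟩

end Groth.Agent.CAlgH3.LaurentCocycle
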