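import Groth.Agent.CAlgH3.ExtCechShift
import Mathlib.RingTheory.Derivation.Basic

/-! A derivation of the ring acts on local cohomology. -/

set_option autoImplicit false
set_option backward.isDefEq.respectTransparency false
set_option backward.isDefEq.respectTransparency.types false
universe u

open CategoryTheory CategoryTheory.Limits CochainComplex
open Groth.Agent.CAlgH3.ExtCech

namespace Groth.Agent.CAlgH3.LocCohDerivation

variable {A : Type u} [CommRing A] (θ : Derivation ℤ A A)

/-- additive maps satisfying the Leibniz rule over `θ` -/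
def Leib {M : Type u} [AddCommGroup M] [Module A M] (D : M →+ M) : Prop :=
  ∀ (a : A) (x : M), D (a • x) = θ a • x + a • D x

variable {θ}

theorem Leib.smul_eq_zero {M : Type u} [AddCommGroup M] [Module A M] {D : M →+ M} (hD : Leib θ D)
    {t : A} {x : M} (h : t • x = 0) : (t * t) • D x = 0 := by
  have h1 := hD t x
  rw [h, map_zero] at h1
  have h2 := congrArg (t • ·) h1
  simp only [smul_zero, smul_add, smul_comm t (θ t), h, zero_add, smul_smul] at h2
  exact h2.symm

theorem exists_loc_derivation (S : Submonoid A) {M : Type u} [AddCommGroup M] [Module A M] {D : M →+ M}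
    (hD : Leib θ D) : ∃ D' : LocalizedModule S M →+ LocalizedModule S M, Leib θ D' ∧
      ∀ m, D' (LocalizedModule.mkLinearMap S M m) = LocalizedModule.mkLinearMap S M (D m) := by
  let F : M × S → LocalizedModule S M := fun p =>
    LocalizedModule.mk ((p.2 : A) • D p.1 - θ p.2 • p.1) (p.2 * p.2)
  have hwd : ∀ p q : M × S, (LocalizedModule.r S M) p q → F p = F q := by
    rintro ⟨x, s⟩ ⟨x', s'⟩ ⟨t, ht⟩
    refine LocalizedModule.mk_eq.2 ⟨t * t, ?_⟩
    simp only [Submonoid.smul_def, Submonoid.coe_mul] at ht ⊢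
    set E := (s' : A) • x - (s : A) • x' with hE
    have hEt : (t : A) • E = 0 := by rw [hE, smul_sub, ht, sub_self]
    have h2 := hD.smul_eq_zero hEt
    have hDE : D E = (θ s' • x + (s' : A) • D x) - (θ s • x' + (s : A) • D x') := by
      rw [hE, map_sub, hD, hD]
    have key : ((t : A) * t) • (((s' : A) * s') • ((s : A) • D x - θ s • x)) -
        ((t : A) * t) • (((s : A) * s) • ((s' : A) • D x' - θ s' • x')) =
        ((s : A) * s') • (((t : A) * t) • D E) - (θ s * s' + s * θ s') • ((t : A) • ((t : A) • E)) := by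
      rw [hDE, hE]
      module
    rw [← sub_eq_zero, key, h2, hEt, smul_zero, smul_zero, smul_zero, sub_zero]
  let G : LocalizedModule S M → LocalizedModule S M := fun y => LocalizedModule.liftOn y F hwd
  have hG : ∀ x s, G (LocalizedModule.mk x s) = F (x, s) := fun x s => LocalizedModule.liftOn_mk hwd x s
  have hG0 : ∀ m : M, G (LocalizedModule.mk m 1) = LocalizedModule.mk (D m) 1 := fun m => by
    rw [hG]; simp [F]
  let D' : LocalizedModule S M →+ LocalizedModule S M := AddMonoidHom.mk' G fun y z => by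
    induction y, z using LocalizedModule.induction_on₂ with
    | h x x' s s' =>
      rw [LocalizedModule.mk_add_mk, hG, hG, hG]
      simp only [F, LocalizedModule.mk_add_mk]
      refine LocalizedModule.mk_eq.2 ⟨1, ?_⟩
      simp only [one_smul, Submonoid.smul_def, Submonoid.coe_mul, Derivation.leibniz, smul_eq_mul, map_add]
      rw [hD, hD]
      module
  refine ⟨D', fun a y => ?_, fun m => hG0 m⟩
  induction y using LocalizedModule.induction_on with
  | h x s =>
    show G (a • LocalizedModule.mk x s) = θ a • LocalizedModule.mk x s + a • G (LocalizedModule.mk x s)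
    rw [LocalizedModule.smul'_mk, hG, hG]
    simp only [F, LocalizedModule.smul'_mk, LocalizedModule.mk_add_mk]
    refine LocalizedModule.mk_eq.2 ⟨1, ?_⟩
    simp only [one_smul, Submonoid.smul_def, Submonoid.coe_mul]
    rw [hD]
    module

variable (θ)

/-- a chain map satisfying the Leibniz rule -/
def HasDer (K : CochainComplex (ModuleCat.{u} A) ℤ) : Prop :=
  ∃ D : ∀ q, K.X q →+ K.X q, (∀ q, Leib θ (D q)) ∧
    ∀ (p q : ℤ) (x : K.X p), D q ((K.d p q).hom x) = (K.d p q).hom (D p x)

variable {θ}

theorem HasDer.cocone {K : CochainComplex (ModuleCat.{u} A) ℤ} (h : HasDer θ K) (f : A) :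
    HasDer θ (mappingCocone (DerCA.locCxUnit (Submonoid.powers f) K)) := by
  obtain ⟨D, hD, hc⟩ := h
  choose D' hD' hu using fun q => exists_loc_derivation (Submonoid.powers f) (hD q)
  set φ := DerCA.locCxUnit (Submonoid.powers f) K
  have hunit : ∀ q (c : K.X q), D' q ((φ.f q).hom c) = (φ.f q).hom (D q c) := hu
  have hcl : ∀ p q (y : ((DerCA.locCx (Submonoid.powers f)).obj K).X p),
      D' q ((((DerCA.locCx (Submonoid.powers f)).obj K).d p q).hom y) =
        (((DerCA.locCx (Submonoid.powers f)).obj K).d p q).hom (D' p y) := by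
    intro p q y
    obtain ⟨c, n, hy⟩ := exists_loc f K p y
    have h1 : D' q ((((DerCA.locCx (Submonoid.powers f)).obj K).d p q).hom (f ^ n • y)) =
        (((DerCA.locCx (Submonoid.powers f)).obj K).d p q).hom (D' p (f ^ n • y)) := by
      rw [hy, locUnit_d, hunit, hc, hunit, locUnit_d]
    rw [map_smul, hD' q, hD' p, map_add, map_smul, map_smul] at h1
    exact smul_pow_injective f K q n (add_left_cancel h1)
  have afst_add : ∀ {q : ℤ} (x y : (mappingCocone φ).X q), afst φ (x + y) = afst φ x + afst φ y :=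
    fun {q} x y => map_add ((mappingCone.fst φ).1.v (q + -1) q (by omega)).hom x y
  have asnd_add : ∀ {q p : ℤ} (hp : p + 1 = q) (x y : (mappingCocone φ).X q),
      asnd φ hp (x + y) = asnd φ hp x + asnd φ hp y := fun {q p} hp x y =>
    (congrArg (((DerCA.locCx (Submonoid.powers f)).obj K).XIsoOfEq (show q + -1 = p by omega)).hom.hom
      (map_add ((mappingCone.snd φ).v (q + -1) (q + -1) (add_zero _)).hom x y)).trans (map_add _ _ _)
  let G : ∀ q, (mappingCocone φ).X q →+ (mappingCocone φ).X q := fun q =>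
    AddMonoidHom.mk' (fun x => amk φ (sub_add_cancel q 1) (D q (afst φ x)) (D' (q - 1) (asnd φ (sub_add_cancel q 1) x)))
      fun x y => cocone_ext φ (sub_add_cancel q 1)
        ((afst_amk φ _ _ _).trans <| (congrArg (D q) (afst_add x y)).trans <| (map_add _ _ _).trans
          ((afst_add _ _).trans (congrArg₂ (· + ·) (afst_amk φ _ _ _) (afst_amk φ _ _ _))).symm)
        ((asnd_amk φ _ _ _).trans <| (congrArg (D' (q - 1)) (asnd_add (sub_add_cancel q 1) x y)).trans <| (map_add _ _ _).trans
          ((asnd_add (sub_add_cancel q 1) _ _).trans (congrArg₂ (· + ·) (asnd_amk φ (sub_add_cancel q 1) _ _) (asnd_amk φ (sub_add_cancel q 1) _ _))).symm)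
  have hG1 : ∀ q x, afst φ (G q x) = D q (afst φ x) := fun q x => afst_amk φ (sub_add_cancel q 1) _ _
  have hG2 : ∀ q p (hp : p + 1 = q) x, asnd φ hp (G q x) = D' p (asnd φ hp x) := fun q p hp x => by
    obtain rfl : p = q - 1 := by omega
    exact asnd_amk φ (sub_add_cancel q 1) _ _
  refine ⟨G, fun q a x => cocone_ext φ (sub_add_cancel q 1) ?_ ?_, fun q r x => ?_⟩
  · rw [hG1, afst_smul, hD, afst_add, afst_smul, afst_smul, hG1]
  · rw [hG2, asnd_smul, hD', asnd_add, asnd_smul, asnd_smul, hG2]
  · by_cases hr : q + 1 = r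
    · refine cocone_ext φ hr ?_ ?_
      · rw [hG1, afst_d φ q r hr, afst_d φ q r hr, hG1, hc]
      · rw [hG2, asnd_d φ (q - 1) q r (sub_add_cancel q 1) hr, asnd_d φ (q - 1) q r (sub_add_cancel q 1) hr,
          hG1, hG2, map_neg, map_add, hunit, hcl]
    · have h0 : (mappingCocone φ).d q r = 0 := (mappingCocone φ).shape q r hr
      rw [h0]
      simp

theorem hasDer_extCech : ∀ fs : List A, HasDer θ (DerCA.extCech (ModuleCat.of A A) fs)
  | [] => by
      let e := (HomologicalComplex.singleObjXSelf (ComplexShape.up ℤ) (0 : ℤ) (ModuleCat.of A A)).toLinearEquiv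
      have hD0 : Leib θ (θ.toLinearMap.toAddMonoidHom : A →+ A) := fun a x => by
        show θ (a • x) = θ a • x + a • θ x
        simp only [smul_eq_mul, Derivation.leibniz]; ring
      let K := (HomologicalComplex.single (ModuleCat.{u} A) (ComplexShape.up ℤ) 0).obj (ModuleCat.of A A)
      have hex : ∀ q, ∃ D : K.X q →+ K.X q, Leib θ D := by
        intro q
        by_cases hq : q = 0
        · subst hq
          refine ⟨(e.symm.toAddMonoidHom.comp (θ.toLinearMap.toAddMonoidHom.comp e.toAddMonoidHom)), fun a x => ?_⟩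
          show e.symm (θ (e (a • x))) = θ a • x + a • e.symm (θ (e x))
          rw [map_smul, show θ (a • e x) = θ a • e x + a • θ (e x) from hD0 a (e x), map_add, map_smul, map_smul,
            LinearEquiv.symm_apply_apply]
        · have : Subsingleton (K.X q) := ModuleCat.subsingleton_of_isZero
            (HomologicalComplex.isZero_single_obj_X _ _ _ _ hq)
          exact ⟨0, fun a x => Subsingleton.elim _ _⟩
      choose D hD using hex
      exact ⟨D, hD, fun p q x => by
        have h0 : (DerCA.extCech (ModuleCat.of A A) []).d p q = 0 := HomologicalComplex.single_obj_d _ _ _ _ _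
        rw [h0]; exact map_zero _⟩
  | f :: fs => (hasDer_extCech fs).cocone f

theorem exists_homology {K : CochainComplex (ModuleCat.{u} A) ℤ} (h : HasDer θ K) (q : ℤ) :
    ∃ D : K.homology q →+ K.homology q, Leib θ D := by
  obtain ⟨D, hD, hc⟩ := h
  let S := K.sc q
  let Dz : LinearMap.ker S.g.hom →+ LinearMap.ker S.g.hom :=
    AddMonoidHom.mk' (fun z => ⟨D q z.1, LinearMap.mem_ker.2 ((hc _ _ _).symm.trans ((congrArg (D _) (LinearMap.mem_ker.1 z.2)).trans (map_zero _)))⟩)
      fun z w => Subtype.ext (map_add (D q) _ _)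
  let B := LinearMap.range S.moduleCatToCycles
  have hB : B.toAddSubgroup ≤ B.toAddSubgroup.comap Dz := by
    rintro _ ⟨y, rfl⟩
    exact ⟨D _ y, Subtype.ext (hc _ _ y).symm⟩
  let Dh : (LinearMap.ker S.g.hom ⧸ B) →+ (LinearMap.ker S.g.hom ⧸ B) :=
    QuotientAddGroup.map B.toAddSubgroup B.toAddSubgroup Dz hB
  let e : K.homology q ≃ₗ[A] (LinearMap.ker S.g.hom ⧸ B) := S.moduleCatHomologyIso.toLinearEquiv
  refine ⟨e.symm.toAddMonoidHom.comp (Dh.comp e.toAddMonoidHom), fun a x => ?_⟩
  obtain ⟨z, hz⟩ := Submodule.Quotient.mk_surjective B (e x)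
  have h1 : Dh (a • Submodule.Quotient.mk z) = θ a • Submodule.Quotient.mk z + a • Dh (Submodule.Quotient.mk z) := by
    show Submodule.Quotient.mk (p := B) (Dz (a • z)) = Submodule.Quotient.mk (θ a • z + a • Dz z)
    congr 1
    exact Subtype.ext (hD q a z.1)
  rw [hz] at h1
  show e.symm (Dh (e (a • x))) = θ a • x + a • e.symm (Dh (e x))
  rw [map_smul, h1, map_add, map_smul, map_smul, LinearEquiv.symm_apply_apply]

theorem exists_H [IsNoetherianRing A] (I : Ideal A) (i : ℕ) :
    ∃ D : _root_.LocCoh.H I i A →+ _root_.LocCoh.H I i A, Leib θ D := by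
  obtain ⟨s, hs⟩ := IsNoetherian.noetherian I
  have hI : Ideal.span {a : A | a ∈ s.toList} = I := by simpa using hs
  subst hI
  obtain ⟨e⟩ := nonempty_H_equiv s.toList i (ModuleCat.of A A)
  obtain ⟨D, hD⟩ := exists_homology (hasDer_extCech (θ := θ) s.toList) (i : ℤ)
  refine ⟨e.toAddMonoidHom.comp (D.comp e.symm.toAddMonoidHom), fun a ξ => ?_⟩
  show e (D (e.symm (a • ξ))) = θ a • ξ + a • e (D (e.symm ξ))
  rw [map_smul, hD, map_add, map_smul, map_smul, LinearEquiv.apply_symm_apply]

end Groth.Agent.CAlgH3.LocCohDerivation
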