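import Groth.Agent.LocCoh.FinitenessRegular
import Mathlib.Algebra.Module.FinitePresentation

/-! Annihilators of local cohomology of modules that are locally free off `V(I)`. -/

set_option autoImplicit false

universe u

namespace Groth.Agent.CAlgH3.LocFreeKill

open Groth.Agent.LocCoh

variable {A : Type u} [CommRing A] [IsNoetherianRing A]

theorem exists_factor (f : A) (M : Type u) [AddCommGroup M] [Module A M] [Module.Finite A M]
    [Module.Projective (Localization.Away f) (LocalizedModule (Submonoid.powers f) M)] :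
    ∃ (k N : ℕ) (π : (Fin k → A) →ₗ[A] M) (φ : M →ₗ[A] (Fin k → A)), π.comp φ = f ^ N • LinearMap.id := by
  obtain ⟨k, π, hπ⟩ := Module.Finite.exists_fin' A M
  let S := Submonoid.powers f
  let πf := LocalizedModule.map S π
  obtain ⟨s, hs⟩ := Module.projective_lifting_property πf
    (LinearMap.id : LocalizedModule S M →ₗ[Localization S] LocalizedModule S M)
    (LocalizedModule.map_surjective S π hπ)
  haveI := Module.finitePresentation_of_finite A M
  obtain ⟨φ, ⟨_, n, rfl⟩, hφ⟩ := Module.FinitePresentation.exists_lift_of_isLocalizedModule S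
    (LocalizedModule.mkLinearMap S (Fin k → A)) ((s.restrictScalars A).comp (LocalizedModule.mkLinearMap S M))
  have hcomp : (LocalizedModule.mkLinearMap S M).comp (π.comp φ) =
      (LocalizedModule.mkLinearMap S M).comp (f ^ n • LinearMap.id) := by
    ext m
    have h1 := LinearMap.congr_fun hφ m
    simp only [LinearMap.comp_apply, LinearMap.smul_apply, Submonoid.smul_def, LinearMap.restrictScalars_apply] at h1
    have h2 : πf (LocalizedModule.mkLinearMap S (Fin k → A) (φ m)) = LocalizedModule.mkLinearMap S M (π (φ m)) :=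
      LocalizedModule.map_mk S π (φ m) 1
    have h3 : πf (s (LocalizedModule.mkLinearMap S M m)) = LocalizedModule.mkLinearMap S M m :=
      LinearMap.congr_fun hs _
    simp only [LinearMap.comp_apply, LinearMap.smul_apply, LinearMap.id_apply]
    rw [← h2, h1, πf.map_smul_of_tower, h3, map_smul]
  obtain ⟨⟨_, m, rfl⟩, hm⟩ := Module.Finite.exists_smul_of_comp_eq_of_isLocalizedModule S
    (LocalizedModule.mkLinearMap S M) _ _ hcomp
  refine ⟨k, m + n, π, f ^ m • φ, ?_⟩
  rw [LinearMap.comp_smul, pow_add, mul_smul]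
  exact hm

theorem smul_H_pi_eq_zero (I : Ideal A) (i : ℕ) {a : A} (ha : ∀ x : _root_.LocCoh.H I i A, a • x = 0) (k : ℕ)
    (z : _root_.LocCoh.H I i (Fin k → A)) : a • z = 0 := by
  classical
  have hid : (LinearMap.id : (Fin k → A) →ₗ[A] (Fin k → A)) =
      ∑ j, (LinearMap.single A (fun _ => A) j).comp (LinearMap.proj j) := by
    refine LinearMap.ext fun v => ?_
    rw [LinearMap.sum_apply]
    exact (Finset.univ_sum_single v).symm
  have hsum : ∀ (s : Finset (Fin k)) (g : Fin k → (Fin k → A) →ₗ[A] (Fin k → A)),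
      Hmap I i (∑ j ∈ s, g j) = ∑ j ∈ s, Hmap I i (g j) := by
    intro s g
    induction s using Finset.induction_on with
    | empty => simp
    | insert b s hb ih => rw [Finset.sum_insert hb, Finset.sum_insert hb, Hmap_add, ih]
  calc a • z = a • Hmap I i LinearMap.id z := by rw [Hmap_id, LinearMap.id_apply]
    _ = 0 := by
      rw [hid, hsum, LinearMap.sum_apply, Finset.smul_sum]
      refine Finset.sum_eq_zero fun j _ => ?_
      rw [Hmap_comp, LinearMap.comp_apply, ← map_smul, ha, map_zero]

theorem main (J I : Ideal A) (hJI : J ≤ I) (i n : ℕ) (hA : ∀ a ∈ J ^ n, ∀ x : _root_.LocCoh.H I i A, a • x = 0)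
    (M : Type u) [AddCommGroup M] [Module A M] [Module.Finite A M]
    (hM : ∀ f ∈ I, Module.Projective (Localization.Away f) (LocalizedModule (Submonoid.powers f) M)) :
    ∃ m : ℕ, ∀ a ∈ J ^ m, ∀ x : _root_.LocCoh.H I i M, a • x = 0 := by
  let K : Ideal A := Module.annihilator A (_root_.LocCoh.H I i M)
  have hrad : I ≤ (K.colon (↑(J ^ n) : Set A)).radical := by
    intro f hf
    haveI := hM f hf
    obtain ⟨k, N, π, φ, h⟩ := exists_factor f M
    refine ⟨N, Submodule.mem_colon.2 fun a ha => ?_⟩
    rw [smul_eq_mul, Module.mem_annihilator]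
    intro x
    rw [mul_comm, mul_smul, show f ^ N • x = Hmap I i (f ^ N • LinearMap.id : M →ₗ[A] M) x by
      rw [Hmap_smul, Hmap_id]; rfl, ← h, Hmap_comp, LinearMap.comp_apply, ← map_smul,
      smul_H_pi_eq_zero I i (hA a ha) k, map_zero]
  obtain ⟨m, hm⟩ := Ideal.exists_pow_le_of_le_radical_of_fg (hJI.trans hrad) (IsNoetherian.noetherian _)
  refine ⟨m + n, fun a ha x => ?_⟩
  have hle : J ^ (m + n) ≤ K := by
    rw [pow_add, Ideal.mul_le]
    intro b hb c hc
    simpa [mul_comm] using Submodule.mem_colon.1 (hm hb) c hc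
  exact Module.mem_annihilator.1 (hle ha) x

theorem finite (I : Ideal A) (n : ℕ) (hR : ∀ i : ℕ, i ≤ n → Module.Finite A (_root_.LocCoh.H I i A))
    (M : Type u) [AddCommGroup M] [Module A M] [Module.Finite A M]
    (hM : ∀ f ∈ I, Module.Projective (Localization.Away f) (LocalizedModule (Submonoid.powers f) M)) :
    ∀ i : ℕ, i ≤ n → Module.Finite A (_root_.LocCoh.H I i M) := by
  have h : ∀ i : Fin (n + 1), ∃ m, ∀ a ∈ I ^ m, ∀ x : _root_.LocCoh.H I i M, a • x = 0 := fun i => by
    haveI := hR i (Nat.le_of_lt_succ i.2)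
    obtain ⟨k, hk⟩ := exists_pow_smul_H_eq_zero I A (i : ℕ)
    exact main I I le_rfl i k hk M hM
  choose m hm using h
  refine (finite_H_iff_annihilated I M n).2 ⟨I ^ Finset.univ.sup m,
    fun a ha => ⟨_, Ideal.pow_mem_pow ha _⟩, fun i hi a ha x => ?_⟩
  exact hm ⟨i, Nat.lt_succ_of_le hi⟩ a (Ideal.pow_le_pow_right (Finset.le_sup (f := m) (Finset.mem_univ _)) ha) x

end Groth.Agent.CAlgH3.LocFreeKill
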