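import Groth.Agent.CAlgH3.KrullFamily
import Groth.Agent.CAlgH.NagataComplete
import Groth.Agent.CAlgMisc2.Normal
import Mathlib.RingTheory.DiscreteValuationRing.TFAE
import Mathlib.RingTheory.AdicCompletion.LocalRing
import Mathlib.RingTheory.QuasiFinite.Basic

/-! The integral closure of a Noetherian local domain through its completion (Mori–Nagata). -/

universe u

open IsLocalRing TensorProduct

namespace Groth.Agent.CAlgH3.Mori

/-- Restricting a discrete valuation subring to a subfield gives a discrete one (or the field). -/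
theorem isDVR_comap {K L : Type u} [Field K] [Field L] (f : K →+* L) (V : ValuationSubring L)
    [IsDiscreteValuationRing V] (h : V.comap f ≠ ⊤) : IsDiscreteValuationRing (V.comap f) := by
  classical
  obtain ⟨ϖ, hϖ⟩ := IsDiscreteValuationRing.exists_irreducible V
  let W := V.comap f
  have key : ∀ x : W, x ≠ 0 → ∃ a : ℕ, V.valuation (f x) = V.valuation (ϖ : L) ^ a := by
    intro x hx
    let x' : V := ⟨f x, x.2⟩
    have hx' : x' ≠ 0 := fun hh => hx (Subtype.ext ((map_eq_zero f).1 (congrArg Subtype.val hh)))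
    obtain ⟨a, w, hw⟩ := IsDiscreteValuationRing.eq_unit_mul_pow_irreducible hx' hϖ
    refine ⟨a, ?_⟩
    have := congrArg (fun z : V => V.valuation (z : L)) hw
    simpa [x', (V.valuation_eq_one_iff (w : V)).1 w.isUnit] using this
  choose! ord hord using key
  have hdvd : ∀ a b : W, a ≠ 0 → b ≠ 0 → ord a ≤ ord b → a ∣ b := by
    intro a b ha hb hab
    have hfa : f a ≠ 0 := (map_ne_zero f).2 (fun hh => ha (Subtype.ext hh))
    have hmem : f ((b : K) / a) ∈ V := by
      rw [← V.valuation_le_one_iff, map_div₀, map_div₀, hord b hb, hord a ha]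
      apply div_le_one_of_le₀ _ zero_le
      exact pow_le_pow_right_of_le_one' ((V.valuation_le_one_iff _).2 ϖ.2) hab
    refine ⟨⟨(b : K) / a, hmem⟩, Subtype.ext ?_⟩
    change (b : K) = (a : K) * ((b : K) / a)
    rw [mul_div_cancel₀]
    exact fun hh => ha (Subtype.ext hh)
  have hpid : IsPrincipalIdealRing W := by
    refine ⟨fun I => ?_⟩
    by_cases hI : I = ⊥
    · exact ⟨⟨0, by simp [hI]⟩⟩
    obtain ⟨a, haI, ha⟩ := Submodule.exists_mem_ne_zero_of_ne_bot hI
    have hex : ∃ n, ∃ b ∈ I, b ≠ 0 ∧ ord b = n := ⟨_, a, haI, ha, rfl⟩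
    obtain ⟨b, hbI, hb, hbn⟩ := Nat.find_spec hex
    refine ⟨⟨b, le_antisymm (fun c hc => ?_) ((Submodule.span_singleton_le_iff_mem _ _).2 hbI)⟩⟩
    by_cases hc0 : c = 0
    · rw [hc0]; exact zero_mem _
    · exact Ideal.mem_span_singleton.2 (hdvd b c hb hc0 (hbn ▸ Nat.find_min' hex ⟨c, hc, hc0, rfl⟩))
  obtain ⟨y, hy⟩ : ∃ y : K, y ∉ W := by
    by_contra! hh
    exact h (SetLike.ext fun x => ⟨fun _ => ValuationSubring.mem_top x, fun _ => hh x⟩)
  have hy' : y⁻¹ ∈ W := (W.mem_or_inv_mem y).resolve_left hy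
  exact { hpid, (inferInstance : IsLocalRing W) with
    not_a_field' := fun hm => by
      have h1 : (⟨y⁻¹, hy'⟩ : W) ∈ maximalIdeal W := by
        rw [IsLocalRing.mem_maximalIdeal]
        intro hu
        obtain ⟨u, hu⟩ := hu
        refine hy ?_
        have hv : ((u.inv : W) : K) * y⁻¹ = 1 := by
          have := congrArg Subtype.val u.inv_val
          rw [MulMemClass.coe_mul, hu] at this
          simpa using this
        rw [← eq_of_mul_inv_eq_one hv]
        exact u.inv.2
      rw [hm, Ideal.mem_bot] at h1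
      have h2 : y⁻¹ = 0 := congrArg Subtype.val h1
      exact hy (by rw [inv_eq_zero.1 h2]; exact zero_mem _) }

/-- In a Noetherian domain finitely many height-one primes contain a nonzero element. -/
theorem finite_height_one {D : Type u} [CommRing D] [IsDomain D] [IsNoetherianRing D] {b : D} (hb : b ≠ 0) :
    {q : Ideal D | q.IsPrime ∧ q.height = 1 ∧ b ∈ q}.Finite := by
  refine (Ideal.finite_minimalPrimes_of_isNoetherianRing D (Ideal.span {b})).subset ?_
  rintro q ⟨hq, hh, hbq⟩
  refine ⟨⟨hq, (Ideal.span_singleton_le_iff_mem _).2 hbq⟩, fun J hJ hJq => ?_⟩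
  have : J.IsPrime := hJ.1
  by_contra hne
  have hlt : J < q := lt_of_le_of_ne hJq fun e => hne e.ge
  have h2 := Ideal.height_strict_mono_of_isPrime (J := q) hlt
  rw [hh, ENat.lt_one_iff_eq_zero, Ideal.height_eq_zero_iff, IsDomain.minimalPrimes_eq_singleton_bot,
    Set.mem_singleton_iff] at h2
  exact hb (by simpa [h2] using hJ.2 (Ideal.mem_span_singleton_self b))

section

variable {A : Type u} [CommRing A] [IsDomain A] (K : Type u) [Field K] [Algebra A K] [IsFractionRing A K]
variable (Ah : Type u) [CommRing Ah] [IsNoetherianRing Ah] [Algebra A Ah] [Module.FaithfullyFlat A Ah]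
variable (P : Ideal Ah) [P.IsPrime]

/-- The fraction field of a component. -/
abbrev L := FractionRing (Ah ⧸ P)

/-- The normalisation of a component. -/
abbrev D := integralClosure (Ah ⧸ P) (L Ah P)

variable {K Ah P}

theorem injective_component (hP : P ∈ minimalPrimes Ah) : Function.Injective (algebraMap A (L Ah P)) := by
  rw [injective_iff_map_eq_zero]
  intro a ha
  by_contra ha0
  rw [IsScalarTower.algebraMap_apply A (Ah ⧸ P) (L Ah P), map_eq_zero_iff _ (IsFractionRing.injective (Ah ⧸ P) _),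
    IsScalarTower.algebraMap_apply A Ah (Ah ⧸ P), Ideal.Quotient.algebraMap_eq, Ideal.Quotient.eq_zero_iff_mem] at ha
  refine notMem_nonZeroDivisors_of_mem_mem_minimalPrimes ha hP ?_
  rw [mem_nonZeroDivisors_iff_right]
  intro w hw
  have hr : IsSMulRegular Ah a := Module.Flat.isSMulRegular_of_nonZeroDivisors (mem_nonZeroDivisors_of_ne_zero ha0)
  apply hr
  change a • w = a • (0 : Ah)
  rw [smul_zero, Algebra.smul_def, mul_comm]; exact hw

variable (A K)

/-- The embedding of the fraction field in that of a component. -/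
noncomputable def φ (hP : P ∈ minimalPrimes Ah) : K →ₐ[A] L Ah P :=
  IsFractionRing.liftAlgHom (g := Algebra.ofId A (L Ah P)) (injective_component hP)

theorem isIntegral_φ (hP : P ∈ minimalPrimes Ah) {x : K} (hx : IsIntegral A x) :
    IsIntegral (Ah ⧸ P) (φ A K hP x) :=
  (hx.map (φ A K hP)).tower_top

/-- `A'` is cut out by the normalisations of the components. -/
theorem isIntegral_of_forall {x : K}
    (hx : ∀ (P : Ideal Ah) [P.IsPrime] (hP : P ∈ minimalPrimes Ah), IsIntegral (Ah ⧸ P) (φ A K hP x)) :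
    IsIntegral A x := by
  classical
  obtain ⟨a, b, hb, rfl⟩ := IsFractionRing.div_surjective A x
  have hbK : algebraMap A K b ≠ 0 := IsFractionRing.to_map_ne_zero_of_mem_nonZeroDivisors hb
  have key : ∀ P : minimalPrimes Ah, ∃ f : Polynomial Ah, f.Monic ∧ (f.scaleRoots (algebraMap A Ah b)).eval (algebraMap A Ah a) ∈ P.1 := by
    intro P
    have := P.2.1.1
    obtain ⟨f₀, hf₀, hev⟩ := hx P.1 P.2
    obtain ⟨f, hf, -, hfm⟩ := Polynomial.lifts_and_natDegree_eq_and_monic
      (f := Ideal.Quotient.mk P.1) (p := f₀) (Polynomial.map_surjective _ Ideal.Quotient.mk_surjective f₀) hf₀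
    refine ⟨f, hfm, ?_⟩
    rw [← Ideal.Quotient.eq_zero_iff_mem]
    apply IsFractionRing.injective (Ah ⧸ P.1) (L Ah P.1)
    rw [map_zero, ← Polynomial.eval₂_at_apply, Polynomial.hom_eval₂]
    let g : Ah →+* L Ah P.1 := (algebraMap (Ah ⧸ P.1) (L Ah P.1)).comp (Ideal.Quotient.mk P.1)
    change Polynomial.eval₂ g (g (algebraMap A Ah a)) (f.scaleRoots (algebraMap A Ah b)) = 0
    have hga : g (algebraMap A Ah a) = g (algebraMap A Ah b) * φ A K P.2 (algebraMap A K a / algebraMap A K b) := by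
      have h1 : ∀ r : A, g (algebraMap A Ah r) = φ A K P.2 (algebraMap A K r) := fun r => by
        rw [AlgHom.commutes, IsScalarTower.algebraMap_apply A (Ah ⧸ P.1) (L Ah P.1)]; rfl
      rw [h1, h1, ← map_mul, mul_div_cancel₀ _ hbK]
    rw [hga]
    refine Polynomial.scaleRoots_eval₂_eq_zero g ?_
    rw [show g = (algebraMap (Ah ⧸ P.1) (L Ah P.1)).comp (Ideal.Quotient.mk P.1) from rfl, ← Polynomial.eval₂_map, hf]
    exact hev
  choose f hfm hfP using key
  have : Fintype (minimalPrimes Ah) := (minimalPrimes.finite_of_isNoetherianRing Ah).fintype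
  let F := ∏ P : minimalPrimes Ah, f P
  have hFm : F.Monic := Polynomial.monic_prod_of_monic _ _ fun P _ => hfm P
  have : Nontrivial Ah := (FaithfulSMul.algebraMap_injective A Ah).nontrivial
  let bb := algebraMap A Ah b
  let aa := algebraMap A Ah a
  have hmul : ∀ p q : Polynomial Ah, p.Monic → q.Monic → (p * q).scaleRoots bb = p.scaleRoots bb * q.scaleRoots bb :=
    fun p q hp hq => Polynomial.mul_scaleRoots' _ _ _ (by rw [hp.leadingCoeff, hq.leadingCoeff, mul_one]; exact one_ne_zero)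
  have hFnil : IsNilpotent ((F.scaleRoots bb).eval aa) := by
    rw [nilpotent_iff_mem_prime]
    intro J hJ
    obtain ⟨Q, hQ, hQJ⟩ := Ideal.exists_minimalPrimes_le (bot_le : (⊥ : Ideal Ah) ≤ J)
    have hsplit : F = f ⟨Q, hQ⟩ * ∏ P ∈ Finset.univ.erase ⟨Q, hQ⟩, f P := (Finset.mul_prod_erase _ f (Finset.mem_univ _)).symm
    rw [hsplit, hmul _ _ (hfm _) (Polynomial.monic_prod_of_monic _ _ fun P _ => hfm P), Polynomial.eval_mul]
    exact J.mul_mem_right _ (hQJ (hfP ⟨Q, hQ⟩))
  obtain ⟨N, hN⟩ := hFnil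
  let G := F ^ N
  have hG : (G.scaleRoots bb).eval aa = 0 := by
    change ((F ^ N).scaleRoots bb).eval aa = 0
    rw [Polynomial.pow_scaleRoots' _ _ _ (by rw [hFm.leadingCoeff, one_pow]; exact one_ne_zero), Polynomial.eval_pow]
    exact hN
  have hGm : G.Monic := hFm.pow N
  let n := G.natDegree
  let J : Ideal A := Ideal.span (Set.range fun k : Fin n => a ^ (k : ℕ) * b ^ (n - k))
  have hanJ : a ^ n ∈ J := by
    rw [← Ideal.comap_map_eq_self_of_faithfullyFlat (B := Ah) J, Ideal.mem_comap, map_pow]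
    rw [Polynomial.eval_eq_sum_range, Polynomial.natDegree_scaleRoots, Finset.sum_range_succ, Polynomial.coeff_scaleRoots_natDegree,
      hGm.leadingCoeff, one_mul] at hG
    rw [show algebraMap A Ah a ^ n = aa ^ G.natDegree from rfl, eq_neg_of_add_eq_zero_right hG]
    refine Submodule.neg_mem _ (Ideal.sum_mem _ fun k hk => ?_)
    rw [Polynomial.coeff_scaleRoots, mul_assoc]
    refine Ideal.mul_mem_left _ _ ?_
    have : bb ^ (G.natDegree - k) * aa ^ k = algebraMap A Ah (a ^ k * b ^ (n - k)) := by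
      rw [map_mul, map_pow, map_pow, mul_comm]
    rw [this]
    exact Ideal.mem_map_of_mem _ (Ideal.subset_span ⟨⟨k, Finset.mem_range.1 hk⟩, rfl⟩)
  obtain ⟨c, hc⟩ := (Submodule.mem_span_range_iff_exists_fun A).1 hanJ
  refine ⟨Polynomial.X ^ n - ∑ k : Fin n, Polynomial.C (c k) * Polynomial.X ^ (k : ℕ), ?_, ?_⟩
  · refine Polynomial.monic_X_pow_sub ((Polynomial.degree_sum_le _ _).trans_lt ?_)
    rw [Finset.sup_lt_iff (WithBot.bot_lt_coe _)]
    intro k _
    exact (Polynomial.degree_C_mul_X_pow_le _ _).trans_lt (by exact_mod_cast k.2)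
  · rw [Polynomial.eval₂_sub, Polynomial.eval₂_X_pow, Polynomial.eval₂_finsetSum, sub_eq_zero, div_pow,
      div_eq_iff (pow_ne_zero _ hbK), Finset.sum_mul, ← map_pow, ← hc, map_sum]
    refine Finset.sum_congr rfl fun k _ => ?_
    rw [Polynomial.eval₂_mul, Polynomial.eval₂_C, Polynomial.eval₂_X_pow, smul_eq_mul, map_mul, map_mul, map_pow, map_pow, div_pow,
      mul_assoc]
    congr 1
    rw [div_mul_eq_mul_div, eq_div_iff (pow_ne_zero _ hbK), mul_assoc, ← pow_add,
      Nat.sub_add_cancel k.2.le]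

/-- The map to the normalisation of a component. -/
noncomputable def ψ (hP : P ∈ minimalPrimes Ah) : integralClosure A K →ₐ[A] D Ah P where
  toFun x := ⟨φ A K hP x, isIntegral_φ A K hP x.2⟩
  map_one' := Subtype.ext (map_one (φ A K hP))
  map_mul' x y := Subtype.ext (map_mul (φ A K hP) (x : K) y)
  map_zero' := Subtype.ext (map_zero (φ A K hP))
  map_add' x y := Subtype.ext (map_add (φ A K hP) (x : K) y)
  commutes' r := Subtype.ext ((φ A K hP).commutes r)

theorem exists_denominator (z : integralClosure A K ⊗[A] Ah) :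
    ∃ b : A, b ≠ 0 ∧ ∃ y : Ah, b • z = 1 ⊗ₜ y := by
  induction z with
  | zero => exact ⟨1, one_ne_zero, 0, by simp⟩
  | tmul x w =>
    obtain ⟨a, b, hb, hab⟩ := IsFractionRing.div_surjective A (x : K)
    refine ⟨b, nonZeroDivisors.ne_zero hb, a • w, ?_⟩
    have hx : b • x = a • (1 : integralClosure A K) := Subtype.ext (by
      change b • (x : K) = a • (1 : K)
      rw [← hab, Algebra.smul_def, Algebra.smul_def, mul_one,
        mul_div_cancel₀ _ (IsFractionRing.to_map_ne_zero_of_mem_nonZeroDivisors hb)])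
    rw [TensorProduct.smul_tmul', hx, TensorProduct.smul_tmul]
  | add u v hu hv =>
    obtain ⟨b, hb, y, hy⟩ := hu
    obtain ⟨c, hc, w, hw⟩ := hv
    refine ⟨b * c, mul_ne_zero hb hc, c • y + b • w, ?_⟩
    rw [smul_add, mul_comm b c, mul_smul, hy, mul_comm c b, mul_smul, hw, TensorProduct.tmul_add,
      TensorProduct.tmul_smul, TensorProduct.tmul_smul]

theorem eq_zero_of_smul {z : integralClosure A K ⊗[A] Ah} {b : A} (hb : b ≠ 0) (h : b • z = (0 : integralClosure A K ⊗[A] Ah)) : z = (0 : integralClosure A K ⊗[A] Ah) := by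
  have hreg : IsSMulRegular (integralClosure A K ⊗[A] Ah) (algebraMap A (integralClosure A K) b) :=
    Module.Flat.isSMulRegular_of_nonZeroDivisors (R := integralClosure A K) (M := integralClosure A K ⊗[A] Ah) (mem_nonZeroDivisors_of_ne_zero
      fun (hh : algebraMap A (integralClosure A K) b = 0) => hb (IsFractionRing.injective A K (by
        rw [map_zero]
        exact (congrArg (fun z : integralClosure A K => (z : K)) hh : _))))
  apply hreg
  change algebraMap A (integralClosure A K) b • z = algebraMap A (integralClosure A K) b • 0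
  rw [algebraMap_smul, h, smul_zero]

theorem isNilpotent_of_component {z : integralClosure A K ⊗[A] Ah}
    (hz : ∀ (P : Ideal Ah) [P.IsPrime] (hP : P ∈ minimalPrimes Ah),
      Algebra.TensorProduct.lift (ψ A K hP) (IsScalarTower.toAlgHom A Ah (D Ah P)) (fun _ _ => Commute.all _ _) z = 0) :
    IsNilpotent z := by
  obtain ⟨b, hb, y, hy⟩ := exists_denominator A K z
  have hynil : IsNilpotent y := by
    rw [nilpotent_iff_mem_prime]
    intro J hJ
    obtain ⟨Q, hQ, hQJ⟩ := Ideal.exists_minimalPrimes_le (bot_le : (⊥ : Ideal Ah) ≤ J)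
    have := hQ.1.1
    refine hQJ ?_
    have h1 := congrArg (Algebra.TensorProduct.lift (ψ A K hQ) (IsScalarTower.toAlgHom A Ah (D Ah Q)) (fun _ _ => Commute.all _ _)) hy
    rw [map_smul, hz Q hQ, smul_zero, Algebra.TensorProduct.lift_tmul, map_one, one_mul] at h1
    have h2 : algebraMap (Ah ⧸ Q) (L Ah Q) (Ideal.Quotient.mk Q y) = 0 := (congrArg Subtype.val h1).symm
    exact Ideal.Quotient.eq_zero_iff_mem.1 ((map_eq_zero_iff _ (IsFractionRing.injective (Ah ⧸ Q) _)).1 h2)
  obtain ⟨N, hN⟩ := hynil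
  refine ⟨N, eq_zero_of_smul A K (pow_ne_zero N hb) ?_⟩
  rw [← smul_pow, hy, Algebra.TensorProduct.tmul_pow, one_pow, hN, TensorProduct.tmul_zero]

/-- Every maximal ideal of `A'` comes from a maximal ideal of some component normalisation. -/
theorem exists_maximal_over (M : Ideal (integralClosure A K)) [hM : M.IsMaximal] :
    ∃ (P : Ideal Ah) (_ : P.IsPrime) (hP : P ∈ minimalPrimes Ah) (q : Ideal (D Ah P)),
      q.IsMaximal ∧ q.comap (ψ A K hP).toRingHom = M := by
  classical
  let B := integralClosure A K ⊗[A] Ah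
  obtain ⟨⟨J, hJ⟩, hJM⟩ := PrimeSpectrum.comap_surjective_of_faithfullyFlat (A := integralClosure A K) (B := B) ⟨M, hM.isPrime⟩
  have hJM' : J.comap (algebraMap (integralClosure A K) B) = M := congrArg PrimeSpectrum.asIdeal hJM
  have : Fintype (minimalPrimes Ah) := (minimalPrimes.finite_of_isNoetherianRing Ah).fintype
  let χ : ∀ P : minimalPrimes Ah, haveI := P.2.1.1; B →ₐ[A] D Ah P.1 := fun P =>
    haveI := P.2.1.1
    Algebra.TensorProduct.lift (ψ A K P.2) (IsScalarTower.toAlgHom A Ah (D Ah P.1)) (fun _ _ => Commute.all _ _)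
  obtain ⟨P, -, hP⟩ : ∃ P ∈ (Finset.univ : Finset (minimalPrimes Ah)), RingHom.ker (χ P).toRingHom ≤ J := by
    rw [← Ideal.IsPrime.inf_le' hJ]
    intro z hz
    obtain ⟨N, hN⟩ := isNilpotent_of_component A K (z := z) (fun Q _ hQ => by
      have := Submodule.mem_finsetInf.1 hz ⟨Q, hQ⟩ (Finset.mem_univ _)
      exact this)
    exact hJ.mem_of_pow_mem N (hN ▸ J.zero_mem)
  have := P.2.1.1
  letI : Algebra B (D Ah P.1) := (χ P).toRingHom.toAlgebra
  have hint : Algebra.IsIntegral B (D Ah P.1) := by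
    refine ⟨fun d => ?_⟩
    obtain ⟨f, hf, hfd⟩ := (Algebra.IsIntegral.isIntegral d : IsIntegral (Ah ⧸ P.1) d)
    obtain ⟨f', hf', -, hfm⟩ := Polynomial.lifts_and_natDegree_eq_and_monic
      (f := Ideal.Quotient.mk P.1) (p := f) (Polynomial.map_surjective _ Ideal.Quotient.mk_surjective f) hf
    refine ⟨f'.map (Algebra.TensorProduct.includeRight : Ah →ₐ[A] B).toRingHom, hfm.map _, ?_⟩
    rw [Polynomial.eval₂_map]
    rw [← hf', Polynomial.eval₂_map] at hfd
    convert! hfd using 2
    ext y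
    change ((χ P (1 ⊗ₜ y) : D Ah P.1) : L Ah P.1) = _
    rw [Algebra.TensorProduct.lift_tmul, map_one, one_mul]
    rfl
  obtain ⟨q, -, hq, hqJ⟩ := Ideal.exists_ideal_over_prime_of_isIntegral J (⊥ : Ideal (D Ah P.1)) (by rwa [← RingHom.ker_eq_comap_bot])
  obtain ⟨q', hq', hqq'⟩ := Ideal.exists_le_maximal q hq.ne_top
  refine ⟨P.1, inferInstance, P.2, q', hq', (hM.eq_of_le (Ideal.comap_ne_top _ hq'.ne_top) ?_).symm⟩
  rw [← hJM', ← hqJ, Ideal.comap_comap]
  refine le_trans (le_of_eq ?_) (Ideal.comap_mono hqq')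
  congr 1
  ext x
  change (χ P (x ⊗ₜ (1 : Ah)) : L Ah P.1) = _
  rw [Algebra.TensorProduct.lift_tmul, map_one, mul_one]
  rfl

/-- `A'` has finitely many maximal ideals. -/
theorem finite_maximal [IsLocalRing Ah]
    (hD : ∀ (P : Ideal Ah) [P.IsPrime], P ∈ minimalPrimes Ah → Module.Finite (Ah ⧸ P) (D Ah P)) :
    {M : Ideal (integralClosure A K) | M.IsMaximal}.Finite := by
  have hS : ∀ P : minimalPrimes Ah, haveI := P.2.1.1; {q : Ideal (D Ah P.1) | q.IsMaximal}.Finite := fun P => by
    have := P.2.1.1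
    have := hD P.1 P.2
    have : Module.Finite Ah (D Ah P.1) := Module.Finite.trans (Ah ⧸ P.1) _
    refine (Algebra.QuasiFinite.finite_primesOver (R := Ah) (S := D Ah P.1) (maximalIdeal Ah)).subset fun q hq => ?_
    have : q.IsMaximal := hq
    exact ⟨hq.isPrime, ⟨(IsLocalRing.eq_maximalIdeal (Ideal.isMaximal_comap_of_isIntegral_of_isMaximal q)).symm⟩⟩
  have : Finite (minimalPrimes Ah) := (minimalPrimes.finite_of_isNoetherianRing Ah).to_subtype
  refine (Set.finite_iUnion (f := fun P : minimalPrimes Ah =>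
      haveI := P.2.1.1
      (fun q : Ideal (D Ah P.1) => q.comap (ψ A K P.2).toRingHom) '' {q | q.IsMaximal}) fun P =>
    haveI := P.2.1.1
    (hS P).image _).subset fun M hM => ?_
  have : M.IsMaximal := hM
  obtain ⟨P, hPp, hP, q, hq, hqM⟩ := exists_maximal_over A K (Ah := Ah) M
  exact Set.mem_iUnion.2 ⟨⟨P, hP⟩, q, hq, hqM⟩

theorem exists_prime_over_pair {R S T : Type u} [CommRing R] [CommRing S] [CommRing T] [Algebra R S] [Algebra R T]
    (P : Ideal S) [P.IsPrime] (Q : Ideal T) [Q.IsPrime] (h : P.comap (algebraMap R S) = Q.comap (algebraMap R T)) :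
    ∃ J : Ideal (S ⊗[R] T), J.IsPrime ∧ (∀ x, x ⊗ₜ 1 ∈ J ↔ x ∈ P) ∧ (∀ y, (1 : S) ⊗ₜ y ∈ J ↔ y ∈ Q) := by
  let p := P.comap (algebraMap R S)
  have : P.LiesOver p := ⟨rfl⟩
  have : Q.LiesOver p := ⟨h⟩
  letI : Algebra p.ResidueField P.ResidueField := (Ideal.ResidueField.mapₐ p P (Algebra.ofId R S) rfl).toRingHom.toAlgebra
  letI : Algebra p.ResidueField Q.ResidueField := (Ideal.ResidueField.mapₐ p Q (Algebra.ofId R T) h).toRingHom.toAlgebra
  have : IsScalarTower R p.ResidueField P.ResidueField := .of_algebraMap_eq fun r => ((Ideal.ResidueField.mapₐ p P (Algebra.ofId R S) rfl).commutes r).symm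
  have : IsScalarTower R p.ResidueField Q.ResidueField := .of_algebraMap_eq fun r => ((Ideal.ResidueField.mapₐ p Q (Algebra.ofId R T) h).commutes r).symm
  let Ω := P.ResidueField ⊗[p.ResidueField] Q.ResidueField
  have : Nontrivial Ω := inferInstance
  obtain ⟨m, hm⟩ := Ideal.exists_maximal Ω
  let gS : S →ₐ[R] Ω := ((Algebra.TensorProduct.includeLeft : P.ResidueField →ₐ[p.ResidueField] Ω).restrictScalars R).comp (IsScalarTower.toAlgHom R S P.ResidueField)
  let gT : T →ₐ[R] Ω := ((Algebra.TensorProduct.includeRight : Q.ResidueField →ₐ[p.ResidueField] Ω).restrictScalars R).comp (IsScalarTower.toAlgHom R T Q.ResidueField)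
  let g : S ⊗[R] T →ₐ[R] Ω := Algebra.TensorProduct.lift gS gT (fun _ _ => Commute.all _ _)
  have hf : ∀ {F : Type u} [Field F] (j : F →+* Ω) (z : F), j z ∈ m ↔ z = 0 := fun j z =>
    ⟨fun hz => by
      by_contra h0
      exact hm.ne_top (m.eq_top_of_isUnit_mem hz ((IsUnit.mk0 z h0).map j)), fun hz => by rw [hz, map_zero]; exact m.zero_mem⟩
  refine ⟨m.comap g.toRingHom, inferInstance, fun x => ?_, fun y => ?_⟩
  · change g (x ⊗ₜ 1) ∈ m ↔ _
    rw [Algebra.TensorProduct.lift_tmul, map_one, mul_one]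
    exact (hf (Algebra.TensorProduct.includeLeft : P.ResidueField →ₐ[p.ResidueField] Ω).toRingHom _).trans Ideal.algebraMap_residueField_eq_zero
  · change g (1 ⊗ₜ y) ∈ m ↔ _
    rw [Algebra.TensorProduct.lift_tmul, map_one, one_mul]
    exact (hf (Algebra.TensorProduct.includeRight : Q.ResidueField →ₐ[p.ResidueField] Ω).toRingHom _).trans Ideal.algebraMap_residueField_eq_zero

/-- Over a prime of `Ah` with a unique component and off the conductor, `A'` has a single prime. -/
theorem le_of_good (hP : P ∈ minimalPrimes Ah) {Q : Ideal Ah} [Q.IsPrime]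
    (hun : ∀ P' ∈ minimalPrimes Ah, P' ≤ Q → P' = P) {c : Ah} (hc : c ∉ Q)
    (hcond : ∀ d : D Ah P, ∃ u : Ah, algebraMap Ah (L Ah P) c * (d : L Ah P) = algebraMap Ah (L Ah P) u)
    (P₁ P₂ : Ideal (integralClosure A K)) [P₁.IsPrime] [P₂.IsPrime]
    (h₁ : P₁.comap (algebraMap A (integralClosure A K)) = Q.comap (algebraMap A Ah))
    (h₂ : P₂.comap (algebraMap A (integralClosure A K)) = Q.comap (algebraMap A Ah)) : P₁ ≤ P₂ := by
  intro x hx
  by_contra hx2
  obtain ⟨a, b, hb, hab⟩ := IsFractionRing.div_surjective A (x : K)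
  obtain ⟨u, hu⟩ := hcond (ψ A K hP x)
  have hbx : b • x = a • (1 : integralClosure A K) := Subtype.ext (by
    change b • (x : K) = a • (1 : K)
    rw [← hab, Algebra.smul_def, Algebra.smul_def, mul_one,
      mul_div_cancel₀ _ (IsFractionRing.to_map_ne_zero_of_mem_nonZeroDivisors hb)])
  let y : Ah := a • c - b • u
  have hyP : y ∈ P := by
    rw [← Ideal.Quotient.eq_zero_iff_mem]
    apply IsFractionRing.injective (Ah ⧸ P) (L Ah P)
    rw [map_zero]
    change algebraMap Ah (L Ah P) (a • c - b • u) = 0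
    have h1 := congrArg (fun z : integralClosure A K => (ψ A K hP z : L Ah P)) hbx
    simp only [map_smul, map_one, SetLike.val_smul, OneMemClass.coe_one] at h1
    rw [map_sub, Algebra.smul_def, Algebra.smul_def, map_mul, map_mul, ← IsScalarTower.algebraMap_apply A Ah,
      ← IsScalarTower.algebraMap_apply A Ah, ← hu]
    rw [Algebra.smul_def, Algebra.smul_def, mul_one] at h1
    change algebraMap A (L Ah P) b * (ψ A K hP x : L Ah P) = algebraMap A (L Ah P) a at h1
    rw [← h1]
    ring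
  obtain ⟨s, hs, N, hN⟩ : ∃ s ∉ Q, ∃ N, s * y ^ N = 0 := by
    have hnil : IsNilpotent (algebraMap Ah (Localization.AtPrime Q) y) := by
      rw [nilpotent_iff_mem_prime]
      intro J hJ
      obtain ⟨hJp, hdisj⟩ := (IsLocalization.isPrime_iff_isPrime_disjoint Q.primeCompl _ J).1 hJ
      obtain ⟨P', hP', hP'J⟩ := Ideal.exists_minimalPrimes_le (bot_le : (⊥ : Ideal Ah) ≤ J.comap (algebraMap Ah (Localization.AtPrime Q)))
      have hJQ : J.comap (algebraMap Ah (Localization.AtPrime Q)) ≤ Q := fun z hz => by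
        by_contra hzQ
        exact Set.disjoint_left.1 hdisj hzQ hz
      have := hun P' hP' (hP'J.trans hJQ)
      exact hP'J (this ▸ hyP)
    obtain ⟨N, hN⟩ := hnil
    rw [← map_pow, IsLocalization.map_eq_zero_iff Q.primeCompl] at hN
    obtain ⟨⟨s, hs⟩, hsN⟩ := hN
    exact ⟨s, hs, N, hsN⟩
  let z : integralClosure A K ⊗[A] Ah := x ⊗ₜ c - 1 ⊗ₜ u
  have hbz : b • z = 1 ⊗ₜ y := by
    change b • (x ⊗ₜ[A] c - 1 ⊗ₜ[A] u) = (1 : integralClosure A K) ⊗ₜ[A] (a • c - b • u)
    rw [smul_sub, TensorProduct.smul_tmul', hbx, TensorProduct.smul_tmul, TensorProduct.tmul_sub, ← TensorProduct.tmul_smul]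
  have hz : (1 ⊗ₜ[A] s : integralClosure A K ⊗[A] Ah) * z ^ N = 0 := by
    refine eq_zero_of_smul A K (pow_ne_zero N (nonZeroDivisors.ne_zero hb)) ?_
    rw [← mul_smul_comm, ← smul_pow, hbz, Algebra.TensorProduct.tmul_pow, one_pow, Algebra.TensorProduct.tmul_mul_tmul, one_mul, hN,
      TensorProduct.tmul_zero]
  have key : ∀ (P' : Ideal (integralClosure A K)) [P'.IsPrime], P'.comap (algebraMap A (integralClosure A K)) = Q.comap (algebraMap A Ah) →
      (u ∈ Q ↔ x ∈ P') := by
    intro P' _ hP'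
    obtain ⟨J, hJ, hJ1, hJ2⟩ := exists_prime_over_pair P' Q hP'
    have hzJ : z ∈ J := by
      refine hJ.mem_of_pow_mem N ((hJ.mem_or_mem (hz ▸ J.zero_mem)).resolve_left fun h => hs ((hJ2 s).1 h))
    have hsplit : x ⊗ₜ[A] c = (x ⊗ₜ[A] (1 : Ah)) * ((1 : integralClosure A K) ⊗ₜ[A] c) := by
      rw [Algebra.TensorProduct.tmul_mul_tmul, mul_one, one_mul]
    constructor
    · intro hu
      have h1 : x ⊗ₜ[A] c ∈ J := by simpa [z] using J.add_mem hzJ ((hJ2 u).2 hu)
      rw [hsplit] at h1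
      exact (hJ1 x).1 ((hJ.mem_or_mem h1).resolve_right fun h => hc ((hJ2 c).1 h))
    · intro hxP
      have h1 : x ⊗ₜ[A] c ∈ J := hsplit ▸ J.mul_mem_right _ ((hJ1 x).2 hxP)
      exact (hJ2 u).1 (by simpa [z] using J.sub_mem h1 hzJ)
  exact hx2 ((key P₂ h₂).1 ((key P₁ h₁).2 hx))

end

end Groth.Agent.CAlgH3.Mori
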