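import Groth.Agent.CAlgH3.MoriFamily
import Mathlib.RingTheory.Localization.Integral

/-! Finitely many primes of the integral closure over a prime of a Noetherian domain. -/

universe u

open IsLocalRing

namespace Groth.Agent.CAlgH3.Mori

theorem finite_primes_over (A K : Type u) [CommRing A] [IsDomain A] [IsNoetherianRing A] [Field K] [Algebra A K] [IsFractionRing A K]
    (p : Ideal A) [p.IsPrime] :
    {P : Ideal (integralClosure A K) | P.IsPrime ∧ P.comap (algebraMap A (integralClosure A K)) = p}.Finite := by
  classical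
  let R := Localization.AtPrime p
  have hu : ∀ s : p.primeCompl, IsUnit (algebraMap A K s) := fun s =>
    IsUnit.mk0 _ (IsFractionRing.to_map_ne_zero_of_mem_nonZeroDivisors (p.primeCompl_le_nonZeroDivisors s.2))
  letI : Algebra R K := (IsLocalization.lift hu : R →+* K).toAlgebra
  have : IsScalarTower A R K := .of_algebraMap_eq fun a => (IsLocalization.lift_eq hu a).symm
  have : IsDomain R := IsLocalization.isDomain_localization p.primeCompl_le_nonZeroDivisors
  have : IsFractionRing R K := IsFractionRing.isFractionRing_of_isDomain_of_isLocalization p.primeCompl R K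
  have hfin := finite_maximal_ideals R K
  let j : integralClosure A K → integralClosure R K := fun x => ⟨x, IsIntegral.tower_top x.2⟩
  let T : Set (Ideal (integralClosure A K)) := {P | P.IsPrime ∧ P.comap (algebraMap A (integralClosure A K)) = p}
  have key : ∀ P ∈ T, ∃ M : Ideal (integralClosure R K), M.IsMaximal ∧ ∀ r, r ∈ P ↔ j r ∈ M := by
    rintro P ⟨hP, hPp⟩
    have hs : ∀ s : A, s ∉ p → algebraMap A (integralClosure A K) s ∉ P := fun s hs h => hs (hPp ▸ h : s ∈ p)
    have hK : ∀ r r' : integralClosure A K, (r : K) = r' → r = r' := fun r r' h => Subtype.ext h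
    let J : Ideal (integralClosure R K) :=
      { carrier := {x | ∃ s : A, s ∉ p ∧ ∃ r ∈ P, algebraMap A K s * (x : K) = r}
        zero_mem' := ⟨1, fun h => ‹p.IsPrime›.ne_top (p.eq_top_of_isUnit_mem h isUnit_one), 0, P.zero_mem, by simp⟩
        add_mem' := by
          rintro x y ⟨s, hs', r, hr, hrx⟩ ⟨t, ht', w, hw, hwy⟩
          refine ⟨s * t, ‹p.IsPrime›.mul_notMem hs' ht', algebraMap A _ t * r + algebraMap A _ s * w,
            P.add_mem (P.mul_mem_left _ hr) (P.mul_mem_left _ hw), ?_⟩
          simp only [Subalgebra.coe_add, Subalgebra.coe_mul, Subalgebra.coe_algebraMap, map_mul, ← hrx, ← hwy]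
          ring
        smul_mem' := by
          rintro c x ⟨s, hs', r, hr, hrx⟩
          obtain ⟨⟨t, ht⟩, hint⟩ := IsIntegral.exists_multiple_integral_of_isLocalization (R := A) (Rₘ := R) p.primeCompl (c : K) c.2
          refine ⟨s * t, ‹p.IsPrime›.mul_notMem hs' ht, ⟨_, hint⟩ * r, P.mul_mem_left _ hr, ?_⟩
          simp only [smul_eq_mul, Subalgebra.coe_mul, map_mul, ← hrx, Submonoid.smul_def, Algebra.smul_def]
          ring }
    have hJP : ∀ r, j r ∈ J ↔ r ∈ P := by
      intro r
      refine ⟨fun ⟨s, hs', w, hw, hwr⟩ => ?_, fun hr => ⟨1, fun h => ‹p.IsPrime›.ne_top (p.eq_top_of_isUnit_mem h isUnit_one), r, hr, by rw [map_one, one_mul]⟩⟩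
      have : algebraMap A (integralClosure A K) s * r = w := hK _ _ hwr
      exact (hP.mem_or_mem (this ▸ hw)).resolve_left (hs s hs')
    have hJprime : J.IsPrime := by
      refine ⟨fun e => ?_, fun {x y} hxy => ?_⟩
      · have h1 : j 1 ∈ J := e ▸ Submodule.mem_top
        exact hP.ne_top (P.eq_top_of_isUnit_mem ((hJP 1).1 h1) isUnit_one)
      · obtain ⟨s, hs', w, hw, hwxy⟩ := hxy
        obtain ⟨⟨a, ha⟩, hax⟩ := IsIntegral.exists_multiple_integral_of_isLocalization (R := A) (Rₘ := R) p.primeCompl (x : K) x.2
        obtain ⟨⟨b, hb⟩, hby⟩ := IsIntegral.exists_multiple_integral_of_isLocalization (R := A) (Rₘ := R) p.primeCompl (y : K) y.2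
        have hprod : algebraMap A (integralClosure A K) s * ((⟨_, hax⟩ : integralClosure A K) * ⟨_, hby⟩) ∈ P := by
          have : algebraMap A (integralClosure A K) s * ((⟨_, hax⟩ : integralClosure A K) * ⟨_, hby⟩) = algebraMap A _ (a * b) * w := by
            apply hK
            simp only [Subalgebra.coe_mul, Subalgebra.coe_algebraMap, map_mul, ← hwxy, Submonoid.smul_def, Algebra.smul_def]
            ring
          rw [this]
          exact P.mul_mem_left _ hw
        rcases hP.mem_or_mem ((hP.mem_or_mem hprod).resolve_left (hs s hs')) with h | h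
        · exact Or.inl ⟨a, ha, _, h, by simp [Submonoid.smul_def, Algebra.smul_def]⟩
        · exact Or.inr ⟨b, hb, _, h, by simp [Submonoid.smul_def, Algebra.smul_def]⟩
    have : Algebra.IsIntegral R (integralClosure R K) := inferInstance
    have hmax : (J.comap (algebraMap R (integralClosure R K))).IsMaximal := by
      have hle : maximalIdeal R ≤ J.comap (algebraMap R (integralClosure R K)) := by
        rw [← Localization.AtPrime.map_eq_maximalIdeal, Ideal.map_le_iff_le_comap]
        intro a ha
        have hja : algebraMap R (integralClosure R K) (algebraMap A R a) = j (algebraMap A (integralClosure A K) a) := Subtype.ext (by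
          change algebraMap R K (algebraMap A R a) = algebraMap A K a
          rw [← IsScalarTower.algebraMap_apply A R K])
        rw [Ideal.mem_comap, Ideal.mem_comap, hja, hJP]
        exact (hPp.ge ha : _)
      rw [← (maximalIdeal.isMaximal R).eq_of_le (Ideal.comap_ne_top _ hJprime.ne_top) hle]
      exact maximalIdeal.isMaximal R
    exact ⟨J, Ideal.isMaximal_of_isIntegral_of_isMaximal_comap J hmax, fun r => (hJP r).symm⟩
  choose! M hM hMP using key
  refine Set.Finite.of_finite_image (hfin.subset ?_) (f := M) ?_
  · rintro _ ⟨P, hP, rfl⟩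
    exact hM P hP
  · intro P hP P' hP' h
    ext r
    rw [hMP P hP, hMP P' hP', h]

end Groth.Agent.CAlgH3.Mori
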