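import Groth.Agent.CAlgH3.CompleteHom
import Mathlib.Algebra.Category.ModuleCat.Ext.Basic
import Mathlib.Algebra.Homology.DerivedCategory.Ext.EnoughProjectives
import Mathlib.Algebra.Homology.DerivedCategory.Ext.Linear
import Mathlib.RingTheory.MvPowerSeries.NoZeroDivisors
import Mathlib.Algebra.Category.ModuleCat.Algebra
import Mathlib.LinearAlgebra.Isomorphisms

/-! Ext¹ between the two branches of a node. -/

universe u

open CategoryTheory Abelian

namespace Groth.Agent.CAlgH3.NodeExt

theorem finrank_ext_one (k : Type u) [Field k] (A : Type u) [CommRing A] [Algebra k A] (x y : A) (hxy : x * y = 0)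
    (hann : ∀ r : A, r * y = 0 → r ∈ Ideal.span {x}) (π : A →+* k) (hπ : ∀ c : k, π (algebraMap k A c) = c)
    (hker : RingHom.ker π = Ideal.span {x} ⊔ Ideal.span {y}) :
    Module.finrank k (Ext (ModuleCat.of A (A ⧸ Ideal.span {y})) (ModuleCat.of A (A ⧸ Ideal.span {x})) 1) = 1 := by
  classical
  let i : ↥(Ideal.span {y}) →ₗ[A] A := Submodule.subtype _
  let q : A →ₗ[A] A ⧸ Ideal.span {y} := Submodule.mkQ _
  let S : ShortComplex (ModuleCat.{u} A) := ShortComplex.mk (ModuleCat.ofHom i) (ModuleCat.ofHom q)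
    (by ext z; exact (Submodule.Quotient.mk_eq_zero _).2 z.2)
  have hS : S.ShortExact :=
    { exact := (ShortComplex.ShortExact.moduleCat_exact_iff_function_exact S).2 (LinearMap.exact_subtype_mkQ _)
      mono_f := (ModuleCat.mono_iff_injective _).2 (Submodule.injective_subtype _)
      epi_g := (ModuleCat.epi_iff_surjective _).2 (Submodule.mkQ_surjective _) }
  let Y : ModuleCat.{u} A := ModuleCat.of A (A ⧸ Ideal.span {x})
  have : Projective (ModuleCat.of A A) :=
    (IsProjective.iff_projective (R := A) (P := A)).1 inferInstance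
  have : Projective S.X₂ := this
  have hxπ : π x = 0 := RingHom.mem_ker.1 (hker.ge (le_sup_left (a := Ideal.span {x}) (Ideal.mem_span_singleton_self x)))
  let e : (A ⧸ Ideal.span {x}) →+* k := Ideal.Quotient.lift _ π fun a ha => by
    obtain ⟨b, rfl⟩ := Ideal.mem_span_singleton.1 ha
    rw [map_mul, hxπ, zero_mul]
  letI hm : Module k (S.X₁ ⟶ Y) := Linear.homModule (R := k) S.X₁ Y
  let y' : ↥(Ideal.span {y}) := ⟨y, Ideal.mem_span_singleton_self y⟩
  let ψ : (S.X₁ ⟶ Y) →ₗ[k] k :=
    { toFun := fun f => e (f.hom y')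
      map_add' := fun f g => by simp [ModuleCat.hom_add]
      map_smul' := fun c f => by
        obtain ⟨z, hz⟩ := Ideal.Quotient.mk_surjective (f.hom y')
        change e (algebraMap k A c • f.hom y') = c * e (f.hom y')
        rw [← hz]
        change π (algebraMap k A c * z) = c * π z
        rw [map_mul, hπ] }
  let Φ : (S.X₁ ⟶ Y) →ₗ[k] Ext S.X₃ Y 1 :=
    (Ext.precompOfLinear hS.extClass k Y (rfl : 1 + 0 = 1)) ∘ₗ Ext.linearEquiv₀.symm.toLinearMap
  have hΦ : Function.Surjective Φ := by
    intro z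
    obtain ⟨w, hw⟩ := Ext.contravariant_sequence_exact₃ hS Y z
      (Ext.eq_zero_of_projective _) (rfl : 1 + 0 = 1)
    exact ⟨Ext.linearEquiv₀ (R := k) w, by simp [Φ, hw]⟩
  have hψ : Function.Surjective ψ := by
    let g : A →ₗ[A] ↥(Ideal.span {y}) := (LinearMap.toSpanSingleton A A y).codRestrict _ fun r =>
      Ideal.mul_mem_left _ r (Ideal.mem_span_singleton_self y)
    have hg : Function.Surjective g := fun z => by
      obtain ⟨r, hr⟩ := Ideal.mem_span_singleton'.1 z.2
      exact ⟨r, Subtype.ext hr⟩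
    intro c
    let h : A →ₗ[A] A ⧸ Ideal.span {x} := LinearMap.toSpanSingleton A _ (Ideal.Quotient.mk _ (algebraMap k A c))
    have hle : LinearMap.ker g ≤ LinearMap.ker h := fun r hr => by
      have : r * y = 0 := congrArg Subtype.val (LinearMap.mem_ker.1 hr)
      rw [LinearMap.mem_ker]
      exact Ideal.Quotient.eq_zero_iff_mem.2 (Ideal.mul_mem_right _ _ (hann r this))
    let f := (Submodule.liftQ (LinearMap.ker g) h hle) ∘ₗ (g.quotKerEquivOfSurjective hg).symm.toLinearMap
    refine ⟨ModuleCat.ofHom f, ?_⟩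
    have h1 : g 1 = y' := Subtype.ext (one_mul y)
    have h2 : f y' = h 1 := by
      rw [← h1]
      change Submodule.liftQ _ h hle ((g.quotKerEquivOfSurjective hg).symm (g 1)) = h 1
      rw [show g 1 = g.quotKerEquivOfSurjective hg (Submodule.Quotient.mk 1) from rfl, LinearEquiv.symm_apply_apply]
      rfl
    change e (f y') = c
    rw [h2, LinearMap.toSpanSingleton_apply, one_smul]
    exact hπ c
  have hkereq : LinearMap.ker Φ = LinearMap.ker ψ := by
    ext f
    rw [LinearMap.mem_ker, LinearMap.mem_ker]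
    constructor
    · intro hf
      obtain ⟨w, hw⟩ := Ext.contravariant_sequence_exact₁ hS Y (Ext.mk₀ f) (rfl : 1 + 0 = 1) (by simpa [Φ] using hf)
      obtain ⟨w, rfl⟩ := (Ext.homEquiv₀ (X := S.X₂) (Y := Y)).symm.surjective w
      rw [Ext.homEquiv₀_symm_apply, Ext.mk₀_comp_mk₀] at hw
      have h1 : S.f ≫ w = f := Ext.homEquiv₀.symm.injective hw
      change e (f.hom y') = 0
      rw [← h1]
      change e (w.hom y) = 0
      obtain ⟨z, hz⟩ := Ideal.Quotient.mk_surjective (w.hom (1 : A))
      have h2 : w.hom y = y • w.hom (1 : A) := by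
        rw [← map_smul]; exact congrArg _ (mul_one y).symm
      rw [h2, ← hz]
      change π (y * z) = 0
      rw [map_mul, RingHom.mem_ker.1 (hker.ge (le_sup_right (b := Ideal.span {y}) (Ideal.mem_span_singleton_self y))), zero_mul]
    · intro hf
      obtain ⟨z, hz⟩ := Ideal.Quotient.mk_surjective (f.hom y')
      have hz0 : π z = 0 := by
        have : e (f.hom y') = 0 := hf
        rwa [← hz] at this
      obtain ⟨u, hu, v, hv, huv⟩ := Submodule.mem_sup.1 (hker.le (RingHom.mem_ker.2 hz0))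
      obtain ⟨b, rfl⟩ := Ideal.mem_span_singleton'.1 hv
      let w : S.X₂ ⟶ Y := ModuleCat.ofHom (LinearMap.toSpanSingleton A (A ⧸ Ideal.span {x}) (Ideal.Quotient.mk _ b))
      have hw : S.f ≫ w = f := by
        ext ⟨r, hr⟩
        obtain ⟨s, rfl⟩ := Ideal.mem_span_singleton'.1 hr
        change (s * y) • Ideal.Quotient.mk _ b = f.hom ⟨s * y, hr⟩
        rw [show (⟨s * y, hr⟩ : ↥(Ideal.span {y})) = s • y' from rfl, map_smul, ← hz, ← huv, map_add,
          Ideal.Quotient.eq_zero_iff_mem.2 hu, zero_add]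
        change Ideal.Quotient.mk _ (s * y * b) = Ideal.Quotient.mk _ (s * (b * y))
        congr 1
        ring
      change Φ f = 0
      simp only [Φ, LinearMap.comp_apply, LinearEquiv.coe_coe, Ext.linearEquiv₀_symm_apply]
      change hS.extClass.comp (Ext.mk₀ f) (rfl : 1 + 0 = 1) = 0
      rw [← hw, ← Ext.mk₀_comp_mk₀, ShortComplex.ShortExact.extClass_comp_assoc]
  have h1 := ((Submodule.quotEquivOfEq _ _ hkereq).trans (ψ.quotKerEquivOfSurjective hψ))
  rw [← (Φ.quotKerEquivOfSurjective hΦ).finrank_eq, h1.finrank_eq, Module.finrank_self]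

theorem finrank_ext_one_node (k : Type u) [Field k] :
    let S := MvPowerSeries (Fin 2) k
    let I : Ideal S := Ideal.span {(MvPowerSeries.X (0 : Fin 2) : S) * MvPowerSeries.X (1 : Fin 2)}
    Module.finrank k (Ext (ModuleCat.of (S ⧸ I) ((S ⧸ I) ⧸ Ideal.span {Ideal.Quotient.mk I (MvPowerSeries.X (1 : Fin 2))}))
      (ModuleCat.of (S ⧸ I) ((S ⧸ I) ⧸ Ideal.span {Ideal.Quotient.mk I (MvPowerSeries.X (0 : Fin 2))})) 1) = 1 := by
  intro S I
  let X₀ : S := MvPowerSeries.X (0 : Fin 2)
  let X₁ : S := MvPowerSeries.X (1 : Fin 2)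
  refine finrank_ext_one k (S ⧸ I) (Ideal.Quotient.mk I X₀) (Ideal.Quotient.mk I X₁) ?_ ?_
    (Ideal.Quotient.lift I MvPowerSeries.constantCoeff fun a ha => by
      obtain ⟨b, rfl⟩ := Ideal.mem_span_singleton.1 ha
      rw [map_mul, map_mul]
      erw [MvPowerSeries.constantCoeff_X]
      rw [zero_mul, zero_mul]) ?_ ?_
  · rw [← map_mul, Ideal.Quotient.eq_zero_iff_mem]; exact Ideal.mem_span_singleton_self _
  · intro r hr
    obtain ⟨r, rfl⟩ := Ideal.Quotient.mk_surjective r
    rw [← map_mul, Ideal.Quotient.eq_zero_iff_mem] at hr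
    obtain ⟨s, hs⟩ := Ideal.mem_span_singleton.1 hr
    refine Ideal.mem_span_singleton.2 ⟨Ideal.Quotient.mk I s, ?_⟩
    rw [← map_mul]
    congr 1
    have hX : X₁ ≠ 0 := fun h => by
      have := congrArg (MvPowerSeries.coeff (Finsupp.single (1 : Fin 2) 1)) h
      simp [X₁, MvPowerSeries.coeff_X] at this
    exact mul_right_cancel₀ hX (by rw [hs]; ring)
  · intro c
    change MvPowerSeries.constantCoeff (algebraMap k S c) = c
    rw [MvPowerSeries.algebraMap_apply]
    simp
  · refine le_antisymm (fun z hz => ?_) ?_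
    · obtain ⟨z, rfl⟩ := Ideal.Quotient.mk_surjective z
      have hz' : ¬ IsUnit z := by
        rw [MvPowerSeries.isUnit_iff_constantCoeff]
        exact fun h => h.ne_zero hz
      obtain ⟨w, hw⟩ := exists_eq_sum_X z hz'
      rw [← hw, Fin.sum_univ_two, map_add, map_mul, map_mul]
      exact Submodule.add_mem_sup (Ideal.mul_mem_left _ _ (Ideal.mem_span_singleton_self _))
        (Ideal.mul_mem_left _ _ (Ideal.mem_span_singleton_self _))
    · refine sup_le ?_ ?_ <;>
      · rw [Ideal.span_singleton_le_iff_mem, RingHom.mem_ker, Ideal.Quotient.lift_mk]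
        exact MvPowerSeries.constantCoeff_X _

end Groth.Agent.CAlgH3.NodeExt
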