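import Groth.Agent.CAlgH3.Serre
import Groth.Agent.CAlgH3.FlatDepth
import Groth.Agent.CAlgH3.FibreCodim
import Groth.Agent.CAlgH.CIScheme
import Groth.Agent.S5090
import Groth.Agent.Misc15.StalkLoc
import Mathlib

/-! A flat family with reduced fibres and normal generic fibre over a normal base is normal. -/

set_option autoImplicit false
set_option backward.isDefEq.respectTransparency.types false
universe u

open IsLocalRing

namespace Groth.Agent.CAlgH3.NormalFlatFamily

theorem exists_dim_eq_nat (R : Type u) [CommRing R] [IsLocalRing R] [IsNoetherianRing R] :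
    ∃ n : ℕ, ringKrullDim R = n := by
  obtain ⟨n, hn⟩ := ENat.ne_top_iff_exists.1 (Ideal.height_ne_top_of_isPrime (I := maximalIdeal R))
  exact ⟨n, by rw [← IsLocalRing.maximalIdeal_height_eq_ringKrullDim, ← hn]; rfl⟩

theorem depth_bound_of_normal (R : Type u) [CommRing R] [IsLocalRing R] [IsNoetherianRing R]
    [IsDomain R] [IsIntegrallyClosed R] :
    min (2 : WithBot ℕ∞) (ringKrullDim R) ≤ ((_root_.LocCoh.depth R R : ℕ∞) : WithBot ℕ∞) := by
  by_cases h2 : 2 ≤ ringKrullDim R
  · exact min_le_of_left_le (WithBot.coe_le_coe.2 (two_le_depth_of_normal h2))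
  · obtain ⟨n, hn⟩ := exists_dim_eq_nat R
    rw [hn] at h2
    have hn1 : n ≤ 1 := by
      by_contra h
      exact h2 (by exact_mod_cast (show 2 ≤ n by omega))
    have : IsRegularLocalRing R := isRegularLocalRing_of_normal_dim_le_one (by rw [hn]; exact_mod_cast hn1)
    rw [depth_eq_ringKrullDim]
    exact min_le_right _ _

variable {A B : Type u} [CommRing A] [CommRing B] [Algebra A B] [IsLocalRing A] [IsLocalRing B]
  [IsNoetherianRing A] [IsNoetherianRing B] [IsLocalHom (algebraMap A B)] [Module.Flat A B]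
  [IsDomain A] [IsIntegrallyClosed A]

theorem regular_and_depth [IsReduced (B ⧸ (maximalIdeal A).map (algebraMap A B))]
    (hF : IsField A → IsDomain B ∧ IsIntegrallyClosed B) :
    (ringKrullDim B ≤ 1 → IsRegularLocalRing B) ∧
      min (2 : WithBot ℕ∞) (ringKrullDim B) ≤ ((_root_.LocCoh.depth B B : ℕ∞) : WithBot ℕ∞) := by
  by_cases hA : IsField A
  · obtain ⟨_, _⟩ := hF hA
    exact ⟨isRegularLocalRing_of_normal_dim_le_one, depth_bound_of_normal B⟩
  have hle : (maximalIdeal A).map (algebraMap A B) ≤ maximalIdeal B :=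
    ((IsLocalRing.local_hom_TFAE (algebraMap A B)).out 0 2).1 ‹_›
  have : Nontrivial (B ⧸ (maximalIdeal A).map (algebraMap A B)) :=
    Ideal.Quotient.nontrivial_iff.2 fun h => (maximalIdeal.isMaximal B).ne_top (top_le_iff.1 (h ▸ hle))
  have : IsLocalRing (B ⧸ (maximalIdeal A).map (algebraMap A B)) :=
    IsLocalRing.of_surjective' _ Ideal.Quotient.mk_surjective
  obtain ⟨a, ha⟩ := exists_dim_eq_nat A
  obtain ⟨b, hb⟩ := exists_dim_eq_nat B
  obtain ⟨c, hc⟩ := exists_dim_eq_nat (B ⧸ (maximalIdeal A).map (algebraMap A B))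
  have hsum : b = a + c := by
    have := CommAlg6.ringKrullDim_eq_add_fibre (A := A) (B := B)
    rw [ha, hb, hc] at this
    exact_mod_cast this
  have ha1 : 1 ≤ a := by
    by_contra h
    have h0 : a = 0 := by omega
    have : Ring.KrullDimLE 0 A := Ring.krullDimLE_iff.2 (by rw [ha, h0])
    exact hA Ring.KrullDimLE.isField_of_isReduced
  constructor
  · intro hd
    rw [hb] at hd
    have hd1 : b ≤ 1 := by exact_mod_cast hd
    have : Ring.KrullDimLE 0 (B ⧸ (maximalIdeal A).map (algebraMap A B)) :=
      Ring.krullDimLE_iff.2 (by rw [hc, show c = 0 by omega])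
    have hm : maximalIdeal B = (maximalIdeal A).map (algebraMap A B) :=
      (IsLocalRing.eq_maximalIdeal (Ideal.Quotient.maximal_of_isField _ Ring.KrullDimLE.isField_of_isReduced)).symm
    have hAreg : IsRegularLocalRing A :=
      isRegularLocalRing_of_normal_dim_le_one (by rw [ha]; exact_mod_cast (show a ≤ 1 by omega))
    refine IsRegularLocalRing.of_spanFinrank_maximalIdeal_le B ?_
    have h1 : (maximalIdeal A).spanFinrank = a := by
      have := IsRegularLocalRing.spanFinrank_maximalIdeal (R := A)
      rw [ha] at this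
      exact_mod_cast this
    rw [hb, hm]
    obtain ⟨⟨t, ht⟩, -⟩ := (Submodule.spanFinrank_eq_one_iff _).1 (h1.trans (show a = 1 by omega))
    rw [ht, Ideal.submodule_span_eq, Ideal.map_span, Set.image_singleton]
    have := Submodule.spanFinrank_span_le_ncard_of_finite (R := B) (Set.finite_singleton (algebraMap A B t))
    rw [Set.ncard_singleton] at this
    exact Nat.cast_le.2 (this.trans (by omega))
  · have hdA : (1 : ℕ∞) ≤ _root_.LocCoh.depth A A := by
      have hne : maximalIdeal A ≠ ⊥ := fun h => hA (isField_iff_maximalIdeal_eq.2 h)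
      obtain ⟨x, hx, hx0⟩ := Submodule.exists_mem_ne_zero_of_ne_bot hne
      have hreg : IsSMulRegular A x := fun a b hab => mul_left_cancel₀ hx0 hab
      rw [← depth_quotSMulTop_add_one hx hreg]
      exact le_add_self
    have hdep := depth_add_depth_fibre_le_self (A := A) (B := B)
    rw [← depth_quotient_ring] at hdep
    rw [hb]
    rcases Nat.lt_or_ge a 2 with h2 | h2
    · rcases Nat.eq_zero_or_pos c with h0 | h0
      · have hb1 : b = 1 := by omega
        refine min_le_of_right_le ?_
        rw [hb1]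
        exact_mod_cast (hdA.trans le_self_add).trans hdep
      · refine min_le_of_left_le ?_
        have h1c : (1 : ℕ∞) ≤ _root_.LocCoh.depth (B ⧸ (maximalIdeal A).map (algebraMap A B))
            (B ⧸ (maximalIdeal A).map (algebraMap A B)) := by
          refine Order.one_le_iff_pos.2 (pos_iff_ne_zero.2 fun hz => ?_)
          obtain ⟨_, w, hw⟩ := isAssociatedPrime_iff.1 (depth_eq_zero_iff.1 hz)
          have hmem : ∀ z, z ∈ maximalIdeal (B ⧸ (maximalIdeal A).map (algebraMap A B)) → z * w = 0 :=
            fun z hz => by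
              rw [hw, Submodule.mem_colon_singleton, Submodule.mem_bot] at hz
              exact hz
          have hw0 : w ≠ 0 := by
            rintro rfl
            exact (maximalIdeal.isMaximal _).ne_top (eq_top_iff.2 fun z _ => hw ▸ Submodule.mem_colon_singleton.2 (by simp))
          by_cases hwu : IsUnit w
          · have hm : maximalIdeal (B ⧸ (maximalIdeal A).map (algebraMap A B)) = ⊥ :=
              eq_bot_iff.2 fun z hz => hwu.mul_left_eq_zero.1 (hmem z hz)
            rw [ringKrullDim_eq_zero_of_isField (IsLocalRing.isField_iff_maximalIdeal_eq.2 hm)] at hc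
            have : c = 0 := by exact_mod_cast hc.symm
            omega
          · exact hw0 (IsReduced.eq_zero w ⟨2, by rw [pow_two]; exact hmem w hwu⟩)
        have : (2 : ℕ∞) ≤ _root_.LocCoh.depth B B := by
          rw [← one_add_one_eq_two]; exact (add_le_add hdA h1c).trans hdep
        exact WithBot.coe_le_coe.2 this
    · refine min_le_of_left_le ?_
      exact WithBot.coe_le_coe.2 (((two_le_depth_of_normal (R := A) (by rw [ha]; exact_mod_cast h2)).trans le_self_add).trans hdep)

end Groth.Agent.CAlgH3.NormalFlatFamily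

namespace Groth.Agent.CAlgH3.NormalFlatFamily

open CategoryTheory AlgebraicGeometry

theorem eq_genericPoint_of_isField {S : Scheme.{u}} [IsIntegral S] (s : S)
    (h : IsField (S.presheaf.stalk s)) : s = genericPoint S := by
  by_contra hne
  have hsp : genericPoint S ⤳ s := genericPoint_specializes s
  refine S5090.comap_ne s (genericPoint S) hsp (Ne.symm hne) ?_
  have hm := IsLocalRing.isField_iff_maximalIdeal_eq.1 h
  rw [hm, eq_bot_iff]
  exact le_of_le_of_eq (IsLocalRing.le_maximalIdeal (Ideal.IsPrime.comap _).ne_top) hm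

variable {S C : Scheme.{u}} (f : C ⟶ S) [IsLocallyNoetherian S] [IsIntegral S] [Flat f]
  [LocallyOfFiniteType f]

theorem stalk_props (hS : Pi1.IsNormalScheme S) (hred : ∀ s : S, AlgebraicGeometry.IsReduced (f.fiber s))
    (hgen : Pi1.IsNormalScheme (f.fiber (genericPoint S))) (x : C) :
    (ringKrullDim (C.presheaf.stalk x) ≤ 1 → IsRegularLocalRing (C.presheaf.stalk x)) ∧
      min (2 : WithBot ℕ∞) (ringKrullDim (C.presheaf.stalk x)) ≤
        ((_root_.LocCoh.depth (C.presheaf.stalk x) (C.presheaf.stalk x) : ℕ∞) : WithBot ℕ∞) := by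
  letI := (f.stalkMap x).hom.toAlgebra
  have : IsLocalHom (algebraMap (S.presheaf.stalk (f x)) (C.presheaf.stalk x)) :=
    inferInstanceAs (IsLocalHom (f.stalkMap x).hom)
  have : Module.Flat (S.presheaf.stalk (f x)) (C.presheaf.stalk x) := Flat.stalkMap f x
  have := LocallyOfFiniteType.isLocallyNoetherian f
  obtain ⟨_, _⟩ := hS (f x)
  obtain ⟨e⟩ := CAlgH.CIScheme.fiberStalk_equiv f x
  have := hred (f x)
  have : _root_.IsReduced (CInt.fiberStalk f x) :=
    inferInstanceAs (_root_.IsReduced ((f.fiber (f x)).presheaf.stalk (f.asFiber x)))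
  have hr : _root_.IsReduced (C.presheaf.stalk x ⧸
      (maximalIdeal (S.presheaf.stalk (f x))).map (algebraMap (S.presheaf.stalk (f x)) (C.presheaf.stalk x))) :=
    isReduced_of_injective e.toRingHom e.injective
  refine regular_and_depth (A := S.presheaf.stalk (f x)) fun hA => ?_
  have hη := eq_genericPoint_of_isField (f x) hA
  have hn : Pi1.IsNormalScheme (f.fiber (f x)) := by rw [hη]; exact hgen
  obtain ⟨hd, hi⟩ := hn (f.asFiber x)
  have hbot : (maximalIdeal (S.presheaf.stalk (f x))).map (f.stalkMap x).hom = ⊥ := by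
    rw [IsLocalRing.isField_iff_maximalIdeal_eq.1 hA, Ideal.map_bot]
  let e' : C.presheaf.stalk x ≃+* (f.fiber (f x)).presheaf.stalk (f.asFiber x) :=
    (RingEquiv.quotientBot _).symm.trans ((Ideal.quotEquivOfEq hbot.symm).trans e)
  have := e'.toMulEquiv.isDomain _
  exact ⟨this, IsIntegrallyClosed.of_equiv e'.symm⟩

/-- Normality of the total space. -/
theorem isNormalScheme (hS : Pi1.IsNormalScheme S) (hred : ∀ s : S, AlgebraicGeometry.IsReduced (f.fiber s))
    (hgen : Pi1.IsNormalScheme (f.fiber (genericPoint S))) : Pi1.IsNormalScheme C := by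
  have := LocallyOfFiniteType.isLocallyNoetherian f
  intro x
  have key : ∀ (p : Ideal (C.presheaf.stalk x)) [p.IsPrime],
      ∃ ζ : C, ringKrullDim (C.presheaf.stalk ζ) = ringKrullDim (Localization.AtPrime p) ∧
        Nonempty (C.presheaf.stalk ζ ≃+* Localization.AtPrime p) := by
    intro p _
    obtain ⟨ζ, hζ, hc⟩ := S5090.exists_gen x ⟨p, inferInstance⟩
    let := (C.presheaf.stalkSpecializes hζ).hom.toAlgebra
    have hl := Misc15.isLocalization_stalkSpecializes hζ
    have hM : (IsUnit.submonoid (C.presheaf.stalk ζ)).comap (C.presheaf.stalkSpecializes hζ).hom = p.primeCompl := by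
      ext a
      change IsUnit ((C.presheaf.stalkSpecializes hζ).hom a) ↔ a ∉ p
      rw [← (show _ = p from hc), Ideal.mem_comap, mem_maximalIdeal, mem_nonunits_iff, not_not]
    rw [hM] at hl
    let e := (IsLocalization.algEquiv p.primeCompl (C.presheaf.stalk ζ) (Localization.AtPrime p)).toRingEquiv
    exact ⟨ζ, ringKrullDim_eq_of_ringEquiv e, ⟨e⟩⟩
  refine normal_of_R1_S2 (fun p _ hp => ?_) ((hasSk_self_iff 2).2 fun p _ => ?_)
  · obtain ⟨ζ, hd, ⟨e⟩⟩ := key p
    have := (stalk_props f hS hred hgen ζ).1 (by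
      rw [hd, IsLocalization.AtPrime.ringKrullDim_eq_height p (Localization.AtPrime p)]
      exact WithBot.coe_le_coe.2 hp)
    exact IsRegularLocalRing.of_ringEquiv e
  · obtain ⟨ζ, hd, ⟨e⟩⟩ := key p
    rw [← hd, ← depth_ringEquiv e]
    exact (stalk_props f hS hred hgen ζ).2

end Groth.Agent.CAlgH3.NormalFlatFamily
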