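import Groth.Prelude.Def_W4bk4bump814p2PDiff
import Mathlib

/-!
The filtration of Kähler differentials by power differentials.
-/

set_option autoImplicit false

universe u v

open W4bk4bump814p2

namespace Groth.Agent.CAlgH3.PDiffSigma

variable (K : Type u) (A : Type v) [CommRing K] [CommRing A] [Algebra K A] (p : ℕ)

/-- The subgroup generated by lower power differentials. -/
noncomputable def G (i : ℕ) : AddSubgroup (Ω[A⁄K]) :=
  AddSubgroup.closure (⋃ j ∈ Finset.range i, Set.range (delta K A p j))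

variable {K A p}

theorem delta_mem {i j : ℕ} (h : j < i) (x : A) : delta K A p j x ∈ G K A p i :=
  AddSubgroup.subset_closure (Set.mem_iUnion₂.2 ⟨j, Finset.mem_range.2 h, x, rfl⟩)

theorem G_mono {i j : ℕ} (h : i ≤ j) : G K A p i ≤ G K A p j :=
  (AddSubgroup.closure_le _).2 fun z hz => by
    obtain ⟨l, hl, x, rfl⟩ := Set.mem_iUnion₂.1 hz
    exact delta_mem ((Finset.mem_range.1 hl).trans_le h) x

variable [hp : Fact p.Prime]

/-- The middle terms of the binomial expansion. -/
theorem middle_mem {i M k : ℕ} (hM : p ^ i = M + 1) (hk : k < M) (x y : A) :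
    (M.choose k * x ^ k * y ^ (M - k)) • KaehlerDifferential.D K A x +
      (M.choose (k + 1) * x ^ (k + 1) * y ^ (M - (k + 1))) • KaehlerDifferential.D K A y ∈ G K A p i := by
  obtain ⟨e, k', hk', hkeq⟩ := Nat.exists_eq_pow_mul_and_not_dvd (show k + 1 ≠ 0 by omega) p hp.out.ne_one
  have hei : e < i := by
    by_contra h
    have h2 := (pow_dvd_pow p (not_lt.1 h)).trans ⟨k', hkeq⟩
    have h3 := Nat.le_of_dvd (Nat.succ_pos k) h2
    omega
  obtain ⟨s, hs⟩ : ∃ s, i = e + s := ⟨i - e, by omega⟩
  have hl : M - k = p ^ e * (p ^ s - k') := by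
    rw [Nat.mul_sub, ← pow_add, ← hs, hM, ← hkeq]
    omega
  set l' := p ^ s - k' with hl'
  obtain ⟨a, ha⟩ : k' ∣ M.choose k := by
    refine (Nat.Coprime.dvd_mul_left (((Nat.Prime.coprime_iff_not_dvd hp.out).2 hk').symm.pow_right i)).1
      ⟨(M + 1).choose (k + 1) * p ^ e, ?_⟩
    rw [hM, Nat.add_one_mul_choose_eq M k, hkeq]
    ring
  have hb : M.choose (k + 1) = a * l' := by
    have h := Nat.choose_succ_right_eq M k
    rw [ha, hkeq, hl] at h
    have hk0 : 0 < k' := Nat.pos_of_ne_zero fun h0 => hk' (h0 ▸ dvd_zero p)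
    refine Nat.eq_of_mul_eq_mul_right (Nat.mul_pos (pow_pos hp.out.pos e) hk0) ?_
    rw [hkeq, h]
    ring
  have hk'1 : 1 ≤ k' := Nat.pos_of_ne_zero fun h0 => hk' (h0 ▸ dvd_zero p)
  have hl'1 : 1 ≤ l' := Nat.pos_of_ne_zero fun h0 => by rw [h0, mul_zero] at hl; omega
  obtain ⟨q, hq⟩ : ∃ q, p ^ e = q + 1 := ⟨p ^ e - 1, by have := Nat.one_le_pow e p hp.out.pos; omega⟩
  have e1 : (k' - 1) + k' * q = k := by
    rw [hq] at hkeq
    rw [add_mul, one_mul, mul_comm q] at hkeq
    omega
  have e2 : l' + l' * q = M - k := by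
    rw [hl, hq]
    ring
  have e3 : k' + k' * q = k + 1 := by
    rw [hkeq, hq]
    ring
  have e4 : (l' - 1) + l' * q = M - (k + 1) := by omega
  have key : ((a : ℕ) : ℤ) • delta K A p e (x ^ k' * y ^ l') =
      (M.choose k * x ^ k * y ^ (M - k)) • KaehlerDifferential.D K A x +
        (M.choose (k + 1) * x ^ (k + 1) * y ^ (M - (k + 1))) • KaehlerDifferential.D K A y := by
    rw [natCast_zsmul, delta, hq, Nat.add_sub_cancel, Derivation.leibniz, Derivation.leibniz_pow,
      Derivation.leibniz_pow, ha, hb, ← e4, ← e3, ← e2, ← e1, ← Nat.cast_smul_eq_nsmul A a]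
    simp only [← Nat.cast_smul_eq_nsmul A, smul_add, smul_smul]
    rw [add_comm]
    push_cast
    congr 1 <;> congr 1 <;> ring
  rw [← key]
  exact zsmul_mem (delta_mem hei _) _

omit hp in
/-- The expansion of the power differential of a sum. -/
theorem delta_add_eq (i : ℕ) {M : ℕ} (hM : p ^ i = M + 1) (x y : A) :
    delta K A p i (x + y) = delta K A p i x + delta K A p i y + ∑ k ∈ Finset.range M,
      ((M.choose k * x ^ k * y ^ (M - k)) • KaehlerDifferential.D K A x +
        (M.choose (k + 1) * x ^ (k + 1) * y ^ (M - (k + 1))) • KaehlerDifferential.D K A y) := by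
  simp only [delta, hM, Nat.add_sub_cancel, map_add, smul_add]
  have h1 : (x + y) ^ M = ∑ k ∈ Finset.range M, M.choose k * x ^ k * y ^ (M - k) + x ^ M := by
    rw [add_pow, Finset.sum_range_succ]
    simp only [Nat.choose_self, Nat.sub_self, pow_zero, Nat.cast_one, mul_one]
    congr 1
    exact Finset.sum_congr rfl fun k _ => by ring
  have h2 : (x + y) ^ M = ∑ k ∈ Finset.range M, M.choose (k + 1) * x ^ (k + 1) * y ^ (M - (k + 1)) + y ^ M := by
    rw [add_pow, Finset.sum_range_succ']
    simp only [Nat.choose_zero_right, Nat.sub_zero, pow_zero, Nat.cast_one, one_mul, mul_one]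
    congr 1
    exact Finset.sum_congr rfl fun k _ => by ring
  rw [Finset.sum_add_distrib, ← Finset.sum_smul, ← Finset.sum_smul]
  conv_lhs => arg 1; rw [h1, add_smul]
  conv_lhs => arg 2; rw [h2, add_smul]
  abel

theorem delta_add_mem (i : ℕ) (x y : A) :
    delta K A p i (x + y) - delta K A p i x - delta K A p i y ∈ G K A p i := by
  obtain ⟨M, hM⟩ : ∃ M, p ^ i = M + 1 := ⟨p ^ i - 1, by have := Nat.one_le_pow i p hp.out.pos; omega⟩
  rw [delta_add_eq i hM, show ∀ a b c : Ω[A⁄K], a + b + c - a - b = c from fun a b c => by abel]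
  exact sum_mem fun k hk => middle_mem hM (Finset.mem_range.1 hk) x y

omit hp in
theorem delta_zero (i : ℕ) : delta K A p i (0 : A) = 0 := by
  rw [delta, map_zero, smul_zero]

theorem sigma_eq : ∀ i : ℕ, sigma K A p i = (G K A p i : Set (Ω[A⁄K])) := by
  intro i
  induction i with
  | zero => simp [G]
  | succ i ih =>
    let H : AddSubgroup (Ω[A⁄K]) :=
      { carrier := {ω | ∃ x : A, ω - delta K A p i x ∈ G K A p i}
        zero_mem' := ⟨0, by simp [delta_zero]⟩
        add_mem' := by
          rintro a b ⟨x, hx⟩ ⟨y, hy⟩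
          exact ⟨x + y, by
            convert sub_mem (add_mem hx hy) (delta_add_mem i x y) using 1
            abel⟩
        neg_mem' := by
          rintro a ⟨x, hx⟩
          refine ⟨-x, ?_⟩
          have h := delta_add_mem (K := K) (p := p) i x (-x)
          rw [add_neg_cancel, delta_zero] at h
          convert sub_mem h hx using 1
          abel }
    rw [sigma_succ, ih]
    refine congrArg SetLike.coe (le_antisymm (a := H) ?_ ?_)
    · rintro ω ⟨x, hx⟩
      have := add_mem (G_mono (Nat.le_succ i) hx) (delta_mem (Nat.lt_succ_self i) x)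
      rwa [sub_add_cancel] at this
    · refine (AddSubgroup.closure_le _).2 fun z hz => ?_
      obtain ⟨l, hl, x, rfl⟩ := Set.mem_iUnion₂.1 hz
      rcases Nat.lt_succ_iff_lt_or_eq.1 (Finset.mem_range.1 hl) with h | rfl
      · exact ⟨0, by rw [delta_zero, sub_zero]; exact delta_mem h x⟩
      · exact ⟨x, by rw [sub_self]; exact zero_mem _⟩

variable {k : Type u} [Field k] [PerfectField k] [CharP k p] {B : Type v} [CommRing B] [Algebra k B]

theorem smul_mem_G (i : ℕ) (c : k) {ω : Ω[B⁄k]} (hω : ω ∈ G k B p i) : c • ω ∈ G k B p i := by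
  induction hω using AddSubgroup.closure_induction with
  | mem z hz =>
    obtain ⟨j, hj, x, rfl⟩ := Set.mem_iUnion₂.1 hz
    haveI : ExpChar k p := ExpChar.prime hp.out
    haveI : PerfectRing k p := PerfectField.toPerfectRing p
    obtain ⟨b, rfl⟩ := (bijective_iterateFrobenius k p j).2 c
    obtain ⟨q, hq⟩ : ∃ q, p ^ j = q + 1 := ⟨p ^ j - 1, by have := Nat.one_le_pow j p hp.out.pos; omega⟩
    have : iterateFrobenius k p j b • delta k B p j x = delta k B p j (b • x) := by
      rw [iterateFrobenius_def, delta, delta, hq, Nat.add_sub_cancel, Derivation.map_smul, smul_pow, pow_succ,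
        smul_assoc, smul_comm (x ^ q) b, mul_smul]
    rw [this]
    exact delta_mem (Finset.mem_range.1 hj) _
  | zero => rw [smul_zero]; exact zero_mem _
  | add a b _ _ ha hb => rw [smul_add]; exact add_mem ha hb
  | neg a _ ha => rw [smul_neg]; exact neg_mem ha

omit [PerfectField k] in
theorem pow_smul_mem_G (i : ℕ) (x : B) {ω : Ω[B⁄k]} (hω : ω ∈ G k B p i) : (x ^ p ^ i) • ω ∈ G k B p i := by
  induction hω using AddSubgroup.closure_induction with
  | mem z hz =>
    obtain ⟨j, hj, y, rfl⟩ := Set.mem_iUnion₂.1 hz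
    obtain ⟨q, hq⟩ : ∃ q, p ^ j = q + 1 := ⟨p ^ j - 1, by have := Nat.one_le_pow j p hp.out.pos; omega⟩
    obtain ⟨s, rfl⟩ : ∃ s, i = (s + 1) + j := ⟨i - j - 1, by have := Finset.mem_range.1 hj; omega⟩
    have hD : KaehlerDifferential.D k B (x ^ p ^ (s + 1)) = 0 := by
      rw [Derivation.leibniz_pow, ← Nat.cast_smul_eq_nsmul k, Nat.cast_pow, CharP.cast_eq_zero k p,
        zero_pow (Nat.succ_ne_zero s), zero_smul]
    have : x ^ p ^ (s + 1 + j) • delta k B p j y = delta k B p j (x ^ p ^ (s + 1) * y) := by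
      rw [delta, delta, Derivation.leibniz, hD, smul_zero, add_zero, smul_smul, smul_smul, pow_add p (s + 1) j,
        pow_mul, hq, Nat.add_sub_cancel, mul_pow, pow_succ]
      congr 1
      ring
    rw [this]
    exact delta_mem (Finset.mem_range.1 hj) _
  | zero => rw [smul_zero]; exact zero_mem _
  | add a b _ _ ha hb => rw [smul_add]; exact add_mem ha hb
  | neg a _ ha => rw [smul_neg]; exact neg_mem ha

end Groth.Agent.CAlgH3.PDiffSigma
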