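import Groth.Agent.CAlgH3.PRing
import Groth.Agent.GrLib.FreeCoh

/-!
# Sheaves attached to graded free modules on projective space
-/

set_option autoImplicit false
set_option linter.unusedSectionVars false
set_option backward.isDefEq.respectTransparency.types false

universe u

open DirectSum AlgebraicGeometry CategoryTheory TopologicalSpace Opposite MvPolynomial
open Groth.Agent.Coherent Groth.Agent.GrLib
open Groth.Agent.CAlgH3.GrModExact Groth.Agent.CAlgH3.PosPart Groth.Agent.CAlgH3.PTilde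
open Groth.Agent.CAlgH3.PRing Groth.Agent.CAlgH3.ModCohSeq

noncomputable section

namespace Groth.Agent.CAlgH3.PFree

variable {k : Type u} [Field k] {r : ℕ}

variable {M τ : Type u} [AddCommGroup M] [Module (MvPolynomial (Fin (r + 1)) k) M] [SetLike τ M]
  [AddSubgroupClass τ M] {ℳ : ℤ → τ} [Decomposition ℳ] [SetLike.GradedSMul (GrSyz.stdGr k (Fin (r + 1))) ℳ]
variable {N τ' : Type u} [AddCommGroup N] [Module (MvPolynomial (Fin (r + 1)) k) N] [SetLike τ' N]
  [AddSubgroupClass τ' N] {𝒩 : ℤ → τ'} [Decomposition 𝒩] [SetLike.GradedSMul (GrSyz.stdGr k (Fin (r + 1))) 𝒩]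
variable {L ρ : Type u} [AddCommGroup L] [Module (MvPolynomial (Fin (r + 1)) k) L] [SetLike ρ L]
  [AddSubgroupClass ρ L] {ℒ : ℤ → ρ} [Decomposition ℒ] [SetLike.GradedSMul (GrSyz.stdGr k (Fin (r + 1))) ℒ]

theorem sect_eq_zero_of_subsingleton [Subsingleton M] {n : ℤ} {U : (CohB1.ProjSpace r k).Opens}
    (s : Γ(T k r ℳ n, U)) : s = 0 :=
  GrModExact.sext fun x => by
    induction (s : GrMod.sect (CohB1.polyGrading r k) (posGr (GrSyz.stdGr k (Fin (r + 1))) ℳ) n (op U)).1 x |>.1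
      using LocalizedModule.induction_on with
    | h m t => rw [Subsingleton.elim m 0, LocalizedModule.zero_mk]; rfl

theorem V_of_subsingleton [Subsingleton M] (n : ℤ) (q : ℕ) : V (T k r ℳ n) q := by
  have h : 𝟙 (T k r ℳ n) = 0 := Scheme.Modules.hom_ext _ _ fun U => by
    ext s
    exact (sect_eq_zero_of_subsingleton _).trans (sect_eq_zero_of_subsingleton _).symm
  refine (V_iff_HMod _ q).2 (subsingleton_of_forall_eq 0 fun x => ?_)
  have := postHM_id (T k r ℳ n) q ⊤ x
  rw [h, postHM_zero] at this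
  exact this.symm

theorem globSurj_of_subsingleton [Subsingleton M] (n : ℤ) : GlobSurj k r ℳ n := fun s =>
  ⟨0, (sect_eq_zero_of_subsingleton s).symm ▸ IsGlob.zero⟩

theorem app_comp_eq_zero (u : M →ₗ[MvPolynomial (Fin (r + 1)) k] N) (hu : GrLC.IsGrHom ℳ 𝒩 u)
    (v : N →ₗ[MvPolynomial (Fin (r + 1)) k] L) (hv : GrLC.IsGrHom 𝒩 ℒ v) (h0 : ∀ x, v (u x) = 0) (n : ℤ)
    (U : (CohB1.ProjSpace r k).Opens) (s : Γ(T k r ℳ n, U)) :
    (Tmap v hv n).app U ((Tmap u hu n).app U s) = 0 :=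
  ConcreteCategory.congr_hom (congrArg (fun φ => Scheme.Modules.Hom.app φ U) (Tmap_comp_eq_zero u hu v hv h0 n)) s

theorem sections_exact {S : ShortComplex (CohB1.ProjSpace r k).Modules} (hS : S.ShortExact)
    {U : (CohB1.ProjSpace r k).Opens} (s : Γ(S.X₂, U)) (h : S.g.app U s = 0) :
    ∃ a : Γ(S.X₁, U), S.f.app U a = s := by
  have := hS.mono_f
  obtain ⟨z, hz⟩ := kernel_sections_exact S.g s h
  refine ⟨(hS.fIsKernel.conePointUniqueUpToIso (Limits.kernelIsKernel S.g)).inv.app U z, ?_⟩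
  refine Eq.trans ?_ hz
  exact ConcreteCategory.congr_hom (congrArg (fun φ => Scheme.Modules.Hom.app φ U)
    (Limits.IsLimit.conePointUniqueUpToIso_inv_comp hS.fIsKernel (Limits.kernelIsKernel S.g)
      Limits.WalkingParallelPair.zero)) z

/-- An extension of modules whose sections come from degree `n` again has this property. -/
theorem globSurj_extension (u : M →ₗ[MvPolynomial (Fin (r + 1)) k] N) (hu : GrLC.IsGrHom ℳ 𝒩 u)
    (v : N →ₗ[MvPolynomial (Fin (r + 1)) k] L) (hv : GrLC.IsGrHom 𝒩 ℒ v) (hinj : Function.Injective u)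
    (hsurj : Function.Surjective v) (hex : Function.Exact u v) {n : ℤ} (hn : 0 ≤ n)
    (h₁ : GlobSurj k r ℳ n) (h₃ : GlobSurj k r ℒ n) : GlobSurj k r 𝒩 n := by
  intro s
  obtain ⟨e, rfl⟩ : ∃ e : ℕ, n = e := ⟨n.toNat, (Int.toNat_of_nonneg hn).symm⟩
  obtain ⟨c, hc⟩ := h₃ ((Tmap v hv e).app ⊤ s)
  obtain ⟨b, hb, hvb⟩ := exists_preimage (ℳ := 𝒩) (grHomDeg_zero_iff.2 hv) (g := (e : ℤ))
    (by rw [add_zero]; exact hc.1) (LinearMap.mem_range.2 (hsurj c.1))
  obtain ⟨t, ht⟩ := exists_isGlob (k := k) (r := r) hb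
  have hvt : (Tmap v hv (e : ℤ)).app ⊤ t = (Tmap v hv (e : ℤ)).app ⊤ s :=
    (isGlob_map v hv ht).ext (by
      rw [show posMap (𝒵 := GrSyz.stdGr k (Fin (r + 1))) v hv ⟨b, mem_pos_of_mem (by omega) hb⟩ = c from
        Subtype.ext hvb]
      exact hc)
  obtain ⟨a, ha⟩ := sections_exact (shortExact_Tmap u hu v hv hinj hsurj hex (e : ℤ)) (s - t)
    (by
      show (Tmap v hv (e : ℤ)).app ⊤ (s - t) = 0
      rw [map_sub, hvt, sub_self])
  obtain ⟨m, hm⟩ := h₁ a
  refine ⟨posMap (𝒵 := GrSyz.stdGr k (Fin (r + 1))) u hu m + ⟨b, mem_pos_of_mem (by omega) hb⟩, ?_⟩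
  have h2 := (isGlob_map u hu hm).add ht
  rwa [show (Tmap u hu (e : ℤ)).app ⊤ a = s - t from ha, sub_add_cancel] at h2

local notation "Grd" g => freeGr (GrSyz.stdGr k (Fin (r + 1))) g

theorem free_succ {m : ℕ} (g : Fin (m + 1) → ℤ) [Decomposition (Grd g)] {P : Prop}
    (H : ∀ (_ : Decomposition (shiftGr (GrSyz.stdGr k (Fin (r + 1))) (-g 0)))
      (_ : Decomposition (Grd fun j => g j.succ))
      (u : MvPolynomial (Fin (r + 1)) k →ₗ[MvPolynomial (Fin (r + 1)) k] (Fin (m + 1) → MvPolynomial (Fin (r + 1)) k))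
      (v : (Fin (m + 1) → MvPolynomial (Fin (r + 1)) k) →ₗ[MvPolynomial (Fin (r + 1)) k]
        (Fin m → MvPolynomial (Fin (r + 1)) k))
      (_ : GrLC.IsGrHom (shiftGr (GrSyz.stdGr k (Fin (r + 1))) (-g 0)) (Grd g) u)
      (_ : GrLC.IsGrHom (Grd g) (Grd fun j => g j.succ) v),
      Function.Injective u → Function.Surjective v → Function.Exact u v → P) : P := by
  refine H (shiftDecomp _ _) (freeDecomp _ _)
    (LinearMap.single _ (fun _ : Fin (m + 1) => MvPolynomial (Fin (r + 1)) k) 0)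
    (LinearMap.funLeft _ _ Fin.succ) (fun i v hv => ?_) (fun i v hv => mem_freeGr.2 fun j => mem_freeGr.1 hv j.succ)
    (fun a b h => by simpa using congrFun h 0)
    (fun v => ⟨Fin.cons (α := fun _ : Fin (m + 1) => MvPolynomial (Fin (r + 1)) k) 0 v, funext fun j => by simp⟩) ?_
  · have := single_grHomDeg (𝒜 := GrSyz.stdGr k (Fin (r + 1))) g 0 (i + -g 0) v hv
    rwa [neg_add_cancel_right] at this
  · intro v
    constructor
    · intro hv
      refine ⟨v 0, funext fun j => ?_⟩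
      cases j using Fin.cases with
      | zero => simp
      | succ j =>
        rw [LinearMap.coe_single, Pi.single_eq_of_ne (Fin.succ_ne_zero j)]
        exact (congrFun hv j).symm
    · rintro ⟨u, rfl⟩
      exact funext fun j => by simp [Fin.succ_ne_zero]

theorem V_free {m : ℕ} (g : Fin m → ℤ) : ∀ [Decomposition (Grd g)] {n : ℤ} {q : ℕ},
    1 ≤ q → (q = r → ∀ j, -(r : ℤ) ≤ n - g j) → V (T k r (Grd g) n) q := by
  induction m with
  | zero => intro _ n q _ _; exact V_of_subsingleton n q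
  | succ m ih =>
    intro _ n q hq hn
    refine free_succ (k := k) (r := r) g fun d1 d2 u v hu hv hinj hsurj hex => ?_
    have h1 : V (T k r (shiftGr (GrSyz.stdGr k (Fin (r + 1))) (-g 0)) n) q :=
      V_shift (ℳ := GrSyz.stdGr k (Fin (r + 1))) (-g 0) (fun i p => GrLib.mem_shiftGr)
        (V_ring hq fun h => by have := hn h 0; omega)
    have h2 : V (T k r (Grd fun j => g j.succ) n) q := ih _ hq fun h j => hn h j.succ
    exact @V_mid _ _ (shortExact_Tmap u hu v hv hinj hsurj hex n) q h1 h2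

theorem globSurj_free {m : ℕ} (g : Fin m → ℤ) : ∀ [Decomposition (Grd g)] {n : ℤ},
    0 ≤ n → (∀ j, g j ≤ n) → GlobSurj k r (Grd g) n := by
  induction m with
  | zero => intro _ n _ _; exact globSurj_of_subsingleton n
  | succ m ih =>
    intro _ n hn hg
    refine free_succ (k := k) (r := r) g fun d1 d2 u v hu hv hinj hsurj hex => ?_
    have h1 : GlobSurj k r (shiftGr (GrSyz.stdGr k (Fin (r + 1))) (-g 0)) n :=
      globSurj_shift (ℳ := GrSyz.stdGr k (Fin (r + 1))) (-g 0) (fun i p => GrLib.mem_shiftGr) hn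
        (globSurj_ring (by have := hg 0; omega))
    exact globSurj_extension u hu v hv hinj hsurj hex hn h1 (ih _ hn fun j => hg j.succ)

end Groth.Agent.CAlgH3.PFree

end
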