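import Groth.Agent.CAlgH3.PRing
import Groth.Prelude.Def_GrMod2
import Groth.Prelude.Def_Curv2

/-!
# `M~` formed from the pieces of non-negative degree inside `M` itself
-/

set_option autoImplicit false
set_option linter.unusedSectionVars false
set_option backward.isDefEq.respectTransparency.types false

universe u

open DirectSum AlgebraicGeometry CategoryTheory TopologicalSpace Opposite MvPolynomial
open Groth.Agent.GrLib
open Groth.Agent.CAlgH3.GrModExact Groth.Agent.CAlgH3.PosPart Groth.Agent.CAlgH3.PTilde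

noncomputable section

namespace Groth.Agent.CAlgH3.POrig

theorem app_injective_of_injective {A σ : Type u} [CommRing A] [SetLike σ A] [AddSubgroupClass σ A] {𝒜 : ℕ → σ}
    [GradedRing 𝒜] {M τ : Type u} [AddCommGroup M] [Module A M] [SetLike τ M] [AddSubgroupClass τ M] {ℳ : ℕ → τ}
    [SetLike.GradedSMul 𝒜 ℳ] {N τ' : Type u} [AddCommGroup N] [Module A N] [SetLike τ' N] [AddSubgroupClass τ' N]
    {𝒩 : ℕ → τ'} [SetLike.GradedSMul 𝒜 𝒩] (u : M →ₗ[A] N) (c : ℕ)
    (hu : ∀ (i : ℕ) (m : M), m ∈ ℳ i → u m ∈ 𝒩 (i + c)) {n n' : ℤ} (hn : n + c = n') (hinj : Function.Injective u)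
    (V : (Proj 𝒜).Opens) : Function.Injective ((mapC 𝒜 u c hu hn).app V) := fun _ _ h =>
  GrModExact.sext fun y => LocalizedModule.map_injective _ u hinj
    ((congrArg (fun z => GrMod.val (V := V) z y) h : _))

variable {k : Type u} [Field k] {r : ℕ}
variable {M : Type u} [AddCommGroup M] [Module k M] [Module (MvPolynomial (Fin (r + 1)) k) M]
  (ℳ : ℤ → Submodule k M) [DirectSum.Decomposition ℳ] [SetLike.GradedSMul (GrSyz.stdGr k (Fin (r + 1))) ℳ]
  [SetLike.GradedSMul (CohB1.polyGrading r k) (fun n : ℕ => ℳ (n : ℤ))]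

/-- The inclusion of the non-negative part. -/
def inclPos : pos (GrSyz.stdGr k (Fin (r + 1))) ℳ →ₗ[MvPolynomial (Fin (r + 1)) k] M := Submodule.subtype _

theorem inclPos_mem (i : ℕ) (x : pos (GrSyz.stdGr k (Fin (r + 1))) ℳ)
    (hx : x ∈ posGr (GrSyz.stdGr k (Fin (r + 1))) ℳ i) :
    inclPos ℳ x ∈ (fun n : ℕ => ℳ (n : ℤ)) (i + 0) := hx

theorem isIso_incl (n : ℤ) :
    IsIso (mapC (CohB1.polyGrading r k) (inclPos (r := r) ℳ) 0
      (𝒩 := fun n : ℕ => ℳ (n : ℤ)) (inclPos_mem ℳ) (n := n) (n' := n) (by simp)) := by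
  have := SerreDual.mono_of_app_injective
    (mapC (CohB1.polyGrading r k) (inclPos (r := r) ℳ) 0
      (𝒩 := fun n : ℕ => ℳ (n : ℤ)) (inclPos_mem ℳ) (n := n) (n' := n) (by simp))
    fun V => app_injective_of_injective _ _ _ _ Subtype.val_injective V
  have := epi_mapC (inclPos (r := r) ℳ) 0 (𝒩 := fun n : ℕ => ℳ (n : ℤ)) (inclPos_mem ℳ) (n := n) (n' := n)
    (by simp) tv tv_mem tv_notMem fun i a ha _ =>
      ⟨0, i, ⟨a, mem_pos_of_mem (by omega) ha⟩, mem_posGr.2 ha, by omega, by rw [pow_zero, one_smul]; rfl⟩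
  exact isIso_of_mono_of_epi _

/-- Comparison with `GrTilde`. -/
def origIso (n : ℤ) : T k r ℳ n ≅ GrTilde.tilde (CohB1.polyGrading r k) (fun n : ℕ => ℳ (n : ℤ)) n :=
  @asIso _ _ _ _ _ (isIso_incl ℳ n)

theorem nonempty_tensor_orig (t : ℤ) :
    Nonempty (CohB1.tensorMod (GrTilde.tilde (CohB1.polyGrading r k) (fun n : ℕ => ℳ (n : ℤ)) 0)
      (Twist.twistProjSpace r k t) ≅ T k r ℳ t) :=
  (PRing.nonempty_tensor_twist (ℳ := ℳ) t).map fun e =>
    AmpleLib.tensorIso (origIso ℳ 0).symm (Iso.refl _) ≪≫ e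

theorem isMRegular_iff (d : ℤ) :
    Curv2.IsMRegular k r (GrTilde.tilde (CohB1.polyGrading r k) (fun n : ℕ => ℳ (n : ℤ)) 0) d ↔
      ∀ i : ℕ, 1 ≤ i → i ≤ r → ModCohSeq.V (T k r ℳ (d - i)) i := by
  refine forall_congr' fun i => forall_congr' fun _ => forall_congr' fun _ => ?_
  obtain ⟨e⟩ := nonempty_tensor_orig (r := r) ℳ (d - i)
  exact ⟨ModCohSeq.V_of_iso e, ModCohSeq.V_of_iso e.symm⟩

end Groth.Agent.CAlgH3.POrig

end
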