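import Groth.Agent.CAlgH3.PKoszul
import Groth.Agent.CAlgH3.POrig
import Groth.Agent.GrLib.RegPoly

/-!
# The regularity of a graded module from that of its sheaf

If the sheaf of `M` is `d`-regular, `M` has no torsion above degree `d` and `M_d` surjects onto the sections of
`M(d)~`, the minimal free resolution of `M` is linearly bounded by `d`.
-/

set_option autoImplicit false
set_option linter.unusedSectionVars false
set_option backward.isDefEq.respectTransparency.types false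

universe u

open DirectSum AlgebraicGeometry CategoryTheory TopologicalSpace Opposite MvPolynomial
open Groth.Agent.GrLib
open Groth.Agent.CAlgH3.GrModExact Groth.Agent.CAlgH3.PosPart Groth.Agent.CAlgH3.PTilde
open Groth.Agent.CAlgH3.PRing Groth.Agent.CAlgH3.ModCohSeq Groth.Agent.CAlgH3.PFree Groth.Agent.CAlgH3.PKoszul

noncomputable section

namespace Groth.Agent.CAlgH3.PReg

variable {k : Type u} [Field k] {r : ℕ}
variable {M τ : Type u} [AddCommGroup M] [Module (MvPolynomial (Fin (r + 1)) k) M] [SetLike τ M]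
  [AddSubgroupClass τ M] {ℳ : ℤ → τ} [Decomposition ℳ] [SetLike.GradedSMul (GrSyz.stdGr k (Fin (r + 1))) ℳ]

/-- No local cohomology of degree zero in degree `n` means no torsion there. -/
theorem torFree_of_Hgr (E : GrLC.StarInjRes (GrSyz.stdGr k (Fin (r + 1))) ℳ) {n : ℤ}
    (h : ∀ x ∈ E.Hgr (GrSyz.irrel (GrSyz.stdGr k (Fin (r + 1)))) 0 n, x = 0) : TorFree k r ℳ n := by
  intro m hm hl
  obtain ⟨j, hj⟩ := exists_pow_mem_of_kills (GrSyz.irrel (GrSyz.stdGr k (Fin (r + 1))))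
    (gens := List.ofFn (X : Fin (r + 1) → MvPolynomial (Fin (r + 1)) k))
    ((GrLib.irrel_eq k (r + 1)).trans (congrArg _ (Set.ext fun y => List.mem_ofFn.symm)))
    (⊥ : Submodule (MvPolynomial (Fin (r + 1)) k) M) m (fun y hy => by
      obtain ⟨l, rfl⟩ := List.mem_ofFn.1 hy
      obtain ⟨i, hi⟩ := hl l
      exact ⟨i, (Submodule.mem_bot _).2 hi⟩)
  have hc : E.ε m ∈ E.cocyc (GrSyz.irrel (GrSyz.stdGr k (Fin (r + 1)))) 0 :=
    ⟨⟨j, fun a ha => by rw [← map_smul, (Submodule.mem_bot _).1 (hj a ha), map_zero]⟩, d_comp_ε E m⟩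
  have h1 := h (E.toH _ 0 ⟨_, hc⟩) ⟨⟨_, hc⟩, E.ε_grHom n m hm, rfl⟩
  exact E.ε_injective (((Submodule.mem_bot _).1 ((toH_eq_zero _).1 h1)).trans (map_zero _).symm)

variable (k r ℳ) in
/-- Sheaf regularity, no torsion above `d`, and sections in degree `d` from the module. -/
def Good (d : ℤ) : Prop :=
  Reg k r ℳ d ∧ GlobSurj k r ℳ d ∧ ∀ e, d < e → TorFree k r ℳ e

theorem V_one' {X : Scheme.{u}} {A B C : X.Modules} {f : A ⟶ B} {g : B ⟶ C} {w : f ≫ g = 0}
    (hS : (ShortComplex.mk f g w).ShortExact) (hg : Function.Surjective (g.app (⊤ : X.Opens))) (h₂ : V B 1) :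
    V A 1 :=
  V_one_of_surjective hS hg h₂

theorem V_left' {X : Scheme.{u}} {A B C : X.Modules} {f : A ⟶ B} {g : B ⟶ C} {w : f ≫ g = 0}
    (hS : (ShortComplex.mk f g w).ShortExact) {q : ℕ} (h₃ : V C q) (h₂ : V B (q + 1)) : V A (q + 1) :=
  V_left hS h₃ h₂

section cover

variable {m : ℕ} {g : Fin m → ℤ} (p : (Fin m → MvPolynomial (Fin (r + 1)) k) →ₗ[MvPolynomial (Fin (r + 1)) k] M)
  (hp : GrLC.IsGrHom (freeGr (GrSyz.stdGr k (Fin (r + 1))) g) ℳ p) (hps : Function.Surjective p)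
  (hker : ∀ v, p v = 0 → ∀ b, v b ∈ (GrSyz.irrel (GrSyz.stdGr k (Fin (r + 1)))).toIdeal)
  {d : ℤ} (hd : 0 ≤ d) (hgood : Good k r ℳ d)

include hp hps hker hd hgood in
theorem gens_le (b : Fin m) : g b ≤ d := by
  by_contra h
  exact gen_deg_ne (stdGr_neg k (r + 1)) p hp hps (irrel_ne_top k (r + 1)) hker b
    (mem_span_of_lt hd hgood.1 hgood.2.1 hgood.2.2 (g b) (by omega))

variable (K : Submodule (MvPolynomial (Fin (r + 1)) k) (Fin m → MvPolynomial (Fin (r + 1)) k))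
  (hex : Function.Exact K.subtype p)
  [Decomposition (freeGr (GrSyz.stdGr k (Fin (r + 1))) g)]
  [Decomposition (subGr (freeGr (GrSyz.stdGr k (Fin (r + 1))) g) K)]

include hps in
theorem app_surjective {n : ℤ} (hn : 0 ≤ n) (h : GlobSurj k r ℳ n)
    [Decomposition (freeGr (GrSyz.stdGr k (Fin (r + 1))) g)] :
    Function.Surjective ((Tmap p hp n).app (⊤ : (CohB1.ProjSpace r k).Opens)) := by
  obtain ⟨j, rfl⟩ : ∃ j : ℕ, n = j := ⟨n.toNat, (Int.toNat_of_nonneg hn).symm⟩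
  intro s
  obtain ⟨c, hc⟩ := h s
  obtain ⟨b, hb, hpb⟩ := exists_preimage (ℳ := freeGr (GrSyz.stdGr k (Fin (r + 1))) g)
    (grHomDeg_zero_iff.2 hp) (g := (j : ℤ)) (by rw [add_zero]; exact hc.1) (LinearMap.mem_range.2 (hps c.1))
  obtain ⟨t, ht⟩ := exists_isGlob (k := k) (r := r) hb
  refine ⟨t, (isGlob_map p hp ht).ext ?_⟩
  rw [show posMap (𝒵 := GrSyz.stdGr k (Fin (r + 1))) p hp ⟨b, mem_pos_of_mem (by omega) hb⟩ = c from
    Subtype.ext hpb]
  exact hc

omit [Decomposition (freeGr (GrSyz.stdGr k (Fin (r + 1))) g)] in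
theorem torFree_sub (e : ℤ) : TorFree k r (subGr (freeGr (GrSyz.stdGr k (Fin (r + 1))) g) K) e := fun v _ hl => by
  obtain ⟨i, hi⟩ := hl 0
  refine Subtype.ext (funext fun b => ?_)
  have := congrFun (congrArg Subtype.val hi) b
  exact (mul_eq_zero.1 this).resolve_left (pow_ne_zero _ (X_ne_zero 0))

theorem sub_app_injective (n : ℤ) : Function.Injective ((Tmap K.subtype
    (subtype_grHom (ℳ := freeGr (GrSyz.stdGr k (Fin (r + 1))) g) K) n).app (⊤ : (CohB1.ProjSpace r k).Opens)) :=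
  POrig.app_injective_of_injective _ _ _ _
    (fun a b h => by
      have h2 := congrArg Subtype.val h
      exact Subtype.ext (Subtype.ext h2)) ⊤

include hp hex in
theorem globSurj_kernel {n : ℤ} (hn : 0 ≤ n) (hg : ∀ b, g b ≤ n) (hfree : TorFree k r ℳ n) :
    GlobSurj k r (subGr (freeGr (GrSyz.stdGr k (Fin (r + 1))) g) K) n := by
  obtain ⟨j, rfl⟩ : ∃ j : ℕ, n = j := ⟨n.toNat, (Int.toNat_of_nonneg hn).symm⟩
  intro s
  obtain ⟨c, hc⟩ := globSurj_free g hn hg
    ((Tmap K.subtype (subtype_grHom (ℳ := freeGr (GrSyz.stdGr k (Fin (r + 1))) g) K) (j : ℤ)).app ⊤ s)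
  have h0 : posMap (𝒵 := GrSyz.stdGr k (Fin (r + 1))) p hp c = 0 :=
    (isGlob_map p hp hc).eq_zero hn hfree
      (app_comp_eq_zero K.subtype (subtype_grHom (ℳ := freeGr (GrSyz.stdGr k (Fin (r + 1))) g) K) p hp
        hex.apply_apply_eq_zero (j : ℤ) ⊤ s)
  obtain ⟨v, hv⟩ := (hex c.1).1 (congrArg Subtype.val h0)
  have hvm : v ∈ subGr (freeGr (GrSyz.stdGr k (Fin (r + 1))) g) K (j : ℤ) := by
    show v.1 ∈ freeGr (GrSyz.stdGr k (Fin (r + 1))) g (j : ℤ)
    rw [show v.1 = c.1 from hv]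
    exact hc.1
  obtain ⟨t, ht⟩ := exists_isGlob (k := k) (r := r) hvm
  have h1 := isGlob_map K.subtype (subtype_grHom (ℳ := freeGr (GrSyz.stdGr k (Fin (r + 1))) g) K) ht
  rw [show posMap (𝒵 := GrSyz.stdGr k (Fin (r + 1))) K.subtype
    (subtype_grHom (ℳ := freeGr (GrSyz.stdGr k (Fin (r + 1))) g) K) ⟨v, mem_pos_of_mem (by omega) hvm⟩ = c from
    Subtype.ext hv] at h1
  exact ⟨_, sub_app_injective K (j : ℤ) (h1.ext hc) ▸ ht⟩

include hp hps hex in
theorem V_kernel {e : ℤ} (he : 0 ≤ e) (hreg : Reg k r ℳ e) (hG : GlobSurj k r ℳ e) (hg : ∀ b, g b ≤ e) :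
    Reg k r (subGr (freeGr (GrSyz.stdGr k (Fin (r + 1))) g) K) (e + 1) := by
  intro i hi
  obtain ⟨i, rfl⟩ : ∃ j, i = j + 1 := ⟨i - 1, by omega⟩
  rw [show e + 1 - ((i + 1 : ℕ) : ℤ) = e - (i : ℤ) by push_cast; ring]
  have h2 : V (T k r (freeGr (GrSyz.stdGr k (Fin (r + 1))) g) (e - (i : ℤ))) (i + 1) :=
    V_free g (by omega) fun h b => by have := hg b; omega
  have hS := shortExact_Tmap K.subtype (subtype_grHom (ℳ := freeGr (GrSyz.stdGr k (Fin (r + 1))) g) K) p hp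
    K.injective_subtype hps hex (e - (i : ℤ))
  rcases Nat.eq_zero_or_pos i with h | hi'
  · subst h
    have hn : (0 : ℤ) ≤ e - ((0 : ℕ) : ℤ) := by omega
    have hG' : GlobSurj k r ℳ (e - ((0 : ℕ) : ℤ)) := by rwa [Nat.cast_zero, sub_zero]
    exact V_one' hS (app_surjective p hp hps hn hG') h2
  · exact V_left' hS (hreg i hi') h2

include hp hps hker hd hgood hex in
theorem kernel_good : Good k r (subGr (freeGr (GrSyz.stdGr k (Fin (r + 1))) g) K) (d + 1) :=
  have hg := gens_le p hp hps hker hd hgood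
  ⟨V_kernel p hp hps K hex hd hgood.1 hgood.2.1 hg,
    globSurj_kernel p hp K hex (by omega) (fun b => (hg b).trans (by omega)) (hgood.2.2 _ (by omega)),
    fun e _ => torFree_sub K e⟩

end cover

section resolution

variable {N : Type u} [AddCommGroup N] [Module k N] [Module (MvPolynomial (Fin (r + 1)) k) N]
  {𝒩 : ℤ → Submodule k N} [Decomposition 𝒩] [SetLike.GradedSMul (GrSyz.stdGr k (Fin (r + 1))) 𝒩]

theorem isGenLE_of_good (F : GrSyz.FreeRes (GrSyz.stdGr k (Fin (r + 1))) 𝒩)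
    (hF : F.IsMinimal (GrSyz.irrel (GrSyz.stdGr k (Fin (r + 1)))).toIdeal) {d : ℤ} (hd : 0 ≤ d)
    (hgood : Good k r 𝒩 d) : F.IsGenLE d := by
  have hco : ∀ j v, v ∈ Syz F j → ∀ b, v b ∈ (GrSyz.irrel (GrSyz.stdGr k (Fin (r + 1)))).toIdeal := by
    rintro j _ ⟨w, rfl⟩ b
    show (∑ c, F.d j b c * w c) ∈ (GrSyz.irrel (GrSyz.stdGr k (Fin (r + 1)))).toIdeal
    exact sum_mem fun c _ => Ideal.mul_mem_right _ _ (hF j b c)
  have hker0 : ∀ v, F.augLin v = 0 → ∀ b, v b ∈ (GrSyz.irrel (GrSyz.stdGr k (Fin (r + 1)))).toIdeal :=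
    fun v hv => hco 0 v (SetLike.ext_iff.1 F.exact_zero v |>.1 (LinearMap.mem_ker.2 hv))
  have hkerS : ∀ j v, (F.dLin j).rangeRestrict v = 0 →
      ∀ b, v b ∈ (GrSyz.irrel (GrSyz.stdGr k (Fin (r + 1)))).toIdeal := fun j v hv =>
    hco (j + 1) v (SetLike.ext_iff.1 (F.exact_succ j) v |>.1 (LinearMap.mem_ker.2 (congrArg Subtype.val hv)))
  have hZ : ∀ j : ℕ, letI := syzDecomp F j
      Good k r (subGr (freeGr (GrSyz.stdGr k (Fin (r + 1))) (F.deg j)) (Syz F j)) (d + (j + 1)) := by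
    intro j
    induction j with
    | zero =>
      letI := freeDecomp (GrSyz.stdGr k (Fin (r + 1))) (F.deg 0)
      letI := syzDecomp F 0
      simpa using kernel_good F.augLin (augLin_grHom F) F.aug_surjective hker0 hd hgood _ (exact_aug F)
    | succ j ih =>
      letI := freeDecomp (GrSyz.stdGr k (Fin (r + 1))) (F.deg (j + 1))
      letI := syzDecomp F j
      letI := syzDecomp F (j + 1)
      have := kernel_good (F.dLin j).rangeRestrict (proj_grHom F j) (LinearMap.surjective_rangeRestrict _)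
        (hkerS j) (d := d + (j + 1)) (by omega) ih _ (exact_proj F j)
      rwa [show d + (((j + 1 : ℕ) : ℤ) + 1) = d + ((j : ℤ) + 1) + 1 by push_cast; ring]
  intro j b
  cases j with
  | zero => simpa using gens_le F.augLin (augLin_grHom F) F.aug_surjective hker0 hd hgood b
  | succ j =>
    letI := syzDecomp F j
    have := gens_le (F.dLin j).rangeRestrict (proj_grHom F j) (LinearMap.surjective_rangeRestrict _)
      (hkerS j) (d := d + (j + 1)) (by omega) (hZ j) b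
    push_cast
    omega

theorem isRegLE_of_good [Module.Finite (MvPolynomial (Fin (r + 1)) k) N] {d : ℤ} (hd : 0 ≤ d)
    (hgood : Good k r 𝒩 d) :
    GrSyz.IsRegLE (GrSyz.stdGr k (Fin (r + 1))) 𝒩 (GrSyz.irrel (GrSyz.stdGr k (Fin (r + 1)))).toIdeal d := by
  obtain ⟨F, hF⟩ := exists_minimal (m := r + 1) 𝒩
  exact (isRegLE_iff_minimal F hF d).2 (isGenLE_of_good F hF hd hgood)

end resolution

end Groth.Agent.CAlgH3.PReg

end
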