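import Groth.Agent.CAlgH3.PFree

/-!
# Regularity of a graded module bounds the regularity of its sheaf

From a graded free resolution: vanishing of the cohomology of `M(n)~` and surjectivity of `M_n → H⁰(M(n)~)`.
-/

set_option autoImplicit false
set_option linter.unusedSectionVars false
set_option backward.isDefEq.respectTransparency.types false

universe u

open DirectSum AlgebraicGeometry CategoryTheory TopologicalSpace Opposite MvPolynomial
open Groth.Agent.GrLib
open Groth.Agent.CAlgH3.GrModExact Groth.Agent.CAlgH3.PosPart Groth.Agent.CAlgH3.PTilde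
open Groth.Agent.CAlgH3.PRing Groth.Agent.CAlgH3.ModCohSeq Groth.Agent.CAlgH3.PFree

noncomputable section

namespace Groth.Agent.CAlgH3.PRes

variable {k : Type u} [Field k] {r : ℕ}
variable {M τ : Type u} [AddCommGroup M] [Module (MvPolynomial (Fin (r + 1)) k) M] [SetLike τ M]
  [AddSubgroupClass τ M] {ℳ : ℤ → τ} [Decomposition ℳ] [SetLike.GradedSMul (GrSyz.stdGr k (Fin (r + 1))) ℳ]
variable (F : GrSyz.FreeRes (GrSyz.stdGr k (Fin (r + 1))) ℳ) (n : ℤ)

attribute [local instance] freeDecomp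

/-- The sheaves of a resolution, the module first. -/
def D : ℕ → (CohB1.ProjSpace r k).Modules
  | 0 => T k r ℳ n
  | p + 1 => T k r (freeGr (GrSyz.stdGr k (Fin (r + 1))) (F.deg p)) n

/-- Their maps. -/
def f : ∀ p, D F n (p + 1) ⟶ D F n p
  | 0 => Tmap F.augLin (augLin_grHom F) n
  | p + 1 => Tmap (F.dLin p) (dLin_grHom F p) n

theorem aug_d (x : Fin (F.rk 1) → MvPolynomial (Fin (r + 1)) k) : F.augLin (F.dLin 0 x) = 0 :=
  LinearMap.mem_ker.1 ((SetLike.ext_iff.1 F.exact_zero _).2 ⟨x, rfl⟩)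

theorem d_d (p : ℕ) (x : Fin (F.rk (p + 2)) → MvPolynomial (Fin (r + 1)) k) : F.dLin p (F.dLin (p + 1) x) = 0 :=
  LinearMap.mem_ker.1 ((SetLike.ext_iff.1 (F.exact_succ p) _).2 ⟨x, rfl⟩)

theorem w : ∀ p, f F n (p + 1) ≫ f F n p = 0
  | 0 => Tmap_comp_eq_zero _ _ _ _ (aug_d F) n
  | p + 1 => Tmap_comp_eq_zero _ _ _ _ (d_d F p) n

theorem exact : ∀ p, (ShortComplex.mk (f F n (p + 1)) (f F n p) (w F n p)).Exact
  | 0 => exact_Tmap _ _ _ _ (aug_d F) (fun a ha _ => ⟨0, by
      rw [pow_zero, one_smul]; exact (SetLike.ext_iff.1 F.exact_zero a).1 (LinearMap.mem_ker.2 ha)⟩) n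
  | p + 1 => exact_Tmap _ _ _ _ (d_d F p) (fun a ha _ => ⟨0, by
      rw [pow_zero, one_smul]; exact (SetLike.ext_iff.1 (F.exact_succ p) a).1 (LinearMap.mem_ker.2 ha)⟩) n

theorem isQCoh : ∀ p, Coh.IsQCoh (D F n p)
  | 0 => isQCoh_T n
  | _ + 1 => isQCoh_T n

theorem epi : Epi (f F n 0) :=
  epi_Tmap _ _ (fun a _ => ⟨0, by rw [pow_zero, one_smul]; exact LinearMap.mem_range.2 (F.aug_surjective a)⟩) n

include F in
theorem V_of_res {i : ℕ} (hi : 1 ≤ i) (h : ∀ q b, i + q = r → -(r : ℤ) ≤ n - F.deg q b) : V (T k r ℳ n) i := by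
  have := epi F n
  exact V_resolved (D F n) (f F n) (w F n) (exact F n) (isQCoh F n) r V_above i fun q =>
    V_free (F.deg q) (by omega) fun e b => h q b e

include F in
theorem globSurj_of_res (hn : 0 ≤ n) (h₀ : ∀ b, F.deg 0 b ≤ n)
    (h : ∀ q b, q + 1 = r → -(r : ℤ) ≤ n - F.deg (q + 1) b) : GlobSurj k r ℳ n := by
  have := epi F n
  have hs := surjective_resolved (D F n) (f F n) (w F n) (exact F n) (isQCoh F n) r V_above fun q =>
    V_free (F.deg (q + 1)) (by omega) fun e b => h q b e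
  intro s
  obtain ⟨t, rfl⟩ := hs s
  obtain ⟨m, hm⟩ := globSurj_free (F.deg 0) hn h₀ t
  exact ⟨_, isGlob_map F.augLin (augLin_grHom F) hm⟩

end Groth.Agent.CAlgH3.PRes

end
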