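import Groth.Agent.CAlgH3.PTilde
import Groth.Agent.CAlgH3.ModCohSeq
import Groth.Agent.TwistLib.G.Gen
import Groth.Agent.TwistDom24.Sections
import Mathlib.Algebra.MvPolynomial.Division

/-!
# The structure sheaf, shifts and twists for sheaves attached to graded modules on projective space
-/

set_option autoImplicit false
set_option linter.unusedSectionVars false
set_option backward.isDefEq.respectTransparency.types false

universe u

open DirectSum AlgebraicGeometry CategoryTheory TopologicalSpace Opposite MvPolynomial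
open Groth.Agent.ProjLib Groth.Agent.Coherent Groth.Agent.GrLib
open Groth.Agent.CAlgH3.GrModExact Groth.Agent.CAlgH3.PosPart Groth.Agent.CAlgH3.PTilde

noncomputable section

namespace Groth.Agent.CAlgH3.PRing

variable {k : Type u} [Field k] {r : ℕ}

/-- `O(n)` of the two preludes. -/
def twistCompare (n : ℤ) : GrTwist.twist (CohB1.polyGrading r k) n ≅ Twist.twistProjSpace r k n := Iso.refl _

variable (k r) in
/-- The inclusion of the non-negative part of the ring. -/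
def inclRing : pos (GrSyz.stdGr k (Fin (r + 1))) (GrSyz.stdGr k (Fin (r + 1))) →ₗ[MvPolynomial (Fin (r + 1)) k]
    MvPolynomial (Fin (r + 1)) k := Submodule.subtype _

theorem inclRing_mem (i : ℕ) (x : pos (GrSyz.stdGr k (Fin (r + 1))) (GrSyz.stdGr k (Fin (r + 1))))
    (hx : x ∈ posGr (GrSyz.stdGr k (Fin (r + 1))) (GrSyz.stdGr k (Fin (r + 1))) i) :
    inclRing k r x ∈ CohB1.polyGrading r k (i + 0) :=
  (isHomogeneous_iff_stdGr i _).2 (mem_posGr.1 hx)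

variable (k r) in
/-- The sheaf of the ring itself is the twisting sheaf. -/
def ringIso (n : ℤ) : T k r (GrSyz.stdGr k (Fin (r + 1))) n ≅ Twist.twistProjSpace r k n :=
  @asIso _ _ _ _ (mapC (CohB1.polyGrading r k) (inclRing k r) 0 inclRing_mem (n := n) (n' := n) (by simp))
    (isIso_mapC _ _ _ _ tv tv_mem tv_notMem
      (fun _ m _ hm _ => ⟨0, by rw [pow_zero, one_smul]; exact Subtype.ext hm⟩)
      fun i a ha _ => ⟨0, i, ⟨a, mem_pos_of_mem (by omega) ((isHomogeneous_iff_stdGr i a).1 ha)⟩,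
        mem_posGr.2 ((isHomogeneous_iff_stdGr i a).1 ha), by omega, by rw [pow_zero, one_smul]; rfl⟩) ≪≫
    (TwistLib.G.twistIsoTilde (CohB1.polyGrading r k) n).symm ≪≫ twistCompare n

theorem V_ring {n : ℤ} {q : ℕ} (hq : 1 ≤ q) (h : q = r → -(r : ℤ) ≤ n) :
    ModCohSeq.V (T k r (GrSyz.stdGr k (Fin (r + 1))) n) q :=
  ModCohSeq.V_of_iso (ringIso k r n).symm
    (subsingleton_HH_twist (n := r) (R := k) (d := n) q (by omega) (by omega))

theorem V_above (M : (CohB1.ProjSpace r k).Modules) (hM : Coh.IsQCoh M) (i : ℕ) (hi : r < i) : ModCohSeq.V M i :=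
  subsingleton_HH_projSpace_of_lt M i hi

theorem dvd_of_mul_eq {l : Fin (r + 1)} {p : MvPolynomial (Fin (r + 1)) k} {N c : ℕ}
    (hp : p ∈ CohB1.polyGrading r k (N + c))
    (h : ∀ j : Fin (r + 1), j ≠ l → ∃ (e : ℕ) (p' : MvPolynomial (Fin (r + 1)) k), X j ^ e * p = X l ^ N * p') :
    X l ^ N ∣ p := by
  by_cases hj : ∃ j, j ≠ l
  · obtain ⟨j, hj⟩ := hj
    obtain ⟨e, p', he⟩ := h j hj
    refine (X_prime (R := k) (i := l)).pow_dvd_of_dvd_mul_left N (fun hd => ?_) ⟨p', he⟩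
    exact hj ((X_dvd_X (R := k) (i := l) (j := j)).1 ((X_prime (R := k) (i := l)).dvd_of_dvd_pow hd)).symm
  · push Not at hj
    have hp' : p = C (coeff (Finsupp.single l (N + c)) p) * X l ^ (N + c) := by
      rw [X_pow_eq_monomial, C_mul_monomial, mul_one]
      ext m
      rw [coeff_monomial]
      split_ifs with h'
      · rw [h']
      · by_contra hne
        refine h' ?_
        have h1 := (mem_homogeneousSubmodule (N + c) p).mp hp hne
        have hu : (Finset.univ : Finset (Fin (r + 1))) = {l} := Finset.eq_singleton_iff_unique_mem.2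
          ⟨Finset.mem_univ _, fun j _ => hj j⟩
        ext j
        rw [hj j, Finsupp.single_eq_same, ← h1]
        simp [Finsupp.weight, Finsupp.linearCombination_apply, Finsupp.sum_fintype, hu]
    rw [hp', pow_add]
    exact Dvd.dvd.mul_left (dvd_mul_right _ _) _

/-- Global sections of `O(c)`, `c ≥ 0`, are polynomials. -/
theorem globSurj_ring {c : ℤ} (hc : 0 ≤ c) : GlobSurj k r (GrSyz.stdGr k (Fin (r + 1))) c := by
  classical
  obtain ⟨e, rfl⟩ : ∃ e : ℕ, c = e := ⟨c.toNat, (Int.toNat_of_nonneg hc).symm⟩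
  intro s
  let P := MvPolynomial (Fin (r + 1)) k
  let 𝒢 := posGr (GrSyz.stdGr k (Fin (r + 1))) (GrSyz.stdGr k (Fin (r + 1)))
  have hcov := fun x : ProjectiveSpectrum (CohB1.polyGrading r k) => exists_var_notMem x
  choose N i m hi hval using fun l : Fin (r + 1) => TwistLib.G.exists_frac (ℳ := 𝒢) (d := 1) one_pos
    (X_mem_polyGrading r k l)
    (resM (T k r (GrSyz.stdGr k (Fin (r + 1))) e)
      (le_top : (Proj.basicOpen (CohB1.polyGrading r k) (X l : P)) ≤ ⊤) s)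
  let p : Fin (r + 1) → P := fun l => ((m l).1 : P)
  have hp : ∀ l, p l ∈ CohB1.polyGrading r k (N l + e) := fun l => by
    have h1 : p l ∈ GrSyz.stdGr k (Fin (r + 1)) (i l : ℤ) := mem_posGr.1 (m l).2
    rw [show i l = N l + e by have := hi l; push_cast at this; omega] at h1
    exact (isHomogeneous_iff_stdGr _ _).2 h1
  have h1ne : CohB1.polyGrading r k 1 ≠ ⊥ :=
    fun h => X_ne_zero (R := k) (0 : Fin (r + 1)) ((Submodule.mem_bot k).1 (h ▸ X_mem_polyGrading r k 0))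
  let η := TwistDom24.genPt h1ne
  have hη : ∀ a : P, a ≠ 0 → a ∉ η.asHomogeneousIdeal.toIdeal := fun a ha h =>
    ha (Ideal.mem_bot.1 (by simpa [η, TwistDom24.genPt] using h))
  have key : ∀ j l, X j ^ N j * p l = X l ^ N l * p j := fun j l => by
    have e1 := hval j ⟨η, hη _ (X_ne_zero j)⟩
    have e2 := hval l ⟨η, hη _ (X_ne_zero l)⟩
    obtain ⟨⟨b, hb⟩, hb'⟩ := LocalizedModule.mk_eq.mp (e1.symm.trans e2)
    have hb0 : b ≠ 0 := fun h => hb (h ▸ Ideal.zero_mem η.asHomogeneousIdeal.toIdeal)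
    have h3 : b * (X l ^ N l * p j) = b * (X j ^ N j * p l) := congrArg Subtype.val hb'
    exact (mul_left_cancel₀ hb0 h3).symm
  have hdvd : ∀ l, X l ^ N l ∣ p l := fun l => dvd_of_mul_eq (hp l) fun j _ => ⟨N j, p j, key j l⟩
  choose q hq using hdvd
  have hq0 : ∀ l, q l ∈ CohB1.polyGrading r k e := fun l => by
    have h1 := TwistLib.G.decompose_homogeneous_smul (ℳ := CohB1.polyGrading r k)
      (TwistLib.G.pow_mem_deg (X_mem_polyGrading r k l) (N l)) (q l) e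
    rw [mul_one, show (X l ^ N l : P) • q l = p l from (hq l).symm, decompose_of_mem_same _ (hp l), hq l] at h1
    rw [mul_left_cancel₀ (pow_ne_zero _ (X_ne_zero l)) h1]
    exact Submodule.coe_mem _
  have hqq : ∀ j l, q j = q l := fun j l => mul_left_cancel₀
    (mul_ne_zero (pow_ne_zero (N j) (X_ne_zero j)) (pow_ne_zero (N l) (X_ne_zero l))) (by
      calc X j ^ N j * X l ^ N l * q j = X l ^ N l * (X j ^ N j * q j) := by ring
        _ = X l ^ N l * p j := by rw [← hq j]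
        _ = X j ^ N j * p l := (key j l).symm
        _ = X j ^ N j * X l ^ N l * q l := by rw [hq l]; ring)
  have hg : q 0 ∈ GrSyz.stdGr k (Fin (r + 1)) (e : ℤ) := (isHomogeneous_iff_stdGr _ _).1 (hq0 0)
  refine ⟨⟨q 0, mem_pos_of_mem (by omega) hg⟩, hg, fun x => ?_⟩
  obtain ⟨l, hl⟩ := hcov x.1
  refine Eq.trans (hval l ⟨x.1, hl⟩) ?_
  refine LocalizedModule.mk_eq.mpr ⟨1, Subtype.ext ?_⟩
  show (1 : P) * (1 * p l) = 1 * (X l ^ N l * q 0)
  rw [one_mul, one_mul, one_mul, hqq 0 l, ← hq l]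

variable {M τ : Type u} [AddCommGroup M] [Module (MvPolynomial (Fin (r + 1)) k) M] [SetLike τ M]
  [AddSubgroupClass τ M] {ℳ : ℤ → τ} [Decomposition ℳ] [SetLike.GradedSMul (GrSyz.stdGr k (Fin (r + 1))) ℳ]
  {τ₂ : Type u} [SetLike τ₂ M] [AddSubgroupClass τ₂ M] {ℳ₂ : ℤ → τ₂} [Decomposition ℳ₂]
  [SetLike.GradedSMul (GrSyz.stdGr k (Fin (r + 1))) ℳ₂]

/-- Shifting the grading shifts the twist. -/
theorem nonempty_iso_shift (c : ℤ) (h : ∀ i m, m ∈ ℳ₂ i ↔ m ∈ ℳ (i + c)) (n : ℤ) :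
    Nonempty (T k r ℳ₂ n ≅ T k r ℳ (n + c)) := by
  rcases le_or_gt 0 c with hc | hc
  · obtain ⟨d, rfl⟩ : ∃ d : ℕ, c = d := ⟨c.toNat, (Int.toNat_of_nonneg hc).symm⟩
    have := isIso_Traise (k := k) (r := r) (ℳ := ℳ) (ℳ₂ := ℳ₂) d h (n := n) rfl
    exact ⟨asIso (Traise (k := k) (r := r) (ℳ := ℳ) (ℳ₂ := ℳ₂) d h (n := n) rfl)⟩
  · obtain ⟨d, rfl⟩ : ∃ d : ℕ, c = -d := ⟨(-c).toNat, by omega⟩
    have h' : ∀ i m, m ∈ ℳ i ↔ m ∈ ℳ₂ (i + d) := fun i m => by rw [h, add_neg_cancel_right]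
    have := isIso_Traise (k := k) (r := r) (ℳ := ℳ₂) (ℳ₂ := ℳ) d h' (n := n + -d) (n' := n) (by ring)
    exact ⟨(asIso (Traise (k := k) (r := r) (ℳ := ℳ₂) (ℳ₂ := ℳ) d h' (n := n + -d) (n' := n) _)).symm⟩

theorem V_shift (c : ℤ) (h : ∀ i m, m ∈ ℳ₂ i ↔ m ∈ ℳ (i + c)) {n : ℤ} {q : ℕ}
    (hV : ModCohSeq.V (T k r ℳ (n + c)) q) : ModCohSeq.V (T k r ℳ₂ n) q :=
  (nonempty_iso_shift c h n).elim fun e => ModCohSeq.V_of_iso e.symm hV

theorem globSurj_shift (c : ℤ) (h : ∀ i m, m ∈ ℳ₂ i ↔ m ∈ ℳ (i + c)) {n : ℤ} (hn : 0 ≤ n)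
    (hG : GlobSurj k r ℳ (n + c)) : GlobSurj k r ℳ₂ n := by
  intro s
  rcases le_or_gt 0 c with hc | hc
  · obtain ⟨d, rfl⟩ : ∃ d : ℕ, c = d := ⟨c.toNat, (Int.toNat_of_nonneg hc).symm⟩
    have hiso := isIso_Traise (k := k) (r := r) (ℳ := ℳ) (ℳ₂ := ℳ₂) d h (n := n) rfl
    obtain ⟨m, hm⟩ := hG ((Traise (k := k) (r := r) (ℳ := ℳ) (ℳ₂ := ℳ₂) d h (n := n) rfl).app ⊤ s)
    have hm2 : (m : M) ∈ ℳ₂ n := (h _ _).2 hm.1
    obtain ⟨e, rfl⟩ : ∃ e : ℕ, n = e := ⟨n.toNat, (Int.toNat_of_nonneg hn).symm⟩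
    obtain ⟨s', hs'⟩ := exists_isGlob (k := k) (r := r) hm2
    refine ⟨⟨m.1, mem_pos_of_mem (by omega) hm2⟩, ?_⟩
    suffices s = s' by rw [this]; exact hs'
    refine app_injective_of_mono (Traise (k := k) (r := r) (ℳ := ℳ) (ℳ₂ := ℳ₂) d h (n := (e : ℤ)) rfl) _ ?_
    exact hm.ext (isGlob_raise d h rfl hs')
  · obtain ⟨d, rfl⟩ : ∃ d : ℕ, c = -d := ⟨(-c).toNat, by omega⟩
    have h' : ∀ i m, m ∈ ℳ i ↔ m ∈ ℳ₂ (i + d) := fun i m => by rw [h, add_neg_cancel_right]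
    have hh : n + -(d : ℤ) + d = n := by ring
    have := isIso_Traise (k := k) (r := r) (ℳ := ℳ₂) (ℳ₂ := ℳ) d h' (n := n + -d) hh
    obtain ⟨m, hm⟩ := hG ((inv (Traise (k := k) (r := r) (ℳ := ℳ₂) (ℳ₂ := ℳ) d h' (n := n + -d) hh)).app ⊤ s)
    refine ⟨raiseMap d h' m, ?_⟩
    have h2 := isGlob_raise (ℳ := ℳ₂) (ℳ₂ := ℳ) d h' hh hm
    rwa [show (Traise (k := k) (r := r) (ℳ := ℳ₂) (ℳ₂ := ℳ) d h' (n := n + -d) hh).app ⊤
        ((inv (Traise (k := k) (r := r) (ℳ := ℳ₂) (ℳ₂ := ℳ) d h' (n := n + -d) hh)).app ⊤ s) = s from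
      ConcreteCategory.congr_hom (congrArg (fun φ => Scheme.Modules.Hom.app φ (⊤ : (CohB1.ProjSpace r k).Opens))
        (IsIso.inv_hom_id (Traise (k := k) (r := r) (ℳ := ℳ₂) (ℳ₂ := ℳ) d h' (n := n + -d) hh))) s] at h2

/-- `M~ ⊗ O(t) ≅ M(t)~`. -/
theorem nonempty_tensor_twist (t : ℤ) :
    Nonempty (CohB1.tensorMod (T k r ℳ 0) (Twist.twistProjSpace r k t) ≅ T k r ℳ t) := by
  have := TwistLib.G.isIso_desc_mulBilin (𝒜 := CohB1.polyGrading r k)
    (posGr (GrSyz.stdGr k (Fin (r + 1))) ℳ) (p := 0) (q := t) (r := t) (d := 1) (zero_add t) (m := t)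
    (by simp) fun x => ⟨tv x, tv_mem x, tv_notMem x⟩
  exact ⟨AmpleLib.tensorIso (Iso.refl _) (twistCompare t).symm ≪≫
    @asIso _ _ _ _ _ this⟩

end Groth.Agent.CAlgH3.PRing

end
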