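import Groth.Agent.CAlgH3.PKoszul
import Groth.Agent.CAlgH3.POrig
import Groth.Agent.GStarLib.Tilde
import Groth.Prelude.Def_Curv2

/-!
# Castelnuovo–Mumford regularity of quasi-coherent sheaves on projective space

Every quasi-coherent module on `P^r_k` is `M~` for a graded module, so regularity propagates and the sections of
the higher twists are generated by products.
-/

set_option autoImplicit false
set_option linter.unusedSectionVars false
set_option backward.isDefEq.respectTransparency.types false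

universe u

open DirectSum AlgebraicGeometry CategoryTheory TopologicalSpace Opposite MvPolynomial
open Groth.Agent.GrLib
open Groth.Agent.CAlgH3 Groth.Agent.CAlgH3.GrModExact Groth.Agent.CAlgH3.PosPart Groth.Agent.CAlgH3.PTilde
open Groth.Agent.CAlgH3.PRing Groth.Agent.CAlgH3.ModCohSeq Groth.Agent.CAlgH3.PKoszul Groth.Agent.CAlgH3.PSections
open Groth.Agent.AmpleLib

noncomputable section

namespace Groth.Agent.CAlgH3.PSheaf

variable {k : Type u} [Field k] {r : ℕ}

/-- An `ℕ`-grading continued by zero. -/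
def extGr {M : Type u} [AddCommGroup M] [Module k M] (ℳ : ℕ → Submodule k M) : ℤ → Submodule k M
  | Int.ofNat n => ℳ n
  | Int.negSucc _ => ⊥

section ext

variable {M : Type u} [AddCommGroup M] [Module k M] (ℳ : ℕ → Submodule k M) [Decomposition ℳ]

/-- Its projections. -/
def extProj : ℤ → (M →+ M)
  | Int.ofNat n => GrLib.proj ℳ n
  | Int.negSucc _ => 0

theorem extProj_of_mem (g : ℤ) (x : M) (hx : x ∈ extGr ℳ g) : extProj ℳ g x = x := by
  cases g with
  | ofNat n => exact GrLib.proj_of_mem hx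
  | negSucc n => exact ((Submodule.mem_bot k).1 hx).symm

theorem extProj_of_mem_ne (g g' : ℤ) (hne : g ≠ g') (x : M) (hx : x ∈ extGr ℳ g) : extProj ℳ g' x = 0 := by
  cases g with
  | negSucc n => rw [(Submodule.mem_bot k).1 hx, map_zero]
  | ofNat n =>
    cases g' with
    | negSucc n' => rfl
    | ofNat n' => exact GrLib.proj_of_mem_ne hx fun e => hne (congrArg Int.ofNat e)

/-- The pieces as additive subgroups. -/
def extSub (g : ℤ) : AddSubgroup M := AddSubgroup.ofClass (extGr ℳ g)

theorem iSup_extSub : ⨆ g, extSub ℳ g = ⊤ :=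
  eq_top_iff.2 fun x _ => GrLib.induction ℳ (motive := fun x => x ∈ ⨆ g, extSub ℳ g)
    (zero_mem _) (fun g _ hy => AddSubgroup.mem_iSup_of_mem (Int.ofNat g) hy) (fun _ _ hy hz => add_mem hy hz) x

/-- Its decomposition. -/
abbrev extDecomp : Decomposition (extGr ℳ) :=
  let d : Decomposition (extSub ℳ) := decompositionOfProj (extSub ℳ) (extProj ℳ)
    (fun g m hm => extProj_of_mem ℳ g m hm) (fun g h hne m hm => extProj_of_mem_ne ℳ h g hne m hm) (iSup_extSub ℳ)
  { decompose' := d.decompose'
    left_inv := d.left_inv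
    right_inv := d.right_inv }

variable [Module (MvPolynomial (Fin (r + 1)) k) M] [SetLike.GradedSMul (CohB1.polyGrading r k) ℳ]

theorem extGradedSMul : SetLike.GradedSMul (GrSyz.stdGr k (Fin (r + 1))) (extGr ℳ) where
  smul_mem {a g p m} hp hm := by
    rcases g with n | n
    · rcases a with j | j
      · exact SetLike.GradedSMul.smul_mem (B := ℳ) ((isHomogeneous_iff_stdGr j p).2 hp) hm
      · rw [stdGr_eq_zero_of_neg k (r + 1) (Int.negSucc j) (Int.negSucc_lt_zero j) p hp, zero_smul]
        exact zero_mem _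
    · rw [(Submodule.mem_bot k).1 hm, smul_zero]
      exact zero_mem _

end ext

variable (k r) in
/-- A graded module whose sheaf is the given one. -/
structure Model (F : (CohB1.ProjSpace r k).Modules) where
  /-- the module -/
  M : Type u
  [acg : AddCommGroup M]
  [modk : Module k M]
  [modS : Module (MvPolynomial (Fin (r + 1)) k) M]
  /-- the pieces -/
  gr : ℤ → Submodule k M
  [dec : Decomposition gr]
  [gsmul : SetLike.GradedSMul (GrSyz.stdGr k (Fin (r + 1))) gr]
  /-- the comparison -/
  iso : T k r gr 0 ≅ F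

attribute [instance] Model.acg Model.modk Model.modS Model.dec Model.gsmul

theorem nonempty_model (F : (CohB1.ProjSpace r k).Modules) (hF : Coh.IsQCoh F) : Nonempty (Model k r F) := by
  haveI : Coh.IsQCoh (show (Proj (CohB1.polyGrading r k)).Modules from F) := hF
  have hs1 : ∀ g : Set.range (X : Fin (r + 1) → MvPolynomial (Fin (r + 1)) k), g.1 ∈ CohB1.polyGrading r k 1 := by
    rintro ⟨_, l, rfl⟩
    exact ProjLib.X_mem_polyGrading r k l
  have hcov : ∀ x : Proj (CohB1.polyGrading r k), ∃ g : Set.range (X : Fin (r + 1) → MvPolynomial (Fin (r + 1)) k),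
      x ∈ Proj.basicOpen (CohB1.polyGrading r k) g.1 := fun x => by
    obtain ⟨l, hl⟩ := exists_var_notMem x
    exact ⟨⟨X l, l, rfl⟩, hl⟩
  have H := GStarLib.isGammaDatum (F := show (Proj (CohB1.polyGrading r k)).Modules from F) (hs1 := hs1) hcov
  obtain ⟨mk, -, ℳ, dec, gs, ⟨e⟩⟩ := GStarLib.exists_tilde_iso_of_datum H
  letI := extDecomp ℳ
  haveI := extGradedSMul (r := r) ℳ
  haveI : SetLike.GradedSMul (CohB1.polyGrading r k) (fun n : ℕ => extGr ℳ (n : ℤ)) := gs
  exact ⟨{ M := _, gr := extGr ℳ, iso := POrig.origIso (extGr ℳ) 0 ≪≫ e }⟩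

variable {F : (CohB1.ProjSpace r k).Modules}

/-- The twists of `F` in terms of the model. -/
def Model.twistIso (m : Model k r F) (t : ℤ) :
    CohB1.tensorMod F (Twist.twistProjSpace r k t) ≅ T k r m.gr t :=
  tensorIso m.iso.symm (twistCompare t).symm ≪≫
    @asIso _ _ _ _ _ (TwistLib.G.isIso_desc_mulBilin (𝒜 := CohB1.polyGrading r k)
      (posGr (GrSyz.stdGr k (Fin (r + 1))) m.gr) (p := 0) (q := t) (r := t) (d := 1) (zero_add t) (m := t)
      (by simp) fun x => ⟨tv x, tv_mem x, tv_notMem x⟩)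

theorem Model.isMRegular_iff (m : Model k r F) (d : ℤ) :
    Curv2.IsMRegular k r F d ↔ Reg k r m.gr d := by
  refine ⟨fun h i hi => ?_, fun h i hi hir => V_of_iso (m.twistIso (d - i)).symm (h i hi)⟩
  rcases le_or_gt i r with hir | hir
  · exact V_of_iso (m.twistIso (d - i)) (h i hi hir)
  · exact V_above _ (isQCoh_T _) i hir

theorem V_iff_twist (m : Model k r F) (t : ℤ) (i : ℕ) :
    V (CohB1.tensorMod F (Twist.twistProjSpace r k t)) i ↔ V (T k r m.gr t) i :=
  ⟨V_of_iso (m.twistIso t), V_of_iso (m.twistIso t).symm⟩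

/-- Regularity propagates. -/
theorem isMRegular_of_le (hF : Coh.IsQCoh F) {d e : ℤ} (hde : d ≤ e) (h : Curv2.IsMRegular k r F d) :
    Curv2.IsMRegular k r F e := by
  obtain ⟨m⟩ := nonempty_model F hF
  refine (m.isMRegular_iff e).2 ?_
  induction e, hde using Int.leInduction with
  | base => exact (m.isMRegular_iff d).1 h
  | succ e he ih => exact (reg_succ_and_mem_Mul ih).1

/-- All the higher cohomology vanishes in the range forced by regularity. -/
theorem subsingleton_HH_of_le (hF : Coh.IsQCoh F) {d : ℤ} (h : Curv2.IsMRegular k r F d) {i : ℕ} (hi : 1 ≤ i)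
    {t : ℤ} (ht : d - i ≤ t) :
    Subsingleton (Coh.HH (CohB1.ProjSpace r k) (CohB1.tensorMod F (Twist.twistProjSpace r k t)) i) := by
  obtain ⟨m⟩ := nonempty_model F hF
  have h2 := (m.isMRegular_iff (t + i)).1 (isMRegular_of_le hF (by omega) h) i hi
  rw [add_sub_cancel_right] at h2
  exact (V_iff_twist m t i).2 h2

theorem smul_mk_one {A : Type u} [CommRing A] {S : Submonoid A} {P : Type u} [AddCommGroup P] [Module A P]
    (a : A) (q : LocalizedModule S P) : (Localization.mk a (1 : S)) • q = a • q := by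
  induction q using LocalizedModule.induction_on with
  | h p s => rw [LocalizedModule.mk_smul_mk, LocalizedModule.smul'_mk, one_mul]

theorem locMap_smul_id {A σ : Type u} [CommRing A] [SetLike σ A] [AddSubgroupClass σ A] {𝒜 : ℕ → σ} [GradedRing 𝒜]
    {P : Type u} [AddCommGroup P] [Module A P] (a : A)
    (x : ProjectiveSpectrum 𝒜) (q : GrMod.LocMod 𝒜 (M := P) x) :
    GrMod.locMap (a • LinearMap.id : P →ₗ[A] P) x q = a • q := by
  induction q using LocalizedModule.induction_on with
  | h p s => rw [GrMod.locMap_mk, LocalizedModule.smul'_mk]; rfl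

/-- The sections of the next twist are sums of products of sections. -/
theorem closure_tmul_eq_top (hF : Coh.IsQCoh F) {d : ℤ} (h : Curv2.IsMRegular k r F d) :
    AddSubgroup.closure {z : Γ(CohB1.tensorMod (CohB1.tensorMod F (Twist.twistProjSpace r k d))
        (Twist.twistProjSpace r k 1), (⊤ : (CohB1.ProjSpace r k).Opens)) | ∃ a b, z = tmul a b} = ⊤ := by
  obtain ⟨m⟩ := nonempty_model F hF
  have hiso := TwistLib.G.isIso_desc_mulBilin (𝒜 := CohB1.polyGrading r k)
    (posGr (GrSyz.stdGr k (Fin (r + 1))) m.gr) (p := d) (q := 1) (r := d + 1) (d := 1) rfl (m := 1)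
    (by simp) fun x => ⟨tv x, tv_mem x, tv_notMem x⟩
  let Φ : CohB1.tensorMod (CohB1.tensorMod F (Twist.twistProjSpace r k d)) (Twist.twistProjSpace r k 1) ≅
      T k r m.gr (d + 1) :=
    tensorIso (m.twistIso d) (twistCompare 1).symm ≪≫ @asIso _ _ _ _ _ hiso
  rw [eq_top_iff]
  intro z _
  have hz := (reg_succ_and_mem_Mul ((m.isMRegular_iff d).1 h)).2 (Φ.hom.app ⊤ z)
  have hinj : ∀ w, Φ.inv.app ⊤ (Φ.hom.app ⊤ w) = w := fun w =>
    ConcreteCategory.congr_hom (congrArg (fun φ => Scheme.Modules.Hom.app φ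
      (⊤ : (CohB1.ProjSpace r k).Opens)) Φ.hom_inv_id) w
  rw [← hinj z]
  refine AddSubgroup.closure_induction (fun w hw => ?_) (by rw [map_zero]; exact zero_mem _)
    (fun a b _ _ ha hb => by rw [map_add]; exact add_mem ha hb)
    (fun a _ ha => by rw [map_neg]; exact neg_mem ha) hz
  obtain ⟨y, hy, s, hyL, rfl⟩ := hw
  let g : Γ(Twist.twistProjSpace r k 1, (⊤ : (CohB1.ProjSpace r k).Opens)) :=
    GrTwist.globalOf (CohB1.polyGrading r k) (i := 1) ⟨y, (isHomogeneous_iff_stdGr 1 y).2 hy⟩
  have key : Φ.hom.app ⊤ (tmul ((m.twistIso d).inv.app ⊤ s) g) = (mu y hy d).app ⊤ s := by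
    show (Bilin.desc _).app ⊤ ((tensorMap (m.twistIso d).hom (twistCompare 1).inv).app ⊤ _) = _
    rw [tensorMap_tmul, Bilin.desc_tmul]
    have hs : (m.twistIso d).hom.app ⊤ ((m.twistIso d).inv.app ⊤ s) = s :=
      ConcreteCategory.congr_hom (congrArg (fun φ => Scheme.Modules.Hom.app φ
        (⊤ : (CohB1.ProjSpace r k).Opens)) (m.twistIso d).inv_hom_id) s
    rw [hs]
    refine GrModExact.sext fun x => ?_
    refine (smul_mk_one y _).trans ?_
    exact (locMap_smul_id y x.1 _).symm
  rw [← key, hinj]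
  exact AddSubgroup.subset_closure ⟨_, _, rfl⟩

end Groth.Agent.CAlgH3.PSheaf

end
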