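import Groth.Agent.CAlgH3.PSheafSeq
import Groth.Agent.CAlgH3.PRes
import Groth.Agent.GrLib.RegPoly

/-!
# Every coherent sheaf on projective space is regular in some degree
-/

set_option autoImplicit false
set_option linter.unusedSectionVars false
set_option backward.isDefEq.respectTransparency.types false

universe u

open DirectSum AlgebraicGeometry CategoryTheory TopologicalSpace Opposite MvPolynomial
open Groth.Agent.GrLib
open Groth.Agent.CAlgH3 Groth.Agent.CAlgH3.PTilde Groth.Agent.CAlgH3.PRing Groth.Agent.CAlgH3.ModCohSeq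
open Groth.Agent.CAlgH3.PSheaf Groth.Agent.CAlgH3.PKoszul Groth.Agent.CAlgH3.PSheafSeq

noncomputable section

namespace Groth.Agent.CAlgH3.PSheafBound

variable {k : Type u} [Field k] {r : ℕ}

/-- A finitely generated model of a coherent sheaf. -/
theorem nonempty_finite_model (F : (CohB1.ProjSpace r k).Modules) (hF : Coh.IsCoh F) :
    ∃ m : Model k r F, Module.Finite (MvPolynomial (Fin (r + 1)) k) m.M := by
  haveI : Coh.IsQCoh (show (Proj (CohB1.polyGrading r k)).Modules from F) := hF.1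
  have hs1 : ∀ g : Set.range (X : Fin (r + 1) → MvPolynomial (Fin (r + 1)) k), g.1 ∈ CohB1.polyGrading r k 1 := by
    rintro ⟨_, l, rfl⟩
    exact ProjLib.X_mem_polyGrading r k l
  have hcov : ∀ x : Proj (CohB1.polyGrading r k), ∃ g : Set.range (X : Fin (r + 1) → MvPolynomial (Fin (r + 1)) k),
      x ∈ Proj.basicOpen (CohB1.polyGrading r k) g.1 := fun x => by
    obtain ⟨l, hl⟩ := exists_var_notMem x
    exact ⟨⟨X l, l, rfl⟩, hl⟩
  obtain ⟨T, hT, dec', H⟩ := GStarLib.exists_finite_datum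
    (F := show (Proj (CohB1.polyGrading r k)).Modules from F) (hs1 := hs1) hF.2 hcov
  obtain ⟨mk, -, ℳ, dec, gs, ⟨e⟩⟩ := GStarLib.exists_tilde_iso_of_datum H
  letI := extDecomp ℳ
  haveI := extGradedSMul (r := r) ℳ
  haveI : SetLike.GradedSMul (CohB1.polyGrading r k) (fun n : ℕ => extGr ℳ (n : ℤ)) := gs
  exact ⟨{ M := _, gr := extGr ℳ, iso := POrig.origIso (extGr ℳ) 0 ≪≫ e },
    Module.Finite.iff_fg.2 (Submodule.fg_span hT)⟩

/-- Serre vanishing: a coherent sheaf is regular in some degree. -/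
theorem exists_isMRegular (F : (CohB1.ProjSpace r k).Modules) (hF : Coh.IsCoh F) :
    ∃ d : ℤ, Curv2.IsMRegular k r F d := by
  classical
  obtain ⟨m, hm⟩ := nonempty_finite_model F hF
  obtain ⟨R, -⟩ := GrLib.exists_minimal (m := r + 1) m.gr
  obtain ⟨d, hd⟩ : ∃ d : ℤ, ∀ q ∈ Finset.range (r + 1), ∀ b, R.deg q b - q ≤ d := by
    let S : Finset ℤ := (Finset.range (r + 1)).biUnion fun q => Finset.univ.image fun b => R.deg q b - (q : ℤ)
    obtain ⟨d, hd⟩ := S.bddAbove
    exact ⟨d, fun q hq b => hd (Finset.mem_biUnion.2 ⟨q, hq, Finset.mem_image.2 ⟨b, Finset.mem_univ b, rfl⟩⟩)⟩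
  refine ⟨d, (m.isMRegular_iff d).2 fun i hi => ?_⟩
  refine PRes.V_of_res R _ hi fun q b hq => ?_
  have := hd q (Finset.mem_range.2 (by omega)) b
  omega

/-- Serre vanishing in the form of a uniform bound. -/
theorem exists_forall_W (F : (CohB1.ProjSpace r k).Modules) (hF : Coh.IsCoh F) :
    ∃ d : ℤ, ∀ t, d ≤ t → ∀ i, 1 ≤ i → W F t i := by
  obtain ⟨d, hd⟩ := exists_isMRegular F hF
  exact ⟨d, fun t ht i hi => W_of_le hF.1 hd hi (by omega)⟩

end Groth.Agent.CAlgH3.PSheafBound

end
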