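import Groth.Agent.CAlgH3.PSheafBound
import Groth.Agent.Coherent.ProjSpaceFinite

/-!
# The first cohomology of a sheaf with regular hyperplane section
-/

set_option autoImplicit false
set_option linter.unusedSectionVars false
set_option backward.isDefEq.respectTransparency.types false

universe u

open AlgebraicGeometry CategoryTheory CategoryTheory.Limits TopologicalSpace Opposite
open Groth.Agent.Coherent Groth.Agent.AmpleLib
open Groth.Agent.CAlgH3 Groth.Agent.CAlgH3.ModCohSeq Groth.Agent.CAlgH3.PSheafSeq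

noncomputable section

namespace Groth.Agent.CAlgH3.PSheafH1

section general

variable {X : Scheme.{u}} {A : Type u} [CommRing A] (φ : A →+* Γ(X, ⊤)) {S : ShortComplex X.Modules}
  (hS : S.ShortExact)

include hS in
theorem postA_injective_of_surjective (hg : Function.Surjective (S.g.app (⊤ : X.Opens))) :
    Function.Injective (postA φ S.f (⊤ : X.Opens) 1) := by
  rw [← LinearMap.ker_eq_bot, Submodule.eq_bot_iff]
  intro x hx
  obtain ⟨y, rfl⟩ := (exact_deltaA_postA φ hS ⊤ 0 x).1 hx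
  obtain ⟨a, ha⟩ := hg (secH (X := X.toTopCat) (Coh.toAb S.X₃) (⊤ : X.Opens) y)
  obtain ⟨b, hb⟩ := (secH (X := X.toTopCat) (Coh.toAb S.X₂) (⊤ : X.Opens)).surjective a
  have hy : postA φ S.g (⊤ : X.Opens) 0 b = y := by
    refine (secH (X := X.toTopCat) (Coh.toAb S.X₃) (⊤ : X.Opens)).injective ?_
    refine (secH_postH (X := X.toTopCat) (F := Coh.toAb S.X₂) (G := Coh.toAb S.X₃)
      ((toAbFunctor X).map S.g) (⊤ : X.Opens) b).trans ?_
    rw [hb]
    exact ha
  exact (exact_postA_deltaA φ hS ⊤ 0 y).2 ⟨b, hy⟩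

include hS in
theorem surjective_of_postA_injective (hf : Function.Injective (postA φ S.f (⊤ : X.Opens) 1)) :
    Function.Surjective (S.g.app (⊤ : X.Opens)) := by
  intro s
  obtain ⟨y, hy⟩ := (secH (X := X.toTopCat) (Coh.toAb S.X₃) (⊤ : X.Opens)).surjective s
  have h0 : deltaA φ hS ⊤ 0 y = 0 :=
    hf (((exact_deltaA_postA φ hS ⊤ 0 _).2 ⟨y, rfl⟩).trans (map_zero _).symm)
  obtain ⟨b, hb⟩ := (exact_postA_deltaA φ hS ⊤ 0 y).1 h0
  refine ⟨secH (X := X.toTopCat) (Coh.toAb S.X₂) (⊤ : X.Opens) b, ?_⟩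
  refine (secH_postH (X := X.toTopCat) (F := Coh.toAb S.X₂) (G := Coh.toAb S.X₃)
    ((toAbFunctor X).map S.g) (⊤ : X.Opens) b).symm.trans ?_
  exact (congrArg _ hb).trans hy

include hS in
theorem postA_surjective_of_V (h : V S.X₃ 1) : Function.Surjective (postA φ S.f (⊤ : X.Opens) 1) := fun x => by
  haveI : Subsingleton (HA φ S.X₃ (⊤ : X.Opens) 1) := (V_iff_HMod _ 1).1 h
  exact (exact_postA φ hS ⊤ 1 x).1 (Subsingleton.elim _ _)

variable {k : Type u} [Field k] (ψ : k →+* Γ(X, ⊤))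

include hS in
theorem finrank_le_of_V (hfin : Module.Finite k (HA ψ S.X₁ (⊤ : X.Opens) 1)) (h : V S.X₃ 1) :
    Module.finrank k (HA ψ S.X₂ (⊤ : X.Opens) 1) ≤ Module.finrank k (HA ψ S.X₁ (⊤ : X.Opens) 1) :=
  LinearMap.finrank_le_finrank_of_surjective (postA_surjective_of_V ψ hS h)

include hS in
theorem surjective_of_finrank_eq (h₁ : Module.Finite k (HA ψ S.X₁ (⊤ : X.Opens) 1))
    (h₂ : Module.Finite k (HA ψ S.X₂ (⊤ : X.Opens) 1)) (h : V S.X₃ 1)
    (he : Module.finrank k (HA ψ S.X₁ (⊤ : X.Opens) 1) = Module.finrank k (HA ψ S.X₂ (⊤ : X.Opens) 1)) :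
    Function.Surjective (S.g.app (⊤ : X.Opens)) :=
  surjective_of_postA_injective ψ hS
    ((LinearMap.injective_iff_surjective_of_finrank_eq_finrank he).2 (postA_surjective_of_V ψ hS h))

include hS in
theorem finrank_le_of_surjective (hfin : Module.Finite k (HA ψ S.X₂ (⊤ : X.Opens) 1))
    (hg : Function.Surjective (S.g.app (⊤ : X.Opens))) :
    Module.finrank k (HA ψ S.X₁ (⊤ : X.Opens) 1) ≤ Module.finrank k (HA ψ S.X₂ (⊤ : X.Opens) 1) :=
  LinearMap.finrank_le_finrank_of_injective (postA_injective_of_surjective ψ hS hg)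

theorem finrank_HH_eq (k : Type u) [Field k] [X.Over (Spec (CommRingCat.of k))] (M : X.Modules) (q : ℕ) :
    Module.finrank k (Coh.HH X M q) = Module.finrank k (HA (baseHom k X) M (⊤ : X.Opens) q) :=
  LinearEquiv.finrank_eq
    { (HHLinEquiv M q).toAddEquiv with
      map_smul' := fun a x => (HHLinEquiv M q).map_smul (baseHom k X a) x }

end general

variable {k : Type u} [Field k] {n : ℕ}

variable (k n) in
/-- `dim H¹` of a twist. -/
def h1 (F : (CohB1.ProjSpace n k).Modules) (j : ℤ) : ℕ :=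
  Module.finrank k (HA (baseHom k (CohB1.ProjSpace n k)) (CohB1.tensorMod F (Twist.twistProjSpace n k j))
    (⊤ : (CohB1.ProjSpace n k).Opens) 1)

theorem finite_twist {F : (CohB1.ProjSpace n k).Modules} (hF : Coh.IsCoh F) (j : ℤ) :
    Module.Finite k (HA (baseHom k (CohB1.ProjSpace n k)) (CohB1.tensorMod F (Twist.twistProjSpace n k j))
      (⊤ : (CohB1.ProjSpace n k).Opens) 1) :=
  finCoh_projSpace (n := n) (R := k) _ (PSheafGen.isCoh_twistProj hF j) 1

theorem h1_eq_of_twist {F : (CohB1.ProjSpace n k).Modules} (hF : Coh.IsQCoh F) {a b c : ℤ} (h : a + b = c) :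
    h1 k n (CohB1.tensorMod F (Twist.twistProjSpace n k a)) b = h1 k n F c := by
  obtain ⟨e⟩ := nonempty_twist_assoc hF h
  exact (isoA (baseHom k (CohB1.ProjSpace n k)) e ⊤ 1).finrank_eq

variable {F : (CohB1.ProjSpace n k).Modules} (hF : Coh.IsCoh F)
  (ι : CohB1.tensorMod F (Twist.twistProjSpace n k (-1)) ⟶ F) [Mono ι] {m : ℤ}
  (hG : Curv2.IsMRegular k n (cokernel ι) m)

theorem shortExact_ι : (ShortComplex.mk ι (cokernel.π ι) (cokernel.condition ι)).ShortExact :=
  { exact := ShortComplex.exact_cokernel ι }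

include hF in
theorem isQCoh_coker : Coh.IsQCoh (cokernel ι) :=
  (isCoh_cokernel ι (isQCoh_twistProj hF.1 _) hF).1

include hF hG in
theorem W_two (i : ℕ) (hi : 2 ≤ i) (j : ℤ) (hj : m - i ≤ j) : W F j i := by
  obtain ⟨D, hD⟩ := PSheafBound.exists_forall_W F hF
  obtain ⟨i, rfl⟩ : ∃ l, i = l + 1 := ⟨i - 1, by omega⟩
  suffices h : ∀ (t : ℕ) (j : ℤ), D ≤ j + t → m - (i + 1 : ℕ) ≤ j → W F j (i + 1) from
    h (D - j).toNat j (by omega) hj
  intro t
  induction t with
  | zero => exact fun j h _ => hD j (by omega) _ (by omega)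
  | succ t ih =>
    intro j h hj
    refine (W_iff_twist hF.1 (show -1 + (j + 1) = j by ring) (i + 1)).1 ?_
    exact W_left (shortExact_ι ι) (W_of_le (isQCoh_coker hF ι) hG (by omega) (by omega))
      (ih (j + 1) (by omega) (by omega))

include hF hG in
theorem h1_le {j : ℤ} (hj : m - 1 ≤ j) : h1 k n F j ≤ h1 k n F (j - 1) := by
  rw [← h1_eq_of_twist hF.1 (show -1 + j = j - 1 by ring)]
  exact finrank_le_of_V (twist_shortExact (shortExact_ι ι) j) (baseHom k _)
    (finite_twist (PSheafGen.isCoh_twistProj hF (-1)) j)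
    (W_of_le (isQCoh_coker hF ι) hG le_rfl (by omega))

include hF hG in
theorem surjective_of_h1_eq {j : ℤ} (hj : m - 1 ≤ j) (h : h1 k n F j = h1 k n F (j - 1)) :
    Function.Surjective ((tensorMap (cokernel.π ι) (𝟙 (Twist.twistProjSpace n k j))).app
      (⊤ : (CohB1.ProjSpace n k).Opens)) := by
  exact surjective_of_finrank_eq (twist_shortExact (shortExact_ι ι) j) (baseHom k _)
    (finite_twist (PSheafGen.isCoh_twistProj hF (-1)) j) (finite_twist hF j)
    (W_of_le (isQCoh_coker hF ι) hG le_rfl (by omega))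
    ((h1_eq_of_twist hF.1 (show -1 + j = j - 1 by ring)).trans h.symm)

include hF hG in
theorem h1_succ_eq {j : ℤ} (hj : m ≤ j) (h : h1 k n F j = h1 k n F (j - 1)) :
    h1 k n F (j + 1) = h1 k n F j := by
  have hs := surjective_of_h1_eq hF ι hG (by omega) h
  have hS2 := twist_shortExact (twist_shortExact (shortExact_ι ι) j) 1
  have hs2 : Function.Surjective ((tensorMap (tensorMap (cokernel.π ι) (𝟙 (Twist.twistProjSpace n k j)))
      (𝟙 (Twist.twistProjSpace n k 1))).app (⊤ : (CohB1.ProjSpace n k).Opens)) := by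
    intro z
    have hz := (PSheaf.closure_tmul_eq_top (isQCoh_coker hF ι)
      (PSheaf.isMRegular_of_le (isQCoh_coker hF ι) hj hG)).ge (AddSubgroup.mem_top z)
    induction hz using AddSubgroup.closure_induction with
    | mem w hw =>
      obtain ⟨a, b, rfl⟩ := hw
      obtain ⟨a', rfl⟩ := hs a
      exact ⟨tmul a' b, tensorMap_tmul _ _ _ _⟩
    | zero => exact ⟨0, map_zero _⟩
    | add a b _ _ ha hb =>
      obtain ⟨x, hx⟩ := ha
      obtain ⟨y, hy⟩ := hb
      exact ⟨x + y, (map_add _ x y).trans (congrArg₂ (· + ·) hx hy)⟩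
    | neg a _ ha =>
      obtain ⟨x, hx⟩ := ha
      exact ⟨-x, (map_neg _ x).trans (congrArg Neg.neg hx)⟩
  refine le_antisymm ?_ ?_
  · simpa using h1_le hF ι hG (j := j + 1) (by omega)
  · have h2 := finrank_le_of_surjective hS2 (baseHom k _)
      (finite_twist (PSheafGen.isCoh_twistProj hF j) 1) hs2
    refine le_trans ?_ (h2.trans_eq (h1_eq_of_twist hF.1 (show j + 1 = j + 1 from rfl)))
    rw [← h1_eq_of_twist hF.1 (show j - 1 + 1 = j by ring)]
    obtain ⟨e⟩ := nonempty_twist_assoc hF.1 (show -1 + j = j - 1 by ring)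
    exact (isoA (baseHom k (CohB1.ProjSpace n k)) (tensorIso e (Iso.refl _)) ⊤ 1).finrank_eq.symm.le

include hF hG in
theorem h1_eq_zero (j : ℤ) (hj : m - 1 + (h1 k n F (m - 1) : ℤ) ≤ j) : h1 k n F j = 0 := by
  have hev : ∃ D : ℤ, ∀ t, D ≤ t → h1 k n F t = 0 := by
    obtain ⟨D, hD⟩ := PSheafBound.exists_forall_W F hF
    refine ⟨D, fun t ht => ?_⟩
    haveI : Subsingleton (HA (baseHom k (CohB1.ProjSpace n k)) (CohB1.tensorMod F (Twist.twistProjSpace n k t))
        (⊤ : (CohB1.ProjSpace n k).Opens) 1) := (V_iff_HMod _ 1).1 (hD t ht 1 le_rfl)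
    exact Module.finrank_zero_of_subsingleton
  have hstep : ∀ j, m ≤ j → h1 k n F j < h1 k n F (j - 1) ∨ h1 k n F (j - 1) = 0 := fun j hj => by
    rcases Nat.lt_or_ge (h1 k n F j) (h1 k n F (j - 1)) with h | h
    · exact Or.inl h
    · have heq : h1 k n F j = h1 k n F (j - 1) := le_antisymm (h1_le hF ι hG (by omega)) h
      have hconst : ∀ t : ℕ, h1 k n F (j + t) = h1 k n F (j - 1) ∧ h1 k n F (j + t - 1) = h1 k n F (j - 1) := by
        intro t
        induction t with
        | zero => simpa using heq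
        | succ t ih =>
          refine ⟨?_, ?_⟩
          · have := h1_succ_eq hF ι hG (j := j + t) (by omega) (ih.1.trans ih.2.symm)
            rw [show j + ((t + 1 : ℕ) : ℤ) = j + t + 1 by push_cast; ring, this, ih.1]
          · rw [show j + ((t + 1 : ℕ) : ℤ) - 1 = j + t by push_cast; ring, ih.1]
      obtain ⟨D, hD⟩ := hev
      exact Or.inr ((hconst (D - j).toNat).1.symm.trans (hD _ (by omega)))
  have hall : ∀ t : ℕ, h1 k n F (m - 1 + t) + min t (h1 k n F (m - 1)) ≤ h1 k n F (m - 1) := by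
    intro t
    induction t with
    | zero => simp
    | succ t ih =>
      have h2 := hstep (m + t) (by omega)
      have h3 := h1_le hF ι hG (j := m + t) (by omega)
      rw [show m + (t : ℤ) - 1 = m - 1 + t by ring] at h2 h3
      rw [show m - 1 + ((t + 1 : ℕ) : ℤ) = m + t by push_cast; ring]
      rcases h2 with h2 | h2 <;> omega
  obtain ⟨t, ht⟩ : ∃ t : ℕ, j = m - 1 + t := ⟨(j - (m - 1)).toNat, by omega⟩
  have := hall t
  subst ht
  omega

include hF hG in
theorem W_one (j : ℤ) (hj : m - 1 + (h1 k n F (m - 1) : ℤ) ≤ j) : W F j 1 := by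
  haveI := finite_twist hF j
  refine (V_iff_HMod _ 1).2 ?_
  show Subsingleton (HA (baseHom k (CohB1.ProjSpace n k)) (CohB1.tensorMod F (Twist.twistProjSpace n k j))
    (⊤ : (CohB1.ProjSpace n k).Opens) 1)
  exact Module.finrank_zero_iff.1 (h1_eq_zero hF ι hG j hj)

end Groth.Agent.CAlgH3.PSheafH1

end
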