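import Groth.Agent.CAlgH3.PSheafGen
import Groth.Agent.EulerLib.SupportVanishing
import Groth.Agent.Coherent.CohOps

/-!
# Regularity in short exact sequences of sheaves on projective space
-/

set_option autoImplicit false
set_option linter.unusedSectionVars false
set_option backward.isDefEq.respectTransparency.types false

universe u

open DirectSum AlgebraicGeometry CategoryTheory CategoryTheory.Limits TopologicalSpace Opposite MvPolynomial
open Groth.Agent.Coherent Groth.Agent.AmpleLib
open Groth.Agent.CAlgH3 Groth.Agent.CAlgH3.PTilde Groth.Agent.CAlgH3.PosPart Groth.Agent.CAlgH3.PRing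
open Groth.Agent.CAlgH3.ModCohSeq Groth.Agent.CAlgH3.PSheaf Groth.Agent.CAlgH3.PSheafGen

noncomputable section

namespace Groth.Agent.CAlgH3.PSheafSeq

variable {k : Type u} [Field k] {r : ℕ}

theorem isQCoh_twistProj {F : (CohB1.ProjSpace r k).Modules} (hF : Coh.IsQCoh F) (t : ℤ) :
    Coh.IsQCoh (CohB1.tensorMod F (Twist.twistProjSpace r k t)) :=
  haveI := hF
  isQCoh_tensor_invertible F (isInvertible_twistProj t)

/-- `F(a)(b) ≅ F(c)` for `a + b = c`. -/
theorem nonempty_twist_assoc {F : (CohB1.ProjSpace r k).Modules} (hF : Coh.IsQCoh F) {a b c : ℤ} (h : a + b = c) :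
    Nonempty (CohB1.tensorMod (CohB1.tensorMod F (Twist.twistProjSpace r k a)) (Twist.twistProjSpace r k b) ≅
      CohB1.tensorMod F (Twist.twistProjSpace r k c)) := by
  obtain ⟨m⟩ := nonempty_model F hF
  have hiso := TwistLib.G.isIso_desc_mulBilin (𝒜 := CohB1.polyGrading r k)
    (posGr (GrSyz.stdGr k (Fin (r + 1))) m.gr) (p := a) (q := b) (r := c) (d := 1) h (m := b) (by simp) covers
  exact ⟨tensorIso (m.twistIso a) (twistCompare b).symm ≪≫ @asIso _ _ _ _ _ hiso ≪≫ (m.twistIso c).symm⟩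

/-- Vanishing of `H^i` of the twist in degree `t`. -/
abbrev W (F : (CohB1.ProjSpace r k).Modules) (t : ℤ) (i : ℕ) : Prop :=
  V (CohB1.tensorMod F (Twist.twistProjSpace r k t)) i

theorem W_iff_twist {F : (CohB1.ProjSpace r k).Modules} (hF : Coh.IsQCoh F) {a b c : ℤ} (h : a + b = c) (i : ℕ) :
    W (CohB1.tensorMod F (Twist.twistProjSpace r k a)) b i ↔ W F c i := by
  obtain ⟨e⟩ := nonempty_twist_assoc hF h
  exact ⟨V_of_iso e, V_of_iso e.symm⟩

theorem twist_shortExact {S : ShortComplex (CohB1.ProjSpace r k).Modules} (hS : S.ShortExact) (t : ℤ) :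
    (EulerLib.twistSeq S (Twist.twistProjSpace r k t)).ShortExact :=
  EulerLib.twistSeq_shortExact (isInvertible_twistProj t) hS

variable {S : ShortComplex (CohB1.ProjSpace r k).Modules} (hS : S.ShortExact) {t : ℤ} {i : ℕ}

include hS

theorem W_mid (h₁ : W S.X₁ t i) (h₃ : W S.X₃ t i) : W S.X₂ t i :=
  V_mid (twist_shortExact hS t) h₁ h₃

theorem W_right (h₂ : W S.X₂ t i) (h₁ : W S.X₁ t (i + 1)) : W S.X₃ t i :=
  V_right (twist_shortExact hS t) h₂ h₁

theorem W_left (h₃ : W S.X₃ t i) (h₂ : W S.X₂ t (i + 1)) : W S.X₁ t (i + 1) :=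
  V_left (twist_shortExact hS t) h₃ h₂

/-- An extension of regular sheaves is regular. -/
theorem isMRegular_mid {d : ℤ} (h₁ : Curv2.IsMRegular k r S.X₁ d) (h₃ : Curv2.IsMRegular k r S.X₃ d) :
    Curv2.IsMRegular k r S.X₂ d := fun i hi hir => W_mid hS (h₁ i hi hir) (h₃ i hi hir)

omit hS

theorem W_of_le {F : (CohB1.ProjSpace r k).Modules} (hF : Coh.IsQCoh F) {d : ℤ} (h : Curv2.IsMRegular k r F d)
    {i : ℕ} (hi : 1 ≤ i) {t : ℤ} (ht : d - i ≤ t) : W F t i :=
  subsingleton_HH_of_le hF h hi ht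

/-- The cohomology of all twists vanishes above the dimension of the support. -/
theorem W_of_support {F : (CohB1.ProjSpace r k).Modules} (hF : Coh.IsCoh F) {d : ℕ}
    (hd : topologicalKrullDim (CohB1.support F) ≤ d) (t : ℤ) {i : ℕ} (hi : d < i) : W F t i := by
  haveI := isProper_projSpace_toSpec r k
  haveI := LocallyOfFiniteType.isLocallyNoetherian (CohB1.ProjSpace.toSpec r k)
  haveI : IsSeparated (CohB1.ProjSpace.toSpec r k) := inferInstance
  haveI : (CohB1.ProjSpace r k).IsSeparated :=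
    ⟨by rw [← terminal.comp_from (CohB1.ProjSpace.toSpec r k)]; infer_instance⟩
  haveI : CompactSpace (CohB1.ProjSpace r k) :=
    QuasiCompact.compactSpace_of_compactSpace (CohB1.ProjSpace.toSpec r k)
  haveI : AlgebraicGeometry.IsNoetherian (CohB1.ProjSpace r k) := {}
  refine EulerLib.subsingleton_HH_of_support
    ⟨CohB1.support F, Coherent.isClosed_support F (locallyFinGen_of_isFT F hF.2)⟩ _
    (isQCoh_twistProj hF.1 t) (EulerLib.support_twist (isInvertible_twistProj t) F).subset i ?_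
  exact lt_of_le_of_lt hd (by exact_mod_cast hi)

end Groth.Agent.CAlgH3.PSheafSeq

end
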