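import Groth.Agent.GrLib.Basic
import Mathlib.RingTheory.GradedAlgebra.Basic

/-!
# The non-negative part of a graded module over a non-negatively graded ring

For a ring with a `ℤ`-grading `𝒵` vanishing in negative degrees, read as an `ℕ`-grading `𝒜`, the part of
non-negative degree of a `ℤ`-graded module is an `ℕ`-graded module.
-/

set_option autoImplicit false
set_option linter.unusedSectionVars false

universe u

open DirectSum Groth.Agent.GrLib

namespace Groth.Agent.CAlgH3.PosPart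

variable {A σ σ' : Type u} [CommRing A] [SetLike σ A] [AddSubgroupClass σ A] {𝒵 : ℤ → σ} [GradedRing 𝒵]
  [SetLike σ' A] [AddSubgroupClass σ' A] {𝒜 : ℕ → σ'}
variable {M τ : Type u} [AddCommGroup M] [Module A M] [SetLike τ M] [AddSubgroupClass τ M] {ℳ : ℤ → τ}
  [Decomposition ℳ] [SetLike.GradedSMul 𝒵 ℳ]
variable {N τ' : Type u} [AddCommGroup N] [Module A N] [SetLike τ' N] [AddSubgroupClass τ' N] {𝒩 : ℤ → τ'}
  [Decomposition 𝒩] [SetLike.GradedSMul 𝒵 𝒩]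

/-- The grading of the ring vanishes in negative degrees. -/
class NonnegGrading (𝒵 : ℤ → σ) : Prop where
  eq_zero : ∀ n : ℤ, n < 0 → ∀ x ∈ 𝒵 n, x = (0 : A)

/-- The `ℕ`-grading is the `ℤ`-grading in non-negative degrees. -/
class Agrees (𝒜 : ℕ → σ') (𝒵 : ℤ → σ) : Prop where
  mem_iff : ∀ (n : ℕ) (x : A), x ∈ 𝒜 n ↔ x ∈ 𝒵 (n : ℤ)

variable [NonnegGrading (A := A) 𝒵]

variable (𝒵 ℳ) in
/-- The elements without components of negative degree. -/
def pos : Submodule A M where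
  carrier := {x | ∀ i : ℤ, i < 0 → proj ℳ i x = 0}
  add_mem' := fun ha hb i hi => by rw [map_add, ha i hi, hb i hi, add_zero]
  zero_mem' := fun i _ => map_zero _
  smul_mem' := fun a x hx => by
    refine smul_induction 𝒵 (motive := fun a => ∀ i : ℤ, i < 0 → proj ℳ i (a • x) = 0)
      (fun i _ => by rw [zero_smul, map_zero]) ?_
      (fun r r' h h' i hi => by rw [add_smul, map_add, h i hi, h' i hi, add_zero]) a
    intro j r hr i hi
    rcases lt_or_ge j 0 with hj | hj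
    · rw [NonnegGrading.eq_zero (𝒵 := 𝒵) j hj r hr, zero_smul, map_zero]
    · rw [proj_smul' (ℳ := ℳ) hr, hx (i - j) (by omega), smul_zero]

omit [SetLike.GradedSMul 𝒵 𝒩] in
theorem mem_pos_of_mem {n : ℤ} (hn : 0 ≤ n) {x : M} (hx : x ∈ ℳ n) : x ∈ pos 𝒵 ℳ := fun i hi =>
  proj_of_mem_ne hx (by omega)

variable (𝒵 ℳ) in
/-- The pieces of non-negative degree. -/
def posGr (n : ℕ) : AddSubgroup (pos 𝒵 ℳ) :=
  (AddSubgroup.ofClass (ℳ (n : ℤ))).comap (pos 𝒵 ℳ).subtype.toAddMonoidHom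

theorem mem_posGr {n : ℕ} {x : pos 𝒵 ℳ} : x ∈ posGr 𝒵 ℳ n ↔ (x : M) ∈ ℳ (n : ℤ) := Iff.rfl

noncomputable instance decompPosGr : Decomposition (posGr 𝒵 ℳ) :=
  decompositionOfProj (posGr 𝒵 ℳ)
    (fun n => AddMonoidHom.mk' (fun x => (⟨proj ℳ (n : ℤ) (x : M),
        mem_pos_of_mem (by omega) (proj_mem ℳ _ _)⟩ : pos 𝒵 ℳ))
      fun x y => Subtype.ext (map_add (proj ℳ _) _ _))
    (fun n x hx => Subtype.ext (proj_of_mem (mem_posGr.1 hx)))
    (fun n m hne x hx => Subtype.ext (proj_of_mem_ne (mem_posGr.1 hx) (by omega)))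
    (eq_top_iff.2 fun x _ => by
      classical
      have hs : ∀ g : ℤ, g ∉ (decompose ℳ (x : M)).support → proj ℳ g (x : M) = 0 := fun g hg => by
        rw [proj_apply, DFinsupp.notMem_support_iff.1 hg]; rfl
      have hmem : ∀ g : ℤ, proj ℳ g (x : M) ∈ pos 𝒵 ℳ := fun g => by
        rcases lt_or_ge g 0 with hg | hg
        · rw [x.2 g hg]; exact zero_mem _
        · exact mem_pos_of_mem hg (proj_mem ℳ _ _)
      have hsum : x = ∑ g ∈ (decompose ℳ (x : M)).support, (⟨proj ℳ g (x : M), hmem g⟩ : pos 𝒵 ℳ) := by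
        refine Subtype.ext ?_
        rw [Submodule.coe_sum]
        exact (sum_proj ℳ (x : M) hs).symm
      rw [hsum]
      refine sum_mem fun g _ => ?_
      rcases lt_or_ge g 0 with hg | hg
      · rw [show (⟨proj ℳ g (x : M), hmem g⟩ : pos 𝒵 ℳ) = 0 from Subtype.ext (x.2 g hg)]
        exact zero_mem _
      · exact AddSubgroup.mem_iSup_of_mem g.toNat (mem_posGr.2 (by
          show proj ℳ g (x : M) ∈ ℳ (g.toNat : ℤ)
          rw [Int.toNat_of_nonneg hg]; exact proj_mem ℳ g _)))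

instance gradedSMulPosGr [Agrees (A := A) 𝒜 𝒵] : SetLike.GradedSMul 𝒜 (posGr 𝒵 ℳ) where
  smul_mem {i j a x} ha hx := by
    rw [mem_posGr, vadd_eq_add]
    show a • (x : M) ∈ ℳ ((i + j : ℕ) : ℤ)
    push_cast
    exact smul_mem (ℳ := ℳ) ((Agrees.mem_iff (𝒜 := 𝒜) (𝒵 := 𝒵) i a).1 ha) hx

/-- The restriction of a degree-preserving map. -/
def posMap (u : M →ₗ[A] N) (hu : GrLC.IsGrHom ℳ 𝒩 u) : pos 𝒵 ℳ →ₗ[A] pos 𝒵 𝒩 :=
  u.restrict fun x hx i hi => by
    rw [show proj 𝒩 i (u x) = u (proj ℳ i x) from proj_map hu i x, hx i hi, map_zero]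

theorem posMap_coe (u : M →ₗ[A] N) (hu : GrLC.IsGrHom ℳ 𝒩 u) (x : pos 𝒵 ℳ) :
    ((posMap (𝒵 := 𝒵) u hu x : pos 𝒵 𝒩) : N) = u (x : M) := rfl

theorem posMap_mem (u : M →ₗ[A] N) (hu : GrLC.IsGrHom ℳ 𝒩 u) (n : ℕ) (x : pos 𝒵 ℳ) (hx : x ∈ posGr 𝒵 ℳ n) :
    posMap (𝒵 := 𝒵) u hu x ∈ posGr 𝒵 𝒩 (n + 0) :=
  mem_posGr.2 (hu (n : ℤ) _ hx)

end Groth.Agent.CAlgH3.PosPart
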