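import Groth.Agent.CAlgH3.GrModExact
import Groth.Agent.CAlgH3.PosPart
import Groth.Agent.GrLib.Std
import Groth.Agent.ProjLib.ProjSpace
import Groth.Agent.TwistLib.G.QCoh
import Groth.Agent.TwistLib.G.Inv
import Groth.Agent.Coherent.ProjSpaceCoh
import Groth.Prelude.Def_GrSyz

/-!
# The sheaf on projective space attached to a `ℤ`-graded module over the polynomial ring
-/

set_option autoImplicit false
set_option linter.unusedSectionVars false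
set_option backward.isDefEq.respectTransparency.types false

universe u

open DirectSum AlgebraicGeometry CategoryTheory TopologicalSpace Opposite MvPolynomial
open Groth.Agent.ProjLib Groth.Agent.Coherent Groth.Agent.GrLib
open Groth.Agent.CAlgH3.GrModExact Groth.Agent.CAlgH3.PosPart

noncomputable section

namespace Groth.Agent.CAlgH3.PTilde

variable {k : Type u} [Field k] {r : ℕ}


theorem isHomogeneous_iff_stdGr (n : ℕ) (p : (MvPolynomial (Fin (r + 1)) k)) : p ∈ (CohB1.polyGrading r k) n ↔ p ∈ (GrSyz.stdGr k (Fin (r + 1))) (n : ℤ) := by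
  rw [GrSyz.mem_stdGr_iff]
  have hw : ∀ d : Fin (r + 1) →₀ ℕ,
      Finsupp.weight (fun _ : Fin (r + 1) => (1 : ℤ)) d = ((Finsupp.weight (1 : Fin (r + 1) → ℕ) d : ℕ) : ℤ) := by
    intro d
    simp [Finsupp.weight_apply, Finsupp.sum]
  constructor
  · intro h d hd
    rw [hw d, h hd]
  · intro h d hd
    exact_mod_cast (hw d).symm.trans (h hd)

instance agrees : Agrees (A := (MvPolynomial (Fin (r + 1)) k)) (CohB1.polyGrading r k) (GrSyz.stdGr k (Fin (r + 1))) := ⟨isHomogeneous_iff_stdGr⟩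

instance nonneg : NonnegGrading (A := (MvPolynomial (Fin (r + 1)) k)) (GrSyz.stdGr k (Fin (r + 1))) := ⟨fun n hn => stdGr_eq_zero_of_neg k (r + 1) n hn⟩

theorem exists_var_notMem (x : ProjectiveSpectrum (CohB1.polyGrading r k)) : ∃ l : Fin (r + 1), (X l : (MvPolynomial (Fin (r + 1)) k)) ∉ x.asHomogeneousIdeal.toIdeal := by
  by_contra! h
  exact x.not_irrelevant_le ((irrelevant_le_span_X r k).trans (Ideal.span_le.2 (Set.range_subset_iff.2 h)))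

/-- A variable not vanishing at a point. -/
def tv (x : ProjectiveSpectrum (CohB1.polyGrading r k)) : (MvPolynomial (Fin (r + 1)) k) := X (exists_var_notMem x).choose

theorem tv_mem (x : ProjectiveSpectrum (CohB1.polyGrading r k)) : tv x ∈ (CohB1.polyGrading r k) 1 := X_mem_polyGrading r k _

theorem tv_notMem (x : ProjectiveSpectrum (CohB1.polyGrading r k)) : tv x ∉ x.asHomogeneousIdeal.toIdeal :=
  (exists_var_notMem x).choose_spec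

theorem tv_pow_mem (x : ProjectiveSpectrum (CohB1.polyGrading r k)) (j : ℕ) : tv x ^ j ∈ (GrSyz.stdGr k (Fin (r + 1))) (j : ℤ) := by
  have := SetLike.pow_mem_graded j (tv_mem (k := k) x)
  rw [smul_eq_mul, mul_one] at this
  exact (isHomogeneous_iff_stdGr j _).1 this

variable {M τ : Type u} [AddCommGroup M] [Module (MvPolynomial (Fin (r + 1)) k) M] [SetLike τ M] [AddSubgroupClass τ M] {ℳ : ℤ → τ}
  [Decomposition ℳ] [SetLike.GradedSMul (GrSyz.stdGr k (Fin (r + 1))) ℳ]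
variable {N τ' : Type u} [AddCommGroup N] [Module (MvPolynomial (Fin (r + 1)) k) N] [SetLike τ' N] [AddSubgroupClass τ' N] {𝒩 : ℤ → τ'}
  [Decomposition 𝒩] [SetLike.GradedSMul (GrSyz.stdGr k (Fin (r + 1))) 𝒩]
variable {L ρ : Type u} [AddCommGroup L] [Module (MvPolynomial (Fin (r + 1)) k) L] [SetLike ρ L] [AddSubgroupClass ρ L] {ℒ : ℤ → ρ}
  [Decomposition ℒ] [SetLike.GradedSMul (GrSyz.stdGr k (Fin (r + 1))) ℒ]

variable (k r ℳ) in
/-- `M(n)~` on `P^r` for a `ℤ`-graded module `M`. -/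
abbrev T (n : ℤ) : (CohB1.ProjSpace r k).Modules := GrMod.tilde (CohB1.polyGrading r k) (posGr (GrSyz.stdGr k (Fin (r + 1))) ℳ) n

theorem isQCoh_T (n : ℤ) : Coh.IsQCoh (T k r ℳ n) := TwistLib.G.isQCoh_tilde (posGr (GrSyz.stdGr k (Fin (r + 1))) ℳ) n

/-- The map of sheaves attached to a degree-preserving map. -/
def Tmap (u : M →ₗ[(MvPolynomial (Fin (r + 1)) k)] N) (hu : GrLC.IsGrHom ℳ 𝒩 u) (n : ℤ) : T k r ℳ n ⟶ T k r 𝒩 n :=
  mapC (CohB1.polyGrading r k) (posMap (𝒵 := GrSyz.stdGr k (Fin (r + 1))) u hu) 0 (posMap_mem u hu) (by simp)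

theorem Tmap_comp_eq_zero (u : M →ₗ[(MvPolynomial (Fin (r + 1)) k)] N) (hu : GrLC.IsGrHom ℳ 𝒩 u) (v : N →ₗ[(MvPolynomial (Fin (r + 1)) k)] L)
    (hv : GrLC.IsGrHom 𝒩 ℒ v) (h0 : ∀ x, v (u x) = 0) (n : ℤ) : Tmap u hu n ≫ Tmap v hv n = 0 :=
  mapC_comp_eq_zero (n := n) _ _ (posMap_mem v hv) (posMap_mem u hu) fun _ m _ => Subtype.ext (h0 m.1)

theorem mono_Tmap (u : M →ₗ[(MvPolynomial (Fin (r + 1)) k)] N) (hu : GrLC.IsGrHom ℳ 𝒩 u) (hinj : Function.Injective u) (n : ℤ) :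
    Mono (Tmap u hu n) :=
  mono_mapC _ _ _ _ tv tv_mem tv_notMem fun _ m _ h _ => ⟨0, by
    rw [pow_zero, one_smul]
    exact Subtype.ext (hinj ((congrArg Subtype.val h).trans (map_zero u).symm))⟩

/-- Surjectivity up to torsion. -/
theorem epi_Tmap (u : M →ₗ[(MvPolynomial (Fin (r + 1)) k)] N) (hu : GrLC.IsGrHom ℳ 𝒩 u)
    (h : ∀ (a : N) (l : Fin (r + 1)), ∃ j : ℕ, (X l : (MvPolynomial (Fin (r + 1)) k)) ^ j • a ∈ LinearMap.range u) (n : ℤ) :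
    Epi (Tmap u hu n) := by
  refine epi_mapC _ _ _ _ tv tv_mem tv_notMem fun i a ha x => ?_
  obtain ⟨j, hj⟩ := h a.1 (exists_var_notMem x).choose
  have hdeg : tv x ^ j • a.1 ∈ 𝒩 ((j + i : ℕ) : ℤ) := by
    push_cast
    exact GrLib.smul_mem (ℳ := 𝒩) (tv_pow_mem x j) ha
  obtain ⟨m, hm, hum⟩ := exists_preimage (ℳ := ℳ) (grHomDeg_zero_iff.2 hu) (g := ((j + i : ℕ) : ℤ))
    (by rw [add_zero]; exact hdeg) hj
  exact ⟨j, j + i, ⟨m, mem_pos_of_mem (by omega) hm⟩, mem_posGr.2 hm, rfl, Subtype.ext hum⟩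

/-- Exactness up to torsion. -/
theorem exact_Tmap (u : M →ₗ[(MvPolynomial (Fin (r + 1)) k)] N) (hu : GrLC.IsGrHom ℳ 𝒩 u) (v : N →ₗ[(MvPolynomial (Fin (r + 1)) k)] L)
    (hv : GrLC.IsGrHom 𝒩 ℒ v) (h0 : ∀ x, v (u x) = 0)
    (h : ∀ (a : N), v a = 0 → ∀ l : Fin (r + 1), ∃ j : ℕ, (X l : (MvPolynomial (Fin (r + 1)) k)) ^ j • a ∈ LinearMap.range u) (n : ℤ) :
    (ShortComplex.mk (Tmap u hu n) (Tmap v hv n) (Tmap_comp_eq_zero u hu v hv h0 n)).Exact := by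
  refine exact_mapC (n := n) _ tv tv_mem tv_notMem _ (posMap_mem v hv) (posMap_mem u hu)
    (fun i a ha hva x => ?_) _
  obtain ⟨j, hj⟩ := h a.1 (congrArg Subtype.val hva) (exists_var_notMem x).choose
  have hdeg : tv x ^ j • a.1 ∈ 𝒩 ((j + i : ℕ) : ℤ) := by
    push_cast
    exact GrLib.smul_mem (ℳ := 𝒩) (tv_pow_mem x j) ha
  obtain ⟨m, hm, hum⟩ := exists_preimage (ℳ := ℳ) (grHomDeg_zero_iff.2 hu) (g := ((j + i : ℕ) : ℤ))
    (by rw [add_zero]; exact hdeg) hj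
  exact ⟨j, ⟨m, mem_pos_of_mem (by omega) hm⟩, mem_posGr.2 hm, Subtype.ext hum⟩

theorem shortExact_Tmap (u : M →ₗ[(MvPolynomial (Fin (r + 1)) k)] N) (hu : GrLC.IsGrHom ℳ 𝒩 u) (v : N →ₗ[(MvPolynomial (Fin (r + 1)) k)] L)
    (hv : GrLC.IsGrHom 𝒩 ℒ v) (hinj : Function.Injective u) (hsurj : Function.Surjective v)
    (hex : Function.Exact u v) (n : ℤ) :
    (ShortComplex.mk (Tmap u hu n) (Tmap v hv n)
      (Tmap_comp_eq_zero u hu v hv (fun x => hex.apply_apply_eq_zero x) n)).ShortExact where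
  exact := exact_Tmap u hu v hv (fun x => hex.apply_apply_eq_zero x) (fun a ha _ => ⟨0, by rw [pow_zero, one_smul]; exact (hex a).1 ha⟩) n
  mono_f := mono_Tmap u hu hinj n
  epi_g := epi_Tmap v hv (fun a _ => ⟨0, by rw [pow_zero, one_smul]; exact LinearMap.mem_range.2 (hsurj a)⟩) n

theorem isIso_Tmap (u : M →ₗ[(MvPolynomial (Fin (r + 1)) k)] N) (hu : GrLC.IsGrHom ℳ 𝒩 u) (hbij : Function.Bijective u) (n : ℤ) :
    IsIso (Tmap u hu n) := by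
  have := mono_Tmap u hu hbij.1 n
  have := epi_Tmap u hu (fun a _ => ⟨0, by rw [pow_zero, one_smul]; exact LinearMap.mem_range.2 (hbij.2 a)⟩) n
  exact isIso_of_mono_of_epi _

/-- The inclusion of the non-negative part for a grading raised by `c`. -/
def raiseMap {τ₂ : Type u} [SetLike τ₂ M] [AddSubgroupClass τ₂ M] {ℳ₂ : ℤ → τ₂} [Decomposition ℳ₂]
    [SetLike.GradedSMul (GrSyz.stdGr k (Fin (r + 1))) ℳ₂] (c : ℕ) (h : ∀ i m, m ∈ ℳ₂ i ↔ m ∈ ℳ (i + c)) : pos (GrSyz.stdGr k (Fin (r + 1))) ℳ₂ →ₗ[(MvPolynomial (Fin (r + 1)) k)] pos (GrSyz.stdGr k (Fin (r + 1))) ℳ where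
  toFun x := ⟨x.1, fun i hi => by
    have hid : GrLC.IsGrHomDeg ℳ₂ ℳ (LinearMap.id : M →ₗ[(MvPolynomial (Fin (r + 1)) k)] M) (c : ℤ) := fun g y hy => (h g y).1 hy
    have := proj_map_deg hid (i - c) x.1
    rw [sub_add_cancel, x.2 (i - c) (by omega)] at this
    exact this⟩
  map_add' _ _ := rfl
  map_smul' _ _ := rfl

variable {τ₂ : Type u} [SetLike τ₂ M] [AddSubgroupClass τ₂ M] {ℳ₂ : ℤ → τ₂} [Decomposition ℳ₂]
  [SetLike.GradedSMul (GrSyz.stdGr k (Fin (r + 1))) ℳ₂]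

theorem raiseMap_mem (c : ℕ) (h : ∀ i m, m ∈ ℳ₂ i ↔ m ∈ ℳ (i + c)) (i : ℕ) (x : pos (GrSyz.stdGr k (Fin (r + 1))) ℳ₂)
    (hx : x ∈ posGr (GrSyz.stdGr k (Fin (r + 1))) ℳ₂ i) : raiseMap (ℳ := ℳ) c h x ∈ posGr (GrSyz.stdGr k (Fin (r + 1))) ℳ (i + c) :=
  mem_posGr.2 (by
    show (x.1 : M) ∈ ℳ ((i + c : ℕ) : ℤ)
    push_cast
    exact (h _ _).1 hx)

/-- `M(n)~` for a grading raised by `c`. -/
def Traise (c : ℕ) (h : ∀ i m, m ∈ ℳ₂ i ↔ m ∈ ℳ (i + c)) {n n' : ℤ} (hn : n + c = n') : T k r ℳ₂ n ⟶ T k r ℳ n' :=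
  mapC (CohB1.polyGrading r k) (raiseMap c h) c (raiseMap_mem c h) hn

theorem isIso_Traise (c : ℕ) (h : ∀ i m, m ∈ ℳ₂ i ↔ m ∈ ℳ (i + c)) {n n' : ℤ} (hn : n + c = n') :
    IsIso (Traise (k := k) (r := r) (ℳ := ℳ) (ℳ₂ := ℳ₂) c h hn) := by
  refine isIso_mapC _ _ _ _ tv tv_mem tv_notMem
    (fun _ m _ hm _ => ⟨0, by rw [pow_zero, one_smul]; exact Subtype.ext (show m.1 = 0 from congrArg Subtype.val hm)⟩)
    fun i a ha x => ?_
  have hdeg : tv x ^ c • a.1 ∈ ℳ₂ (i : ℤ) := (h _ _).2 (by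
    rw [add_comm]; exact GrLib.smul_mem (ℳ := ℳ) (tv_pow_mem x c) ha)
  exact ⟨c, i, ⟨_, mem_pos_of_mem (by omega) hdeg⟩, mem_posGr.2 hdeg, by omega, Subtype.ext rfl⟩

/-- A section of `M(n)~` which is the class of an element of `M` of degree `n`. -/
def IsGlob (n : ℤ) (s : Γ(T k r ℳ n, (⊤ : (CohB1.ProjSpace r k).Opens))) (m : pos (GrSyz.stdGr k (Fin (r + 1))) ℳ) : Prop :=
  (m : M) ∈ ℳ n ∧ ∀ x, GrMod.val (V := (⊤ : (Proj (CohB1.polyGrading r k)).Opens)) s x = LocalizedModule.mk m 1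

variable (k r ℳ) in
/-- Every global section comes from the module. -/
def GlobSurj (n : ℤ) : Prop := ∀ s : Γ(T k r ℳ n, (⊤ : (CohB1.ProjSpace r k).Opens)), ∃ m, IsGlob n s m

variable (k r ℳ) in
/-- No torsion in degree `n`. -/
def TorFree (n : ℤ) : Prop :=
  ∀ m ∈ ℳ n, (∀ l : Fin (r + 1), ∃ j : ℕ, (X l : (MvPolynomial (Fin (r + 1)) k)) ^ j • m = 0) → m = 0

theorem isGlob_map (u : M →ₗ[(MvPolynomial (Fin (r + 1)) k)] N) (hu : GrLC.IsGrHom ℳ 𝒩 u) {n : ℤ}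
    {s : Γ(T k r ℳ n, (⊤ : (CohB1.ProjSpace r k).Opens))} {m : pos (GrSyz.stdGr k (Fin (r + 1))) ℳ} (h : IsGlob n s m) :
    IsGlob n ((Tmap u hu n).app ⊤ s) (posMap (𝒵 := GrSyz.stdGr k (Fin (r + 1))) u hu m) :=
  ⟨hu n _ h.1, fun x => (congrArg (GrMod.locMap _ x.1) (h.2 x)).trans (GrMod.locMap_mk _ x.1 _ _)⟩

theorem exists_isGlob {e : ℕ} {m : M} (hm : m ∈ ℳ (e : ℤ)) :
    ∃ s, IsGlob (k := k) (r := r) (ℳ := ℳ) (e : ℤ) s ⟨m, mem_pos_of_mem (by omega) hm⟩ :=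
  ⟨GrMod.globalOf (CohB1.polyGrading r k) (posGr (GrSyz.stdGr k (Fin (r + 1))) ℳ) ⟨⟨m, mem_pos_of_mem (by omega) hm⟩, mem_posGr.2 hm⟩, hm, fun _ => rfl⟩

theorem IsGlob.ext {n : ℤ} {s s' : Γ(T k r ℳ n, (⊤ : (CohB1.ProjSpace r k).Opens))} {m : pos (GrSyz.stdGr k (Fin (r + 1))) ℳ}
    (h : IsGlob n s m) (h' : IsGlob n s' m) : s = s' :=
  GrModExact.sext fun x => (h.2 x).trans (h'.2 x).symm

theorem IsGlob.zero {n : ℤ} : IsGlob (k := k) (r := r) (ℳ := ℳ) n 0 0 :=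
  ⟨zero_mem _, fun _ => (LocalizedModule.zero_mk _).symm⟩

theorem IsGlob.add {n : ℤ} {s s' : Γ(T k r ℳ n, (⊤ : (CohB1.ProjSpace r k).Opens))} {m m' : pos (GrSyz.stdGr k (Fin (r + 1))) ℳ}
    (h : IsGlob n s m) (h' : IsGlob n s' m') : IsGlob n (s + s') (m + m') :=
  ⟨add_mem h.1 h'.1, fun x => (congrArg₂ (· + ·) (h.2 x) (h'.2 x)).trans
    ((LocalizedModule.mkLinearMap _ _).map_add m m').symm⟩

/-- A torsion-free degree is detected by global sections. -/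
theorem IsGlob.eq_zero {n : ℤ} (hn : 0 ≤ n) (hfree : TorFree k r ℳ n)
    {s : Γ(T k r ℳ n, (⊤ : (CohB1.ProjSpace r k).Opens))} {m : pos (GrSyz.stdGr k (Fin (r + 1))) ℳ} (h : IsGlob n s m) (hs : s = 0) : m = 0 := by
  obtain ⟨e, rfl⟩ : ∃ e : ℕ, n = e := ⟨n.toNat, (Int.toNat_of_nonneg hn).symm⟩
  refine Subtype.ext (hfree _ h.1 fun l => ?_)
  obtain ⟨j, hj⟩ := TwistLib.G.exists_pow_smul_eq_zero (ℳ := posGr (GrSyz.stdGr k (Fin (r + 1))) ℳ) (mem_posGr.2 h.1) (d := 1) one_pos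
    (X_mem_polyGrading r k l) fun y _ => by
      have h0 : LocalizedModule.mk m (1 : y.asHomogeneousIdeal.toIdeal.primeCompl) = 0 := by
        refine (h.2 ⟨y, trivial⟩).symm.trans ?_
        rw [hs]
        rfl
      obtain ⟨⟨c, hc⟩, heq⟩ := LocalizedModule.mk_eq.mp
        (h0.trans (LocalizedModule.zero_mk (1 : y.asHomogeneousIdeal.toIdeal.primeCompl)).symm)
      exact ⟨c, hc, by simpa [Submonoid.smul_def] using heq⟩
  exact ⟨j, congrArg Subtype.val hj⟩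

theorem isGlob_raise (c : ℕ) (h : ∀ i m, m ∈ ℳ₂ i ↔ m ∈ ℳ (i + c)) {n n' : ℤ} (hn : n + c = n')
    {s : Γ(T k r ℳ₂ n, (⊤ : (CohB1.ProjSpace r k).Opens))} {m : pos (GrSyz.stdGr k (Fin (r + 1))) ℳ₂} (hs : IsGlob n s m) :
    IsGlob n' ((Traise (ℳ := ℳ) c h hn).app ⊤ s) (raiseMap c h m) :=
  ⟨hn ▸ (h _ _).1 hs.1, fun x => (congrArg (GrMod.locMap _ x.1) (hs.2 x)).trans (GrMod.locMap_mk _ x.1 _ _)⟩

theorem globSurj_of_bijective (u : M →ₗ[(MvPolynomial (Fin (r + 1)) k)] N) (hu : GrLC.IsGrHom ℳ 𝒩 u) (hbij : Function.Bijective u) {n : ℤ}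
    (h : GlobSurj k r ℳ n) : GlobSurj k r 𝒩 n := fun s => by
  have := isIso_Tmap u hu hbij n
  obtain ⟨m, hm⟩ := h ((inv (Tmap u hu n)).app ⊤ s)
  refine ⟨posMap (𝒵 := GrSyz.stdGr k (Fin (r + 1))) u hu m, ?_⟩
  have := isGlob_map u hu hm
  rwa [show (Tmap u hu n).app ⊤ ((inv (Tmap u hu n)).app ⊤ s) = s from ConcreteCategory.congr_hom
    (congrArg (fun φ => Scheme.Modules.Hom.app φ (⊤ : (CohB1.ProjSpace r k).Opens))
      (IsIso.inv_hom_id (Tmap u hu n))) s] at this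

end Groth.Agent.CAlgH3.PTilde

end
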