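import Groth.Agent.VarietyLib.DimOne
import Groth.Agent.DimLib.Algebra
import Mathlib

/-! Finitely many places at infinity of an affine curve. -/

set_option autoImplicit false
universe u

open IsLocalRing

namespace Groth.Agent.CAlgH3.PlacesInfinity

variable {k F : Type u} [Field k] [Field F] [Algebra k F]

theorem isPID_adjoin (t : F) : IsPrincipalIdealRing (Algebra.adjoin k ({t} : Set F)) := by
  rw [Algebra.adjoin_singleton_eq_range_aeval]
  exact IsPrincipalIdealRing.of_surjective (Polynomial.aeval t).rangeRestrict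
    (AlgHom.rangeRestrict_surjective _)

theorem finite_of_integral (t : F) (ht : t ≠ 0) (G : Finset F)
    (hG : ∀ g ∈ G, IsIntegral (Algebra.adjoin k ({t} : Set F)) g)
    [IsFractionRing (Algebra.adjoin (Algebra.adjoin k ({t} : Set F)) (G : Set F)).toSubring F] :
    {O : ValuationSubring F | (algebraMap k F).range ≤ O.toSubring ∧ t ∈ O.nonunits}.Finite := by
  let R := Algebra.adjoin k ({t} : Set F)
  haveI : IsPrincipalIdealRing R := isPID_adjoin t
  let C₀ := Algebra.adjoin R (G : Set F)
  let C : Subring F := C₀.toSubring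
  haveI : IsFractionRing C F := ‹IsFractionRing _ F›
  haveI hfin : Module.Finite R C₀ := Module.Finite.iff_fg.2 (fg_adjoin_of_finite G.finite_toSet hG)
  haveI hN0 : IsNoetherianRing C₀ := IsNoetherianRing.of_finite R C₀
  haveI : Algebra.IsIntegral R C₀ := Algebra.IsIntegral.of_finite R C₀
  haveI : IsNoetherianRing C := hN0
  have hmax : ∀ P : Ideal C₀, P ≠ ⊥ → P.IsPrime → P.IsMaximal := fun P hP hPp => by
    haveI := hPp
    have h1 : P.comap (algebraMap R C₀) ≠ ⊥ := Ideal.IsIntegral.comap_ne_bot R hP
    haveI hm : (P.comap (algebraMap R C₀)).IsMaximal := IsPrime.to_maximal_ideal h1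
    have hI : (algebraMap R C₀).IsIntegral := (‹Algebra.IsIntegral R C₀›).isIntegral
    exact Ideal.isMaximal_of_isIntegral_of_isMaximal_comap' (algebraMap R C₀) hI P hm
  let t' : C := ⟨t, C₀.algebraMap_mem ⟨t, Algebra.self_mem_adjoin_singleton k t⟩⟩
  have hCO : ∀ O : ValuationSubring F, (algebraMap k F).range ≤ O.toSubring → t ∈ O.nonunits → C ≤ O.toSubring := by
    intro O hk htO
    have hR : ∀ r : R, (r : F) ∈ O := by
      rintro ⟨r, hr⟩
      induction hr using Algebra.adjoin_induction with
      | mem x hx => rw [Set.mem_singleton_iff] at hx; subst hx; exact O.nonunits_subset htO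
      | algebraMap c => exact hk ⟨c, rfl⟩
      | add x y _ _ hx hy => exact O.add_mem _ _ hx hy
      | mul x y _ _ hx hy => exact O.mul_mem _ _ hx hy
    letI : Algebra R O.toSubring := ((R.toSubring.subtype).codRestrict O.toSubring hR).toAlgebra
    haveI : IsScalarTower R O.toSubring F := .of_algebraMap_eq fun _ => rfl
    intro z hz
    exact LocalSubring.mem_of_isMax_of_isIntegral O.isMax_toLocalSubring
      (((Algebra.IsIntegral.isIntegral (R := R) (⟨z, hz⟩ : C₀)).map C₀.val).tower_top (A := O.toSubring) :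
        IsIntegral O.toLocalSubring.toSubring z)
  let T : Set (Ideal C) := (Ideal.span {t'}).minimalPrimes
  have hT : T.Finite := Ideal.finite_minimalPrimes_of_isNoetherianRing C _
  refine Set.Finite.subset (hT.biUnion (t := fun P => {O : ValuationSubring F | ∃ hP : P.IsPrime,
    (LocalSubring.ofPrime C P).toSubring ≤ O.toSubring ∧ O ≠ ⊤}) fun P hP => ?_) ?_
  · haveI hPp : P.IsPrime := hP.1.1
    have hP0 : P ≠ ⊥ := fun h => ht (congrArg Subtype.val
      ((Submodule.mem_bot _).1 (h ▸ hP.1.2 (Ideal.mem_span_singleton_self t')) : t' = 0))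
    let B := (LocalSubring.ofPrime C P).toSubring
    haveI : IsFractionRing B F := VarietyLib.DimOne.isFractionRing_of_le C B (LocalSubring.le_ofPrime C P)
    haveI : IsNoetherianRing B := IsLocalization.isNoetherianRing P.primeCompl B inferInstance
    have hh : P.height = 1 := by
      refine le_antisymm ?_ ?_
      · haveI : Ring.DimensionLEOne C := ⟨fun {p} h hp => hmax p h hp⟩
        exact WithBot.coe_le_coe.1 ((Ideal.height_le_ringKrullDim_of_ne_top hPp.ne_top).trans
          ((Ring.krullDimLE_iff (n := 1)).1 inferInstance))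
      · exact ENat.one_le_iff_ne_zero.2 fun h => hP0 ((Ideal.height_eq_zero_iff).1 h |> fun hm => by
          rw [IsDomain.minimalPrimes_eq_singleton_bot] at hm; exact hm)
    have hdim : ringKrullDim B = 1 := by
      rw [IsLocalization.AtPrime.ringKrullDim_eq_height P B, hh]; rfl
    have hsl : Finite (MaximalSpectrum B) := by
      haveI : IsLocalRing B := (LocalSubring.ofPrime C P).isLocalRing
      haveI : Subsingleton (MaximalSpectrum B) := ⟨fun M N => MaximalSpectrum.ext
        ((IsLocalRing.eq_maximalIdeal M.isMaximal).trans (IsLocalRing.eq_maximalIdeal N.isMaximal).symm)⟩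
      infer_instance
    exact (VarietyLib.DimOne.finite_valuationSubrings B hdim hsl).subset fun O ⟨_, h1, h2⟩ => ⟨h1, h2⟩
  · rintro O ⟨hk, htO⟩
    have hC := hCO O hk htO
    let P : Ideal C := (maximalIdeal O).comap (Subring.inclusion hC)
    haveI hPp : P.IsPrime := Ideal.comap_isPrime _ _
    have htP : t' ∈ P := by
      obtain ⟨h, hm⟩ := ValuationSubring.mem_nonunits_iff_exists_mem_maximalIdeal.1 htO
      exact hm
    obtain ⟨Q, hQ, hQP⟩ := Ideal.exists_minimalPrimes_le ((Ideal.span_singleton_le_iff_mem P).2 htP)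
    have hQ0 : Q ≠ ⊥ := fun h => ht (congrArg Subtype.val
      ((Submodule.mem_bot _).1 (h ▸ hQ.1.2 (Ideal.mem_span_singleton_self t')) : t' = 0))
    obtain rfl : Q = P := (hmax Q hQ0 hQ.1.1).eq_of_le hPp.ne_top hQP
    refine Set.mem_biUnion hQ ⟨hPp, fun z hz => ?_, VarietyLib.DimOne.ne_top_of_nonunit htO ht⟩
    obtain ⟨⟨a, s⟩, he⟩ := IsLocalization.surj P.primeCompl (⟨z, hz⟩ : (LocalSubring.ofPrime C P).toSubring)
    have he' : z * ((s : C) : F) = (a : F) := congrArg Subtype.val he
    have hu : IsUnit (Subring.inclusion hC (s : C)) := not_not.1 fun hu => s.2 ((mem_maximalIdeal _).2 hu)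
    obtain ⟨v, hv⟩ := hu.exists_right_inv
    have hv' : ((s : C) : F) * (v : F) = 1 := congrArg Subtype.val hv
    rw [show z = (a : F) * (v : F) by rw [← he', mul_assoc, hv', mul_one]]
    exact O.mul_mem _ _ (hC a.2) v.2

theorem main (A : Type u) [CommRing A] [IsDomain A] [Algebra k A] [Algebra.FiniteType k A]
    (hA : ringKrullDim A = 1) [Algebra A F] [IsFractionRing A F] [IsScalarTower k A F] :
    {O : ValuationSubring F | (algebraMap k F).range ≤ O.toSubring ∧
      ¬ (algebraMap A F).range ≤ O.toSubring}.Finite := by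
  classical
  obtain ⟨s, g, hg, hgfin⟩ := exists_finite_inj_algHom_of_fg k A
  have hs : s = 1 := by
    letI := g.toRingHom.toAlgebra
    haveI : Module.Finite (MvPolynomial (Fin s) k) A := hgfin
    haveI : FaithfulSMul (MvPolynomial (Fin s) k) A := (faithfulSMul_iff_algebraMap_injective _ _).2 hg
    haveI : Algebra.IsIntegral (MvPolynomial (Fin s) k) A := Algebra.IsIntegral.of_finite _ _
    have := (DimLib.ringKrullDim_eq_of_isIntegral (R := MvPolynomial (Fin s) k) (S := A) hg).symm
    rw [hA, MvPolynomial.ringKrullDim_of_isNoetherianRing, ringKrullDim_eq_zero_of_field, zero_add] at this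
    simp only [Nat.card_eq_fintype_card, Fintype.card_fin] at this
    exact_mod_cast this.symm
  subst hs
  let x : F := algebraMap A F (g (MvPolynomial.X 0))
  let t : F := x⁻¹
  have hx0 : x ≠ 0 := (map_ne_zero_iff _ (IsFractionRing.injective A F)).2
    ((map_ne_zero_iff g hg).2 (MvPolynomial.X_ne_zero 0))
  let R := Algebra.adjoin k ({t} : Set F)
  let P : Subalgebra k F := Algebra.adjoin k ({x} : Set F)
  obtain ⟨gens, hgens⟩ := Algebra.FiniteType.out (R := k) (A := A)
  have hint : ∀ a : A, ∃ N : ℕ, IsIntegral R (algebraMap A F a * t ^ N) := by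
    intro a
    obtain ⟨p, hp, hpa⟩ := hgfin.to_isIntegral a
    have hpow : ∀ c : MvPolynomial (Fin 1) k, ∃ d : ℕ, ∀ e ≥ d, algebraMap A F (g c) * t ^ e ∈ R := by
      intro c
      induction c using MvPolynomial.induction_on with
      | C c => exact ⟨0, fun e _ => R.mul_mem (by
          rw [← MvPolynomial.algebraMap_eq, g.commutes, ← IsScalarTower.algebraMap_apply]; exact R.algebraMap_mem c)
          (R.pow_mem (Algebra.self_mem_adjoin_singleton k t) e)⟩
      | add c c' hc hc' =>
        obtain ⟨d, hd⟩ := hc; obtain ⟨d', hd'⟩ := hc'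
        exact ⟨d + d', fun e he => by rw [map_add, map_add, add_mul]; exact R.add_mem (hd e (by omega)) (hd' e (by omega))⟩
      | mul_X c i hc =>
        obtain ⟨d, hd⟩ := hc
        refine ⟨d + 1, fun e he => ?_⟩
        have hi : i = 0 := Subsingleton.elim _ _
        subst hi
        have he' : e = (e - 1) + 1 := by omega
        have : algebraMap A F (g (c * MvPolynomial.X 0)) * t ^ e = algebraMap A F (g c) * t ^ (e - 1) := by
          rw [map_mul, map_mul, he', pow_succ]
          show algebraMap A F (g c) * x * (t ^ (e - 1) * x⁻¹) = _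
          field_simp
          simp
        rw [this]
        exact hd _ (by omega)
    choose d hd using hpow
    let n := p.natDegree
    let N := Finset.univ.sup fun j : Fin n => d (p.coeff j)
    refine ⟨N, Polynomial.X ^ n + ∑ j : Fin n, Polynomial.C (⟨algebraMap A F (g (p.coeff j)) * t ^ (N * (n - j)),
      hd _ _ ((Finset.le_sup (f := fun j : Fin n => d (p.coeff j)) (Finset.mem_univ j)).trans
        (Nat.le_mul_of_pos_right _ (by omega)))⟩ : R) * Polynomial.X ^ (j : ℕ),
      Polynomial.monic_X_pow_add (Polynomial.degree_sum_fin_lt _), ?_⟩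
    simp only [Polynomial.eval₂_add, Polynomial.eval₂_X_pow, Polynomial.eval₂_finsetSum, Polynomial.eval₂_mul,
      Polynomial.eval₂_C]
    show (algebraMap A F a * t ^ N) ^ n +
      ∑ j : Fin n, algebraMap A F (g (p.coeff j)) * t ^ (N * (n - j)) * (algebraMap A F a * t ^ N) ^ (j : ℕ) = 0
    have h0 : algebraMap A F a ^ n + ∑ j : Fin n, algebraMap A F (g (p.coeff j)) * algebraMap A F a ^ (j : ℕ) = 0 := by
      have h := congrArg (algebraMap A F) hpa
      rw [hp.as_sum] at h
      simp only [Polynomial.eval₂_add, Polynomial.eval₂_X_pow, Polynomial.eval₂_finsetSum, Polynomial.eval₂_mul,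
        Polynomial.eval₂_C, map_add, map_pow, map_sum, map_mul, map_zero] at h
      rw [Fin.sum_univ_eq_sum_range (fun j => algebraMap A F (g (p.coeff j)) * algebraMap A F a ^ j)]
      exact h
    rw [show ∑ j : Fin n, algebraMap A F (g (p.coeff j)) * t ^ (N * (n - j)) * (algebraMap A F a * t ^ N) ^ (j : ℕ) =
        ∑ j : Fin n, algebraMap A F (g (p.coeff j)) * algebraMap A F a ^ (j : ℕ) * t ^ (N * n) from
      Finset.sum_congr rfl fun j _ => by
        have e : N * n = N * (n - j) + N * j := by rw [← Nat.mul_add]; congr 1; omega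
        rw [e, pow_add, mul_pow, pow_mul t N j]; ring]
    rw [← Finset.sum_mul, mul_pow, ← pow_mul, ← add_mul, h0, zero_mul]
  choose N hN using hint
  let G : Finset F := gens.image fun a => algebraMap A F a * t ^ N a
  let C₀ := Algebra.adjoin R (G : Set F)
  have htC : t ∈ C₀ := C₀.algebraMap_mem ⟨t, Algebra.self_mem_adjoin_singleton k t⟩
  have hA' : ∀ a : A, ∃ m, algebraMap A F a * t ^ m ∈ C₀ := by
    intro a
    have ha : a ∈ Algebra.adjoin k (gens : Set A) := hgens ▸ Algebra.mem_top
    induction ha using Algebra.adjoin_induction with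
    | mem a ha => exact ⟨N a, Algebra.subset_adjoin (Finset.mem_coe.2 (Finset.mem_image_of_mem _ ha))⟩
    | algebraMap c =>
      refine ⟨0, ?_⟩
      rw [pow_zero, mul_one, ← IsScalarTower.algebraMap_apply]
      exact C₀.algebraMap_mem (algebraMap k R c)
    | add a b _ _ ha hb =>
      obtain ⟨m, hm⟩ := ha; obtain ⟨m', hm'⟩ := hb
      refine ⟨m + m', ?_⟩
      rw [map_add, add_mul, pow_add]
      refine C₀.add_mem ?_ ?_
      · rw [← mul_assoc]; exact C₀.mul_mem hm (C₀.pow_mem htC _)
      · rw [mul_comm (t ^ m), ← mul_assoc]; exact C₀.mul_mem hm' (C₀.pow_mem htC _)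
    | mul a b _ _ ha hb =>
      obtain ⟨m, hm⟩ := ha; obtain ⟨m', hm'⟩ := hb
      refine ⟨m + m', ?_⟩
      rw [map_mul, pow_add, mul_mul_mul_comm]
      exact C₀.mul_mem hm hm'
  haveI : IsFractionRing C₀.toSubring F := IsFractionRing.of_field C₀.toSubring F fun z => by
    obtain ⟨a, b, hb, rfl⟩ := IsFractionRing.div_surjective A z
    obtain ⟨m, hm⟩ := hA' a
    obtain ⟨m', hm'⟩ := hA' b
    refine ⟨⟨_, C₀.mul_mem hm (C₀.pow_mem htC m')⟩, ⟨_, C₀.mul_mem hm' (C₀.pow_mem htC m)⟩, ?_⟩
    have htn : t ≠ 0 := inv_ne_zero hx0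
    have hbn : algebraMap A F b ≠ 0 := (map_ne_zero_iff _ (IsFractionRing.injective A F)).2 (nonZeroDivisors.ne_zero hb)
    show algebraMap A F a / algebraMap A F b =
      algebraMap A F a * t ^ m * t ^ m' / (algebraMap A F b * t ^ m' * t ^ m)
    field_simp
  refine (finite_of_integral (k := k) t (inv_ne_zero hx0) G (fun z hz => ?_)).subset ?_
  · obtain ⟨a, -, rfl⟩ := Finset.mem_image.1 hz
    exact hN a
  · rintro O ⟨hk, hnA⟩
    refine ⟨hk, (ValuationSubring.inv_mem_nonunits_iff O).2 (Or.inr ?_)⟩
    intro hxO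
    apply hnA
    rintro _ ⟨a, rfl⟩
    have hP : ∀ c, algebraMap A F (g c) ∈ O.toSubring := fun c => by
      induction c using MvPolynomial.induction_on with
      | C c => rw [← MvPolynomial.algebraMap_eq, g.commutes, ← IsScalarTower.algebraMap_apply]; exact hk ⟨c, rfl⟩
      | add c c' hc hc' => rw [map_add, map_add]; exact O.add_mem _ _ hc hc'
      | mul_X c i hc => rw [map_mul, map_mul, Subsingleton.elim i 0]; exact O.mul_mem _ _ hc hxO
    obtain ⟨p, hp, hpa⟩ := hgfin.to_isIntegral a
    letI : Algebra (MvPolynomial (Fin 1) k) O.toSubring :=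
      (((algebraMap A F).comp g.toRingHom).codRestrict O.toSubring hP).toAlgebra
    exact LocalSubring.mem_of_isMax_of_isIntegral O.isMax_toLocalSubring
      ((⟨p.map (algebraMap (MvPolynomial (Fin 1) k) O.toSubring), hp.map _, by
        rw [Polynomial.eval₂_map, show (algebraMap O.toSubring F).comp (algebraMap (MvPolynomial (Fin 1) k) O.toSubring) =
          (algebraMap A F).comp g.toRingHom from rfl, ← Polynomial.hom_eval₂, hpa, map_zero]⟩ : IsIntegral O.toSubring (algebraMap A F a)) :
        IsIntegral O.toLocalSubring.toSubring (algebraMap A F a))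

end Groth.Agent.CAlgH3.PlacesInfinity
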