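import Mathlib

/-! The multiplicative family of polynomials attached to a linear lift `I^c → A^r` of the inclusion. -/

set_option autoImplicit false
universe u

open scoped TensorProduct

namespace Groth.Agent.CAlgH3.PowerPoly

variable {A : Type u} [CommRing A] {r : ℕ} (I : Ideal A) (c : ℕ) (φ : Fin r → (↥(I ^ c) →ₗ[A] A))

/-- degree one -/
noncomputable def one : ↥(I ^ c) →ₗ[A] MvPolynomial (Fin r) A where
  toFun g := ∑ j, MvPolynomial.C (φ j g) * MvPolynomial.X j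
  map_add' g h := by simp [add_mul, Finset.sum_add_distrib]
  map_smul' a g := by simp [Finset.smul_sum, MvPolynomial.smul_eq_C_mul, mul_assoc]

/-- the multiplication map -/
noncomputable def mulMap (J K L : Ideal A) (h : J * K ≤ L) : J ⊗[A] K →ₗ[A] L :=
  TensorProduct.lift (LinearMap.mk₂ A (fun g k => (⟨(g : A) * k, h (Ideal.mul_mem_mul g.2 k.2)⟩ : L))
    (fun _ _ _ => Subtype.ext (add_mul _ _ _)) (fun _ _ _ => Subtype.ext (mul_assoc _ _ _))
    (fun _ _ _ => Subtype.ext (mul_add _ _ _)) fun a g k => Subtype.ext (mul_left_comm _ _ _))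

theorem mulMap_surjective (J K L : Ideal A) (h : J * K = L) : Function.Surjective (mulMap J K L h.le) := fun x => by
  have key : ∀ y (hy : y ∈ J * K), ∃ z, (mulMap J K L h.le z : A) = y := fun y hy => by
    refine Submodule.mul_induction_on hy (fun g hg k hk => ⟨⟨g, hg⟩ ⊗ₜ ⟨k, hk⟩, rfl⟩) ?_
    rintro a b ⟨z, hz⟩ ⟨w, hw⟩
    exact ⟨z + w, by rw [map_add, Submodule.coe_add, hz, hw]⟩
  obtain ⟨z, hz⟩ := key x (h.symm ▸ x.2)
  exact ⟨z, Subtype.ext hz⟩

theorem exists_step (n : ℕ) (P : ↥(I ^ (n * c)) →ₗ[A] MvPolynomial (Fin r) A) :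
    ∃ Q : ↥(I ^ ((n + 1) * c)) →ₗ[A] MvPolynomial (Fin r) A,
      ∀ (g : ↥(I ^ (n * c))) (h : ↥(I ^ c)) (hgh : (g : A) * h ∈ I ^ ((n + 1) * c)),
        Q ⟨g * h, hgh⟩ = P g * one I c φ h := by
  classical
  have hmul : I ^ (n * c) * I ^ c = I ^ ((n + 1) * c) := by rw [← pow_add, Nat.succ_mul]
  let B := mulMap (I ^ (n * c)) (I ^ c) _ hmul.le
  let Ψ : ↥(I ^ (n * c)) ⊗[A] ↥(I ^ c) →ₗ[A] MvPolynomial (Fin r) A :=
    LinearMap.mul' A _ ∘ₗ TensorProduct.map P (one I c φ)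
  have hker : LinearMap.ker B ≤ LinearMap.ker Ψ := fun z hz => by
    obtain ⟨S, rfl⟩ := TensorProduct.exists_finset z
    have hz' : (∑ p ∈ S, (p.1 : A) * (p.2 : A)) = 0 := by
      have := congrArg Subtype.val (LinearMap.mem_ker.1 hz)
      simpa [B, mulMap] using this
    rw [LinearMap.mem_ker, map_sum]
    ext d
    -- the coefficient of `P` is linear, so the combination of the second factors vanishes
    have hco : ∀ e, ∑ p ∈ S, MvPolynomial.coeff e (P p.1) • p.2 = 0 := fun e => by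
      refine Subtype.ext ?_
      rw [AddSubmonoidClass.coe_finsetSum, ZeroMemClass.coe_zero]
      have h1 : ∀ p ∈ S, ((MvPolynomial.coeff e (P p.1) • p.2 : ↥(I ^ c)) : A) =
          MvPolynomial.coeff e (P ((p.2 : A) • p.1)) := fun p _ => by
        rw [map_smul, MvPolynomial.coeff_smul, Submodule.coe_smul_of_tower, smul_eq_mul, smul_eq_mul, mul_comm]
      rw [Finset.sum_congr rfl h1, ← MvPolynomial.coeff_sum, ← map_sum]
      have : ∑ p ∈ S, (p.2 : A) • p.1 = 0 := Subtype.ext <| by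
        rw [AddSubmonoidClass.coe_finsetSum, ZeroMemClass.coe_zero, ← hz']
        exact Finset.sum_congr rfl fun p _ => mul_comm _ _
      rw [this, map_zero, MvPolynomial.coeff_zero]
    have h2 : ∀ j e, ∑ p ∈ S, MvPolynomial.coeff e (P p.1) * φ j p.2 = 0 := fun j e => by
      have := congrArg (φ j) (hco e)
      simpa [map_sum, map_smul, smul_eq_mul] using this
    rw [MvPolynomial.coeff_sum, MvPolynomial.coeff_zero]
    simp only [Ψ, LinearMap.comp_apply, TensorProduct.map_tmul, LinearMap.mul'_apply, one, LinearMap.coe_mk,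
      AddHom.coe_mk, Finset.mul_sum, MvPolynomial.coeff_sum]
    rw [Finset.sum_comm]
    refine Finset.sum_eq_zero fun j _ => ?_
    simp only [← mul_assoc, MvPolynomial.coeff_mul_X']
    split_ifs
    · simp only [mul_comm _ (MvPolynomial.C _), MvPolynomial.coeff_C_mul]
      simp only [mul_comm (φ j _) (MvPolynomial.coeff _ _)]
      exact h2 j _
    · exact Finset.sum_const_zero
  refine ⟨(LinearMap.ker B).liftQ Ψ hker ∘ₗ
    (LinearMap.quotKerEquivOfSurjective B (mulMap_surjective _ _ _ hmul)).symm.toLinearMap, fun g h hgh => ?_⟩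
  have hB : B (g ⊗ₜ h) = ⟨g * h, hgh⟩ := rfl
  rw [← hB, LinearMap.comp_apply, LinearEquiv.coe_coe,
    show (LinearMap.quotKerEquivOfSurjective B (mulMap_surjective _ _ _ hmul)).symm (B (g ⊗ₜ h)) = Submodule.Quotient.mk (g ⊗ₜ h) from
      (LinearEquiv.symm_apply_eq _).2 rfl, Submodule.liftQ_apply]
  simp [Ψ]

/-- the family -/
noncomputable def fam : ∀ n : ℕ, ↥(I ^ (n * c)) →ₗ[A] MvPolynomial (Fin r) A
  | 0 => Algebra.linearMap A (MvPolynomial (Fin r) A) ∘ₗ Submodule.subtype _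
  | n + 1 => (exists_step I c φ n (fam n)).choose

theorem fam_succ (n : ℕ) {g h : A} (hg : g ∈ I ^ (n * c)) (hh : h ∈ I ^ c) (hgh : g * h ∈ I ^ ((n + 1) * c)) :
    fam I c φ (n + 1) ⟨g * h, hgh⟩ = fam I c φ n ⟨g, hg⟩ * one I c φ ⟨h, hh⟩ :=
  (exists_step I c φ n (fam I c φ n)).choose_spec ⟨g, hg⟩ ⟨h, hh⟩ hgh

theorem mem_add {n m : ℕ} {g h : A} (hg : g ∈ I ^ (n * c)) (hh : h ∈ I ^ (m * c)) : g * h ∈ I ^ ((n + m) * c) := by
  rw [Nat.add_mul, pow_add]
  exact Ideal.mul_mem_mul hg hh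

theorem succ_induction {n : ℕ} {motive : (x : A) → x ∈ I ^ ((n + 1) * c) → Prop}
    (hmul : ∀ g (hg : g ∈ I ^ (n * c)) h (hh : h ∈ I ^ c) (hgh : g * h ∈ I ^ ((n + 1) * c)), motive (g * h) hgh)
    (hadd : ∀ x hx y hy, motive x hx → motive y hy → motive (x + y) (add_mem hx hy)) {x : A}
    (hx : x ∈ I ^ ((n + 1) * c)) : motive x hx := by
  have he : I ^ ((n + 1) * c) = I ^ (n * c) * I ^ c := by rw [← pow_add, Nat.succ_mul]
  have : ∀ y (_ : y ∈ I ^ (n * c) * I ^ c), ∃ hy', motive y hy' := fun y hy => by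
    refine Submodule.mul_induction_on hy (fun g hg h hh => ⟨he ▸ Ideal.mul_mem_mul hg hh, hmul g hg h hh _⟩) ?_
    rintro a b ⟨ha, ha'⟩ ⟨hb, hb'⟩
    exact ⟨add_mem ha hb, hadd a ha b hb ha' hb'⟩
  exact (this x (he ▸ hx)).2

theorem fam_homogeneous : ∀ (n : ℕ) (x : A) (hx : x ∈ I ^ (n * c)), (fam I c φ n ⟨x, hx⟩).IsHomogeneous n := by
  intro n
  induction n with
  | zero => intro x hx; exact MvPolynomial.isHomogeneous_C _ _
  | succ n ih =>
    intro x hx
    induction hx using succ_induction with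
    | hmul g hg h hh hgh =>
      rw [fam_succ I c φ n hg hh hgh]
      refine (ih g hg).mul ?_
      exact MvPolynomial.IsHomogeneous.sum _ _ _ fun j _ => by
        simpa using (MvPolynomial.isHomogeneous_C _ _).mul (MvPolynomial.isHomogeneous_X A j)
    | hadd x hx y hy hx' hy' =>
      have h := map_add (fam I c φ (n + 1)) ⟨x, hx⟩ ⟨y, hy⟩
      exact h ▸ hx'.add hy'

theorem fam_aeval (f : Fin r → A) (hφ : ∀ x : ↥(I ^ c), (x : A) = ∑ j, f j * φ j x) :
    ∀ (n : ℕ) (x : A) (hx : x ∈ I ^ (n * c)), MvPolynomial.aeval f (fam I c φ n ⟨x, hx⟩) = x := by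
  intro n
  induction n with
  | zero => intro x hx; exact MvPolynomial.aeval_C f x
  | succ n ih =>
    intro x hx
    induction hx using succ_induction with
    | hmul g hg h hh hgh =>
      rw [fam_succ I c φ n hg hh hgh, map_mul, ih g hg]
      congr 1
      show MvPolynomial.aeval f (∑ j, MvPolynomial.C (φ j ⟨h, hh⟩) * MvPolynomial.X j) = h
      rw [map_sum]
      refine Eq.trans ?_ (hφ ⟨h, hh⟩).symm
      exact Finset.sum_congr rfl fun j _ => by simp [mul_comm]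
    | hadd x hx y hy hx' hy' =>
      have h := map_add (fam I c φ (n + 1)) ⟨x, hx⟩ ⟨y, hy⟩
      exact (congrArg _ h).trans ((map_add _ _ _).trans (congrArg₂ (· + ·) hx' hy'))

theorem fam_mul (n : ℕ) : ∀ (m : ℕ) (g : A) (hg : g ∈ I ^ (n * c)) (h : A) (hh : h ∈ I ^ (m * c)),
    fam I c φ (n + m) ⟨g * h, mem_add I c hg hh⟩ = fam I c φ n ⟨g, hg⟩ * fam I c φ m ⟨h, hh⟩ := by
  intro m
  induction m with
  | zero =>
    intro g hg h hh
    show fam I c φ n ⟨g * h, _⟩ = fam I c φ n ⟨g, hg⟩ * MvPolynomial.C h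
    rw [show (⟨g * h, mem_add I c hg hh⟩ : ↥(I ^ ((n + 0) * c))) = h • (⟨g, hg⟩ : ↥(I ^ ((n + 0) * c))) from
      Subtype.ext (mul_comm _ _)]
    refine ((fam I c φ n).map_smul h ⟨g, hg⟩).trans ?_
    rw [MvPolynomial.smul_eq_C_mul, mul_comm]
  | succ m ih =>
    intro g hg h hh
    induction hh using succ_induction with
    | hmul a ha b hb hab =>
      rw [fam_succ I c φ m ha hb hab]
      conv_rhs => rw [← mul_assoc, ← ih g hg a ha, ← fam_succ I c φ (n + m) (mem_add I c hg ha) hb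
        (by rw [mul_assoc]; exact mem_add (n := n) (m := m + 1) I c hg hab)]
      exact congrArg (fam I c φ (n + m + 1)) (Subtype.ext (mul_assoc g a b).symm)
    | hadd x hx y hy hx' hy' =>
      rw [show (⟨x + y, add_mem hx hy⟩ : ↥(I ^ ((m + 1) * c))) = ⟨x, hx⟩ + ⟨y, hy⟩ from rfl, map_add]
      refine Eq.trans ?_ (((congrArg₂ (· + ·) hx' hy').trans (mul_add _ _ _).symm))
      exact (congrArg _ (Subtype.ext (mul_add g x y))).trans (map_add (fam I c φ (n + (m + 1))) ⟨g * x, mem_add I c hg hx⟩ ⟨g * y, mem_add I c hg hy⟩)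

theorem fam_one (g : A) (hg : g ∈ I ^ c) : fam I c φ 1 ⟨g, by rwa [one_mul]⟩ = one I c φ ⟨g, hg⟩ := by
  have h := fam_succ I c φ 0 (show (1 : A) ∈ I ^ (0 * c) by simp) hg (by simpa using hg)
  refine (congrArg (fam I c φ 1) (Subtype.ext (one_mul g).symm)).trans (h.trans ?_)
  show MvPolynomial.C (1 : A) * _ = _
  rw [map_one, one_mul]

open Classical in
theorem main (f : Fin r → A) (hφ : ∀ x : ↥(I ^ c), (x : A) = ∑ j, f j * φ j x) :
    ∃ Φ : ℕ → A → MvPolynomial (Fin r) A, (((∀ n : ℕ, ∀ g ∈ I ^ (n * c), ∀ h ∈ I ^ (n * c), Φ n (g + h) = Φ n g + Φ n h) ∧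
      (∀ (n : ℕ) (a : A), ∀ g ∈ I ^ (n * c), Φ n (a * g) = a • Φ n g) ∧
      (∀ n : ℕ, ∀ g ∈ I ^ (n * c), (Φ n g).IsHomogeneous n) ∧
      (∀ n m : ℕ, ∀ g ∈ I ^ (n * c), ∀ h ∈ I ^ (m * c), Φ (n + m) (g * h) = Φ n g * Φ m h) ∧
      (∀ a : A, Φ 0 a = MvPolynomial.C a) ∧
      (∀ (g : A) (hg : g ∈ I ^ c), Φ 1 g = ∑ j, MvPolynomial.C (φ j ⟨g, hg⟩) * MvPolynomial.X j)) ∧
      ∀ n : ℕ, ∀ g ∈ I ^ (n * c), MvPolynomial.aeval f (Φ n g) = g) ∧
      ∀ Ψ : ℕ → A → MvPolynomial (Fin r) A, ((∀ n : ℕ, ∀ g ∈ I ^ (n * c), ∀ h ∈ I ^ (n * c), Ψ n (g + h) = Ψ n g + Ψ n h) ∧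
        (∀ (n : ℕ) (a : A), ∀ g ∈ I ^ (n * c), Ψ n (a * g) = a • Ψ n g) ∧
        (∀ n : ℕ, ∀ g ∈ I ^ (n * c), (Ψ n g).IsHomogeneous n) ∧
        (∀ n m : ℕ, ∀ g ∈ I ^ (n * c), ∀ h ∈ I ^ (m * c), Ψ (n + m) (g * h) = Ψ n g * Ψ m h) ∧
        (∀ a : A, Ψ 0 a = MvPolynomial.C a) ∧
        (∀ (g : A) (hg : g ∈ I ^ c), Ψ 1 g = ∑ j, MvPolynomial.C (φ j ⟨g, hg⟩) * MvPolynomial.X j)) →
        ∀ n : ℕ, ∀ g ∈ I ^ (n * c), Ψ n g = Φ n g := by
  refine ⟨fun n x => if hx : x ∈ I ^ (n * c) then fam I c φ n ⟨x, hx⟩ else 0, ⟨⟨fun n g hg h hh => ?_,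
    fun n a g hg => ?_, fun n g hg => ?_, fun n m g hg h hh => ?_, fun a => ?_, fun g hg => ?_⟩, fun n g hg => ?_⟩,
    fun Ψ hΨ => ?_⟩
  · simp only [dif_pos hg, dif_pos hh, dif_pos (add_mem hg hh), ← map_add]
    rfl
  · simp only [dif_pos hg, dif_pos (Ideal.mul_mem_left _ a hg), ← map_smul]
    rfl
  · simp only [dif_pos hg]; exact fam_homogeneous I c φ n g hg
  · simp only [dif_pos hg, dif_pos hh, dif_pos (mem_add I c hg hh)]; exact fam_mul I c φ n m g hg h hh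
  · simp only [dif_pos (show a ∈ I ^ (0 * c) by simp)]; rfl
  · simp only [dif_pos (show g ∈ I ^ (1 * c) by rwa [one_mul])]; exact fam_one I c φ g hg
  · simp only [dif_pos hg]; exact fam_aeval I c φ f hφ n g hg
  · obtain ⟨hadd, -, -, hmul, h0, h1⟩ := hΨ
    intro n
    induction n with
    | zero => intro g hg; simp only [dif_pos hg]; exact h0 g
    | succ n ih =>
      intro g hg
      simp only [dif_pos hg]
      induction hg using succ_induction with
      | hmul a ha b hb hab =>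
        rw [fam_succ I c φ n ha hb hab, hmul n 1 a ha b (by rwa [one_mul]), ih a ha, h1 b hb]
        simp only [dif_pos ha]
        rfl
      | hadd x hx y hy hx' hy' =>
        rw [hadd _ x hx y hy, hx', hy']
        exact (map_add (fam I c φ (n + 1)) ⟨x, hx⟩ ⟨y, hy⟩).symm

end Groth.Agent.CAlgH3.PowerPoly
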