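import Mathlib

/-! The linear map on `I^(nc)·N` attached to a multiplicative family of polynomials. -/

set_option autoImplicit false
universe u

open scoped TensorProduct

namespace Groth.Agent.CAlgH3.PowerPolyModule

variable {A : Type u} [CommRing A] [IsNoetherianRing A] {r : ℕ} (f : Fin r → A) (I : Ideal A)
  {B : Type u} [CommRing B] [Algebra A B] [IsNoetherianRing B]

theorem exists_pow_inf_torsion (J : Ideal B) (N : Type u) [AddCommGroup N] [Module B N] [Module.Finite B N] :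
    ∃ K : ℕ, ∀ (z : N) (m : ℕ), z ∈ (J ^ K) • (⊤ : Submodule B N) → (∀ b ∈ J ^ m, b • z = 0) → z = 0 := by
  let Γ : Submodule B N := ⨆ m : ℕ, Submodule.torsionBySet B N (J ^ m : Ideal B)
  have hdir : Monotone fun m : ℕ => Submodule.torsionBySet B N (J ^ m : Ideal B) := fun i j hij x hx => by
    rw [Submodule.mem_torsionBySet_iff] at hx ⊢
    exact fun a => hx ⟨a.1, Ideal.pow_le_pow_right hij a.2⟩
  obtain ⟨k, hk⟩ : ∃ k, Γ ≤ Submodule.torsionBySet B N (J ^ k : Ideal B) := by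
    obtain ⟨k, hk⟩ := monotone_stabilizes_iff_noetherian.2 inferInstance
      ⟨fun m : ℕ => Submodule.torsionBySet B N (J ^ m : Ideal B), hdir⟩
    refine ⟨k, iSup_le fun m => ?_⟩
    rcases le_total m k with h | h
    · exact hdir h
    · exact (hk m h).ge
  obtain ⟨a, ha⟩ := J.exists_pow_inf_eq_pow_smul Γ
  refine ⟨a + k, fun z m hz hm => ?_⟩
  have hzΓ : z ∈ Γ := (le_iSup (fun m => Submodule.torsionBySet B N (J ^ m : Ideal B)) m)
    ((Submodule.mem_torsionBySet_iff _ _).2 fun b => hm b.1 b.2)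
  have h1 : z ∈ J ^ (a + k - a) • (J ^ a • ⊤ ⊓ Γ) := (ha (a + k) (Nat.le_add_right a k)) ▸ ⟨hz, hzΓ⟩
  rw [Nat.add_sub_cancel_left] at h1
  refine Submodule.smul_induction_on h1 (fun b hb x hx => ?_) fun x y hx hy => by rw [hx, hy, add_zero]
  exact (Submodule.mem_torsionBySet_iff _ _).1 (hk hx.2) ⟨b, hb⟩

theorem main (hI : I = Ideal.span (Set.range f)) (c : ℕ) (φ : Fin r → (↥(I ^ c) →ₗ[A] A))
    (hφ : ∀ x : ↥(I ^ c), (x : A) = ∑ j, f j * φ j x) (N : Type u) [AddCommGroup N] [Module B N] [Module.Finite B N] :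
    ∃ c' : ℕ, ∃ hcc' : c ≤ c', ∀ Φ : ℕ → A → MvPolynomial (Fin r) A,
      ((∀ n : ℕ, ∀ g ∈ I ^ (n * c'), ∀ h ∈ I ^ (n * c'), Φ n (g + h) = Φ n g + Φ n h) ∧
      (∀ (n : ℕ) (a : A), ∀ g ∈ I ^ (n * c'), Φ n (a * g) = a • Φ n g) ∧
      (∀ n : ℕ, ∀ g ∈ I ^ (n * c'), (Φ n g).IsHomogeneous n) ∧
      (∀ n m : ℕ, ∀ g ∈ I ^ (n * c'), ∀ h ∈ I ^ (m * c'), Φ (n + m) (g * h) = Φ n g * Φ m h) ∧
      (∀ a : A, Φ 0 a = MvPolynomial.C a) ∧
      (∀ (g : A) (hg : g ∈ I ^ c'), Φ 1 g = ∑ j, MvPolynomial.C (φ j ⟨g, Ideal.pow_le_pow_right hcc' hg⟩) * MvPolynomial.X j)) →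
      ∀ n : ℕ, ∃ Ψ : ↥(Submodule.span B {y : N | ∃ g ∈ I ^ (n * c'), ∃ x : N, y = algebraMap A B g • x}) →ₗ[B]
          (MvPolynomial (Fin r) B ⊗[B] N),
        (∀ (g : A) (hg : g ∈ I ^ (n * c')) (x : N), Ψ ⟨algebraMap A B g • x, Submodule.subset_span ⟨g, hg, x, rfl⟩⟩ =
          MvPolynomial.map (algebraMap A B) (Φ n g) ⊗ₜ[B] x) ∧
        (∀ y : ↥(Submodule.span B {y : N | ∃ g ∈ I ^ (n * c'), ∃ x : N, y = algebraMap A B g • x}),
          TensorProduct.lift ((LinearMap.lsmul B N).comp (MvPolynomial.aeval (fun j ↦ algebraMap A B (f j))).toLinearMap) (Ψ y) = (y : N)) ∧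
        (∀ Ψ' : ↥(Submodule.span B {y : N | ∃ g ∈ I ^ (n * c'), ∃ x : N, y = algebraMap A B g • x}) →ₗ[B]
          (MvPolynomial (Fin r) B ⊗[B] N),
          (∀ (g : A) (hg : g ∈ I ^ (n * c')) (x : N), Ψ' ⟨algebraMap A B g • x, Submodule.subset_span ⟨g, hg, x, rfl⟩⟩ =
            MvPolynomial.map (algebraMap A B) (Φ n g) ⊗ₜ[B] x) → Ψ' = Ψ) := by
  classical
  set J := I.map (algebraMap A B)
  obtain ⟨K, hK⟩ := exists_pow_inf_torsion J N
  refine ⟨c + K, Nat.le_add_right c K, fun Φ ⟨hadd, hlin, _, hmul, h0, h1⟩ n => ?_⟩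
  have hsucc : ∀ n, I ^ ((n + 1) * (c + K)) = I ^ (n * (c + K)) * I ^ (1 * (c + K)) := fun n => by
    rw [← pow_add, Nat.add_mul]
  -- coefficients in positive degree lie deep in the ideal
  have hφK : ∀ j g (hg : g ∈ I ^ (c + K)), φ j ⟨g, Ideal.pow_le_pow_right (Nat.le_add_right c K) hg⟩ ∈ I ^ K := by
    intro j g hg
    have key : ∀ g, g ∈ I ^ K * I ^ c → ∃ hg : g ∈ I ^ c, φ j ⟨g, hg⟩ ∈ I ^ K := fun g hg' => by
      refine Submodule.mul_induction_on hg' (fun a ha b hb => ⟨Ideal.mul_mem_left _ a hb, ?_⟩) ?_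
      · rw [show (⟨a * b, Ideal.mul_mem_left _ a hb⟩ : ↥(I ^ c)) = a • ⟨b, hb⟩ from rfl, map_smul]
        exact Ideal.mul_mem_right _ _ ha
      · rintro a b ⟨ha, ha'⟩ ⟨hb, hb'⟩
        exact ⟨add_mem ha hb, by rw [show (⟨a + b, add_mem ha hb⟩ : ↥(I ^ c)) = ⟨a, ha⟩ + ⟨b, hb⟩ from rfl, map_add]; exact add_mem ha' hb'⟩
    obtain ⟨_, h⟩ := key g (by rw [← pow_add, add_comm K c]; exact hg)
    exact h
  have hΦ1K : ∀ g ∈ I ^ (1 * (c + K)), Φ 1 g ∈ (I ^ K).map MvPolynomial.C := fun g hg => by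
    rw [h1 g (by rwa [one_mul] at hg)]
    exact Ideal.sum_mem _ fun j _ => Ideal.mul_mem_right _ _ (Ideal.mem_map_of_mem _ (hφK j g (by rwa [one_mul] at hg)))
  have hΦK : ∀ n, ∀ g ∈ I ^ ((n + 1) * (c + K)), Φ (n + 1) g ∈ (I ^ K).map MvPolynomial.C := fun n g hg => by
    have : g ∈ I ^ ((n + 1) * (c + K)) ∧ Φ (n + 1) g ∈ (I ^ K).map MvPolynomial.C := by
      rw [hsucc] at hg
      refine Submodule.mul_induction_on hg (fun a ha b hb => ⟨hsucc n ▸ Ideal.mul_mem_mul ha hb, ?_⟩) ?_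
      · rw [hmul n 1 a ha b hb]
        exact Ideal.mul_mem_left _ _ (hΦ1K b hb)
      · rintro a b ⟨ha, ha'⟩ ⟨hb, hb'⟩
        exact ⟨add_mem ha hb, by rw [hadd _ a ha b hb]; exact add_mem ha' hb'⟩
    exact this.2
  have hev : ∀ n, ∀ g ∈ I ^ (n * (c + K)), MvPolynomial.aeval f (Φ n g) = g := by
    intro n
    induction n with
    | zero => intro g _; rw [h0]; exact MvPolynomial.aeval_C f g
    | succ n ih =>
      intro g hg
      have : g ∈ I ^ ((n + 1) * (c + K)) ∧ MvPolynomial.aeval f (Φ (n + 1) g) = g := by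
        rw [hsucc] at hg
        refine Submodule.mul_induction_on hg (fun a ha b hb => ⟨hsucc n ▸ Ideal.mul_mem_mul ha hb, ?_⟩) ?_
        · rw [hmul n 1 a ha b hb, map_mul, ih a ha, h1 b (by rwa [one_mul] at hb), map_sum]
          congr 1
          refine Eq.trans ?_ (hφ ⟨b, Ideal.pow_le_pow_right (Nat.le_add_right c K) (by rwa [one_mul] at hb)⟩).symm
          exact Finset.sum_congr rfl fun j _ => by simp [mul_comm]
        · rintro a b ⟨ha, ha'⟩ ⟨hb, hb'⟩
          exact ⟨add_mem ha hb, by rw [hadd _ a ha b hb, map_add, ha', hb']⟩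
      exact this.2
  let e := TensorProduct.equivFinsuppOfBasisLeft (MvPolynomial.basisMonomials (Fin r) B) (N := N)
  have he : ∀ (p : MvPolynomial (Fin r) B) (x : N) d, e (p ⊗ₜ x) d = MvPolynomial.coeff d p • x := fun p x d => by
    rw [TensorProduct.equivFinsuppOfBasisLeft_apply_tmul_apply]
    rfl
  let π : (↥(I ^ (n * (c + K))) →₀ N) →ₗ[B] N :=
    Finsupp.lsum B fun g => algebraMap A B g • LinearMap.id
  let Θ : (↥(I ^ (n * (c + K))) →₀ N) →ₗ[B] MvPolynomial (Fin r) B ⊗[B] N :=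
    Finsupp.lsum B fun g => TensorProduct.mk B _ N (MvPolynomial.map (algebraMap A B) (Φ n g))
  have hker : LinearMap.ker π ≤ LinearMap.ker Θ := fun z hz => by
    rw [LinearMap.mem_ker, ← e.map_eq_zero_iff]
    have hz' : ∑ g ∈ z.support, algebraMap A B g • z g = 0 := by
      simpa [π, Finsupp.lsum_apply, Finsupp.sum] using hz
    refine Finsupp.ext fun d => ?_
    have hexp : e (Θ z) d = ∑ g ∈ z.support, algebraMap A B (MvPolynomial.coeff d (Φ n g)) • z g := by
      simp only [Θ, Finsupp.lsum_apply, Finsupp.sum, map_sum, Finsupp.coe_finsetSum, Finset.sum_apply,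
        TensorProduct.mk_apply, he, MvPolynomial.coeff_map]
    rw [hexp, Finsupp.coe_zero, Pi.zero_apply]
    rcases n with - | n
    · simp only [h0, MvPolynomial.coeff_C]
      split_ifs
      · exact hz'
      · simp
    · refine hK _ ((n + 1) * (c + K)) (Submodule.sum_mem _ fun g _ => Submodule.smul_mem_smul ?_ trivial) fun b hb => ?_
      · rw [← Ideal.map_pow]
        exact Ideal.mem_map_of_mem _ (MvPolynomial.mem_map_C_iff.1 (hΦK n g g.2) d)
      · rw [← Ideal.map_pow] at hb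
        rw [Ideal.map] at hb
        induction hb using Submodule.span_induction with
        | mem b hb =>
          obtain ⟨h, hh, rfl⟩ := hb
          have hs : ∀ g : ↥(I ^ ((n + 1) * (c + K))), algebraMap A B h • algebraMap A B (MvPolynomial.coeff d (Φ (n + 1) g)) • z g =
              algebraMap A B (MvPolynomial.coeff d (Φ (n + 1) h)) • algebraMap A B g • z g := fun g => by
            have : h • Φ (n + 1) g = (g : A) • Φ (n + 1) h := by
              rw [← hlin _ h g g.2, ← hlin _ g h hh, mul_comm]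
            have := congrArg (MvPolynomial.coeff d) this
            rw [MvPolynomial.coeff_smul, MvPolynomial.coeff_smul, smul_eq_mul, smul_eq_mul] at this
            rw [← mul_smul, ← mul_smul, ← map_mul, ← map_mul, this, mul_comm]
          rw [Finset.smul_sum, Finset.sum_congr rfl (fun g _ => hs g), ← Finset.smul_sum, hz', smul_zero]
        | zero => exact zero_smul _ _
        | add a b _ _ ha hb => rw [add_smul, ha, hb, add_zero]
        | smul a b _ hb => rw [smul_eq_mul, mul_smul, hb, smul_zero]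
  have hrange : LinearMap.range π = Submodule.span B {y : N | ∃ g ∈ I ^ (n * (c + K)), ∃ x : N, y = algebraMap A B g • x} := by
    refine le_antisymm ?_ (Submodule.span_le.2 ?_)
    · rintro _ ⟨z, rfl⟩
      simp only [π, Finsupp.lsum_apply, Finsupp.sum, LinearMap.smul_apply, LinearMap.id_apply]
      exact Submodule.sum_mem _ fun g _ => Submodule.subset_span ⟨g, g.2, z g, rfl⟩
    · rintro _ ⟨g, hg, x, rfl⟩
      exact ⟨Finsupp.single ⟨g, hg⟩ x, by simp [π]⟩
  let Ψ := (LinearMap.ker π).liftQ Θ hker ∘ₗ π.quotKerEquivRange.symm.toLinearMap ∘ₗ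
    (LinearEquiv.ofEq _ _ hrange.symm).toLinearMap
  have hΨ : ∀ (g : A) (hg : g ∈ I ^ (n * (c + K))) (x : N),
      Ψ ⟨algebraMap A B g • x, Submodule.subset_span ⟨g, hg, x, rfl⟩⟩ =
        MvPolynomial.map (algebraMap A B) (Φ n g) ⊗ₜ[B] x := fun g hg x => by
    have h2 : π.quotKerEquivRange.symm (LinearEquiv.ofEq _ _ hrange.symm
        ⟨algebraMap A B g • x, Submodule.subset_span ⟨g, hg, x, rfl⟩⟩) = Submodule.Quotient.mk (Finsupp.single ⟨g, hg⟩ x) :=
      (LinearEquiv.symm_apply_eq _).2 (Subtype.ext (by simp [π]))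
    simp only [Ψ, LinearMap.comp_apply, LinearEquiv.coe_coe, h2, Submodule.liftQ_apply, Θ, Finsupp.lsum_single,
      TensorProduct.mk_apply]
  refine ⟨Ψ, hΨ, fun y => ?_, fun Ψ' hΨ' => ?_⟩
  · obtain ⟨y, hy⟩ := y
    induction hy using Submodule.span_induction with
    | mem y hy =>
      obtain ⟨g, hg, x, rfl⟩ := hy
      rw [hΨ g hg x, TensorProduct.lift.tmul]
      show MvPolynomial.aeval (fun j ↦ algebraMap A B (f j)) (MvPolynomial.map (algebraMap A B) (Φ n g)) • x = algebraMap A B g • x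
      rw [MvPolynomial.aeval_map_algebraMap]
      refine congrArg (· • x) ?_
      conv_rhs => rw [← hev n g hg]
      exact MvPolynomial.aeval_algebraMap_apply B f (Φ n g)
    | zero => exact (congrArg _ (map_zero Ψ)).trans (map_zero _)
    | add a b ha hb ha' hb' => exact (congrArg _ (map_add Ψ ⟨a, ha⟩ ⟨b, hb⟩)).trans ((map_add _ _ _).trans (congrArg₂ (· + ·) ha' hb'))
    | smul a b hb hb' => exact (congrArg _ (map_smul Ψ a ⟨b, hb⟩)).trans ((map_smul _ _ _).trans (congrArg (a • ·) hb'))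
  · refine LinearMap.ext fun ⟨y, hy⟩ => ?_
    induction hy using Submodule.span_induction with
    | mem y hy =>
      obtain ⟨g, hg, x, rfl⟩ := hy
      exact (hΨ' g hg x).trans (hΨ g hg x).symm
    | zero => exact (map_zero Ψ').trans (map_zero Ψ).symm
    | add a b ha hb ha' hb' => exact (map_add Ψ' ⟨a, ha⟩ ⟨b, hb⟩).trans ((congrArg₂ (· + ·) ha' hb').trans (map_add Ψ ⟨a, ha⟩ ⟨b, hb⟩).symm)
    | smul a b hb hb' => exact (map_smul Ψ' a ⟨b, hb⟩).trans ((congrArg (a • ·) hb').trans (map_smul Ψ a ⟨b, hb⟩).symm)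

end Groth.Agent.CAlgH3.PowerPolyModule
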