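import Mathlib

/-!
A complete discrete valuation ring with a coefficient field is a power series ring.
-/

set_option autoImplicit false

universe u v

open IsLocalRing

namespace Groth.Agent.CAlgH3

theorem exists_powerSeries_algHom (K : Type u) (A : Type v) [Field K] [CommRing A] [IsDomain A]
    [IsDiscreteValuationRing A] [Algebra K A] [IsAdicComplete (maximalIdeal A) A]
    (hK : Function.Bijective ((residue A).comp (algebraMap K A)))
    (x : A) (hx : maximalIdeal A = Ideal.span {x}) :
    ∃ φ : PowerSeries K →ₐ[K] A, φ PowerSeries.X = x ∧ Function.Bijective φ ∧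
      ∀ (f : PowerSeries K) (n : ℕ),
        φ f - (Finset.range n).sum (fun i => algebraMap K A (PowerSeries.coeff i f) * x ^ i) ∈
          maximalIdeal A ^ n := by
  classical
  have hxm : ∀ n, x ^ n ∈ maximalIdeal A ^ n := fun n =>
    Ideal.pow_mem_pow (hx ▸ Ideal.mem_span_singleton_self x) n
  let mkn : ∀ n, Polynomial K →+* A ⧸ maximalIdeal A ^ n := fun n =>
    (Ideal.Quotient.mk _).comp (Polynomial.aeval x).toRingHom
  have key : ∀ n (P Q : Polynomial K), (∀ i < n, P.coeff i = Q.coeff i) → mkn n P = mkn n Q := by
    intro n P Q h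
    obtain ⟨R, hR⟩ : Polynomial.X ^ n ∣ P - Q := Polynomial.X_pow_dvd_iff.2 fun i hi => by
      rw [Polynomial.coeff_sub, h i hi, sub_self]
    rw [← sub_eq_zero, ← map_sub, hR, map_mul]
    have h0 : mkn n (Polynomial.X ^ n) = 0 := by
      simp only [mkn, RingHom.comp_apply, AlgHom.toRingHom_eq_coe, RingHom.coe_coe, map_pow,
        Polynomial.aeval_X]
      rw [← map_pow, Ideal.Quotient.eq_zero_iff_mem]
      exact hxm n
    rw [h0, zero_mul]
  let G : ∀ n, PowerSeries K →+* A ⧸ maximalIdeal A ^ n := fun n =>
    { toFun := fun f => mkn n (PowerSeries.trunc n f)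
      map_one' := by
        rw [key n _ 1 fun i hi => by rw [PowerSeries.coeff_trunc, if_pos hi, PowerSeries.coeff_one, Polynomial.coeff_one], map_one]
      map_mul' := fun f g => by
        rw [← map_mul]
        refine key n _ _ fun i hi => ?_
        rw [PowerSeries.coeff_trunc, if_pos hi, PowerSeries.coeff_mul, Polynomial.coeff_mul]
        refine Finset.sum_congr rfl fun ab hab => ?_
        rw [Finset.HasAntidiagonal.mem_antidiagonal] at hab
        rw [PowerSeries.coeff_trunc, if_pos (by omega), PowerSeries.coeff_trunc, if_pos (by omega)]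
      map_zero' := by simp
      map_add' := fun f g => by rw [map_add, map_add] }
  have hG : ∀ {m n : ℕ} (h : m ≤ n),
      (Ideal.Quotient.factor (Ideal.pow_le_pow_right h)).comp (G n) = G m := by
    intro m n h
    refine RingHom.ext fun f => ?_
    show Ideal.Quotient.mk (maximalIdeal A ^ m) (Polynomial.aeval x (PowerSeries.trunc n f)) = mkn m (PowerSeries.trunc m f)
    exact key m _ _ fun i hi => by
      rw [PowerSeries.coeff_trunc, if_pos (hi.trans_le h), PowerSeries.coeff_trunc, if_pos hi]
  let ψ := IsAdicComplete.liftRingHom (maximalIdeal A) G (fun {m n} h => hG h)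
  have happ : ∀ (f : PowerSeries K) n,
      ψ f - Polynomial.aeval x (PowerSeries.trunc n f) ∈ maximalIdeal A ^ n := fun f n =>
    Ideal.Quotient.eq.1 (IsAdicComplete.mk_liftRingHom (maximalIdeal A) G (fun {m n} h => hG h) n f)
  have heq : ∀ a b : A, (∀ n, a - b ∈ maximalIdeal A ^ n) → a = b := fun a b h => by
    rw [← sub_eq_zero]
    refine IsHausdorff.haus' (I := maximalIdeal A) _ fun n => ?_
    rw [SModEq.zero, smul_eq_mul, Ideal.mul_top]
    exact h n
  have hsum : ∀ (f : PowerSeries K) n, Polynomial.aeval x (PowerSeries.trunc n f) =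
      (Finset.range n).sum (fun i => algebraMap K A (PowerSeries.coeff i f) * x ^ i) := fun f n => by
    rcases n with _ | n
    · simp
    rw [Polynomial.aeval_eq_sum_range' (Nat.lt_succ_iff.2 (Polynomial.natDegree_le_iff_coeff_eq_zero.2
      fun N hN => by rw [PowerSeries.coeff_trunc, if_neg (by omega)]) : (PowerSeries.trunc (n + 1) f).natDegree < n + 1)]
    refine Finset.sum_congr rfl fun i hi => ?_
    rw [PowerSeries.coeff_trunc, if_pos (Finset.mem_range.1 hi), Algebra.smul_def]
  let φ : PowerSeries K →ₐ[K] A :=
    { ψ with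
      commutes' := fun c => heq _ _ fun n => by
        rcases n with _ | n
        · simp
        · have h1 := happ (algebraMap K (PowerSeries K) c) (n + 1)
          rw [PowerSeries.algebraMap_apply, Algebra.algebraMap_self, RingHom.id_apply,
            PowerSeries.trunc_C, Polynomial.aeval_C] at h1
          exact h1 }
  have hX : φ PowerSeries.X = x := heq _ _ fun n => by
    rcases n with _ | _ | n
    · simp
    · have h1 := happ PowerSeries.X 1
      have h0 : Polynomial.aeval x (PowerSeries.trunc 1 (PowerSeries.X : PowerSeries K)) = 0 := by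
        rw [hsum]; simp
      rw [h0, sub_zero] at h1
      exact Ideal.sub_mem _ h1 (by simpa using hxm 1)
    · have h1 := happ PowerSeries.X (n + 2)
      rwa [PowerSeries.trunc_X, Polynomial.aeval_X] at h1
  refine ⟨φ, hX, ⟨?_, ?_⟩, fun f n => hsum f n ▸ happ f n⟩
  · rw [injective_iff_map_eq_zero]
    intro f hf
    by_contra h0
    obtain ⟨n, u, rfl⟩ := IsDiscreteValuationRing.eq_unit_mul_pow_irreducible h0 (PowerSeries.X_prime.irreducible)
    rw [map_mul, map_pow, hX, mul_eq_zero] at hf
    rcases hf with hf | hf
    · exact (u.isUnit.map φ).ne_zero hf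
    · exact IsDiscreteValuationRing.not_a_field A (by rw [hx, eq_zero_of_pow_eq_zero hf, Ideal.span_singleton_eq_bot])
  · intro a
    have step : ∀ r : A, ∃ cs : K × A, r = algebraMap K A cs.1 + x * cs.2 := by
      intro r
      obtain ⟨c, hc⟩ := hK.2 (residue A r)
      have h1 : r - algebraMap K A c ∈ maximalIdeal A := by
        rw [← residue_eq_zero_iff, map_sub, sub_eq_zero]; exact hc.symm
      rw [hx, Ideal.mem_span_singleton'] at h1
      obtain ⟨s, hs⟩ := h1
      exact ⟨(c, s), by rw [mul_comm, hs]; ring⟩
    choose next hnext using step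
    let rem : ℕ → A := fun n => Nat.rec a (fun _ r => (next r).2) n
    let f : PowerSeries K := PowerSeries.mk fun i => (next (rem i)).1
    have hrec : ∀ n, a = (Finset.range n).sum (fun i => algebraMap K A (PowerSeries.coeff i f) * x ^ i) + x ^ n * rem n := by
      intro n
      induction n with
      | zero => simp [rem]
      | succ n ih =>
        rw [Finset.sum_range_succ, PowerSeries.coeff_mk]
        conv_lhs => rw [ih, hnext (rem n)]
        show _ = _ + x ^ (n + 1) * (next (rem n)).2
        ring
    refine ⟨f, heq _ _ fun n => ?_⟩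
    have h1 := happ f n
    rw [hsum] at h1
    conv => arg 2; arg 2; rw [hrec n]
    rw [← sub_sub]
    exact Ideal.sub_mem _ h1 (Ideal.mul_mem_right _ _ (hxm n))

end Groth.Agent.CAlgH3
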