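import Mathlib.RingTheory.MvPowerSeries.Substitution
import Mathlib.RingTheory.MvPowerSeries.Trunc
import Mathlib.RingTheory.MvPowerSeries.Order

/-! Algebra homomorphisms of power series rings are substitutions. -/

universe u

open MvPowerSeries Finsupp

namespace Groth.Agent.CAlgH3

variable {R : Type u} [CommRing R] {n m : ℕ}

theorem exists_eq_sum_X_mul (f : MvPowerSeries (Fin n) R) (k : ℕ)
    (hf : ∀ d, degree d < k + 1 → coeff d f = 0) :
    ∃ g : Fin n → MvPowerSeries (Fin n) R,
      (∀ i, ∀ d, degree d < k → coeff d (g i) = 0) ∧ f = ∑ i, X i * g i := by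
  classical
  let g : Fin n → MvPowerSeries (Fin n) R := fun i d => if ∀ j < i, d j = 0 then coeff (d + single i 1) f else 0
  refine ⟨g, fun i d hd => ?_, ?_⟩
  · change (if ∀ j < i, d j = 0 then coeff (d + single i 1) f else 0) = 0
    split_ifs
    · exact hf _ (by simpa using hd)
    · rfl
  ext d
  rw [map_sum]
  have hterm : ∀ i, coeff d (X i * g i) =
      if d i ≠ 0 ∧ ∀ j < i, d j = 0 then coeff d f else 0 := by
    intro i
    rw [X_def, coeff_monomial_mul]
    by_cases hi : d i = 0
    · rw [if_neg (fun h => by have := h i; simp [hi] at this), if_neg (fun h => h.1 hi)]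
    · have hle : single i 1 ≤ d := by simpa [Finsupp.single_le_iff] using Nat.one_le_iff_ne_zero.2 hi
      rw [if_pos hle, one_mul]
      change (if ∀ j < i, (d - single i 1 : Fin n →₀ ℕ) j = 0 then coeff (d - single i 1 + single i 1) f else 0) = _
      rw [tsub_add_cancel_of_le hle]
      refine if_congr ⟨fun h => ⟨hi, fun j hj => ?_⟩, fun h j hj => ?_⟩ rfl rfl
      · simpa [Finsupp.single_eq_of_ne hj.ne] using h j hj
      · simp [h.2 j hj]
  simp only [hterm]
  by_cases hd : d = 0
  · subst hd
    rw [Finset.sum_eq_zero fun i _ => if_neg (fun h => h.1 rfl)]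
    exact hf 0 (by simp)
  · obtain ⟨i, hi, hmin⟩ := d.support.exists_min_image id (Finsupp.support_nonempty_iff.2 hd)
    rw [Finset.sum_eq_single i]
    · rw [if_pos ⟨Finsupp.mem_support_iff.1 hi, fun j hj => by
        by_contra h
        exact absurd (hmin j (Finsupp.mem_support_iff.2 h)) (not_le.2 hj)⟩]
    · intro j _ hj
      rw [if_neg]
      rintro ⟨h1, h2⟩
      rcases lt_or_gt_of_ne hj with h | h
      · exact absurd (hmin j (Finsupp.mem_support_iff.2 h1)) (not_le.2 h)
      · exact Finsupp.mem_support_iff.1 hi (h2 i h)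
    · exact fun h => absurd (Finset.mem_univ i) h

theorem coeff_map_eq_zero (φ : MvPowerSeries (Fin n) R →ₐ[R] MvPowerSeries (Fin m) R)
    (h0 : ∀ i, constantCoeff (φ (X i)) = 0) :
    ∀ (k : ℕ) (f : MvPowerSeries (Fin n) R), (∀ d, degree d < k → coeff d f = 0) →
      ∀ d, degree d < k → coeff d (φ f) = 0
  | 0, _, _, d, hd => absurd hd (Nat.not_lt_zero _)
  | k + 1, f, hf, d, hd => by
    classical
    obtain ⟨g, hg, rfl⟩ := exists_eq_sum_X_mul f k hf
    rw [map_sum, map_sum]
    refine Finset.sum_eq_zero fun i _ => ?_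
    rw [map_mul, coeff_mul]
    refine Finset.sum_eq_zero fun x hx => ?_
    rw [Finset.mem_antidiagonal] at hx
    have hdeg : degree x.1 + degree x.2 = degree d := by rw [← map_add, hx]
    by_cases h1 : x.1 = 0
    · rw [h1, coeff_zero_eq_constantCoeff_apply, h0 i, zero_mul]
    · have : 0 < degree x.1 := Nat.pos_of_ne_zero (fun h => h1 ((Finsupp.degree_eq_zero_iff _).1 h))
      rw [coeff_map_eq_zero φ h0 k (g i) (hg i) x.2 (by omega), mul_zero]

theorem algHom_eq_subst (φ : MvPowerSeries (Fin n) R →ₐ[R] MvPowerSeries (Fin m) R)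
    (h0 : ∀ i, constantCoeff (φ (X i)) = 0) (f : MvPowerSeries (Fin n) R) :
    φ f = subst (fun i => φ (X i)) f := by
  classical
  have hs : HasSubst (fun i => φ (X i)) := hasSubst_of_constantCoeff_zero h0
  rw [← coe_substAlgHom (R := R) hs]
  have hpoly : ∀ p : MvPolynomial (Fin n) R, φ (p : MvPowerSeries (Fin n) R) = substAlgHom hs (p : MvPowerSeries (Fin n) R) := by
    intro p
    have : φ.comp (MvPolynomial.coeToMvPowerSeries.algHom R) =
        (substAlgHom hs).comp (MvPolynomial.coeToMvPowerSeries.algHom R) := by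
      refine MvPolynomial.algHom_ext fun i => ?_
      simp [subst_X hs]
    simpa using DFunLike.congr_fun this p
  ext d
  let p : MvPolynomial (Fin n) R := truncTotal (degree d + 1) f
  have hrest : ∀ e, degree e < degree d + 1 → coeff e (f - (p : MvPowerSeries (Fin n) R)) = 0 := fun e he => by
    simp [p, coeff_truncTotal _ he]
  have h1 := coeff_map_eq_zero φ h0 _ _ hrest d (Nat.lt_succ_self _)
  have h2 := coeff_map_eq_zero (substAlgHom hs) (fun i => by rw [substAlgHom_X hs]; exact h0 i) _ _ hrest d (Nat.lt_succ_self _)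
  rw [map_sub, map_sub, sub_eq_zero] at h1 h2
  rw [h1, h2, hpoly]

end Groth.Agent.CAlgH3
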