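import Mathlib

/-!
The sum of two elements with prime power data.
-/

set_option autoImplicit false

universe u

namespace Groth.Agent.CAlgH3.PrimePowerAdjoin

variable {R : Type u} [CommRing R] (W : Subalgebra ℤ R) {p : ℕ} {x y : R}

theorem pow_mem_of_dvd {n : ℕ} (hx1 : x ^ p ^ n ∈ W) (hx2 : (p : R) ^ n * x ∈ W) (i e : ℕ)
    (he : n * (i % p ^ n) ≤ e) : (p : R) ^ e * x ^ i ∈ W := by
  obtain ⟨t, rfl⟩ := Nat.exists_eq_add_of_le he
  have e1 : (p : R) ^ (n * (i % p ^ n) + t) * x ^ i =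
      (p : R) ^ t * ((x ^ p ^ n) ^ (i / p ^ n) * ((p : R) ^ n * x) ^ (i % p ^ n)) := by
    conv_lhs => rw [show i = p ^ n * (i / p ^ n) + i % p ^ n from (Nat.div_add_mod i _).symm]
    rw [Nat.mul_add_mod, Nat.mod_mod]
    ring
  rw [e1]
  exact mul_mem (pow_mem (natCast_mem W p) _) (mul_mem (pow_mem hx1 _) (pow_mem hx2 _))

theorem dvd_choose_of_not_dvd (hp : p.Prime) {a n i : ℕ} (hi : ¬ p ^ n ∣ i) :
    p ^ (a - n) ∣ (p ^ a).choose i := by
  obtain ⟨e, t, ht, rfl⟩ := Nat.exists_eq_pow_mul_and_not_dvd (fun h => hi (h ▸ dvd_zero _) : i ≠ 0) p hp.ne_one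
  have he : e < n := by
    by_contra h
    exact hi (dvd_mul_of_dvd_left (pow_dvd_pow p (not_lt.1 h)) t)
  obtain ⟨j, hj⟩ : ∃ j, p ^ e * t = j + 1 := ⟨p ^ e * t - 1, by
    have : 0 < p ^ e * t := Nat.pos_of_ne_zero fun h => hi (h ▸ dvd_zero _)
    omega⟩
  have h1 : p ^ a ∣ (p ^ a).choose (p ^ e * t) * (p ^ e * t) := by
    obtain ⟨b, hb⟩ : ∃ b, p ^ a = b + 1 := ⟨p ^ a - 1, by have := Nat.one_le_pow a p hp.pos; omega⟩
    refine ⟨b.choose j, ?_⟩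
    rw [hj, hb, Nat.add_one_mul_choose_eq]
  by_cases hea : a ≤ n
  · rw [Nat.sub_eq_zero_of_le hea, pow_zero]; exact one_dvd _
  obtain ⟨s, rfl⟩ : ∃ s, a = e + s := ⟨a - e, by omega⟩
  rw [show (p ^ (e + s)).choose (p ^ e * t) * (p ^ e * t) = p ^ e * ((p ^ (e + s)).choose (p ^ e * t) * t) by ring] at h1
  conv at h1 => lhs; rw [pow_add]
  have h2 := (Nat.mul_dvd_mul_iff_left (pow_pos hp.pos e)).1 h1
  exact (pow_dvd_pow p (by omega)).trans
    (((Nat.Coprime.pow_left s ((Nat.Prime.coprime_iff_not_dvd hp).2 ht)).dvd_mul_right).1 h2)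

theorem exists_sum_mem (hp : p.Prime) {n m : ℕ} (hx1 : x ^ p ^ n ∈ W) (hx2 : (p : R) ^ n * x ∈ W)
    (hy1 : y ^ p ^ m ∈ W) (hy2 : (p : R) ^ m * y ∈ W) :
    ∃ a : ℕ, (x + y) ^ p ^ a ∈ W ∧ (p : R) ^ a * (x + y) ∈ W := by
  refine ⟨n * p ^ n + m * p ^ m + (n + m), ?_, ?_⟩
  · set a := n * p ^ n + m * p ^ m + (n + m) with ha
    rw [add_pow]
    refine sum_mem fun i hi => ?_
    rw [Finset.mem_range, Nat.lt_succ_iff] at hi
    have hr : n * (i % p ^ n) + m * ((p ^ a - i) % p ^ m) ≤ n * p ^ n + m * p ^ m :=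
      add_le_add (Nat.mul_le_mul_left n (Nat.mod_lt _ (pow_pos hp.pos n)).le)
        (Nat.mul_le_mul_left m (Nat.mod_lt _ (pow_pos hp.pos m)).le)
    have hdvd : p ^ (n * (i % p ^ n) + m * ((p ^ a - i) % p ^ m)) ∣ (p ^ a).choose i := by
      by_cases h1 : p ^ n ∣ i
      · by_cases h2 : p ^ m ∣ p ^ a - i
        · rw [Nat.mod_eq_zero_of_dvd h1, Nat.mod_eq_zero_of_dvd h2, mul_zero, mul_zero, add_zero, pow_zero]
          exact one_dvd _
        · rw [← Nat.choose_symm hi]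
          exact (pow_dvd_pow p (by omega)).trans (dvd_choose_of_not_dvd hp (a := a) h2)
      · exact (pow_dvd_pow p (by omega)).trans (dvd_choose_of_not_dvd hp (a := a) h1)
    obtain ⟨c, hc⟩ := hdvd
    rw [hc, Nat.cast_mul, Nat.cast_pow]
    rw [show x ^ i * y ^ (p ^ a - i) * ((p : R) ^ (n * (i % p ^ n) + m * ((p ^ a - i) % p ^ m)) * (c : R)) =
      (c : R) * (((p : R) ^ (n * (i % p ^ n)) * x ^ i) * ((p : R) ^ (m * ((p ^ a - i) % p ^ m)) * y ^ (p ^ a - i))) by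
        rw [pow_add]; ring]
    exact mul_mem (natCast_mem W c) (mul_mem (pow_mem_of_dvd W hx1 hx2 _ _ le_rfl) (pow_mem_of_dvd W hy1 hy2 _ _ le_rfl))
  · have e1 : (p : R) ^ (n * p ^ n + m * p ^ m + (n + m)) * (x + y) =
        (p : R) ^ (n * p ^ n + m * p ^ m + m) * ((p : R) ^ n * x) +
          (p : R) ^ (n * p ^ n + m * p ^ m + n) * ((p : R) ^ m * y) := by ring
    rw [e1]
    exact add_mem (mul_mem (pow_mem (natCast_mem W p) _) hx2) (mul_mem (pow_mem (natCast_mem W p) _) hy2)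

end Groth.Agent.CAlgH3.PrimePowerAdjoin
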