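import Groth.Agent.CAlgH3.InvertibleDivisor
import Groth.Agent.CAlgH.ParaStalkGeom
import Groth.Agent.CAlgH.PicPunctHyp
import Groth.Agent.CAlgH.PicPunctCriteria
import Groth.Agent.S5090
import Groth.Agent.S3841
import Mathlib

/-! A divisor principal off the closed point of a parafactorial normal local ring is principal there. -/

set_option autoImplicit false
set_option backward.isDefEq.respectTransparency.types false
universe u

open CategoryTheory AlgebraicGeometry IsLocalRing

namespace Groth.Agent.CAlgH3.PrincipalPunctured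

open RefHullLib InvertibleDivisor CAlgH.PicPunct
open Groth.Agent.UPLib (GenAt)

variable {X : Scheme.{u}} [IsIntegral X]

/-- The prime of the local ring at `x` of a generization `y`. -/
noncomputable abbrev q {x y : X} (h : y ⤳ x) : Ideal (X.presheaf.stalk x) :=
  (maximalIdeal (X.presheaf.stalk y)).comap (X.presheaf.stalkSpecializes h).hom

/-- An element of the local ring at `x` as a rational function. -/
noncomputable abbrev K {x : X} (a : X.presheaf.stalk x) : X.functionField :=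
  algebraMap (X.presheaf.stalk x) X.functionField a

theorem isPrime_q {x y : X} (h : y ⤳ x) : (q h).IsPrime := Ideal.IsPrime.comap _

omit [IsIntegral X] in
theorem fromSpecStalk_q {x y : X} (h : y ⤳ x) :
    X.fromSpecStalk x (⟨(maximalIdeal (X.presheaf.stalk y)).comap (X.presheaf.stalkSpecializes h).hom,
      Ideal.IsPrime.comap _⟩ : PrimeSpectrum (X.presheaf.stalk x)) = y := by
  have h' := congrArg (fun g => g (closedPoint (X.presheaf.stalk y)))
    (Scheme.SpecMap_stalkSpecializes_fromSpecStalk h)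
  simp only [Scheme.fromSpecStalk_closedPoint] at h'
  exact h'

theorem not_le_of_not_specializes {x y z : X} (hy : y ⤳ x) (hz : z ⤳ x) (h : ¬ y ⤳ z) : ¬ q hy ≤ q hz := by
  intro hle
  refine h ?_
  have := ((PrimeSpectrum.le_iff_specializes (⟨q hy, isPrime_q hy⟩ : PrimeSpectrum (X.presheaf.stalk x))
    ⟨q hz, isPrime_q hz⟩).1 hle).map (X.fromSpecStalk x).continuous
  have e1 := fromSpecStalk_q hy
  have e2 := fromSpecStalk_q hz
  exact e1 ▸ e2 ▸ this

variable [IsLocallyNoetherian X]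

theorem height_q {x y : X} (h : y ⤳ x) (hy : Order.coheight y = 1) : (q h).height = 1 := by
  have := (ringKrullDim_eq_one_iff_coheight y).2 hy
  rw [S5090.dim_eq_height h] at this
  exact WithBot.coe_injective this

theorem exists_mem_q_notMem {x y : X} (hy : y ⤳ x) {p : Ideal (X.presheaf.stalk x)} (h : ¬ q hy ≤ p) :
    ∃ t, t ∈ q hy ∧ t ∉ p := SetLike.not_le_iff_exists.1 h

theorem K_ne_zero {x : X} {a : X.presheaf.stalk x} (ha : a ≠ 0) : K a ≠ 0 :=
  (map_ne_zero_iff _ (IsFractionRing.injective _ _)).2 ha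

variable (hX : Pi1.IsNormalScheme X)

include hX

theorem ord_K_nonneg {x y : X} (h : y ⤳ x) (hy : Order.coheight y = 1) {a : X.presheaf.stalk x} (ha : a ≠ 0) :
    0 ≤ Scheme.ord (K a) y ∧ (a ∈ q h → 1 ≤ Scheme.ord (K a) y) := by
  haveI := (hX y).1
  have hb : (X.presheaf.stalkSpecializes h).hom a ≠ 0 := fun e => K_ne_zero ha (by
    rw [K, ← algebraMap_stalkSpecializes h a, e, map_zero])
  have := ord_nonneg hX hy _ hb
  rw [algebraMap_stalkSpecializes h a] at this
  exact this

theorem ord_K_eq_zero {x y : X} (h : y ⤳ x) (hy : Order.coheight y = 1) {a : X.presheaf.stalk x} (ha : a ∉ q h) :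
    Scheme.ord (K a) y = 0 := by
  haveI := (hX y).1
  have hu : IsUnit ((X.presheaf.stalkSpecializes h).hom a) := by
    by_contra hu
    exact ha ((mem_maximalIdeal _).2 hu)
  obtain ⟨u, hu'⟩ := hu
  have h1 := (ord_nonneg hX hy _ u.ne_zero).1
  have h2 := (ord_nonneg hX hy _ u⁻¹.ne_zero).1
  have hm := Scheme.ord_mul (x := y) (K_ne_zero (x := y) u.ne_zero) (K_ne_zero (x := y) u⁻¹.ne_zero)
  rw [K, K, ← map_mul, Units.mul_inv, map_one, (Scheme.ord_eq_iff hy one_ne_zero (n := 0)).2 (map_one _)] at hm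
  rw [K, ← algebraMap_stalkSpecializes h a, ← hu']
  omega

theorem le_ord_pow {x y : X} (h : y ⤳ x) (hy : Order.coheight y = 1) {a : X.presheaf.stalk x} (ha : a ≠ 0)
    (hmem : a ∈ q h) (n : ℕ) : (n : ℤ) ≤ Scheme.ord (K (a ^ n)) y := by
  haveI := (hX x).1
  induction n with
  | zero => exact (ord_K_nonneg hX h hy (pow_ne_zero 0 ha)).1
  | succ n ih =>
    rw [pow_succ, K, map_mul, Scheme.ord_mul (K_ne_zero (pow_ne_zero n ha)) (K_ne_zero ha)]
    have := (ord_K_nonneg hX h hy ha).2 hmem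
    simp only [K, map_pow] at ih this ⊢
    push_cast
    linarith

open Classical in
theorem le_ord_prod {x : X} (T : Finset X) (t : X → X.presheaf.stalk x) (n : X → ℕ) (ht : ∀ z ∈ T, t z ≠ 0)
    {y : X} (h : y ⤳ x) (hy : Order.coheight y = 1) (hyT : y ∈ T) (hmem : t y ∈ q h) :
    (n y : ℤ) ≤ Scheme.ord (K (∏ z ∈ T, t z ^ n z)) y := by
  haveI := (hX x).1
  have hne : (∏ z ∈ T.erase y, t z ^ n z) ≠ 0 :=
    Finset.prod_ne_zero_iff.2 fun z hz => pow_ne_zero _ (ht z (Finset.mem_of_mem_erase hz))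
  rw [← Finset.mul_prod_erase T _ hyT, K, map_mul,
    Scheme.ord_mul (K_ne_zero (pow_ne_zero _ (ht y hyT))) (K_ne_zero hne)]
  have h1 := le_ord_pow hX h hy (ht y hyT) hmem (n y)
  have h2 := (ord_K_nonneg hX h hy hne).1
  linarith

omit hX in
theorem finite_gen_support (x : X) {W : X.Opens} (hx : x ∈ W) {s : Set X}
    (h : {z : X | z ∈ W ∧ z ∈ s}.Finite) : {y : X | y ⤳ x ∧ y ∈ s}.Finite :=
  h.subset fun y hy => ⟨hy.1.mem_open W.isOpen hx, hy.2⟩

omit hX in
theorem finite_ord_ne_zero (x : X) {φ : X.functionField} (hφ : φ ≠ 0) :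
    {y : X | y ⤳ x ∧ Order.coheight y = 1 ∧ Scheme.ord φ y ≠ 0}.Finite := by
  have hne : φ • AssSch12.unitOne (genericPoint X) ≠ 0 := fun e => unitOne_ne_zero (by
    rw [← inv_smul_smul₀ hφ (AssSch12.unitOne (genericPoint X)), e]; exact smul_zero _)
  obtain ⟨D, -, hD⟩ := exists_cycle_sOrd isRef1_structureModule hne
  obtain ⟨t, ht, hfin⟩ := D.supportLocallyFiniteWithinDomain' x (Set.mem_univ x)
  obtain ⟨V, hVt, hV, hxV⟩ := mem_nhds_iff.1 ht
  refine hfin.subset fun y hy => ⟨hVt (hy.1.mem_open hV hxV), fun e => hy.2.2 ?_⟩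
  rw [← sOrd_smul_unitOne hφ hy.2.1, ← hD y hy.2.1]
  exact e

/-- Principality at `x` from the proper generizations, when `O_x` is parafactorial. -/
theorem exists_principal (x : X) (hgood : CAlgH.ParaStalk.Good (X.presheaf.stalk x))
    (hdim : (2 : WithBot ℕ∞) ≤ ringKrullDim (X.presheaf.stalk x))
    (Z : X → ℤ) (hfin : {y : X | y ⤳ x ∧ Z y ≠ 0}.Finite)
    (hloc : ∀ z : X, z ⤳ x → z ≠ x →
      ∃ f : X.functionField, f ≠ 0 ∧ ∀ y : X, Order.coheight y = 1 → y ⤳ z → Z y = Scheme.ord f y) :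
    ∃ f : X.functionField, f ≠ 0 ∧ ∀ y : X, Order.coheight y = 1 → y ⤳ x → Z y = Scheme.ord f y := by
  classical
  haveI := (hX x).1
  haveI := (hX x).2
  let A := X.presheaf.stalk x
  have hqmax : ∀ y : X, Order.coheight y = 1 → ∀ h : y ⤳ x, ¬ maximalIdeal A ≤ q h := fun y hy h hle => by
    have h1 := height_q h hy
    rw [le_antisymm (le_maximalIdeal (isPrime_q h).ne_top) hle] at h1
    rw [← IsLocalRing.maximalIdeal_height_eq_ringKrullDim, h1] at hdim
    exact absurd (WithBot.coe_le_coe.1 (show ((2 : ℕ∞) : WithBot ℕ∞) ≤ ((1 : ℕ∞) : WithBot ℕ∞) from hdim)) (by norm_num)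
  have hm0 : maximalIdeal A ≠ ⊥ := fun e => by
    rw [← IsLocalRing.maximalIdeal_height_eq_ringKrullDim, e, Ideal.height_bot] at hdim
    exact absurd (WithBot.coe_le_coe.1 (show ((2 : ℕ∞) : WithBot ℕ∞) ≤ ((0 : ℕ∞) : WithBot ℕ∞) from hdim)) (by norm_num)
  -- shift to an effective divisor
  have hnz : ∀ y : X, ∃ t : A, t ≠ 0 ∧ ∀ h : y ⤳ x, Order.coheight y = 1 → t ∈ q h := by
    intro y
    by_cases h : y ⤳ x ∧ Order.coheight y = 1
    · obtain ⟨t, ht, ht0⟩ := Submodule.exists_mem_ne_zero_of_ne_bot (p := q h.1) fun e => by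
        haveI := isPrime_q h.1
        exact Ideal.ne_bot_of_height_eq_one (height_q h.1 h.2) e
      exact ⟨t, ht0, fun _ _ => ht⟩
    · exact ⟨1, one_ne_zero, fun h1 h2 => absurd ⟨h1, h2⟩ h⟩
  choose t₁ ht₁ ht₁q using hnz
  let a : A := ∏ z ∈ hfin.toFinset, t₁ z ^ (-Z z).toNat
  have ha : a ≠ 0 := Finset.prod_ne_zero_iff.2 fun z _ => pow_ne_zero _ (ht₁ z)
  let Z' : X → ℤ := fun y => Z y + Scheme.ord (K a) y
  have hZ' : ∀ y : X, y ⤳ x → Order.coheight y = 1 → 0 ≤ Z' y := by
    intro y h hy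
    have h1 := (ord_K_nonneg hX h hy ha).1
    by_cases hz : Z y = 0
    · simp only [Z', hz]; linarith
    · have h2 := le_ord_prod hX hfin.toFinset t₁ (fun z => (-Z z).toNat) (fun z _ => ht₁ z) h hy
        (hfin.mem_toFinset.2 ⟨h, hz⟩) (ht₁q y h hy)
      have h3 := Int.self_le_toNat (-Z y)
      simp only [Z'] at h2 ⊢
      linarith
  -- the divisorial ideal
  let I : Ideal A :=
    { carrier := {b | ∀ y : X, y ⤳ x → Order.coheight y = 1 → K b ∈ lat y (-(Z' y))}
      zero_mem' := fun y _ _ => by rw [K, map_zero]; exact Submodule.zero_mem _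
      add_mem' := fun {b c} hb hc y h hy => by rw [K, map_add]; exact Submodule.add_mem _ (hb y h hy) (hc y h hy)
      smul_mem' := fun c b hb y h hy => by
        rw [smul_eq_mul, K, map_mul, ← algebraMap_stalkSpecializes h c, ← Algebra.smul_def]
        exact Submodule.smul_mem _ _ (hb y h hy) }
  have hmemI : ∀ b : A, b ≠ 0 → (b ∈ I ↔ ∀ y : X, y ⤳ x → Order.coheight y = 1 → Z' y ≤ Scheme.ord (K b) y) := by
    intro b hb
    refine forall₃_congr fun y h hy => ?_
    haveI := (hX y).1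
    have hu := zpow_ne_zero (Z' y) (unif_ne_zero y)
    rw [mem_lat_iff, neg_neg]
    constructor
    · rintro ⟨c, hc⟩
      have hc0 : c ≠ 0 := fun e => K_ne_zero hb (by rw [← hc, e, map_zero, zero_mul])
      rw [← hc, Scheme.ord_mul (K_ne_zero hc0) hu, ord_unif_zpow hX hy]
      have := (ord_nonneg hX hy c hc0).1
      linarith
    · intro hle
      have hd : K b / unif y ^ Z' y ≠ 0 := div_ne_zero (K_ne_zero hb) hu
      have hm := Scheme.ord_mul (x := y) hd hu
      rw [div_mul_cancel₀ _ hu, ord_unif_zpow hX hy] at hm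
      obtain ⟨c, hc, -⟩ := exists_of_ord_nonneg hX hy hd (by linarith)
      exact ⟨c, by rw [hc, div_mul_cancel₀ _ hu]⟩
  -- local generators
  have hgen : ∀ (z : X) (hz : z ⤳ x), z ≠ x → ∃ t₀ : I, (t₀ : A) ≠ 0 ∧
      (∀ y : X, y ⤳ x → Order.coheight y = 1 → y ⤳ z → Scheme.ord (K (t₀ : A)) y = Z' y) ∧
      GenAt (q hz).primeCompl t₀ := by
    intro z hz hne
    haveI := isPrime_q hz
    obtain ⟨f, hf, hfz⟩ := hloc z hz hne
    let φ : X.functionField := f * K a
    have hφ : φ ≠ 0 := mul_ne_zero hf (K_ne_zero ha)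
    have hφz : ∀ y : X, Order.coheight y = 1 → y ⤳ z → Scheme.ord φ y = Z' y := fun y hy hyz => by
      simp only [φ, Z']
      rw [Scheme.ord_mul hf (K_ne_zero ha), hfz y hy hyz]
    have hbad : {y : X | y ⤳ x ∧ Order.coheight y = 1 ∧ ¬ y ⤳ z ∧ Scheme.ord φ y < Z' y}.Finite := by
      refine ((finite_ord_ne_zero x hφ).union (hfin.union (finite_ord_ne_zero x (K_ne_zero ha)))).subset ?_
      rintro y ⟨h, hy, -, hlt⟩
      by_cases h1 : Scheme.ord φ y = 0
      · by_cases h2 : Z y = 0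
        · exact Or.inr (Or.inr ⟨h, hy, fun h3 => by simp only [Z', h1, h2, h3] at hlt; exact absurd hlt (by norm_num)⟩)
        · exact Or.inr (Or.inl ⟨h, h2⟩)
      · exact Or.inl ⟨h, hy, h1⟩
    have hsep : ∀ y : X, ∃ t : A, t ∉ q hz ∧ ∀ h : y ⤳ x, ¬ y ⤳ z → t ∈ q h := by
      intro y
      by_cases h : y ⤳ x ∧ ¬ y ⤳ z
      · obtain ⟨t, ht, ht'⟩ := exists_mem_q_notMem h.1 (not_le_of_not_specializes h.1 hz h.2)
        exact ⟨t, ht', fun _ _ => ht⟩
      · exact ⟨1, fun h1 => (isPrime_q hz).ne_top ((Ideal.eq_top_iff_one _).2 h1), fun h1 h2 => absurd ⟨h1, h2⟩ h⟩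
    choose t₂ ht₂ ht₂q using hsep
    let s : A := ∏ y ∈ hbad.toFinset, t₂ y ^ (Z' y - Scheme.ord φ y).toNat
    have hsz : s ∈ (q hz).primeCompl := prod_mem fun y _ => pow_mem (ht₂ y) _
    have hs0 : s ≠ 0 := fun e => hsz (by rw [e]; exact zero_mem _)
    have hψ : K s * φ ≠ 0 := mul_ne_zero (K_ne_zero hs0) hφ
    have hord : ∀ y : X, y ⤳ x → Order.coheight y = 1 → Z' y ≤ Scheme.ord (K s * φ) y := by
      intro y h hy
      rw [Scheme.ord_mul (K_ne_zero hs0) hφ]
      have h1 := (ord_K_nonneg hX h hy hs0).1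
      by_cases hb : ¬ y ⤳ z ∧ Scheme.ord φ y < Z' y
      · have h2 := le_ord_prod hX hbad.toFinset t₂ (fun y => (Z' y - Scheme.ord φ y).toNat)
          (fun w _ e => ht₂ w (by rw [e]; exact zero_mem _)) h hy (hbad.mem_toFinset.2 ⟨h, hy, hb.1, hb.2⟩)
          (ht₂q y h hb.1)
        have h3 := Int.self_le_toNat (Z' y - Scheme.ord φ y)
        linarith
      · by_cases hyz : y ⤳ z
        · rw [hφz y hy hyz]; linarith
        · have : Z' y ≤ Scheme.ord φ y := not_lt.1 fun hlt => hb ⟨hyz, hlt⟩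
          linarith
    obtain ⟨t₀, ht₀⟩ := S3841.exists_integral hX (x := x) (K s * φ) hψ fun y h hy => (hZ' y h hy).trans (hord y h hy)
    have ht00 : t₀ ≠ 0 := fun e => hψ (by rw [← ht₀, e, map_zero])
    have ht₀I : t₀ ∈ I := (hmemI t₀ ht00).2 fun y h hy => by
      rw [show K t₀ = K s * φ from ht₀]; exact hord y h hy
    refine ⟨⟨t₀, ht₀I⟩, ht00, fun y h hy hyz => ?_, ?_, ?_⟩
    · rw [show K t₀ = K s * φ from ht₀, Scheme.ord_mul (K_ne_zero hs0) hφ, hφz y hy hyz]
      have hsy : s ∉ q h := fun hs => hsz (by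
        have : (X.presheaf.stalkSpecializes h) s ∈ maximalIdeal (X.presheaf.stalk y) := hs
        have e : (X.presheaf.stalkSpecializes h) s =
            (X.presheaf.stalkSpecializes hyz).hom ((X.presheaf.stalkSpecializes hz).hom s) := by
          rw [← CommRingCat.comp_apply, TopCat.Presheaf.stalkSpecializes_comp]
        rw [e] at this
        by_contra hh
        exact (mem_maximalIdeal _).1 this (((not_not.1 fun hu => hh ((mem_maximalIdeal _).2 hu) :
          IsUnit ((X.presheaf.stalkSpecializes hz).hom s))).map (X.presheaf.stalkSpecializes hyz).hom))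
      rw [ord_K_eq_zero hX h hy hsy, zero_add]
    · rintro ⟨b, hb⟩
      by_cases hb0 : b = 0
      · exact ⟨1, one_mem _, 0, Subtype.ext (by simp [hb0])⟩
      obtain ⟨c, hc⟩ := S3841.exists_integral hX (x := z) (K b / φ) (div_ne_zero (K_ne_zero hb0) hφ) fun y hyz hy => by
        have hm := Scheme.ord_mul (x := y) (div_ne_zero (K_ne_zero hb0) hφ) hφ
        rw [div_mul_cancel₀ _ hφ, hφz y hy hyz] at hm
        have := (hmemI b hb0).1 hb y (hyz.trans hz) hy
        linarith
      letI := (X.presheaf.stalkSpecializes hz).hom.toAlgebra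
      have := Misc15.isLocalization_stalkSpecializes hz
      obtain ⟨⟨a', s', hs'⟩, hcs⟩ :=
        IsLocalization.surj ((IsUnit.submonoid (X.presheaf.stalk z)).comap (X.presheaf.stalkSpecializes hz).hom) c
      have hs'z : s' ∈ (q hz).primeCompl := fun h => (mem_maximalIdeal _).1 h hs'
      refine ⟨s' * s, mul_mem hs'z hsz, a', Subtype.ext (IsFractionRing.injective A X.functionField ?_)⟩
      change K (s' * s * b) = K (a' * t₀)
      have e := congrArg (algebraMap (X.presheaf.stalk z) X.functionField) hcs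
      rw [map_mul, hc] at e
      have e' : K b / φ * K s' = K a' := by
        change _ / φ * algebraMap (X.presheaf.stalk x) X.functionField s' = algebraMap (X.presheaf.stalk x) X.functionField a'
        rw [← algebraMap_stalkSpecializes hz s', ← algebraMap_stalkSpecializes hz a']
        exact e
      simp only [K, map_mul] at e' ht₀ ⊢
      rw [ht₀, ← e']
      field_simp
    · intro b hb
      refine ⟨1, one_mem _, ?_⟩
      rw [one_mul]
      exact (mul_eq_zero.1 (congrArg Subtype.val hb : b * t₀ = 0)).resolve_right ht00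
  have hinv : InvAway (maximalIdeal A) I := by
    intro p _ hp
    obtain ⟨z, hz, hc⟩ := S5090.exists_gen x ⟨p, inferInstance⟩
    replace hc : q hz = p := hc
    have hne : z ≠ x := fun e => hp (by
      subst e
      rw [← hc, q, X.presheaf.stalkSpecializes_refl]
      exact le_rfl)
    obtain ⟨t₀, -, -, ht⟩ := hgen z hz hne
    subst hc
    exact ⟨t₀, ht⟩
  obtain ⟨w, hw⟩ := exists_offIso_of_picTrivial (maximalIdeal A) (subsingleton_H_of_depth (n := 2) hgood.1)
    (Formal2Lib.Punct.puncturedSpec_eq A ▸ hgood.2) I hinv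
  -- the generic point
  obtain ⟨η, hη, hcη⟩ := S5090.exists_gen x ⟨⊥, Ideal.isPrime_bot⟩
  have hηne : η ≠ x := fun e => hm0 (by
    subst e
    have h' : q hη = ⊥ := hcη
    rw [q, X.presheaf.stalkSpecializes_refl] at h'
    exact h')
  obtain ⟨i₀, hi₀, -⟩ := hgen η hη hηne
  have hlin : ∀ i : I, (i₀ : A) * w i = (i : A) * w i₀ := fun i => by
    have : (i₀ : A) • i = (i : A) • i₀ := Subtype.ext (mul_comm _ _)
    simpa [map_smul] using congrArg w this
  obtain ⟨tm, htm, htm0⟩ := Submodule.exists_mem_ne_zero_of_ne_bot hm0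
  have hwinj : ∀ i : I, w i = 0 → i = 0 := fun i hi => by
    obtain ⟨k, hk⟩ := hw.ker i hi
    exact Subtype.ext ((mul_eq_zero.1 (congrArg Subtype.val (hk (tm ^ k) (Ideal.pow_mem_pow htm k)) :
      tm ^ k * (i : A) = 0)).resolve_left (pow_ne_zero k htm0))
  have hwi₀ : w i₀ ≠ 0 := fun e => hi₀ (congrArg Subtype.val (hwinj i₀ e))
  let lam : X.functionField := K (w i₀) / K (i₀ : A)
  have hlam : lam ≠ 0 := div_ne_zero (K_ne_zero hwi₀) (K_ne_zero hi₀)
  have hK : ∀ i : I, K (w i) = lam * K (i : A) := fun i => by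
    have e := congrArg (algebraMap A X.functionField) (hlin i)
    rw [map_mul, map_mul] at e
    simp only [lam, K]
    rw [div_mul_eq_mul_div, eq_div_iff (K_ne_zero hi₀), mul_comm, e, mul_comm]
  have hlamord : ∀ y : X, Order.coheight y = 1 → y ⤳ x → Scheme.ord lam y = - Z' y := by
    intro y hy h
    obtain ⟨b, hb, hbq⟩ := SetLike.not_le_iff_exists.1 (hqmax y hy h)
    obtain ⟨k, hk⟩ := hw.coker 1
    obtain ⟨i, hi⟩ := hk (b ^ k) (Ideal.pow_mem_pow hb k)
    rw [smul_eq_mul, mul_one] at hi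
    haveI := isPrime_q h
    have hbk : b ^ k ∉ q h := fun e => hbq ((isPrime_q h).mem_of_pow_mem k e)
    have h0 : w i ≠ 0 := fun e => hbk (by rw [← hi, e]; exact zero_mem _)
    have hi0 : (i : A) ≠ 0 := fun e => h0 (by rw [show i = 0 from Subtype.ext e, map_zero])
    have e1 : Scheme.ord (K (w i)) y = Scheme.ord (lam * K (i : A)) y := congrArg (fun v => Scheme.ord v y) (hK i)
    rw [Scheme.ord_mul hlam (K_ne_zero hi0), hi, ord_K_eq_zero hX h hy hbk] at e1
    have hle := (hmemI (i : A) hi0).1 i.2 y h hy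
    have hne : y ≠ x := fun e => by
      subst e
      exact hqmax y hy h (by rw [q, X.presheaf.stalkSpecializes_refl]; exact le_rfl)
    obtain ⟨t, ht0, htord, -⟩ := hgen y h hne
    have hwt : w t ≠ 0 := fun e => ht0 (congrArg Subtype.val (hwinj t e))
    have e2 : Scheme.ord (K (w t)) y = Scheme.ord (lam * K (t : A)) y := congrArg (fun v => Scheme.ord v y) (hK t)
    rw [Scheme.ord_mul hlam (K_ne_zero ht0), htord y h hy specializes_rfl] at e2
    have h3 := (ord_K_nonneg hX h hy hwt).1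
    omega
  refine ⟨(lam * K a)⁻¹, inv_ne_zero (mul_ne_zero hlam (K_ne_zero ha)), fun y hy h => ?_⟩
  have hne := mul_ne_zero hlam (K_ne_zero ha)
  have hm := Scheme.ord_mul (x := y) (inv_ne_zero hne) hne
  rw [inv_mul_cancel₀ hne, (Scheme.ord_eq_iff hy one_ne_zero (n := 0)).2 (map_one _),
    Scheme.ord_mul hlam (K_ne_zero ha), hlamord y hy h] at hm
  simp only [Z'] at hm
  omega

end Groth.Agent.CAlgH3.PrincipalPunctured
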