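import Groth.Agent.Formal2Lib.PuncturedLimit
import Groth.Agent.LocCoh.Finiteness

/-!
# Cohomology in positive degree of coherent modules on the punctured spectrum is Artinian
-/

set_option autoImplicit false
set_option backward.isDefEq.respectTransparency false

universe u

open CategoryTheory CategoryTheory.Limits AlgebraicGeometry Opposite TopologicalSpace
open Groth.Agent.Coherent Groth.Agent.Coherent.Serre Groth.Agent.Formal2Lib Groth.Agent.Formal2Lib.Punct

namespace Groth.Agent.CAlgH3.PuncArt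

variable {R : CommRingCat.{u}} (𝔞 : Ideal R) [IsNoetherianRing R]

local notation "φU" => baseHom R (US 𝔞)

/-- The first step of the dimension shift. -/
theorem artinian_HA_one_of_seq (S : ShortComplex (ModuleCat.{u} R)) (hS : S.ShortExact)
    [Subsingleton (HA φU ((T 𝔞).obj S.X₂) ⊤ 1)]
    (h : IsArtinian R (_root_.LocCoh.H 𝔞 1 S.X₃)) :
    IsArtinian R (HA φU ((T 𝔞).obj S.X₁) ⊤ 1) := by
  have := isQCoh_T 𝔞 S.X₃
  obtain ⟨e, he⟩ := exists_DT_equiv 𝔞 S.X₃
  obtain ⟨ee⟩ := LocCoh.nonempty_coker_toDT_equiv 𝔞 S.X₃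
  have := isArtinian_of_linearEquiv ee.symm
  have hT := shortExact_T 𝔞 hS
  let δ : _root_.LocCoh.DT 𝔞 S.X₃ →ₗ[R] HA φU ((T 𝔞).obj S.X₁) ⊤ 1 :=
    (deltaG φU hT).comp (e.trans (gaEquiv 𝔞 _)).toLinearMap
  have hd : Function.Surjective (deltaG φU hT) := deltaG_surjective φU hT ‹_›
  have hle : LinearMap.range (_root_.LocCoh.toDT 𝔞 S.X₃) ≤ LinearMap.ker δ := by
    rintro _ ⟨x, rfl⟩
    obtain ⟨j, rfl⟩ := (ModuleCat.epi_iff_surjective S.g).1 hS.epi_g x
    have h1 : e (_root_.LocCoh.toDT 𝔞 S.X₃ (S.g.hom j)) =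
        (Nmap 𝔞 ((T 𝔞).map S.g)).hom (((adj 𝔞).unit.app S.X₂).hom j) :=
      (he _).trans (ConcreteCategory.congr_hom ((adj 𝔞).unit.naturality S.g) j)
    refine (deltaG_eq_zero_iff φU hT _).2 ⟨gaEquiv 𝔞 _ (((adj 𝔞).unit.app S.X₂).hom j), ?_⟩
    exact (gaEquiv_natural 𝔞 _ _).symm.trans (congrArg (gaEquiv 𝔞 _) h1.symm)
  refine isArtinian_of_surjective _ (Submodule.liftQ _ δ hle) fun y => ?_
  obtain ⟨x, rfl⟩ := hd y
  exact ⟨Submodule.Quotient.mk ((e.trans (gaEquiv 𝔞 _)).symm x),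
    congrArg (deltaG φU hT) ((e.trans (gaEquiv 𝔞 _)).apply_symm_apply x)⟩

theorem artinian_HA_succ : ∀ (q : ℕ) (M : ModuleCat.{u} R),
    IsArtinian R (_root_.LocCoh.H 𝔞 (q + 2) M) → IsArtinian R (HA φU ((T 𝔞).obj M) ⊤ (q + 1)) := by
  intro q
  induction q with
  | zero =>
    intro M h
    obtain ⟨J, _, _, f, hJ, hf⟩ := LocCoh.exists_injective_embedding (R := R) M
    let g : J →ₗ[R] J ⧸ LinearMap.range f := Submodule.mkQ _
    have hg : Function.Surjective g := Submodule.mkQ_surjective _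
    have hfg : Function.Exact f g := LinearMap.exact_map_mkQ_range f
    let S : ShortComplex (ModuleCat.{u} R) :=
      ShortComplex.mk (ModuleCat.ofHom f : M ⟶ ModuleCat.of R J) (ModuleCat.ofHom g)
        (ModuleCat.hom_ext hfg.linearMap_comp_eq_zero)
    have hS : S.ShortExact :=
      { exact := (ShortComplex.ShortExact.moduleCat_exact_iff_function_exact _).2 hfg
        mono_f := (ModuleCat.mono_iff_injective _).2 hf
        epi_g := (ModuleCat.epi_iff_surjective _).2 hg }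
    have := LocCoh.subsingleton_H_of_injective (I := 𝔞) J Nat.one_pos
    have hc : Function.Injective (LocCoh.connecting 𝔞 hf hg hfg 1) :=
      (injective_iff_map_eq_zero _).2 fun y hy => by
        obtain ⟨z, rfl⟩ := (LocCoh.Hmap_connecting_exact hf hg hfg 1 y).1 hy
        rw [Subsingleton.elim z 0, map_zero]
    have : Subsingleton (HA φU ((T 𝔞).obj S.X₂) ⊤ 1) := subsingleton_HA_T 𝔞 (ModuleCat.of R J) 0
    exact artinian_HA_one_of_seq 𝔞 S hS (isArtinian_of_injective _ hc)
  | succ q ih =>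
    intro M h
    obtain ⟨J, _, _, f, hJ, hf⟩ := LocCoh.exists_injective_embedding (R := R) M
    let g : J →ₗ[R] J ⧸ LinearMap.range f := Submodule.mkQ _
    have hg : Function.Surjective g := Submodule.mkQ_surjective _
    have hfg : Function.Exact f g := LinearMap.exact_map_mkQ_range f
    let S : ShortComplex (ModuleCat.{u} R) :=
      ShortComplex.mk (ModuleCat.ofHom f : M ⟶ ModuleCat.of R J) (ModuleCat.ofHom g)
        (ModuleCat.hom_ext hfg.linearMap_comp_eq_zero)
    have hS : S.ShortExact :=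
      { exact := (ShortComplex.ShortExact.moduleCat_exact_iff_function_exact _).2 hfg
        mono_f := (ModuleCat.mono_iff_injective _).2 hf
        epi_g := (ModuleCat.epi_iff_surjective _).2 hg }
    have := LocCoh.subsingleton_H_of_injective (I := 𝔞) J (Nat.succ_pos (q + 1))
    have hc : Function.Injective (LocCoh.connecting 𝔞 hf hg hfg (q + 2)) :=
      (injective_iff_map_eq_zero _).2 fun y hy => by
        obtain ⟨z, rfl⟩ := (LocCoh.Hmap_connecting_exact hf hg hfg (q + 2) y).1 hy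
        rw [Subsingleton.elim z 0, map_zero]
    have : IsArtinian R (_root_.LocCoh.H 𝔞 (q + 2) S.X₃) := isArtinian_of_injective _ hc
    have : IsArtinian R (HA φU (S.map (T 𝔞)).X₃ ⊤ (q + 1)) := ih S.X₃ this
    have : Subsingleton (HA φU (S.map (T 𝔞)).X₂ ⊤ (q + 1 + 1)) := subsingleton_HA_T 𝔞 (ModuleCat.of R J) (q + 1)
    exact isArtinian_of_surjective _ (deltaA φU (shortExact_T 𝔞 hS) ⊤ (q + 1)) fun y =>
      (exact_deltaA_postA φU (shortExact_T 𝔞 hS) ⊤ (q + 1) y).1 (Subsingleton.elim _ _)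

/-- Positive-degree cohomology of a coherent module is Artinian when local cohomology of finite modules is. -/
theorem isArtinian_HH (h : ∀ (i : ℕ) (M : Type u) [AddCommGroup M] [Module R M] [Module.Finite R M],
      IsArtinian R (_root_.LocCoh.H 𝔞 i M))
    (G : (US 𝔞).Modules) (hG : Coh.IsCoh G) (q : ℕ) :
    IsArtinian R (Coh.HH (US 𝔞) G (q + 1)) := by
  obtain ⟨M, _, ⟨e⟩⟩ := exists_model 𝔞 G hG
  have := artinian_HA_succ 𝔞 q M (h (q + 2) M)
  have := isArtinian_of_linearEquiv (isoA φU e ⊤ (q + 1))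
  let e' : Coh.HH (US 𝔞) G (q + 1) ≃ₗ[R] HA φU G (⊤ : (US 𝔞).Opens) (q + 1) :=
    { (HHLinEquiv G (q + 1)).toAddEquiv with
      map_smul' := fun a x => (HHLinEquiv G (q + 1)).map_smul (φU a) x }
  exact isArtinian_of_linearEquiv e'.symm

end Groth.Agent.CAlgH3.PuncArt
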