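import Mathlib
import Groth.Agent.CAlgH3.MoriFamily

/-! Sections on the punctured spectrum and the normalisation in the total ring of fractions. -/

universe u

open IsLocalRing

namespace Groth.Agent.CAlgH3.PuncturedNormal

/-- An element `x` of the fraction field of a Noetherian local domain with a power of each element of the
maximal ideal multiplying it into the ring is integral, unless the normalisation has a maximal ideal of height one. -/
theorem integral_or_exists (A K : Type u) [CommRing A] [IsDomain A] [IsLocalRing A] [IsNoetherianRing A]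
    [Field K] [Algebra A K] [IsFractionRing A K] (x : K)
    (hx : ∀ a ∈ maximalIdeal A, ∃ (n : ℕ) (b : A), algebraMap A K a ^ n * x = algebraMap A K b) :
    IsIntegral A x ∨ ∃ q : Ideal (integralClosure A K), q.IsMaximal ∧
      q.comap (algebraMap A (integralClosure A K)) = maximalIdeal A ∧
      ∀ P : Ideal (integralClosure A K), P.IsPrime → P < q → P = ⊥ := by
  by_cases hxR : x ∈ (integralClosure A K).toSubring
  · exact Or.inl hxR
  obtain ⟨𝒲, 𝓔, hfam, -, -⟩ := Mori.exists_family A K
  obtain ⟨W, hW, hxW, hess⟩ := hfam.exists_essential hxR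
  have := hfam.dvr W hW
  have hle : ∀ r ∈ integralClosure A K, W.valuation r ≤ 1 := fun r hr => hfam.le hW hr
  let q := Mori.centre (integralClosure A K) W hle
  have hq : q.IsPrime := Mori.centre_isPrime (integralClosure A K) W hle
  have hqA : ∀ a ∈ maximalIdeal A, algebraMap A (integralClosure A K) a ∈ q := by
    intro a ha
    change W.valuation (algebraMap A K a) < 1
    refine lt_of_le_of_ne (hle _ (Subalgebra.algebraMap_mem _ a)) fun h1 => hxW ?_
    obtain ⟨n, b, hb⟩ := hx a ha
    have h := congrArg W.valuation hb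
    rw [map_mul, map_pow, h1, one_pow, one_mul] at h
    exact (W.valuation_le_one_iff x).1 (h ▸ hle _ (Subalgebra.algebraMap_mem _ b))
  have hcomap : q.comap (algebraMap A (integralClosure A K)) = maximalIdeal A :=
    ((maximalIdeal.isMaximal A).eq_of_le (Ideal.comap_ne_top _ hq.ne_top) hqA).symm
  have hmax : q.IsMaximal := Ideal.isMaximal_of_isIntegral_of_isMaximal_comap q (by
    rw [hcomap]; exact maximalIdeal.isMaximal A)
  refine Or.inr ⟨q, hmax, hcomap, fun P hP hPq => ?_⟩
  by_contra hne
  obtain ⟨t, ht, ht0⟩ := Submodule.exists_mem_ne_zero_of_ne_bot hne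
  refine hPq.not_ge fun u hu => ?_
  let P' : Ideal (integralClosure A K).toSubring := P
  have : P'.IsPrime := hP
  exact KrullFamily.Essential.mem_of_prime (P := P') hess (fun r hr => hPq.le hr) (t := t) ht
    (fun h => ht0 (Subtype.ext h)) (u := u) hu

variable (A : Type u) [CommRing A] [IsNoetherianRing A] [IsReduced A]

/-- The projection of the total ring of fractions onto the fraction field of `A/p`, `p` a minimal prime. -/
noncomputable def proj (p : Ideal A) [p.IsPrime] (hp : p ∈ minimalPrimes A) :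
    FractionRing A →+* FractionRing (A ⧸ p) :=
  IsLocalization.lift (M := nonZeroDivisors A) (g := algebraMap A (FractionRing (A ⧸ p))) fun t => by
    refine isUnit_iff_ne_zero.2 fun h => ?_
    rw [IsScalarTower.algebraMap_apply A (A ⧸ p) (FractionRing (A ⧸ p)), map_eq_zero_iff _ (IsFractionRing.injective (A ⧸ p) _),
      Ideal.Quotient.algebraMap_eq, Ideal.Quotient.eq_zero_iff_mem] at h
    exact (Ideal.disjoint_nonZeroDivisors_of_mem_minimalPrimes hp).le_bot ⟨h, t.2⟩

theorem proj_algebraMap (p : Ideal A) [p.IsPrime] (hp : p ∈ minimalPrimes A) (a : A) :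
    proj A p hp (algebraMap A (FractionRing A) a) = algebraMap A (FractionRing (A ⧸ p)) a :=
  IsLocalization.lift_eq _ a

omit [IsNoetherianRing A] [IsReduced A] in
theorem algebraMap_eq_zero_iff (p : Ideal A) [p.IsPrime] (a : A) :
    algebraMap A (FractionRing (A ⧸ p)) a = 0 ↔ a ∈ p := by
  rw [IsScalarTower.algebraMap_apply A (A ⧸ p) (FractionRing (A ⧸ p)), map_eq_zero_iff _ (IsFractionRing.injective (A ⧸ p) _),
    Ideal.Quotient.algebraMap_eq, Ideal.Quotient.eq_zero_iff_mem]

theorem eq_zero_of_proj (y : FractionRing A)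
    (h : ∀ (p : Ideal A) [p.IsPrime] (hp : p ∈ minimalPrimes A), proj A p hp y = 0) : y = 0 := by
  obtain ⟨a, t, rfl⟩ := IsLocalization.exists_mk'_eq (nonZeroDivisors A) y
  have ha : a ∈ sInf (minimalPrimes A) := Ideal.mem_sInf.2 fun {p} hp => by
    have := hp.1.1
    refine (algebraMap_eq_zero_iff A p a).1 ?_
    rw [← proj_algebraMap A p hp, ← IsLocalization.mk'_spec (FractionRing A) a t, map_mul, h p hp, zero_mul]
  have ha' : a ∈ sInf (Ideal.minimalPrimes (⊥ : Ideal A)) := ha
  rw [Ideal.sInf_minimalPrimes] at ha'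
  obtain ⟨n, hn⟩ := ha'
  have hn' : a ^ n = 0 := hn
  rw [IsNilpotent.eq_zero ⟨n, hn'⟩, IsLocalization.mk'_zero]

open Classical in
/-- Lifting `a/t` to the total ring of fractions, with zero components off `p`. -/
theorem exists_lift (p : Ideal A) [p.IsPrime] (hp : p ∈ minimalPrimes A) (a t : A) (ht : t ∉ p) :
    ∃ e : FractionRing A,
      proj A p hp e * algebraMap A (FractionRing (A ⧸ p)) t = algebraMap A (FractionRing (A ⧸ p)) a ∧
      ∀ (q : Ideal A) [q.IsPrime] (hq : q ∈ minimalPrimes A), q ≠ p → proj A q hq e = 0 := by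
  let S := ((minimalPrimes.finite_of_isNoetherianRing A).toFinset.erase p)
  have hS : ∀ q ∈ S, q.IsPrime ∧ q ∈ minimalPrimes A ∧ q ≠ p := fun q hq => by
    obtain ⟨h1, h2⟩ := Finset.mem_erase.1 hq
    have h2' := (minimalPrimes.finite_of_isNoetherianRing A).mem_toFinset.1 h2
    exact ⟨h2'.1.1, h2', h1⟩
  have hbp : ¬ S.inf id ≤ p := fun hle => by
    obtain ⟨q, hq, hqp⟩ := (Ideal.IsPrime.inf_le' ‹p.IsPrime›).1 hle
    exact (hS q hq).2.2 (le_antisymm hqp (hp.2 ⟨(hS q hq).1, bot_le⟩ hqp))
  obtain ⟨b, hb, hbp'⟩ := SetLike.not_le_iff_exists.1 hbp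
  have hcq : ¬ ((p : Set A) ⊆ ⋃ q ∈ (S : Set (Ideal A)), (q : Set A)) := fun hsub => by
    obtain ⟨q, hq, hqp⟩ := (Ideal.subset_union_prime (f := id) p p fun q hq _ _ => (hS q hq).1).1 hsub
    exact (hS q hq).2.2 (le_antisymm ((hS q hq).2.1.2 ⟨‹p.IsPrime›, bot_le⟩ hqp) hqp)
  obtain ⟨c, hc, hc'⟩ := Set.not_subset.1 hcq
  have hbq : ∀ q ∈ S, b ∈ q := fun q hq => Finset.inf_le (f := id) hq hb
  have hd : t * b + c ∈ nonZeroDivisors A := by
    refine mem_nonZeroDivisors_iff_left.2 fun y hy => ?_
    have hy' : y ∈ sInf (Ideal.minimalPrimes (⊥ : Ideal A)) := Ideal.mem_sInf.2 fun {q} hq => by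
      refine (hq.1.1.mem_or_mem (x := t * b + c) (y := y) ?_).resolve_left fun hbc => ?_
      · rw [hy]; exact q.zero_mem
      · by_cases hqp : q = p
        · subst hqp
          exact ((hq.1.1.mem_or_mem ((Ideal.add_mem_iff_left _ hc).1 hbc)).elim ht hbp')
        · have hqS : q ∈ S := Finset.mem_erase.2 ⟨hqp, (minimalPrimes.finite_of_isNoetherianRing A).mem_toFinset.2 hq⟩
          refine hc' (Set.mem_biUnion hqS ?_)
          exact (Ideal.add_mem_iff_right _ (q.mul_mem_left t (hbq q hqS))).1 hbc
    rw [Ideal.sInf_minimalPrimes] at hy'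
    obtain ⟨n, hn⟩ := hy'
    exact IsNilpotent.eq_zero ⟨n, hn⟩
  have hspec := IsLocalization.mk'_spec (FractionRing A) (a * b) (⟨t * b + c, hd⟩ : nonZeroDivisors A)
  refine ⟨IsLocalization.mk' _ (a * b) (⟨t * b + c, hd⟩ : nonZeroDivisors A), ?_, fun q _ hq hqp => ?_⟩
  · have h := congrArg (proj A p hp) hspec
    rw [map_mul, proj_algebraMap, proj_algebraMap, map_add, (algebraMap_eq_zero_iff A p c).2 hc, add_zero, map_mul, map_mul,
      ← mul_assoc] at h
    exact mul_right_cancel₀ (fun h0 => hbp' ((algebraMap_eq_zero_iff A p b).1 h0)) h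
  · have h := congrArg (proj A q hq) hspec
    have hqS : q ∈ S := Finset.mem_erase.2 ⟨hqp, (minimalPrimes.finite_of_isNoetherianRing A).mem_toFinset.2 hq⟩
    rw [map_mul, proj_algebraMap, proj_algebraMap, (algebraMap_eq_zero_iff A q _).2 (q.mul_mem_left a (hbq q hqS))] at h
    refine (mul_eq_zero.1 h).resolve_right fun h0 => hc' (Set.mem_biUnion hqS ?_)
    exact (Ideal.add_mem_iff_right _ (q.mul_mem_left t (hbq q hqS))).1 ((algebraMap_eq_zero_iff A q _).1 h0)

open Polynomial in
/-- Integrality is checked on the components. -/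
theorem isIntegral_of_proj (x : FractionRing A)
    (h : ∀ (p : Ideal A) [p.IsPrime] (hp : p ∈ minimalPrimes A), IsIntegral (A ⧸ p) (proj A p hp x)) :
    IsIntegral A x := by
  classical
  have hpoly : ∀ p : minimalPrimes A, ∃ P : A[X], P.Monic ∧ ∀ (_ : p.1.IsPrime),
      proj A p.1 p.2 (P.eval₂ (algebraMap A (FractionRing A)) x) = 0 := by
    rintro ⟨p, hp⟩
    have := hp.1.1
    obtain ⟨Q, hQm, hQ⟩ : IsIntegral A (proj A p hp x) := isIntegral_trans (A := A ⧸ p) _ (h p hp)
    refine ⟨Q, hQm, fun _ => ?_⟩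
    rw [hom_eval₂, show (proj A p hp).comp (algebraMap A (FractionRing A)) = algebraMap A (FractionRing (A ⧸ p)) from
      RingHom.ext (proj_algebraMap A p hp)]
    exact hQ
  choose P hPm hP using hpoly
  have : Fintype (minimalPrimes A) := (minimalPrimes.finite_of_isNoetherianRing A).fintype
  have hz : (∏ q, P q).eval₂ (algebraMap A (FractionRing A)) x = 0 := by
    refine eq_zero_of_proj A _ (fun p hpp hp => ?_)
    rw [eval₂_finsetProd, map_prod]
    exact Finset.prod_eq_zero (i := (⟨p, hp⟩ : minimalPrimes A)) (Finset.mem_univ _) (hP ⟨p, hp⟩ hpp)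
  exact ⟨∏ q, P q, monic_prod_of_monic Finset.univ P (fun q _ => hPm q), hz⟩

variable [IsLocalRing A]

/-- Sections of punctured type are integral if all maximal ideals of the normalisation have height `≥ 2`. -/
theorem isIntegral_of_pow (hdim : ∀ (m' : Ideal ↥(integralClosure A (FractionRing A))) [m'.IsMaximal],
      m'.comap (algebraMap A ↥(integralClosure A (FractionRing A))) = IsLocalRing.maximalIdeal A →
        2 ≤ ringKrullDim (Localization.AtPrime m'))
    (x : FractionRing A) (hx : ∀ (p : Ideal A) [p.IsPrime] (hp : p ∈ minimalPrimes A), ∀ a ∈ maximalIdeal A,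
      ∃ (n : ℕ) (b : A), algebraMap A (FractionRing (A ⧸ p)) a ^ n * proj A p hp x = algebraMap A (FractionRing (A ⧸ p)) b) :
    IsIntegral A x := by
  refine isIntegral_of_proj A x fun p _ hp => ?_
  let L := FractionRing (A ⧸ p)
  have : IsLocalRing (A ⧸ p) := IsLocalRing.of_surjective' (Ideal.Quotient.mk p) Ideal.Quotient.mk_surjective
  have hmax : (maximalIdeal (A ⧸ p)).comap (Ideal.Quotient.mk p) = maximalIdeal A :=
    IsLocalRing.eq_maximalIdeal (Ideal.comap_isMaximal_of_surjective _ Ideal.Quotient.mk_surjective)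
  refine (integral_or_exists (A ⧸ p) L (proj A p hp x) fun a ha => ?_).resolve_right ?_
  · obtain ⟨a, rfl⟩ := Ideal.Quotient.mk_surjective a
    obtain ⟨n, b, hb⟩ := hx p hp a (hmax ▸ ha)
    exact ⟨n, Ideal.Quotient.mk p b, hb⟩
  rintro ⟨q, hqmax, hqA, hq⟩
  let π : integralClosure A (FractionRing A) →+* integralClosure (A ⧸ p) L :=
    { toFun := fun y => ⟨proj A p hp y, by
        obtain ⟨Q, hQm, hQ⟩ := y.2
        refine IsIntegral.tower_top (R := A) ⟨Q, hQm, ?_⟩
        have h := congrArg (proj A p hp) hQ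
        rw [Polynomial.hom_eval₂, map_zero, show (proj A p hp).comp (algebraMap A (FractionRing A)) = algebraMap A L from
          RingHom.ext (proj_algebraMap A p hp)] at h
        exact h⟩
      map_one' := Subtype.ext (map_one _)
      map_mul' := fun _ _ => Subtype.ext (map_mul _ _ _)
      map_zero' := Subtype.ext (map_zero _)
      map_add' := fun _ _ => Subtype.ext (map_add _ _ _) }
  have hp1 : (1 : A) ∉ p := fun h => ‹p.IsPrime›.ne_top (p.eq_top_iff_one.2 h)
  obtain ⟨e, he1, he0⟩ := exists_lift A p hp 1 1 hp1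
  rw [map_one, mul_one] at he1
  have hee : e * e = e := sub_eq_zero.1 <| eq_zero_of_proj A _ fun r _ hr => by
    rw [map_sub, map_mul]
    by_cases hrp : r = p
    · subst hrp; rw [he1, mul_one, sub_self]
    · rw [he0 r hr hrp, mul_zero, sub_self]
  have heint : IsIntegral A e := by
    refine isIntegral_of_proj A e fun r _ hr => ?_
    by_cases hrp : r = p
    · subst hrp; rw [he1]; exact isIntegral_one
    · rw [he0 r hr hrp]; exact isIntegral_zero
  let e' : integralClosure A (FractionRing A) := ⟨e, heint⟩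
  have hπe : π e' = 1 := Subtype.ext he1
  have hker : ∀ y, π y = 0 → y = y * (1 - e') := fun y hy => by
    apply Subtype.ext
    refine sub_eq_zero.1 (eq_zero_of_proj A _ fun r _ hr => ?_)
    change proj A r hr ((y : FractionRing A) - (y : FractionRing A) * (1 - e)) = 0
    rw [mul_sub, mul_one, sub_sub_cancel, map_mul]
    by_cases hrp : r = p
    · subst hrp
      have : proj A r hr y = 0 := congrArg Subtype.val hy
      rw [this, zero_mul]
    · rw [he0 r hr hrp, mul_zero]
  have hsurj : Function.Surjective π := by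
    rintro ⟨z, hz⟩
    obtain ⟨a, t, ht, rfl⟩ := IsFractionRing.div_surjective (A ⧸ p) z
    obtain ⟨a, rfl⟩ := Ideal.Quotient.mk_surjective a
    obtain ⟨t, rfl⟩ := Ideal.Quotient.mk_surjective t
    obtain ⟨y, hy, hy0⟩ := exists_lift A p hp a t fun h => nonZeroDivisors.ne_zero ht (Ideal.Quotient.eq_zero_iff_mem.2 h)
    have hyz : proj A p hp y = algebraMap (A ⧸ p) L (Ideal.Quotient.mk p a) / algebraMap (A ⧸ p) L (Ideal.Quotient.mk p t) := by
      rw [eq_div_iff ((map_ne_zero_iff _ (IsFractionRing.injective (A ⧸ p) L)).2 (nonZeroDivisors.ne_zero ht))]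
      exact hy
    have hyint : IsIntegral A y := by
      refine isIntegral_of_proj A y fun r _ hr => ?_
      by_cases hrp : r = p
      · subst hrp; rw [hyz]; exact hz
      · rw [hy0 r hr hrp]; exact isIntegral_zero
    exact ⟨⟨y, hyint⟩, Subtype.ext hyz⟩
  let m' : Ideal (integralClosure A (FractionRing A)) := q.comap π
  have hm' : m'.IsMaximal := Ideal.comap_isMaximal_of_surjective π hsurj
  have hm'A : m'.comap (algebraMap A (integralClosure A (FractionRing A))) = maximalIdeal A := by
    rw [Ideal.comap_comap, ← hmax, ← hqA, Ideal.comap_comap]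
    congr 1
    ext a
    exact proj_algebraMap A p hp a
  have hkerP : ∀ P : Ideal (integralClosure A (FractionRing A)), P.IsPrime → P ≤ m' → RingHom.ker π ≤ P := by
    intro P hP hPm y hy
    have he : e' ∉ P := fun h => hqmax.ne_top (q.eq_top_iff_one.2 (hπe ▸ hPm h))
    have h1 : (1 - e') * e' = 0 := by
      apply Subtype.ext
      change (1 - e) * e = 0
      rw [sub_mul, one_mul, hee, sub_self]
    have h2 : 1 - e' ∈ P := (hP.mem_or_mem (x := 1 - e') (y := e') (h1 ▸ P.zero_mem)).resolve_right he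
    rw [hker y hy]
    exact P.mul_mem_left _ h2
  have hlt : ∀ P : Ideal (integralClosure A (FractionRing A)), P.IsPrime → P < m' → P = RingHom.ker π := by
    intro P hP hPm
    refine le_antisymm ?_ (hkerP P hP hPm.le)
    have hmapP : (P.map π).IsPrime := Ideal.map_isPrime_of_surjective hsurj (hkerP P hP hPm.le)
    have hback : (P.map π).comap π = P := by
      rw [Ideal.comap_map_of_surjective π hsurj, sup_eq_left]
      exact hkerP P hP hPm.le
    have hlt' : P.map π < q := lt_of_le_of_ne (Ideal.map_le_iff_le_comap.2 hPm.le) fun h => hPm.ne (by rw [← hback, h])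
    rw [← hback, hq _ hmapP hlt']
    rfl
  have hht : m'.height ≤ (1 : ℕ) := Ideal.height_le_iff.2 fun P hP hPm => by
    have : P.height = 0 := Ideal.height_eq_zero_iff.2 ⟨⟨hP, bot_le⟩, fun Q hQ hQP => by
      rw [hlt P hP hPm]
      exact hkerP Q hQ.1 (hQP.trans hPm.le)⟩
    rw [this]; exact zero_lt_one
  have := hdim m' hm'A
  rw [IsLocalization.AtPrime.ringKrullDim_eq_height m' (Localization.AtPrime m')] at this
  have h2 : ((2 : ℕ∞) : WithBot ℕ∞) ≤ (m'.height : WithBot ℕ∞) := this
  exact absurd ((WithBot.coe_le_coe.1 h2).trans hht) (by norm_num)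

end Groth.Agent.CAlgH3.PuncturedNormal
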