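import Groth.Agent.CAlgH3.LocFreeFactor
import Groth.Prelude.Def_Wider

/-! Annihilators of the cohomology of the structure sheaf kill powers for locally free sheaves. -/

set_option autoImplicit false
set_option backward.isDefEq.respectTransparency false

universe u

open CategoryTheory CategoryTheory.Limits AlgebraicGeometry Opposite TopologicalSpace
open Groth.Agent.Coherent Groth.Agent.PicLib

namespace Groth.Agent.CAlgH3.PuncturedTorsion

open LocFreeFactor

variable {X : Scheme.{u}} [CompactSpace X] [QuasiSeparatedSpace X]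

theorem smul_eq_sum {E : X.Modules} (hE : FlatMod.IsFinLocFree E) (f : Γ(X, ⊤)) {I : Type u} [Fintype I]
    {e : I → Γ(E, X.basicOpen f)} (hb : IsBasisOn E (X.basicOpen f) e) (p : ℕ) :
    ∃ (N : ℕ), ∀ (c : Coh.Γtop X), (∀ x : Coh.HH X (Coh.structureModule X) p, c • x = 0) →
      ∀ x : Coh.HH X E p, (c * (show Coh.Γtop X from f ^ N)) • x = 0 := by
  classical
  obtain ⟨N, φ, ψ, h⟩ := exists_factor hE f hb
  refine ⟨N, fun c hc x => ?_⟩
  let T := SheafOfModules.toSheaf X.ringCatSheaf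
  have hsum : Coh.smulAb E (f ^ N) = ∑ i, T.map (φ i) ≫ T.map (ψ i) := by
    rw [show (∑ i, T.map (φ i) ≫ T.map (ψ i)) = T.map (∑ i, φ i ≫ ψ i) from by
      rw [Functor.map_sum]; exact Finset.sum_congr rfl fun i _ => (T.map_comp _ _).symm]
    refine Sheaf.hom_ext (NatTrans.ext (funext fun U => ConcreteCategory.hom_ext _ _ fun a => ?_))
    refine Eq.trans ?_ (app_sum Finset.univ (fun i => φ i ≫ ψ i) U.unop a).symm
    exact (h U.unop a).symm
  have hx : (show Coh.Γtop X from f ^ N) • x = ∑ i, Sheaf.H.map (T.map (ψ i)) p (Sheaf.H.map (T.map (φ i)) p x) := by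
    show ((Sheaf.functorH _ p).map (Coh.smulAb E (f ^ N))).hom x = _
    rw [hsum, Functor.map_sum, show (∑ i, (Sheaf.functorH _ p).map (T.map (φ i) ≫ T.map (ψ i))).hom = ∑ i, ((Sheaf.functorH _ p).map (T.map (φ i) ≫ T.map (ψ i))).hom from map_sum AddCommGrpCat.homAddEquiv _ _, AddMonoidHom.finsetSum_apply]
    refine Finset.sum_congr rfl fun i _ => ?_
    rw [Functor.map_comp]
    rfl
  rw [mul_smul, hx, Finset.smul_sum]
  refine Finset.sum_eq_zero fun i _ => ?_
  show Sheaf.H.map (Coh.smulAb E c) p (Sheaf.H.map (T.map (ψ i)) p _) = 0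
  rw [← Sheaf.H.map_comp_apply, Canon.toSheaf_map_comp_smulAb, Sheaf.H.map_comp_apply]
  exact (congrArg (Sheaf.H.map (T.map (ψ i)) p) (hc _)).trans (map_zero _)

theorem main (A : Type u) [CommRing A] (J I : Ideal A) (hJI : J ≤ I) (hI : I.FG) (p n : ℕ)
    (hO : ∀ a ∈ J ^ n, ∀ x : Coh.HH (↑(LocCoh.puncturedOpen A I))
      (Coh.structureModule (↑(LocCoh.puncturedOpen A I))) p, a • x = 0)
    (F : (↑(LocCoh.puncturedOpen A I) : Scheme.{u}).Modules) (hF : FlatMod.IsFinLocFree F) :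
    ∃ m : ℕ, J.FG → ∀ a ∈ J ^ m, ∀ x : Coh.HH (↑(LocCoh.puncturedOpen A I)) F p, a • x = 0 := by
  classical
  let U := LocCoh.puncturedOpen A I
  let X : Scheme.{u} := ↑U
  have hUc : IsCompact (U : Set (Spec (CommRingCat.of A))) :=
    (PrimeSpectrum.isRetrocompact_zeroLocus_compl_of_fg hI).isCompact
  haveI : CompactSpace X := isCompact_iff_compactSpace.1 hUc
  haveI : QuasiSeparatedSpace X := quasiSeparatedSpace_of_quasiSeparated U.ι
  let γ : A →+* Γ(X, ⊤) := Coh.toGlobal (X ↘ Spec (CommRingCat.of A))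
  have hbo : ∀ g : A, X.basicOpen (γ g) = U.ι ⁻¹ᵁ PrimeSpectrum.basicOpen g := fun g => by
    rw [show γ g = U.ι.appTop ((Scheme.ΓSpecIso (CommRingCat.of A)).inv g) from rfl]
    rw [← Scheme.preimage_basicOpen_top]
    congr 1
    exact basicOpen_eq_of_affine _
  have key : ∀ x : X, ∃ g : A, x ∈ X.basicOpen (γ g) ∧ PrimeSpectrum.basicOpen g ≤ U ∧
      ∃ (k : ℕ) (e : ULift.{u} (Fin k) → Γ(F, X.basicOpen (γ g))), IsBasisOn F (X.basicOpen (γ g)) e := by
    intro x
    obtain ⟨V, k, e, hxV, hb⟩ := exists_isBasisOn hF x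
    have hxW : U.ι x ∈ U.ι ''ᵁ V := ⟨x, hxV, rfl⟩
    obtain ⟨_, ⟨g, rfl⟩, hxg, hg⟩ :=
      PrimeSpectrum.isTopologicalBasis_basic_opens.exists_subset_of_mem_open hxW (U.ι ''ᵁ V).2
    have hle : X.basicOpen (γ g) ≤ V := by
      rw [hbo g]
      intro y hy
      obtain ⟨z, hz, hzy⟩ := hg hy
      rwa [← U.ι.isOpenEmbedding.injective hzy]
    refine ⟨g, by rw [hbo g]; exact hxg, fun y hy => ?_, k, _, LocFreeFactor.IsBasisOn.mono hb hle⟩
    obtain ⟨z, -, rfl⟩ := hg hy
    exact z.2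
  choose g hgx hgU k e hb using key
  choose N hN using fun x => smul_eq_sum hF (γ (g x)) (hb x) p
  obtain ⟨S, hS⟩ := CompactSpace.elim_nhds_subcover (fun x => (X.basicOpen (γ (g x)) : Set X))
    (fun x => (X.basicOpen (γ (g x))).isOpen.mem_nhds (hgx x))
  let G : Set A := (fun x => g x ^ N x) '' S
  have hrad : J ≤ (Ideal.span G).radical := by
    refine hJI.trans ?_
    rw [Ideal.radical_eq_sInf]
    refine le_sInf fun P ⟨hP, hPp⟩ => ?_
    by_contra hIP
    have hxU : (⟨P, hPp⟩ : PrimeSpectrum A) ∈ U := hIP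
    obtain ⟨x, hxS, hx⟩ := Set.mem_iUnion₂.1 (hS.ge (Set.mem_univ (⟨_, hxU⟩ : X)))
    rw [SetLike.mem_coe, hbo] at hx
    exact hx (hPp.mem_of_pow_mem _ (hP (Ideal.subset_span ⟨x, hxS, rfl⟩)))
  by_cases hJ : J.FG
  swap
  · exact ⟨0, fun h => absurd h hJ⟩
  obtain ⟨l, hl⟩ := Ideal.exists_pow_le_of_le_radical_of_fg hrad hJ
  refine ⟨n + l, fun _ a ha x => ?_⟩
  rw [pow_add] at ha
  refine Submodule.mul_induction_on ha (fun c hc b hb' => ?_) (fun a b ha hb => ?_)
  · refine Submodule.span_induction (p := fun b _ => ∀ c ∈ J ^ n, (c * b) • x = 0) ?_ ?_ ?_ ?_ (hl hb') c hc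
    · rintro _ ⟨y, -, rfl⟩ c hc
      show (show Coh.Γtop X from γ (c * g y ^ N y)) • x = 0
      rw [map_mul, map_pow]
      exact hN y (γ c) (fun z => hO c hc z) x
    · intro c _; rw [mul_zero, zero_smul]
    · intro b b' _ _ h h' c hc; rw [mul_add, add_smul, h c hc, h' c hc, add_zero]
    · intro r b _ h c hc
      rw [smul_eq_mul, ← mul_assoc]
      exact h _ (Ideal.mul_mem_right r _ hc)
  · rw [add_smul, ha, hb, add_zero]

end Groth.Agent.CAlgH3.PuncturedTorsion
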