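import Groth.Agent.PicLib.FlatTriv
import Mathlib.RingTheory.LocalRing.Module
import Mathlib.RingTheory.Finiteness.Descent
import Mathlib.RingTheory.Flat.FaithfullyFlat.Algebra

/-!
# Invertible modules over schemes with semilocal global functions
-/

set_option autoImplicit false
set_option backward.isDefEq.respectTransparency false

universe u

open CategoryTheory CategoryTheory.Limits AlgebraicGeometry Opposite TopologicalSpace TensorProduct
open Groth.Agent.Coherent Groth.Agent.PicLib Groth.Agent.AmpleLib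

namespace Groth.Agent.CAlgH3

/-- A module over a semilocal ring which becomes free of rank one after a faithfully flat extension is free. -/
theorem exists_gen_of_ff (R T M : Type u) [CommRing R] [CommRing T] [Algebra R T] [AddCommGroup M] [Module R M]
    [Module.FaithfullyFlat R T] [Finite (MaximalSpectrum R)] (e : T ⊗[R] M ≃ₗ[T] T) :
    ∃ m : M, ∀ x : M, ∃ r : R, r • m = x := by
  have : Module.Finite T (T ⊗[R] M) := Module.Finite.equiv e.symm
  have : Module.Finite R M := Module.Finite.of_finite_tensorProduct_of_faithfullyFlat T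
  have : Module.Flat T (T ⊗[R] M) := Module.Flat.of_linearEquiv e
  have : Module.Flat R M := Module.Flat.of_flat_tensorProduct R M T
  obtain ⟨b⟩ := Module.nonempty_basis_of_flat_of_finrank_eq R M 1 fun P => by
    let _ : Field (R ⧸ P.1) := Ideal.Quotient.field P.1
    obtain ⟨q, hq⟩ := PrimeSpectrum.comap_surjective_of_faithfullyFlat (A := R) (B := T)
      ⟨P.1, P.2.isPrime⟩
    have : q.asIdeal.LiesOver P.1 := ⟨(congrArg PrimeSpectrum.asIdeal hq).symm⟩
    let W := T ⧸ q.asIdeal
    let e2 : W ⊗[R ⧸ P.1] ((R ⧸ P.1) ⊗[R] M) ≃ₗ[W] W :=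
      AlgebraTensorModule.cancelBaseChange R (R ⧸ P.1) W W M ≪≫ₗ
        (AlgebraTensorModule.cancelBaseChange R T W W M).symm ≪≫ₗ
        AlgebraTensorModule.congr (LinearEquiv.refl W W) e ≪≫ₗ AlgebraTensorModule.rid T W W
    have h := e2.finrank_eq
    rw [Module.finrank_baseChange, Module.finrank_self] at h
    exact h
  exact ⟨b 0, fun x => ⟨b.repr x 0, by conv_rhs => rw [← b.sum_repr x, Fin.sum_univ_one]⟩⟩

/-- An invertible module that becomes trivial after a faithfully flat base change is trivial if the global functions form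
a semilocal ring. -/
theorem nonempty_iso_of_ff_semilocal (A B : Type u) [CommRing A] [CommRing B] [Algebra A B] [Module.FaithfullyFlat A B]
    (X : Scheme.{u}) (f : X ⟶ Spec (CommRingCat.of A)) [CompactSpace X] [QuasiSeparatedSpace X]
    [Finite (MaximalSpectrum Γ(X, ⊤))] (L : X.Modules) (hL : PicF.IsInvertible L)
    (e : (Scheme.Modules.pullback (pullback.fst f (Spec.map (CommRingCat.ofHom (algebraMap A B))))).obj L ≅
      Coh.structureModule (pullback f (Spec.map (CommRingCat.ofHom (algebraMap A B))))) :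
    Nonempty (L ≅ Coh.structureModule X) := by
  have : Coh.IsQCoh L := isQCoh_of_isInvertible hL
  let h := Spec.map (CommRingCat.ofHom (algebraMap A B))
  have hflat : Flat h := by
    rw [HasRingHomProperty.Spec_iff (P := @Flat)]
    exact RingHom.flat_algebraMap_iff.2 inferInstance
  have hsurj : Surjective h := ⟨fun p => PrimeSpectrum.comap_surjective_of_faithfullyFlat (A := A) (B := B) p⟩
  let X' := pullback f h
  let g : X' ⟶ X := pullback.fst f h
  let q : X' ⟶ Spec (CommRingCat.of B) := pullback.snd f h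
  have : Surjective g := MorphismProperty.pullback_fst _ _ hsurj
  have : IsAffineHom g := MorphismProperty.pullback_fst _ _ inferInstance
  let _ : X.Over (Spec (CommRingCat.of A)) := ⟨f⟩
  let _ : X'.Over (Spec (CommRingCat.of B)) := ⟨q⟩
  have H : IsPullback g q f h := IsPullback.of_hasPullback _ _
  have H' : IsPullback g (X' ↘ Spec (CommRingCat.of B)) (X ↘ Spec (CommRingCat.of A))
      (Spec.map (CommRingCat.ofHom (algebraMap A B))) := H
  let φ : A →+* Γ(X, ⊤) := Coh.toGlobal (X := X) (A := A) f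
  let β : B →+* Γ(X', ⊤) := Coh.toGlobal (X := X') (A := B) q
  have hcomm : ∀ a, g.appTop (φ a) = β (algebraMap A B a) := appTop_toGlobal g H'
  obtain ⟨E, hE⟩ := exists_baseChange_sections g φ β L hcomm (fun U hU => isBCPushout_of_isPullback g H' hU)
  let _ : Algebra A Γ(X, ⊤) := φ.toAlgebra
  let _ : Algebra B Γ(X', ⊤) := β.toAlgebra
  let _ : Algebra Γ(X, ⊤) Γ(X', ⊤) := g.appTop.hom.toAlgebra
  let _ : Algebra A Γ(X', ⊤) := (β.comp (algebraMap A B)).toAlgebra
  have : IsScalarTower A B Γ(X', ⊤) := IsScalarTower.of_algebraMap_eq fun _ => rfl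
  have : IsScalarTower A Γ(X, ⊤) Γ(X', ⊤) := IsScalarTower.of_algebraMap_eq fun a => (hcomm a).symm
  have hpo : Algebra.IsPushout A B Γ(X, ⊤) Γ(X', ⊤) := by
    have hi := isIso_pushoutSection_of_isQuasiSeparated_of_flat_right H (US := ⊤) (UT := ⊤) (UX := ⊤) (UY := ⊤)
      (by simp) (by simp) (by simp) (isAffineOpen_top _) (isAffineOpen_top _) isCompact_univ
      isQuasiSeparated_univ
    have hp := (isIso_pushoutSection_iff ..).1 hi
    refine Algebra.IsPushout.symm (CommRingCat.isPushout_iff_isPushout.1 ?_)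
    refine hp.of_iso (Scheme.ΓSpecIso (CommRingCat.of A)) (Iso.refl _)
      (Scheme.ΓSpecIso (CommRingCat.of B)) (Iso.refl _) ?_ ?_ ?_ ?_
    · ext a
      show f.appLE ⊤ ⊤ _ a = f.appTop ((Scheme.ΓSpecIso (CommRingCat.of A)).inv ((Scheme.ΓSpecIso (CommRingCat.of A)).hom a))
      rw [Iso.hom_inv_id_apply]
      simp [Scheme.Hom.appLE, Scheme.Hom.appTop]
    · rw [Scheme.Hom.appLE]
      erw [(Spec (CommRingCat.of B)).presheaf.map_id, Category.comp_id]
      exact Scheme.ΓSpecIso_naturality _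
    · ext a
      show g.appLE ⊤ ⊤ _ a = g.appTop a
      simp [Scheme.Hom.appLE, Scheme.Hom.appTop]
    · ext b
      show q.appLE ⊤ ⊤ _ b = q.appTop ((Scheme.ΓSpecIso (CommRingCat.of B)).inv ((Scheme.ΓSpecIso (CommRingCat.of B)).hom b))
      rw [Iso.hom_inv_id_apply]
      simp [Scheme.Hom.appLE, Scheme.Hom.appTop]
  have : Module.FaithfullyFlat Γ(X, ⊤) Γ(X', ⊤) :=
    Module.FaithfullyFlat.of_linearEquiv _ _
      (show Γ(X', ⊤) ≃ₗ[Γ(X, ⊤)] Γ(X, ⊤) ⊗[A] B from (letI := hpo.symm; (Algebra.IsPushout.equiv A Γ(X, ⊤) B Γ(X', ⊤)).symm).toLinearEquiv)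
  let M := Γ(L, ⊤)
  let L' := (Scheme.Modules.pullback g).obj L
  let eT : Γ(L', ⊤) ≃+ Γ(X', ⊤) :=
    AddEquiv.ofBijective (e.hom.app ⊤).hom (ConcreteCategory.bijective_of_isIso (C := AddCommGrpCat) (e.hom.app ⊤))
  have heT : ∀ (r : Γ(X', ⊤)) (y : Γ(L', ⊤)), eT (r • y) = r * eT y := fun r y => Scheme.Modules.Hom.app_smul e.hom r y
  let pl : M →ₗ[Γ(X, ⊤)] Γ(X', ⊤) :=
    { toFun := fun x => eT (pullSec g x)
      map_add' := fun x y => by
        rw [show pullSec g (x + y) = (pullSec g x + pullSec g y : Γ(L', ⊤)) from map_add _ x y, map_add]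
      map_smul' := fun r x => by
        rw [show pullSec g (r • x) = (g.app ⊤ r • pullSec g x : Γ(L', ⊤)) from pullSec_smul g r x, heT]
        rfl }
  let Φ : Γ(X', ⊤) ⊗[Γ(X, ⊤)] M →ₗ[Γ(X', ⊤)] Γ(X', ⊤) := pl.liftBaseChange Γ(X', ⊤)
  let θ : B ⊗[A] HA φ L ⊤ 0 →+ Γ(X', ⊤) ⊗[Γ(X, ⊤)] M :=
    TensorProduct.liftAddHom
      (AddMonoidHom.mk' (fun b => AddMonoidHom.mk' (fun x => β b ⊗ₜ secTop φ L x) fun x y => by
          rw [map_add, tmul_add]) fun b c => AddMonoidHom.ext fun x => by
          show β (b + c) ⊗ₜ secTop φ L x = _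
          rw [map_add, add_tmul]; rfl)
      fun a b x => by
        show β (a • b) ⊗ₜ secTop φ L x = β b ⊗ₜ secTop φ L (a • x)
        rw [secTop_smul, tmul_smul, smul_tmul', Algebra.smul_def, map_mul, Algebra.smul_def]
        exact congrArg (fun t : Γ(X', ⊤) => (t * β b) ⊗ₜ[Γ(X, ⊤)] secTop φ L x) (hcomm a).symm
  have hΦθ : ∀ z, Φ (θ z) = eT (E z) := by
    intro z
    induction z using TensorProduct.induction_on with
    | zero => simp
    | add u v hu hv => simp only [map_add, hu, hv]
    | tmul b x =>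
      rw [hE, heT]
      show Φ (β b ⊗ₜ secTop φ L x) = _
      rw [LinearMap.liftBaseChange_tmul]
      rfl
  have hθ : Function.Surjective θ := by
    intro z
    induction z using TensorProduct.induction_on with
    | zero => exact ⟨0, map_zero _⟩
    | add u v hu hv =>
      obtain ⟨a, rfl⟩ := hu
      obtain ⟨b, rfl⟩ := hv
      exact ⟨a + b, map_add _ _ _⟩
    | tmul t x =>
      induction t using hpo.out.inductionOn generalizing x with
      | zero => exact ⟨0, by simp⟩
      | tmul r =>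
        refine ⟨(1 : B) ⊗ₜ (secTop φ L).symm (r • x), ?_⟩
        show β 1 ⊗ₜ secTop φ L ((secTop φ L).symm (r • x)) = _
        rw [map_one β, AddEquiv.apply_symm_apply, tmul_smul, smul_tmul', Algebra.smul_def, mul_one]
        rfl
      | smul b t ih =>
        obtain ⟨z, hz⟩ := ih x
        refine ⟨b • z, ?_⟩
        rw [Algebra.smul_def b t, ← smul_eq_mul, ← smul_tmul', ← hz]
        clear hz
        induction z using TensorProduct.induction_on with
        | zero => simp
        | add u v hu hv => simp only [smul_add, map_add, hu, hv]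
        | tmul b' y =>
          show β (b * b') ⊗ₜ _ = algebraMap B Γ(X', ⊤) b • (β b' ⊗ₜ _)
          rw [map_mul, smul_tmul', smul_eq_mul]
          rfl
      | add s t hs ht =>
        obtain ⟨a, ha⟩ := hs x
        obtain ⟨b, hb⟩ := ht x
        exact ⟨a + b, by rw [map_add, ha, hb, add_tmul]⟩
  have hb : Function.Bijective (fun z => Φ (θ z)) := by
    rw [funext hΦθ]; exact eT.bijective.comp E.bijective
  have hΦ : Function.Bijective Φ := by
    refine ⟨fun u v huv => ?_, fun w => ?_⟩
    · obtain ⟨a, rfl⟩ := hθ u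
      obtain ⟨b, rfl⟩ := hθ v
      rw [hb.1 huv]
    · obtain ⟨a, ha⟩ := hb.2 w
      exact ⟨θ a, ha⟩
  obtain ⟨m, hm⟩ := exists_gen_of_ff Γ(X, ⊤) Γ(X', ⊤) M (LinearEquiv.ofBijective Φ hΦ)
  have hu : IsUnit (pl m) := by
    obtain ⟨z, hz⟩ := hΦ.2 1
    obtain ⟨t, rfl⟩ : ∃ t, z = t ⊗ₜ m := by
      clear hz
      induction z using TensorProduct.induction_on with
      | zero => exact ⟨0, (zero_tmul _ _).symm⟩
      | add u v hu hv =>
        obtain ⟨a, rfl⟩ := hu
        obtain ⟨b, rfl⟩ := hv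
        exact ⟨a + b, (add_tmul ..).symm⟩
      | tmul t x =>
        obtain ⟨r, rfl⟩ := hm x
        exact ⟨r • t, (tmul_smul ..).trans rfl⟩
    rw [LinearMap.liftBaseChange_tmul, smul_eq_mul] at hz
    exact IsUnit.of_mul_eq_one_right _ hz
  have hg : g ⁻¹ᵁ glocus L m = ⊤ := by
    rw [← glocus_pullSec g hL, ← glocus_map_iso e]
    exact (Groth.Agent.PicLib.glocus_structureModule (pl m)).trans (X'.basicOpen_of_isUnit hu)
  have htop : glocus L m = ⊤ := by
    refine eq_top_iff.2 fun x _ => ?_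
    obtain ⟨w, rfl⟩ := g.surjective x
    exact hg.ge (trivial : w ∈ (⊤ : X'.Opens))
  have hgen : IsGen L ⊤ m := by
    have := (le_glocus_iff m ⊤).1 htop.ge
    rwa [resM_self] at this
  have : IsIso (unitDesc L m) := isIso_of_isGen _ (by rw [unitVal_unitDesc, resM_self]; exact hgen)
  exact ⟨(asIso (unitDesc L m)).symm⟩

end Groth.Agent.CAlgH3
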