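import Groth.Agent.CAlgH3.HomShAcyclic
import Groth.Agent.CAlgH3.GaGmExt
import Groth.Agent.CAlgH3.SemilocalTriv
import Groth.Agent.Desc19b.SiteRes.Comp

/-!
# Hilbert 90 for the direct image of the multiplicative group
-/

set_option autoImplicit false
set_option linter.all false
set_option backward.isDefEq.respectTransparency false
set_option backward.isDefEq.respectTransparency.types false
set_option synthInstance.maxHeartbeats 400000
set_option maxHeartbeats 1000000

universe u

open CategoryTheory CategoryTheory.Limits CategoryTheory.Abelian AlgebraicGeometry Opposite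
open Groth.Agent.Coherent Groth.Agent.PicLib Groth.Agent.AmpleLib

namespace Groth.Agent.CAlgH3.PushGmH1

/-- Invertible modules on a one-point scheme are trivial. -/
theorem nonempty_iso_of_subsingleton {X : Scheme.{u}} [Subsingleton X] [Nonempty X] (L : X.Modules)
    (hL : PicF.IsInvertible L) : Nonempty (L ≅ Coh.structureModule X) := by
  obtain ⟨W, hW, m, hm⟩ := exists_isGen hL (Classical.arbitrary X)
  obtain rfl : W = ⊤ := eq_top_iff.2 fun x _ => Subsingleton.elim (Classical.arbitrary X) x ▸ hW
  have : IsIso (unitDesc L m) := isIso_of_isGen _ (by rw [unitVal_unitDesc, resM_self]; exact hm)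
  exact ⟨(asIso (unitDesc L m)).symm⟩

local notation "K₀" => Scheme.fppfPrecoverage

variable {X Y : Scheme.{u}} (f : Y ⟶ X)

/-- The first cohomology of a direct image of the multiplicative group vanishes when the Picard group of the base change
of the base vanishes. -/
theorem subsingleton_H_push_gm
    (hPic : ∀ L : ((Over.pullback f).obj (Over.mk (𝟙 X))).left.Modules, PicF.IsInvertible L →
      Nonempty (L ≅ Coh.structureModule ((Over.pullback f).obj (Over.mk (𝟙 X))).left)) :
    Subsingleton (BigSite.H K₀ X
      ((BigSite.pushBig K₀ f AddCommGrpCat.{u + 1}).obj (CGrpSh.pts K₀ (Red.Gm Y))) 1) := by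
  refine subsingleton_of_forall_eq 0 fun x => ?_
  let hT : IsTerminal (Over.mk (𝟙 X)) := Over.mkIdTerminal
  let i := Injective.ι (CGrpSh.pts K₀ (Red.Gm Y))
  let π := cokernel.π i
  have hM : (ShortComplex.mk i π (cokernel.condition i)).ShortExact :=
    { exact := ShortComplex.exact_cokernel _
      mono_f := inferInstanceAs (Mono (Injective.ι _))
      epi_g := inferInstanceAs (Epi (cokernel.π _)) }
  let P := BigSite.pushBig K₀ f AddCommGrpCat.{u + 1}
  haveI : Injective (Injective.under (CGrpSh.pts K₀ (Red.Gm Y))) := inferInstance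
  haveI hI : Injective (P.obj (Injective.under (CGrpSh.pts K₀ (Red.Gm Y)))) :=
    Injective.injective_of_adjoint (BigSite.bigAdj K₀ f AddCommGrpCat.{u + 1}) _
  haveI : PreservesLimitsOfSize.{0, 0} P :=
    (BigSite.bigAdj K₀ f AddCommGrpCat.{u + 1}).rightAdjoint_preservesLimits
  haveI : PreservesFiniteLimits P := PreservesLimitsOfSize.preservesFiniteLimits _
  let a := P.map i
  let b := P.map π
  have hab : a ≫ b = 0 := by rw [← Functor.map_comp, cokernel.condition, Functor.map_zero]
  obtain ⟨hexab, ha⟩ : (ShortComplex.mk a b hab).Exact ∧ Mono a :=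
    ⟨hM.exact.map_of_mono_of_preservesKernel P hM.mono_f inferInstance, P.map_mono i⟩
  let S := ShortComplex.mk a (cokernel.π a) (cokernel.condition a)
  have hS : S.ShortExact :=
    { exact := ShortComplex.exact_cokernel _
      mono_f := ha
      epi_g := inferInstanceAs (Epi (cokernel.π _)) }
  haveI : Injective S.X₂ := hI
  obtain ⟨y, hy⟩ := Ext.covariant_sequence_exact₁ (S := S) _ hS x (Ext.eq_zero_of_injective _) rfl
  obtain ⟨k, rfl⟩ := (Ext.mk₀_bijective _ _).2 y
  let m : cokernel a ⟶ P.obj (cokernel i) := cokernel.desc a b hab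
  haveI : Mono m := (ShortComplex.exact_iff_mono_cokernel_desc (ShortComplex.mk a b hab)).1 hexab
  obtain ⟨z, hz⟩ := GaGmExt.exists_lift i π (cokernel.condition i) hM ((Over.pullback f).obj (Over.mk (𝟙 X))) hPic
    (HomShAcyclic.sec hT (k ≫ m))
  obtain ⟨k', hk'⟩ := HomShAcyclic.sec_surjective hT (F := P.obj (Injective.under (CGrpSh.pts K₀ (Red.Gm Y)))) z
  obtain rfl : k' ≫ S.g = k := by
    rw [← cancel_mono m, Category.assoc, show S.g ≫ m = b from cokernel.π_desc _ _ _]
    refine HomShAcyclic.sec_injective hT ((HomShAcyclic.sec_comp hT k' b).trans ?_)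
    rw [hk']
    exact hz
  rw [← hy, ← Ext.mk₀_comp_mk₀, Ext.comp_assoc_of_second_deg_zero, hS.comp_extClass]
  exact Ext.comp_zero (Ext.mk₀ k') _ _ _ _

end Groth.Agent.CAlgH3.PushGmH1
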