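import Mathlib

/-! Radicial ring homomorphisms are stable under base change. -/

universe u

open TensorProduct

namespace Groth.Agent.CAlgH3.Radicial

/-- At most one extension of every map to a field. -/
def Rad {A B : Type u} [CommRing A] [CommRing B] (φ : A →+* B) : Prop :=
  ∀ (K : Type u) [Field K] (g₁ g₂ : B →+* K), g₁.comp φ = g₂.comp φ → g₁ = g₂

theorem rad_of {R S : Type u} [CommRing R] [CommRing S] [Algebra R S]
    (hinj : Function.Injective (PrimeSpectrum.comap (algebraMap R S)))
    (hpi : ∀ (q : Ideal S) [q.IsPrime] (x : q.ResidueField), ∃ n : ℕ,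
      x ^ (ringExpChar (q.comap (algebraMap R S)).ResidueField) ^ n ∈
        Set.range (Ideal.ResidueField.map (q.comap (algebraMap R S)) q (algebraMap R S) rfl)) :
    Rad (algebraMap R S) := by
  intro K _ g₁ g₂ hg
  let q := RingHom.ker g₁
  have hq : q.IsPrime := RingHom.ker_isPrime g₁
  have hq' : RingHom.ker g₂ = q := by
    have h := hinj (a₁ := ⟨RingHom.ker g₂, RingHom.ker_isPrime g₂⟩) (a₂ := ⟨q, hq⟩)
      (PrimeSpectrum.ext (by change Ideal.comap _ (RingHom.ker g₂) = Ideal.comap _ (RingHom.ker g₁); rw [RingHom.comap_ker, RingHom.comap_ker, hg]))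
    exact congrArg PrimeSpectrum.asIdeal h
  have hu : ∀ g : S →+* K, RingHom.ker g = q → q.primeCompl ≤ (IsUnit.submonoid K).comap g :=
    fun g hgq s hs => isUnit_iff_ne_zero.2 fun h => hs (hgq ▸ h)
  let σ₁ := Ideal.ResidueField.lift q g₁ le_rfl (hu g₁ rfl)
  let σ₂ := Ideal.ResidueField.lift q g₂ hq'.ge (hu g₂ hq')
  let j := Ideal.ResidueField.map (q.comap (algebraMap R S)) q (algebraMap R S) rfl
  have hj : σ₁.comp j = σ₂.comp j := by
    refine Ideal.ResidueField.ringHom_ext (RingHom.ext fun r => ?_)
    simp only [RingHom.comp_apply]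
    rw [show j (algebraMap R _ r) = algebraMap S q.ResidueField (algebraMap R S r) by simp [j],
      Ideal.ResidueField.lift_algebraMap, Ideal.ResidueField.lift_algebraMap]
    exact RingHom.congr_fun hg r
  have hσ : σ₁ = σ₂ := RingHom.ext fun x => by
    obtain ⟨n, a, ha⟩ := hpi q x
    obtain ⟨c, hc⟩ := ExpChar.exists (q.comap (algebraMap R S)).ResidueField
    have hceq : ringExpChar (q.comap (algebraMap R S)).ResidueField = c := ringExpChar.eq _ c
    have : ExpChar K c := expChar_of_injective_ringHom (f := σ₁.comp j) (RingHom.injective _) c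
    rw [hceq] at ha
    apply (iterateFrobenius_inj K c n)
    simp only [iterateFrobenius_def]
    rw [← map_pow, ← map_pow, ← ha]
    exact RingHom.congr_fun hj a
  refine RingHom.ext fun s => ?_
  have := RingHom.congr_fun hσ (algebraMap S q.ResidueField s)
  rwa [Ideal.ResidueField.lift_algebraMap, Ideal.ResidueField.lift_algebraMap] at this

theorem rad_baseChange {R S R' : Type u} [CommRing R] [CommRing S] [CommRing R'] [Algebra R S] [Algebra R R']
    (h : Rad (algebraMap R S)) : Rad (algebraMap R' (R' ⊗[R] S)) := by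
  intro K _ g₁ g₂ hg
  have h2 := h K (g₁.comp (Algebra.TensorProduct.includeRight (R := R) (A := R') (B := S)).toRingHom)
    (g₂.comp (Algebra.TensorProduct.includeRight (R := R) (A := R') (B := S)).toRingHom) (RingHom.ext fun r => by
      have e : (Algebra.TensorProduct.includeRight (R := R) (A := R') (B := S)).toRingHom (algebraMap R S r) =
          algebraMap R' (R' ⊗[R] S) (algebraMap R R' r) := by
        change (1 : R') ⊗ₜ[R] algebraMap R S r = algebraMap R R' r ⊗ₜ[R] (1 : S)
        rw [Algebra.algebraMap_eq_smul_one, Algebra.algebraMap_eq_smul_one, TensorProduct.smul_tmul]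
      simp only [RingHom.comp_apply]
      rw [e]
      exact RingHom.congr_fun hg _)
  refine RingHom.ext fun x => ?_
  induction x using TensorProduct.induction_on with
  | zero => simp
  | tmul a s =>
    rw [show a ⊗ₜ[R] s = algebraMap R' (R' ⊗[R] S) a * (1 : R') ⊗ₜ[R] s by
      simp [Algebra.TensorProduct.algebraMap_apply], map_mul, map_mul]
    exact congr_arg₂ (· * ·) (RingHom.congr_fun hg a) (RingHom.congr_fun h2 s)
  | add u v hu hv => rw [map_add, map_add, hu, hv]

theorem injective_comap_of_rad {A B : Type u} [CommRing A] [CommRing B] {φ : A →+* B} (h : Rad φ) :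
    Function.Injective (PrimeSpectrum.comap φ) := by
  intro q₁ q₂ he
  let p := q₁.asIdeal.comap φ
  have h2 : p = q₂.asIdeal.comap φ := congrArg PrimeSpectrum.asIdeal he
  letI := (Ideal.ResidueField.map p q₁.asIdeal φ rfl).toAlgebra
  letI := (Ideal.ResidueField.map p q₂.asIdeal φ h2).toAlgebra
  obtain ⟨m, hm⟩ := Ideal.exists_maximal (q₁.asIdeal.ResidueField ⊗[p.ResidueField] q₂.asIdeal.ResidueField)
  letI := Ideal.Quotient.field m
  let i₁ : q₁.asIdeal.ResidueField →+* _ := (Ideal.Quotient.mk m).comp Algebra.TensorProduct.includeLeftRingHom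
  let i₂ : q₂.asIdeal.ResidueField →+* _ :=
    (Ideal.Quotient.mk m).comp (Algebra.TensorProduct.includeRight (R := p.ResidueField) (A := q₁.asIdeal.ResidueField)).toRingHom
  have heq := h _ (i₁.comp (algebraMap B _)) (i₂.comp (algebraMap B _)) (RingHom.ext fun a => by
    simp only [i₁, i₂, RingHom.comp_apply]
    congr 1
    have e₁ : algebraMap B q₁.asIdeal.ResidueField (φ a) = algebraMap p.ResidueField q₁.asIdeal.ResidueField (algebraMap A p.ResidueField a) := by
      rw [RingHom.algebraMap_toAlgebra]; simp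
    have e₂ : algebraMap B q₂.asIdeal.ResidueField (φ a) = algebraMap p.ResidueField q₂.asIdeal.ResidueField (algebraMap A p.ResidueField a) := by
      rw [RingHom.algebraMap_toAlgebra]; simp
    rw [e₁, e₂]
    change algebraMap p.ResidueField q₁.asIdeal.ResidueField _ ⊗ₜ[p.ResidueField] (1 : q₂.asIdeal.ResidueField) =
      (1 : q₁.asIdeal.ResidueField) ⊗ₜ[p.ResidueField] algebraMap p.ResidueField q₂.asIdeal.ResidueField _
    generalize algebraMap A p.ResidueField a = c
    rw [Algebra.algebraMap_eq_smul_one (R := p.ResidueField) (A := q₁.asIdeal.ResidueField),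
      Algebra.algebraMap_eq_smul_one (R := p.ResidueField) (A := q₂.asIdeal.ResidueField), TensorProduct.smul_tmul])
  ext b
  rw [← Ideal.algebraMap_residueField_eq_zero (I := q₁.asIdeal), ← Ideal.algebraMap_residueField_eq_zero (I := q₂.asIdeal),
    ← map_eq_zero i₁, ← map_eq_zero i₂]
  have := RingHom.congr_fun heq b
  simp only [RingHom.comp_apply] at this
  rw [this]

theorem purelyInseparable_of_rad {A B : Type u} [CommRing A] [CommRing B] {φ : A →+* B} (h : Rad φ)
    (q : Ideal B) [q.IsPrime] (x : q.ResidueField) :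
    ∃ n : ℕ, x ^ (ringExpChar (q.comap φ).ResidueField) ^ n ∈
      Set.range (Ideal.ResidueField.map (q.comap φ) q φ rfl) := by
  letI := (Ideal.ResidueField.map (q.comap φ) q φ rfl).toAlgebra
  have : IsPurelyInseparable (q.comap φ).ResidueField q.ResidueField := by
    rw [isPurelyInseparable_iff_subsingleton_emb]
    refine ⟨fun σ τ => AlgHom.coe_ringHom_injective (Ideal.ResidueField.ringHom_ext (h _ _ _ (RingHom.ext fun a => ?_)))⟩
    simp only [RingHom.comp_apply, RingHom.coe_coe]
    have e : algebraMap B q.ResidueField (φ a) = algebraMap (q.comap φ).ResidueField q.ResidueField (algebraMap A _ a) := by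
      rw [RingHom.algebraMap_toAlgebra]; simp
    rw [e]
    exact (σ.commutes _).trans (τ.commutes _).symm
  obtain ⟨c, hc⟩ := ExpChar.exists (q.comap φ).ResidueField
  rw [ringExpChar.eq _ c]
  obtain ⟨n, a, ha⟩ := IsPurelyInseparable.pow_mem (q.comap φ).ResidueField c x
  exact ⟨n, a, ha⟩

end Groth.Agent.CAlgH3.Radicial
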