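import Groth.Agent.GrLib.RegPolyOps
import Groth.Agent.GrLib.Hilbert
import Groth.Agent.CAlgH3.GrMinimal
import Mathlib

/-! Regularity is bounded by degree minus codimension for linear sections of finite length. -/

universe u

open MvPolynomial

namespace Groth.Agent.CAlgH3.RegDegree

theorem length_le_of_killed {k S : Type u} [Field k] [CommRing S] [Algebra k S] (ε : S →+* k)
    (hε : ∀ a : k, ε (algebraMap k S a) = a) : ∀ (c : ℕ) (N : Type u) [AddCommGroup N] [Module k N]
      [Module S N] [IsScalarTower k S N],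
      (∀ r ∈ RingHom.ker ε ^ c, ∀ x : N, r • x = 0) → Module.length k N ≤ Module.length S N := by
  intro c
  induction c with
  | zero =>
    intro N _ _ _ _ h
    have : Subsingleton N := subsingleton_of_forall_eq 0 fun x => by
      rw [← one_smul S x]; exact h 1 (by rw [pow_zero, Ideal.one_eq_top]; trivial) x
    simp
  | succ c ih =>
    intro N _ _ _ _ h
    let L : Submodule S N := RingHom.ker ε • ⊤
    have e1 := Module.length_eq_add_of_exact (R := S) L.subtype L.mkQ Subtype.val_injective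
      L.mkQ_surjective (LinearMap.exact_subtype_mkQ L)
    have e2 := Module.length_eq_add_of_exact (R := k) (L.subtype.restrictScalars k) (L.mkQ.restrictScalars k)
      Subtype.val_injective L.mkQ_surjective (LinearMap.exact_subtype_mkQ L)
    rw [e1, e2]
    refine add_le_add (ih L fun r hr x => Subtype.ext ?_) ?_
    · show r • (x : N) = 0
      refine Submodule.smul_induction_on x.2 (fun a ha y _ => ?_) fun y z hy hz => by rw [smul_add, hy, hz, add_zero]
      rw [smul_smul]
      exact h _ (by rw [pow_succ]; exact Ideal.mul_mem_mul hr ha) y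
    · have hs : ∀ (s : S) (q : N ⧸ L), s • q = ε s • q := by
        intro s q
        obtain ⟨y, rfl⟩ := Submodule.Quotient.mk_surjective _ q
        rw [← algebraMap_smul S (ε s) (Submodule.Quotient.mk y : N ⧸ L), ← Submodule.Quotient.mk_smul,
          ← Submodule.Quotient.mk_smul, Submodule.Quotient.eq, ← sub_smul]
        exact Submodule.smul_mem_smul (by rw [RingHom.mem_ker, map_sub, hε, sub_self]) trivial
      let φ : Submodule k (N ⧸ L) → Submodule S (N ⧸ L) := fun W =>
        { carrier := W, add_mem' := fun ha hb => W.add_mem ha hb, zero_mem' := W.zero_mem,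
          smul_mem' := fun s q hq => by rw [hs]; exact W.smul_mem _ hq }
      have hφ : StrictMono φ := fun W W' h => h
      have := Order.krullDim_le_of_strictMono φ hφ
      rw [← Module.coe_length, ← Module.coe_length] at this
      exact WithBot.coe_le_coe.1 this

variable {k : Type u} [Field k] {r : ℕ}

theorem monomial_split (s j : ℕ) (hj : j ≤ s) {N : Type u} [AddCommGroup N] [Module (MvPolynomial (Fin (r + 1)) k) N]
    (c : N) (h : ∀ p ∈ homogeneousSubmodule (Fin (r + 1)) k j, p • c = 0) :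
    ∀ p ∈ homogeneousSubmodule (Fin (r + 1)) k s, p • c = 0 := by
  intro p hp
  classical
  rw [p.as_sum, Finset.sum_smul]
  refine Finset.sum_eq_zero fun d hd => ?_
  have hdeg : d.degree = s := (hp.degree_eq_sum_deg_support hd).symm
  obtain ⟨d', hd', hle⟩ := exists_le_degree_eq d j (hdeg ▸ hj)
  have hsplit : monomial d (p.coeff d) = monomial (d - d') (p.coeff d) * monomial d' (1 : k) := by
    rw [monomial_mul, mul_one, tsub_add_cancel_of_le hle]
  rw [hsplit, mul_smul, h _ ?_, smul_zero]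
  rw [mem_homogeneousSubmodule]
  exact isHomogeneous_monomial _ hd'
where
  exists_le_degree_eq (d : Fin (r + 1) →₀ ℕ) (j : ℕ) (hj : j ≤ d.degree) :
      ∃ d', d'.degree = j ∧ d' ≤ d := by
    induction j with
    | zero => exact ⟨0, by simp, zero_le⟩
    | succ j ih =>
      obtain ⟨d', hd', hle⟩ := ih (by omega)
      obtain ⟨i, hi⟩ : ∃ i, d' i < d i := by
        by_contra! hcon
        have : d' = d := le_antisymm hle fun i => hcon i
        rw [this] at hd'; omega
      refine ⟨d' + Finsupp.single i 1, by simp [hd'], fun l => ?_⟩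
      by_cases hl : l = i
      · subst hl; simp only [Finsupp.add_apply, Finsupp.single_eq_same]; omega
      · simp [Finsupp.single_eq_of_ne hl, hle l]

theorem reg_le (M : Type u) [AddCommGroup M] [Module k M] [Module (MvPolynomial (Fin (r + 1)) k) M]
    [IsScalarTower k (MvPolynomial (Fin (r + 1)) k) M] [Module.Finite (MvPolynomial (Fin (r + 1)) k) M]
    (ℳ : ℤ → Submodule k M) [DirectSum.Decomposition ℳ] [SetLike.GradedSMul (GrSyz.stdGr k (Fin (r + 1))) ℳ]
    (π : MvPolynomial (Fin (r + 1)) k →ₗ[MvPolynomial (Fin (r + 1)) k] M) (hπ : Function.Surjective π)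
    (hπg : GrLC.IsGrHom (GrSyz.stdGr k (Fin (r + 1))) ℳ π)
    (hlin : ∀ x : MvPolynomial (Fin (r + 1)) k, x ∈ GrSyz.stdGr k (Fin (r + 1)) 1 → π x = 0 → x = 0)
    (ys : List (MvPolynomial (Fin (r + 1)) k)) (hys : ∀ y ∈ ys, y ∈ GrSyz.stdGr k (Fin (r + 1)) 1)
    (hreg : RingTheory.Sequence.IsWeaklyRegular M ys)
    (N : Type u) [AddCommGroup N] [Module k N] [Module (MvPolynomial (Fin (r + 1)) k) N]
    [IsScalarTower k (MvPolynomial (Fin (r + 1)) k) N]
    (𝒩 : ℤ → Submodule k N) [DirectSum.Decomposition 𝒩] [SetLike.GradedSMul (GrSyz.stdGr k (Fin (r + 1))) 𝒩]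
    (σ : M →ₗ[MvPolynomial (Fin (r + 1)) k] N) (hσ : Function.Surjective σ) (hσg : GrLC.IsGrHom ℳ 𝒩 σ)
    (hker : LinearMap.ker σ = Ideal.ofList ys • (⊤ : Submodule (MvPolynomial (Fin (r + 1)) k) M))
    (ℓ : ℕ) (hℓ : Module.length (MvPolynomial (Fin (r + 1)) k) N = (ℓ : ℕ∞)) :
    GrSyz.reg (GrSyz.stdGr k (Fin (r + 1))) ℳ (GrSyz.irrel (GrSyz.stdGr k (Fin (r + 1)))).toIdeal +
        ((((r : ℤ) + 1 - (ys.length : ℤ) : ℤ) : WithTop ℤ) : WithBot (WithTop ℤ)) ≤
      (((ℓ : ℤ) : WithTop ℤ) : WithBot (WithTop ℤ)) := by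
  classical
  haveI : Module.Finite (MvPolynomial (Fin (r + 1)) k) N := Module.Finite.of_surjective σ hσ
  have hfl : IsFiniteLength (MvPolynomial (Fin (r + 1)) k) N :=
    Module.length_ne_top_iff.1 (by rw [hℓ]; exact ENat.natCast_ne_top ℓ)
  set d : ℤ := (ℓ : ℤ) - ((r : ℤ) + 1 - ys.length) with hd
  suffices hvan : ∀ n : ℤ, d < n → ∀ x ∈ 𝒩 n, x = 0 by
    have hred : GrSyz.reg (GrSyz.stdGr k (Fin (r + 1))) ℳ (GrSyz.irrel (GrSyz.stdGr k (Fin (r + 1)))).toIdeal ≤
        ((d : WithTop ℤ) : WithBot (WithTop ℤ)) := by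
      rw [GrLib.reg_le_iff_isVanLE, GrLib.isVanLE_regularSeq (𝒜 := GrSyz.stdGr k (Fin (r + 1))) (ys := ys) (hys := hys)
        (GrSyz.irrel (GrSyz.stdGr k (Fin (r + 1)))) (fun y hy => Ideal.subset_span ⟨1, one_pos, hys y hy⟩) hreg ys.length le_rfl d]
      letI := GrLib.qDecomp ℳ (GrLib.isHomogeneous_ofList_smul (ℳ := ℳ) ys hys ys.length)
      let e := (Submodule.quotEquivOfEq (Ideal.ofList (ys.take ys.length) • (⊤ : Submodule _ M)) (LinearMap.ker σ)
        (by rw [hker, List.take_length])).trans (σ.quotKerEquivOfSurjective hσ)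
      have he : GrLC.IsGrHom (GrLib.qGr ℳ (Ideal.ofList (ys.take ys.length) • (⊤ : Submodule _ M))) 𝒩 e.toLinearMap := by
        rintro g _ ⟨p, hp, rfl⟩
        exact hσg g p hp
      rw [GrLib.isVanLE_equiv_iff _ e he, GrLib.isVanLE_finiteLength_iff hfl, GrLib.endDeg_le_int]
      intro n hn x hx
      exact hvan n hn x hx
    refine (add_le_add hred le_rfl).trans (le_of_eq ?_)
    rw [← WithBot.coe_add, ← WithTop.coe_add, hd, sub_add_cancel]
  -- the cyclic structure of `N`
  let c : N := σ (π 1)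
  have hc : ∀ p : MvPolynomial (Fin (r + 1)) k, σ (π p) = p • c := fun p => by
    rw [← map_smul, ← map_smul, smul_eq_mul, mul_one]
  have hpc : ∀ (n : ℤ) p, p ∈ GrSyz.stdGr k (Fin (r + 1)) n → p • c ∈ 𝒩 n := fun n p hp => by
    rw [← hc]; exact hσg n _ (hπg n _ hp)
  have hrep : ∀ n, ∀ x ∈ 𝒩 n, ∃ p ∈ GrSyz.stdGr k (Fin (r + 1)) n, p • c = x := by
    intro n x hx
    obtain ⟨p, hp⟩ := (hσ.comp hπ) x
    refine ⟨GrLib.proj (GrSyz.stdGr k (Fin (r + 1))) n p, GrLib.proj_mem _ n p, ?_⟩
    rw [← hc, ← GrLib.proj_map hπg, ← GrLib.proj_map hσg, show σ (π p) = x from hp, GrLib.proj_of_mem hx]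
  intro n hn x hx
  by_contra hx0
  obtain ⟨p, hpn, hpx⟩ := hrep n x hx
  have hn0 : 0 ≤ n := not_lt.1 fun h => hx0 (by rw [← hpx, GrLib.stdGr_neg k _ n h p hpn, zero_smul])
  obtain ⟨s, rfl⟩ : ∃ s : ℕ, n = (s : ℤ) := ⟨n.toNat, (Int.toNat_of_nonneg hn0).symm⟩
  have hne : ∀ j ≤ s, ∃ y ∈ 𝒩 (j : ℤ), y ≠ 0 := by
    intro j hj
    by_contra! hcon
    rw [GrLib.stdGr_natCast] at hpn
    exact hx0 (hpx ▸ monomial_split s j hj c (fun q hq => hcon _ (hpc _ q (by rw [GrLib.stdGr_natCast]; exact hq))) p hpn)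
  -- finite dimension
  have hart : IsArtinian (MvPolynomial (Fin (r + 1)) k) N := (isFiniteLength_iff_isNoetherian_isArtinian.1 hfl).2
  obtain ⟨U, hU⟩ := GrLib.exists_bdd_of_isArtinian (ℳ := 𝒩) (GrLib.stdGr_neg k (r + 1))
  obtain ⟨e₀, he₀⟩ := GrLib.isTorsion_of_bdd (GrSyz.irrel (GrSyz.stdGr k (Fin (r + 1)))) (GrLib.stdGr_neg k (r + 1))
    (GrLib.irrel_eq_deg_one k (r + 1)) U hU c
  have hlen : Module.length k N ≤ (ℓ : ℕ∞) := by
    rw [← hℓ]
    refine length_le_of_killed (constantCoeff : MvPolynomial (Fin (r + 1)) k →+* k) (fun a => constantCoeff_C _ a) e₀ N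
      fun q hq y => ?_
    obtain ⟨w, rfl⟩ := (hσ.comp hπ) y
    show q • σ (π w) = 0
    rw [hc, smul_comm]
    have hker' : RingHom.ker (constantCoeff : MvPolynomial (Fin (r + 1)) k →+* k) ≤
        (GrSyz.irrel (GrSyz.stdGr k (Fin (r + 1)))).toIdeal := by
      intro f hf
      rw [GrLib.irrel_eq, ← Set.image_univ, mem_ideal_span_X_image]
      intro d hd
      by_contra! h
      rw [RingHom.mem_ker, constantCoeff_eq] at hf
      exact mem_support_iff.1 hd ((Finsupp.ext fun i => h i (Set.mem_univ i) : d = 0) ▸ hf)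
    rw [he₀ q (Ideal.pow_right_mono hker' _ hq), smul_zero]
  haveI : Module.Finite k N := by
    have : IsFiniteLength k N := Module.length_ne_top_iff.1 (ne_top_of_le_ne_top (ENat.natCast_ne_top ℓ) hlen)
    haveI := (isFiniteLength_iff_isNoetherian_isArtinian.1 this).1
    infer_instance
  rw [Module.length_eq_finrank, Nat.cast_le] at hlen
  -- a degree-one bound
  let L₁ : GrSyz.stdGr k (Fin (r + 1)) ((1 : ℕ) : ℤ) →ₗ[k] 𝒩 ((1 : ℕ) : ℤ) :=
    { toFun := fun q => ⟨(q : MvPolynomial (Fin (r + 1)) k) • c, hpc _ _ q.2⟩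
      map_add' := fun a b => Subtype.ext (add_smul _ _ _)
      map_smul' := fun a b => Subtype.ext (smul_assoc a (b : MvPolynomial (Fin (r + 1)) k) c) }
  haveI := GrLib.finite_stdGr (k := k) (r := r) ((1 : ℕ) : ℤ)
  have hL₁ : Function.Surjective L₁ := fun y => by
    obtain ⟨q, hq, hqy⟩ := hrep _ _ y.2
    exact ⟨⟨q, hq⟩, Subtype.ext hqy⟩
  have hkerL : Module.finrank k (LinearMap.ker L₁) ≤ ys.length := by
    have hle : (LinearMap.ker L₁).map (GrSyz.stdGr k (Fin (r + 1)) ((1 : ℕ) : ℤ)).subtype ≤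
        Submodule.span k (↑ys.toFinset : Set (MvPolynomial (Fin (r + 1)) k)) := by
      rintro _ ⟨q, hq, rfl⟩
      have hq0 : σ (π q) = 0 := by rw [hc]; exact congrArg Subtype.val hq
      have hmem : π q ∈ Ideal.ofList ys • (⊤ : Submodule (MvPolynomial (Fin (r + 1)) k) M) := by rw [← hker]; exact LinearMap.mem_ker.2 hq0
      -- degree-one part of the combination
      have key : ∀ z ∈ Ideal.ofList ys • (⊤ : Submodule (MvPolynomial (Fin (r + 1)) k) M),
          ∃ q' ∈ Submodule.span k (↑ys.toFinset : Set (MvPolynomial (Fin (r + 1)) k)), GrLib.proj ℳ ((1 : ℕ) : ℤ) z = π q' := by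
        intro z hz
        refine Submodule.smul_induction_on hz (fun a ha y _ => ?_) ?_
        · induction ha using Submodule.span_induction generalizing y with
          | mem a ha =>
            have h1 := GrLib.proj_smul (ℳ := ℳ) (hys a ha) 0 y
            rw [add_zero] at h1
            obtain ⟨w, hw⟩ := hπ y
            have h2 : GrLib.proj ℳ 0 y = π (GrLib.proj (GrSyz.stdGr k (Fin (r + 1))) 0 w) := by
              rw [← hw, GrLib.proj_map hπg]
            obtain ⟨u, hu⟩ : ∃ u : k, GrLib.proj (GrSyz.stdGr k (Fin (r + 1))) 0 w = algebraMap k _ u := by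
              have h3 := GrLib.proj_mem (GrSyz.stdGr k (Fin (r + 1))) 0 w
              rw [show (0 : ℤ) = ((0 : ℕ) : ℤ) from rfl, GrLib.stdGr_natCast, mem_homogeneousSubmodule] at h3
              exact ⟨_, (MvPolynomial.totalDegree_eq_zero_iff_eq_C.1 (Nat.le_zero.1 h3.totalDegree_le))⟩
            refine ⟨u • a, Submodule.smul_mem _ u (Submodule.subset_span (List.mem_toFinset.2 ha)), ?_⟩
            rw [show ((1 : ℕ) : ℤ) = 1 from rfl, h1, h2, hu, ← map_smul, smul_eq_mul, mul_comm, ← Algebra.smul_def]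
          | zero => exact ⟨0, zero_mem _, by rw [zero_smul, map_zero, map_zero]⟩
          | add a b _ _ ha hb =>
            obtain ⟨qa, hqa, ea⟩ := ha y trivial
            obtain ⟨qb, hqb, eb⟩ := hb y trivial
            exact ⟨qa + qb, add_mem hqa hqb, by rw [add_smul, map_add, map_add, ea, eb]⟩
          | smul t a _ ha =>
            obtain ⟨q', hq', e'⟩ := ha (t • y) trivial
            exact ⟨q', hq', by rw [← e', smul_eq_mul, mul_smul, smul_comm]⟩
        · rintro z z' ⟨qa, hqa, ea⟩ ⟨qb, hqb, eb⟩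
          exact ⟨qa + qb, add_mem hqa hqb, by rw [map_add, map_add, ea, eb]⟩
      obtain ⟨q', hq', e'⟩ := key _ hmem
      rw [GrLib.proj_of_mem (hπg _ _ q.2)] at e'
      have hq'1 : q' ∈ GrSyz.stdGr k (Fin (r + 1)) 1 :=
        (Submodule.span_le.2 fun a ha => hys a (List.mem_toFinset.1 ha)) hq'
      have := hlin ((q : MvPolynomial (Fin (r + 1)) k) - q') (sub_mem q.2 hq'1) (by rw [map_sub, e', sub_self])
      show (q : MvPolynomial (Fin (r + 1)) k) ∈ _
      rwa [sub_eq_zero.1 this]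
    haveI : Module.Finite k (Submodule.span k (↑ys.toFinset : Set (MvPolynomial (Fin (r + 1)) k))) :=
      Module.Finite.span_of_finite k (Finset.finite_toSet _)
    rw [← Submodule.finrank_map_subtype_eq]
    refine (Submodule.finrank_mono hle).trans ((finrank_span_finset_le_card _).trans ?_)
    exact ys.toFinset_card_le
  have hdim1 : (r : ℤ) + 1 - ys.length ≤ Module.finrank k (𝒩 ((1 : ℕ) : ℤ)) := by
    have h1 := LinearMap.finrank_range_add_finrank_ker L₁
    rw [LinearMap.range_eq_top.2 hL₁, finrank_top] at h1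
    have h2 : (Module.finrank k (GrSyz.stdGr k (Fin (r + 1)) ((1 : ℕ) : ℤ)) : ℤ) = r + 1 := by
      rw [GrLib.finrank_stdGr, GrLib.hilb, if_pos (Int.natCast_nonneg _), Int.toNat_natCast, Nat.choose_succ_self_right]
      push_cast; ring
    omega
  let T := max s 1
  let A : (∀ j : Fin (T + 1), 𝒩 ((j : ℕ) : ℤ)) →ₗ[k] N :=
    ∑ j : Fin (T + 1), (𝒩 ((j : ℕ) : ℤ)).subtype ∘ₗ LinearMap.proj j
  have hA : Function.Injective A := by
    rw [injective_iff_map_eq_zero]
    intro v hv
    funext j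
    have h := congrArg (GrLib.proj 𝒩 ((j : ℕ) : ℤ)) hv
    simp only [A, LinearMap.sum_apply, LinearMap.comp_apply, LinearMap.proj_apply, Submodule.subtype_apply, map_sum, map_zero] at h
    rw [Finset.sum_eq_single j] at h
    · rw [GrLib.proj_of_mem (v j).2] at h
      exact Subtype.ext h
    · intro i _ hi
      exact GrLib.proj_of_mem_ne (v i).2 (by exact_mod_cast Fin.val_ne_of_ne hi)
    · intro h'; exact absurd (Finset.mem_univ j) h'
  have hsum := LinearMap.finrank_le_finrank_of_injective hA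
  rw [Module.finrank_pi_fintype] at hsum
  have h1T : 1 < T + 1 := Nat.lt_succ_of_le (le_max_right _ _)
  rw [← Finset.add_sum_erase _ _ (Finset.mem_univ (⟨1, h1T⟩ : Fin (T + 1)))] at hsum
  have hrest : s ≤ ∑ j ∈ Finset.univ.erase (⟨1, h1T⟩ : Fin (T + 1)), Module.finrank k (𝒩 ((j : ℕ) : ℤ)) := by
    have hsub : (Finset.univ.filter fun j : Fin (T + 1) => (j : ℕ) ≤ s ∧ (j : ℕ) ≠ 1) ⊆
        Finset.univ.erase (⟨1, h1T⟩ : Fin (T + 1)) := fun j hj => by
      simp only [Finset.mem_filter, Finset.mem_univ, true_and] at hj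
      simp only [Finset.mem_erase, Finset.mem_univ, and_true, ne_eq, Fin.ext_iff]
      exact hj.2
    refine le_trans ?_ (Finset.sum_le_sum_of_subset hsub)
    refine le_trans ?_ (Finset.card_nsmul_le_sum _ _ 1 fun j hj => ?_)
    · rw [nsmul_eq_mul, mul_one, Nat.cast_id]
      have hsT : s ≤ T := le_max_left _ _
      let f : Fin s → Fin (T + 1) := fun i => if (i : ℕ) = 0 then 0 else ⟨i + 1, by omega⟩
      calc s = ((Finset.univ : Finset (Fin s)).image f).card := by
            rw [Finset.card_image_of_injective _ (fun a b hab => by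
              simp only [f] at hab
              split_ifs at hab with ha hb hb <;> simp [Fin.ext_iff] at hab ⊢ <;> omega), Finset.card_univ, Fintype.card_fin]
        _ ≤ _ := Finset.card_le_card fun j hj => by
            obtain ⟨i, -, rfl⟩ := Finset.mem_image.1 hj
            simp only [Finset.mem_filter, Finset.mem_univ, true_and, f]
            split_ifs with hi
            · simp
            · exact ⟨by show (i : ℕ) + 1 ≤ s; omega, by show (i : ℕ) + 1 ≠ 1; omega⟩
    · simp only [Finset.mem_filter, Finset.mem_univ, true_and] at hj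
      obtain ⟨y, hy, hy0⟩ := hne j hj.1
      haveI : Nontrivial (𝒩 ((j : ℕ) : ℤ)) := nontrivial_of_ne ⟨y, hy⟩ 0 fun h => hy0 (congrArg Subtype.val h)
      exact Module.finrank_pos
  dsimp only at hsum
  omega

end Groth.Agent.CAlgH3.RegDegree
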