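import Groth.Agent.CAlgH3.RelRegularFlatAlg
import Groth.Agent.CAlgH3.RelQuasiRegular
import Groth.Agent.EGA43.FlatDescent.SchemeOpen
import Groth.Agent.EGA43.InjFibre.Scheme

/-! Relatively `H₁`-regular immersions into schemes of finite presentation. -/

set_option autoImplicit false
set_option backward.isDefEq.respectTransparency.types false
set_option linter.style.haveILetI false
universe u

open CategoryTheory CategoryTheory.Limits AlgebraicGeometry TopologicalSpace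

namespace Groth.Agent.CAlgH3.RelH1Regular

theorem flat_stalkMap {Z X S : Scheme.{u}} (f : X ⟶ S) [LocallyOfFinitePresentation f] (i : Z ⟶ X)
    (hi : RegImm.IsRelRegularImmersion RegImm.Kind.h1 f i) (z : Z) : (f.stalkMap (i z)).hom.Flat := by
  obtain ⟨⟨himm, hreg⟩, hflat⟩ := hi
  haveI := hflat
  obtain ⟨⟨U, hU⟩, hz, hc, rs, hrs, hker⟩ := hreg z
  haveI := hc
  obtain ⟨V, hV, hxV, -⟩ := exists_isAffineOpen_mem_and_subset (x := f (i z)) (U := (⊤ : S.Opens)) trivial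
  obtain ⟨U₁, hU₁, hxU₁, hle⟩ := exists_isAffineOpen_mem_and_subset (x := i z) (U := U ⊓ f ⁻¹ᵁ V) ⟨hz, hxV⟩
  have hleU : U₁ ≤ U := fun y hy => (hle hy).1
  have e : U₁ ≤ f ⁻¹ᵁ V := fun y hy => (hle hy).2
  obtain ⟨hc₁, hker₁⟩ := CAlgH.KoszulChart.restrict i hU hU₁ hleU
  haveI := hc₁
  rw [hker, Ideal.map_ofList] at hker₁
  have hh1 : CAlgX.IsH1Regular (rs.map (X.presheaf.map (homOfLE hleU).op).hom).get := by
    have hfl := CAlgH.KoszulChart.flat_restrict hU hU₁ hleU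
    algebraize [(X.presheaf.map (homOfLE hleU).op).hom]
    rw [SDiv28.RegImmKinds.get_map, SDiv28.RegImmKinds.h1_cast]
    exact SDiv28.RegSeq.isH1Regular_map (S := Γ(X, U₁)) hrs
  have hfl := RelRegularBC.flat_quotient f i hU₁ hV e
  rw [hker₁, ← CAlgH.KoszulRegular.span_range_get] at hfl
  letI := (f.appLE V U₁ e).hom.toAlgebra
  haveI : Algebra.FinitePresentation Γ(S, V) Γ(X, U₁) := f.finitePresentation_appLE hV hU₁ e
  haveI := hfl
  refine CAlgH.TransversalImmersion.flat_stalkMap_of_chart f hV hU₁ e hxU₁ ?_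
  let q := (hU₁.primeIdealOf ⟨i z, hxU₁⟩).asIdeal
  have hmem : ∀ j, (rs.map (X.presheaf.map (homOfLE hleU).op).hom).get j ∈ q := by
    intro j
    by_contra hnot
    have hbo : i z ∈ X.basicOpen ((rs.map (X.presheaf.map (homOfLE hleU).op).hom).get j) :=
      (EGA43.InjFibre.mem_basicOpen_iff_notMem hU₁ hxU₁ _).2 hnot
    have h0 : i.app U₁ ((rs.map (X.presheaf.map (homOfLE hleU).op).hom).get j) = 0 :=
      (hker₁.ge (Ideal.subset_span (List.get_mem _ j)) :)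
    have hbo' : z ∈ i ⁻¹ᵁ X.basicOpen ((rs.map (X.presheaf.map (homOfLE hleU).op).hom).get j) := hbo
    rw [Scheme.preimage_basicOpen, h0] at hbo'
    exact (Z.mem_basicOpen _ z hxU₁).1 hbo' |>.ne_zero (map_zero _)
  exact RelRegularFlat.flat_atPrime (A := Γ(S, V)) hh1 q hmem

theorem regular_of_flat {Z X S : Scheme.{u}} (f : X ⟶ S) [LocallyOfFinitePresentation f]
    (i : Z ⟶ X) (hi : RegImm.IsRelRegularImmersion RegImm.Kind.quasi f i)
    (hfl : ∀ z : Z, (f.stalkMap (i z)).hom.Flat) :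
    RegImm.IsRegularImmersion RegImm.Kind.regular i := by
  obtain ⟨hreg, hflat⟩ := hi
  haveI := hflat
  let W : X.Opens := ⟨_, EGA43.FlatDescent.isOpen_flat_stalkMap f⟩
  refine ⟨hreg.1, fun z => ?_⟩
  obtain ⟨⟨U₀, hU₀⟩, hzU₀, hc, rs, -, hker⟩ := hreg.2 z
  haveI := hc
  obtain ⟨U, hU, hzU, hle⟩ := exists_isAffineOpen_mem_and_subset (x := i z) (U := U₀ ⊓ W) ⟨hzU₀, hfl z⟩
  have hle₀ : U ≤ U₀ := fun y hy => (hle hy).1
  obtain ⟨hcU, hkerU⟩ := CAlgH.KoszulChart.restrict i hU₀ hU hle₀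
  haveI := hcU
  let u := i ∣_ U
  let g := U.ι ≫ f
  haveI : Flat g := by
    rw [Flat.iff_flat_stalkMap]
    intro y
    rw [Scheme.Hom.stalkMap_comp, ← Scheme.Opens.stalkIso_inv]
    exact (RingHom.Flat.respectsIso.cancel_right_isIso (f.stalkMap y.1) (U.stalkIso y).inv).mpr (hle y.2).2
  haveI hfp : LocallyOfFinitePresentation u := by
    refine RelQuasiRegular.lfp_morphismRestrict i hU ?_
    rw [hkerU, hker]
    exact Ideal.FG.map (by classical exact ⟨rs.toFinset, congrArg Ideal.span (List.coe_toFinset rs)⟩) _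
  haveI : LocallyOfFinitePresentation (u ≫ g) := inferInstance
  have hug : u ≫ g = (i ⁻¹ᵁ U).ι ≫ i ≫ f := by
    simp only [u, g, morphismRestrict_ι_assoc]
  haveI : Flat (u ≫ g) := by rw [hug]; infer_instance
  have hu : RegImm.IsRegularImmersion RegImm.Kind.quasi u :=
    SDiv28.RegImmKinds.baseChange_flat .quasi i U.ι u (i ⁻¹ᵁ U).ι (isPullback_morphismRestrict i U).flip hreg
  obtain ⟨V, hzV, hV⟩ := RelQuasiRegular.exists_regular_nhd u g
    (fun s => (RelRegularBC.main g u .quasi (Or.inr rfl) ⟨hu, inferInstance⟩ (S.fromSpecResidueField s)).1)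
    ⟨z, hzU⟩
  obtain ⟨U₂, hU₂, hzU₂, ts, hts, hk⟩ := CAlgH.CIImmersion.exists_regular_chart u _ V hzV hV
  have hD : IsAffineOpen (U.ι ''ᵁ U₂) := hU₂.image_of_isOpenImmersion U.ι
  refine ⟨⟨U.ι ''ᵁ U₂, hD⟩, ⟨_, hzU₂, ?_⟩, (CAlgH.KoszulChart.restrict i hU hD (U.ι_image_le U₂)).1, ts, hts, ?_⟩
  · exact congrArg (fun φ : (i ⁻¹ᵁ U).toScheme ⟶ X => φ ⟨z, hzU⟩) (morphismRestrict_ι i U)
  · exact (SDiv28.RegSpread.ker_restrict_app i U U₂).symm.trans hk

theorem quasi_of_h1 {Z X S : Scheme.{u}} {f : X ⟶ S} {i : Z ⟶ X}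
    (hi : RegImm.IsRelRegularImmersion RegImm.Kind.h1 f i) :
    RegImm.IsRelRegularImmersion RegImm.Kind.quasi f i :=
  ⟨(SDiv28.RegImmKinds.implications i).2.2 hi.1, hi.2⟩

theorem main {Z X S : Scheme.{u}} (f : X ⟶ S) [LocallyOfFinitePresentation f] (i : Z ⟶ X)
    (hi : RegImm.IsRelRegularImmersion RegImm.Kind.h1 f i) :
    (∃ U : X.Opens, Set.range (fun z : ↥Z => i z) ⊆ (U : Set ↥X) ∧ Flat (U.ι ≫ f)) ∧
      RegImm.IsRegularImmersion RegImm.Kind.regular i ∧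
      ∀ (S' : Scheme.{u}) (g : S' ⟶ S), RegImm.IsRegularImmersion RegImm.Kind.regular (pullback.snd i (pullback.fst f g)) := by
  refine ⟨⟨⟨_, EGA43.FlatDescent.isOpen_flat_stalkMap f⟩, ?_, ?_⟩,
    regular_of_flat f i (quasi_of_h1 hi) (flat_stalkMap f i hi), fun S' g => ?_⟩
  · rintro _ ⟨z, rfl⟩
    exact flat_stalkMap f i hi z
  · rw [Flat.iff_flat_stalkMap]
    intro y
    rw [Scheme.Hom.stalkMap_comp, ← Scheme.Opens.stalkIso_inv]
    exact (RingHom.Flat.respectsIso.cancel_right_isIso (f.stalkMap y.1) _).mpr y.2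
  · haveI : LocallyOfFinitePresentation (pullback.snd f g) :=
      MorphismProperty.pullback_snd (P := @LocallyOfFinitePresentation) _ _ ‹_›
    have h' := RelRegularBC.main f i .h1 (Or.inl rfl) hi g
    exact regular_of_flat (pullback.snd f g) _ (quasi_of_h1 h') (flat_stalkMap (pullback.snd f g) _ h')

end Groth.Agent.CAlgH3.RelH1Regular
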