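import Groth.Agent.CAlgH.TransversalBackward
import Groth.Agent.SDiv28.RegImmKinds
import Groth.Agent.Nrm16Lib.RegImm

/-! Fibrewise quasi-regular immersions of flat schemes are relatively quasi-regular. -/

set_option autoImplicit false
set_option backward.isDefEq.respectTransparency.types false
set_option linter.style.haveILetI false
universe u

open CategoryTheory CategoryTheory.Limits AlgebraicGeometry TopologicalSpace

namespace Groth.Agent.CAlgH3.RelQuasiFibre

theorem isRegularImmersionAt_quasi_of_mor2 {Z X : Scheme.{u}} (i : Z ⟶ X) [IsClosedImmersion i] (z : Z)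
    (h : ∃ V : X.Opens, i z ∈ V ∧ Mor2.IsRegularClosedImmersion (i ∣_ V)) :
    RegImm.IsRegularImmersionAt RegImm.Kind.quasi i z := by
  obtain ⟨U, hU, hzU, -, rs, hrs, hker⟩ := CAlgH.TransversalImmersion.exists_adapted_chart i z ⊤ trivial h
  exact ⟨⟨U, hU⟩, hzU, IsZariskiLocalAtTarget.restrict ‹IsClosedImmersion i› U, rs,
    Nrm16Lib.isQuasiRegular_get_of_isWeaklyRegular hrs, hker⟩

theorem main {X S : Scheme.{u}} (φ : X ⟶ S) [Flat φ] [LocallyOfFinitePresentation φ]
    (𝓘 : X.IdealSheafData) [Flat (𝓘.subschemeι ≫ φ)] [LocallyOfFinitePresentation (𝓘.subschemeι ≫ φ)]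
    (hfib : ∀ s : ↥S, RegImm.IsRegularImmersion RegImm.Kind.quasi (pullback.snd 𝓘.subschemeι (φ.fiberι s))) :
    RegImm.IsRelRegularImmersion RegImm.Kind.quasi φ 𝓘.subschemeι := by
  refine ⟨⟨inferInstance, fun y => ?_⟩, inferInstance⟩
  let u := 𝓘.subschemeι
  obtain ⟨s, z, rfl⟩ : ∃ (s : S) (z : (u ≫ φ).fiber s), (u ≫ φ).fiberι s z = y :=
    ⟨(u ≫ φ) y, (u ≫ φ).asFiber y, Scheme.Hom.fiberι_asFiber (u ≫ φ) y⟩
  refine isRegularImmersionAt_quasi_of_mor2 u _ ?_
  haveI := CAlgH.TransversalImmersion.isLocallyNoetherian_fiber φ s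
  haveI := CAlgH.TransversalImmersion.isClosedImmersion_fiberMap u φ s
  have hp := CAlgH.TransversalImmersion.isPullback_fiberMap u φ s
  have hsq : IsPullback hp.isoPullback.hom (CInt.fiberMap u φ s) (pullback.snd u (φ.fiberι s)) (𝟙 _) :=
    IsPullback.of_horiz_isIso ⟨by rw [IsPullback.isoPullback_hom_snd, Category.comp_id]⟩
  have hq : RegImm.IsRegularImmersion RegImm.Kind.quasi (CInt.fiberMap u φ s) :=
    SDiv28.RegImmKinds.baseChange_flat .quasi _ _ _ _ hsq (hfib s)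
  obtain ⟨⟨Q, hQ⟩, hzQ, -, ts, hts, hk⟩ := (Nrm16Lib.isRegularImmersion_regular_of_quasi hq).2 z
  have hreg : CInt.IsRegularIdeal (RingHom.ker ((CInt.fiberMap u φ s).stalkMap z).hom) :=
    (CAlgH.RegImmLocal.nhd_iff _ z).1 ⟨Q, hzQ, CAlgH.CIImmersion.isRegularClosedImmersion_restrict _ hQ ts hts hk⟩
  exact CAlgH.TransversalImmersion.regular_of_fibre u φ s z ⊤ trivial
    (fun y' _ => Flat.stalkMap (u ≫ φ) y') (Flat.stalkMap φ _) hreg

end Groth.Agent.CAlgH3.RelQuasiFibre
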