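import Groth.Agent.EGA43.FlatDescent.Main
import Groth.Agent.SDiv28.RegSeq
import Groth.Agent.SDiv28.FlatQuasi
import Groth.Agent.Props12.FlatOver
import Mathlib.RingTheory.TensorProduct.DirectLimitFG

/-! Algebras cut by a relatively `H₁`-regular sequence are flat along it. -/

set_option autoImplicit false
set_option backward.isDefEq.respectTransparency false
set_option linter.style.haveILetI false
universe u

open TensorProduct Groth.Agent.EGA43.FlatDescent RingTheory.Sequence

namespace Groth.Agent.CAlgH3.RelRegularFlat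

variable {R P : Type u} [CommRing R] [CommRing P] [Algebra R P] {c : ℕ} (f : Fin c → P)

/-- The sequence at a stage. -/
def seq (B : Type u) [CommRing B] [Algebra R B] (i : Fin c) : B ⊗[R] P := (1 : B) ⊗ₜ f i

/-- Change of stage. -/
noncomputable def tr {B C : Type u} [CommRing B] [Algebra R B] [CommRing C] [Algebra R C] (φ : B →ₐ[R] C) :
    B ⊗[R] P →ₐ[R] C ⊗[R] P :=
  Algebra.TensorProduct.map φ (AlgHom.id R P)

theorem tr_seq {B C : Type u} [CommRing B] [Algebra R B] [CommRing C] [Algebra R C] (φ : B →ₐ[R] C) (i : Fin c) :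
    tr φ (seq f B i) = seq f C i := by
  simp [tr, seq]

theorem flat_quotient {B : Type u} [CommRing B] [Algebra R B]
    [Module.Flat B (B ⊗[R] (P ⧸ Ideal.span (Set.range f)))] :
    Module.Flat B ((B ⊗[R] P) ⧸ Ideal.span (Set.range (seq (R := R) f B))) := by
  rw [show Ideal.span (Set.range (seq (R := R) f B)) =
      (Ideal.span (Set.range f)).map (Algebra.TensorProduct.includeRight : P →ₐ[R] B ⊗[R] P) by
    rw [Ideal.map_span, ← Set.range_comp]; rfl]
  exact Module.Flat.of_linearEquiv
    (Algebra.TensorProduct.tensorQuotientEquiv (R := R) B P B (Ideal.span (Set.range f))).symm.toLinearEquiv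

/-- With flat quotient, relations at a later stage come from relations at an earlier one. -/
theorem relations_mem_span {B C : Type u} [CommRing B] [Algebra R B] [CommRing C] [Algebra R C] (φ : B →ₐ[R] C)
    [Module.Flat B ((B ⊗[R] P) ⧸ Ideal.span (Set.range (seq (R := R) f B)))]
    {a : Fin c → C ⊗[R] P} (ha : ∑ i, a i * seq f C i = 0) :
    a ∈ Submodule.span (C ⊗[R] P)
      ((fun v i => tr φ (v i)) '' {v : Fin c → B ⊗[R] P | ∑ i, v i * seq f B i = 0}) := by
  classical
  letI : Algebra B C := φ.toRingHom.toAlgebra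
  haveI : IsScalarTower R B C := IsScalarTower.of_algebraMap_eq fun r => (φ.commutes r).symm
  let SB := B ⊗[R] P
  let L₀ : (Fin c → SB) →ₗ[SB] SB := Fintype.linearCombination SB (seq f B)
  let J := LinearMap.range L₀
  let L : (Fin c → SB) →ₗ[B] ↥(J.restrictScalars B) := L₀.rangeRestrict.restrictScalars B
  have hL : Function.Surjective L := L₀.surjective_rangeRestrict
  let jJ : ↥(J.restrictScalars B) →ₗ[B] SB := (J.restrictScalars B).subtype
  let qJ : SB →ₗ[B] SB ⧸ Ideal.span (Set.range (seq (R := R) f B)) := (Ideal.Quotient.mkₐ B _).toLinearMap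
  have hJ : J = Ideal.span (Set.range (seq (R := R) f B)) := Fintype.range_linearCombination SB _
  have hexJ : Function.Exact jJ qJ := fun s => by
    refine ⟨fun hs => ⟨⟨s, hJ.ge (Ideal.Quotient.eq_zero_iff_mem.1 hs)⟩, rfl⟩, ?_⟩
    rintro ⟨t, rfl⟩
    exact Ideal.Quotient.eq_zero_iff_mem.2 (hJ.le t.2)
  have hinj : Function.Injective (jJ.lTensor C) :=
    LinearMap.lTensor_injective_of_exact_of_flat qJ Ideal.Quotient.mk_surjective jJ Subtype.val_injective hexJ C
  let Φ : C ⊗[B] SB ≃ₗ[C] C ⊗[R] P := AlgebraTensorModule.cancelBaseChange R B C C P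
  have hΦ : ∀ (x : C) (s : SB), Φ (x ⊗ₜ s) = (x ⊗ₜ[R] (1 : P)) * tr φ s := by
    intro x s
    induction s using TensorProduct.induction_on with
    | zero => simp
    | tmul b p =>
      simp only [Φ, AlgebraTensorModule.cancelBaseChange_tmul, tr, Algebra.TensorProduct.map_tmul,
        Algebra.TensorProduct.tmul_mul_tmul, AlgHom.id_apply, one_mul, Algebra.smul_def]
      rw [mul_comm]
      rfl
    | add s t hs ht => rw [tmul_add, map_add, map_add, mul_add, hs, ht]
  let E : C ⊗[B] (Fin c → SB) ≃ₗ[C] (Fin c → C ⊗[R] P) :=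
    (TensorProduct.piRight B C C (fun _ => SB)).trans (LinearEquiv.piCongrRight fun _ => Φ)
  have hE : ∀ (x : C) (v : Fin c → SB) (i : Fin c), E (x ⊗ₜ v) i = (x ⊗ₜ[R] (1 : P)) * tr φ (v i) :=
    fun x v i => by simp [E, hΦ]
  have hcomp : ∀ z : C ⊗[B] (Fin c → SB),
      Φ (jJ.lTensor C (L.lTensor C z)) = ∑ i, E z i * seq f C i := by
    intro z
    induction z using TensorProduct.induction_on with
    | zero => simp
    | tmul x v =>
      rw [LinearMap.lTensor_tmul, LinearMap.lTensor_tmul]
      show Φ (x ⊗ₜ L₀ v) = _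
      rw [hΦ, Fintype.linearCombination_apply, map_sum, Finset.mul_sum]
      refine Finset.sum_congr rfl fun i _ => ?_
      rw [smul_eq_mul, map_mul, tr_seq, hE, mul_assoc]
    | add z w hz hw => simp only [map_add, hz, hw, Pi.add_apply, add_mul, Finset.sum_add_distrib]
  have hz : L.lTensor C (E.symm a) = 0 := by
    apply hinj
    rw [map_zero]
    apply Φ.injective
    rw [map_zero, hcomp, E.apply_symm_apply, ha]
  obtain ⟨w, hw⟩ := (lTensor_exact C (LinearMap.exact_subtype_ker_map L) hL _).1 hz
  rw [← E.apply_symm_apply a, ← hw]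
  clear hw
  induction w using TensorProduct.induction_on with
  | zero => simp
  | add p q hp hq => rw [map_add, map_add]; exact add_mem hp hq
  | tmul x k =>
    have h2 : E ((LinearMap.ker L).subtype.lTensor C (x ⊗ₜ k)) = (x ⊗ₜ[R] (1 : P)) • fun i => tr φ (k.1 i) :=
      funext fun i => by rw [LinearMap.lTensor_tmul]; exact hE x k.1 i
    rw [h2]
    refine Submodule.smul_mem _ _ (Submodule.subset_span ⟨k.1, ?_, rfl⟩)
    have h3 : L₀ k.1 = 0 := congrArg Subtype.val (LinearMap.mem_ker.1 k.2)
    simpa [L₀, Fintype.linearCombination_apply, smul_eq_mul] using h3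

/-- The trivial relations. -/
def triv {S : Type u} [CommRing S] (g : Fin c → S) (p : Fin c × Fin c) : Fin c → S :=
  Pi.single p.1 (g p.2) - Pi.single p.2 (g p.1)

variable [IsNoetherianRing R] [Algebra.FiniteType R P] {A : Type u} [CommRing A] [Algebra R A]

/-- `H₁`-regularity with flat quotient descends to a finitely generated stage. -/
theorem exists_stage_h1 (hflat : Module.Flat A (A ⊗[R] (P ⧸ Ideal.span (Set.range f))))
    (h1 : CAlgX.IsH1Regular (seq (R := R) f A)) :
    ∃ C : Subalgebra R A, C.FG ∧
      Module.Flat C ((C ⊗[R] P) ⧸ Ideal.span (Set.range (seq (R := R) f C))) ∧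
      CAlgX.IsH1Regular (seq (R := R) f C) := by
  classical
  obtain ⟨B, hB, hBflat⟩ := exists_stage_flat (R := R) P (M := P ⧸ Ideal.span (Set.range f)) (A := A)
  haveI := flat_quotient (R := R) (B := B) f
  haveI : IsNoetherianRing B := EGA43.FlatDescent.isNoetherianRing_of_fg hB
  haveI : IsNoetherianRing (B ⊗[R] P) :=
    haveI : Algebra.FiniteType B (B ⊗[R] P) := Algebra.FiniteType.baseChange (A := P) B
    Algebra.FiniteType.isNoetherianRing B _
  let L₀ := Fintype.linearCombination (B ⊗[R] P) (seq (R := R) f B)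
  obtain ⟨m, k, hk⟩ := Submodule.fg_iff_exists_fin_generating_family.1
    (IsNoetherian.noetherian (LinearMap.ker L₀))
  have hkrel : ∀ l, ∑ i, k l i * seq f B i = 0 := fun l => by
    have h : k l ∈ LinearMap.ker L₀ := hk ▸ Submodule.subset_span ⟨l, rfl⟩
    simpa [L₀, Fintype.linearCombination_apply, smul_eq_mul] using LinearMap.mem_ker.1 h
  have hA : ∀ l, ∃ co : Fin c × Fin c → A ⊗[R] P,
      (fun i => tr B.val (k l i)) = ∑ p, co p • triv (seq f A) p := by
    intro l
    have h := h1 (fun i => tr B.val (k l i)) (by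
      simpa [tr_seq] using congrArg (tr (P := P) B.val) (hkrel l))
    obtain ⟨co, hco⟩ := (Submodule.mem_span_range_iff_exists_fun _).1
      (show (fun i => tr B.val (k l i)) ∈ Submodule.span _ (Set.range (triv (seq (R := R) f A))) from
        Submodule.span_mono (by rintro _ ⟨i, j, rfl⟩; exact ⟨(i, j), rfl⟩) h)
    exact ⟨co, hco.symm⟩
  choose co hco using hA
  choose Cs hCs coS hcoS using fun t : Fin m × (Fin c × Fin c) => TensorProduct.Algebra.exists_of_fg (co t.1 t.2)
  let D : Subalgebra R A := B ⊔ Finset.univ.sup Cs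
  have hD : D.FG := Subalgebra.FG.sup hB
    (Finset.sup_induction Subalgebra.fg_bot (fun a ha b hb => Subalgebra.FG.sup ha hb) fun z _ => hCs z)
  have hCsD : ∀ t, Cs t ≤ D := fun t => (Finset.le_sup (Finset.mem_univ t)).trans le_sup_right
  let coD : Fin m → Fin c × Fin c → D ⊗[R] P := fun l p => tr (Subalgebra.inclusion (hCsD (l, p))) (coS (l, p))
  have hcomp : ∀ {T U : Subalgebra R A} (h : T ≤ U) (x : T ⊗[R] P),
      tr U.val (tr (Subalgebra.inclusion h) x) = tr T.val x := by
    intro T U h x
    show (tr U.val).comp (tr (Subalgebra.inclusion h)) x = tr T.val x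
    congr 1
    ext <;> simp [tr]
  have hcoD : ∀ l p, tr D.val (coD l p) = co l p := fun l p =>
    (hcomp (hCsD (l, p)) _).trans (hcoS (l, p))
  let dd : Fin m → Fin c → D ⊗[R] P := fun l i =>
    tr (Subalgebra.inclusion (le_sup_left : B ≤ D)) (k l i) - (∑ p, coD l p • triv (seq f D) p) i
  have htriv : ∀ {T U : Type u} [CommRing T] [Algebra R T] [CommRing U] [Algebra R U] (φ : T →ₐ[R] U)
      (p : Fin c × Fin c) (i : Fin c), tr φ (triv (seq (R := R) f T) p i) = triv (seq f U) p i := by
    intro T U _ _ _ _ φ p i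
    simp only [triv, Pi.sub_apply, map_sub, ← tr_seq f φ]
    congr 1 <;> exact Pi.apply_single (fun _ => tr (P := P) φ) (fun _ => map_zero _) _ _ i
  have hdd : ∀ t : Fin m × Fin c, tr D.val (dd t.1 t.2) = 0 := by
    intro t
    simp only [dd, map_sub, hcomp, Finset.sum_apply, map_sum, Pi.smul_apply, smul_eq_mul, map_mul, hcoD, htriv]
    rw [sub_eq_zero]
    refine (hcomp _ _).trans ?_
    simpa using congrFun (hco t.1) t.2
  choose Es hDE hEs hzero using fun t : Fin m × Fin c =>
    TensorProduct.Algebra.eq_of_fg_of_subtype_eq hD (t := dd t.1 t.2) (t' := 0) ((hdd t).trans (map_zero _).symm)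
  let C : Subalgebra R A := D ⊔ Finset.univ.sup Es
  have hC : C.FG := Subalgebra.FG.sup hD
    (Finset.sup_induction Subalgebra.fg_bot (fun a ha b hb => Subalgebra.FG.sup ha hb) fun z _ => hEs z)
  have hDC : D ≤ C := le_sup_left
  have hBC : B ≤ C := le_sup_left.trans hDC
  have hzC : ∀ t : Fin m × Fin c, tr (Subalgebra.inclusion hDC) (dd t.1 t.2) = 0 := fun t => by
    have hEC : Es t ≤ C := (Finset.le_sup (Finset.mem_univ t)).trans le_sup_right
    have h : tr (Subalgebra.inclusion (hDE t)) (dd t.1 t.2) = 0 :=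
      (show _ = _ from hzero t).trans (map_zero _)
    have h2 := congrArg (tr (P := P) (Subalgebra.inclusion hEC)) h
    rw [map_zero] at h2
    refine Eq.trans ?_ h2
    show _ = (tr (Subalgebra.inclusion hEC)).comp (tr (Subalgebra.inclusion (hDE t))) _
    congr 1
    ext <;> simp [tr]
  refine ⟨C, hC, ?_, ?_⟩
  · letI : Algebra B C := (Subalgebra.inclusion hBC).toRingHom.toAlgebra
    haveI : IsScalarTower R B C := IsScalarTower.of_algebraMap_eq fun r => rfl
    haveI : Module.Flat C (C ⊗[R] (P ⧸ Ideal.span (Set.range f))) := Module.Flat.of_linearEquiv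
      (AlgebraTensorModule.cancelBaseChange R B C C (P ⧸ Ideal.span (Set.range f))).symm
    exact flat_quotient f
  · intro a ha
    refine Submodule.span_le.2 ?_ (relations_mem_span f (Subalgebra.inclusion hBC) ha)
    rintro _ ⟨v, hv, rfl⟩
    have hvk : v ∈ Submodule.span (B ⊗[R] P) (Set.range k) := by
      rw [hk, LinearMap.mem_ker]
      simpa [L₀, Fintype.linearCombination_apply, smul_eq_mul] using hv
    obtain ⟨e, rfl⟩ := (Submodule.mem_span_range_iff_exists_fun _).1 hvk
    have hsum : (fun i => tr (Subalgebra.inclusion hBC) ((∑ l, e l • k l) i)) =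
        ∑ l, tr (Subalgebra.inclusion hBC) (e l) • fun i => tr (Subalgebra.inclusion hBC) (k l i) := by
      funext i
      simp [Finset.sum_apply, map_sum, map_mul]
    simp only [SetLike.mem_coe]
    rw [hsum]
    refine Submodule.sum_mem _ fun l _ => Submodule.smul_mem _ _ ?_
    have heq : (fun i => tr (Subalgebra.inclusion hBC) (k l i)) =
        ∑ p, tr (Subalgebra.inclusion hDC) (coD l p) • triv (seq f C) p := by
      funext i
      have h := hzC (l, i)
      simp only [dd, map_sub, Finset.sum_apply, map_sum, Pi.smul_apply, smul_eq_mul, map_mul, htriv,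
        sub_eq_zero] at h
      simp only [Finset.sum_apply, Pi.smul_apply, smul_eq_mul]
      refine Eq.trans ?_ h
      show _ = (tr (Subalgebra.inclusion hDC)).comp (tr (Subalgebra.inclusion le_sup_left)) _
      congr 1
      ext <;> simp [tr]
    rw [heq]
    exact Submodule.sum_mem _ fun p _ => Submodule.smul_mem _ _ (Submodule.subset_span ⟨p.1, p.2, rfl⟩)

omit [IsNoetherianRing R] [Algebra.FiniteType R P] in
theorem bcModule_eq (B : Type u) [CommRing B] [Algebra R B] :
    bcModule R P P B = (Semiring.toModule : Module (B ⊗[R] P) (B ⊗[R] P)) := by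
  refine Module.ext' _ _ fun x y => ?_
  letI := bcModule R P P B
  show @HSMul.hSMul (B ⊗[R] P) (B ⊗[R] P) (B ⊗[R] P) (@instHSMul _ _ (bcModule R P P B).toSMul) x y = x * y
  induction x using TensorProduct.induction_on with
  | zero =>
    rw [zero_mul]
    exact @zero_smul _ _ _ _ (bcModule R P P B).toMulActionWithZero.toSMulWithZero y
  | add u v hu hv =>
    rw [add_mul, ← hu, ← hv]
    exact add_smul u v y
  | tmul b p =>
    induction y using TensorProduct.induction_on with
    | zero =>
      rw [mul_zero]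
      exact @smul_zero _ _ _ (bcModule R P P B).toDistribMulAction.toDistribSMul.toSMulZeroClass (b ⊗ₜ[R] p)
    | add u v hu hv =>
      rw [mul_add, ← hu, ← hv]
      exact @smul_add _ _ _ (bcModule R P P B).toDistribMulAction.toDistribSMul (b ⊗ₜ[R] p) u v
    | tmul b' p' => exact (bc_smul_tmul b b' p p').trans (Algebra.TensorProduct.tmul_mul_tmul _ _ _ _).symm

omit [IsNoetherianRing R] [Algebra.FiniteType R P] in
theorem flatAt_of_flat_localization {B : Type u} [CommRing B] [Algebra R B] (p : Ideal (B ⊗[R] P)) [p.IsPrime]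
    (h : Module.Flat B (Localization.AtPrime p)) :
    letI := bcModule R P P B
    FlatAt R P P B p := by
  unfold FlatAt
  have key : ∀ (m : Module (B ⊗[R] P) (B ⊗[R] P)), m = Semiring.toModule →
      ∀ [hT : @IsScalarTower B (B ⊗[R] P) (B ⊗[R] P) _ m.toSMul _],
      letI := m; Module.Flat B (LocalizedModule p.primeCompl (B ⊗[R] P)) := by
    rintro m rfl _
    exact h
  exact key _ (bcModule_eq B)

omit [IsNoetherianRing R] [Algebra.FiniteType R P] in
/-- A Noetherian algebra is flat at the primes containing a quasi-regular sequence with flat quotient. -/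
theorem flat_localization {B S : Type u} [CommRing B] [CommRing S] [IsNoetherianRing S] [Algebra B S]
    {g : Fin c → S} (hg : CAlgX.IsQuasiRegular g) [Module.Flat B (S ⧸ Ideal.span (Set.range g))]
    (p : Ideal S) [p.IsPrime] (hp : ∀ i, g i ∈ p) : Module.Flat B (Localization.AtPrime p) := by
  haveI : Module.Flat S (Localization.AtPrime p) := IsLocalization.flat (Localization.AtPrime p) p.primeCompl
  let fL : Fin c → Localization.AtPrime p := fun i => algebraMap S (Localization.AtPrime p) (g i)
  have hquasi : CAlgX.IsQuasiRegular fL :=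
    SDiv28.RegSeq.isQuasiRegular_map (S := Localization.AtPrime p) hg
  have hmem : ∀ r ∈ List.ofFn fL, r ∈ IsLocalRing.maximalIdeal (Localization.AtPrime p) := by
    intro r hr
    obtain ⟨i, rfl⟩ := List.mem_ofFn.1 hr
    rw [← Localization.AtPrime.map_eq_maximalIdeal]
    exact Ideal.mem_map_of_mem _ (hp i)
  have hw : IsWeaklyRegular (Localization.AtPrime p) (List.ofFn fL) :=
    EGA41Lib.isWeaklyRegular_of_isQuasiRegular c (Localization.AtPrime p) fL (fun i m hm => by
      rw [IsLocalRing.eq_maximalIdeal hm]; exact hmem _ (List.mem_ofFn.2 ⟨i, rfl⟩)) hquasi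
  have hJ : Ideal.ofList (List.ofFn fL) • (⊤ : Submodule (Localization.AtPrime p) (Localization.AtPrime p)) =
      (Ideal.span (Set.range g)).map (algebraMap S (Localization.AtPrime p)) := by
    rw [smul_eq_mul, Ideal.mul_top, Ideal.map_span, ← Set.range_comp]
    exact congrArg Ideal.span (Set.ext fun x => List.mem_ofFn)
  refine SDiv28.FlatQuasi.flat_of_isWeaklyRegular (A := B) _ (Localization.AtPrime p) hmem hw ?_
  haveI : Module.Flat B (LocalizedModule p.primeCompl (S ⧸ Ideal.span (Set.range g))) :=
    Props12.flat_localizedModule _ _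
  haveI : Module.Flat B (Localization.AtPrime p ⊗[S] (S ⧸ Ideal.span (Set.range g))) :=
    Module.Flat.of_linearEquiv ((LocalizedModule.equivTensorProduct p.primeCompl
      (S ⧸ Ideal.span (Set.range g))).symm.restrictScalars B)
  haveI : Module.Flat B (Localization.AtPrime p ⧸ (Ideal.span (Set.range g)).map (algebraMap S (Localization.AtPrime p))) :=
    Module.Flat.of_linearEquiv ((Algebra.TensorProduct.quotIdealMapEquivTensorQuot (Localization.AtPrime p)
      (Ideal.span (Set.range g))).toLinearEquiv.restrictScalars B)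
  exact Module.Flat.of_linearEquiv ((Submodule.quotEquivOfEq _ _ hJ).restrictScalars B)

/-- Flatness at the primes containing an `H₁`-regular sequence with flat quotient. -/
theorem flatAt (hflat : Module.Flat A (A ⊗[R] (P ⧸ Ideal.span (Set.range f))))
    (h1 : CAlgX.IsH1Regular (seq (R := R) f A)) (q : Ideal (A ⊗[R] P)) [q.IsPrime]
    (hq : ∀ i, seq f A i ∈ q) :
    letI := bcModule R P P A
    FlatAt R P P A q := by
  classical
  obtain ⟨C, hC, hCflat, hC1⟩ := exists_stage_h1 f hflat h1
  haveI := hCflat
  let σ := Algebra.TensorProduct.map C.val (AlgHom.id R P)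
  haveI hq' : (q.comap σ).IsPrime := Ideal.comap_isPrime _ _
  refine FlatAt.of_hom C.val ?_
  haveI : IsNoetherianRing C := EGA43.FlatDescent.isNoetherianRing_of_fg hC
  haveI : Algebra.FiniteType C (C ⊗[R] P) := Algebra.FiniteType.baseChange (A := P) C
  haveI : IsNoetherianRing (C ⊗[R] P) := Algebra.FiniteType.isNoetherianRing C _
  refine flatAt_of_flat_localization (q.comap σ)
    (flat_localization (SDiv28.RegSeq.isQuasiRegular_of_isH1Regular _ hC1) (q.comap σ) fun i => ?_)
  show σ (seq f C i) ∈ q
  rw [show σ (seq f C i) = seq f A i from tr_seq f C.val i]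
  exact hq i

end Groth.Agent.CAlgH3.RelRegularFlat
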