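import Groth.Agent.SDiv28.RegSeq
import Groth.Agent.CAlgH.QuasiRegularThickening
import Mathlib

/-! Base change of sequences with flat quotient. -/

set_option autoImplicit false
set_option linter.style.haveILetI false
universe u

open TensorProduct MvPolynomial

namespace Groth.Agent.CAlgH3.RelRegularRing

variable {A B : Type u} [CommRing A] [CommRing B] [Algebra A B]

/-- With `B / J` flat over `A`, the ideal `IB` meets `J` in `IJ`. -/
theorem mem_mul_of_flat (J : Ideal B) [Module.Flat A (B ⧸ J)] (I : Ideal A) {x : B}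
    (hx : x ∈ I.map (algebraMap A B)) (hxJ : x ∈ J) : x ∈ I.map (algebraMap A B) * J := by
  let mB : ↥I ⊗[A] B →ₗ[A] B := (TensorProduct.lid A B).toLinearMap ∘ₗ I.subtype.rTensor B
  obtain ⟨t, ht⟩ : x ∈ LinearMap.range mB := by
    rw [Ideal.subtype_rTensor_range, Ideal.smul_top_eq_map]
    exact hx
  let jJ : ↥(J.restrictScalars A) →ₗ[A] B := (J.restrictScalars A).subtype
  let qJ : B →ₗ[A] B ⧸ J := (Ideal.Quotient.mkₐ A J).toLinearMap
  have hex : Function.Exact jJ qJ := fun b =>
    ⟨fun hb => ⟨⟨b, Ideal.Quotient.eq_zero_iff_mem.1 hb⟩, rfl⟩,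
      fun ⟨b', hb'⟩ => hb' ▸ Ideal.Quotient.eq_zero_iff_mem.2 b'.2⟩
  have hinj : Function.Injective (I.subtype.rTensor (B ⧸ J)) :=
    Module.Flat.rTensor_preserves_injective_linearMap _ Subtype.val_injective
  have hz : qJ.lTensor ↥I t = 0 := by
    apply hinj
    rw [map_zero]
    apply (TensorProduct.lid A (B ⧸ J)).injective
    rw [map_zero]
    have hcomm : ∀ s : ↥I ⊗[A] B,
        TensorProduct.lid A (B ⧸ J) (I.subtype.rTensor (B ⧸ J) (qJ.lTensor ↥I s)) = qJ (mB s) := by
      intro s
      induction s using TensorProduct.induction_on with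
      | zero => simp
      | tmul i b => simp [mB, qJ]
      | add p q hp hq => simp only [map_add, hp, hq]
    rw [hcomm, ht]
    exact Ideal.Quotient.eq_zero_iff_mem.2 hxJ
  obtain ⟨w, hw⟩ := (lTensor_exact ↥I hex Ideal.Quotient.mk_surjective t).1 hz
  rw [← ht, ← hw]
  clear hw
  induction w using TensorProduct.induction_on with
  | zero => simp
  | tmul i j =>
    have : mB (jJ.lTensor ↥I (i ⊗ₜ j)) = algebraMap A B i.1 * j.1 := by
      simp [mB, jJ, Algebra.smul_def]
    rw [this]
    exact Ideal.mul_mem_mul (Ideal.mem_map_of_mem _ i.2) j.2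
  | add p q hp hq => rw [map_add, map_add]; exact add_mem hp hq

variable {c : ℕ} {f : Fin c → B}

theorem isH1Regular_quotient (h : CAlgX.IsH1Regular f) [Module.Flat A (B ⧸ Ideal.span (Set.range f))]
    (I : Ideal A) : CAlgX.IsH1Regular fun i => Ideal.Quotient.mk (I.map (algebraMap A B)) (f i) := by
  classical
  intro a ha
  choose a' ha' using fun i => Ideal.Quotient.mk_surjective (a i)
  have hx : ∑ i, a' i * f i ∈ I.map (algebraMap A B) := by
    rw [← Ideal.Quotient.eq_zero_iff_mem, map_sum, ← ha]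
    exact Finset.sum_congr rfl fun i _ => by rw [map_mul, ha']
  have hx2 := mem_mul_of_flat (Ideal.span (Set.range f)) I hx
    (Submodule.sum_mem _ fun i _ => Ideal.mul_mem_left _ _ (Ideal.subset_span ⟨i, rfl⟩))
  rw [← smul_eq_mul] at hx2
  obtain ⟨b, hb, hbe⟩ := (Submodule.mem_ideal_smul_span_iff_exists_sum _ f _).1 hx2
  rw [Finsupp.sum_fintype _ _ (by simp)] at hbe
  have hrel : ∑ i, (a' i - b i) * f i = 0 := by
    rw [← sub_eq_zero.2 hbe.symm, ← Finset.sum_sub_distrib]
    exact Finset.sum_congr rfl fun i _ => by rw [sub_mul, smul_eq_mul]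
  let π := Ideal.Quotient.mk (I.map (algebraMap A B))
  have hw : (fun i => π (a' i - b i)) = a := funext fun i => by
    rw [map_sub, Ideal.Quotient.eq_zero_iff_mem.2 (hb i), sub_zero]
    exact ha' i
  rw [← hw]
  let ψ : (Fin c → B) →ₗ[B] (Fin c → B ⧸ I.map (algebraMap A B)) :=
    LinearMap.pi fun i => Algebra.linearMap B _ ∘ₗ LinearMap.proj i
  have hw' := Submodule.mem_map_of_mem (f := ψ) (h _ hrel)
  rw [Submodule.map_span] at hw'
  refine Submodule.span_subset_span B (B ⧸ I.map (algebraMap A B)) _ (Submodule.span_mono ?_ hw')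
  rintro _ ⟨_, ⟨i, j, rfl⟩, rfl⟩
  refine ⟨i, j, funext fun k => ?_⟩
  show algebraMap B _ _ = _
  simp only [LinearMap.proj_apply, Pi.sub_apply, map_sub]
  congr 1 <;> exact Pi.apply_single (fun _ => algebraMap B (B ⧸ I.map (algebraMap A B))) (fun _ => map_zero _) _ _ k

theorem isQuasiRegular_quotient (h : CAlgX.IsQuasiRegular f) [Module.Flat A (B ⧸ Ideal.span (Set.range f))]
    (I : Ideal A) : CAlgX.IsQuasiRegular fun i => Ideal.Quotient.mk (I.map (algebraMap A B)) (f i) := by
  haveI : Module.Flat B (B ⧸ (⊥ : Ideal B)) :=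
    RingHom.flat_algebraMap_iff.1 (RingHom.Flat.of_bijective
      (f := algebraMap B (B ⧸ (⊥ : Ideal B))) ⟨fun x y h => sub_eq_zero.1
        ((Submodule.mem_bot B).1 (Ideal.Quotient.eq.1 h)), Ideal.Quotient.mk_surjective⟩)
  refine CAlgH.QuasiRegularThickening.isQuasiRegular_quotient ⊥ _ f bot_le
    (SDiv28.RegSeq.isQuasiRegular_map (S := B ⧸ (⊥ : Ideal B)) h) fun x hx hxJ => ?_
  rw [sup_bot_eq] at hxJ ⊢
  exact mem_mul_of_flat _ I hx hxJ

theorem transport {R S : Type u} [CommRing R] [CommRing S] {g : Fin c → R} (φ : R ≃+* S) :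
    (CAlgX.IsH1Regular g → CAlgX.IsH1Regular fun i => φ (g i)) ∧
      (CAlgX.IsQuasiRegular g → CAlgX.IsQuasiRegular fun i => φ (g i)) := by
  letI := φ.toRingHom.toAlgebra
  haveI : Module.Flat R S := RingHom.Flat.of_bijective (f := φ.toRingHom) φ.bijective
  exact ⟨SDiv28.RegSeq.isH1Regular_map (S := S), SDiv28.RegSeq.isQuasiRegular_map (S := S)⟩

variable (A' : Type u) [CommRing A'] [Algebra A A']

/-- Both kinds are preserved by base change when the quotient is flat over the base. -/
theorem tensor [Module.Flat A (B ⧸ Ideal.span (Set.range f))] :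
    (CAlgX.IsH1Regular f → CAlgX.IsH1Regular fun i => (1 : A') ⊗ₜ[A] f i) ∧
      (CAlgX.IsQuasiRegular f → CAlgX.IsQuasiRegular fun i => (1 : A') ⊗ₜ[A] f i) := by
  let P := MvPolynomial A' A
  let ψ : P →ₐ[A] A' := MvPolynomial.aeval id
  have hψ : Function.Surjective ψ := fun a => ⟨X a, MvPolynomial.aeval_X _ a⟩
  let Bp := P ⊗[A] B
  letI : Algebra B Bp := Algebra.TensorProduct.rightAlgebra
  haveI : Module.Flat B Bp := Module.Flat.of_linearEquiv
    ((Algebra.TensorProduct.commRight A B P).symm.toLinearEquiv)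
  let g : Fin c → Bp := fun i => algebraMap B Bp (f i)
  have hspan : Ideal.span (Set.range g) =
      (Ideal.span (Set.range f)).map (Algebra.TensorProduct.includeRight : B →ₐ[A] Bp) := by
    rw [Ideal.map_span, ← Set.range_comp]
    rfl
  haveI : Module.Flat P (P ⊗[A] (B ⧸ Ideal.span (Set.range f))) := inferInstance
  haveI : Module.Flat P (Bp ⧸ Ideal.span (Set.range g)) := by
    rw [hspan]
    exact Module.Flat.of_linearEquiv
      (Algebra.TensorProduct.tensorQuotientEquiv (R := A) P B P (Ideal.span (Set.range f))).symm.toLinearEquiv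
  let Φ : Bp →ₐ[A] A' ⊗[A] B := Algebra.TensorProduct.map ψ (AlgHom.id A B)
  have hΦ : Function.Surjective Φ := Algebra.TensorProduct.map_surjective _ _ hψ Function.surjective_id
  have hker : RingHom.ker Φ.toRingHom = (RingHom.ker ψ.toRingHom).map (algebraMap P Bp) :=
    Algebra.TensorProduct.rTensor_ker ψ hψ
  let e : Bp ⧸ (RingHom.ker ψ.toRingHom).map (algebraMap P Bp) ≃+* A' ⊗[A] B :=
    (Ideal.quotEquivOfEq hker.symm).trans (RingHom.quotientKerEquivOfSurjective (f := Φ.toRingHom) hΦ)
  have he : ∀ i, e (Ideal.Quotient.mk _ (g i)) = (1 : A') ⊗ₜ[A] f i := fun i => by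
    show Algebra.TensorProduct.map ψ (AlgHom.id A B) ((1 : P) ⊗ₜ[A] f i) = _
    exact (Algebra.TensorProduct.map_tmul ψ (AlgHom.id A B) 1 (f i)).trans (by rw [map_one ψ, AlgHom.id_apply])
  constructor
  · intro h
    have h2 := (transport e).1 (isH1Regular_quotient (A := P) (f := g)
      (SDiv28.RegSeq.isH1Regular_map (S := Bp) h) (RingHom.ker ψ.toRingHom))
    simpa only [he] using h2
  · intro h
    have h2 := (transport e).2 (isQuasiRegular_quotient (A := P) (f := g)
      (SDiv28.RegSeq.isQuasiRegular_map (S := Bp) h) (RingHom.ker ψ.toRingHom))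
    simpa only [he] using h2

theorem pushout {C : Type u} [CommRing C] [Algebra A C] [Algebra B C] [Algebra A' C] [IsScalarTower A B C]
    [IsScalarTower A A' C] [Algebra.IsPushout A A' B C] [Module.Flat A (B ⧸ Ideal.span (Set.range f))] :
    (CAlgX.IsH1Regular f → CAlgX.IsH1Regular fun i => algebraMap B C (f i)) ∧
      (CAlgX.IsQuasiRegular f → CAlgX.IsQuasiRegular fun i => algebraMap B C (f i)) := by
  let e : A' ⊗[A] B ≃ₐ[A'] C := Algebra.IsPushout.equiv A A' B C
  have he : ∀ b : B, e.toRingEquiv ((1 : A') ⊗ₜ[A] b) = algebraMap B C b := fun b => by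
    show e (1 ⊗ₜ b) = _
    simp [e, Algebra.IsPushout.equiv_tmul]
  constructor
  · intro h
    simpa only [he] using (transport e.toRingEquiv).1 ((tensor A').1 h)
  · intro h
    simpa only [he] using (transport e.toRingEquiv).2 ((tensor A').2 h)

end Groth.Agent.CAlgH3.RelRegularRing
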