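import Groth.Agent.CAlgH3.RelRegularFlat
import Groth.Agent.CAlgH3.RelRegularRing
import Mathlib.RingTheory.Extension.Presentation.Core

/-! Finitely presented algebras are flat along relatively `H₁`-regular sequences. -/

set_option autoImplicit false
set_option backward.isDefEq.respectTransparency false
set_option linter.style.haveILetI false
universe u

open TensorProduct Groth.Agent.EGA43.FlatDescent

namespace Groth.Agent.CAlgH3.RelRegularFlat

theorem flat_atPrime_of_model {R₁ P A B : Type u} [CommRing R₁] [IsNoetherianRing R₁] [CommRing P]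
    [Algebra R₁ P] [Algebra.FiniteType R₁ P] [CommRing A] [Algebra R₁ A] [CommRing B] [Algebra A B]
    {c : ℕ} {g : Fin c → B} (h1 : CAlgX.IsH1Regular g) [Module.Flat A (B ⧸ Ideal.span (Set.range g))]
    (q : Ideal B) [q.IsPrime] (hq : ∀ i, g i ∈ q) (ι : A ⊗[R₁] P ≃ₐ[A] B) (f : Fin c → P)
    (hι : ∀ i, ι (seq (R := R₁) f A i) = g i) : Module.Flat A (Localization.AtPrime q) := by
  have hh1 : CAlgX.IsH1Regular (seq (R := R₁) f A) := by
    have h := (RelRegularRing.transport ι.symm.toRingEquiv).1 h1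
    convert h using 1
    funext i
    exact ι.injective ((hι i).trans (ι.apply_symm_apply (g i)).symm)
  have hflat : Module.Flat A (A ⊗[R₁] (P ⧸ Ideal.span (Set.range f))) := by
    have hJ : (Ideal.span (Set.range g)) =
        ((Ideal.span (Set.range f)).map (Algebra.TensorProduct.includeRight : P →ₐ[R₁] A ⊗[R₁] P)).map
          (ι : A ⊗[R₁] P →+* B) := by
      rw [Ideal.map_span, Ideal.map_span, ← Set.range_comp, ← Set.range_comp]
      exact congrArg Ideal.span (congrArg Set.range (funext fun i => (hι i).symm))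
    exact Module.Flat.of_linearEquiv ((Algebra.TensorProduct.tensorQuotientEquiv (R := R₁) A P A
      (Ideal.span (Set.range f))).trans (Ideal.quotientEquivAlg _ _ ι hJ)).toLinearEquiv
  let q' : Ideal (A ⊗[R₁] P) := q.comap (ι : A ⊗[R₁] P →+* B)
  haveI : q'.IsPrime := Ideal.comap_isPrime _ _
  have h := flatAt f hflat hh1 q' fun i => by
    show ι (seq (R := R₁) f A i) ∈ q
    rw [hι]
    exact hq i
  unfold FlatAt at h
  have h2 : Module.Flat A (Localization.AtPrime q') := by
    have key : ∀ (m : Module (A ⊗[R₁] P) (A ⊗[R₁] P)), m = Semiring.toModule →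
        ∀ [hT : @IsScalarTower A (A ⊗[R₁] P) (A ⊗[R₁] P) _ m.toSMul _],
        (letI := m; Module.Flat A (LocalizedModule q'.primeCompl (A ⊗[R₁] P))) →
          Module.Flat A (Localization.AtPrime q') := by
      rintro m rfl _ h
      exact h
    exact key _ (bcModule_eq A) h
  have hmap : q'.primeCompl.map ι = q.primeCompl := by
    ext b
    constructor
    · rintro ⟨x, hx, rfl⟩
      exact hx
    · intro hb
      refine ⟨ι.symm b, ?_, ι.apply_symm_apply b⟩
      show ι (ι.symm b) ∉ q
      rwa [ι.apply_symm_apply]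
  exact Module.Flat.of_linearEquiv
    (IsLocalization.algEquivOfAlgEquiv (Localization.AtPrime q') (Localization.AtPrime q) ι hmap).symm.toLinearEquiv

set_option backward.isDefEq.respectTransparency true in
theorem flat_atPrime {A B : Type u} [CommRing A] [CommRing B] [Algebra A B] [Algebra.FinitePresentation A B]
    {c : ℕ} {g : Fin c → B} (h1 : CAlgX.IsH1Regular g) [Module.Flat A (B ⧸ Ideal.span (Set.range g))]
    (q : Ideal B) [q.IsPrime] (hq : ∀ i, g i ∈ q) : Module.Flat A (Localization.AtPrime q) := by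
  classical
  let Pr := Algebra.Presentation.ofFinitePresentation A B
  let cs : Set A := Pr.coeffs ∪ ⋃ i, ((Pr.σ (g i)).coeffs : Set A)
  have hcs : cs.Finite := Pr.finite_coeffs.union (Set.finite_iUnion fun i => Finset.finite_toSet _)
  let R₁ := Algebra.adjoin ℤ cs
  haveI : Algebra.FiniteType ℤ R₁ := R₁.fg_iff_finiteType.1 (Subalgebra.fg_def.2 ⟨cs, hcs, rfl⟩)
  haveI : IsNoetherianRing R₁ := Algebra.FiniteType.isNoetherianRing ℤ _
  have hrange : ∀ c ∈ cs, c ∈ Set.range (algebraMap R₁ A) := fun c hc => ⟨⟨c, Algebra.subset_adjoin hc⟩, rfl⟩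
  haveI : Pr.HasCoeffs R₁ := ⟨fun c hc => hrange c (Or.inl hc)⟩
  let P := Pr.ModelOfHasCoeffs R₁
  let ι : A ⊗[R₁] P ≃ₐ[A] B := Pr.tensorModelOfHasCoeffsEquiv R₁
  have hW : ∀ i, ∃ p : MvPolynomial _ R₁, MvPolynomial.map (algebraMap R₁ A) p = Pr.σ (g i) := fun i => by
    rw [← RingHom.mem_range, ← SetLike.mem_coe, RingHom.coe_range,
      MvPolynomial.mem_range_map_iff_coeffs_subset]
    exact fun c hc => hrange c (Or.inr (Set.mem_iUnion.2 ⟨i, hc⟩))
  choose W hW using hW
  let f : Fin c → P := fun i => Ideal.Quotient.mk _ (W i)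
  have hι : ∀ i, ι (seq (R := R₁) f A i) = g i := fun i => by
    show Pr.tensorModelOfHasCoeffsEquiv R₁ (1 ⊗ₜ Ideal.Quotient.mk _ (W i)) = _
    rw [Algebra.Presentation.tensorModelOfHasCoeffsEquiv_tmul, map_one, one_mul,
      ← MvPolynomial.aeval_map_algebraMap A, hW]
    exact Pr.aeval_val_σ _
  exact flat_atPrime_of_model h1 q hq ι f hι

end Groth.Agent.CAlgH3.RelRegularFlat
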