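import Groth.Agent.DCat.RDUnbounded
import Groth.Agent.DCat.ModGen
import Groth.Prelude.Def_DRing3
import Mathlib

/-! `RΓ_I K = 0` when an element of `I` acts bijectively on `K`. -/

set_option autoImplicit false
set_option backward.isDefEq.respectTransparency.types false
universe u

open CategoryTheory CategoryTheory.Limits

attribute [local instance] HasDerivedCategory.standard

namespace Groth.Agent.CAlgH3.RgammaVanish

open Groth.Agent.DCat

variable {A : Type u} [CommRing A] (I : Ideal A)

/-- complexes of modules -/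
abbrev Cpx (A : Type u) [CommRing A] := CochainComplex (ModuleCat.{u} A) ℤ

/-- multiplication by a scalar -/
noncomputable def mulEnd (f : A) (J : Cpx A) : J ⟶ J := f • 𝟙 J

theorem acyclic_of_homotopy_inverse (f : A) (C : Cpx A)
    (htor : ∀ (n : ℤ) (x : C.X n), ∃ k : ℕ, f ^ k • x = 0) (h : C ⟶ C)
    (H : Homotopy (mulEnd f C ≫ h) (𝟙 C)) (n : ℤ) : C.ExactAt n := by
  rw [HomologicalComplex.exactAt_iff' C (n - 1) n (n + 1) (by simp) (by simp), ShortComplex.moduleCat_exact_iff]
  intro x hx
  change (C.d n (n + 1)).hom x = 0 at hx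
  suffices ∀ (k : ℕ) (x : C.X n), (C.d n (n + 1)).hom x = 0 → f ^ k • x = 0 →
      ∃ y, (C.d (n - 1) n).hom y = x by
    obtain ⟨k, hk⟩ := htor n x
    exact this k x hx hk
  intro k
  induction k with
  | zero => intro x _ hk; exact ⟨0, by rw [map_zero]; simpa using hk.symm⟩
  | succ k ih =>
    intro x hx hk
    obtain ⟨y, hy⟩ := ih (f • x) (by rw [map_smul, hx, smul_zero]) (by rw [← mul_smul, ← pow_succ]; exact hk)
    have e := LinearMap.congr_fun (congrArg ModuleCat.Hom.hom (H.comm n)) x
    rw [dNext_eq H.hom (show (ComplexShape.up ℤ).Rel n (n + 1) by simp),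
      prevD_eq H.hom (show (ComplexShape.up ℤ).Rel (n - 1) n by simp)] at e
    simp only [HomologicalComplex.comp_f, HomologicalComplex.id_f, ModuleCat.hom_add, ModuleCat.hom_comp,
      ModuleCat.hom_id, LinearMap.add_apply, LinearMap.comp_apply, LinearMap.id_apply, hx, map_zero,
      zero_add] at e
    have e' : (h.f n).hom (f • x) = (C.d (n - 1) n).hom ((H.hom n (n - 1)).hom x) + x := e
    refine ⟨(h.f (n - 1)).hom y - (H.hom n (n - 1)).hom x, ?_⟩
    have hc := LinearMap.congr_fun (congrArg ModuleCat.Hom.hom (h.comm (n - 1) n)) y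
    simp only [ModuleCat.hom_comp, LinearMap.comp_apply] at hc
    rw [map_sub, hc, hy, e', add_sub_cancel_left]

variable [DRing.HasRgammaI I]

theorem isZero_of_bijective (K : Cpx A) (f : A) (hf : f ∈ I)
    (hK : ∀ n : ℤ, Function.Bijective (fun x : K.X n => f • x)) :
    IsZero ((DRing.RgammaI I).obj (DerivedCategory.Q.obj K)) := by
  obtain ⟨J, s, hJ, hs⟩ := enoughKInj_of_isGrothendieckAbelian (A := ModuleCat.{u} A) K
  haveI : ∀ n, IsIso ((mulEnd f K).f n) := fun n => (ConcreteCategory.isIso_iff_bijective _).2 (hK n)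
  haveI : IsIso (mulEnd f K) := HomologicalComplex.Hom.isIso_of_components _
  have hcomm : mulEnd f K ≫ s = s ≫ mulEnd f J := by simp [mulEnd]
  haveI : QuasiIso (mulEnd f K ≫ s) := inferInstance
  rw [hcomm] at *
  haveI : QuasiIso (mulEnd f J) := quasiIso_of_comp_left s (mulEnd f J)
  let q := HomotopyCategory.quotient (ModuleCat.{u} A) (ComplexShape.up ℤ)
  haveI hiso : IsIso (q.map (mulEnd f J)) :=
    kInj_isIso _ hJ hJ ((HomotopyCategory.quotient_map_mem_quasiIso_iff _).2 ((HomologicalComplex.mem_quasiIso_iff _).2 inferInstance))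
  let G := DRing.gammaI I
  let C : Cpx A := (G.mapHomologicalComplex (ComplexShape.up ℤ)).obj J
  haveI : IsIso (q.map (mulEnd f C)) := by
    have h1 : IsIso ((G.mapHomotopyCategory (ComplexShape.up ℤ)).map (q.map (mulEnd f J))) := inferInstance
    have h2 : (G.mapHomologicalComplex (ComplexShape.up ℤ)).map (mulEnd f J) = mulEnd f C := by
      ext n x
      rfl
    rw [← h2]
    exact h1
  obtain ⟨h, hh⟩ := q.map_surjective (inv (q.map (mulEnd f C)))
  let H := HomotopyCategory.homotopyOfEq (mulEnd f C ≫ h) (𝟙 C) (by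
    change q.map (mulEnd f C ≫ h) = q.map (𝟙 C)
    rw [q.map_comp, hh, IsIso.hom_inv_id, q.map_id])
  have hC : ∀ n, C.ExactAt n := acyclic_of_homotopy_inverse f C (fun n x => by
    obtain ⟨k, hk⟩ := x.2
    exact ⟨k, Subtype.ext (hk _ (Ideal.pow_mem_pow hf k))⟩) h H
  have hzero : IsZero (DerivedCategory.Q.obj C) := by
    haveI : QuasiIso (0 : C ⟶ C) := ⟨fun n => by
      rw [quasiIsoAt_iff_exactAt _ _ (hC n)]; exact hC n⟩
    haveI : IsIso (DerivedCategory.Q.map (0 : C ⟶ C)) := inferInstance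
    rw [IsZero.iff_id_eq_zero]
    exact (IsIso.hom_inv_id (DerivedCategory.Q.map (0 : C ⟶ C))).symm.trans ((congrArg (· ≫ _) (Functor.map_zero _ _ _)).trans zero_comp)
  haveI : IsIso (DerivedCategory.Q.map s) := inferInstance
  haveI := isIso_unit_of_kInj (enoughKInj_of_isGrothendieckAbelian (A := ModuleCat.{u} A)) (DRing.gammaIKh I) J hJ
  let unit := asIso (((DRing.gammaIKh I).totalRightDerivedUnit DerivedCategory.Qh
    (HomotopyCategory.quasiIso (ModuleCat.{u} A) (ComplexShape.up ℤ))).app (q.obj J))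
  refine IsZero.of_iso ?_ ((DRing.RgammaI I).mapIso (asIso (DerivedCategory.Q.map s) ≪≫
    ((DerivedCategory.quotientCompQhIso (ModuleCat.{u} A)).app J).symm) ≪≫ unit.symm)
  exact hzero.of_iso ((DerivedCategory.quotientCompQhIso (ModuleCat.{u} A)).app C)

end Groth.Agent.CAlgH3.RgammaVanish
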