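import Groth.Agent.SiteCoh.ExtResolution
import Groth.Agent.CAlgH3.FunctorExact
import Mathlib.Algebra.Homology.DerivedCategory.Ext.ExactSequences

/-! The connecting maps of a natural extension class, for abstract functors. -/

set_option autoImplicit false
universe w v u v' u'

open CategoryTheory CategoryTheory.Limits CategoryTheory.Abelian Opposite

namespace Groth.Agent.CAlgH3.RpushGen

open Groth.Agent.SiteCoh (extGroups)

variable {C : Type u} [Category.{v} C] [Abelian C] [HasExt.{v} C] {E : Type u'} [Category.{v'} E] (A B : E ⥤ C)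
  (e : ∀ W, Ext (B.obj W) (A.obj W) 1)
  (he : ∀ {W W' : E} (i : W ⟶ W'),
    (e W).comp (Ext.mk₀ (A.map i)) (add_zero 1) = (Ext.mk₀ (B.map i)).comp (e W') (zero_add 1))

/-- Composition with the classes. -/
noncomputable def genDelta (q : ℕ) : extGroups A q ⟶ extGroups B (q + 1) where
  app F :=
    { app := fun W => AddCommGrpCat.ofHom ((e W.unop).precomp F (add_comm 1 q))
      naturality := fun W W' i => by
        ext x
        change (e W'.unop).comp ((Ext.mk₀ (A.map i.unop)).comp (show Ext (A.obj W.unop) F q from x) (zero_add q))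
            (add_comm 1 q) =
          (Ext.mk₀ (B.map i.unop)).comp ((e W.unop).comp (show Ext (A.obj W.unop) F q from x) (add_comm 1 q))
            (zero_add (q + 1))
        rw [← Ext.comp_assoc (Ext.mk₀ (B.map i.unop)) (e W.unop) _ (zero_add 1) (add_comm 1 q) (by omega), ← he]
        exact (Ext.comp_assoc _ _ _ (add_zero 1) (zero_add q) (by omega)).symm }
  naturality F G f := by
    ext W x
    exact (Ext.comp_assoc (e W.unop) (show Ext (A.obj W.unop) F q from x) (Ext.mk₀ f)
      (add_comm 1 q) (add_zero q) (by omega)).symm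

variable {D : Type*} [Category D] [Abelian D] (K : (Eᵒᵖ ⥤ AddCommGrpCat.{v}) ⥤ D) [K.Additive]
  [K.PreservesHomology] {A B} {M : E ⥤ C} (f : A ⟶ M) (g : M ⟶ B) (w : ∀ W, f.app W ≫ g.app W = 0)
  (hS : ∀ W, (ShortComplex.mk (f.app W) (g.app W) (w W)).ShortExact)

/-- The classes of a natural short exact sequence. -/
noncomputable def clsOf (W : E) : Ext (B.obj W) (A.obj W) 1 := (hS W).extClass

include f g in
theorem clsOf_natural {W W' : E} (i : W ⟶ W') :
    (clsOf f g w hS W).comp (Ext.mk₀ (A.map i)) (add_zero 1) =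
      (Ext.mk₀ (B.map i)).comp (clsOf f g w hS W') (zero_add 1) :=
  ShortComplex.ShortExact.extClass_naturality (hS W) (hS W')
    { τ₁ := A.map i, τ₂ := M.map i, τ₃ := B.map i, comm₁₂ := f.naturality i, comm₂₃ := g.naturality i }

/-- The connecting maps. -/
noncomputable abbrev deltaOf (q : ℕ) : extGroups A q ⟶ extGroups B (q + 1) :=
  genDelta A B (clsOf f g w hS) (fun i => clsOf_natural f g w hS i) q

/-- The connecting map is an isomorphism after an exact functor killing the middle terms. -/
theorem isIso_map_deltaOf (q : ℕ) (F : C) (h₁ : IsZero (K.obj ((extGroups M q).obj F)))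
    (h₂ : IsZero (K.obj ((extGroups M (q + 1)).obj F))) :
    IsIso (K.map ((deltaOf f g w hS q).app F)) := by
  let res : (extGroups M q).obj F ⟶ (extGroups A q).obj F :=
    { app := fun W => AddCommGrpCat.ofHom ((Ext.mk₀ (f.app W.unop)).precomp F (zero_add q))
      naturality := fun W W' i => by
        ext x
        change (Ext.mk₀ (f.app W'.unop)).comp
            ((Ext.mk₀ (M.map i.unop)).comp (show Ext (M.obj W.unop) F q from x) (zero_add q)) (zero_add q) =
          (Ext.mk₀ (A.map i.unop)).comp
            ((Ext.mk₀ (f.app W.unop)).comp (show Ext (M.obj W.unop) F q from x) (zero_add q)) (zero_add q)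
        rw [Ext.mk₀_comp_mk₀_assoc, Ext.mk₀_comp_mk₀_assoc, f.naturality] }
  let fgt : (extGroups B (q + 1)).obj F ⟶ (extGroups M (q + 1)).obj F :=
    { app := fun W => AddCommGrpCat.ofHom ((Ext.mk₀ (g.app W.unop)).precomp F (zero_add (q + 1)))
      naturality := fun W W' i => by
        ext x
        change (Ext.mk₀ (g.app W'.unop)).comp
            ((Ext.mk₀ (B.map i.unop)).comp (show Ext (B.obj W.unop) F (q + 1) from x) (zero_add (q + 1)))
              (zero_add (q + 1)) =
          (Ext.mk₀ (M.map i.unop)).comp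
            ((Ext.mk₀ (g.app W.unop)).comp (show Ext (B.obj W.unop) F (q + 1) from x) (zero_add (q + 1)))
              (zero_add (q + 1))
        rw [Ext.mk₀_comp_mk₀_assoc, Ext.mk₀_comp_mk₀_assoc, g.naturality] }
  have z₁ : res ≫ (deltaOf f g w hS q).app F = 0 := by
    ext W x
    exact (hS W.unop).extClass_comp_assoc (h := add_comm 1 q) x
  have z₂ : (deltaOf f g w hS q).app F ≫ fgt = 0 := by
    ext W x
    exact (hS W.unop).comp_extClass_assoc x (add_comm 1 q)
  have e₁ : (ShortComplex.mk _ _ z₁).Exact := FunctorExact.exact_of_app _ fun W => by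
    rw [ShortComplex.ab_exact_iff]
    intro x hx
    exact Ext.contravariant_sequence_exact₁ (hS W.unop) F x (add_comm 1 q) hx
  have e₂ : (ShortComplex.mk _ _ z₂).Exact := FunctorExact.exact_of_app _ fun W => by
    rw [ShortComplex.ab_exact_iff]
    intro x hx
    exact Ext.contravariant_sequence_exact₃ (hS W.unop) F x hx (add_comm 1 q)
  have hm : Mono (K.map ((deltaOf f g w hS q).app F)) := (e₁.map K).mono_g (h₁.eq_of_src _ _)
  have he : Epi (K.map ((deltaOf f g w hS q).app F)) := (e₂.map K).epi_f (h₂.eq_of_tgt _ _)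
  exact isIso_of_mono_of_epi _

/-- Restricting along a composite in two steps. -/
noncomputable def whiskerCompIso {D' D'' E' E'' : Type*} [Category D'] [Category D''] [Category E'] [Category E'']
    (P : D' ⥤ Eᵒᵖ ⥤ AddCommGrpCat.{v}) (I : E' ⥤ E) (I' : E'' ⥤ E') (K' : (E''ᵒᵖ ⥤ AddCommGrpCat.{v}) ⥤ D'') :
    P ⋙ (Functor.whiskeringLeft _ _ AddCommGrpCat.{v}).obj (I' ⋙ I).op ⋙ K' ≅
      (P ⋙ (Functor.whiskeringLeft _ _ AddCommGrpCat.{v}).obj I.op) ⋙
        ((Functor.whiskeringLeft _ _ AddCommGrpCat.{v}).obj I'.op ⋙ K') :=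
  Iso.refl _

/-- `Ext` groups along a composite. -/
noncomputable def compIso {E' : Type u'} [Category.{v'} E'] (I : E' ⥤ E) (q : ℕ) :
    extGroups (I ⋙ A) q ≅ extGroups A q ⋙ (Functor.whiskeringLeft _ _ AddCommGrpCat.{v}).obj I.op :=
  Iso.refl _

end Groth.Agent.CAlgH3.RpushGen
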