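import Mathlib
import Groth.Prelude.Def_W4c5stcicurvesp3Euclid

namespace Groth.Agent.CAlgH3.STCIEuclid
open W4c5stcicurvesp3 Finset

theorem shift (a b : ℕ) (hr : a % b ≠ 0) :
    ∀ i, irem a b (i + 1) = irem b (a % b) i := by
  intro i
  induction i using Nat.strong_induction_on with
  | _ i ih =>
    rcases i with _ | _ | i
    · simp [irem]
    · simp [irem, hr]
    · show (if irem a b (i + 2) = 0 then 0 else irem a b (i + 1) % irem a b (i + 2)) =
        (if irem b (a % b) (i + 1) = 0 then 0 else irem b (a % b) i % irem b (a % b) (i + 1))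
      rw [ih (i + 1) (by omega), ih i (by omega)]

theorem shift_idiv (a b : ℕ) (hr : a % b ≠ 0) :
    ∀ i, idiv a b (i + 2) = idiv b (a % b) (i + 1) := by
  intro i
  rcases i with _ | i
  · simp [idiv, irem, hr]
  · show (if irem a b (i + 2) = 0 then 0 else irem a b (i + 1) / irem a b (i + 2)) =
      (if irem b (a % b) (i + 1) = 0 then 0 else irem b (a % b) i / irem b (a % b) (i + 1))
    rw [shift a b hr (i + 1), shift a b hr i]

theorem quot_sum_le : ∀ (t a b : ℕ), 0 < b → b ≤ a → irem a b (t + 1) = 0 →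
    (∀ i, 0 < i → i < t + 1 → irem a b i ≠ 0) →
    (∑ i ∈ range (t + 1), idiv a b (i + 1)) * Nat.gcd b a ≤ a := by
  intro t
  induction t with
  | zero =>
    intro a b hb hba h0 _
    simp only [irem] at h0
    simp only [zero_add, sum_range_one, idiv]
    rw [Nat.gcd_eq_left (Nat.dvd_of_mod_eq_zero h0)]
    exact Nat.div_mul_le_self a b
  | succ t ih =>
    intro a b hb hba h0 hmin
    have hr : a % b ≠ 0 := by simpa [irem] using hmin 1 (by omega) (by omega)
    have hlt : a % b < b := Nat.mod_lt _ hb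
    have h := ih b (a % b) (by omega) hlt.le
      (by rw [← shift a b hr]; exact h0)
      (fun i hi hit => by rw [← shift a b hr]; exact hmin (i + 1) (by omega) (by omega))
    rw [sum_range_succ', show (∑ i ∈ range (t + 1), idiv a b (i + 1 + 1)) =
      ∑ i ∈ range (t + 1), idiv b (a % b) (i + 1) from sum_congr rfl fun i _ => shift_idiv a b hr i]
    rw [show Nat.gcd (a % b) b = Nat.gcd b a from (Nat.gcd_rec b a).symm] at h
    rw [zero_add, show idiv a b 1 = a / b by simp [idiv]]
    set g := Nat.gcd b a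
    set q := a / b
    have hq : 1 ≤ q := Nat.div_pos hba hb
    obtain ⟨m, hm⟩ : g ∣ b := Nat.gcd_dvd_left b a
    obtain ⟨l, hl⟩ : g ∣ a % b := (Nat.dvd_mod_iff (Nat.gcd_dvd_left b a)).mpr (Nat.gcd_dvd_right b a)
    have hg : 0 < g := Nat.gcd_pos_of_pos_left a hb
    have hl1 : 1 ≤ l := by
      rcases Nat.eq_zero_or_pos l with rfl | h'
      · simp at hl; exact absurd hl hr
      · exact h'
    have hm1 : 1 ≤ m := by
      rcases Nat.eq_zero_or_pos m with rfl | h'
      · simp at hm; omega
      · exact h'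
    have key : q + m ≤ q * m + l := by nlinarith [Nat.sub_add_cancel hm1, Nat.sub_add_cancel hq]
    have ha : a = b * q + a % b := (Nat.div_add_mod a b).symm
    generalize hX : ∑ i ∈ range (t + 1), idiv b (a % b) (i + 1) = X at h ⊢
    have k1 := Nat.mul_le_mul_left g key
    calc (X + q) * g = X * g + g * q := by ring
      _ ≤ g * m + g * q := by linarith [hm]
      _ = g * (q + m) := by ring
      _ ≤ g * (q * m + l) := k1
      _ = g * m * q + g * l := by ring
      _ = a := by rw [← hm, ← hl]; exact ha.symm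

theorem step_ineq {c b r : ℚ} (hc : 1 ≤ c) (hr : 0 < r) (hrb : r < b) :
    (b - r) / c + r ^ 2 / (c * r + b) ≤ b ^ 2 / (c * b + r) := by
  have h1 : 0 < c * r + b := by nlinarith
  have h2 : 0 < c * b + r := by nlinarith
  rw [div_add_div _ _ (by positivity) h1.ne', div_le_div_iff₀ (by positivity) h2]
  have h3 : 0 ≤ r * ((c - 1) * b * (b - r)) :=
    mul_nonneg hr.le (mul_nonneg (mul_nonneg (by linarith) (by linarith)) (by linarith))
  nlinarith

theorem weighted_sum_le : ∀ (t a b : ℕ) (c : ℚ), 0 ≤ c → 0 < b → b ≤ a →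
    irem a b (t + 1) = 0 → (∀ i, 0 < i → i < t + 1 → irem a b i ≠ 0) →
    ∑ i ∈ range (t + 1), ((irem a b i : ℚ) - irem a b (i + 1)) /
        (c + ∑ j ∈ range (i + 1), (idiv a b (j + 1) : ℚ)) ≤ (b : ℚ) ^ 2 / (c * b + a) := by
  intro t
  induction t with
  | zero =>
    intro a b c hc hb hba h0 _
    simp only [zero_add, sum_range_one, h0, Nat.cast_zero, sub_zero, irem, idiv]
    obtain ⟨q, rfl⟩ : b ∣ a := Nat.dvd_of_mod_eq_zero (by simpa [irem] using h0)
    rw [Nat.mul_div_cancel_left _ hb]
    push_cast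
    apply le_of_eq
    have hb' : (0 : ℚ) < b := by exact_mod_cast hb
    rw [show c * (b : ℚ) + b * q = b * (c + q) by ring, sq, mul_div_mul_left _ _ hb'.ne']
    simp
  | succ t ih =>
    intro a b c hc hb hba h0 hmin
    have hr : a % b ≠ 0 := by simpa [irem] using hmin 1 (by omega) (by omega)
    have hlt : a % b < b := Nat.mod_lt _ hb
    set q := a / b
    have hq : 1 ≤ q := Nat.div_pos hba hb
    have h := ih b (a % b) (c + q) (by positivity) (by omega) hlt.le
      (by rw [← shift a b hr]; exact h0)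
      (fun i hi hit => by rw [← shift a b hr]; exact hmin (i + 1) (by omega) (by omega))
    rw [sum_range_succ']
    have e : ∀ i, ((irem a b (i + 1) : ℚ) - irem a b (i + 1 + 1)) /
        (c + ∑ j ∈ range (i + 1 + 1), (idiv a b (j + 1) : ℚ)) =
        ((irem b (a % b) i : ℚ) - irem b (a % b) (i + 1)) /
        (c + (q : ℚ) + ∑ j ∈ range (i + 1), (idiv b (a % b) (j + 1) : ℚ)) := by
      intro i
      rw [shift a b hr, shift a b hr, sum_range_succ' (n := i + 1),
        sum_congr rfl fun j _ => congrArg (fun x : ℕ => (x : ℚ)) (shift_idiv a b hr j)]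
      congr 1
      simp only [zero_add, idiv]
      ring
    simp only [e, zero_add, sum_range_one]
    rw [show idiv a b 1 = q by simp [idiv, q], show irem a b 1 = a % b by simp [irem],
      show irem a b 0 = b by simp [irem]]
    have ha : (a : ℚ) = b * q + (a % b : ℕ) := by exact_mod_cast (Nat.div_add_mod a b).symm
    have := step_ineq (c := c + q) (b := b) (r := (a % b : ℕ))
      (by have : (1 : ℚ) ≤ q := by exact_mod_cast hq
          linarith)
      (by exact_mod_cast Nat.pos_of_ne_zero hr) (by exact_mod_cast hlt)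
    rw [ha, show c * (b : ℚ) + (b * q + (a % b : ℕ)) = (c + q) * b + (a % b : ℕ) by ring]
    linarith

theorem three_term {q p r s k N : ℚ} (hq : 2 ≤ q) (hp : 1 ≤ p) (hs : 0 < s) (hsr : s < r)
    (hk : k = p * r + s) (hN : N = q * k + r) :
    (k - r) / q + (r - s) / (q + p) + s / (q + p + 1) ≤ k ^ 2 / N := by
  have hr : 0 < r := hs.trans hsr
  have hqp : 0 < q * p + 1 := by nlinarith
  have hk0 : 0 < k := by nlinarith
  have hN0 : 0 < N := by nlinarith
  have e : k ^ 2 / N - (k - r) / q = r / q * (1 - k / N) := by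
    subst hN
    field_simp
    ring
  have i1 : k / N ≤ p / (q * p + 1) + s / ((q * p + 1) ^ 2 * r) := by
    have h : k / N - p / (q * p + 1) = s / ((q * p + 1) * N) := by
      rw [div_sub_div _ _ hN0.ne' hqp.ne', mul_comm N]
      congr 1
      · rw [hN, hk]; ring
      · ring
    have hNr : (q * p + 1) * r ≤ N := by rw [hN, hk]; nlinarith
    have : s / ((q * p + 1) * N) ≤ s / ((q * p + 1) ^ 2 * r) := by
      apply div_le_div_of_nonneg_left hs.le (by positivity)
      rw [sq, mul_assoc]
      exact mul_le_mul_of_nonneg_left hNr hqp.le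
    linarith
  have i2 : r / (q + p) ≤ r / q * (1 - p / (q * p + 1)) := by
    rw [one_sub_div hqp.ne', div_mul_div_comm, div_le_div_iff₀ (by linarith) (by positivity)]
    have h' : 0 ≤ r * ((q - 1) * p * (p - 1)) :=
      mul_nonneg hr.le (mul_nonneg (mul_nonneg (by linarith) (by linarith)) (by linarith))
    nlinarith
  have i3 : r / q * (s / ((q * p + 1) ^ 2 * r)) ≤ s / (q + p) - s / (q + p + 1) := by
    rw [show r / q * (s / ((q * p + 1) ^ 2 * r)) = s / (q * (q * p + 1) ^ 2) by field_simp,
      div_sub_div _ _ (by linarith : q + p ≠ 0) (by linarith : q + p + 1 ≠ 0),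
      show s * (q + p + 1) - (q + p) * s = s by ring]
    have a1 : q + p ≤ q * p + 1 := by nlinarith
    have a2 : q + p + 1 ≤ q * (q * p + 1) := by nlinarith
    apply div_le_div_of_nonneg_left hs.le (mul_pos (by linarith) (by linarith))
    calc (q + p) * (q + p + 1) ≤ (q * p + 1) * (q * (q * p + 1)) :=
          mul_le_mul a1 a2 (by linarith) hqp.le
      _ = q * (q * p + 1) ^ 2 := by ring
  have i4 : r / q * (1 - p / (q * p + 1)) - r / q * (s / ((q * p + 1) ^ 2 * r)) ≤
      r / q * (1 - k / N) := by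
    rw [← mul_sub]
    exact mul_le_mul_of_nonneg_left (by linarith) (div_nonneg hr.le (by linarith))
  rw [sub_div r s]
  linarith

end Groth.Agent.CAlgH3.STCIEuclid
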