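import Groth.Agent.CommAlg6.SerreOne
import Groth.Agent.CommAlg6.SerreOpen
import Groth.Agent.CAlgH3.Depth
import Mathlib

/-! `(S_k)` iff quotients by regular sequences of length `< k` on basic opens have no embedded primes. -/

set_option autoImplicit false
set_option linter.style.haveILetI false
universe u

open IsLocalRing RingTheory.Sequence

namespace Groth.Agent.CAlgH3.SkEmbedded

section localisation

variable {R : Type u} [CommRing R] {M : Type u} [AddCommGroup M] [Module R M]

theorem localized_ofList_smul_top (T : Submonoid R) (rs : List R) :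
    (Ideal.ofList rs • (⊤ : Submodule R M)).localized T =
      Ideal.ofList (rs.map (algebraMap R (Localization T))) • ⊤ := by
  apply Submodule.restrictScalars_injective R
  rw [← Ideal.map_ofList, Ideal.smul_restrictScalars, Submodule.restrictScalars_top]
  show (Ideal.ofList rs • (⊤ : Submodule R M)).localized₀ T _ = _
  rw [Submodule.localized₀_smul, Submodule.localized₀_top]

theorem localizedQuotient (T : Submonoid R) (rs : List R) :
    Nonempty (LocalizedModule T (M ⧸ Ideal.ofList rs • (⊤ : Submodule R M)) ≃ₗ[Localization T]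
      (LocalizedModule T M ⧸ Ideal.ofList (rs.map (algebraMap R (Localization T))) •
        (⊤ : Submodule (Localization T) (LocalizedModule T M)))) :=
  ⟨(localizedQuotientEquiv T _).symm.trans (Submodule.quotEquivOfEq _ _ (localized_ofList_smul_top T rs))⟩

theorem localized_localized [Module.Finite R M] (T : Submonoid R) (P : Ideal (Localization T)) [P.IsPrime] :
    Module.supportDim (Localization.AtPrime P) (LocalizedModule P.primeCompl (LocalizedModule T M)) =
      Module.supportDim (Localization.AtPrime (P.under R)) (LocalizedModule (P.under R).primeCompl M) ∧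
    _root_.LocCoh.depth (Localization.AtPrime P) (LocalizedModule P.primeCompl (LocalizedModule T M)) =
      _root_.LocCoh.depth (Localization.AtPrime (P.under R)) (LocalizedModule (P.under R).primeCompl M) := by
  let p := P.under R
  let RT := Localization T
  let B := Localization.AtPrime P
  let Rp := Localization.AtPrime p
  let N := LocalizedModule P.primeCompl (LocalizedModule T M)
  haveI : IsLocalization p.primeCompl B :=
    IsLocalization.isLocalization_isLocalization_atPrime_isLocalization (R := R) (M := T) B P
  let f : M →ₗ[R] N :=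
    ((LocalizedModule.mkLinearMap P.primeCompl (LocalizedModule T M)).restrictScalars R).comp
      (LocalizedModule.mkLinearMap T M)
  haveI : IsLocalizedModule p.primeCompl f := by
    rw [isLocalizedModule_iff_isBaseChange p.primeCompl B]
    exact IsBaseChange.comp (IsLocalizedModule.isBaseChange T RT _)
      (IsLocalizedModule.isBaseChange P.primeCompl B _)
  let g : Rp ≃ₐ[R] B := IsLocalization.algEquiv p.primeCompl Rp B
  letI : Algebra Rp B := g.toAlgHom.toRingHom.toAlgebra
  letI : Module Rp N := Module.compHom N (algebraMap Rp B)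
  haveI : IsScalarTower Rp B N := .of_algebraMap_smul fun _ _ => rfl
  haveI : IsScalarTower R Rp N := .of_algebraMap_smul fun r x => by
    show g (algebraMap R Rp r) • x = r • x
    rw [AlgEquiv.commutes, algebraMap_smul]
  let e : LocalizedModule p.primeCompl M ≃ₗ[Rp] N :=
    (IsLocalizedModule.linearEquiv p.primeCompl (LocalizedModule.mkLinearMap p.primeCompl M)
      f).extendScalarsOfIsLocalization p.primeCompl Rp
  have hsurj : Function.Surjective (algebraMap Rp B) := g.surjective
  refine ⟨?_, ?_⟩
  · rw [Module.supportDim_eq_of_equiv e, ← CommAlg6.supportDim_of_surjective hsurj N]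
  · rw [CAlgH3.depth_congr e, CAlgH3.depth_of_surjective hsurj N]

end localisation

section local_ring

variable {R : Type u} [CommRing R] [IsLocalRing R] [IsNoetherianRing R]

theorem depth_quotient_add_length (rs : List R) :
    ∀ (M : Type u) [AddCommGroup M] [Module R M] [Module.Finite R M], IsWeaklyRegular M rs →
      (∀ r ∈ rs, r ∈ maximalIdeal R) →
      _root_.LocCoh.depth R (M ⧸ Ideal.ofList rs • (⊤ : Submodule R M)) + rs.length = _root_.LocCoh.depth R M := by
  induction rs with
  | nil =>
    intro M _ _ _ _ _
    rw [List.length_nil, Nat.cast_zero, add_zero]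
    exact depth_congr (Submodule.quotEquivOfEqBot _ (by rw [Ideal.ofList_nil, Submodule.bot_smul]))
  | cons x rs ih =>
    intro M _ _ _ hreg hm
    obtain ⟨hx, hrs⟩ := (isWeaklyRegular_cons_iff M x rs).1 hreg
    rw [depth_congr (Submodule.quotOfListConsSMulTopEquivQuotSMulTopInner M x rs), List.length_cons,
      Nat.cast_succ, ← add_assoc, ih _ hrs fun r hr => hm r (List.mem_cons_of_mem _ hr),
      depth_quotSMulTop_add_one (hm x List.mem_cons_self) hx]

theorem supportDim_quotient_add_length (rs : List R) (M : Type u) [AddCommGroup M] [Module R M]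
    [Module.Finite R M] [Nontrivial M] (h : IsWeaklyRegular M rs) (hm : ∀ r ∈ rs, r ∈ maximalIdeal R) :
    Module.supportDim R (M ⧸ Ideal.ofList rs • (⊤ : Submodule R M)) + rs.length = Module.supportDim R M :=
  Module.supportDim_add_length_eq_supportDim_of_isRegular rs
    ((IsLocalRing.isRegular_iff_isWeaklyRegular_of_subset_maximalIdeal hm).2 h)

end local_ring

section prime

variable {R : Type u} [CommRing R] [IsNoetherianRing R] {M : Type u} [AddCommGroup M] [Module R M]
  [Module.Finite R M]

/-- Quotient by a weakly regular sequence inside `p`, seen at `p`. -/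
theorem at_prime_quotient (p : Ideal R) [p.IsPrime] (rs : List R) (h : IsWeaklyRegular M rs)
    (hp : ∀ r ∈ rs, r ∈ p) :
    _root_.LocCoh.depth (Localization.AtPrime p)
        (LocalizedModule p.primeCompl (M ⧸ Ideal.ofList rs • (⊤ : Submodule R M))) + rs.length =
      _root_.LocCoh.depth (Localization.AtPrime p) (LocalizedModule p.primeCompl M) ∧
    (Nontrivial (LocalizedModule p.primeCompl M) →
      Module.supportDim (Localization.AtPrime p)
          (LocalizedModule p.primeCompl (M ⧸ Ideal.ofList rs • (⊤ : Submodule R M))) + rs.length =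
        Module.supportDim (Localization.AtPrime p) (LocalizedModule p.primeCompl M)) := by
  obtain ⟨e⟩ := localizedQuotient (M := M) p.primeCompl rs
  have hreg := h.of_isLocalizedModule (Localization.AtPrime p) p.primeCompl
    (LocalizedModule.mkLinearMap p.primeCompl M)
  have hm : ∀ r ∈ rs.map (algebraMap R (Localization.AtPrime p)), r ∈ maximalIdeal _ := by
    intro r hr
    obtain ⟨a, ha, rfl⟩ := List.mem_map.1 hr
    exact (IsLocalization.AtPrime.to_map_mem_maximal_iff (Localization.AtPrime p) p a).2 (hp a ha)
  refine ⟨?_, fun _ => ?_⟩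
  · rw [depth_congr e]
    have := depth_quotient_add_length _ (LocalizedModule p.primeCompl M) hreg hm
    rwa [List.length_map] at this
  · rw [Module.supportDim_eq_of_equiv e]
    have := supportDim_quotient_add_length _ (LocalizedModule p.primeCompl M) hreg hm
    rwa [List.length_map] at this

theorem exists_seq (p : Ideal R) [p.IsPrime] [Nontrivial (LocalizedModule p.primeCompl M)] (j : ℕ)
    (hj : (j : ℕ∞) ≤ _root_.LocCoh.depth (Localization.AtPrime p) (LocalizedModule p.primeCompl M)) :
    ∃ rs : List R, rs.length = j ∧ (∀ r ∈ rs, r ∈ p) ∧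
      IsWeaklyRegular (LocalizedModule p.primeCompl M) (rs.map (algebraMap R (Localization.AtPrime p))) := by
  induction j with
  | zero => exact ⟨[], rfl, by simp, by simp⟩
  | succ j ih =>
    obtain ⟨rs, hlen, hp, hreg⟩ := ih (le_trans (by exact_mod_cast j.le_succ) hj)
    have hm : ∀ r ∈ rs.map (algebraMap R (Localization.AtPrime p)), r ∈ maximalIdeal _ := by
      intro r hr
      obtain ⟨a, ha, rfl⟩ := List.mem_map.1 hr
      exact (IsLocalization.AtPrime.to_map_mem_maximal_iff (Localization.AtPrime p) p a).2 (hp a ha)
    let rs' := rs.map (algebraMap R (Localization.AtPrime p))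
    let Q := LocalizedModule p.primeCompl M ⧸ Ideal.ofList rs' •
      (⊤ : Submodule (Localization.AtPrime p) (LocalizedModule p.primeCompl M))
    have hd : _root_.LocCoh.depth (Localization.AtPrime p) Q + j =
        _root_.LocCoh.depth (Localization.AtPrime p) (LocalizedModule p.primeCompl M) := by
      have := depth_quotient_add_length _ (LocalizedModule p.primeCompl M) hreg hm
      rwa [List.length_map, hlen] at this
    haveI : Nontrivial Q := Submodule.Quotient.nontrivial_iff.2 fun h =>
      ((IsLocalRing.isRegular_iff_isWeaklyRegular_of_subset_maximalIdeal hm).2 hreg).top_ne_smul h.symm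
    have h1 : 1 ≤ _root_.LocCoh.depth (Localization.AtPrime p) Q := by
      by_contra hlt
      rw [Order.lt_one_iff.1 (not_le.1 hlt), zero_add] at hd
      rw [← hd] at hj
      exact absurd (Nat.cast_le.1 hj) (Nat.not_succ_le_self j)
    obtain ⟨x, hx, hxreg⟩ := exists_regular_of_one_le_depth h1
    obtain ⟨⟨a, s⟩, rfl⟩ := IsLocalization.mk'_surjective p.primeCompl x |>.imp' id fun _ h => h
    have ha : a ∈ p := (IsLocalization.AtPrime.mk'_mem_maximal_iff (Localization.AtPrime p) p a s).1 hx
    refine ⟨rs ++ [a], by simp [hlen], by simpa [or_imp, forall_and] using ⟨hp, ha⟩, ?_⟩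
    rw [List.map_append, isWeaklyRegular_append_iff]
    refine ⟨hreg, ?_⟩
    rw [List.map_singleton, isWeaklyRegular_singleton_iff]
    have : algebraMap R (Localization.AtPrime p) a =
        algebraMap R _ (s : R) * IsLocalization.mk' (Localization.AtPrime p) a s := by
      rw [IsLocalization.mk'_spec']
    rw [this]
    exact IsSMulRegular.mul (IsUnit.isSMulRegular _ (IsLocalization.map_units _ s)) hxreg

theorem exists_kill (p : Ideal R) [p.IsPrime] (N : Submodule R M)
    (h : ∀ x ∈ N, ∃ s ∉ p, s • x = 0) : ∃ g ∉ p, ∀ x ∈ N, g • x = 0 := by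
  classical
  obtain ⟨t, ht⟩ := IsNoetherian.noetherian N
  have hs : ∀ x : t, ∃ s ∉ p, s • (x : M) = 0 := fun x => h x (ht ▸ Submodule.subset_span x.2)
  choose s hsp hs0 using hs
  refine ⟨∏ x : t, s x, fun hmem => ?_, fun x hx => ?_⟩
  · obtain ⟨x, -, hx⟩ := (Ideal.IsPrime.prod_mem_iff).1 hmem
    exact hsp x hx
  · rw [← ht] at hx
    induction hx using Submodule.span_induction with
    | mem x hx =>
      obtain ⟨c, hc⟩ := Finset.dvd_prod_of_mem s (Finset.mem_univ ⟨x, hx⟩)
      rw [hc, mul_comm, mul_smul, hs0 ⟨x, hx⟩, smul_zero]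
    | zero => exact smul_zero _
    | add x y _ _ hx hy => rw [smul_add, hx, hy, add_zero]
    | smul r x _ hx => rw [smul_comm, hx, smul_zero]

/-- A sequence weakly regular at `p` is weakly regular on a basic open around `p`. -/
theorem exists_spread (p : Ideal R) [p.IsPrime] (rs : List R)
    (h : IsWeaklyRegular (LocalizedModule p.primeCompl M) (rs.map (algebraMap R (Localization.AtPrime p)))) :
    ∃ g ∉ p, IsWeaklyRegular (LocalizedModule (Submonoid.powers g) M)
      (rs.map (algebraMap R (Localization.Away g))) := by
  classical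
  have hloc : ∀ i : Fin rs.length, ∃ g ∉ p, ∀ x : M ⧸ Ideal.ofList (rs.take i) • (⊤ : Submodule R M),
      rs[i] • x = 0 → g • x = 0 := by
    intro i
    let N := M ⧸ Ideal.ofList (rs.take i) • (⊤ : Submodule R M)
    obtain ⟨e⟩ := localizedQuotient (M := M) p.primeCompl (rs.take i)
    have hi := ((isWeaklyRegular_iff_Fin _ _).1 h) ⟨i, by simp⟩
    simp only [Fin.getElem_fin, List.get_eq_getElem, List.getElem_map] at hi ⊢
    rw [← List.map_take] at hi
    have hinj : IsSMulRegular (LocalizedModule p.primeCompl N) (algebraMap R (Localization.AtPrime p) rs[i]) :=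
      (e.isSMulRegular_congr _).2 hi
    obtain ⟨g, hg, hk⟩ := exists_kill p (LinearMap.ker (LinearMap.lsmul R N rs[i])) fun x hx => by
      have h0 : LocalizedModule.mkLinearMap p.primeCompl N x = 0 := by
        apply hinj.right_eq_zero_of_smul
        rw [algebraMap_smul, ← map_smul, show rs[i] • x = 0 from hx, map_zero]
      obtain ⟨s, hs⟩ := (IsLocalizedModule.eq_zero_iff p.primeCompl _).1 h0
      exact ⟨s, s.2, hs⟩
    exact ⟨g, hg, fun x hx => hk x hx⟩
  choose g hgp hg using hloc
  refine ⟨∏ i, g i, fun hmem => ?_, ?_⟩
  · obtain ⟨i, -, hi⟩ := (Ideal.IsPrime.prod_mem_iff).1 hmem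
    exact hgp i hi
  rw [isWeaklyRegular_iff_Fin]
  rintro ⟨i, hi⟩
  rw [List.length_map] at hi
  simp only [Fin.getElem_fin, List.get_eq_getElem, List.getElem_map]
  rw [← List.map_take]
  let T := Submonoid.powers (∏ i, g i)
  obtain ⟨e⟩ := localizedQuotient (M := M) T (rs.take i)
  refine (e.isSMulRegular_congr _).1 (IsSMulRegular.of_right_eq_zero_of_smul fun y hy => ?_)
  induction y using LocalizedModule.induction_on with
  | _ n s =>
    rw [algebraMap_smul, LocalizedModule.smul'_mk, IsLocalizedModule.mk_eq_mk'] at hy
    obtain ⟨u, hu⟩ := (IsLocalizedModule.mk'_eq_zero' _ _).1 hy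
    have h1 : g ⟨i, hi⟩ • ((u : R) • n) = 0 := hg ⟨i, hi⟩ _ (by
      show rs[i] • ((u : R) • n) = 0
      rw [smul_comm]; exact hu)
    obtain ⟨c, hc⟩ := Finset.dvd_prod_of_mem g (Finset.mem_univ ⟨i, hi⟩)
    have h2 : ((⟨_, Submonoid.mem_powers _⟩ * u : T) : R) • n = 0 := by
      show ((∏ i, g i) * (u : R)) • n = 0
      rw [hc, mul_comm (g ⟨i, hi⟩) c, mul_assoc, mul_smul, mul_smul, h1, smul_zero]
    rw [IsLocalizedModule.mk_eq_mk']
    exact (IsLocalizedModule.mk'_eq_zero' _ _).2 ⟨_, h2⟩

theorem supportDim_le_zero_of_not_embedded (p : Ideal R) [p.IsPrime] (hp : p ∈ associatedPrimes R M)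
    (h : ∀ q ∈ associatedPrimes R M, q ≤ p → q = p) :
    Module.supportDim (Localization.AtPrime p) (LocalizedModule p.primeCompl M) ≤ 0 := by
  rw [CommAlg6.supportDim_localized_le_zero_iff]
  intro r hr hrp
  rw [Module.support_eq_zeroLocus, PrimeSpectrum.mem_zeroLocus, SetLike.coe_subset_coe] at hr
  obtain ⟨q, hq, hqr⟩ := Ideal.exists_minimalPrimes_le hr
  exact le_antisymm hrp
    ((h q (Module.associatedPrimes.minimalPrimes_annihilator_subset_associatedPrimes R M hq)
      (hqr.trans hrp)).ge.trans hqr)

end prime

variable {A : Type u} [CommRing A] [IsNoetherianRing A] {M : Type u} [AddCommGroup M] [Module A M]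
  [Module.Finite A M]

theorem no_embedded {k : ℕ} (hS : _root_.LocCoh.HasSk k A M) (rs : List A) (hlen : rs.length < k)
    (hreg : IsWeaklyRegular M rs) {p q : Ideal A}
    (hp : p ∈ associatedPrimes A (M ⧸ Ideal.ofList rs • (⊤ : Submodule A M)))
    (hq : q ∈ associatedPrimes A (M ⧸ Ideal.ofList rs • (⊤ : Submodule A M))) (hpq : p ≤ q) : p = q := by
  haveI := IsAssociatedPrime.isPrime hq
  haveI := IsAssociatedPrime.isPrime hp
  let Q := M ⧸ Ideal.ofList rs • (⊤ : Submodule A M)
  have hrq : ∀ r ∈ rs, r ∈ q := fun r hr => by
    apply IsAssociatedPrime.annihilator_le hq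
    rw [Submodule.mem_annihilator]
    rintro y -
    induction y using Submodule.Quotient.induction_on with
    | _ y =>
      rw [← Submodule.Quotient.mk_smul, Submodule.Quotient.mk_eq_zero]
      exact Submodule.smul_mem_smul (Ideal.subset_span hr) Submodule.mem_top
  obtain ⟨hd, hs⟩ := at_prime_quotient q rs hreg hrq
  have hd0 : _root_.LocCoh.depth (Localization.AtPrime q) (LocalizedModule q.primeCompl Q) = 0 := by
    by_contra hne
    exact ((CommAlg6.one_le_depth_localized_iff (M := Q) q).1 (ENat.one_le_iff_ne_zero.2 hne)) hq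
  rw [hd0, zero_add] at hd
  rcases subsingleton_or_nontrivial (LocalizedModule q.primeCompl M) with h0 | h0
  · rw [depth_eq_top_of_subsingleton] at hd
    exact absurd hd (ENat.coe_ne_top _)
  have hs := hs h0
  have hle := hS q
  rw [← hd] at hle
  have hsd : Module.supportDim (Localization.AtPrime q) (LocalizedModule q.primeCompl M) ≤ rs.length := by
    rcases min_le_iff.1 hle with h | h
    · exact absurd h (by exact_mod_cast not_le.2 hlen)
    · exact_mod_cast h
  have hz : Module.supportDim (Localization.AtPrime q) (LocalizedModule q.primeCompl Q) ≤ 0 := by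
    rw [← hs] at hsd
    generalize Module.supportDim (Localization.AtPrime q) (LocalizedModule q.primeCompl Q) = d at hsd ⊢
    induction d with
    | bot => exact bot_le
    | coe d =>
      induction d with
      | top =>
        have : (⊤ : ℕ∞) + rs.length ≤ rs.length := by exact_mod_cast hsd
        simp at this
      | coe d =>
        have : d + rs.length ≤ rs.length := by exact_mod_cast hsd
        have : d = 0 := by omega
        subst this; rfl
  exact (CommAlg6.supportDim_localized_le_zero_iff (M := Q) q).1 hz ⟨p, inferInstance⟩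
    (Module.mem_support_iff_of_finite.2 (Submodule.annihilator_top.symm.le.trans (IsAssociatedPrime.annihilator_le hp))) hpq

theorem hasSk_localization {k : ℕ} (hS : _root_.LocCoh.HasSk k A M) (T : Submonoid A) :
    _root_.LocCoh.HasSk k (Localization T) (LocalizedModule T M) := by
  intro P _
  obtain ⟨h1, h2⟩ := localized_localized (M := M) T P
  rw [h1, h2]
  exact hS (P.under A)

theorem hasSk_of_no_embedded {k : ℕ}
    (H : ∀ (g : A) (rs : List (Localization.Away g)), rs.length < k →
      IsWeaklyRegular (LocalizedModule (Submonoid.powers g) M) rs →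
      ∀ p ∈ associatedPrimes (Localization.Away g) (LocalizedModule (Submonoid.powers g) M ⧸
          (Ideal.ofList rs • (⊤ : Submodule (Localization.Away g) (LocalizedModule (Submonoid.powers g) M)))),
        ∀ q ∈ associatedPrimes (Localization.Away g) (LocalizedModule (Submonoid.powers g) M ⧸
          (Ideal.ofList rs • (⊤ : Submodule (Localization.Away g) (LocalizedModule (Submonoid.powers g) M)))),
          p ≤ q → p = q) :
    _root_.LocCoh.HasSk k A M := by
  intro p _
  rcases subsingleton_or_nontrivial (LocalizedModule p.primeCompl M) with h0 | h0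
  · exact (min_le_right _ _).trans ((Module.supportDim_eq_bot_of_subsingleton _ _).le.trans bot_le)
  obtain ⟨d, hd⟩ := exists_depth_eq_natCast (R := Localization.AtPrime p) (M := LocalizedModule p.primeCompl M)
  by_contra hlt
  rw [hd, not_le] at hlt
  have hdk : d < k := by exact_mod_cast hlt.trans_le (min_le_left _ _)
  obtain ⟨rs, hlen, hrp, hreg⟩ := exists_seq p d hd.ge
  obtain ⟨g, hgp, hregg⟩ := exists_spread p rs hreg
  let T := Submonoid.powers g
  have hdisj : Disjoint (T : Set A) (p : Set A) := (Ideal.disjoint_powers_iff_notMem g (Ideal.IsPrime.isRadical ‹_›)).2 hgp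
  let P : Ideal (Localization T) := p.map (algebraMap A (Localization T))
  haveI : P.IsPrime := IsLocalization.isPrime_of_isPrime_disjoint T _ p ‹_› hdisj
  have hPp : P.under A = p := IsLocalization.under_map_of_isPrime_disjoint T _ ‹_› hdisj
  obtain ⟨e1, e2⟩ := localized_localized (M := M) T P
  let rs' := rs.map (algebraMap A (Localization T))
  let Q := LocalizedModule T M ⧸ Ideal.ofList rs' • (⊤ : Submodule (Localization T) (LocalizedModule T M))
  obtain ⟨hqd, hqs⟩ := at_prime_quotient P rs' hregg fun r hr => by
    obtain ⟨a, ha, rfl⟩ := List.mem_map.1 hr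
    exact Ideal.mem_map_of_mem _ (hrp a ha)
  have key : ∀ (q : Ideal A) [q.IsPrime], q = p →
      _root_.LocCoh.depth (Localization.AtPrime q) (LocalizedModule q.primeCompl M) = d ∧
      Module.supportDim (Localization.AtPrime q) (LocalizedModule q.primeCompl M) =
        Module.supportDim (Localization.AtPrime p) (LocalizedModule p.primeCompl M) := by
    rintro q _ rfl; exact ⟨hd, rfl⟩
  have e2' : _root_.LocCoh.depth (Localization.AtPrime P) (LocalizedModule P.primeCompl (LocalizedModule T M)) = d := by
    rw [e2]; exact (key _ hPp).1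
  have e1' : Module.supportDim (Localization.AtPrime P) (LocalizedModule P.primeCompl (LocalizedModule T M)) =
      Module.supportDim (Localization.AtPrime p) (LocalizedModule p.primeCompl M) := by
    rw [e1]; exact (key _ hPp).2
  haveI hne : Nontrivial (LocalizedModule P.primeCompl (LocalizedModule T M)) := by
    rw [← not_subsingleton_iff_nontrivial]
    intro hsub
    rw [depth_eq_top_of_subsingleton] at e2'
    exact absurd e2'.symm (ENat.coe_ne_top d)
  have hlen' : rs'.length = d := by rw [List.length_map, hlen]
  rw [hlen', e2'] at hqd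
  have hq0 : _root_.LocCoh.depth (Localization.AtPrime P) (LocalizedModule P.primeCompl Q) = 0 := by
    generalize _root_.LocCoh.depth (Localization.AtPrime P) (LocalizedModule P.primeCompl Q) = x at hqd ⊢
    induction x with
    | top => simp at hqd
    | coe x =>
      have : x + d = d := by exact_mod_cast hqd
      exact_mod_cast (by omega : x = 0)
  have hass : P ∈ associatedPrimes (Localization T) Q := by
    by_contra hna
    have := (CommAlg6.one_le_depth_localized_iff (M := Q) P).2 hna
    rw [hq0] at this
    exact absurd this (by simp)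
  have hz := supportDim_le_zero_of_not_embedded (M := Q) P hass fun q hq hqP =>
    H g rs' (hlen'.trans_lt hdk) hregg q hq P hass hqP
  have hs := hqs hne
  rw [hlen', e1'] at hs
  have : Module.supportDim (Localization.AtPrime p) (LocalizedModule p.primeCompl M) ≤ d := by
    rw [← hs]
    calc _ ≤ (0 : WithBot ℕ∞) + (d : WithBot ℕ∞) := add_le_add hz le_rfl
      _ = _ := zero_add _
  exact absurd (hlt.trans_le (min_le_right _ _)) (not_lt.2 (by exact_mod_cast this))

end Groth.Agent.CAlgH3.SkEmbedded
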