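import Groth.Agent.DimLib.Algebra
import Mathlib

/-!
Small lemmas on field extensions, scaling invariant ideals and finite maps.
-/

set_option autoImplicit false
set_option linter.style.haveILetI false

universe u

open scoped TensorProduct

namespace Groth.Agent.CAlgH3.SmallFields

theorem adjoin_pthRoots_eq_top_iff {k k' : Type u} [Field k] [Field k'] [Algebra k k'] (p : ℕ) (hp : p.Prime) :
    IntermediateField.adjoin k {x : k' | ∃ n : ℕ, 0 < n ∧ x ^ (p ^ n) ∈ Set.range (algebraMap k k') ∧
        (p : k') ^ n * x ∈ Set.range (algebraMap k k')} = ⊤ ↔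
      (Function.Surjective (algebraMap k k') ∨ (CharP k p ∧ IsPurelyInseparable k k')) := by
  set S := {x : k' | ∃ n : ℕ, 0 < n ∧ x ^ (p ^ n) ∈ Set.range (algebraMap k k') ∧
    (p : k') ^ n * x ∈ Set.range (algebraMap k k')} with hS
  have hsurj : Function.Surjective (algebraMap k k') → IntermediateField.adjoin k S = ⊤ := fun h =>
    eq_top_iff.2 fun x _ => by
      obtain ⟨a, rfl⟩ := h x
      exact IntermediateField.algebraMap_mem _ a
  by_cases hc : (p : k) = 0
  · haveI : CharP k p := (CharP.charP_iff_prime_eq_zero hp).2 hc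
    haveI : ExpChar k p := ExpChar.prime hp
    have hc' : (p : k') = 0 := by rw [← map_natCast (algebraMap k k'), hc, map_zero]
    constructor
    · intro h
      refine Or.inr ⟨inferInstance, (isPurelyInseparable_iff_pow_mem k p).2 fun x => ?_⟩
      have hle : IntermediateField.adjoin k S ≤ perfectClosure k k' :=
        IntermediateField.adjoin_le_iff.2 fun y hy => by
          obtain ⟨n, -, hy, -⟩ := hy
          exact mem_perfectClosure_iff.2 ⟨n, by rwa [ringExpChar.eq k p]⟩
      obtain ⟨n, hn⟩ := mem_perfectClosure_iff.1 (hle (h ▸ IntermediateField.mem_top : x ∈ IntermediateField.adjoin k S))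
      rw [ringExpChar.eq k p] at hn
      exact ⟨n, hn⟩
    · rintro (h | ⟨-, h⟩)
      · exact hsurj h
      · refine eq_top_iff.2 fun x _ => IntermediateField.subset_adjoin k S ?_
        obtain ⟨n, a, ha⟩ := (isPurelyInseparable_iff_pow_mem k p).1 h x
        refine ⟨n + 1, Nat.succ_pos n, ⟨a ^ p, ?_⟩, ⟨0, ?_⟩⟩
        · rw [map_pow, ha, ← pow_mul, ← pow_succ]
        · rw [hc', zero_pow (Nat.succ_ne_zero n), zero_mul, map_zero]
  · constructor
    · intro h
      refine Or.inl fun x => ?_
      have hle : IntermediateField.adjoin k S ≤ ⊥ := IntermediateField.adjoin_le_iff.2 fun y hy => by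
        obtain ⟨n, -, -, a, ha⟩ := hy
        have hne : ((p : k') ^ n) ≠ 0 := pow_ne_zero n fun h0 => hc
          ((algebraMap k k').injective (by rw [map_natCast, h0, map_zero]))
        refine IntermediateField.mem_bot.2 ⟨a / (p : k) ^ n, ?_⟩
        rw [map_div₀, map_pow, map_natCast, ha, mul_div_cancel_left₀ _ hne]
      exact IntermediateField.mem_bot.1 (hle (h ▸ IntermediateField.mem_top : x ∈ IntermediateField.adjoin k S))
    · rintro (h | ⟨h, -⟩)
      · exact hsurj h
      · exact absurd (CharP.cast_eq_zero k p) hc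

/-- Separating functionals descend along a finite generically separating extension. -/
theorem exists_functional {R : Type u} [CommRing R] [IsDomain R] (K : Type u) [Field K] [Algebra R K]
    [IsFractionRing R K] {A B : Type u} [CommRing A] [CommRing B] [Algebra R A] [Algebra R B] [Algebra A B]
    [IsScalarTower R A B] [Module.Finite A B] (hA : ∀ a : A, a ≠ 0 → ∃ f : A →ₗ[R] R, f a ≠ 0)
    (hBK : ∀ b : B, b ≠ 0 → ∃ g : B →ₗ[A] A ⊗[R] K, g b ≠ 0) {b : B} (hb : b ≠ 0) :
    ∃ h : B →ₗ[R] R, h b ≠ 0 := by
  classical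
  obtain ⟨g, hg⟩ := hBK b hb
  let ι : A →ₗ[A] A ⊗[R] K :=
    { toFun := fun a => a ⊗ₜ 1
      map_add' := fun a c => TensorProduct.add_tmul a c 1
      map_smul' := fun a c => (TensorProduct.smul_tmul' a c (1 : K)).symm }
  have hA0 : ∀ (r : R) (a : A), r ≠ 0 → r • a = 0 → a = 0 := fun r a hr h => by
    by_contra ha
    obtain ⟨f, hf⟩ := hA a ha
    exact hf ((mul_eq_zero.1 (by rw [← smul_eq_mul, ← map_smul, h, map_zero])).resolve_left hr)
  let μ : A →ₗ[R] A ⊗[R] K := ι.restrictScalars R
  have hμ : μ = (TensorProduct.comm R K A).toLinearMap ∘ₗ TensorProduct.mk R K A 1 := LinearMap.ext fun a => rfl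
  haveI hloc : IsLocalizedModule (nonZeroDivisors R) μ := by
    haveI := (isLocalizedModule_iff_isBaseChange (nonZeroDivisors R) K (TensorProduct.mk R K A 1)).2
      (TensorProduct.isBaseChange R A K)
    rw [hμ]
    exact IsLocalizedModule.of_linearEquiv _ _ _
  obtain ⟨G, hG⟩ := Module.finite_def.1 (inferInstance : Module.Finite A B)
  choose c hc using fun x : B => IsLocalizedModule.surj (nonZeroDivisors R) μ (g x)
  let r : nonZeroDivisors R := ∏ x ∈ G, (c x).2
  have hrange : ∀ x : B, algebraMap R A (r : R) • g x ∈ LinearMap.range ι := by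
    intro x
    have hx : x ∈ Submodule.span A (G : Set B) := hG ▸ Submodule.mem_top
    induction hx using Submodule.span_induction with
    | mem y hy =>
      refine ⟨((∏ x ∈ G.erase y, (c x).2 : nonZeroDivisors R) : R) • (c y).1, ?_⟩
      have := hc y
      show μ (_ • (c y).1) = _
      rw [map_smul, ← this, algebraMap_smul, Submonoid.smul_def, smul_smul, ← Submonoid.coe_mul,
        Finset.prod_erase_mul G (fun x => (c x).2) hy]
    | zero => rw [map_zero, smul_zero]; exact zero_mem _
    | add y z _ _ hy hz => rw [map_add, smul_add]; exact add_mem hy hz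
    | smul a y _ hy => rw [map_smul, smul_comm]; exact Submodule.smul_mem _ a hy
  have hι : Function.Injective ι := (injective_iff_map_eq_zero ι).2 fun a ha => by
    obtain ⟨s, hs⟩ := (IsLocalizedModule.eq_zero_iff (nonZeroDivisors R) μ).1 ha
    exact hA0 s a (nonZeroDivisors.ne_zero s.2) hs
  let g' : B →ₗ[A] A := (LinearEquiv.ofInjective ι hι).symm.toLinearMap ∘ₗ
    LinearMap.codRestrict (LinearMap.range ι) (algebraMap R A (r : R) • g) hrange
  have hg' : g' b ≠ 0 := fun h => by
    have h2 : algebraMap R A (r : R) • g b = 0 := by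
      have h3 := congrArg (fun z => ((LinearEquiv.ofInjective ι hι) z : A ⊗[R] K)) h
      simpa [g'] using h3
    rw [algebraMap_smul] at h2
    exact hg (IsLocalizedModule.smul_injective μ r (show r • g b = r • (0 : A ⊗[R] K) by rw [smul_zero]; exact h2))
  obtain ⟨f, hf⟩ := hA _ hg'
  exact ⟨f ∘ₗ g'.restrictScalars R, hf⟩

/-- A scaling invariant ideal meeting a point meets the origin. -/
theorem exists_maximal_X_mem {k : Type u} [Field k] [IsAlgClosed k] {A : Type u} [CommRing A] [Algebra k A] (α : k)
    (M : Ideal (Polynomial A)) (hM : M.IsMaximal) (hα : Polynomial.X - Polynomial.C (algebraMap k A α) ∈ M)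
    (I : Ideal (Polynomial A)) (hIM : I ≤ M)
    (hI : ∀ c : kˣ, (I.map (Polynomial.aeval (R := A)
      (algebraMap k A (c : k) • (Polynomial.X : Polynomial A)))).radical = I.radical) :
    ∃ N : Ideal (Polynomial A), N.IsMaximal ∧ I ≤ N ∧ Polynomial.X ∈ N := by
  by_cases h0 : α = 0
  · exact ⟨M, hM, hIM, by simpa [h0] using hα⟩
  let m0 : Ideal A := M.comap Polynomial.C
  have hMmem : ∀ f : Polynomial A, f ∈ M → f.eval (algebraMap k A α) ∈ m0 := fun f hf => by
    show Polynomial.C (f.eval (algebraMap k A α)) ∈ M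
    have h1 : f - Polynomial.C (f.eval (algebraMap k A α)) ∈ M := by
      obtain ⟨q, hq⟩ := Polynomial.X_sub_C_dvd_sub_C_eval (a := algebraMap k A α) (p := f)
      rw [hq]
      exact Ideal.mul_mem_right _ _ hα
    simpa using sub_mem hf h1
  haveI hm0 : m0.IsMaximal := by
    have hsurj : Function.Surjective ((Ideal.Quotient.mk M).comp Polynomial.C) := fun z => by
      obtain ⟨f, rfl⟩ := Ideal.Quotient.mk_surjective z
      refine ⟨f.eval (algebraMap k A α), Eq.symm (Ideal.Quotient.eq.2 ?_)⟩
      obtain ⟨q, hq⟩ := Polynomial.X_sub_C_dvd_sub_C_eval (a := algebraMap k A α) (p := f)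
      rw [hq]
      exact Ideal.mul_mem_right _ _ hα
    letI := Ideal.Quotient.field M
    have := RingHom.ker_isMaximal_of_surjective (R := A) _ (K := Polynomial A ⧸ M) hsurj
    have e : RingHom.ker ((Ideal.Quotient.mk M).comp Polynomial.C) = m0 :=
      Ideal.ext fun x => Ideal.Quotient.eq_zero_iff_mem
    exact e ▸ this
  letI := Ideal.Quotient.field m0
  let π := Ideal.Quotient.mk m0
  refine ⟨RingHom.ker (π.comp (Polynomial.evalRingHom 0)),
    RingHom.ker_isMaximal_of_surjective _ (Ideal.Quotient.mk_surjective.comp fun a => ⟨Polynomial.C a, by simp⟩),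
    fun f hf => ?_, by simp [RingHom.mem_ker]⟩
  have hz : ∀ c : kˣ, (f.map π).eval (π (algebraMap k A ((c : k) * α))) = 0 := fun c => by
    have h1 : Polynomial.aeval (R := A) (algebraMap k A (c : k) • (Polynomial.X : Polynomial A)) f ∈ M := by
      have h2 : Polynomial.aeval (R := A) (algebraMap k A (c : k) • (Polynomial.X : Polynomial A)) f ∈ I.radical :=
        hI c ▸ Ideal.le_radical (Ideal.mem_map_of_mem _ hf)
      exact hM.isPrime.radical_le_iff.2 hIM h2
    have h3 := hMmem _ h1
    rw [← Polynomial.coe_evalRingHom, Polynomial.aeval_def, Polynomial.hom_eval₂] at h3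
    rw [Polynomial.eval_map, Polynomial.eval₂_hom]
    refine Ideal.Quotient.eq_zero_iff_mem.2 ?_
    convert h3 using 1
    have e : (Polynomial.evalRingHom (algebraMap k A α)).comp (algebraMap A (Polynomial A)) = RingHom.id A :=
      RingHom.ext fun x => by simp
    rw [e]
    simp [Polynomial.eval₂_eq_eval_map, smul_eq_mul, Algebra.smul_def]
  have hinj : Function.Injective fun c : kˣ => π (algebraMap k A ((c : k) * α)) := fun c d h =>
    Units.ext (mul_right_cancel₀ h0 ((π.comp (algebraMap k A)).injective h))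
  have hf0 : f.map π = 0 := by
    haveI : Infinite kˣ := (unitsEquivNeZero (G₀ := k)).infinite_iff.2
      ((Set.finite_singleton (0 : k)).infinite_compl.to_subtype)
    exact Polynomial.eq_zero_of_infinite_isRoot _ ((Set.infinite_range_of_injective hinj).mono (by
      rintro _ ⟨c, rfl⟩; exact hz c))
  show π (f.eval 0) = 0
  rw [← Polynomial.eval₂_hom, ← Polynomial.eval_map, hf0, map_zero, Polynomial.eval_zero]

theorem ringKrullDim_quot_eq {S A : Type u} [CommRing S] [CommRing A] [Algebra S A] [Algebra.IsIntegral S A]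
    (p : Ideal A) : ringKrullDim (A ⧸ p) = ringKrullDim (S ⧸ p.comap (algebraMap S A)) :=
  Groth.Agent.DimLib.ringKrullDim_eq_of_isIntegral Ideal.quotientMap_injective |>.symm

theorem comap_eq_bot {S A : Type u} [CommRing S] [IsDomain S] [CommRing A] [Algebra S A]
    [Algebra.IsIntegral S A] (p : Ideal A) {r : ℕ} (hS : ringKrullDim S = r) (hdim : ringKrullDim (A ⧸ p) = r) :
    p.comap (algebraMap S A) = ⊥ := by
  by_contra hne
  obtain ⟨a, ha, ha0⟩ := (Submodule.ne_bot_iff _).1 hne
  have h2 : ringKrullDim (S ⧸ p.comap (algebraMap S A)) + 1 ≤ ringKrullDim S :=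
    (add_le_add_left (ringKrullDim_le_of_surjective (Ideal.Quotient.factor
      ((Ideal.span_singleton_le_iff_mem _).2 ha)) (Ideal.Quotient.factor_surjective _)) 1).trans
      (ringKrullDim_quotient_succ_le_of_nonZeroDivisor (mem_nonZeroDivisors_of_ne_zero ha0))
  rw [← ringKrullDim_quot_eq p, hdim, hS] at h2
  have h3 : (((r + 1 : ℕ) : ℕ∞) : WithBot ℕ∞) ≤ ((r : ℕ∞) : WithBot ℕ∞) := by simpa using h2
  have := ENat.coe_le_coe.1 (WithBot.coe_le_coe.1 h3)
  omega

/-- A finite map hitting all dimensions has primes over every prime on each component. -/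
theorem exists_prime_over (k : Type u) [Field k] (r : ℕ) {A : Type u} [CommRing A] [Algebra k A]
    (φ : MvPolynomial (Fin r) k →ₐ[k] A) (hφ : φ.toRingHom.Finite) (p : Ideal A) [p.IsPrime]
    (hdim : ringKrullDim (A ⧸ p) = r) (q : Ideal (MvPolynomial (Fin r) k)) [q.IsPrime] :
    ∃ P : Ideal A, P.IsPrime ∧ p ≤ P ∧ P.comap φ.toRingHom = q := by
  letI := φ.toRingHom.toAlgebra
  haveI : Module.Finite (MvPolynomial (Fin r) k) A := hφ
  have hS : ringKrullDim (MvPolynomial (Fin r) k) = r := by
    rw [MvPolynomial.ringKrullDim_of_isNoetherianRing, ringKrullDim_eq_zero_of_field, zero_add]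
    simp
  obtain ⟨P, hle, hP, hPq⟩ := Ideal.exists_ideal_over_prime_of_isIntegral q p
    ((comap_eq_bot p hS hdim).trans_le bot_le)
  exact ⟨P, hP, hle, hPq⟩

end Groth.Agent.CAlgH3.SmallFields
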