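import Groth.Prelude.Def_MoreMor
import Groth.Agent.CAlgH3.SmoothArtinLength
import Groth.Agent.FlatMorGeom.FormallySmoothHom
import Mathlib

/-!
Lengths at generic points along a flat formally smooth morphism.
-/

set_option autoImplicit false

universe u

open CategoryTheory AlgebraicGeometry

namespace Groth.Agent.CAlgH3.SmoothArtinStalk

theorem isArtinianRing_stalk_genericPoint (X : Scheme.{u}) [IrreducibleSpace X] [IsLocallyNoetherian X] :
    IsArtinianRing (X.presheaf.stalk (genericPoint X)) := by
  have hsub : Subsingleton (Spec (X.presheaf.stalk (genericPoint X))) := ⟨fun a b => by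
    refine (X.fromSpecStalk (genericPoint X)).isEmbedding.injective ?_
    have key : ∀ c, X.fromSpecStalk (genericPoint X) c = genericPoint X := fun c => by
      have h1 : X.fromSpecStalk (genericPoint X) c ∈ {y | y ⤳ genericPoint X} := by
        rw [← Scheme.range_fromSpecStalk]
        exact ⟨c, rfl⟩
      exact (h1.antisymm ((genericPoint_spec X).specializes trivial)).eq
    exact (key a).trans (key b).symm⟩
  haveI : Ring.KrullDimLE 0 (X.presheaf.stalk (genericPoint X)) := by
    refine Ring.krullDimLE_iff.2 ?_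
    haveI : Subsingleton (PrimeSpectrum (X.presheaf.stalk (genericPoint X))) := hsub
    exact Order.krullDim_nonpos_of_subsingleton
  exact isArtinianRing_iff_krullDimLE_zero.2 inferInstance

variable {X' X : Scheme.{u}} (f : X' ⟶ X) [Flat f]

/-- Flat formally smooth morphisms preserve the length of Artinian stalks. -/
theorem length_stalk (hf : MoreMor.IsFormallySmoothHom f) (x' : X') (x : X) (hx : f.base x' = x)
    [IsArtinianRing (X.presheaf.stalk x)] [IsArtinianRing (X'.presheaf.stalk x')] :
    Module.length (X.presheaf.stalk x) (X.presheaf.stalk x) =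
      Module.length (X'.presheaf.stalk x') (X'.presheaf.stalk x') := by
  subst hx
  obtain ⟨_, ⟨V, hV, rfl⟩, hxV, -⟩ :=
    X.isBasis_affineOpens.exists_subset_of_mem_open (Set.mem_univ (f.base x')) isOpen_univ
  obtain ⟨_, ⟨U, hU, rfl⟩, hxU, hUV⟩ :=
    X'.isBasis_affineOpens.exists_subset_of_mem_open (show x' ∈ f ⁻¹ᵁ V from hxV) (f ⁻¹ᵁ V).2
  let R := Γ(X, V)
  let S := Γ(X', U)
  letI : Algebra R S := (f.appLE V U hUV).hom.toAlgebra
  haveI : Algebra.FormallySmooth R S :=
    FlatMorGeom.formallySmooth_appLE_of_isFormallySmoothHom f hf hU hV hUV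
  letI : Algebra R (X.presheaf.stalk (f.base x')) := (X.presheaf.germ V _ hxV).hom.toAlgebra
  letI : Algebra S (X'.presheaf.stalk x') := (X'.presheaf.germ U x' hxU).hom.toAlgebra
  haveI := hV.isLocalization_stalk ⟨f.base x', hxV⟩
  haveI := hU.isLocalization_stalk ⟨x', hxU⟩
  letI : Algebra (X.presheaf.stalk (f.base x')) (X'.presheaf.stalk x') := (f.stalkMap x').hom.toAlgebra
  letI : Algebra R (X'.presheaf.stalk x') :=
    ((algebraMap S (X'.presheaf.stalk x')).comp (algebraMap R S)).toAlgebra
  haveI : IsScalarTower R S (X'.presheaf.stalk x') := .of_algebraMap_eq' rfl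
  haveI : IsScalarTower R (X.presheaf.stalk (f.base x')) (X'.presheaf.stalk x') := by
    refine .of_algebraMap_eq' ?_
    have h := congr($(Scheme.Hom.germ_stalkMap f V x' hxV).hom)
    refine RingHom.ext fun r => ?_
    show (X'.presheaf.germ U x' hxU).hom ((f.appLE V U hUV).hom r) =
      (f.stalkMap x').hom ((X.presheaf.germ V _ hxV).hom r)
    rw [show (f.stalkMap x').hom ((X.presheaf.germ V _ hxV).hom r) =
      (X'.presheaf.germ (f ⁻¹ᵁ V) x' hxV).hom ((f.app V).hom r) from RingHom.congr_fun h r,
      Scheme.Hom.appLE]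
    exact congr($(X'.presheaf.germ_res (homOfLE hUV) x' hxU).hom ((f.app V).hom r))
  haveI : Algebra.FormallySmooth S (X'.presheaf.stalk x') :=
    Algebra.FormallySmooth.of_isLocalization (hU.primeIdealOf ⟨x', hxU⟩).asIdeal.primeCompl
  haveI : Algebra.FormallySmooth R (X'.presheaf.stalk x') :=
    Algebra.FormallySmooth.comp R S _
  haveI : Algebra.FormallySmooth (X.presheaf.stalk (f.base x')) (X'.presheaf.stalk x') :=
    Algebra.FormallySmooth.localization_base (hV.primeIdealOf ⟨f.base x', hxV⟩).asIdeal.primeCompl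
  haveI : Module.Flat (X.presheaf.stalk (f.base x')) (X'.presheaf.stalk x') := Flat.stalkMap f x'
  exact SmoothArtinLength.length_eq

end Groth.Agent.CAlgH3.SmoothArtinStalk
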