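import Mathlib
import Groth.Agent.Et18.H0Lift.AbsInt

/-! Every ring embeds in a ring over which all monic polynomials split. -/

set_option autoImplicit false
universe u
open Polynomial

namespace Groth.Agent.CAlgH3.SplittingExt

variable (A : Type u) [CommRing A]

/-- monic polynomials of positive degree -/
abbrev Mon : Type u := {f : A[X] // f.Monic ∧ 0 < f.natDegree}

/-- relations -/
noncomputable def rel (f : Mon A) : MvPolynomial (Mon A) A := Polynomial.aeval (MvPolynomial.X f) f.1

/-- adjoin a root of each monic polynomial -/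
abbrev Step : Type u := MvPolynomial (Mon A) A ⧸ Ideal.span (Set.range (rel A))

theorem exists_roots (s : Finset (Mon A)) :
    ∃ (C : Type u) (_ : CommRing C) (_ : Algebra A C), Function.Injective (algebraMap A C) ∧
      ∀ f ∈ s, ∃ c : C, Polynomial.aeval c f.1 = 0 := by
  classical
  induction s using Finset.induction with
  | empty => exact ⟨A, inferInstance, inferInstance, fun a b h => h, by simp⟩
  | insert f s _ ih =>
    obtain ⟨C, _, _, hinj, hr⟩ := ih
    let g : C[X] := f.1.map (algebraMap A C)
    have hg : g.Monic := f.2.1.map _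
    refine ⟨AdjoinRoot g, inferInstance, inferInstance, ?_, ?_⟩
    · refine (injective_iff_map_eq_zero _).2 fun a ha => hinj ?_
      rw [map_zero]
      cases subsingleton_or_nontrivial C with
      | inl _ => exact Subsingleton.elim _ _
      | inr _ =>
        by_contra hne
        have h0 : AdjoinRoot.mk g (Polynomial.C (algebraMap A C a)) = 0 := ha
        refine hg.not_dvd_of_degree_lt (Polynomial.C_ne_zero.2 hne) ?_ (AdjoinRoot.mk_eq_zero.1 h0)
        rw [Polynomial.degree_C hne, ← Polynomial.natDegree_pos_iff_degree_pos, f.2.1.natDegree_map]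
        exact f.2.2
    · intro f' hf'
      rcases Finset.mem_insert.1 hf' with rfl | hf'
      · refine ⟨AdjoinRoot.root g, ?_⟩
        have : Polynomial.aeval (AdjoinRoot.root g) g = 0 := AdjoinRoot.aeval_eq g ▸ AdjoinRoot.mk_self
        rwa [Polynomial.aeval_map_algebraMap] at this
      · obtain ⟨c, hc⟩ := hr f' hf'
        exact ⟨algebraMap C _ c, by rw [Polynomial.aeval_algebraMap_apply, hc, map_zero]⟩

theorem injective_step : Function.Injective (algebraMap A (Step A)) := by
  classical
  refine (injective_iff_map_eq_zero _).2 fun a ha => ?_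
  rw [IsScalarTower.algebraMap_apply A (MvPolynomial (Mon A) A) (Step A), Ideal.Quotient.algebraMap_eq,
    Ideal.Quotient.eq_zero_iff_mem, Ideal.span, Finsupp.mem_span_range_iff_exists_finsupp] at ha
  obtain ⟨c, hc⟩ := ha
  obtain ⟨C, _, _, hinj, hr⟩ := exists_roots A c.support
  choose r hr using hr
  let ρ : Mon A → C := fun f => if h : f ∈ c.support then r f h else 0
  have := congrArg (MvPolynomial.aeval ρ) hc
  rw [Finsupp.sum, map_sum, Finset.sum_eq_zero, AlgHom.commutes] at this
  · exact hinj (this.symm.trans (map_zero _).symm)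
  · intro f hf
    rw [smul_eq_mul, map_mul, rel, ← Polynomial.aeval_algHom_apply, MvPolynomial.aeval_X,
      show ρ f = r f hf from dif_pos hf, hr, mul_zero]

theorem exists_root_step (f : A[X]) (hf : f.Monic) (hd : 0 < f.natDegree) :
    ∃ b : Step A, (f.map (algebraMap A (Step A))).IsRoot b := by
  refine ⟨Ideal.Quotient.mk _ (MvPolynomial.X ⟨f, hf, hd⟩), ?_⟩
  rw [Polynomial.IsRoot.def, Polynomial.eval_map, ← Polynomial.aeval_def,
    ← Ideal.Quotient.mkₐ_eq_mk A, Polynomial.aeval_algHom_apply, Ideal.Quotient.mkₐ_eq_mk,
    Ideal.Quotient.eq_zero_iff_mem]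
  exact Ideal.subset_span ⟨⟨f, hf, hd⟩, rfl⟩

/-- the tower -/
noncomputable def tower : ℕ → CommRingCat.{u}
  | 0 => CommRingCat.of A
  | n + 1 => CommRingCat.of (Step (tower n))

open CategoryTheory in
/-- the tower as a functor -/
noncomputable def F : ℕ ⥤ CommRingCat.{u} :=
  Functor.ofSequence (X := tower A) fun n => CommRingCat.ofHom (algebraMap (tower A n) (Step (tower A n)))

/-- transition maps -/
noncomputable abbrev tr (i j : ℕ) (h : i ≤ j) : (F A).obj i →+* (F A).obj j :=
  ((F A).map (CategoryTheory.homOfLE h)).hom

instance : DirectedSystem (fun n => (F A).obj n) (fun i j h => tr A i j h) where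
  map_self i x := by
    show ((F A).map (CategoryTheory.homOfLE _)).hom x = x
    rw [show CategoryTheory.homOfLE (le_refl i) = CategoryTheory.CategoryStruct.id i from Subsingleton.elim _ _,
      CategoryTheory.Functor.map_id]
    rfl
  map_map {k j i} hij hjk x := by
    show ((F A).map _).hom (((F A).map _).hom x) = ((F A).map _).hom x
    rw [← CategoryTheory.homOfLE_comp hij hjk, CategoryTheory.Functor.map_comp]
    rfl

theorem tr_succ (n : ℕ) : tr A n (n + 1) (Nat.le_succ n) = algebraMap (tower A n) (Step (tower A n)) := by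
  show ((F A).map (CategoryTheory.homOfLE _)).hom = _
  exact congrArg CommRingCat.Hom.hom (CategoryTheory.Functor.ofSequence_map_homOfLE_succ _ n)

theorem injective_tr (i j : ℕ) (h : i ≤ j) : Function.Injective (tr A i j h) := by
  induction j, h using Nat.le_induction with
  | base =>
    intro a b e
    rwa [DirectedSystem.map_self (f := fun i j h => tr A i j h), DirectedSystem.map_self (f := fun i j h => tr A i j h)] at e
  | succ j hij ih =>
    intro a b e
    rw [← DirectedSystem.map_map (f := fun i j h => tr A i j h) hij (Nat.le_succ j),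
      ← DirectedSystem.map_map (f := fun i j h => tr A i j h) hij (Nat.le_succ j), tr_succ] at e
    exact ih (injective_step _ e)

/-- the limit -/
abbrev Lim : Type u := Ring.DirectLimit (fun n => (F A).obj n) (fun i j h => tr A i j h)

theorem rootClosed : Et18.H0Lift.RootClosed (Lim A) := by
  intro q hq hd
  obtain ⟨n, p, rfl⟩ := Ring.DirectLimit.Polynomial.exists_of (f' := fun i j h => tr A i j h) q
  let o := Ring.DirectLimit.of (fun n => (F A).obj n) (fun i j h => tr A i j h) n
  cases subsingleton_or_nontrivial (Lim A) with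
  | inl _ => exact ⟨0, Subsingleton.elim _ _⟩
  | inr _ =>
    let d := (p.map o).natDegree
    let p' : ((F A).obj n)[X] := X ^ d + ∑ i : Fin d, C (p.coeff i) * X ^ (i : ℕ)
    have hp' : p'.Monic := monic_X_pow_add (Polynomial.degree_sum_fin_lt _)
    have hmap : p'.map o = p.map o := by
      conv_rhs => rw [hq.as_sum]
      simp only [p', Polynomial.map_add, Polynomial.map_pow, map_X, Polynomial.map_sum, Polynomial.map_mul,
        map_C, Fin.sum_univ_eq_sum_range (fun i => C (o (p.coeff i)) * X ^ i), Polynomial.coeff_map]
      rfl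
    have hd' : 0 < p'.natDegree := by
      refine hd.trans_le ?_
      rw [← hmap]
      exact natDegree_map_le
    obtain ⟨b, hb⟩ := exists_root_step _ p' hp' hd'
    refine ⟨Ring.DirectLimit.of _ _ (n + 1) b, ?_⟩
    replace hb : (p'.map (tr A n (n + 1) (Nat.le_succ n))).IsRoot b := by rw [tr_succ]; exact hb
    rw [← hmap, show o = (Ring.DirectLimit.of (fun n => (F A).obj n) (fun i j h => tr A i j h) (n + 1)).comp
      (tr A n (n + 1) (Nat.le_succ n)) from RingHom.ext fun x =>
        (Ring.DirectLimit.of_f (G := fun n => (F A).obj n) (f := fun i j h => tr A i j h) (Nat.le_succ n) x).symm,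
      ← Polynomial.map_map]
    exact Polynomial.IsRoot.map hb

theorem main : ∃ (B : Type u) (_ : CommRing B) (_ : Algebra A B), Function.Injective (algebraMap A B) ∧
    ∀ f : B[X], f.Monic → ∃ s : Multiset B, f = (s.map fun b => X - C b).prod :=
  ⟨Lim A, inferInstance, (Ring.DirectLimit.of (fun n => (F A).obj n) (fun i j h => tr A i j h) 0).toAlgebra,
    Ring.DirectLimit.of_injective _ (injective_tr A) 0, Et18.H0Lift.splits_of_rootClosed (rootClosed A)⟩

end Groth.Agent.CAlgH3.SplittingExt
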