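import Groth.Prelude.Def_BlowUp2
import Groth.Prelude.Def_FlatMod2
import Groth.Agent.ModStalk.Pullback
import Groth.Agent.QCohLoc.Basic
import Mathlib.RingTheory.Flat.TorsionFree

/-! A module flat along the centre is its own strict transform. -/

set_option autoImplicit false
set_option backward.isDefEq.respectTransparency.types false
set_option linter.style.haveILetI false
universe u

open CategoryTheory CategoryTheory.Limits AlgebraicGeometry TopologicalSpace Opposite
open scoped TensorProduct

namespace Groth.Agent.CAlgH3.StrictFlat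

variable {X : Scheme.{u}}

theorem isFlatAt_pullback {S' : Scheme.{u}} (b : S' ⟶ X) (F : X.Modules) (y : S')
    (h : FlatMod.IsFlatAt F (b.base y)) : FlatMod.IsFlatAt ((Scheme.Modules.pullback b).obj F) y := by
  let _ := (b.stalkMap y).hom.toAlgebra
  let e : ((Scheme.Modules.pullback b).obj F).presheaf.stalk y ≃ₗ[S'.presheaf.stalk y]
      (S'.presheaf.stalk y) ⊗[X.presheaf.stalk (b.base y)] (F.presheaf.stalk (b.base y)) :=
    ((ModStalk.pullbackStalkIso b y).app F).toLinearEquiv
  have : Module.Flat (X.presheaf.stalk (b.base y)) (F.presheaf.stalk (b.base y)) := h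
  exact Module.Flat.of_linearEquiv e

/-- Sections killed by a power of an invertible ideal vanish on a module flat along it. -/
theorem eq_zero_of_killed (N : X.Modules) (E : X.IdealSheafData) (hE : BlowUp.IsEffCartierIdeal E)
    (hflat : ∀ y : X, y ∈ E.support → FlatMod.IsFlatAt N y) (V : X.affineOpens) (m : Γ(N, V.1))
    (hm : BlowUp.KilledByPowerNear E N V m) : m = 0 := by
  obtain ⟨n, hn⟩ := hm
  refine TopCat.Presheaf.section_ext ⟨N.presheaf, N.isSheaf⟩ _ _ _ fun y hy => ?_
  show N.presheaf.germ V.1 y hy m = N.presheaf.germ V.1 y hy 0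
  rw [map_zero]
  obtain ⟨V', hy', a, ha0, ha⟩ := hE y
  obtain ⟨W, hW, hyW, hWle⟩ := exists_isAffineOpen_mem_and_subset (x := y) (U := V.1 ⊓ V'.1) ⟨hy, hy'⟩
  let W' : X.affineOpens := ⟨W, hW⟩
  have hWV : W ≤ V.1 := hWle.trans inf_le_left
  have hWV' : W ≤ V'.1 := hWle.trans inf_le_right
  let g := X.presheaf.germ V'.1 y hy'
  have hga : g.hom a ∈ nonZeroDivisors (X.presheaf.stalk y) := by
    letI := g.hom.toAlgebra
    haveI : IsLocalization.AtPrime (X.presheaf.stalk y) (V'.2.primeIdealOf ⟨y, hy'⟩).asIdeal :=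
      V'.2.isLocalization_stalk ⟨y, hy'⟩
    exact IsLocalization.map_nonZeroDivisors_le (V'.2.primeIdealOf ⟨y, hy'⟩).asIdeal.primeCompl _
      ⟨a, ha0, rfl⟩
  have hreg : IsSMulRegular (N.presheaf.stalk y) (g.hom a ^ n) := by
    by_cases hu : IsUnit (g.hom a)
    · exact (hu.pow n).isSMulRegular _
    · have hys : y ∈ E.support := by
        rw [Scheme.IdealSheafData.mem_support_iff_of_mem (U := V') hy', ha, Scheme.mem_zeroLocus_iff]
        intro f hf hyf
        obtain ⟨c, rfl⟩ := Ideal.mem_span_singleton'.1 hf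
        rw [Scheme.mem_basicOpen _ _ _ hy', map_mul, IsUnit.mul_iff] at hyf
        exact hu hyf.2
      have : Module.Flat (X.presheaf.stalk y) (N.presheaf.stalk y) := hflat y hys
      exact Module.Flat.isSMulRegular_of_nonZeroDivisors (pow_mem hga n)
  refine hreg.right_eq_zero_of_smul ?_
  let aW : Γ(X, W) := (X.presheaf.map (homOfLE hWV').op).hom a
  have haW : aW ^ n ∈ ((E ^ n).ideal V).map (X.presheaf.map (homOfLE hWV).op).hom := by
    refine ((E ^ n).map_ideal (U := W') (V := V) hWV).ge ?_
    rw [Scheme.IdealSheafData.ideal_pow]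
    refine Ideal.pow_mem_pow ?_ n
    show aW ∈ E.ideal W'
    refine (E.map_ideal (U := W') (V := V') hWV').le ?_
    exact Ideal.mem_map_of_mem _ (ha ▸ Ideal.mem_span_singleton_self a)
  have hkill : ∀ r ∈ ((E ^ n).ideal V).map (X.presheaf.map (homOfLE hWV).op).hom,
      X.presheaf.germ W y hyW r • N.presheaf.germ V.1 y hy m = 0 := by
    intro r hr
    induction hr using Submodule.span_induction with
    | mem r hr =>
      obtain ⟨t, ht, rfl⟩ := hr
      rw [TopCat.Presheaf.germ_res_apply, ← QCohLoc.germ_smul' (M := N) hy, hn t ht, map_zero]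
    | zero => rw [map_zero, zero_smul]
    | add p q _ _ hp hq => rw [map_add, add_smul, hp, hq, add_zero]
    | smul c p _ hp => rw [smul_eq_mul, map_mul, mul_smul, hp, smul_zero]
  have h := hkill _ haW
  rw [map_pow] at h
  convert h using 3
  exact (TopCat.Presheaf.germ_res_apply X.presheaf (homOfLE hWV') y hyW a).symm

theorem main {S' : Scheme.{u}} (𝓘 : X.IdealSheafData) (b : S' ⟶ X) (hb : BlowUp.IsBlowUp b 𝓘)
    (F : X.Modules) (hflat : ∀ s : X, s ∈ 𝓘.support → FlatMod.IsFlatAt F s) :
    BlowUp.IsStrictTransform b 𝓘 F ((Scheme.Modules.pullback b).obj F) (𝟙 _) := by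
  refine ⟨inferInstance, fun V m => ⟨fun hm => ⟨0, fun c _ => ?_⟩, fun hm => ?_⟩⟩
  · have hm' : m = 0 := hm
    rw [hm', smul_zero]
  · show m = 0
    refine eq_zero_of_killed _ _ hb.1 (fun y hy => isFlatAt_pullback b F y (hflat _ ?_)) V m hm
    have hy' : y ∈ ((𝓘.comap b).support : Set S') := hy
    rw [Scheme.IdealSheafData.support_comap] at hy'
    exact hy'

end Groth.Agent.CAlgH3.StrictFlat
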