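import Groth.Prelude.Def_LocCohZ

/-! The long exact sequence of cohomology with supports, in the form of isomorphisms under vanishing. -/

set_option autoImplicit false
set_option backward.isDefEq.respectTransparency.types false
universe u

open CategoryTheory CategoryTheory.Limits CategoryTheory.Abelian Opposite TopologicalSpace

namespace Groth.Agent.CAlgH3.SupportLES

variable {X : TopCat.{u}} (F : CohTop.Ab X) {W V : Opens X} (h : W ≤ V)

/-- `H^q(W, F) ≅ H^{q+1}_{V∖W}(V, F)` if `H^q(V, F)` and `H^{q+1}(V, F)` vanish. -/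
theorem nonempty_shift (q : ℕ) (h0 : Subsingleton (CohTop.HU F q V))
    (h1 : Subsingleton (CohTop.HU F (q + 1) V)) :
    Nonempty (CohTop.HU F q W ≃+ LocCohZ.HZ F (q + 1) h) := by
  refine ⟨AddEquiv.ofBijective (LocCohZ.delta F q h) ⟨?_, ?_⟩⟩
  · rw [injective_iff_map_eq_zero]
    intro x hx
    obtain ⟨y, rfl⟩ := Ext.contravariant_sequence_exact₁ (LocCohZ.zqSeq_shortExact h) F x (by omega) hx
    rw [@Subsingleton.elim (Ext (LocCohZ.zqSeq h).X₂ F q) h0 y 0]
    exact ((Ext.mk₀ (LocCohZ.zqSeq h).f).precomp F (zero_add q)).map_zero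
  · intro z
    exact Ext.contravariant_sequence_exact₃ (LocCohZ.zqSeq_shortExact h) F z
      (@Subsingleton.elim (Ext (LocCohZ.zqSeq h).X₂ F (q + 1)) h1 _ _) (by omega)

/-- `F(W)/F(V) ≅ H^1_{V∖W}(V, F)` if `H^1(V, F)` vanishes. -/
theorem nonempty_one (h1 : Subsingleton (CohTop.HU F 1 V)) :
    Nonempty ((F.obj.obj (op W) ⧸ (F.obj.map (homOfLE h).op).hom.range) ≃+ LocCohZ.HZ F 1 h) := by
  let J := Opens.grothendieckTopology X
  let ψ : F.obj.obj (op W) →+ LocCohZ.HZ F 1 h :=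
    (LocCohZ.delta F 0 h).comp
      (Ext.addEquiv₀.symm.toAddMonoidHom.comp (CohFree.homEquivSect J W F).symm.toAddMonoidHom)
  have hψ : ∀ s, ψ s = (LocCohZ.zqSeq_shortExact h).extClass.comp (Ext.mk₀ (CohFree.ofSect J W F s)) (add_zero 1) :=
    fun s => rfl
  have hres : ∀ t : F.obj.obj (op V), CohFree.ofSect J W F ((F.obj.map (homOfLE h).op).hom t) =
      CohCx.freeSheafMap J (homOfLE h) ≫ CohFree.ofSect J V F t := fun t => by
    rw [← CohFree.ofSect_evalGen J W F (CohCx.freeSheafMap J (homOfLE h) ≫ CohFree.ofSect J V F t),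
      CohFree.evalGen_freeSheafMap_comp, CohFree.evalGen_ofSect]
  refine ⟨(QuotientAddGroup.quotientAddEquivOfEq ?_).trans
    (QuotientAddGroup.quotientKerEquivOfSurjective ψ ?_)⟩
  · ext s
    rw [AddMonoidHom.mem_ker, hψ]
    constructor
    · rintro ⟨t, rfl⟩
      rw [hres]
      refine Eq.trans ?_ ((LocCohZ.zqSeq_shortExact h).extClass_comp_assoc
        (h := add_zero 1) (Ext.mk₀ (CohFree.ofSect J V F t)))
      exact congrArg (fun e => (LocCohZ.zqSeq_shortExact h).extClass.comp e (add_zero 1))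
        (Ext.mk₀_comp_mk₀ (LocCohZ.zqSeq h).f (CohFree.ofSect J V F t)).symm
    · intro hs
      obtain ⟨y, hy⟩ := Ext.contravariant_sequence_exact₁ (LocCohZ.zqSeq_shortExact h) F _ (by omega) hs
      obtain ⟨φ, rfl⟩ := (Ext.mk₀_bijective _ _).2 y
      rw [Ext.mk₀_comp_mk₀] at hy
      have hy' := (Ext.mk₀_bijective _ _).1 hy
      refine ⟨CohFree.evalGen J V F φ, ?_⟩
      rw [← CohFree.evalGen_freeSheafMap_comp, ← CohFree.evalGen_ofSect J W F s]
      exact congrArg (CohFree.evalGen J W F) hy'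
  · intro z
    obtain ⟨x, hx⟩ := Ext.contravariant_sequence_exact₃ (LocCohZ.zqSeq_shortExact h) F z
      (@Subsingleton.elim (Ext (LocCohZ.zqSeq h).X₂ F 1) h1 _ _) (n₀ := 0) (by omega)
    obtain ⟨φ, rfl⟩ := (Ext.mk₀_bijective _ _).2 x
    refine ⟨CohFree.evalGen J W F φ, ?_⟩
    rw [hψ, CohFree.ofSect_evalGen]
    exact hx

end Groth.Agent.CAlgH3.SupportLES
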