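import Groth.Agent.CAlgH3.SupportRestrict
import Groth.Agent.CAlgH3.PuncturedCoh
import Groth.Agent.S6032
import Groth.Agent.S5173
import Groth.Agent.EGA43.QcohFP
import Groth.Agent.Coherent.FinitePres
import Groth.Agent.LocCoh.DepthLocal

/-! Cohomology with supports of quasi-coherent modules on affine opens is local cohomology. -/

set_option autoImplicit false
set_option backward.isDefEq.respectTransparency.types false
universe u

open CategoryTheory CategoryTheory.Limits CategoryTheory.Abelian AlgebraicGeometry Opposite TopologicalSpace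

namespace Groth.Agent.CAlgH3.SupportAffine

/-- the ideal of the closed complement of an open of a spectrum -/
noncomputable def idealC {R : CommRingCat.{u}} (W : (Spec R).Opens) : Ideal R :=
  PrimeSpectrum.vanishingIdeal (W.1 : Set (PrimeSpectrum R))ᶜ

theorem le_iff_notMem {R : CommRingCat.{u}} (W : (Spec R).Opens) (p : PrimeSpectrum R) :
    idealC W ≤ p.asIdeal ↔ p ∉ (W.1 : Set (PrimeSpectrum R)) := by
  have h : PrimeSpectrum.zeroLocus (idealC W : Set R) = (W.1 : Set (PrimeSpectrum R))ᶜ :=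
    (PrimeSpectrum.zeroLocus_vanishingIdeal_eq_closure _).trans W.2.isClosed_compl.closure_eq
  exact SetLike.coe_subset_coe.symm.trans ((PrimeSpectrum.mem_zeroLocus p _).symm.trans (Set.ext_iff.1 h p))

theorem punctured_idealC {R : CommRingCat.{u}} (W : (Spec R).Opens) :
    _root_.LocCoh.puncturedOpen R (idealC W) = W := by
  ext p
  change ¬ ((idealC W : Set R) ⊆ (p : PrimeSpectrum R).asIdeal) ↔ _
  rw [SetLike.coe_subset_coe, le_iff_notMem, not_not]
  rfl

/-- the affine case -/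
theorem nonempty_spec {R : CommRingCat.{u}} [IsNoetherianRing R] (M : (Spec R).Modules) (hM : Coh.IsQCoh M)
    (W : (Spec R).Opens) (i : ℕ) :
    Nonempty (LocCohZ.HZM (Spec R) M i W ≃+
      _root_.LocCoh.H (idealC W) i ((modulesSpecToSheaf.obj M).presheaf.obj (op ⊤))) := by
  haveI : IsIso M.fromTildeΓ := (isQuasicoherent_iff_isIso_fromTildeΓ _).1 inferInstance
  let N : ModuleCat.{u} R := (modulesSpecToSheaf.obj M).presheaf.obj (op ⊤)
  obtain ⟨s, hs⟩ := IsNoetherian.noetherian (idealC W)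
  have hI : Ideal.span {a | a ∈ s.toList} = idealC W := by
    rw [← hs]; simp
  obtain ⟨e₁⟩ := Groth.Agent.S6032.result R s.toList N i
  obtain ⟨e₂⟩ := Groth.Agent.S5173.result R s.toList N i
  rw [hI, punctured_idealC] at e₁
  rw [hI] at e₂
  let c : Coh.toAb (tilde N) ≅ Coh.toAb M := (Coherent.toAbFunctor (Spec R)).mapIso (asIso M.fromTildeΓ)
  exact ⟨(((extFunctorObj (LocCohZ.zq (X := (Spec R).carrier) (le_top : W ≤ ⊤)) i).mapIso c).addCommGroupIsoToAddEquiv.symm.trans
    e₁.symm).trans e₂.symm.toAddEquiv⟩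

/-- excision to an affine open -/
theorem nonempty_chart {X : Scheme.{u}} (M : X.Modules) {V : X.Opens} (hV : IsAffineOpen V) (U : X.Opens) (i : ℕ) :
    Nonempty (LocCohZ.HZ (X := X.carrier) (Coh.toAb M) i (inf_le_left : V ⊓ U ≤ V) ≃+
      LocCohZ.HZM (Spec Γ(X, V)) (M.restrict hV.fromSpec) i (hV.fromSpec ⁻¹ᵁ U)) := by
  let f := hV.fromSpec
  have hW : V ⊓ U = f ''ᵁ (f ⁻¹ᵁ U) := by
    rw [Scheme.Hom.image_preimage_eq_opensRange_inf, hV.opensRange_fromSpec]
  have hT : V = f ''ᵁ ⊤ := by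
    rw [Scheme.Hom.image_top_eq_opensRange, hV.opensRange_fromSpec]
  exact ⟨(SupportRestrict.HZCongr (Coh.toAb M) i (inf_le_left : V ⊓ U ≤ V)
      ((f.isOpenEmbedding.functor.map (homOfLE (le_top : f ⁻¹ᵁ U ≤ ⊤))).le) hW hT).trans
    (SupportRestrict.HZEquiv (j := f.base) f.isOpenEmbedding (le_top : f ⁻¹ᵁ U ≤ ⊤) (Coh.toAb M) i)⟩

/-- the sections over an affine open, as the global sections on its spectrum -/
theorem nonempty_sections {X : Scheme.{u}} (M : X.Modules) [Coh.IsQCoh M] {V : X.Opens} (hV : IsAffineOpen V) :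
    Nonempty ((modulesSpecToSheaf.obj (M.restrict hV.fromSpec)).presheaf.obj (op ⊤) ≃ₗ[Γ(X, V)] Γ(M, V)) := by
  have hT : hV.fromSpec ''ᵁ (⊤ : (Spec Γ(X, V)).Opens) = V := by
    rw [Scheme.Hom.image_top_eq_opensRange, hV.opensRange_fromSpec]
  let e₁ : Γ(M.restrict hV.fromSpec, ⊤) ≃+ Γ(M, hV.fromSpec ''ᵁ ⊤) :=
    (M.restrictAppIso hV.fromSpec ⊤).addCommGroupIsoToAddEquiv
  let e₂ : Γ(M, hV.fromSpec ''ᵁ ⊤) ≃+ Γ(M, V) :=
    (M.presheaf.mapIso (eqToIso hT.symm).op).addCommGroupIsoToAddEquiv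
  refine ⟨{ e₁.trans e₂ with map_smul' := fun r z => ?_ }⟩
  show e₂ ((M.restrictAppIso hV.fromSpec ⊤).hom (r • z)) = r • e₂ (e₁ z)
  refine (congrArg e₂ (QCohLoc.smul_toSpec M hV ⊤ hT.le r z)).trans ?_
  refine (M.map_smul (eqToIso hT.symm).hom _ _).trans ?_
  refine congrArg (fun a => a • e₂ (e₁ z)) ?_
  rw [← CommRingCat.comp_apply, ← X.presheaf.map_comp, Subsingleton.elim (_ ≫ _) (𝟙 (op V)), X.presheaf.map_id]
  rfl

/-- depth at a point through an affine chart -/
theorem depth_stalk {X : Scheme.{u}} [IsLocallyNoetherian X] (M : X.Modules) [Coh.IsQCoh M] {V : X.Opens}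
    (hV : IsAffineOpen V) (x : X) (hx : x ∈ V) :
    _root_.LocCoh.depth (Localization.AtPrime (hV.primeIdealOf ⟨x, hx⟩).asIdeal)
        (LocalizedModule (hV.primeIdealOf ⟨x, hx⟩).asIdeal.primeCompl Γ(M, V)) =
      _root_.LocCoh.depth (X.presheaf.stalk x) (M.presheaf.stalk x) := by
  let p := (hV.primeIdealOf ⟨x, hx⟩).asIdeal
  let _ : Algebra Γ(X, V) (X.presheaf.stalk x) := (X.presheaf.germ V x hx).hom.toAlgebra
  let _ : Module Γ(X, V) (M.presheaf.stalk x) :=
    Module.compHom (M.presheaf.stalk x) (X.presheaf.germ V x hx).hom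
  haveI : IsScalarTower Γ(X, V) (X.presheaf.stalk x) (M.presheaf.stalk x) :=
    IsScalarTower.of_algebraMap_smul fun _ _ => rfl
  let φ : Γ(M, V) →ₗ[Γ(X, V)] M.presheaf.stalk x :=
    { toFun := fun m => M.presheaf.germ V x hx m
      map_add' := fun a b => map_add _ a b
      map_smul' := fun r m => QCohLoc.germ_smul' M hx r m }
  haveI := EGA43.QcohFP.isLocalizedModule_germ M hV hx φ fun _ => rfl
  haveI : IsLocalization.AtPrime (X.presheaf.stalk x) p := hV.isLocalization_stalk ⟨x, hx⟩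
  let B := Localization.AtPrime p
  let e := IsLocalization.algEquiv p.primeCompl B (X.presheaf.stalk x)
  let _ : Algebra B (X.presheaf.stalk x) := e.toRingEquiv.toRingHom.toAlgebra
  let _ : Module B (M.presheaf.stalk x) := Module.compHom (M.presheaf.stalk x) e.toRingEquiv.toRingHom
  haveI : IsScalarTower B (X.presheaf.stalk x) (M.presheaf.stalk x) :=
    IsScalarTower.of_algebraMap_smul fun _ _ => rfl
  haveI : IsScalarTower Γ(X, V) B (M.presheaf.stalk x) :=
    IsScalarTower.of_algebraMap_smul fun r m => by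
      show e (algebraMap Γ(X, V) B r) • m = r • m
      rw [e.commutes]
      rfl
  rw [CAlgH3.depth_of_surjective (R := B) (S := X.presheaf.stalk x) e.surjective (M.presheaf.stalk x)]
  exact CAlgH3.depth_congr ((IsLocalizedModule.iso p.primeCompl φ).extendScalarsOfIsLocalization p.primeCompl B)

/-- the criterion on an affine open -/
theorem vanish_iff_depth {X : Scheme.{u}} [IsLocallyNoetherian X] (M : X.Modules) (hM : Coh.IsCoh M) {V : X.Opens}
    (hV : IsAffineOpen V) (U : X.Opens) (n : ℕ) :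
    (∀ i : ℕ, i < n → Subsingleton (LocCohZ.HZ (X := X.carrier) (Coh.toAb M) i (inf_le_left : V ⊓ U ≤ V))) ↔
      ∀ x : X, x ∈ V → x ∉ (U : Set X) →
        (n : ℕ∞) ≤ _root_.LocCoh.depth (X.presheaf.stalk x) (M.presheaf.stalk x) := by
  haveI : Coh.IsQCoh M := hM.1
  haveI : IsNoetherianRing Γ(X, V) := IsLocallyNoetherian.component_noetherian ⟨V, hV⟩
  haveI : Module.Finite Γ(X, V) Γ(M, V) := ((Coherent.isCoh_iff_finite_sections M).1 hM).2 V hV
  have hq : Coh.IsQCoh (M.restrict hV.fromSpec) := inferInstance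
  let I := idealC (hV.fromSpec ⁻¹ᵁ U)
  obtain ⟨l⟩ := nonempty_sections M hV
  have key : ∀ i, Subsingleton (LocCohZ.HZ (X := X.carrier) (Coh.toAb M) i (inf_le_left : V ⊓ U ≤ V)) ↔
      Subsingleton (_root_.LocCoh.H I i Γ(M, V)) := fun i => by
    obtain ⟨e₁⟩ := nonempty_chart M hV U i
    obtain ⟨e₂⟩ := nonempty_spec (M.restrict hV.fromSpec) hq (hV.fromSpec ⁻¹ᵁ U) i
    exact ((e₁.trans e₂).trans ((_root_.localCohomology I i).mapIso l.toModuleIso).toLinearEquiv.toAddEquiv).toEquiv.subsingleton_congr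
  refine Iff.trans (forall₂_congr fun i _ => key i)
    ((LocCoh.natCast_le_idealDepth_iff_H I _ n).symm.trans
      ((LocCoh.natCast_le_idealDepth_iff_local I _ n).trans ⟨fun h x hx hxU => ?_, fun h p hp => ?_⟩))
  · rw [← depth_stalk M hV x hx]
    refine h (hV.primeIdealOf ⟨x, hx⟩) ((le_iff_notMem (hV.fromSpec ⁻¹ᵁ U) _).2 ?_)
    intro hmem
    apply hxU
    have : hV.fromSpec (hV.primeIdealOf ⟨x, hx⟩) ∈ U := hmem
    rwa [hV.fromSpec_primeIdealOf] at this
  · have hxV : hV.fromSpec p ∈ V := hV.range_fromSpec.le ⟨p, rfl⟩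
    have hxU : hV.fromSpec p ∉ (U : Set X) := (le_iff_notMem (hV.fromSpec ⁻¹ᵁ U) p).1 hp
    have e : hV.primeIdealOf ⟨hV.fromSpec p, hxV⟩ = p :=
      hV.fromSpec.isOpenEmbedding.injective (hV.fromSpec_primeIdealOf _)
    have := h _ hxV hxU
    rw [← depth_stalk M hV _ hxV, e] at this
    exact this

end Groth.Agent.CAlgH3.SupportAffine
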