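import Groth.Agent.CAlgH3.SupportSheaf
import Groth.Agent.SiteCoh.Germs

/-! Sections with support are right adjoint to direct image from the closed complement. -/

set_option autoImplicit false
set_option backward.isDefEq.respectTransparency.types false
universe u

open CategoryTheory CategoryTheory.Limits Opposite TopologicalSpace

namespace Groth.Agent.CAlgH3.SupportClosedAdj

open SupportSheaf

variable {X : TopCat.{u}} (U : Opens X)

/-- the closed piece -/
abbrev Z : TopCat.{u} := TopCat.of ((U : Set X)ᶜ : Set X)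

/-- the adjunction of the inclusion -/
noncomputable abbrev adjZ : CohTop.pull (CohCx.inclCompl U) ⊣ CohTop.push (CohCx.inclCompl U) :=
  TopCat.Sheaf.pullbackPushforwardAdjunction AddCommGrpCat.{u} (CohCx.inclCompl U)

/-- no sections inside `U` -/
def Supp (K : CohTop.Ab X) : Prop := ∀ W : Opens X, W ≤ U → Subsingleton (K.obj.obj (op W))

theorem supp_push (G : CohTop.Ab (Z U)) : Supp U ((CohTop.push (CohCx.inclCompl U)).obj G) := by
  intro W hW
  refine ⟨fun a b => TopCat.Presheaf.section_ext G ((Opens.map (CohCx.inclCompl U)).obj W) a b fun z hz => ?_⟩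
  exact absurd (hW hz) z.2

theorem supp_sectSupp (F : CohTop.Ab X) : Supp U ((LocCohZ.sectSuppF U).obj F) := by
  intro W hW
  refine ⟨fun a b => ?_⟩
  suffices h : ∀ a : ((LocCohZ.sectSuppF U).obj F).obj.obj (op W), a = 0 from (h a).trans (h b).symm
  intro a
  obtain ⟨φ, rfl⟩ := (chi_bijective U F W).2 a
  apply iota_injective U F (op W)
  rw [map_zero, iota_chi]
  have hb : Function.Injective (F.obj.map (homOfLE (inf_le_left : W ⊓ U ≤ W)).op).hom := by
    refine Function.LeftInverse.injective (g := (F.obj.map (homOfLE (le_inf le_rfl hW)).op).hom) fun s => ?_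
    change ((F.obj.map _) ≫ F.obj.map _).hom s = s
    rw [← F.obj.map_comp, Subsingleton.elim (_ ≫ _) (𝟙 _), F.obj.map_id]
    rfl
  apply hb
  rw [map_zero]
  refine (CohFree.evalGen_freeSheafMap_comp _ (homOfLE (inf_le_left : W ⊓ U ≤ W)) F _).symm.trans ?_
  rw [cokernel.condition_assoc, zero_comp, map_zero]

theorem isIso_iota (K : CohTop.Ab X) (hK : Supp U K) : IsIso (iota U K) := by
  let η : K ⟶ (CohTop.push (CohCx.incl U)).obj ((CohTop.pull (CohCx.incl U)).obj K) :=
    (TopCat.Sheaf.pullbackPushforwardAdjunction AddCommGrpCat.{u} (CohCx.incl U)).unit.app K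
  suffices h : η = 0 by
    let σ : K ⟶ (LocCohZ.sectSuppF U).obj K := kernel.lift η (𝟙 K) (by rw [h, comp_zero])
    refine ⟨σ, ?_, kernel.lift_ι _ _ _⟩
    haveI hm : Mono (iota U K) := equalizer.ι_mono
    rw [← cancel_mono (iota U K), Category.assoc, Category.id_comp]
    exact (congrArg (fun m => iota U K ≫ m) (kernel.lift_ι η (𝟙 K) _)).trans (Category.comp_id _)
  let e := (Adjunction.leftAdjointUniq
    (TopCat.Sheaf.pullbackPushforwardAdjunction AddCommGrpCat.{u} (CohCx.incl U)) (adj U)).app K
  have he : η ≫ (CohTop.push (CohCx.incl U)).map e.hom = (adj U).unit.app K :=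
    Adjunction.unit_leftAdjointUniq_hom_app _ _ K
  rw [← cancel_mono ((CohTop.push (CohCx.incl U)).map e.hom), zero_comp]
  refine he.trans ?_
  ext V : 3
  apply AddCommGrpCat.hom_ext
  ext s
  exact @Subsingleton.elim _ (hK ((SiteCoh.opensIncl U).obj ((Opens.map (CohCx.incl U)).obj V.unop))
    ((image_preimage U V.unop).le.trans inf_le_right)) _ _

theorem subsingleton_stalk (K : CohTop.Ab X) (hK : Supp U K) {x : X} (hx : x ∈ U) :
    Subsingleton (TopCat.Presheaf.stalk (C := AddCommGrpCat.{u}) K.obj x) := by
  refine subsingleton_of_forall_eq 0 fun a => ?_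
  obtain ⟨W, hW, s, rfl⟩ := TopCat.Presheaf.exists_germ_eq K.obj a
  haveI := hK (W ⊓ U) inf_le_right
  rw [← TopCat.Presheaf.germ_res_apply K.obj (homOfLE (inf_le_left : W ⊓ U ≤ W)) x ⟨hW, hx⟩,
    Subsingleton.elim (K.obj.map _ s) 0, map_zero]

theorem isInducing : Topology.IsInducing (CohCx.inclCompl U) := Topology.IsInducing.subtypeVal

theorem isIso_stalk_unit (K : CohTop.Ab X) (z : Z U) :
    IsIso ((TopCat.Presheaf.stalkFunctor AddCommGrpCat.{u} (CohCx.inclCompl U z)).map ((adjZ U).unit.app K).hom) := by
  haveI := TopCat.Presheaf.stalkPushforward.stalkPushforward_iso_of_isInducing (C := AddCommGrpCat.{u})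
    (isInducing U) ((CohTop.pull (CohCx.inclCompl U)).obj K).obj z
  haveI : IsIso ((TopCat.Presheaf.stalkFunctor AddCommGrpCat.{u} (CohCx.inclCompl U z)).map ((adjZ U).unit.app K).hom ≫
      TopCat.Presheaf.stalkPushforward AddCommGrpCat.{u} (CohCx.inclCompl U) ((CohTop.pull (CohCx.inclCompl U)).obj K).obj z) :=
    (ConcreteCategory.isIso_iff_bijective _).2 (SiteCoh.Pull.bijective_germMap (CohCx.inclCompl U) K z)
  exact @IsIso.of_isIso_comp_right _ _ _ _ _ _ _
    (TopCat.Presheaf.stalkPushforward.stalkPushforward_iso_of_isInducing (C := AddCommGrpCat.{u})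
      (isInducing U) ((CohTop.pull (CohCx.inclCompl U)).obj K).obj z) ‹_›

theorem isIso_unit (K : CohTop.Ab X) (hK : Supp U K) : IsIso ((adjZ U).unit.app K) := by
  haveI : ∀ x : X, IsIso ((TopCat.Presheaf.stalkFunctor AddCommGrpCat.{u} x).map ((adjZ U).unit.app K).hom) := by
    intro x
    by_cases hx : x ∈ U
    · haveI h1 := subsingleton_stalk U K hK hx
      haveI h2 := subsingleton_stalk U _ (supp_push U ((CohTop.pull (CohCx.inclCompl U)).obj K)) hx
      exact (ConcreteCategory.isIso_iff_bijective _).2
        ⟨fun a b _ => @Subsingleton.elim _ h1 a b, fun b => ⟨0, @Subsingleton.elim _ h2 _ b⟩⟩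
    · exact isIso_stalk_unit U K ⟨x, hx⟩
  exact TopCat.Presheaf.isIso_of_stalkFunctor_map_iso _

theorem isIso_counit (G : CohTop.Ab (Z U)) : IsIso ((adjZ U).counit.app G) := by
  let i := CohCx.inclCompl U
  let K := (CohTop.push i).obj G
  haveI := isIso_unit U K (supp_push U G)
  haveI : IsIso ((CohTop.push i).map ((adjZ U).counit.app G)) := by
    haveI : IsIso ((adjZ U).unit.app K ≫ (CohTop.push i).map ((adjZ U).counit.app G)) := by
      rw [(adjZ U).right_triangle_components]
      exact IsIso.id _
    exact IsIso.of_isIso_comp_left ((adjZ U).unit.app K) _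
  haveI : ∀ z : Z U, IsIso ((TopCat.Presheaf.stalkFunctor AddCommGrpCat.{u} z).map ((adjZ U).counit.app G).hom) := by
    intro z
    let c := (adjZ U).counit.app G
    haveI h1 := TopCat.Presheaf.stalkPushforward.stalkPushforward_iso_of_isInducing (C := AddCommGrpCat.{u})
      (isInducing U) G.obj z
    haveI h2 := TopCat.Presheaf.stalkPushforward.stalkPushforward_iso_of_isInducing (C := AddCommGrpCat.{u})
      (isInducing U) ((CohTop.pull i).obj K).obj z
    have nat : (TopCat.Presheaf.stalkFunctor AddCommGrpCat.{u} (i z)).map ((CohTop.push i).map c).hom ≫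
        TopCat.Presheaf.stalkPushforward AddCommGrpCat.{u} i G.obj z =
        TopCat.Presheaf.stalkPushforward AddCommGrpCat.{u} i ((CohTop.pull i).obj K).obj z ≫
          (TopCat.Presheaf.stalkFunctor AddCommGrpCat.{u} z).map c.hom := by
      refine TopCat.Presheaf.stalk_hom_ext _ fun V hV => ?_
      refine (TopCat.Presheaf.stalkFunctor_map_germ_assoc _ _ _ _ _).trans ?_
      refine (congrArg (_ ≫ ·) (TopCat.Presheaf.stalkPushforward_germ _ i _ V z hV)).trans ?_
      refine Eq.trans ?_ (Category.assoc _ _ _)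
      refine Eq.trans ?_ (congrArg (· ≫ _) (TopCat.Presheaf.stalkPushforward_germ _ i _ V z hV)).symm
      exact (TopCat.Presheaf.stalkFunctor_map_germ (C := AddCommGrpCat.{u}) ((Opens.map i).obj V) z hV c.hom).symm
    haveI h3 : IsIso ((TopCat.Presheaf.stalkFunctor AddCommGrpCat.{u} (i z)).map ((CohTop.push i).map c).hom) :=
      inferInstanceAs (IsIso ((sheafToPresheaf (Opens.grothendieckTopology X) AddCommGrpCat.{u} ⋙
        TopCat.Presheaf.stalkFunctor AddCommGrpCat.{u} (i z)).map ((CohTop.push i).map c)))
    haveI h4 : IsIso (TopCat.Presheaf.stalkPushforward AddCommGrpCat.{u} i ((CohTop.pull i).obj K).obj z ≫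
        (TopCat.Presheaf.stalkFunctor AddCommGrpCat.{u} z).map c.hom) :=
      nat ▸ @IsIso.comp_isIso _ _ _ _ _ _ _ h3 h1
    exact @IsIso.of_isIso_comp_left _ _ _ _ _ _ _ h2 h4
  exact TopCat.Presheaf.isIso_of_stalkFunctor_map_iso _

/-- the inclusion of sections with support -/
noncomputable def iotaNat : LocCohZ.sectSuppF U ⟶ 𝟭 (CohTop.Ab X) where
  app F := iota U F
  naturality _ _ _ := kernel.lift_ι _ _ _

/-- the adjunction -/
noncomputable def adjunction :
    CohTop.push (CohCx.inclCompl U) ⊣ LocCohZ.sectSuppF U ⋙ CohTop.pull (CohCx.inclCompl U) :=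
  haveI : ∀ G, IsIso ((adjZ U).counit.app G) := fun G => isIso_counit U G
  haveI : IsIso (adjZ U).counit := NatIso.isIso_of_isIso_app _
  haveI : ∀ G, IsIso ((Functor.whiskerLeft (CohTop.push (CohCx.inclCompl U)) (iotaNat U)).app G) := fun G =>
    isIso_iota U _ (supp_push U G)
  haveI : IsIso (Functor.whiskerLeft (CohTop.push (CohCx.inclCompl U)) (iotaNat U)) := NatIso.isIso_of_isIso_app _
  haveI : ∀ F, IsIso ((Functor.whiskerLeft (LocCohZ.sectSuppF U) (adjZ U).unit).app F) := fun F =>
    isIso_unit U _ (supp_sectSupp U F)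
  haveI : IsIso (Functor.whiskerLeft (LocCohZ.sectSuppF U) (adjZ U).unit) := NatIso.isIso_of_isIso_app _
  Adjunction.mkOfUnitCounit
    { unit := inv (adjZ U).counit ≫
        Functor.whiskerRight (inv (Functor.whiskerLeft (CohTop.push (CohCx.inclCompl U)) (iotaNat U))) _
      counit := inv (Functor.whiskerLeft (LocCohZ.sectSuppF U) (adjZ U).unit) ≫ iotaNat U
      left_triangle := by
        ext G : 2
        haveI := isIso_iota U _ (supp_push U G)
        haveI := isIso_unit U _ (supp_sectSupp U ((CohTop.push (CohCx.inclCompl U)).obj G))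
        haveI := isIso_unit U _ (supp_push U G)
        simp only [NatTrans.comp_app, Functor.whiskerRight_app, Functor.associator_hom_app, Functor.whiskerLeft_app,
          NatIso.isIso_inv_app, NatTrans.id_app, Functor.map_comp, Functor.map_inv, iotaNat]
        erw [Category.id_comp]
        have hc : (adjZ U).unit.app ((CohTop.push (CohCx.inclCompl U)).obj G) =
            inv ((CohTop.push (CohCx.inclCompl U)).map ((adjZ U).counit.app G)) :=
          IsIso.eq_inv_of_inv_hom_id ((adjZ U).right_triangle_components G)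
        rw [← hc]
        have hn := (adjZ U).unit.naturality (inv (iota U ((CohTop.push (CohCx.inclCompl U)).obj G)))
        simp only [Functor.id_map, Functor.comp_map, Functor.map_inv] at hn
        erw [Category.assoc, ← reassoc_of% hn]
        erw [IsIso.hom_inv_id_assoc, IsIso.inv_hom_id]
        rfl
      right_triangle := by
        ext F : 2
        haveI := isIso_unit U _ (supp_sectSupp U F)
        haveI := isIso_iota U _ (supp_sectSupp U F)
        haveI := isIso_iota U _ (supp_push U ((CohTop.pull (CohCx.inclCompl U)).obj ((LocCohZ.sectSuppF U).obj F)))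
        simp only [NatTrans.comp_app, Functor.whiskerRight_app, Functor.associator_inv_app, Functor.whiskerLeft_app,
          NatIso.isIso_inv_app, NatTrans.id_app, Functor.comp_map, iotaNat]
        erw [Category.id_comp]
        let p := CohTop.pull (CohCx.inclCompl U)
        let K := (LocCohZ.sectSuppF U).obj F
        have hc : p.map ((adjZ U).unit.app K) = inv ((adjZ U).counit.app (p.obj K)) :=
          IsIso.eq_inv_of_inv_hom_id ((adjZ U).left_triangle_components K)
        erw [← hc, ← p.map_comp, ← p.map_comp]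
        refine (congrArg p.map ?_).trans (p.map_id _)
        haveI hm : Mono (iota U F) := equalizer.ι_mono
        have n1 : iota U ((CohTop.push (CohCx.inclCompl U)).obj (p.obj K)) ≫ inv ((adjZ U).unit.app K) =
            (LocCohZ.sectSuppF U).map (inv ((adjZ U).unit.app K)) ≫ iota U K :=
          ((iotaNat U).naturality (inv ((adjZ U).unit.app K))).symm
        have n2 : (LocCohZ.sectSuppF U).map (iota U F) ≫ iota U F = iota U K ≫ iota U F :=
          (iotaNat U).naturality (iota U F)
        rw [← cancel_mono (iota U F), Category.id_comp]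
        simp only [Category.assoc, Functor.map_comp]
        erw [n2, ← reassoc_of% n1, IsIso.inv_hom_id_assoc, IsIso.hom_inv_id_assoc] }

end Groth.Agent.CAlgH3.SupportClosedAdj
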