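import Groth.Agent.CAlgH3.SupportVanish
import Groth.Agent.SiteCoh.Cohomology

/-! Local cohomology sheaves against restriction maps. -/

set_option autoImplicit false
set_option backward.isDefEq.respectTransparency.types false
universe u

open CategoryTheory CategoryTheory.Limits CategoryTheory.Abelian Opposite TopologicalSpace

namespace Groth.Agent.CAlgH3.SupportIff

open SupportSheaf SupportVanish

variable {X : TopCat.{u}} (F : CohTop.Ab X) {W V : Opens X} (h : W ≤ V)

theorem res_eq (n : ℕ) (x : CohTop.HU F n V) :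
    CohTop.res F n h x = (Ext.mk₀ (LocCohZ.zqSeq h).f).comp x (zero_add n) := rfl

/-- vanishing of supports gives bijective restriction maps -/
theorem res_of_vanish (N : ℕ) (hz : ∀ i, i ≤ N → Subsingleton (LocCohZ.HZ F i h)) :
    (∀ i, i < N → Function.Bijective (CohTop.res F i h)) ∧ Function.Injective (CohTop.res F N h) := by
  have hinj : ∀ i, i ≤ N → Function.Injective (CohTop.res F i h) := fun i hi => by
    rw [injective_iff_map_eq_zero]
    intro x hx
    obtain ⟨y, rfl⟩ := Ext.contravariant_sequence_exact₂ (LocCohZ.zqSeq_shortExact h) F x hx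
    rw [@Subsingleton.elim (Ext (LocCohZ.zqSeq h).X₃ F i) (hz i hi) y 0]
    exact ((Ext.mk₀ (LocCohZ.zqSeq h).g).precomp F (zero_add i)).map_zero
  refine ⟨fun i hi => ⟨hinj i hi.le, fun y => ?_⟩, hinj N le_rfl⟩
  exact Ext.contravariant_sequence_exact₁ (LocCohZ.zqSeq_shortExact h) F y (n₁ := i + 1) (by omega)
    (@Subsingleton.elim (Ext (LocCohZ.zqSeq h).X₃ F (i + 1)) (hz (i + 1) hi) _ _)

/-- the map to cohomology without supports -/
theorem toHU_injective (i : ℕ) (hs : ∀ j, j + 1 = i → Function.Surjective (CohTop.res F j h)) :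
    Function.Injective (LocCohZ.toHU F i h) := by
  cases i with
  | zero =>
    haveI : Epi (LocCohZ.zqSeq h).g := (LocCohZ.zqSeq_shortExact h).epi_g
    exact Ext.precomp_mk₀_injective_of_epi F (LocCohZ.zqSeq h).g
  | succ j =>
    rw [injective_iff_map_eq_zero]
    intro x hx
    obtain ⟨y, rfl⟩ := Ext.contravariant_sequence_exact₃ (LocCohZ.zqSeq_shortExact h) F x hx (n₀ := j) (by omega)
    obtain ⟨z, rfl⟩ := hs j rfl y
    rw [res_eq]
    exact (LocCohZ.zqSeq_shortExact h).extClass_comp_assoc z

/-- bijective restriction maps give vanishing of supports -/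
theorem vanish_of_res (N : ℕ) (hb : ∀ i, i < N → Function.Bijective (CohTop.res F i h))
    (hN : Function.Injective (CohTop.res F N h)) (i : ℕ) (hi : i ≤ N) : Subsingleton (LocCohZ.HZ F i h) := by
  refine subsingleton_of_forall_eq 0 fun x => toHU_injective F h i (fun j hj => (hb j (by omega)).2) ?_
  rw [map_zero]
  have hinj : Function.Injective (CohTop.res F i h) := by
    rcases hi.lt_or_eq with hlt | rfl
    · exact (hb i hlt).1
    · exact hN
  apply hinj
  rw [map_zero, res_eq]
  refine (Ext.mk₀_comp_mk₀_assoc (LocCohZ.zqSeq h).f (LocCohZ.zqSeq h).g x).trans ?_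
  rw [(LocCohZ.zqSeq h).zero, Ext.mk₀_zero, Ext.zero_comp]
  rfl

variable (U : Opens X)

/-- forgetting supports, as a map of presheaves -/
noncomputable def toHUpre (q : ℕ) : pre U q F ⟶ Sheaf.cohomologyPresheaf.{u} F q where
  app W := AddCommGrpCat.ofHom (LocCohZ.toHU F q (inf_le_left : W.unop ⊓ U ≤ W.unop))
  naturality W W' i := by
    ext x
    change Ext ((zqFun U).obj W.unop) F q at x
    change (Ext.mk₀ (cokernel.π _)).comp ((Ext.mk₀ ((zqFun U).map i.unop)).comp x (zero_add q)) (zero_add q) =
      (Ext.mk₀ (CohCx.freeSheafMap (Opens.grothendieckTopology X) i.unop)).comp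
        ((Ext.mk₀ (cokernel.π _)).comp x (zero_add q)) (zero_add q)
    refine (Ext.mk₀_comp_mk₀_assoc _ _ x).trans (Eq.trans ?_ (Ext.mk₀_comp_mk₀_assoc _ _ x).symm)
    refine congrArg (fun m => Ext.comp (Ext.mk₀ m) x (zero_add q)) ?_
    simp [zqFun, LocCohZ.zqMap]
    rfl

/-- bijective restrictions below a positive degree kill the sheaf in that degree -/
theorem isZero_of_surjective (N : ℕ) (hs : ∀ V : Opens X, Function.Surjective (CohTop.res F N (inf_le_left : V ⊓ U ≤ V))) :
    IsZero ((LocCohZ.HZsh U (N + 1)).obj F) := by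
  refine IsZero.of_iso ?_ ((HZshIso U (N + 1)).app F)
  haveI : ∀ W, Mono ((toHUpre F U (N + 1)).app W) := fun W =>
    (AddCommGrpCat.mono_iff_injective _).2 (toHU_injective F _ (N + 1) fun j hj => by
      obtain rfl : j = N := by omega
      exact hs W.unop)
  haveI : Mono (toHUpre F U (N + 1)) := NatTrans.mono_of_mono_app _
  haveI : Mono ((shf (X := X)).map (toHUpre F U (N + 1))) := Functor.map_mono _ _
  exact IsZero.of_mono ((shf (X := X)).map (toHUpre F U (N + 1)))
    (SiteCoh.isZero_sheafify_cohomologyPresheaf (Opens.grothendieckTopology X) F N)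

end Groth.Agent.CAlgH3.SupportIff
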