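import Groth.Agent.CAlgH3.SupportAffine
import Groth.Agent.CAlgH3.SupportIff
import Groth.Agent.Coherent.RpushVanish
import Groth.Agent.LocCoh.LocalVanishing

/-! Local cohomology sheaves of coherent modules and depth. -/

set_option autoImplicit false
set_option backward.isDefEq.respectTransparency.types false
universe u

open CategoryTheory CategoryTheory.Limits CategoryTheory.Abelian AlgebraicGeometry Opposite TopologicalSpace

namespace Groth.Agent.CAlgH3.SupportDepth

open SupportSheaf SupportVanish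

theorem isZero_of_basis {X : TopCat.{u}} (U : Opens X) (F : CohTop.Ab X) (q : ℕ) (B : Set (Opens X))
    (hB : Opens.IsBasis B) (h : ∀ V ∈ B, Subsingleton (LocCohZ.HZ F q (inf_le_left : V ⊓ U ≤ V))) :
    IsZero ((LocCohZ.HZsh U q).obj F) :=
  (Coherent.isZero_sheafify_of_basis (pre U q F) B hB fun V hV => h V hV).of_iso ((HZshIso U q).app F)

theorem isZero_iff_affine (X : Scheme.{u}) (U : X.Opens) (M : X.Modules) (n : ℕ) :
    (∀ i : ℕ, i < n → IsZero ((LocCohZ.HZsh (X := X.carrier) U i).obj (Coh.toAb M))) ↔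
      ∀ V : X.Opens, IsAffineOpen V → ∀ i : ℕ, i < n →
        Subsingleton (LocCohZ.HZ (X := X.carrier) (Coh.toAb M) i (inf_le_left : V ⊓ U ≤ V)) :=
  ⟨fun h V _ i hi => (isZero_HZsh_iff (X := X.carrier) U (Coh.toAb M) n).1 h V i hi,
    fun h i hi => isZero_of_basis (X := X.carrier) U (Coh.toAb M) i _ X.isBasis_affineOpens
      fun V hV => h V hV i hi⟩

theorem isZero_iff_depth (X : Scheme.{u}) [IsLocallyNoetherian X] (U : X.Opens) (M : X.Modules) (hM : Coh.IsCoh M) (n : ℕ) :
    (∀ i : ℕ, i < n → IsZero ((LocCohZ.HZsh (X := X.carrier) U i).obj (Coh.toAb M))) ↔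
      ∀ x : X, x ∉ (U : Set X) → (n : ℕ∞) ≤ _root_.LocCoh.depth (X.presheaf.stalk x) (M.presheaf.stalk x) := by
  rw [isZero_iff_affine]
  constructor
  · intro h x hx
    obtain ⟨V, hV, hxV, -⟩ := exists_isAffineOpen_mem_and_subset (x := x) (U := ⊤) trivial
    exact (SupportAffine.vanish_iff_depth M hM hV U n).1 (h V hV) x hxV hx
  · exact fun h V hV => (SupportAffine.vanish_iff_depth M hM hV U n).2 fun x _ hx => h x hx

/-- vanishing in degrees below two is bijectivity of restriction -/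
theorem bijective_of_vanish {X : TopCat.{u}} (F : CohTop.Ab X) {W V : Opens X} (h : W ≤ V)
    (hz : ∀ i, i < 2 → Subsingleton (LocCohZ.HZ F i h)) :
    Function.Bijective (F.obj.map (homOfLE h).op).hom := by
  constructor
  · rw [injective_iff_map_eq_zero]
    intro s hs
    haveI := hz 0 (by omega)
    exact congrArg Subtype.val ((LocCohZ.sect0Equiv F h).symm.toEquiv.subsingleton.elim ⟨s, hs⟩ 0)
  · intro s
    obtain ⟨y, hy⟩ := Ext.contravariant_sequence_exact₁ (LocCohZ.zqSeq_shortExact h) F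
      (Ext.mk₀ (CohFree.ofSect (Opens.grothendieckTopology X) W F s)) (n₁ := 1) (by omega)
      (@Subsingleton.elim (LocCohZ.HZ F 1 h) (hz 1 (by omega)) _ _)
    obtain ⟨φ, rfl⟩ := (Ext.mk₀_bijective _ _).2 y
    rw [Ext.mk₀_comp_mk₀] at hy
    refine ⟨CohFree.evalGen (Opens.grothendieckTopology X) V F φ, ?_⟩
    refine (CohFree.evalGen_freeSheafMap_comp (Opens.grothendieckTopology X) (homOfLE h) F φ).symm.trans ?_
    exact (congrArg (CohFree.evalGen (Opens.grothendieckTopology X) W F) ((Ext.mk₀_bijective _ _).1 hy)).trans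
      (CohFree.evalGen_ofSect _ _ _ _)

theorem vanish_of_bijective {X : TopCat.{u}} (F : CohTop.Ab X) {W V : Opens X} (h : W ≤ V)
    (h1 : Subsingleton (CohTop.HU F 1 V)) (hb : Function.Bijective (F.obj.map (homOfLE h).op).hom) :
    ∀ i, i < 2 → Subsingleton (LocCohZ.HZ F i h) := by
  intro i hi
  match i, hi with
  | 0, _ =>
    haveI : Subsingleton (LocCohZ.sectZ F h) := ⟨fun a b => Subtype.ext (hb.1 (a.2.trans b.2.symm))⟩
    exact (LocCohZ.sect0Equiv F h).toEquiv.subsingleton
  | 1, _ => exact subsingleton_one_of_surjective F h h1 hb.2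

/-- vanishing above the dimension of the local rings on the closed set -/
theorem isZero_of_dim_lt (X : Scheme.{u}) [IsLocallyNoetherian X] (U : X.Opens) (M : X.Modules) [Coh.IsQCoh M] (i : ℕ)
    (hi : ∀ x : X, x ∉ (U : Set X) → ringKrullDim (X.presheaf.stalk x) < (i : WithBot ℕ∞)) :
    IsZero ((LocCohZ.HZsh (X := X.carrier) U i).obj (Coh.toAb M)) := by
  refine isZero_of_basis (X := X.carrier) U (Coh.toAb M) i _ X.isBasis_affineOpens fun V hV => ?_
  haveI : IsNoetherianRing Γ(X, V) := IsLocallyNoetherian.component_noetherian ⟨V, hV⟩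
  obtain ⟨e₁⟩ := SupportAffine.nonempty_chart M hV U i
  obtain ⟨e₂⟩ := SupportAffine.nonempty_spec (M.restrict hV.fromSpec) inferInstance (hV.fromSpec ⁻¹ᵁ U) i
  suffices hs : Subsingleton (_root_.LocCoh.H (SupportAffine.idealC (hV.fromSpec ⁻¹ᵁ U)) i
      ((modulesSpecToSheaf.obj (M.restrict hV.fromSpec)).presheaf.obj (op ⊤))) from
    (e₁.trans e₂).toEquiv.subsingleton
  refine LocCoh.subsingleton_H_of_local _ _ i fun p hp => ?_
  have hxV : hV.fromSpec p ∈ V := hV.range_fromSpec.le ⟨p, rfl⟩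
  have hxU : hV.fromSpec p ∉ (U : Set X) := (SupportAffine.le_iff_notMem (hV.fromSpec ⁻¹ᵁ U) p).1 hp
  have e : hV.primeIdealOf ⟨hV.fromSpec p, hxV⟩ = p :=
    hV.fromSpec.isOpenEmbedding.injective (hV.fromSpec_primeIdealOf _)
  haveI : IsNoetherianRing (Localization.AtPrime p.asIdeal) :=
    IsLocalization.isNoetherianRing p.asIdeal.primeCompl _ inferInstance
  let _ : Algebra Γ(X, V) (X.presheaf.stalk (hV.fromSpec p)) := (X.presheaf.germ V _ hxV).hom.toAlgebra
  haveI : IsLocalization.AtPrime (X.presheaf.stalk (hV.fromSpec p)) p.asIdeal := by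
    have h := hV.isLocalization_stalk ⟨hV.fromSpec p, hxV⟩
    rwa [e] at h
  have hdim : ringKrullDim (Localization.AtPrime p.asIdeal) < (i : WithBot ℕ∞) := by
    rw [ringKrullDim_eq_of_ringEquiv (IsLocalization.algEquiv p.asIdeal.primeCompl
      (Localization.AtPrime p.asIdeal) (X.presheaf.stalk (hV.fromSpec p))).toRingEquiv]
    exact hi _ hxU
  exact LocCoh.subsingleton_H_of_supportDim_lt
    ((Module.supportDim_le_ringKrullDim _ _).trans_lt hdim)

end Groth.Agent.CAlgH3.SupportDepth
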