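import Groth.Agent.CAlgH3.SupportDepth
import Groth.Agent.CAlgH3.Depth
import Groth.Agent.CAlgH3.LocFreeFactor
import Groth.Agent.Props12.FinLocFree
import Groth.Agent.Coherent.FinitePres

/-! The first non-zero local cohomology sheaf has the cohomology with supports as its global sections. -/

set_option autoImplicit false
set_option backward.isDefEq.respectTransparency.types false
universe u

open CategoryTheory CategoryTheory.Limits CategoryTheory.Abelian AlgebraicGeometry Opposite TopologicalSpace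

namespace Groth.Agent.CAlgH3.SupportGlobal

open SupportSheaf SupportVanish

variable {X : TopCat.{u}} (U : Opens X)

theorem isSheaf_pre : ∀ (d : ℕ) (F : CohTop.Ab X),
    (∀ i, i < d → IsZero ((shf (X := X)).obj (pre U i F))) →
      Presheaf.IsSheaf (Opens.grothendieckTopology X) (pre U d F) := by
  intro d
  induction d with
  | zero =>
    exact fun F _ => (Presheaf.isSheaf_of_iso_iff (preZeroIso U F)).2 ((LocCohZ.sectSuppF U).obj F).property
  | succ d ih =>
    intro F hF
    have h0 := isZero_sectSupp_of_HZsh U F (hF 0 (by omega))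
    obtain ⟨G, ι, hι, hG⟩ := exists_embedding U F h0
    let S := ShortComplex.mk ι (cokernel.π ι) (cokernel.condition ι)
    have hS : S.ShortExact := { exact := ShortComplex.exact_cokernel ι }
    let δ : ∀ q, pre U q (cokernel ι) ⟶ pre U (q + 1) F := fun q =>
      { app := fun W => AddCommGrpCat.ofHom (hS.extClass.postcomp _ (rfl : q + 1 = q + 1))
        naturality := fun W W' g => by
          ext x
          exact Ext.comp_assoc _ _ _ (zero_add q) (rfl : q + 1 = q + 1) (by omega) }
    have hδ : ∀ q, IsIso (δ q) := fun q => by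
      refine (NatTrans.isIso_iff_isIso_app _).2 fun W => ?_
      refine (ConcreteCategory.isIso_iff_bijective _).2 ⟨?_, ?_⟩
      · change Function.Injective (hS.extClass.postcomp _ (rfl : q + 1 = q + 1))
        rw [injective_iff_map_eq_zero]
        intro x hx
        obtain ⟨y, rfl⟩ := Ext.covariant_sequence_exact₃ _ hS x rfl hx
        rw [@Subsingleton.elim (Ext ((zqFun U).obj W.unop) S.X₂ q) (hG q W.unop) y 0]
        exact ((Ext.mk₀ S.g).postcomp _ (add_zero q)).map_zero
      · intro z
        exact Ext.covariant_sequence_exact₁ _ hS z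
          (@Subsingleton.elim (Ext ((zqFun U).obj W.unop) S.X₂ (q + 1)) (hG (q + 1) W.unop) _ _) rfl
    haveI := hδ d
    refine (Presheaf.isSheaf_of_iso_iff (asIso (δ d))).1 (ih (cokernel ι) fun q hq => ?_)
    haveI := hδ q
    exact (hF (q + 1) (by omega)).of_iso ((shf (X := X)).mapIso (asIso (δ q)))

theorem nonempty_HZ_congr (F : CohTop.Ab X) (i : ℕ) {W W' V : Opens X} (e : W = W') (h : W ≤ V) (h' : W' ≤ V) :
    Nonempty (LocCohZ.HZ F i h ≃+ LocCohZ.HZ F i h') := by
  subst e
  exact ⟨AddEquiv.refl _⟩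

theorem nonempty_sections (F : CohTop.Ab X) (d : ℕ)
    (hF : ∀ i, i < d → IsZero ((LocCohZ.HZsh U i).obj F)) :
    Nonempty (((LocCohZ.HZsh U d).obj F).obj.obj (op ⊤) ≃+ LocCohZ.HZc F d U) := by
  let J := Opens.grothendieckTopology X
  let G : CohTop.Ab X := ⟨pre U d F, isSheaf_pre U d F fun i hi => (hF i hi).of_iso ((HZshIso U i).app F).symm⟩
  let e : ((LocCohZ.HZsh U d).obj F) ≅ G := (HZshIso U d).app F ≪≫
    (asIso (sheafificationAdjunction J AddCommGrpCat.{u}).counit).app G
  let e' := ((sheafToPresheaf J AddCommGrpCat.{u}).mapIso e).app (op ⊤)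
  obtain ⟨e''⟩ := nonempty_HZ_congr F d (top_inf_eq U) (inf_le_left : ⊤ ⊓ U ≤ ⊤) (le_top : U ≤ ⊤)
  exact ⟨e'.addCommGroupIsoToAddEquiv.trans e''⟩

theorem nonempty_of_finLocFree (X : Scheme.{u}) [IsLocallyNoetherian X] (U : X.Opens) (d : ℕ)
    (hdepth : ∀ x : X, x ∉ (U : Set X) → (d : ℕ∞) ≤ _root_.LocCoh.depth (X.presheaf.stalk x) (X.presheaf.stalk x))
    (M : X.Modules) (hM : FlatMod.IsFinLocFree M) :
    Nonempty (↑(((LocCohZ.HZsh (X := X.carrier) U d).obj (Coh.toAb M)).obj.obj (op ⊤)) ≃+ LocCohZ.HZM X M d U) := by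
  haveI : Coh.IsQCoh M := LocFreeFactor.isQCoh_of_finLocFree hM
  have hc : Coh.IsCoh M := (Coherent.isCoh_iff_isFP M).2 (Props12.isFP_of_isFinLocFree M hM)
  refine nonempty_sections (X := X.carrier) U (Coh.toAb M) d
    ((SupportDepth.isZero_iff_depth X U M hc d).2 fun x hx => ?_)
  obtain ⟨V, n, hxV, hb⟩ := Props12.exists_nhd_basis_stalk M hM x
  obtain ⟨b⟩ := hb x hxV
  rcases subsingleton_or_nontrivial (M.presheaf.stalk x) with h0 | h0
  · rw [CAlgH3.depth_eq_top_of_subsingleton]; exact le_top
  · haveI := Module.Free.of_basis b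
    haveI := Module.Finite.of_basis b
    rw [CAlgH3.depth_free]
    exact hdepth x hx

end Groth.Agent.CAlgH3.SupportGlobal
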