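import Groth.Prelude.Def_LocCohZ
import Groth.Agent.Coherent.HigherQcoh
import Groth.Agent.Coherent.QcohOps
import Groth.Agent.SiteCoh.Derived

/-! Local cohomology sheaves of quasi-coherent modules are quasi-coherent. -/

set_option autoImplicit false
set_option backward.isDefEq.respectTransparency.types false
universe u

open CategoryTheory CategoryTheory.Limits AlgebraicGeometry Opposite TopologicalSpace

namespace Groth.Agent.CAlgH3.SupportModQcoh

theorem qc {X : Scheme.{u}} {A B : X.Modules} (e : A ≅ B) (h : Coh.IsQCoh A) : Coh.IsQCoh B :=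
  haveI := h
  Coherent.isQCoh_of_iso e

variable {U Y : Scheme.{u}} (j : U ⟶ Y) [IsOpenImmersion j]

/-- restriction followed by direct image -/
noncomputable abbrev comp : Y.Modules ⥤ Y.Modules :=
  Scheme.Modules.restrictFunctor j ⋙ Scheme.Modules.pushforward j

theorem epi_unit_of_injective (I : Y.Modules) [Injective I] :
    Epi ((Scheme.Modules.restrictAdjunction j).unit.app I) := by
  haveI := Coherent.isFlasque_toAb_of_injective I
  haveI : (Coherent.toAbFunctor Y).Faithful :=
    ⟨fun {M N f g} h => (Scheme.Modules.toPresheaf Y).map_injective (congrArg (fun m => m.hom) h)⟩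
  apply (Coherent.toAbFunctor Y).epi_of_epi_map
  apply (sheafToPresheaf (Opens.grothendieckTopology Y) AddCommGrpCat.{u}).epi_of_epi_map
  haveI : ∀ V, Epi (((sheafToPresheaf (Opens.grothendieckTopology Y) AddCommGrpCat.{u}).map
      ((Coherent.toAbFunctor Y).map ((Scheme.Modules.restrictAdjunction j).unit.app I))).app V) := fun V =>
    inferInstanceAs (Epi ((Coh.toAb I).obj.map (j.opensFunctorAdjunction.counit.app V.unop).op))
  exact NatTrans.epi_of_epi_app _

variable [HasInjectiveResolutions Y.Modules] [QuasiCompact j]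

theorem isQCoh_comp_rightDerived (M : Y.Modules) [Coh.IsQCoh M] (n : ℕ) :
    Coh.IsQCoh (((comp j).rightDerived n).obj M) := by
  haveI : HasInjectiveResolutions U.Modules := Coherent.hasInjectiveResolutions_modules U
  haveI : (Scheme.Modules.restrictFunctor j).Additive := inferInstance
  exact qc
    ((SiteCoh.rightDerivedExactCompIso (Scheme.Modules.restrictFunctor j) (Scheme.Modules.pushforward j) n).app M).symm
    (Coherent.isQCoh_rpush j ((Scheme.Modules.restrictFunctor j).obj M) n)

theorem isQCoh_HZshM (M : Y.Modules) [Coh.IsQCoh M] (q : ℕ) : Coh.IsQCoh ((LocCohZ.HZshM j q).obj M) := by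
  let R := injectiveResolution M
  let K₂ := R.cocomplex
  let ιc : ((DCoh.gammaZ j).mapHomologicalComplex (ComplexShape.up ℕ)).obj K₂ ⟶ K₂ :=
    { f := fun i => kernel.ι ((Scheme.Modules.restrictAdjunction j).unit.app (K₂.X i))
      comm' := fun i k _ => (kernel.lift_ι _ _ _).symm }
  let ηc : K₂ ⟶ ((comp j).mapHomologicalComplex (ComplexShape.up ℕ)).obj K₂ :=
    { f := fun i => (Scheme.Modules.restrictAdjunction j).unit.app (K₂.X i)
      comm' := fun i k _ => ((Scheme.Modules.restrictAdjunction j).unit.naturality (K₂.d i k)).symm }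
  have w : ιc ≫ ηc = 0 := by
    ext i : 1
    exact kernel.condition _
  let S := ShortComplex.mk ιc ηc w
  have hS : S.ShortExact := HomologicalComplex.shortExact_of_degreewise_shortExact _ fun i => by
    haveI : Injective (K₂.X i) := R.injective i
    haveI := epi_unit_of_injective j (K₂.X i)
    exact { exact := ShortComplex.exact_of_f_is_kernel _ (kernelIsKernel _)
            mono_f := equalizer.ι_mono
            epi_g := epi_unit_of_injective j (K₂.X i) }
  have q₃ : ∀ n, Coh.IsQCoh (S.X₃.homology n) := fun n =>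
    qc (R.isoRightDerivedObj (comp j) n) (isQCoh_comp_rightDerived j M n)
  have z₂ : ∀ n, IsZero (S.X₂.homology (n + 1)) := fun n => (R.cocomplex_exactAt_succ n).isZero_homology
  have q₂ : Coh.IsQCoh (S.X₂.homology 0) := by
    haveI : QuasiIso R.ι := R.quasiIso
    haveI : IsIso (HomologicalComplex.homologyMap R.ι 0) :=
      (quasiIsoAt_iff_isIso_homologyMap R.ι 0).1 inferInstance
    exact qc
      ((HomologicalComplex.singleObjHomologySelfIso (ComplexShape.up ℕ) 0 M).symm ≪≫
        asIso (HomologicalComplex.homologyMap R.ι 0)) ‹Coh.IsQCoh M›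
  haveI := q₃ 0
  haveI := q₂
  suffices h : Coh.IsQCoh (S.X₁.homology q) from
    qc (R.isoRightDerivedObj (DCoh.gammaZ j) q).symm h
  match q with
  | 0 =>
    haveI : Mono (HomologicalComplex.homologyMap S.f 0) := by
      haveI : ∀ K : CochainComplex Y.Modules ℕ, IsIso (K.homologyπ 0) := fun K =>
        K.isIso_homologyπ _ 0 (CochainComplex.prev_nat_zero) (K.shape _ _ (by simp))
      haveI : Mono (S.f.f 0) := (inferInstanceAs (Mono (kernel.ι ((Scheme.Modules.restrictAdjunction j).unit.app (K₂.X 0)))))
      haveI : Mono (HomologicalComplex.cyclesMap S.f 0) := inferInstance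
      have h := HomologicalComplex.homologyπ_naturality S.f 0
      rw [show HomologicalComplex.homologyMap S.f 0 =
        inv (S.X₁.homologyπ 0) ≫ HomologicalComplex.cyclesMap S.f 0 ≫ S.X₂.homologyπ 0 by rw [← h, IsIso.inv_hom_id_assoc]]
      infer_instance
    exact qc
      (IsLimit.conePointUniqueUpToIso (kernelIsKernel (HomologicalComplex.homologyMap S.g 0))
        (hS.homology_exact₂ 0).fIsKernel) (Coherent.isQCoh_kernel _)
  | 1 =>
    haveI : Epi (hS.δ 0 1 rfl) :=
      (hS.homology_exact₁ 0 1 rfl).epi_f ((z₂ 0).eq_of_tgt _ _)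
    exact qc
      (IsColimit.coconePointUniqueUpToIso (cokernelIsCokernel (HomologicalComplex.homologyMap S.g 0))
        (hS.homology_exact₃ 0 1 rfl).gIsCokernel) (Coherent.isQCoh_cokernel _)
  | n + 1 + 1 =>
    exact qc (hS.δIso (n + 1) (n + 1 + 1) rfl (z₂ n) (z₂ (n + 1))) (q₃ (n + 1))

end Groth.Agent.CAlgH3.SupportModQcoh
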