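import Groth.Agent.CAlgH3.SupportSheaf

/-! The derived functors of global sections with support are the Ext groups. -/

set_option autoImplicit false
set_option backward.isDefEq.respectTransparency.types false
universe u

open CategoryTheory CategoryTheory.Limits CategoryTheory.Abelian Opposite TopologicalSpace

namespace Groth.Agent.CAlgH3.SupportRHZ

open SupportSheaf

variable {X : TopCat.{u}} (U : Opens X)

/-- `ℤ_X/ℤ_{X∩U}` is `ℤ_X/ℤ_U` -/
noncomputable def zqTopIso : (zqFun U).obj ⊤ ≅ LocCohZ.zq (le_top : U ≤ ⊤) where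
  hom := LocCohZ.zqMap _ _ inf_le_right le_rfl
  inv := LocCohZ.zqMap _ _ (le_inf le_top le_rfl) le_rfl
  hom_inv_id := by
    apply coequalizer.hom_ext
    simp [zqFun, LocCohZ.zqMap, CohFree.freeSheafMap_id]
  inv_hom_id := by
    apply coequalizer.hom_ext
    simp [zqFun, LocCohZ.zqMap, CohFree.freeSheafMap_id]

/-- derived functors of `Γ_Z(X,-)` -/
noncomputable def RHZIso (q : ℕ) : LocCohZ.RHZ U q ≅ ToposFin.HZFunctor (LocCohZ.openSh U) q :=
  SiteCoh.rightDerivedCongr (G' := SiteCoh.homGroups (zqFun U) ⋙ (evaluation (Opens X)ᵒᵖ AddCommGrpCat.{u}).obj (op ⊤))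
    ((Functor.associator _ _ _).symm ≪≫ Functor.isoWhiskerRight (sectSuppPreIso U).symm _) q ≪≫
  SiteCoh.rightDerivedCompExactIso (SiteCoh.homGroups (zqFun U)) _ q ≪≫
  Functor.isoWhiskerRight (SiteCoh.rightDerivedHomGroupsIso (zqFun U) q) _ ≪≫
  NatIso.ofComponents (fun _ => Iso.refl _) (fun _ => (Category.comp_id _).trans (Category.id_comp _).symm) ≪≫
  (extFunctor.{u} q).mapIso ((zqTopIso U ≪≫ LocCohZ.zqIsoQuotZ U).op).symm

end Groth.Agent.CAlgH3.SupportRHZ
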