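import Groth.Agent.CAlgH3.SupportVanish
import Groth.Agent.Coherent.SchemeCoh

/-! Cohomology with supports along open embeddings (excision). -/

set_option autoImplicit false
set_option backward.isDefEq.respectTransparency.types false
universe u

open CategoryTheory CategoryTheory.Limits CategoryTheory.Abelian Opposite TopologicalSpace

namespace Groth.Agent.CAlgH3.SupportRestrict

open Groth.Agent.Coherent (restrictSh ShiftData restrictSh_isFlasque)

variable {X : TopCat.{u}}

/-- morphisms out of `ℤ_V/ℤ_W` are sections with support -/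
noncomputable def homSect (F : CohTop.Ab X) {W V : Opens X} (h : W ≤ V) :
    (LocCohZ.zq h ⟶ F) ≃+ LocCohZ.sectZ F h :=
  Ext.addEquiv₀.symm.trans (LocCohZ.sect0Equiv F h)

theorem homSect_comp {F G : CohTop.Ab X} (f : F ⟶ G) {W V : Opens X} (h : W ≤ V) (φ : LocCohZ.zq h ⟶ F) :
    (homSect G h (φ ≫ f)).1 = f.hom.app (op V) (homSect F h φ).1 := by
  change CohFree.evalGen _ V G (cokernel.π _ ≫ Ext.addEquiv₀ (Ext.addEquiv₀.symm (φ ≫ f))) =
    f.hom.app (op V) (CohFree.evalGen _ V F (cokernel.π _ ≫ Ext.addEquiv₀ (Ext.addEquiv₀.symm φ)))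
  rw [AddEquiv.apply_symm_apply, AddEquiv.apply_symm_apply, ← Category.assoc]
  rfl

variable {Y : TopCat.{u}} {j : Y ⟶ X} (hj : Topology.IsOpenEmbedding j) {W V : Opens Y} (h : W ≤ V)

/-- sections with support upstairs and on the open piece -/
noncomputable def sectEquiv (G : CohTop.Ab X) :
    LocCohZ.sectZ G ((hj.functor.map (homOfLE h)).le) ≃+ LocCohZ.sectZ ((restrictSh hj).obj G) h where
  toFun s := ⟨s.1, s.2⟩
  invFun s := ⟨s.1, s.2⟩
  left_inv _ := rfl
  right_inv _ := rfl
  map_add' _ _ := rfl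

/-- comparison data -/
noncomputable def shiftData :
    ShiftData (restrictSh hj) (LocCohZ.zq ((hj.functor.map (homOfLE h)).le)) (LocCohZ.zq h) where
  mem _ := True
  injective_mem _ _ := trivial
  quot_mem _ _ _ _ := trivial
  map_shortExact S hS _ _ := hS.map_of_exact _
  acyclic I hI n := by
    haveI := Groth.Agent.Coherent.injective_isFlasque I
    haveI := restrictSh_isFlasque hj I
    exact SupportVanish.subsingleton_HZ_of_isFlasque ((restrictSh hj).obj I) h (n + 1) n.succ_pos
  e₀ G := ((homSect G _).trans (sectEquiv hj h G)).trans (homSect ((restrictSh hj).obj G) h).symm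
  e₀_naturality {G G'} f φ := by
    apply (homSect ((restrictSh hj).obj G') h).injective
    refine ((homSect ((restrictSh hj).obj G') h).apply_symm_apply _).trans ?_
    apply Subtype.ext
    refine Eq.trans ?_ (homSect_comp ((restrictSh hj).map f) h _).symm
    refine (homSect_comp f _ φ).trans ?_
    exact (congrArg (fun s => ((restrictSh hj).map f).hom.app (op V) s.1)
      ((homSect ((restrictSh hj).obj G) h).apply_symm_apply _)).symm

/-- excision -/
noncomputable def HZEquiv (F : CohTop.Ab X) (i : ℕ) :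
    LocCohZ.HZ F i ((hj.functor.map (homOfLE h)).le) ≃+ LocCohZ.HZ ((restrictSh hj).obj F) i h :=
  (shiftData hj h).equiv F trivial i

theorem HZEquiv_naturality {F G : CohTop.Ab X} (f : F ⟶ G) (i : ℕ)
    (x : LocCohZ.HZ F i ((hj.functor.map (homOfLE h)).le)) :
    HZEquiv hj h G i (LocCohZ.map f i ((hj.functor.map (homOfLE h)).le) x) =
      LocCohZ.map ((restrictSh hj).map f) i h (HZEquiv hj h F i x) :=
  (shiftData hj h).equiv_naturality (G := F) (G' := G) trivial trivial f i x

/-- transport along equalities of opens -/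
noncomputable def HZCongr (F : CohTop.Ab X) (i : ℕ) {W₁ V₁ W₂ V₂ : Opens X} (h₁ : W₁ ≤ V₁) (h₂ : W₂ ≤ V₂)
    (eW : W₁ = W₂) (eV : V₁ = V₂) : LocCohZ.HZ F i h₁ ≃+ LocCohZ.HZ F i h₂ := by
  subst eW eV
  exact AddEquiv.refl _

theorem HZCongr_naturality {F G : CohTop.Ab X} (f : F ⟶ G) (i : ℕ) {W₁ V₁ W₂ V₂ : Opens X} (h₁ : W₁ ≤ V₁)
    (h₂ : W₂ ≤ V₂) (eW : W₁ = W₂) (eV : V₁ = V₂) (x : LocCohZ.HZ F i h₁) :
    HZCongr G i h₁ h₂ eW eV (LocCohZ.map f i h₁ x) = LocCohZ.map f i h₂ (HZCongr F i h₁ h₂ eW eV x) := by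
  subst eW eV
  rfl

end Groth.Agent.CAlgH3.SupportRestrict
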