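import Groth.Agent.CAlgH3.SupportRpushOne

/-! Local cohomology sheaves against higher direct images from the open. -/

set_option autoImplicit false
set_option backward.isDefEq.respectTransparency.types false
universe u

open CategoryTheory CategoryTheory.Limits CategoryTheory.Abelian Opposite TopologicalSpace

namespace Groth.Agent.CAlgH3.SupportRpush

open SupportSheaf SupportVanish SupportIff
open Groth.Agent.SiteCoh (opensIncl)

variable {X : TopCat.{u}} (U : Opens X)

local notation "J" => Opens.grothendieckTopology X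

theorem oneT_exact (F : CohTop.Ab X) :
    ∃ (z₁ : ((adj U).unit.app F).hom ≫ (oneT U).app F = 0) (z₂ : (oneT U).app F ≫ toHUpre F U 1 = 0),
      (ShortComplex.mk _ _ z₁).Exact ∧ (ShortComplex.mk _ _ z₂).Exact := by
  have key : ∀ (W : (Opens X)ᵒᵖ) (t : F.obj.obj W),
      (F.obj.map (homOfLE (image_preimage U W.unop).ge).op).hom ((F.obj.map (homOfLE (image_preimage_le U W.unop)).op).hom t) =
        (F.obj.map (homOfLE (inf_le_left : W.unop ⊓ U ≤ W.unop)).op).hom t := fun W t => by
    change ((F.obj.map _) ≫ F.obj.map _).hom t = _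
    rw [← F.obj.map_comp]
    rfl
  have hres : ∀ (W : (Opens X)ᵒᵖ) (t : F.obj.obj W),
      CohFree.ofSect J _ F ((F.obj.map (homOfLE (inf_le_left : W.unop ⊓ U ≤ W.unop)).op).hom t) =
        (LocCohZ.zqSeq (inf_le_left : W.unop ⊓ U ≤ W.unop)).f ≫ CohFree.ofSect J W.unop F t :=
    fun W t => ofSect_map _ F t
  have z₁ : ((adj U).unit.app F).hom ≫ (oneT U).app F = 0 := by
    ext W t
    change (LocCohZ.zqSeq_shortExact (inf_le_left : W.unop ⊓ U ≤ W.unop)).extClass.comp
      (Ext.mk₀ (CohFree.ofSect J _ F ((F.obj.map _).hom ((F.obj.map (homOfLE (image_preimage_le U W.unop)).op).hom t)))) (add_zero 1) = 0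
    rw [key, hres]
    refine Eq.trans ?_ ((LocCohZ.zqSeq_shortExact (inf_le_left : W.unop ⊓ U ≤ W.unop)).extClass_comp_assoc
      (h := add_zero 1) (Ext.mk₀ (CohFree.ofSect J W.unop F t)))
    exact congrArg (fun e => Ext.comp _ e (add_zero 1)) (Ext.mk₀_comp_mk₀ _ _).symm
  have z₂ : (oneT U).app F ≫ toHUpre F U 1 = 0 := by
    ext W t
    exact (LocCohZ.zqSeq_shortExact (inf_le_left : W.unop ⊓ U ≤ W.unop)).comp_extClass_assoc _ (by omega)
  refine ⟨z₁, z₂, FunctorExact.exact_of_app _ fun W => ?_, FunctorExact.exact_of_app _ fun W => ?_⟩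
  · rw [ShortComplex.ab_exact_iff]
    intro s hs
    obtain ⟨y, hy⟩ := Ext.contravariant_sequence_exact₁
      (LocCohZ.zqSeq_shortExact (inf_le_left : W.unop ⊓ U ≤ W.unop)) F _ (by omega) hs
    obtain ⟨ψ, rfl⟩ := (Ext.mk₀_bijective _ _).2 y
    rw [Ext.mk₀_comp_mk₀] at hy
    have hy' := congrArg (CohFree.evalGen J _ F) ((Ext.mk₀_bijective _ _).1 hy)
    refine ⟨CohFree.evalGen J W.unop F ψ, ?_⟩
    have hb : Function.Injective (F.obj.map (homOfLE (image_preimage U W.unop).ge).op).hom := by
      refine Function.LeftInverse.injective (g := (F.obj.map (homOfLE (image_preimage U W.unop).le).op).hom) fun a => ?_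
      change ((F.obj.map _) ≫ F.obj.map _).hom a = a
      rw [← F.obj.map_comp, Subsingleton.elim (_ ≫ _) (𝟙 _), F.obj.map_id]
      rfl
    apply hb
    refine (key W _).trans ?_
    exact (CohFree.evalGen_freeSheafMap_comp J _ F ψ).symm.trans
      (hy'.trans (CohFree.evalGen_ofSect J _ F _))
  · rw [ShortComplex.ab_exact_iff]
    intro z hz
    obtain ⟨x, hx⟩ := Ext.contravariant_sequence_exact₃
      (LocCohZ.zqSeq_shortExact (inf_le_left : W.unop ⊓ U ≤ W.unop)) F z hz (n₀ := 0) (by omega)
    obtain ⟨ψ, rfl⟩ := (Ext.mk₀_bijective _ _).2 x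
    refine ⟨(F.obj.map (homOfLE (image_preimage U W.unop).le).op).hom (CohFree.evalGen J _ F ψ), ?_⟩
    refine Eq.trans ?_ hx
    refine congrArg (fun t => LocCohZ.delta F 0 (inf_le_left : W.unop ⊓ U ≤ W.unop) (Ext.mk₀ t)) ?_
    apply (CohFree.homEquivSect J _ F).injective
    refine (CohFree.evalGen_ofSect J _ F _).trans ?_
    change ((F.obj.map _) ≫ F.obj.map _).hom _ = _
    rw [← F.obj.map_comp, Subsingleton.elim (_ ≫ _) (𝟙 _), F.obj.map_id]
    rfl

theorem oneMap_exact : ∃ (w : (adj U).unit ≫ oneMap U = 0),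
    (ShortComplex.mk _ _ w).Exact ∧ Epi (oneMap U) := by
  let sN := sheafificationNatIso J AddCommGrpCat.{u}
  have hF : ∀ F, ∃ (w : (adj U).unit.app F ≫ (oneMap U).app F = 0),
      (ShortComplex.mk _ _ w).Exact ∧ Epi ((oneMap U).app F) := fun F => by
    obtain ⟨z₁, z₂, e₁, e₂⟩ := oneT_exact U F
    haveI he : Epi ((shf (X := X)).map ((oneT U).app F)) :=
      (e₂.map (shf (X := X))).epi_f ((SiteCoh.isZero_sheafify_cohomologyPresheaf J F 0).eq_of_tgt _ _)
    let G := (CohTop.restrFunctor U ⋙ CohTop.push (CohCx.incl U)).obj F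
    have hm : (oneMap U).app F =
        sN.hom.app G ≫ (shf (X := X)).map ((oneT U).app F) ≫ ((HZshIso U 1).app F).inv := by
      simp [oneMap, sN, G]
    have nat : (adj U).unit.app F ≫ sN.hom.app G =
        sN.hom.app F ≫ (shf (X := X)).map (((adj U).unit.app F).hom) := sN.hom.naturality _
    have w : (adj U).unit.app F ≫ (oneMap U).app F = 0 := by
      refine (congrArg (fun m => (adj U).unit.app F ≫ m) hm).trans ?_
      refine (Category.assoc _ _ _).symm.trans ?_
      refine (congrArg (fun m => m ≫ (shf (X := X)).map ((oneT U).app F) ≫ ((HZshIso U 1).app F).inv) nat).trans ?_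
      erw [Category.assoc, ← Functor.map_comp_assoc, z₁, Functor.map_zero, zero_comp, comp_zero]
    refine ⟨w, ?_, ?_⟩
    · refine ShortComplex.exact_of_iso ?_ (e₁.map (shf (X := X)))
      refine ShortComplex.isoMk (sN.app F).symm (sN.app _).symm ((HZshIso U 1).app F).symm ?_ ?_
      · exact sN.inv.naturality ((adj U).unit.app F) |>.symm
      · change sN.inv.app _ ≫ (oneMap U).app F = (shf (X := X)).map ((oneT U).app F) ≫ ((HZshIso U 1).app F).inv
        refine (congrArg (fun m => sN.inv.app G ≫ m) hm).trans ?_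
        exact sN.inv_hom_id_app_assoc G _
    · rw [hm]
      infer_instance
  have w : (adj U).unit ≫ oneMap U = 0 := by
    ext F : 2
    exact (hF F).1
  refine ⟨w, FunctorExact.exact_of_app _ fun F => ?_, FunctorExact.epi_of_app _ fun F => (hF F).2.2⟩
  exact (hF F).2.1

/-- `ℋ^1_Z` is the cokernel of the unit. -/
theorem nonempty_oneIso : Nonempty (LocCohZ.HZsh U 1 ≅
    cokernel (TopCat.Sheaf.pullbackPushforwardAdjunction AddCommGrpCat.{u} (CohCx.incl U)).unit) := by
  obtain ⟨w, hex, hepi⟩ := oneMap_exact U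
  haveI : Epi (ShortComplex.mk _ _ w).g := hepi
  let e := IsColimit.coconePointUniqueUpToIso hex.gIsCokernel (cokernelIsCokernel (adj U).unit)
  let c := cokernel.mapIso (TopCat.Sheaf.pullbackPushforwardAdjunction AddCommGrpCat.{u} (CohCx.incl U)).unit
    (adj U).unit (Iso.refl _) (Functor.isoWhiskerRight (pullRestr U) (CohTop.push (CohCx.incl U))) (by
      ext F : 2
      simp only [NatTrans.comp_app, Iso.refl_hom, NatTrans.id_app, Category.id_comp]
      exact Adjunction.unit_leftAdjointUniq_hom_app _ _ F)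
  exact ⟨e ≪≫ c.symm⟩

end Groth.Agent.CAlgH3.SupportRpush
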