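import Groth.Agent.CAlgH3.SupportIff
import Groth.Agent.CAlgH3.FunctorExact
import Groth.Agent.SiteCoh.RestrBase
import Groth.Agent.CAlgH3.RpushGen

/-! Local cohomology sheaves against higher direct images from the open. -/

set_option autoImplicit false
set_option backward.isDefEq.respectTransparency.types false
universe u

open CategoryTheory CategoryTheory.Limits CategoryTheory.Abelian Opposite TopologicalSpace

namespace Groth.Agent.CAlgH3.SupportRpush

theorem extClass_comp_naturality {C : Type*} [Category C] [Abelian C] [HasExt.{u} C] {S₁ S₂ : ShortComplex C}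
    (h₁ : S₁.ShortExact) (h₂ : S₂.ShortExact) (f : S₁ ⟶ S₂) (F : C) (q : ℕ) (x : Ext S₂.X₁ F q)
    (h : 1 + q = q + 1) :
    h₁.extClass.comp ((Ext.mk₀ f.τ₁).comp x (zero_add q)) h =
      (Ext.mk₀ f.τ₃).comp (h₂.extClass.comp x h) (zero_add (q + 1)) := by
  rw [← Ext.comp_assoc (Ext.mk₀ f.τ₃) h₂.extClass x (zero_add 1) h (by omega),
    ← ShortComplex.ShortExact.extClass_naturality h₁ h₂ f]
  exact (Ext.comp_assoc _ _ _ (add_zero 1) (zero_add q) (by omega)).symm

open SupportSheaf SupportVanish SupportIff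
open Groth.Agent.SiteCoh (opensIncl)

variable {X : TopCat.{u}} (U : Opens X)

local notation "J" => Opens.grothendieckTopology X

/-- `V ↦ V ⊓ U` -/
def infF : Opens X ⥤ Opens X where
  obj V := V ⊓ U
  map i := homOfLE (inf_le_inf_right U (leOfHom i))

/-- image of preimage -/
def isoInf : Opens.map (CohCx.incl U) ⋙ opensIncl U ≅ infF U :=
  NatIso.ofComponents (fun V => eqToIso (image_preimage U V)) (fun _ => Subsingleton.elim _ _)

/-- the inverse image along the inclusion is restriction -/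
noncomputable def pullRestr : CohTop.pull (CohCx.incl U) ≅ CohTop.restrFunctor U :=
  Adjunction.leftAdjointUniq (TopCat.Sheaf.pullbackPushforwardAdjunction AddCommGrpCat.{u} (CohCx.incl U)) (adj U)

/-- the morphism of the sequences of two opens -/
noncomputable def seqMap {V V' : Opens X} (i : V ⟶ V') :
    LocCohZ.zqSeq (inf_le_left : V ⊓ U ≤ V) ⟶ LocCohZ.zqSeq (inf_le_left : V' ⊓ U ≤ V') where
  τ₁ := CohCx.freeSheafMap J ((infF U).map i)
  τ₂ := CohCx.freeSheafMap J i
  τ₃ := (zqFun U).map i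
  comm₁₂ := by
    simp only [LocCohZ.zqSeq]
    rw [← CohFree.freeSheafMap_comp, ← CohFree.freeSheafMap_comp]
    rfl
  comm₂₃ := by
    simp [LocCohZ.zqSeq, zqFun, LocCohZ.zqMap]
    rfl

/-- the free sheaves -/
noncomputable abbrev free0 : Opens X ⥤ CohTop.Ab X :=
  yoneda ⋙ (Functor.whiskeringRight _ _ _).obj AddCommGrpCat.free ⋙ presheafToSheaf J AddCommGrpCat.{u}

/-- the free sheaves on `V ⊓ U` -/
noncomputable abbrev freeInf : Opens X ⥤ CohTop.Ab X := infF U ⋙ free0

/-- `ℤ_{V ⊓ U} ⟶ ℤ_V` -/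
noncomputable def inclT : freeInf U ⟶ free0 (X := X) where
  app V := CohCx.freeSheafMap J (homOfLE (inf_le_left : V ⊓ U ≤ V))
  naturality _ _ i := (seqMap U i).comm₁₂

/-- `ℤ_V ⟶ ℤ_V/ℤ_{V ⊓ U}` -/
noncomputable def projT : free0 (X := X) ⟶ zqFun U where
  app V := (LocCohZ.zqSeq (inf_le_left : V ⊓ U ≤ V)).g
  naturality _ _ i := (seqMap U i).comm₂₃

theorem inclT_projT (V : Opens X) : (inclT U).app V ≫ (projT U).app V = 0 :=
  (LocCohZ.zqSeq (inf_le_left : V ⊓ U ≤ V)).zero

theorem shortExact_incl_proj (V : Opens X) :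
    (ShortComplex.mk ((inclT U).app V) ((projT U).app V) (inclT_projT U V)).ShortExact :=
  LocCohZ.zqSeq_shortExact (inf_le_left : V ⊓ U ≤ V)

/-- the connecting maps, natural in the open and the sheaf -/
noncomputable abbrev deltaT (q : ℕ) : SiteCoh.extGroups (freeInf U) q ⟶ SiteCoh.extGroups (zqFun U) (q + 1) :=
  RpushGen.deltaOf (inclT U) (projT U) (inclT_projT U) (shortExact_incl_proj U) q

theorem isZero_mid (q : ℕ) (F : CohTop.Ab X) :
    IsZero ((shf (X := X)).obj ((SiteCoh.extGroups (free0 (X := X)) (q + 1)).obj F)) :=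
  SiteCoh.isZero_sheafify_cohomologyPresheaf J F q

theorem isIso_shf_deltaT (q : ℕ) (F : CohTop.Ab X) :
    IsIso ((shf (X := X)).map ((deltaT U (q + 1)).app F)) :=
  RpushGen.isIso_map_deltaOf (shf (X := X)) (inclT U) (projT U) (inclT_projT U) (shortExact_incl_proj U) (q + 1) F
    (isZero_mid q F) (isZero_mid (q + 1) F)

/-- the comparison of the two descriptions of `V ↦ H^q(V ⊓ U, -)` -/
noncomputable def cmpIso (q : ℕ) :
    SiteCoh.extGroups (freeInf U) q ≅
      Sheaf.cohomologyPresheafFunctor.{u} J q ⋙ (Functor.whiskeringLeft _ _ _).obj (infF U).op :=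
  RpushGen.compIso (A := free0 (X := X)) (infF U) q

noncomputable def highStep1 (q : ℕ) : LocCohZ.HZsh U (q + 2) ≅ SiteCoh.extGroups (zqFun U) (q + 2) ⋙ shf (X := X) :=
  HZshIso U (q + 2)

noncomputable def highStep2 (q : ℕ) : SiteCoh.extGroups (zqFun U) (q + 2) ⋙ shf (X := X) ≅
    SiteCoh.extGroups (freeInf U) (q + 1) ⋙ shf (X := X) :=
  haveI : IsIso (Functor.whiskerRight (deltaT U (q + 1)) (shf (X := X))) :=
    (NatTrans.isIso_iff_isIso_app _).2 fun F => isIso_shf_deltaT U q F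
  (asIso (Functor.whiskerRight (deltaT U (q + 1)) (shf (X := X)))).symm

noncomputable def highStep3 (q : ℕ) :
    SiteCoh.extGroups (freeInf U) (q + 1) ⋙ shf (X := X) ≅
      Sheaf.cohomologyPresheafFunctor.{u} J (q + 1) ⋙
        (Functor.whiskeringLeft _ _ AddCommGrpCat.{u}).obj (Opens.map (CohCx.incl U) ⋙ opensIncl U).op ⋙
          shf (X := X) :=
  Functor.isoWhiskerRight (cmpIso U (q + 1)) (shf (X := X)) ≪≫ Functor.associator _ _ _ ≪≫
    Functor.isoWhiskerLeft _ (Functor.isoWhiskerRight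
      ((Functor.whiskeringLeft _ _ AddCommGrpCat.{u}).mapIso (NatIso.op (isoInf U))) _)

noncomputable def highStep4 (q : ℕ) :
    Sheaf.cohomologyPresheafFunctor.{u} J (q + 1) ⋙
        (Functor.whiskeringLeft _ _ AddCommGrpCat.{u}).obj (Opens.map (CohCx.incl U) ⋙ opensIncl U).op ⋙
          shf (X := X) ≅
      (Sheaf.cohomologyPresheafFunctor.{u} J (q + 1) ⋙ (Functor.whiskeringLeft _ _ AddCommGrpCat.{u}).obj (opensIncl U).op) ⋙
        ((Functor.whiskeringLeft _ _ AddCommGrpCat.{u}).obj (Opens.map (CohCx.incl U)).op ⋙ shf (X := X)) :=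
  RpushGen.whiskerCompIso (Sheaf.cohomologyPresheafFunctor.{u} J (q + 1)) (opensIncl U) (Opens.map (CohCx.incl U)) (shf (X := X))

noncomputable def highStep5 (q : ℕ) :
    (Sheaf.cohomologyPresheafFunctor.{u} J (q + 1) ⋙ (Functor.whiskeringLeft _ _ AddCommGrpCat.{u}).obj (opensIncl U).op) ⋙
        ((Functor.whiskeringLeft _ _ AddCommGrpCat.{u}).obj (Opens.map (CohCx.incl U)).op ⋙ shf (X := X)) ≅
      CohTop.pull (CohCx.incl U) ⋙ CohTop.Rpush (CohCx.incl U) (q + 1) :=
  Functor.isoWhiskerRight (SiteCoh.cohomologyPresheafRestrIso U (q + 1))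
      ((Functor.whiskeringLeft _ _ AddCommGrpCat.{u}).obj (Opens.map (CohCx.incl U)).op ⋙ shf (X := X)) ≪≫
    Functor.associator _ _ _ ≪≫
    Functor.isoWhiskerLeft (CohTop.restrFunctor U) (SiteCoh.rpushTopIso (CohCx.incl U) (q + 1)).symm ≪≫
    Functor.isoWhiskerRight (pullRestr U).symm _

/-- `ℋ^{q+2}_Z ≅ R^{q+1} j_* ∘ j^{-1}` -/
noncomputable def highIso (q : ℕ) :
    LocCohZ.HZsh U (q + 2) ≅ CohTop.pull (CohCx.incl U) ⋙ CohTop.Rpush (CohCx.incl U) (q + 1) :=
  highStep1 U q ≪≫ highStep2 U q ≪≫ highStep3 U q ≪≫ highStep4 U q ≪≫ highStep5 U q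

end Groth.Agent.CAlgH3.SupportRpush
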