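import Groth.Agent.CAlgH3.SupportRpushHigh

/-! The first local cohomology sheaf receives the pushforward from the open. -/

set_option autoImplicit false
set_option backward.isDefEq.respectTransparency.types false
universe u

open CategoryTheory CategoryTheory.Limits CategoryTheory.Abelian Opposite TopologicalSpace

namespace Groth.Agent.CAlgH3.SupportRpush

open SupportSheaf SupportVanish SupportIff
open Groth.Agent.SiteCoh (opensIncl)

variable {X : TopCat.{u}} (U : Opens X)

local notation "J" => Opens.grothendieckTopology X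

theorem delta_naturality {V V' : Opens X} (i : V ⟶ V') (F : CohTop.Ab X) (q : ℕ)
    (x : Ext (CohCx.freeSheaf J (V' ⊓ U)) F q) :
    LocCohZ.delta F q (inf_le_left : V ⊓ U ≤ V)
        ((Ext.mk₀ (CohCx.freeSheafMap J ((infF U).map i))).comp x (zero_add q)) =
      (Ext.mk₀ ((zqFun U).map i)).comp (LocCohZ.delta F q (inf_le_left : V' ⊓ U ≤ V') x) (zero_add (q + 1)) := by
  exact extClass_comp_naturality (LocCohZ.zqSeq_shortExact (inf_le_left : V ⊓ U ≤ V))
    (LocCohZ.zqSeq_shortExact (inf_le_left : V' ⊓ U ≤ V')) (seqMap U i) F q x (by omega)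

theorem ofSect_map {A B : Opens X} (g : A ⟶ B) (F : CohTop.Ab X) (s : F.obj.obj (op B)) :
    CohFree.ofSect J A F ((F.obj.map g.op).hom s) = CohCx.freeSheafMap J g ≫ CohFree.ofSect J B F s := by
  apply (CohFree.homEquivSect J A F).injective
  refine (CohFree.evalGen_ofSect J A F _).trans ?_
  show _ = CohFree.evalGen J A F (CohCx.freeSheafMap J g ≫ CohFree.ofSect J B F s)
  rw [CohFree.evalGen_freeSheafMap_comp, CohFree.evalGen_ofSect]

theorem ofSect_app {F G : CohTop.Ab X} (f : F ⟶ G) (A : Opens X) (s : F.obj.obj (op A)) :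
    CohFree.ofSect J A G ((f.hom.app (op A)).hom s) = CohFree.ofSect J A F s ≫ f := by
  apply (CohFree.homEquivSect J A G).injective
  refine (CohFree.evalGen_ofSect J A G _).trans ?_
  exact (congrArg ((f.hom.app (op A)).hom) (CohFree.evalGen_ofSect J A F s)).symm

/-- `F(V ∩ U) → H^1_{V∖U}(V, F)` at one open -/
noncomputable def sig (F : CohTop.Ab X) (V : Opens X) :
    F.obj.obj (op ((opensIncl U).obj ((Opens.map (CohCx.incl U)).obj V))) →+ Ext ((zqFun U).obj V) F 1 :=
  (LocCohZ.delta F 0 (inf_le_left : V ⊓ U ≤ V)).comp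
    ((Ext.addEquiv₀.symm.toAddMonoidHom.comp (CohFree.homEquivSect J _ F).symm.toAddMonoidHom).comp
      (F.obj.map (homOfLE (image_preimage U V).ge).op).hom)

theorem sig_natural {V V' : Opens X} (i : V ⟶ V') (F : CohTop.Ab X)
    (s : F.obj.obj (op ((opensIncl U).obj ((Opens.map (CohCx.incl U)).obj V')))) :
    sig U F V ((F.obj.map ((opensIncl U).map ((Opens.map (CohCx.incl U)).map i)).op).hom s) =
      (Ext.mk₀ ((zqFun U).map i)).comp (sig U F V' s) (zero_add 1) := by
  refine Eq.trans ?_ (delta_naturality U i F 0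
    (Ext.mk₀ (CohFree.ofSect J _ F ((F.obj.map (homOfLE (image_preimage U V').ge).op).hom s))))
  refine congrArg (LocCohZ.delta F 0 (inf_le_left : V ⊓ U ≤ V)) ?_
  refine Eq.trans ?_ (Ext.mk₀_comp_mk₀ _ _).symm
  refine Eq.trans ?_ (congrArg Ext.mk₀ (ofSect_map _ F _))
  refine congrArg (fun t => Ext.mk₀ (CohFree.ofSect J _ F t)) ?_
  change ((F.obj.map _) ≫ F.obj.map _).hom s = (F.obj.map _ ≫ F.obj.map _).hom s
  rw [← F.obj.map_comp, ← F.obj.map_comp]
  exact congrArg (fun m => (F.obj.map m).hom s) (Subsingleton.elim _ _)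

theorem sig_app {F G : CohTop.Ab X} (f : F ⟶ G) (V : Opens X)
    (s : F.obj.obj (op ((opensIncl U).obj ((Opens.map (CohCx.incl U)).obj V)))) :
    sig U G V ((f.hom.app _).hom s) = (sig U F V s).comp (Ext.mk₀ f) (add_zero 1) := by
  change (LocCohZ.zqSeq_shortExact (inf_le_left : V ⊓ U ≤ V)).extClass.comp
      (Ext.mk₀ (CohFree.ofSect J _ G ((G.obj.map _).hom ((f.hom.app _).hom s)))) (add_zero 1) =
    ((LocCohZ.zqSeq_shortExact (inf_le_left : V ⊓ U ≤ V)).extClass.comp
      (Ext.mk₀ (CohFree.ofSect J _ F ((F.obj.map _).hom s))) (add_zero 1)).comp (Ext.mk₀ f) (add_zero 1)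
  refine Eq.trans ?_ (Ext.comp_assoc _ _ _ (add_zero 1) (add_zero 0) (by omega)).symm
  refine congrArg (fun e => Ext.comp _ e (add_zero 1)) ?_
  refine Eq.trans ?_ (Ext.mk₀_comp_mk₀ _ _).symm
  refine Eq.trans ?_ (congrArg Ext.mk₀ (ofSect_app f _ _))
  exact congrArg (fun t => Ext.mk₀ (CohFree.ofSect J _ G t)) (ConcreteCategory.congr_hom (f.hom.naturality _) s).symm

/-- `F(V ∩ U) → H^1_{V∖U}(V, F)` -/
noncomputable def oneT :
    (CohTop.restrFunctor U ⋙ CohTop.push (CohCx.incl U)) ⋙ sheafToPresheaf J AddCommGrpCat.{u} ⟶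
      SiteCoh.extGroups (zqFun U) 1 where
  app F :=
    { app := fun W => AddCommGrpCat.ofHom (sig U F W.unop)
      naturality := fun W W' i => by
        ext s
        exact sig_natural U i.unop F s }
  naturality F G f := by
    ext W s
    exact sig_app U f W.unop s

/-- `ℋ^1_Z` receives `j_* j^{-1}` -/
noncomputable def oneMap : CohTop.restrFunctor U ⋙ CohTop.push (CohCx.incl U) ⟶ LocCohZ.HZsh U 1 :=
  ((Functor.rightUnitor _).symm ≪≫
      Functor.isoWhiskerLeft _ (sheafificationNatIso J AddCommGrpCat.{u}) ≪≫ (Functor.associator _ _ _).symm).hom ≫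
    Functor.whiskerRight (oneT U) (shf (X := X)) ≫ (HZshIso U 1).inv

end Groth.Agent.CAlgH3.SupportRpush
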