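import Groth.Agent.CAlgH3.SupportRHZ
import Groth.Agent.CAlgH3.SupportRestrict
import Groth.Agent.CAlgH3.SupportClosedAdj
import Groth.Agent.SpecSeq.SheafSS

/-! Inputs for the spectral sequences of cohomology with supports. -/

set_option autoImplicit false
set_option backward.isDefEq.respectTransparency.types false
universe u

open CategoryTheory CategoryTheory.Limits CategoryTheory.Abelian Opposite TopologicalSpace

namespace Groth.Agent.CAlgH3.SupportSS

open SupportSheaf

variable {X : TopCat.{u}} (U : Opens X)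

/-- sections with support in an injective sheaf are flasque -/
theorem isFlasque_sectSupp (I : CohTop.Ab X) [TopCat.Sheaf.IsFlasque I] :
    TopCat.Sheaf.IsFlasque ((LocCohZ.sectSuppF U).obj I) := by
  refine ⟨fun {V W} g => ?_⟩
  rw [AddCommGrpCat.epi_iff_surjective]
  intro t
  let K := (LocCohZ.sectSuppF U).obj I
  let s : I.obj.obj W := (iota U I).hom.app W t
  haveI := SupportClosedAdj.supp_sectSupp U I (W.unop ⊓ U) inf_le_right
  let O : Bool → Opens X := fun b => cond b W.unop U
  let sf : ∀ b, I.obj.obj (op (O b)) := fun b => match b with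
    | true => s
    | false => 0
  have hs : (I.obj.map (homOfLE (inf_le_left : W.unop ⊓ U ≤ W.unop)).op) s = 0 := by
    refine (ConcreteCategory.congr_hom ((iota U I).hom.naturality (homOfLE (inf_le_left : W.unop ⊓ U ≤ W.unop)).op) t).symm.trans ?_
    refine Eq.trans ?_ (map_zero ((iota U I).hom.app (op (W.unop ⊓ U))).hom)
    exact congrArg ((iota U I).hom.app (op (W.unop ⊓ U))).hom (Subsingleton.elim _ _)
  have hc : TopCat.Presheaf.IsCompatible I.obj O sf := by
    intro a b
    cases a <;> cases b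
    · rfl
    · refine (map_zero _).trans ?_
      have h : (Opens.infLERight (O false) (O true)).op = (homOfLE (inf_le_left : W.unop ⊓ U ≤ W.unop)).op ≫
          (homOfLE (inf_comm U W.unop).le).op := Subsingleton.elim _ _
      show _ = (I.obj.map _).hom s
      rw [h, I.obj.map_comp]
      exact ((congrArg (I.obj.map _).hom hs).trans (map_zero _)).symm
    · refine Eq.trans ?_ (map_zero _).symm
      exact hs
    · rfl
  obtain ⟨G, hG, -⟩ := TopCat.Sheaf.existsUnique_gluing' I O (W.unop ⊔ U)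
    (fun b => homOfLE (by cases b <;> simp [O]))
    (sup_le (le_iSup O true) (le_iSup O false)) sf hc
  obtain ⟨y, hy⟩ := (AddCommGrpCat.epi_iff_surjective (I.obj.map (homOfLE (le_top : W.unop ⊔ U ≤ ⊤)).op)).1
    inferInstance G
  let z : I.obj.obj V := I.obj.map (homOfLE (le_top : V.unop ≤ ⊤)).op y
  have hyU : I.obj.map (homOfLE (le_top : U ≤ ⊤)).op y = 0 := by
    refine Eq.trans ?_ (hG false)
    rw [← hy, ← ConcreteCategory.comp_apply, ← I.obj.map_comp]
    rfl
  have hyW : I.obj.map (homOfLE (le_top : W.unop ≤ ⊤)).op y = s := by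
    refine Eq.trans ?_ (hG true)
    rw [← hy, ← ConcreteCategory.comp_apply, ← I.obj.map_comp]
    rfl
  have hz : (I.obj.map (homOfLE (inf_le_left : V.unop ⊓ U ≤ V.unop)).op).hom z = 0 := by
    show (I.obj.map _ ≫ I.obj.map _).hom y = 0
    rw [← I.obj.map_comp, show (homOfLE (le_top : V.unop ≤ ⊤)).op ≫ (homOfLE (inf_le_left : V.unop ⊓ U ≤ V.unop)).op =
      (homOfLE (le_top : U ≤ ⊤)).op ≫ (homOfLE (inf_le_right : V.unop ⊓ U ≤ U)).op from Subsingleton.elim _ _,
      I.obj.map_comp]
    exact (congrArg (I.obj.map _).hom hyU).trans (map_zero _)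
  let φ := (SupportRestrict.homSect I (inf_le_left : V.unop ⊓ U ≤ V.unop)).symm ⟨z, hz⟩
  refine ⟨chi U I V.unop φ, iota_injective U I W ?_⟩
  refine (ConcreteCategory.congr_hom ((iota U I).hom.naturality g) (chi U I V.unop φ)).trans ?_
  have hzeq : (iota U I).hom.app V (chi U I V.unop φ) = z := by
    refine (iota_chi U I V.unop φ).trans ?_
    have h := congrArg Subtype.val
      ((SupportRestrict.homSect I (inf_le_left : V.unop ⊓ U ≤ V.unop)).apply_symm_apply ⟨z, hz⟩)
    refine Eq.trans ?_ h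
    exact congrArg (fun m => CohFree.evalGen (Opens.grothendieckTopology X) V.unop I (cokernel.π _ ≫ m))
      (Ext.addEquiv₀.apply_symm_apply φ).symm
  refine (congrArg (I.obj.map g).hom hzeq).trans ?_
  refine Eq.trans ?_ hyW
  exact (ConcreteCategory.congr_hom (I.obj.map_comp (homOfLE (le_top : V.unop ≤ ⊤)).op g) y).symm

/-- `Γ_Z(X,-)` as a Hom functor -/
noncomputable def gammaHomIso : LocCohZ.gammaZF U ≅ preadditiveCoyoneda.obj (op ((zqFun U).obj ⊤)) :=
  (Functor.associator _ _ _).symm ≪≫ Functor.isoWhiskerRight (sectSuppPreIso U).symm _ ≪≫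
    NatIso.ofComponents (fun _ => Iso.refl _) (fun _ => (Category.comp_id _).trans (Category.id_comp _).symm)

instance gammaZF_preservesFiniteLimits : PreservesFiniteLimits (LocCohZ.gammaZF U) := by
  haveI : PreservesFiniteLimits (preadditiveCoyoneda.obj (op ((zqFun U).obj ⊤))) :=
    ⟨fun _ _ _ => inferInstance⟩
  exact preservesFiniteLimits_of_natIso (gammaHomIso U).symm

variable {Y : TopCat.{u}} (f : X ⟶ Y) (V : Opens Y)

/-- sections with support of a direct image -/
noncomputable def sectPushEquiv (G : CohTop.Ab X) :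
    LocCohZ.sectZ ((CohTop.push f).obj G) (inf_le_left : ⊤ ⊓ V ≤ ⊤) ≃+
      LocCohZ.sectZ G (inf_le_left : ⊤ ⊓ (Opens.map f).obj V ≤ ⊤) where
  toFun s := ⟨s.1, s.2⟩
  invFun s := ⟨s.1, s.2⟩
  left_inv _ := rfl
  right_inv _ := rfl
  map_add' _ _ := rfl

/-- `Γ_Z(Y, f_* -) = Γ_{f⁻¹Z}(X, -)` -/
noncomputable def gammaPushIso : CohTop.push f ⋙ LocCohZ.gammaZF V ≅ LocCohZ.gammaZF ((Opens.map f).obj V) :=
  Functor.isoWhiskerLeft _ (gammaHomIso V) ≪≫
    NatIso.ofComponents (fun G => AddEquiv.toAddCommGrpIso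
        (((SupportRestrict.homSect ((CohTop.push f).obj G) (inf_le_left : ⊤ ⊓ V ≤ ⊤)).trans (sectPushEquiv f V G)).trans
          (SupportRestrict.homSect G (inf_le_left : ⊤ ⊓ (Opens.map f).obj V ≤ ⊤)).symm))
      (fun {G G'} a => by
        ext φ
        change (zqFun V).obj ⊤ ⟶ (CohTop.push f).obj G at φ
        apply (SupportRestrict.homSect G' (inf_le_left : ⊤ ⊓ (Opens.map f).obj V ≤ ⊤)).injective
        refine ((SupportRestrict.homSect G' _).apply_symm_apply _).trans ?_
        apply Subtype.ext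
        refine (SupportRestrict.homSect_comp ((CohTop.push f).map a) (inf_le_left : ⊤ ⊓ V ≤ ⊤) φ).trans ?_
        refine Eq.trans ?_ (SupportRestrict.homSect_comp a (inf_le_left : ⊤ ⊓ (Opens.map f).obj V ≤ ⊤) _).symm
        exact (congrArg (fun s : LocCohZ.sectZ G (inf_le_left : ⊤ ⊓ (Opens.map f).obj V ≤ ⊤) => a.hom.app (op ⊤) s.1)
          ((SupportRestrict.homSect G _).apply_symm_apply (sectPushEquiv f V G (SupportRestrict.homSect _ _ φ)))).symm) ≪≫
    (gammaHomIso ((Opens.map f).obj V)).symm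

/-- derived functors of `Γ_Z(X,-)` at a sheaf -/
noncomputable def rhzObjIso (n : ℕ) (F : CohTop.Ab X) :
    (LocCohZ.RHZ U n).obj F ≅ AddCommGrpCat.of (LocCohZ.HZc F n U) :=
  (SupportRHZ.RHZIso U n).app F ≪≫ (LocCohZ.HZcEquivHZFunctor F n U).symm.toAddCommGrpIso

end Groth.Agent.CAlgH3.SupportSS
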