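import Groth.Prelude.Def_LocCohZ
import Groth.Agent.SiteCoh.ExtResolution
import Groth.Agent.SiteCoh.Derived
import Groth.Agent.SiteCoh.Restrict

/-! Local cohomology sheaves as sheafified presheaves of cohomology with supports. -/

set_option autoImplicit false
set_option backward.isDefEq.respectTransparency.types false
universe u

open CategoryTheory CategoryTheory.Limits CategoryTheory.Abelian Opposite TopologicalSpace

namespace Groth.Agent.CAlgH3.SupportSheaf

open Groth.Agent.SiteCoh (opensIncl)

variable {X : TopCat.{u}} (U : Opens X)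

theorem le_preimage_image (W : Opens U) : W ≤ (Opens.map (CohCx.incl U)).obj ((opensIncl U).obj W) :=
  fun x hx => ⟨x, hx, rfl⟩

theorem image_preimage_le (V : Opens X) : (opensIncl U).obj ((Opens.map (CohCx.incl U)).obj V) ≤ V := by
  rintro _ ⟨x, hx, rfl⟩
  exact hx

theorem image_preimage (V : Opens X) : (opensIncl U).obj ((Opens.map (CohCx.incl U)).obj V) = V ⊓ U := by
  ext x
  exact ⟨fun ⟨y, hy, e⟩ => e ▸ ⟨hy, y.2⟩, fun h => ⟨⟨x, h.2⟩, h.1, rfl⟩⟩

/-- restriction to an open is left adjoint to direct image -/
noncomputable def adj : CohTop.restrFunctor U ⊣ CohTop.push (CohCx.incl U) :=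
  Adjunction.mkOfUnitCounit
    { unit :=
        { app := fun F => ⟨{ app := fun V => F.obj.map (homOfLE (image_preimage_le U V.unop)).op
                             naturality := fun V V' i => by
                               change F.obj.map i ≫ F.obj.map _ = F.obj.map _ ≫ F.obj.map _
                               rw [← F.obj.map_comp, ← F.obj.map_comp]
                               exact congrArg F.obj.map (Subsingleton.elim _ _) }⟩
          naturality := fun F G φ => by
            ext V : 3
            exact (φ.hom.naturality _).symm }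
      counit :=
        { app := fun G => ⟨{ app := fun W => G.obj.map (homOfLE (le_preimage_image U W.unop)).op
                             naturality := fun W W' i => by
                               change G.obj.map _ ≫ G.obj.map _ = G.obj.map _ ≫ G.obj.map i
                               rw [← G.obj.map_comp, ← G.obj.map_comp]
                               exact congrArg G.obj.map (Subsingleton.elim _ _) }⟩
          naturality := fun G G' φ => by
            ext W : 3
            exact (φ.hom.naturality _).symm }
      left_triangle := by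
        ext F W : 5
        change F.obj.map _ ≫ F.obj.map _ = 𝟙 _
        rw [← F.obj.map_comp, ← F.obj.map_id]
        exact congrArg F.obj.map (Subsingleton.elim _ _)
      right_triangle := by
        ext G V : 5
        change G.obj.map _ ≫ G.obj.map _ = 𝟙 _
        rw [← G.obj.map_comp, ← G.obj.map_id]
        exact congrArg G.obj.map (Subsingleton.elim _ _) }

/-- `V ↦ ℤ_V/ℤ_{V∩U}` -/
noncomputable def zqFun : Opens X ⥤ CohTop.Ab X where
  obj V := LocCohZ.zq (inf_le_left : V ⊓ U ≤ V)
  map {V V'} i := LocCohZ.zqMap _ _ (inf_le_inf_right _ (leOfHom i)) (leOfHom i)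
  map_id V := by
    apply coequalizer.hom_ext
    simp [LocCohZ.zqMap, CohFree.freeSheafMap_id]
  map_comp {V V' V''} i i' := by
    apply coequalizer.hom_ext
    simp [LocCohZ.zqMap]
    rw [← reassoc_of% CohFree.freeSheafMap_comp]
    rfl

/-- a morphism to `F` is a morphism to the sections with support if its section vanishes on `U` -/
noncomputable def lift (F : CohTop.Ab X) (V : Opens X) (φ : (zqFun U).obj V ⟶ F) :
    CohCx.freeSheaf (Opens.grothendieckTopology X) V ⟶ (LocCohZ.sectSuppF U).obj F :=
  kernel.lift _ (cokernel.π _ ≫ φ) (by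
    let η := (TopCat.Sheaf.pullbackPushforwardAdjunction AddCommGrpCat.{u} (CohCx.incl U)).unit.app F
    let e := (Adjunction.leftAdjointUniq
      (TopCat.Sheaf.pullbackPushforwardAdjunction AddCommGrpCat.{u} (CohCx.incl U)) (adj U)).app F
    have he : η ≫ (CohTop.push (CohCx.incl U)).map e.hom = (adj U).unit.app F :=
      Adjunction.unit_leftAdjointUniq_hom_app _ _ F
    rw [← cancel_mono ((CohTop.push (CohCx.incl U)).map e.hom), zero_comp, Category.assoc]
    refine (congrArg (fun m => (cokernel.π _ ≫ φ) ≫ m) he).trans ?_
    apply (CohFree.homEquivSect (Opens.grothendieckTopology X) V _).injective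
    rw [map_zero]
    change (F.obj.map (homOfLE (image_preimage_le U V)).op).hom
      (CohFree.evalGen (Opens.grothendieckTopology X) V F (cokernel.π _ ≫ φ)) = 0
    have h : (homOfLE (image_preimage_le U V)).op =
        (homOfLE (inf_le_left : V ⊓ U ≤ V)).op ≫ (homOfLE (image_preimage U V).le).op := Subsingleton.elim _ _
    rw [h, F.obj.map_comp, AddCommGrpCat.hom_comp, AddMonoidHom.comp_apply, ← CohFree.evalGen_freeSheafMap_comp,
      cokernel.condition_assoc, zero_comp, map_zero, map_zero])

/-- sections of the sheaf of sections with support -/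
noncomputable def chi (F : CohTop.Ab X) (V : Opens X) :
    ((zqFun U).obj V ⟶ F) →+ ((LocCohZ.sectSuppF U).obj F).obj.obj (op V) :=
  AddMonoidHom.mk' (fun φ => CohFree.evalGen (Opens.grothendieckTopology X) V _ (lift U F V φ)) (fun φ φ' => by
    rw [← map_add]
    congr 1
    apply equalizer.hom_ext
    erw [Preadditive.add_comp]
    simp [lift]
    exact Preadditive.comp_add _ _ _ _ _ _)

/-- the inclusion -/
noncomputable abbrev iota (F : CohTop.Ab X) : (LocCohZ.sectSuppF U).obj F ⟶ F :=
  kernel.ι ((TopCat.Sheaf.pullbackPushforwardAdjunction AddCommGrpCat.{u} (CohCx.incl U)).unit.app F)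

theorem iota_injective (F : CohTop.Ab X) (V : (Opens X)ᵒᵖ) : Function.Injective ((iota U F).hom.app V) :=
  (AddCommGrpCat.mono_iff_injective _).1
    (by
      haveI hm : Mono (iota U F) := equalizer.ι_mono
      haveI : Mono ((sheafToPresheaf (Opens.grothendieckTopology X) AddCommGrpCat.{u}).map (iota U F)) :=
        Functor.map_mono _ _
      exact inferInstanceAs (Mono (((sheafToPresheaf (Opens.grothendieckTopology X) AddCommGrpCat.{u}).map (iota U F)).app V)))

theorem iota_chi (F : CohTop.Ab X) (V : Opens X) (φ : (zqFun U).obj V ⟶ F) :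
    (iota U F).hom.app (op V) (chi U F V φ) =
      CohFree.evalGen (Opens.grothendieckTopology X) V F (cokernel.π _ ≫ φ) :=
  congrArg (CohFree.evalGen (Opens.grothendieckTopology X) V F) (kernel.lift_ι _ _ _)

theorem chi_bijective (F : CohTop.Ab X) (V : Opens X) : Function.Bijective (chi U F V) := by
  let J := Opens.grothendieckTopology X
  constructor
  · intro φ φ' h
    have h' := congrArg ((iota U F).hom.app (op V)) h
    rw [iota_chi, iota_chi] at h'
    exact (cancel_epi (cokernel.π _)).1 ((CohFree.homEquivSect J V F).injective h')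
  · intro t
    let ψ := CohFree.ofSect J V _ t ≫ iota U F
    have hψ : CohCx.freeSheafMap J (homOfLE (inf_le_left : V ⊓ U ≤ V)) ≫ ψ = 0 := by
      let η := (TopCat.Sheaf.pullbackPushforwardAdjunction AddCommGrpCat.{u} (CohCx.incl U)).unit.app F
      let e := (Adjunction.leftAdjointUniq
        (TopCat.Sheaf.pullbackPushforwardAdjunction AddCommGrpCat.{u} (CohCx.incl U)) (adj U)).app F
      have h0 : iota U F ≫ (adj U).unit.app F = 0 := by
        refine (congrArg (fun m => iota U F ≫ m) (Adjunction.unit_leftAdjointUniq_hom_app
          (TopCat.Sheaf.pullbackPushforwardAdjunction AddCommGrpCat.{u} (CohCx.incl U)) (adj U) F).symm).trans ?_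
        exact (Category.assoc _ _ _).symm.trans ((congrArg (fun m => m ≫ _) (kernel.condition η)).trans zero_comp)
      have hz : (F.obj.map (homOfLE (image_preimage_le U V)).op).hom (CohFree.evalGen J V F ψ) = 0 :=
        congrArg (CohFree.evalGen J V _) (show ψ ≫ (adj U).unit.app F = 0 by
          rw [Category.assoc, h0, comp_zero])
      apply (CohFree.homEquivSect J _ F).injective
      rw [map_zero]
      refine (CohFree.evalGen_freeSheafMap_comp J _ F ψ).trans ?_
      have h : (homOfLE (inf_le_left : V ⊓ U ≤ V)).op =
          (homOfLE (image_preimage_le U V)).op ≫ (homOfLE (image_preimage U V).ge).op := Subsingleton.elim _ _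
      rw [h, F.obj.map_comp, AddCommGrpCat.hom_comp, AddMonoidHom.comp_apply, hz, map_zero]
    refine ⟨cokernel.desc _ ψ hψ, iota_injective U F (op V) ?_⟩
    rw [iota_chi, cokernel.π_desc]
    exact congrArg ((iota U F).hom.app (op V)) (CohFree.evalGen_ofSect J V _ t)

/-- `Γ_Z F` as a presheaf is `V ↦ Hom(ℤ_V/ℤ_{V∩U}, F)` -/
noncomputable def sectSuppPreIso :
    SiteCoh.homGroups (zqFun U) ≅ LocCohZ.sectSuppF U ⋙ sheafToPresheaf (Opens.grothendieckTopology X) AddCommGrpCat.{u} :=
  NatIso.ofComponents (fun F => NatIso.ofComponents
    (fun V => AddEquiv.toAddCommGrpIso (AddEquiv.ofBijective (chi U F V.unop) (chi_bijective U F V.unop)))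
    (fun {V V'} i => by
      ext φ
      apply iota_injective U F V'
      change ((zqFun U).obj V.unop ⟶ F) at φ
      refine (iota_chi U F V'.unop ((zqFun U).map i.unop ≫ φ)).trans ?_
      refine Eq.trans ?_ (ConcreteCategory.congr_hom ((iota U F).hom.naturality i) (chi U F V.unop φ)).symm
      refine Eq.trans ?_ (congrArg (F.obj.map i) (iota_chi U F V.unop φ)).symm
      refine Eq.trans ?_ (CohFree.evalGen_freeSheafMap_comp (Opens.grothendieckTopology X) i.unop F _)
      exact congrArg (CohFree.evalGen (Opens.grothendieckTopology X) V'.unop F) (by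
        simp [zqFun, LocCohZ.zqMap]
        rfl)))
    (fun {F G} f => by
      ext V φ
      apply iota_injective U G V
      change ((zqFun U).obj V.unop ⟶ F) at φ
      refine (iota_chi U G V.unop (φ ≫ f)).trans ?_
      refine Eq.trans ?_ (ConcreteCategory.congr_hom (NatTrans.congr_app (congrArg (fun m => m.hom)
        (kernel.lift_ι _ (iota U F ≫ f) _)) V) (chi U F V.unop φ)).symm
      exact (congrArg (f.hom.app V) (iota_chi U F V.unop φ)).symm)

instance : (sheafToPresheaf (Opens.grothendieckTopology X) AddCommGrpCat.{u}).Additive where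

/-- the local cohomology sheaves are the sheafified cohomology groups with supports -/
noncomputable def HZshIso (q : ℕ) :
    LocCohZ.HZsh U q ≅ SiteCoh.extGroups (zqFun U) q ⋙ presheafToSheaf (Opens.grothendieckTopology X) AddCommGrpCat.{u} :=
  SiteCoh.rightDerivedCongr
    ((Functor.rightUnitor _).symm ≪≫
      Functor.isoWhiskerLeft (LocCohZ.sectSuppF U)
        (asIso (sheafificationAdjunction (Opens.grothendieckTopology X) AddCommGrpCat.{u}).counit).symm ≪≫
      (Functor.associator _ _ _).symm ≪≫ Functor.isoWhiskerRight (sectSuppPreIso U).symm _) q ≪≫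
  SiteCoh.rightDerivedCompExactIso (SiteCoh.homGroups (zqFun U))
    (presheafToSheaf (Opens.grothendieckTopology X) AddCommGrpCat.{u}) q ≪≫
  Functor.isoWhiskerRight (SiteCoh.rightDerivedHomGroupsIso (zqFun U) q) _

end Groth.Agent.CAlgH3.SupportSheaf
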