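import Groth.Agent.CAlgH3.SupportSheaf
import Groth.Agent.CAlgH3.SupportLES
import Groth.Agent.SiteCoh.Space

/-! Vanishing of local cohomology sheaves against vanishing of cohomology with supports. -/

set_option autoImplicit false
set_option backward.isDefEq.respectTransparency.types false
universe u

open CategoryTheory CategoryTheory.Limits CategoryTheory.Abelian Opposite TopologicalSpace

namespace Groth.Agent.CAlgH3.SupportVanish

open SupportSheaf

variable {X : TopCat.{u}}

theorem subsingleton_one_of_surjective (F : CohTop.Ab X) {W V : Opens X} (h : W ≤ V)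
    (h1 : Subsingleton (CohTop.HU F 1 V)) (hs : Function.Surjective (F.obj.map (homOfLE h).op).hom) :
    Subsingleton (LocCohZ.HZ F 1 h) := by
  obtain ⟨e⟩ := SupportLES.nonempty_one F h h1
  haveI : Subsingleton (F.obj.obj (op W) ⧸ (F.obj.map (homOfLE h).op).hom.range) := by
    refine ⟨fun a b => ?_⟩
    obtain ⟨a, rfl⟩ := QuotientAddGroup.mk_surjective a
    obtain ⟨b, rfl⟩ := QuotientAddGroup.mk_surjective b
    rw [QuotientAddGroup.eq]
    exact hs _
  exact e.symm.toEquiv.subsingleton

/-- Flasque sheaves have no higher cohomology with supports. -/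
theorem subsingleton_HZ_of_isFlasque (F : CohTop.Ab X) [TopCat.Sheaf.IsFlasque F] {W V : Opens X} (h : W ≤ V)
    (i : ℕ) (hi : 0 < i) : Subsingleton (LocCohZ.HZ F i h) := by
  obtain ⟨i, rfl⟩ : ∃ j, i = j + 1 := ⟨i - 1, by omega⟩
  cases i with
  | zero =>
    exact subsingleton_one_of_surjective F h (SiteCoh.subsingleton_HU_of_isFlasque F V 0)
      ((AddCommGrpCat.epi_iff_surjective _).1 (inferInstanceAs (Epi (F.obj.map (homOfLE h).op))))
  | succ i =>
    obtain ⟨e⟩ := SupportLES.nonempty_shift F h (i + 1) (SiteCoh.subsingleton_HU_of_isFlasque F V i)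
      (SiteCoh.subsingleton_HU_of_isFlasque F V (i + 1))
    haveI := SiteCoh.subsingleton_HU_of_isFlasque F W i
    exact e.symm.toEquiv.subsingleton

variable (U : Opens X)

/-- the presheaf of cohomology with supports -/
noncomputable abbrev pre (q : ℕ) (F : CohTop.Ab X) : (Opens X)ᵒᵖ ⥤ AddCommGrpCat.{u} :=
  (SiteCoh.extGroups (zqFun U) q).obj F

/-- the sheafification -/
noncomputable abbrev shf : ((Opens X)ᵒᵖ ⥤ AddCommGrpCat.{u}) ⥤ CohTop.Ab X :=
  presheafToSheaf (Opens.grothendieckTopology X) AddCommGrpCat.{u}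

/-- vanishing of all groups gives vanishing of the sheaf -/
theorem isZero_HZsh_of_vanish (F : CohTop.Ab X) (q : ℕ)
    (h : ∀ V : Opens X, Subsingleton (LocCohZ.HZ F q (inf_le_left : V ⊓ U ≤ V))) :
    IsZero ((LocCohZ.HZsh U q).obj F) := by
  refine IsZero.of_iso ?_ ((HZshIso U q).app F)
  refine Functor.map_isZero (shf (X := X)) ?_
  refine Functor.isZero _ fun V => ?_
  haveI : Subsingleton ((pre U q F).obj V) := h V.unop
  exact AddCommGrpCat.isZero_of_subsingleton _

/-- in degree zero the presheaf is the sheaf of sections with support -/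
noncomputable def preZeroIso (F : CohTop.Ab X) : pre U 0 F ≅ ((LocCohZ.sectSuppF U).obj F).obj :=
  NatIso.ofComponents (fun V => AddEquiv.toAddCommGrpIso Ext.addEquiv₀) (fun {V V'} i => by
    ext x
    obtain ⟨φ, rfl⟩ := (Ext.mk₀_bijective _ _).2 x
    change Ext.addEquiv₀ ((Ext.mk₀ ((zqFun U).map i.unop)).comp (Ext.mk₀ φ) (zero_add 0)) =
      (zqFun U).map i.unop ≫ Ext.addEquiv₀ (Ext.mk₀ φ)
    rw [Ext.mk₀_comp_mk₀]
    exact (Ext.addEquiv₀.apply_symm_apply _).trans
      (congrArg (fun m => (zqFun U).map i.unop ≫ m) (Ext.addEquiv₀.apply_symm_apply φ).symm)) ≪≫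
    (sectSuppPreIso U).app F

theorem isZero_sectSupp_of_HZsh (F : CohTop.Ab X) (h : IsZero ((shf (X := X)).obj (pre U 0 F))) :
    IsZero ((LocCohZ.sectSuppF U).obj F) :=
  (h.of_iso ((shf (X := X)).mapIso (preZeroIso U F).symm)).of_iso
    ((asIso (sheafificationAdjunction (Opens.grothendieckTopology X) AddCommGrpCat.{u}).counit).app
      ((LocCohZ.sectSuppF U).obj F)).symm

theorem subsingleton_zero (F : CohTop.Ab X) (h : IsZero ((LocCohZ.sectSuppF U).obj F)) (V : Opens X) :
    Subsingleton ((pre U 0 F).obj (op V)) :=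
  AddCommGrpCat.subsingleton_of_isZero
    ((Functor.map_isZero (sheafToPresheaf (Opens.grothendieckTopology X) AddCommGrpCat.{u}) h).obj (op V)
      |>.of_iso ((preZeroIso U F).app (op V)))

instance : (CohTop.restrFunctor U).PreservesZeroMorphisms := inferInstance

/-- an embedding into an injective sheaf without any cohomology with supports -/
theorem exists_embedding (F : CohTop.Ab X) (h : IsZero ((LocCohZ.sectSuppF U).obj F)) :
    ∃ (G : CohTop.Ab X) (ι : F ⟶ G), Mono ι ∧
      ∀ (i : ℕ) (V : Opens X), Subsingleton (LocCohZ.HZ G i (inf_le_left : V ⊓ U ≤ V)) := by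
  let I := Injective.under (CohTop.restr F U)
  let G := (CohTop.push (CohCx.incl U)).obj I
  haveI : Injective G := (adj U).map_injective I (inferInstanceAs (Injective (Injective.under (CohTop.restr F U))))
  haveI : TopCat.Sheaf.IsFlasque G := SiteCoh.isFlasque_of_injective G
  let η := (TopCat.Sheaf.pullbackPushforwardAdjunction AddCommGrpCat.{u} (CohCx.incl U)).unit.app F
  haveI : Mono η := Preadditive.mono_of_isZero_kernel η h
  let e := (Adjunction.leftAdjointUniq
    (TopCat.Sheaf.pullbackPushforwardAdjunction AddCommGrpCat.{u} (CohCx.incl U)) (adj U)).app F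
  have hu : Mono ((adj U).unit.app F) := by
    rw [← Adjunction.unit_leftAdjointUniq_hom_app
      (TopCat.Sheaf.pullbackPushforwardAdjunction AddCommGrpCat.{u} (CohCx.incl U)) (adj U) F]
    exact mono_comp η ((CohTop.push (CohCx.incl U)).map e.hom)
  haveI : (CohTop.push (CohCx.incl U)).IsRightAdjoint := (adj U).isRightAdjoint
  haveI : Mono ((CohTop.push (CohCx.incl U)).map (Injective.ι (CohTop.restr F U))) := Functor.map_mono _ _
  refine ⟨G, (adj U).unit.app F ≫ (CohTop.push (CohCx.incl U)).map (Injective.ι _), mono_comp _ _, ?_⟩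
  intro i V
  cases i with
  | succ i => exact subsingleton_HZ_of_isFlasque G _ _ i.succ_pos
  | zero =>
    have hinj : Function.Injective (G.obj.map (homOfLE (inf_le_left : V ⊓ U ≤ V)).op).hom := by
      have hle : (Opens.map (CohCx.incl U)).obj V ≤ (Opens.map (CohCx.incl U)).obj (V ⊓ U) :=
        fun x hx => ⟨hx, x.2⟩
      refine Function.LeftInverse.injective (g := (I.obj.map (homOfLE hle).op).hom) fun s => ?_
      show ((I.obj.map _) ≫ (I.obj.map _)).hom s = s
      rw [← I.obj.map_comp]
      refine (congrArg (fun m => (I.obj.map m).hom s) (Subsingleton.elim _ (𝟙 _))).trans ?_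
      rw [I.obj.map_id]
      rfl
    haveI : Subsingleton (LocCohZ.sectZ G (inf_le_left : V ⊓ U ≤ V)) :=
      ⟨fun a b => Subtype.ext (hinj (a.2.trans b.2.symm))⟩
    exact (LocCohZ.sect0Equiv G (inf_le_left : V ⊓ U ≤ V)).toEquiv.subsingleton

/-- vanishing of the sheaves below a degree gives vanishing of the groups -/
theorem vanish_of_isZero : ∀ (n : ℕ) (F : CohTop.Ab X),
    (∀ i, i < n → IsZero ((shf (X := X)).obj (pre U i F))) →
      ∀ i, i < n → ∀ V : Opens X, Subsingleton ((pre U i F).obj (op V)) := by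
  intro n
  induction n with
  | zero => exact fun F _ i hi => absurd hi (by omega)
  | succ n ih =>
    intro F hF i hi V
    have h0 := isZero_sectSupp_of_HZsh U F (hF 0 (by omega))
    cases i with
    | zero => exact subsingleton_zero U F h0 V
    | succ i =>
      obtain ⟨G, ι, hι, hG⟩ := exists_embedding U F h0
      let S := ShortComplex.mk ι (cokernel.π ι) (cokernel.condition ι)
      have hS : S.ShortExact := { exact := ShortComplex.exact_cokernel ι }
      let δ : ∀ q, pre U q (cokernel ι) ⟶ pre U (q + 1) F := fun q =>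
        { app := fun W => AddCommGrpCat.ofHom (hS.extClass.postcomp _ (rfl : q + 1 = q + 1))
          naturality := fun W W' g => by
            ext x
            exact Ext.comp_assoc _ _ _ (zero_add q) (rfl : q + 1 = q + 1) (by omega) }
      have hδ : ∀ q, IsIso (δ q) := fun q => by
        refine (NatTrans.isIso_iff_isIso_app _).2 fun W => ?_
        refine (ConcreteCategory.isIso_iff_bijective _).2 ⟨?_, ?_⟩
        · change Function.Injective (hS.extClass.postcomp _ (rfl : q + 1 = q + 1))
          rw [injective_iff_map_eq_zero]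
          intro x hx
          obtain ⟨y, rfl⟩ := Ext.covariant_sequence_exact₃ _ hS x rfl hx
          rw [@Subsingleton.elim (Ext ((zqFun U).obj W.unop) S.X₂ q) (hG q W.unop) y 0]
          exact ((Ext.mk₀ S.g).postcomp _ (add_zero q)).map_zero
        · intro z
          exact Ext.covariant_sequence_exact₁ _ hS z
            (@Subsingleton.elim (Ext ((zqFun U).obj W.unop) S.X₂ (q + 1)) (hG (q + 1) W.unop) _ _) rfl
      haveI := hδ i
      haveI : Subsingleton ((pre U i (cokernel ι)).obj (op V)) :=
        ih (cokernel ι) (fun q hq => by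
          haveI := hδ q
          exact (hF (q + 1) (by omega)).of_iso ((shf (X := X)).mapIso (asIso (δ q)))) i (by omega) V
      haveI : IsIso ((δ i).app (op V)) := (NatTrans.isIso_iff_isIso_app _).1 (hδ i) _
      exact (asIso ((δ i).app (op V))).addCommGroupIsoToAddEquiv.symm.toEquiv.subsingleton

theorem isZero_HZsh_iff (F : CohTop.Ab X) (n : ℕ) :
    (∀ i : ℕ, i < n → IsZero ((LocCohZ.HZsh U i).obj F)) ↔
      ∀ (V : Opens X) (i : ℕ), i < n → Subsingleton (LocCohZ.HZ F i (inf_le_left : V ⊓ U ≤ V)) :=
  ⟨fun h V i hi => vanish_of_isZero U n F (fun j hj => (h j hj).of_iso ((HZshIso U j).app F).symm) i hi V,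
    fun h i hi => isZero_HZsh_of_vanish U F i fun V => h V i hi⟩

end Groth.Agent.CAlgH3.SupportVanish
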