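import Groth.Agent.Coherent.DevissageIdeal
import Groth.Prelude.Def_DerSch
import Mathlib.AlgebraicGeometry.Modules.Tilde

/-! Stalks of maps of associated sheaves. -/

set_option autoImplicit false
set_option backward.isDefEq.respectTransparency.types false
set_option linter.style.haveILetI false
universe u

open CategoryTheory CategoryTheory.Limits AlgebraicGeometry Opposite TopologicalSpace

namespace Groth.Agent.CAlgH3.TildeStalkSurj

variable {R : CommRingCat.{u}} {M N : ModuleCat.{u} R} (f : M ⟶ N) (x : Spec R)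

theorem stalk_map_toStalk (m : M) :
    (DerSch.stalkFunctor (Spec R) x).map (tilde.map f) (tilde.toStalk M x m) = tilde.toStalk N x (f m) := by
  have hM : tilde.toStalk M x m = (tilde M).presheaf.germ ⊤ x trivial ((tilde.toOpen M ⊤) m) := rfl
  have hN : tilde.toStalk N x (f m) = (tilde N).presheaf.germ ⊤ x trivial ((tilde.toOpen N ⊤) (f m)) := rfl
  rw [hM, hN]
  have h := congr($(tilde.toOpen_map_app f ⊤) m)
  refine Eq.trans ?_ (congrArg ((tilde N).presheaf.germ ⊤ x trivial) h)
  exact congr($(TopCat.Presheaf.stalkFunctor_map_germ (⊤ : (Spec R).Opens) x trivial (tilde.map f).mapPresheaf) _)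

theorem surjective_stalk_iff :
    Function.Surjective ((DerSch.stalkFunctor (Spec R) x).map (tilde.map f)) ↔
      ∀ n : N, ∃ s : R, s ∉ x.asIdeal ∧ s • n ∈ LinearMap.range f.hom := by
  letI : Algebra R ((Spec R).presheaf.stalk x) := (StructureSheaf.toStalk R x).hom.toAlgebra
  haveI : IsScalarTower R ((Spec R).presheaf.stalk x) ((tilde M).presheaf.stalk x) :=
    IsScalarTower.of_algebraMap_smul fun _ _ => rfl
  haveI : IsScalarTower R ((Spec R).presheaf.stalk x) ((tilde N).presheaf.stalk x) :=
    IsScalarTower.of_algebraMap_smul fun _ _ => rfl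
  let l : (tilde M).presheaf.stalk x →ₗ[R] (tilde N).presheaf.stalk x :=
    (Algz.stalkMapₗ (tilde.map f) x).restrictScalars R
  have hl : ∀ m : M, l (tilde.toStalk M x m) = tilde.toStalk N x (f m) := stalk_map_toStalk f x
  show Function.Surjective l ↔ _
  constructor
  · intro h n
    obtain ⟨z, hz⟩ := h (tilde.toStalk N x n)
    obtain ⟨⟨m, s⟩, hs⟩ := IsLocalizedModule.surj x.asIdeal.primeCompl (tilde.toStalk M x).hom z
    have h1 : (tilde.toStalk N x).hom ((s : R) • n) = (tilde.toStalk N x).hom (f m) := by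
      rw [map_smul]
      show (s : R) • tilde.toStalk N x n = tilde.toStalk N x (f m)
      rw [← hz, ← hl m, ← map_smul]
      exact congrArg l hs
    obtain ⟨t, ht⟩ := IsLocalizedModule.exists_of_eq (S := x.asIdeal.primeCompl) h1
    refine ⟨(t : R) * s, (t * s).2, (t : R) • m, ?_⟩
    rw [map_smul, mul_smul]
    exact ht.symm
  · intro h w
    obtain ⟨⟨n, s⟩, hs⟩ := IsLocalizedModule.surj x.asIdeal.primeCompl (tilde.toStalk N x).hom w
    obtain ⟨t, ht, m, hm⟩ := h n
    let u : x.asIdeal.primeCompl := ⟨t, ht⟩ * s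
    obtain ⟨z, hz⟩ := ((Module.End.isUnit_iff _).1 (IsLocalizedModule.map_units (tilde.toStalk M x).hom u)).2
      (tilde.toStalk M x m)
    refine ⟨z, ((Module.End.isUnit_iff _).1 (IsLocalizedModule.map_units (tilde.toStalk N x).hom u)).1 ?_⟩
    show (u : R) • l z = (u : R) • w
    rw [← map_smul]
    refine (congrArg l hz).trans ?_
    rw [hl m]
    show tilde.toStalk N x (f m) = ((t * (s : R)) • w)
    rw [mul_smul, show (s : R) • w = tilde.toStalk N x n from hs, ← map_smul]
    exact congrArg (tilde.toStalk N x) hm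

theorem injective_stalk (hf : Function.Injective f) :
    Function.Injective ((DerSch.stalkFunctor (Spec R) x).map (tilde.map f)) := by
  letI : Algebra R ((Spec R).presheaf.stalk x) := (StructureSheaf.toStalk R x).hom.toAlgebra
  haveI : IsScalarTower R ((Spec R).presheaf.stalk x) ((tilde M).presheaf.stalk x) :=
    IsScalarTower.of_algebraMap_smul fun _ _ => rfl
  haveI : IsScalarTower R ((Spec R).presheaf.stalk x) ((tilde N).presheaf.stalk x) :=
    IsScalarTower.of_algebraMap_smul fun _ _ => rfl
  let l : (tilde M).presheaf.stalk x →ₗ[R] (tilde N).presheaf.stalk x :=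
    (Algz.stalkMapₗ (tilde.map f) x).restrictScalars R
  have hl : ∀ m : M, l (tilde.toStalk M x m) = tilde.toStalk N x (f m) := stalk_map_toStalk f x
  show Function.Injective l
  refine (injective_iff_map_eq_zero l).2 fun z hz => ?_
  obtain ⟨⟨m, s⟩, hs⟩ := IsLocalizedModule.surj x.asIdeal.primeCompl (tilde.toStalk M x).hom z
  have h1 : (tilde.toStalk N x).hom (f m) = (tilde.toStalk N x).hom 0 := by
    rw [map_zero]
    show tilde.toStalk N x (f m) = 0
    rw [← hl m, show tilde.toStalk M x m = (s : R) • z from hs.symm, map_smul, hz, smul_zero]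
  obtain ⟨t, ht⟩ := IsLocalizedModule.exists_of_eq (S := x.asIdeal.primeCompl) h1
  rw [smul_zero] at ht
  have hm : (t : R) • m = 0 := hf (by rw [map_smul, map_zero]; exact ht)
  refine ((Module.End.isUnit_iff _).1 (IsLocalizedModule.map_units (tilde.toStalk M x).hom (t * s))).1 ?_
  show ((t : R) * s) • z = ((t : R) * s) • 0
  rw [smul_zero, mul_smul, show (s : R) • z = (tilde.toStalk M x).hom m from hs, ← map_smul, hm, map_zero]

theorem exists_pow_smul_le [IsNoetherianRing R] (I : Ideal R) [Module.Finite R N]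
    (h : ∀ y : Spec R, ¬ I ≤ y.asIdeal → Function.Surjective ((DerSch.stalkFunctor (Spec R) y).map (tilde.map f))) :
    ∃ e : ℕ, I ^ e • (⊤ : Submodule R N) ≤ LinearMap.range f.hom := by
  have hsupp : Module.support R (N ⧸ LinearMap.range f.hom) ⊆ PrimeSpectrum.zeroLocus (I : Set R) := by
    intro p hp
    by_contra hI
    obtain ⟨q, hq⟩ := Module.mem_support_iff'.1 hp
    obtain ⟨n, rfl⟩ := Submodule.Quotient.mk_surjective _ q
    obtain ⟨s, hs, hsn⟩ := (surjective_stalk_iff f p).1 (h p hI) n
    exact hq s hs (by rw [← Submodule.Quotient.mk_smul, Submodule.Quotient.mk_eq_zero]; exact hsn)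
  rw [Module.support_eq_zeroLocus, PrimeSpectrum.zeroLocus_subset_zeroLocus_iff] at hsupp
  obtain ⟨e, he⟩ := Ideal.exists_pow_le_of_le_radical_of_fg hsupp (IsNoetherian.noetherian _)
  refine ⟨e, Submodule.smul_le.2 fun r hr m _ => ?_⟩
  have := Module.mem_annihilator.1 (he hr) (Submodule.Quotient.mk m)
  rwa [← Submodule.Quotient.mk_smul, Submodule.Quotient.mk_eq_zero] at this

theorem surjective_of_pow_smul_le (I : Ideal R) {e : ℕ} (h : I ^ e • (⊤ : Submodule R N) ≤ LinearMap.range f.hom)
    (hx : ¬ I ≤ x.asIdeal) : Function.Surjective ((DerSch.stalkFunctor (Spec R) x).map (tilde.map f)) := by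
  refine (surjective_stalk_iff f x).2 fun n => ?_
  obtain ⟨a, ha, hax⟩ := SetLike.not_le_iff_exists.1 hx
  exact ⟨a ^ e, fun h' => hax (x.isPrime.mem_of_pow_mem e h'),
    h (Submodule.smul_mem_smul (Ideal.pow_mem_pow ha e) trivial)⟩

end Groth.Agent.CAlgH3.TildeStalkSurj
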