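import Groth.Agent.LocCoh.HLV
import Groth.Agent.LocCoh.Finiteness
import Groth.Agent.LocCoh.ExtBridge
import Groth.Agent.CommAlg6.FlatLocalModule

/-!
Top local cohomology is cofinite: `Ext^i(R/I, H^n_I(M))` has finite length for `n = dim M`.
-/

set_option autoImplicit false
set_option linter.style.haveILetI false

universe u

open CategoryTheory CategoryTheory.Abelian IsLocalRing
open scoped TensorProduct

namespace Groth.Agent.CAlgH3.TopCofinite

open Groth.Agent.LocCoh

variable {R : Type u} [CommRing R]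

/-- Uniformly on finitely generated submodules `L`, `J ^ k ≤ I + Ann L`. -/
def Cof (I J : Ideal R) (H : Type u) [AddCommGroup H] [Module R H] : Prop :=
  ∃ k, ∀ L : Submodule R H, L.FG → J ^ k ≤ I ⊔ L.annihilator

variable {I J : Ideal R} {H H' H'' : Type u} [AddCommGroup H] [Module R H] [AddCommGroup H'] [Module R H']
  [AddCommGroup H''] [Module R H'']

theorem cof_of_subsingleton [Subsingleton H] : Cof I J H :=
  ⟨0, fun L _ => le_sup_of_le_right fun r _ => Submodule.mem_annihilator.2 fun x _ => Subsingleton.elim _ _⟩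

theorem Cof.of_exact [IsNoetherianRing R] {f : H' →ₗ[R] H} {g : H →ₗ[R] H''} (hfg : Function.Exact f g)
    (h' : Cof I J H') (h'' : Cof I J H'') : Cof I J H := by
  obtain ⟨k₁, h₁⟩ := h'
  obtain ⟨k₂, h₂⟩ := h''
  refine ⟨k₁ + k₂, fun L hL => ?_⟩
  haveI : Module.Finite R L := Module.Finite.iff_fg.2 hL
  have hK : (L ⊓ LinearMap.ker g).FG := isNoetherian_submodule.1 (isNoetherian_of_fg_of_noetherian L hL) _ inf_le_left
  have hle : L ⊓ LinearMap.ker g ≤ Submodule.map f ⊤ := fun x hx => by
    obtain ⟨y, rfl⟩ := (hfg x).1 hx.2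
    exact Submodule.mem_map_of_mem trivial
  obtain ⟨L₁, hL₁, hmap⟩ : ∃ L₁ : Submodule R H', L₁.FG ∧ L₁.map f = L ⊓ LinearMap.ker g := by
    obtain ⟨s, hs⟩ := hK
    classical
    choose! pre hpre using fun (x : H) (hx : x ∈ Submodule.map f ⊤) => Submodule.mem_map.1 hx
    refine ⟨Submodule.span R (pre '' (s : Set H)), Submodule.fg_span (s.finite_toSet.image _), ?_⟩
    rw [Submodule.map_span, ← hs]
    refine le_antisymm (Submodule.span_le.2 ?_) (Submodule.span_le.2 fun x hx => ?_)
    · rintro _ ⟨_, ⟨x, hx, rfl⟩, rfl⟩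
      rw [(hpre x (hle (hs ▸ Submodule.subset_span hx))).2]
      exact Submodule.subset_span hx
    · exact Submodule.subset_span ⟨pre x, ⟨x, hx, rfl⟩, (hpre x (hle (hs ▸ Submodule.subset_span hx))).2⟩
  have e1 := h₁ L₁ hL₁
  have e2 := h₂ (L.map g) (hL.map g)
  rw [pow_add]
  refine (Ideal.mul_mono e1 e2).trans ?_
  rw [Ideal.sup_mul]
  refine sup_le (le_sup_of_le_left Ideal.mul_le_left) ?_
  rw [Ideal.mul_sup]
  refine sup_le (le_sup_of_le_left Ideal.mul_le_right) ?_
  refine le_sup_of_le_right (Ideal.mul_le.2 fun a ha b hb => Submodule.mem_annihilator.2 fun x hx => ?_)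
  have hx' : b • x ∈ L₁.map f := by
    rw [hmap]
    refine ⟨L.smul_mem b hx, ?_⟩
    rw [SetLike.mem_coe, LinearMap.mem_ker, map_smul]
    exact Submodule.mem_annihilator.1 hb _ (Submodule.mem_map_of_mem hx)
  obtain ⟨y, hy, hyx⟩ := Submodule.mem_map.1 hx'
  rw [mul_smul, ← hyx, ← map_smul, Submodule.mem_annihilator.1 ha y hy, map_zero]

theorem Cof.of_injective [IsNoetherianRing R] {g : H →ₗ[R] H''} (hg : Function.Injective g) (h'' : Cof I J H'') :
    Cof I J H :=
  Cof.of_exact (f := (0 : PUnit.{u + 1} →ₗ[R] H)) (g := g) (fun x => by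
    constructor
    · intro hx
      exact ⟨0, (hg (hx.trans (map_zero g).symm)).symm⟩
    · rintro ⟨y, rfl⟩
      rw [LinearMap.zero_apply, map_zero]) cof_of_subsingleton h''

theorem Cof.of_surjective [IsNoetherianRing R] {f : H' →ₗ[R] H} (hf : Function.Surjective f) (h' : Cof I J H') :
    Cof I J H :=
  Cof.of_exact (f := f) (g := (0 : H →ₗ[R] PUnit.{u + 1})) (fun x => ⟨fun _ => hf x, fun _ => rfl⟩) h'
    cof_of_subsingleton

theorem Cof.pi [IsNoetherianRing R] (h : Cof I J H) : ∀ n : ℕ, Cof I J (Fin n → H)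
  | 0 => cof_of_subsingleton
  | n + 1 => by
    have h1 : Cof I J (H × (Fin n → H)) :=
      Cof.of_exact (f := LinearMap.inl R H (Fin n → H)) (g := LinearMap.snd R H (Fin n → H))
        Function.Exact.inl_snd h (Cof.pi h n)
    exact Cof.of_surjective (f := (Fin.consLinearEquiv R (fun _ => H)).toLinearMap)
      (LinearEquiv.surjective _) h1

section ext

variable [IsNoetherianRing R]

theorem cof_ext [IsArtinian R H] (h : Cof I J H) : ∀ (i : ℕ) (N : Type u) [AddCommGroup N] [Module R N]
    [Module.Finite R N], IsArtinian R (Ext (ModuleCat.of R N) (ModuleCat.of R H) i) ∧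
      Cof I J (Ext (ModuleCat.of R N) (ModuleCat.of R H) i) := by
  intro i
  induction i with
  | zero =>
    intro N _ _ _
    obtain ⟨n, π, hπ⟩ := Module.Finite.exists_fin' R N
    let e : Ext (ModuleCat.of R N) (ModuleCat.of R H) 0 ≃ₗ[R] (N →ₗ[R] H) :=
      Ext.linearEquiv₀.trans ModuleCat.homLinearEquiv
    let j : (N →ₗ[R] H) →ₗ[R] (Fin n → H) :=
      { toFun := fun φ k => φ (π (Pi.single k 1)), map_add' := fun _ _ => rfl, map_smul' := fun _ _ => rfl }
    have hj0 : Function.Injective j := fun φ ψ hφψ => by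
      refine (LinearMap.cancel_right hπ).1 (LinearMap.pi_ext' fun k => LinearMap.ext_ring ?_)
      exact congrFun hφψ k
    have hj : Function.Injective (j ∘ₗ e.toLinearMap) := hj0.comp e.injective
    exact ⟨isArtinian_of_injective _ hj, (h.pi n).of_injective hj⟩
  | succ i ih =>
    intro N _ _ _
    obtain ⟨n, π, hπ⟩ := Module.Finite.exists_fin' R N
    have hS := LinearMap.shortExact_shortComplexKer hπ
    haveI : Projective (π.shortComplexKer).X₂ := (IsProjective.iff_projective _).1
      (inferInstanceAs (Module.Projective R (Fin n → R)))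
    obtain ⟨ha, hc⟩ := ih (LinearMap.ker π)
    let δ : Ext (ModuleCat.of R (LinearMap.ker π)) (ModuleCat.of R H) i →ₗ[R]
        Ext (ModuleCat.of R N) (ModuleCat.of R H) (i + 1) :=
      hS.extClass.precompOfLinear R (ModuleCat.of R H) (add_comm 1 i)
    have hδ : Function.Surjective δ := fun x => by
      obtain ⟨z, hz⟩ := Ext.contravariant_sequence_exact₃ hS (ModuleCat.of R H) x
        (Ext.eq_zero_of_projective _) (add_comm 1 i)
      exact ⟨z, hz⟩
    exact ⟨isArtinian_of_surjective _ δ hδ, hc.of_surjective hδ⟩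

/-- An Artinian cofinite module gives finite length `Ext` modules. -/
theorem isFiniteLength_ext [IsLocalRing R] [IsArtinian R H] (h : Cof I (maximalIdeal R) H) (i : ℕ) :
    IsFiniteLength R (Ext (ModuleCat.of R (R ⧸ I)) (ModuleCat.of R H) i) := by
  set X := Ext (ModuleCat.of R (R ⧸ I)) (ModuleCat.of R H) i
  obtain ⟨ha, k, hk⟩ := cof_ext h i (R ⧸ I)
  have hI : ∀ a ∈ I, ∀ x : X, a • x = 0 := fun a ha x => LocCoh.ext_smul_eq_zero_left (fun z => by
    obtain ⟨z, rfl⟩ := Ideal.Quotient.mk_surjective z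
    exact (Submodule.Quotient.mk_eq_zero I).2 (I.mul_mem_right z ha)) x
  have hkill : ∀ a ∈ maximalIdeal R ^ k, ∀ x : X, a • x = 0 := fun a hak x => by
    obtain ⟨b, hb, c, hc, rfl⟩ := Submodule.mem_sup.1 (hk (Submodule.span R {x}) (Submodule.fg_span_singleton x) hak)
    rw [add_smul, hI b hb, zero_add, Submodule.mem_annihilator.1 hc x (Submodule.mem_span_singleton_self x)]
  letI : Module (R ⧸ maximalIdeal R ^ k) X :=
    Module.IsTorsionBySet.module (fun x a => hkill a.1 a.2 x)
  haveI : IsScalarTower R (R ⧸ maximalIdeal R ^ k) X :=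
    Module.IsTorsionBySet.isScalarTower (fun x a => hkill a.1 a.2 x)
  haveI : IsArtinian R (R ⧸ maximalIdeal R ^ k) :=
    (isFiniteLength_iff_isNoetherian_isArtinian.1 (LocCoh.isFiniteLength_of_pow_le (le_refl _))).2
  haveI : IsArtinianRing (R ⧸ maximalIdeal R ^ k) := isArtinian_of_tower R inferInstance
  haveI : IsArtinian (R ⧸ maximalIdeal R ^ k) X := isArtinian_of_tower R ha
  haveI : IsNoetherian (R ⧸ maximalIdeal R ^ k) X := IsSemiprimaryRing.isNoetherian_iff_isArtinian.2 inferInstance
  haveI : Module.Finite R X := Module.Finite.trans (R ⧸ maximalIdeal R ^ k) X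
  exact isFiniteLength_iff_isNoetherian_isArtinian.2 ⟨inferInstance, ha⟩

end ext

theorem one_le_dim_of_forall_not_le [IsLocalRing R] [IsNoetherianRing R] (a : Ideal R)
    (h : ∀ k : ℕ, ¬ maximalIdeal R ^ k ≤ a) : 1 ≤ ringKrullDim (R ⧸ a) := by
  obtain ⟨p, hp, hap, hpm⟩ : ∃ p : Ideal R, p.IsPrime ∧ a ≤ p ∧ p ≠ maximalIdeal R := by
    by_contra hcon
    push Not at hcon
    have : maximalIdeal R ≤ a.radical := by
      rw [Ideal.radical_eq_sInf]
      exact le_sInf fun p ⟨hap, hp⟩ => (hcon p hp hap).ge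
    obtain ⟨k, hk⟩ := Ideal.exists_pow_le_of_le_radical_of_fg this (IsNoetherian.noetherian _)
    exact h k hk
  haveI := hp
  have hlt : p < maximalIdeal R := lt_of_le_of_ne (le_maximalIdeal hp.ne_top) hpm
  refine le_trans ?_ ((CAlgH3.ringKrullDim_quotient_add_one_le hlt).trans
    (ringKrullDim_le_of_surjective (Ideal.Quotient.factor hap) (Ideal.Quotient.factor_surjective _)))
  letI := Ideal.Quotient.field (maximalIdeal R)
  rw [ringKrullDim_eq_zero_of_field, zero_add]

theorem cof_H_quotient [IsLocalRing R] [IsNoetherianRing R] [IsAdicComplete (maximalIdeal R) R] (I : Ideal R)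
    {n : ℕ} (q : Ideal R) [q.IsPrime] (hq : ringKrullDim (R ⧸ q) ≤ n) :
    Cof I (maximalIdeal R) (_root_.LocCoh.H I n (R ⧸ q)) := by
  by_cases hk : ∃ k, maximalIdeal R ^ k ≤ I ⊔ q
  · obtain ⟨k, hk⟩ := hk
    refine ⟨k, fun L _ => hk.trans (sup_le_sup_left (fun r hr => Submodule.mem_annihilator.2 fun x _ => ?_) I)⟩
    refine smul_H_eq_zero (fun z => ?_) n x
    obtain ⟨z, rfl⟩ := Ideal.Quotient.mk_surjective z
    exact (Submodule.Quotient.mk_eq_zero q).2 (q.mul_mem_right z hr)
  push Not at hk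
  haveI : IsLocalRing (R ⧸ q) :=
    IsLocalRing.of_surjective' (Ideal.Quotient.mk q) Ideal.Quotient.mk_surjective
  have hmap : (maximalIdeal R).map (algebraMap R (R ⧸ q)) = maximalIdeal (R ⧸ q) :=
    IsLocalRing.map_maximalIdeal_of_surjective _ Ideal.Quotient.mk_surjective
  haveI : IsAdicComplete (maximalIdeal (R ⧸ q)) (R ⧸ q) := by
    rw [← hmap]
    exact (IsAdicComplete.map_algebraMap_iff _ _).2 (AdicRing.isAdicComplete_of_finite _ _)
  obtain ⟨φ, -⟩ := exists_H_independence R (R ⧸ q) I n (R ⧸ q)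
  haveI : Subsingleton (_root_.LocCoh.H (I.map (algebraMap R (R ⧸ q))) n (R ⧸ q)) := by
    refine subsingleton_H_complete (R ⧸ q) n hq _ fun p hp hpd => ?_
    have hp0 : p = ⊥ := by
      by_contra hne
      haveI := hp
      have h1 := (CAlgH3.ringKrullDim_quotient_add_one_le (bot_lt_iff_ne_bot.2 hne)).trans
        ((ringKrullDim_eq_of_ringEquiv (RingEquiv.quotientBot (R ⧸ q))).trans_le hq)
      rw [hpd] at h1
      exact absurd (show n + 1 ≤ n by exact_mod_cast h1) (Nat.not_succ_le_self n)
    subst hp0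
    rw [sup_bot_eq, Ideal.Quotient.algebraMap_eq,
      ringKrullDim_eq_of_ringEquiv (DoubleQuot.quotQuotEquivQuotSup q I), sup_comm]
    exact one_le_dim_of_forall_not_le _ hk
  haveI : Subsingleton (_root_.LocCoh.H I n (R ⧸ q)) := φ.symm.toEquiv.subsingleton
  exact cof_of_subsingleton

theorem cof_H_complete [IsLocalRing R] [IsNoetherianRing R] [IsAdicComplete (maximalIdeal R) R] (I : Ideal R)
    (n : ℕ) : ∀ (M : Type u) [AddCommGroup M] [Module R M] [Module.Finite R M],
      Module.supportDim R M ≤ n → Cof I (maximalIdeal R) (_root_.LocCoh.H I n M) := by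
  intro M _ _ hM
  induction hM using IsNoetherianRing.induction_on_isQuotientEquivQuotientPrime R with
  | subsingleton N =>
    intro _
    haveI : Subsingleton (_root_.LocCoh.H I n N) := subsingleton_H_of_subsingleton n
    exact cof_of_subsingleton
  | quotient N p e =>
    intro hN
    haveI := p.2
    rw [Module.supportDim_eq_of_equiv e, Module.supportDim_quotient_eq_ringKrullDim] at hN
    exact (cof_H_quotient I p.1 hN).of_injective (g := (Hequiv I n e).toLinearMap) (LinearEquiv.injective _)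
  | exact N₁ N₂ N₃ f g hf hg hfg h₁ h₃ =>
    intro hN
    exact Cof.of_exact (Hmap_exact (I := I) hf hg hfg n)
      (h₁ ((Module.supportDim_le_of_injective f hf).trans hN))
      (h₃ ((Module.supportDim_le_of_surjective g hg).trans hN))

theorem cof_of_baseChange [IsLocalRing R] [IsNoetherianRing R] (B : Type u) [CommRing B] [IsLocalRing B]
    [Algebra R B] [IsLocalHom (algebraMap R B)] [Module.FaithfullyFlat R B] (I : Ideal R)
    (h : Cof (I.map (algebraMap R B)) (maximalIdeal B) (B ⊗[R] H)) : Cof I (maximalIdeal R) H := by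
  classical
  obtain ⟨k, hk⟩ := h
  refine ⟨k, fun L hL x hx => ?_⟩
  obtain ⟨s, hs⟩ := hL
  let f : R →ₗ[R] (↥s → H) := LinearMap.pi fun l => LinearMap.toSpanSingleton R H (l : H)
  have hker : ∀ r : R, r ∈ L.annihilator ↔ f r = 0 := fun r => by
    rw [← hs, Submodule.mem_annihilator_span, funext_iff]
    exact ⟨fun hr l => hr l, fun hr l => hr l⟩
  let L' : Submodule B (B ⊗[R] H) := Submodule.span B ((fun l => (1 : B) ⊗ₜ[R] l) '' (s : Set H))
  have hann : L'.annihilator ≤ L.annihilator.map (algebraMap R B) := by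
    intro b hb
    have hex : Function.Exact (L.annihilator.subtype : L.annihilator →ₗ[R] R) f := fun r => by
      rw [← hker]
      exact ⟨fun hr => ⟨⟨r, hr⟩, rfl⟩, fun ⟨y, hy⟩ => hy ▸ y.2⟩
    have hz : f.lTensor B (b ⊗ₜ[R] (1 : R)) = 0 := by
      refine (TensorProduct.piRight R R B (fun _ : ↥s => H)).injective ?_
      rw [map_zero]
      funext l
      rw [LinearMap.lTensor_tmul, TensorProduct.piRight_apply, TensorProduct.piRightHom_tmul]
      show b ⊗ₜ[R] ((1 : R) • (l : H)) = 0
      rw [one_smul, show b ⊗ₜ[R] (l : H) = b • ((1 : B) ⊗ₜ[R] (l : H)) by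
        rw [TensorProduct.smul_tmul', smul_eq_mul, mul_one]]
      exact Submodule.mem_annihilator.1 hb _ (Submodule.subset_span ⟨l, l.2, rfl⟩)
    obtain ⟨w, hw⟩ := (Module.Flat.lTensor_exact B hex _).1 hz
    have hb' : b = TensorProduct.rid R B (L.annihilator.subtype.lTensor B w) := by
      rw [hw, TensorProduct.rid_tmul, one_smul]
    rw [hb']
    clear hw hb'
    induction w using TensorProduct.induction_on with
    | zero => rw [map_zero, map_zero]; exact zero_mem _
    | tmul t r =>
      rw [LinearMap.lTensor_tmul, TensorProduct.rid_tmul, Algebra.smul_def]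
      exact Ideal.mul_mem_right _ _ (Ideal.mem_map_of_mem _ r.2)
    | add u v hu hv => rw [map_add, map_add]; exact add_mem hu hv
  rw [← Ideal.comap_map_eq_self_of_faithfullyFlat (B := B) (I ⊔ L.annihilator), Ideal.mem_comap, Ideal.map_sup]
  refine sup_le_sup_left hann _ (hk L' (Submodule.fg_span (s.finite_toSet.image _)) ?_)
  have h1 : (maximalIdeal R).map (algebraMap R B) ≤ maximalIdeal B :=
    ((IsLocalRing.local_hom_TFAE (algebraMap R B)).out 0 2 rfl rfl).1 inferInstance
  exact Ideal.pow_right_mono h1 k ((Ideal.map_pow (algebraMap R B) _ k) ▸ Ideal.mem_map_of_mem _ hx)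

/-- The top local cohomology module is cofinite. -/
theorem cof_H [IsLocalRing R] [IsNoetherianRing R] (I : Ideal R) (M : Type u) [AddCommGroup M] [Module R M]
    [Module.Finite R M] {n : ℕ} (hn : Module.supportDim R M ≤ n) :
    Cof I (maximalIdeal R) (_root_.LocCoh.H I n M) := by
  haveI := Matlis6.isNoetherianRing_adicCompletion (maximalIdeal R)
  let B := AdicCompletion (maximalIdeal R) R
  haveI : Module.FaithfullyFlat R B := Module.FaithfullyFlat.of_flat_of_isLocalHom
  obtain ⟨e⟩ := nonempty_H_baseChange R B I n M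
  refine cof_of_baseChange B I ((cof_H_complete (R := B) _ n (B ⊗[R] M) ?_).of_injective
    (g := e.toLinearMap) e.injective)
  rcases subsingleton_or_nontrivial M with hM | hM
  · haveI : Subsingleton (B ⊗[R] M) := inferInstance
    rw [Module.supportDim_eq_bot_of_subsingleton]; exact bot_le
  refine le_trans (le_of_eq (CommAlg6.supportDim_tensor_eq (A := R) (B := B) B M)) ?_
  refine le_trans (add_le_add hn (show _ ≤ (0 : WithBot ℕ∞) from ?_)) (by rw [add_zero])
  rw [smul_eq_mul, Ideal.mul_top, ← AdicCompletion.maximalIdeal_eq_map, Module.supportDim_quotient_eq_ringKrullDim]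
  letI := Ideal.Quotient.field (maximalIdeal B)
  exact le_of_eq (ringKrullDim_eq_zero_of_field _)

/-- `Ext^i(R/I, H^n_I(M))` has finite length. -/
theorem isFiniteLength_ext_top [IsLocalRing R] [IsNoetherianRing R] (I : Ideal R) (M : Type u) [AddCommGroup M]
    [Module R M] [Module.Finite R M] (n : ℕ) (hn : Module.supportDim R M ≤ n) (i : ℕ) :
    IsFiniteLength R (Ext (ModuleCat.of R (R ⧸ I)) (ModuleCat.of R (_root_.LocCoh.H I n M)) i) :=
  haveI := isArtinian_H_of_supportDim_le I n M hn
  isFiniteLength_ext (cof_H I M hn) i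

end Groth.Agent.CAlgH3.TopCofinite
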