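import Groth.Agent.LocCoh.Misc
import Groth.Agent.LocCoh.NonVanishing
import Mathlib

/-! Top local cohomology is a tensor functor; representability of its duals. -/

set_option autoImplicit false
set_option backward.isDefEq.respectTransparency.types false
universe u

open CategoryTheory Opposite MonoidalCategory
open scoped TensorProduct

namespace Groth.Agent.CAlgH3.TopTensorCd

open Groth.Agent.LocCoh

variable {R : Type u} [CommRing R] [IsNoetherianRing R] (I : Ideal R)

theorem Hmap_surjective_of_cd {d : ℕ} (hd : _root_.LocCoh.CdLE R I d) {M N : Type u} [AddCommGroup M] [Module R M]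
    [AddCommGroup N] [Module R N] {π : M →ₗ[R] N} (hπ : Function.Surjective π) :
    Function.Surjective (Hmap I d π) := by
  haveI := hd (LinearMap.ker π) (d + 1) (Nat.lt_succ_self d)
  exact fun y => (Hmap_connecting_exact (LinearMap.ker π).injective_subtype hπ
    (LinearMap.exact_subtype_ker_map π) d y).1 (Subsingleton.elim _ _)

theorem exists_fg_preimage' (d : ℕ) {M : Type u} [AddCommGroup M] [Module R M]
    (x : _root_.LocCoh.H I d M) :
    ∃ (n : ℕ) (g : (Fin n → R) →ₗ[R] M) (M' : Submodule R M) (_ : M'.FG)
      (y : _root_.LocCoh.H I d M'),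
      LinearMap.range g = M' ∧ Hmap I d M'.subtype y = x := by
  obtain ⟨k, e, rfl⟩ := exists_cls x
  obtain ⟨M', y, hM', hy⟩ := exists_fg_ext d (R ⧸ I ^ k) M e
  obtain ⟨n, v, hv⟩ := Submodule.fg_iff_exists_fin_generating_family.1 hM'
  refine ⟨n, Fintype.linearCombination R v, M', hM', cls k d y, ?_, ?_⟩
  · rw [Fintype.range_linearCombination]; exact hv
  · rw [Hmap_cls, hy]
theorem tensorToH_surjective {d : ℕ} (hd : _root_.LocCoh.CdLE R I d) (M : Type u) [AddCommGroup M]
    [Module R M] : Function.Surjective (tensorToH I d M) := by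
  intro x
  obtain ⟨n, g, M', hM', y, rfl, rfl⟩ := exists_fg_preimage' I d x
  obtain ⟨w, rfl⟩ := Hmap_surjective_of_cd I hd g.surjective_rangeRestrict y
  obtain ⟨z, rfl⟩ := (tensorToH_pi_bijective I d n).2 w
  refine ⟨g.lTensor _ z, ?_⟩
  rw [tensorToH_natural]
  exact LinearMap.congr_fun (Hmap_comp (I := I) d (LinearMap.range g).subtype g.rangeRestrict)
    (tensorToH I d _ z)

theorem tensorToH_bijective {d : ℕ} (hd : _root_.LocCoh.CdLE R I d) (M : Type u) [AddCommGroup M]
    [Module R M] : Function.Bijective (tensorToH I d M) := by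
  classical
  refine ⟨(injective_iff_map_eq_zero _).2 fun z hz => ?_, tensorToH_surjective I hd M⟩
  let π : (M →₀ R) →ₗ[R] M := Finsupp.linearCombination R id
  have hπ : Function.Surjective π := Finsupp.linearCombination_surjective R Function.surjective_id
  let K := LinearMap.ker π
  have hinj : ∀ z' : _root_.LocCoh.H I d R ⊗[R] (M →₀ R), tensorToH I d _ z' = 0 → z' = 0 := by
    intro z' hz'
    obtain ⟨s, hs⟩ := TensorProduct.exists_finset z'
    let T := s.biUnion fun p => p.2.support
    let e := T.equivFin
    let ι : (Fin T.card → R) →ₗ[R] (M →₀ R) :=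
      Fintype.linearCombination R fun i => Finsupp.single ((e.symm i : M)) 1
    let ρ : (M →₀ R) →ₗ[R] (Fin T.card → R) := LinearMap.pi fun i => Finsupp.lapply (e.symm i : M)
    have hρι : ρ.comp ι = LinearMap.id := LinearMap.ext fun v => funext fun j => by
      simp [ρ, ι, Fintype.linearCombination_apply, Finsupp.single_apply, Subtype.coe_inj]
    have hιρ : ∀ p ∈ s, ι (ρ p.2) = p.2 := fun p hp => by
      ext m
      simp only [ι, ρ, Fintype.linearCombination_apply, LinearMap.pi_apply, Finsupp.lapply_apply,
        Finsupp.smul_single, smul_eq_mul, mul_one, Finsupp.coe_finsetSum, Finset.sum_apply]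
      by_cases hm : m ∈ T
      · rw [Finset.sum_eq_single (e ⟨m, hm⟩)]
        · simp
        · intro b _ hb
          rw [Finsupp.single_apply, if_neg]
          exact fun h => hb (by rw [← e.apply_symm_apply b]; exact congrArg e (Subtype.ext h))
        · simp
      · have h0 : p.2 m = 0 := by
          by_contra h
          exact hm (Finset.mem_biUnion.2 ⟨p, hp, Finsupp.mem_support_iff.2 h⟩)
        rw [h0]
        refine Finset.sum_eq_zero fun b _ => ?_
        rw [Finsupp.single_apply, if_neg]
        exact fun h => hm (h ▸ (e.symm b).2)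
    have hz'' : z' = ι.lTensor _ (ρ.lTensor _ z') := by
      rw [hs, map_sum, map_sum]
      exact Finset.sum_congr rfl fun p hp => by
        rw [LinearMap.lTensor_tmul, LinearMap.lTensor_tmul, hιρ p hp]
    have h0 : tensorToH I d _ (ρ.lTensor _ z') = 0 := by
      rw [tensorToH_natural, hz', map_zero]
    rw [(injective_iff_map_eq_zero _).1 (tensorToH_pi_bijective I d T.card).1 _ h0, map_zero] at hz''
    exact hz''
  obtain ⟨z', rfl⟩ := LinearMap.lTensor_surjective (_root_.LocCoh.H I d R) hπ z
  rw [tensorToH_natural] at hz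
  have hK : Function.Injective K.subtype := K.injective_subtype
  have hKex : Function.Exact K.subtype π := LinearMap.exact_subtype_ker_map π
  obtain ⟨y, hy⟩ := (Hmap_exact (I := I) (M := K) (N := M →₀ R) (P := M) (f := K.subtype) (g := π) hK hπ hKex d _).1 hz
  obtain ⟨w, rfl⟩ := tensorToH_surjective I hd K y
  rw [← tensorToH_natural, ← sub_eq_zero, ← map_sub] at hy
  rw [← sub_eq_zero.1 (hinj _ hy), ← LinearMap.comp_apply, ← LinearMap.lTensor_comp,
    (LinearMap.exact_subtype_ker_map π).linearMap_comp_eq_zero, LinearMap.lTensor_zero,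
    LinearMap.zero_apply]


theorem cdLE_of_radical {d : ℕ} (u : Fin d → R) (hu : ∀ i, u i ∈ I)
    (hI : I ≤ (Ideal.span (Set.range u)).radical) : _root_.LocCoh.CdLE R I d := by
  classical
  have h : I.radical = (Ideal.span (Set.range u)).radical := le_antisymm (Ideal.radical_le_radical_iff.2 hI)
    (Ideal.radical_mono (Ideal.span_le.2 fun x ⟨i, hi⟩ => hi ▸ hu i))
  intro M _ _ i hi
  obtain ⟨e⟩ := nonempty_H_equiv_of_radical h i M
  haveI : Subsingleton (_root_.LocCoh.H (Ideal.span (Set.range u)) i M) := by
    rw [← Set.image_univ, ← Finset.coe_univ, ← Finset.coe_image]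
    refine cdLE_span_finset _ M i (lt_of_le_of_lt (Finset.card_image_le.trans ?_) hi)
    simp
  exact e.toEquiv.subsingleton

/-- `H^d_I = H^d_I(R) ⊗ -`. -/
noncomputable def natIso {d : ℕ} (hd : _root_.LocCoh.CdLE R I d) :
    tensorLeft (ModuleCat.of R (_root_.LocCoh.H I d R)) ≅ localCohomology I d :=
  NatIso.ofComponents
    (fun N => (LinearEquiv.ofBijective (tensorToH I d N) (tensorToH_bijective I hd N)).toModuleIso)
    (fun {X Y} f => ModuleCat.hom_ext (LinearMap.ext fun z => tensorToH_natural I d f.hom z))

theorem isRepresentable {A : Type u} [CommRing A] [Algebra A R] {d : ℕ} (hd : _root_.LocCoh.CdLE R I d)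
    (F : ModuleCat.{u} A) :
    ((localCohomology I d ⋙ ModuleCat.restrictScalars (algebraMap A R)).op ⋙ yoneda.obj F).IsRepresentable := by
  let adj : (localCohomology I d ⋙ ModuleCat.restrictScalars (algebraMap A R)) ⊣
      ModuleCat.coextendScalars (algebraMap A R) ⋙ ihom (ModuleCat.of R (_root_.LocCoh.H I d R)) :=
    ((ihom.adjunction (ModuleCat.of R (_root_.LocCoh.H I d R))).ofNatIsoLeft (natIso I hd)).comp
      (ModuleCat.restrictCoextendScalarsAdj (algebraMap A R))
  exact (show Functor.RepresentableBy _ _ from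
    { homEquiv := fun {N} => (adj.homEquiv N F).symm
      homEquiv_comp := fun f g => adj.homEquiv_naturality_left_symm f g }).isRepresentable

end Groth.Agent.CAlgH3.TopTensorCd
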