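import Groth.Agent.CAlgH3.TorKill
import Groth.Prelude.Def_BlowUp2
import Mathlib.RingTheory.MvPolynomial.Localization
import Mathlib.RingTheory.MvPolynomial.Ideal
import Mathlib.RingTheory.Polynomial.Basic

/-! Powers of the ideal kill high `Tor` of an affine blow up algebra. -/

set_option autoImplicit false
set_option backward.isDefEq.respectTransparency false
universe u

open TensorProduct

namespace Groth.Agent.CAlgH3.TorBlowUp

open TorKill

attribute [local instance] MvPolynomial.algebraMvPolynomial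

variable {A : Type u} [CommRing A] {t : ℕ} (a : Fin (t + 1) → A)

/-- The polynomial ring. -/
abbrev B (A : Type u) [CommRing A] (t : ℕ) : Type u := MvPolynomial (Fin t) A

/-- The localised polynomial ring. -/
abbrev L (a : Fin (t + 1) → A) : Type u := MvPolynomial (Fin t) (Localization.Away (a 0))

/-- The relations. -/
noncomputable def g (i : Fin t) : B A t := MvPolynomial.C (a 0) * MvPolynomial.X i - MvPolynomial.C (a i.succ)

/-- The ideal of the first `j` relations. -/
noncomputable def G (j : ℕ) : Ideal (B A t) := Ideal.span (g a '' {i | (i : ℕ) < j})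

/-- The quotient `a_i / a_0`. -/
noncomputable def frac (i : Fin t) : Localization.Away (a 0) :=
  IsLocalization.mk' (Localization.Away (a 0)) (a i.succ) (⟨a 0, Submonoid.mem_powers _⟩ : Submonoid.powers (a 0))

/-- Base change followed by translation. -/
noncomputable def Φ : B A t →ₐ[A] L a := MvPolynomial.aeval fun i => MvPolynomial.X i + MvPolynomial.C (frac a i)

theorem isUnit_C0 : IsUnit (MvPolynomial.C (algebraMap A (Localization.Away (a 0)) (a 0)) : L a) :=
  (IsLocalization.map_units (Localization.Away (a 0)) (⟨a 0, Submonoid.mem_powers _⟩ : Submonoid.powers (a 0))).map _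

theorem Φ_g (i : Fin t) :
    Φ a (g a i) = MvPolynomial.C (algebraMap A (Localization.Away (a 0)) (a 0)) * MvPolynomial.X i := by
  have hf : algebraMap A (Localization.Away (a 0)) (a 0) * frac a i = algebraMap A _ (a i.succ) :=
    IsLocalization.mk'_spec' (Localization.Away (a 0)) (a i.succ) (⟨a 0, Submonoid.mem_powers _⟩ : Submonoid.powers (a 0))
  have hC : ∀ x : A, Φ a (MvPolynomial.C x) = MvPolynomial.C (algebraMap A (Localization.Away (a 0)) x) := fun x =>
    (MvPolynomial.aeval_C _ x).trans rfl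
  have hX : Φ a (MvPolynomial.X i) = MvPolynomial.X i + MvPolynomial.C (frac a i) := MvPolynomial.aeval_X _ i
  rw [g, map_sub, map_mul, hC, hC, hX, mul_add, ← MvPolynomial.C_mul, hf, add_sub_cancel_right]

theorem map_G (j : ℕ) :
    (G a j).map (Φ a) = Ideal.span ((fun i : Fin t => (MvPolynomial.X i : L a)) '' {i | (i : ℕ) < j}) := by
  rw [G, Ideal.map_span, ← Set.image_comp]
  refine le_antisymm (Ideal.span_le.2 ?_) (Ideal.span_le.2 ?_) <;> rintro _ ⟨i, hi, rfl⟩
  · show Φ a (g a i) ∈ _
    rw [Φ_g]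
    exact Ideal.mul_mem_left _ _ (Ideal.subset_span ⟨i, hi, rfl⟩)
  · obtain ⟨u, hu⟩ := (isUnit_C0 a).exists_left_inv
    have : (MvPolynomial.X i : L a) = u * Φ a (g a i) := by rw [Φ_g, ← mul_assoc, hu, one_mul]
    show (MvPolynomial.X i : L a) ∈ _
    rw [this]
    exact Ideal.mul_mem_left _ _ (Ideal.subset_span ⟨i, hi, rfl⟩)

theorem exists_pow_mem (j : ℕ) {p : B A t} (hp : Φ a p ∈ (G a j).map (Φ a)) :
    ∃ c : ℕ, MvPolynomial.C (a 0) ^ c * p ∈ G a j := by
  let τ : L a →ₐ[Localization.Away (a 0)] L a := MvPolynomial.aeval fun i => MvPolynomial.X i - MvPolynomial.C (frac a i)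
  have hτ : (τ.restrictScalars A).comp (Φ a) =
      IsScalarTower.toAlgHom A (B A t) (L a) := MvPolynomial.algHom_ext fun i => by
    simp [τ, Φ, MvPolynomial.algebraMap_eq, MvPolynomial.algebraMap_def]
    exact (MvPolynomial.map_X _ i).symm
  have h : algebraMap (B A t) (L a) p ∈ (G a j).map (algebraMap (B A t) (L a)) := by
    have h1 := Ideal.mem_map_of_mem (τ.restrictScalars A : L a →ₐ[A] L a) hp
    rw [Ideal.map_mapₐ, ← AlgHom.comp_apply, hτ] at h1
    exact h1
  obtain ⟨_, ⟨x, ⟨c, rfl⟩, rfl⟩, hm⟩ := (IsLocalization.algebraMap_mem_map_algebraMap_iff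
    ((Submonoid.powers (a 0)).map (MvPolynomial.C : A →+* B A t)) (L a) (G a j) p).1 h
  exact ⟨c, by rwa [← map_pow]⟩

theorem smul_pow_eq (c : ℕ) (p : B A t) : a 0 ^ c • p = MvPolynomial.C (a 0) ^ c * p := by
  rw [Algebra.smul_def, MvPolynomial.algebraMap_eq, map_pow]

theorem exists_bound [IsNoetherianRing A] (N : Submodule (B A t) (B A t)) (j : ℕ)
    (h : ∀ p ∈ N, ∃ c : ℕ, MvPolynomial.C (a 0) ^ c * p ∈ G a j) :
    ∃ c : ℕ, ∀ p ∈ N, MvPolynomial.C (a 0) ^ c * p ∈ G a j := by
  classical
  obtain ⟨s, hs⟩ := IsNoetherian.noetherian N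
  choose f hf using h
  let c := s.attach.sup fun x => f x.1 (hs ▸ Submodule.subset_span x.2)
  refine ⟨c, fun p hp => ?_⟩
  rw [← hs] at hp
  induction hp using Submodule.span_induction with
  | mem x hx =>
    have hle : f x (hs ▸ Submodule.subset_span hx) ≤ c := Finset.le_sup (f := fun x => f x.1 (hs ▸ Submodule.subset_span x.2))
      (Finset.mem_attach s ⟨x, hx⟩)
    obtain ⟨d, hd⟩ := Nat.exists_eq_add_of_le hle
    rw [hd, pow_add, mul_right_comm]
    exact Ideal.mul_mem_right _ _ (hf x _)
  | zero => rw [mul_zero]; exact zero_mem _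
  | add x y _ _ hx hy => rw [mul_add]; exact add_mem hx hy
  | smul r x _ hx => rw [smul_eq_mul, mul_left_comm]; exact Ideal.mul_mem_left _ _ hx

variable [IsNoetherianRing A]

/-- Annihilated multiplication kernels. -/
theorem exists_colon_bound (j : ℕ) (hj : j < t) :
    ∃ c : ℕ, ∀ p : B A t, g a ⟨j, hj⟩ * p ∈ G a j → MvPolynomial.C (a 0) ^ c * p ∈ G a j := by
  obtain ⟨c, hc⟩ := exists_bound a (Submodule.comap (LinearMap.mulLeft (B A t) (g a ⟨j, hj⟩)) (G a j)) j fun p hp => by
    refine exists_pow_mem a j ?_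
    have h : Φ a (g a ⟨j, hj⟩ * p) ∈ (G a j).map (Φ a) := Ideal.mem_map_of_mem _ hp
    rw [map_mul, Φ_g, mul_assoc] at h
    obtain ⟨u, hu⟩ := (isUnit_C0 a).exists_left_inv
    have h' := Ideal.mul_mem_left _ u h
    rw [← mul_assoc, hu, one_mul, map_G, MvPolynomial.mem_ideal_span_X_image] at h'
    rw [map_G, MvPolynomial.mem_ideal_span_X_image]
    intro m hm
    obtain ⟨i, hi, hne⟩ := h' (Finsupp.single ⟨j, hj⟩ 1 + m) (by
      rw [MvPolynomial.mem_support_iff, MvPolynomial.coeff_X_mul]
      exact MvPolynomial.mem_support_iff.1 hm)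
    refine ⟨i, hi, ?_⟩
    have hij : i ≠ ⟨j, hj⟩ := fun e => by subst e; exact lt_irrefl j hi
    rwa [Finsupp.add_apply, Finsupp.single_eq_of_ne hij, zero_add] at hne
  exact ⟨c, fun p hp => hc p hp⟩

/-- Iterated quotients. -/
theorem exists_kill_G : ∀ j : ℕ, j ≤ t → ∃ c : ℕ, ∀ (P : Ch A) (n : ℕ), j ≤ n →
    Kill P (a 0 ^ c) n (B A t ⧸ G a j)
  | 0, _ => ⟨0, fun P n _ => by
      have e : G a 0 = ⊥ := by simp [G]
      exact (kill_of_flat (S := B A t) (a 0 ^ 0)).of_equiv
        (((Submodule.quotEquivOfEqBot _ e).symm).restrictScalars A)⟩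
  | j + 1, hj => by
    obtain ⟨c, hc⟩ := exists_kill_G j (by omega)
    obtain ⟨e, he⟩ := exists_colon_bound a j (by omega)
    let γ := g a ⟨j, by omega⟩
    let Q := B A t ⧸ G a j
    let μ : Q →ₗ[A] Q := ((γ • LinearMap.id : Q →ₗ[B A t] Q)).restrictScalars A
    let q : Q →ₗ[A] B A t ⧸ G a (j + 1) := ((G a j).mapQ (G a (j + 1)) LinearMap.id
      (Ideal.span_mono (Set.image_mono fun i hi => Nat.lt_succ_of_lt hi))).restrictScalars A
    have hker : ∀ z : LinearMap.ker μ, a 0 ^ e • z = 0 := fun ⟨z, hz⟩ => by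
      obtain ⟨p, rfl⟩ := Submodule.Quotient.mk_surjective _ z
      refine Subtype.ext ?_
      show a 0 ^ e • (Submodule.Quotient.mk p : Q) = 0
      rw [← Submodule.Quotient.mk_smul, Submodule.Quotient.mk_eq_zero, smul_pow_eq]
      exact he p ((Submodule.Quotient.mk_eq_zero _).1 hz)
    have hex : Function.Exact (LinearMap.range μ).subtype q := by
      intro z
      obtain ⟨p, rfl⟩ := Submodule.Quotient.mk_surjective _ z
      constructor
      · intro hp
        have hp' : p ∈ G a (j + 1) := (Submodule.Quotient.mk_eq_zero _).1 hp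
        have : G a (j + 1) = G a j ⊔ Ideal.span {γ} := by
          rw [G, G, ← Ideal.span_union, ← Set.image_singleton, ← Set.image_union]
          congr 2
          ext i
          simp [Fin.ext_iff]
          omega
        rw [this] at hp'
        obtain ⟨y, hy, z, hz, rfl⟩ := Submodule.mem_sup.1 hp'
        obtain ⟨r, rfl⟩ := Ideal.mem_span_singleton'.1 hz
        refine ⟨⟨_, Submodule.Quotient.mk r, rfl⟩, ?_⟩
        show γ • (Submodule.Quotient.mk r : Q) = Submodule.Quotient.mk (y + r * γ)
        rw [← Submodule.Quotient.mk_smul, Submodule.Quotient.eq, smul_eq_mul]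
        simpa [mul_comm] using hy
      · rintro ⟨⟨_, w, rfl⟩, hw⟩
        obtain ⟨r, rfl⟩ := Submodule.Quotient.mk_surjective _ w
        rw [← hw]
        show q (γ • (Submodule.Quotient.mk r : Q)) = 0
        rw [← Submodule.Quotient.mk_smul]
        exact (Submodule.Quotient.mk_eq_zero _).2 (Ideal.mul_mem_right r _ (Ideal.subset_span ⟨⟨j, by omega⟩, by simp, rfl⟩))
    have hq : Function.Surjective q := fun z => by
      obtain ⟨p, rfl⟩ := Submodule.Quotient.mk_surjective _ z
      exact ⟨Submodule.Quotient.mk p, rfl⟩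
    refine ⟨c + (c + e), fun P n hn => ?_⟩
    obtain ⟨n, rfl⟩ : ∃ k, n = k + 1 := ⟨n - 1, by omega⟩
    have h1 : Kill P (a 0 ^ (c + e)) n (LinearMap.range μ) := by
      rcases n with _ | m
      · obtain rfl : j = 0 := by omega
        have hb : ∀ k, Kill P (a 0 ^ (c + e)) k (LinearMap.ker μ) := fun k =>
          kill_of_smul_eq_zero _ fun s => by rw [pow_add, mul_smul, hker, smul_zero]
        intro y hy
        obtain ⟨y₁, rfl⟩ := LinearMap.rTensor_surjective _ μ.surjective_rangeRestrict y
        obtain ⟨z, hz⟩ := ((rTensor_exact _ (show Function.Exact (LinearMap.ker μ).subtype μ.rangeRestrict by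
          rw [LinearMap.exact_iff, LinearMap.ker_rangeRestrict, Submodule.range_subtype]) μ.surjective_rangeRestrict)
            ((P.d 0).lTensor Q y₁)).1 (by rw [← lTensor_comm]; exact hy)
        have hk0 : a 0 ^ e • z = 0 := by
          clear hz
          induction z using TensorProduct.induction_on with
          | zero => exact smul_zero _
          | tmul s p => rw [TensorProduct.smul_tmul', hker, TensorProduct.zero_tmul]
          | add y z hy hz => rw [smul_add, hy, hz, add_zero]
        obtain ⟨v, hv⟩ := hc P 0 le_rfl (a 0 ^ e • y₁) (by rw [map_smul, ← hz, ← map_smul, hk0, map_zero])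
        refine ⟨μ.rangeRestrict.rTensor _ v, ?_⟩
        rw [lTensor_comm, hv, map_smul, map_smul, ← mul_smul, ← pow_add]
      · rw [pow_add]
        exact kill_quotient (LinearMap.ker μ).subtype μ.rangeRestrict Subtype.val_injective
          (by rw [LinearMap.exact_iff, LinearMap.ker_rangeRestrict, Submodule.range_subtype])
          μ.surjective_rangeRestrict (hc P _ (by omega)) (kill_of_smul_eq_zero _ hker)
    rw [pow_add]
    exact kill_quotient (LinearMap.range μ).subtype q Subtype.val_injective hex hq (hc P _ (by omega)) h1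

/-- Evaluation at the quotients. -/
noncomputable def ψ : B A t →ₐ[A] Localization.Away (a 0) := MvPolynomial.aeval (frac a)

theorem constantCoeff_Φ (p : B A t) : MvPolynomial.constantCoeff (Φ a p) = ψ a p := by
  induction p using MvPolynomial.induction_on with
  | C x => simp [Φ, ψ, MvPolynomial.algebraMap_eq, IsScalarTower.algebraMap_apply A (Localization.Away (a 0)) (L a)]
  | add p q hp hq => rw [map_add, map_add, map_add, hp, hq]
  | mul_X p i hp => rw [map_mul, map_mul, map_mul, hp]; simp [Φ, ψ]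

theorem range_ψ : (ψ a).range = BlowUp.affineAlgebra A (Ideal.span (Set.range a)) (a 0) := by
  refine le_antisymm ?_ (Algebra.adjoin_le ?_)
  · rw [ψ, ← Algebra.adjoin_range_eq_range_aeval]
    refine Algebra.adjoin_mono ?_
    rintro _ ⟨i, rfl⟩
    exact ⟨a i.succ, Ideal.subset_span (Set.mem_range_self _), rfl⟩
  · rintro _ ⟨x, hx, rfl⟩
    rw [IsLocalization.mk'_eq_mul_mk'_one, SetLike.mem_coe]
    induction hx using Submodule.span_induction with
    | mem y hy =>
      obtain ⟨i, rfl⟩ := hy
      rw [← IsLocalization.mk'_eq_mul_mk'_one]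
      induction i using Fin.cases with
      | zero => rw [IsLocalization.mk'_self]; exact one_mem _
      | succ i => exact ⟨MvPolynomial.X i, by simp [ψ, frac]⟩
    | zero => rw [map_zero, zero_mul]; exact zero_mem _
    | add x y _ _ hx hy => rw [map_add, add_mul]; exact add_mem hx hy
    | smul r x _ hx => rw [smul_eq_mul, map_mul, mul_assoc]; exact mul_mem (Subalgebra.algebraMap_mem _ r) hx

theorem exists_smul_eq (c : ℕ) : ∀ x ∈ Ideal.span (Set.range a) ^ c,
    ∃ z : BlowUp.affineAlgebra A (Ideal.span (Set.range a)) (a 0),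
      algebraMap A _ x = algebraMap A _ (a 0) ^ c * z := by
  induction c with
  | zero => exact fun x _ => ⟨algebraMap A _ x, by rw [pow_zero, one_mul]⟩
  | succ c ih =>
    intro x hx
    rw [pow_succ] at hx
    refine Submodule.mul_induction_on hx (fun u hu v hv => ?_) fun u v ⟨z, hz⟩ ⟨z', hz'⟩ => ?_
    · obtain ⟨z, hz⟩ := ih u hu
      let w : BlowUp.affineAlgebra A (Ideal.span (Set.range a)) (a 0) :=
        ⟨IsLocalization.mk' (Localization.Away (a 0)) v (⟨a 0, Submonoid.mem_powers _⟩ : Submonoid.powers (a 0)),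
          Algebra.subset_adjoin ⟨v, hv, rfl⟩⟩
      refine ⟨z * w, ?_⟩
      have hw : algebraMap A _ (a 0) * w = algebraMap A _ v := Subtype.ext (IsLocalization.mk'_spec'
        (Localization.Away (a 0)) v (⟨a 0, Submonoid.mem_powers _⟩ : Submonoid.powers (a 0)))
      rw [map_mul, hz, ← hw]; ring
    · exact ⟨z + z', by rw [map_add, hz, hz', mul_add]⟩

theorem main : ∃ c : ℕ, ∀ (M : Type u) [AddCommGroup M] [Module A M] (i : ℕ), t + 1 ≤ i →
    ∀ x ∈ Ideal.span (Set.range a) ^ c,
    ∀ y : DRing.Tor A i (BlowUp.affineAlgebra A (Ideal.span (Set.range a)) (a 0)) M, x • y = 0 := by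
  obtain ⟨c, hc⟩ := exists_kill_G a t le_rfl
  let Q := B A t ⧸ G a t
  have hψg : ∀ i, ψ a (g a i) = 0 := fun i => by
    rw [← constantCoeff_Φ, Φ_g, map_mul, MvPolynomial.constantCoeff_X, mul_zero]
  have hle : G a t ≤ RingHom.ker (ψ a : B A t →+* Localization.Away (a 0)) :=
    Ideal.span_le.2 (by rintro _ ⟨i, -, rfl⟩; exact hψg i)
  obtain ⟨e, he⟩ := exists_bound a (RingHom.ker (ψ a : B A t →+* Localization.Away (a 0))) t fun p hp => by
    refine exists_pow_mem a t ?_
    rw [map_G, MvPolynomial.mem_ideal_span_X_image]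
    intro m hm
    have hm0 : m ≠ 0 := fun h => MvPolynomial.mem_support_iff.1 hm (h ▸ ((constantCoeff_Φ a p).trans hp))
    obtain ⟨i, hi⟩ := Finsupp.ne_iff.1 hm0
    exact ⟨i, i.2, hi⟩
  let A' := BlowUp.affineAlgebra A (Ideal.span (Set.range a)) (a 0)
  let π₀ : B A t →ₗ[A] A' := ((ψ a).codRestrict A' fun p => (range_ψ a).le ((ψ a).mem_range_self p)).toLinearMap
  let π : Q →ₗ[A] A' := (Submodule.liftQ ((G a t).restrictScalars A) π₀ fun p hp => Subtype.ext (hle hp)).comp
    (Submodule.Quotient.restrictScalarsEquiv A (G a t)).symm.toLinearMap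
  have hπ : ∀ p, π (Submodule.Quotient.mk p) = π₀ p := fun p => rfl
  have hsurj : Function.Surjective π := fun z => by
    obtain ⟨p, hp⟩ : z.1 ∈ (ψ a).range := by rw [range_ψ]; exact z.2
    exact ⟨Submodule.Quotient.mk p, Subtype.ext hp⟩
  have hker : ∀ z : LinearMap.ker π, a 0 ^ e • z = 0 := fun ⟨z, hz⟩ => by
    obtain ⟨p, rfl⟩ := Submodule.Quotient.mk_surjective _ z
    refine Subtype.ext ?_
    show a 0 ^ e • (Submodule.Quotient.mk p : Q) = 0
    rw [← Submodule.Quotient.mk_smul, Submodule.Quotient.mk_eq_zero, smul_pow_eq]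
    exact he p (congrArg Subtype.val ((hπ p).symm.trans hz))
  have hkill : ∀ (P : Ch A) (n : ℕ), t ≤ n → Kill P (a 0 ^ (c + e)) n A' := fun P n hn => by
    rcases n with _ | m
    · intro y hy
      obtain ⟨y₁, rfl⟩ := LinearMap.rTensor_surjective _ hsurj y
      obtain ⟨z, hz⟩ := ((rTensor_exact _ (LinearMap.exact_subtype_ker_map π) hsurj)
        ((P.d 0).lTensor Q y₁)).1 (by rw [← lTensor_comm]; exact hy)
      have hk0 : a 0 ^ e • z = 0 := by
        clear hz
        induction z using TensorProduct.induction_on with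
        | zero => exact smul_zero _
        | tmul s p => rw [TensorProduct.smul_tmul', hker, TensorProduct.zero_tmul]
        | add y z hy hz => rw [smul_add, hy, hz, add_zero]
      obtain ⟨v, hv⟩ := hc P 0 hn (a 0 ^ e • y₁) (by rw [map_smul, ← hz, ← map_smul, hk0, map_zero])
      refine ⟨π.rTensor _ v, ?_⟩
      rw [lTensor_comm, hv, map_smul, map_smul, ← mul_smul, ← pow_add]
    · rw [pow_add]
      exact kill_quotient (LinearMap.ker π).subtype π Subtype.val_injective
        (LinearMap.exact_subtype_ker_map π) hsurj (hc P _ hn) (kill_of_smul_eq_zero _ hker)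
  refine ⟨c + e, fun M _ _ i hi x hx => ?_⟩
  obtain ⟨n, rfl⟩ : ∃ n, i = n + 1 := ⟨i - 1, by omega⟩
  refine fun y => smul_tor_eq_zero x A' M n (fun w hw => ?_) y
  obtain ⟨z, hz⟩ := exists_smul_eq a _ x hx
  obtain ⟨v, hv⟩ := (hkill _ n (by omega)).map (LinearMap.mulLeft A z) w hw
  refine ⟨v, hv.trans ?_⟩
  clear hv hw
  induction w using TensorProduct.induction_on with
  | zero => simp
  | tmul s p =>
    rw [LinearMap.rTensor_tmul, LinearMap.mulLeft_apply, TensorProduct.smul_tmul', TensorProduct.smul_tmul']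
    congr 1
    rw [Algebra.smul_def, Algebra.smul_def, hz, map_pow, mul_assoc]
  | add y z hy hz => rw [map_add, smul_add, smul_add, hy, hz]

end Groth.Agent.CAlgH3.TorBlowUp
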