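import Groth.Agent.CAlgH3.TorKill
import Mathlib.Algebra.Category.ModuleCat.Ext.HasExt
import Mathlib.Algebra.Homology.DerivedCategory.Ext.ExactSequences
import Mathlib.Algebra.Homology.DerivedCategory.Ext.EnoughProjectives
import Mathlib.RingTheory.TensorProduct.Pi
import Mathlib.LinearAlgebra.Finsupp.LinearCombination
import Mathlib.RingTheory.Noetherian.Basic

/-! A map from a finite module kills `Ext^(e+1)` iff it kills `Tor_(e+1)`. -/

set_option autoImplicit false
set_option backward.isDefEq.respectTransparency false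
set_option backward.isDefEq.respectTransparency.types false
universe u

open TensorProduct CategoryTheory CategoryTheory.Limits

namespace Groth.Agent.CAlgH3.TorExtMap

open TorKill

variable {A : Type u} [CommRing A]

/-- `f` kills the homology in degree `e + 1`. -/
def Z (Q : Ch A) (e : ℕ) {M M' : Type u} [AddCommGroup M] [Module A M] [AddCommGroup M'] [Module A M']
    (f : M →ₗ[A] M') : Prop :=
  ∀ y : M ⊗[A] Q.X (e + 1), (Q.d e).lTensor M y = 0 → ∃ w, (Q.d (e + 1)).lTensor M' w = f.rTensor _ y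

/-- `f` kills `Ext^(e+1)`. -/
def E (e : ℕ) {M M' : ModuleCat.{u} A} (f : M ⟶ M') : Prop :=
  ∀ (N : ModuleCat.{u} A) (x : Abelian.Ext M' N (e + 1)), (Abelian.Ext.mk₀ f).comp x (zero_add _) = 0

variable {M M' K K' P P' : Type u} [AddCommGroup M] [Module A M] [AddCommGroup M'] [Module A M'] [AddCommGroup K]
  [Module A K] [AddCommGroup K'] [Module A K'] [AddCommGroup P] [Module A P] [AddCommGroup P'] [Module A P']
  [Module.Flat A P] [Module.Flat A P'] {f : M →ₗ[A] M'} {f' : K →ₗ[A] K'} {g : P →ₗ[A] P'}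
  {i : K →ₗ[A] P} {p : P →ₗ[A] M} {i' : K' →ₗ[A] P'} {p' : P' →ₗ[A] M'}

theorem dd (Q : Ch A) (S : Type u) [AddCommGroup S] [Module A S] (n : ℕ) (x : S ⊗[A] Q.X (n + 2)) :
    (Q.d n).lTensor S ((Q.d (n + 1)).lTensor S x) = 0 := by
  rw [← LinearMap.comp_apply, ← LinearMap.lTensor_comp, (Q.exact n).linearMap_comp_eq_zero, LinearMap.lTensor_zero,
    LinearMap.zero_apply]

theorem rr {S T U W : Type u} [AddCommGroup S] [Module A S] [AddCommGroup T] [Module A T] [AddCommGroup U]
    [Module A U] [AddCommGroup W] [Module A W] {a : S →ₗ[A] T} {b : T →ₗ[A] U} {c : S →ₗ[A] W} {d : W →ₗ[A] U}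
    (h : b ∘ₗ a = d ∘ₗ c) (V : Type u) [AddCommGroup V] [Module A V] (x : S ⊗[A] V) :
    b.rTensor V (a.rTensor V x) = d.rTensor V (c.rTensor V x) := by
  rw [← LinearMap.rTensor_comp_apply, ← LinearMap.rTensor_comp_apply, h]

/-- Dimension shift for `Tor`. -/
theorem z_succ_iff (Q : Ch A) (e : ℕ) (hi : Function.Injective i) (hip : Function.Exact i p)
    (hp : Function.Surjective p) (hi' : Function.Injective i') (hip' : Function.Exact i' p')
    (hp' : Function.Surjective p') (h1 : i' ∘ₗ f' = g ∘ₗ i) (h2 : p' ∘ₗ g = f ∘ₗ p) :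
    Z Q (e + 1) f ↔ Z Q e f' := by
  constructor
  · intro h z hz
    obtain ⟨y₁, hy₁⟩ := ((Module.Flat.lTensor_exact P (Q.exact e)) (i.rTensor _ z)).1
      (by rw [lTensor_comm, hz, map_zero])
    obtain ⟨w, hw⟩ := h (p.rTensor _ y₁) (by
      rw [lTensor_comm, hy₁, (rTensor_exact _ hip hp).apply_apply_eq_zero])
    obtain ⟨w₁, rfl⟩ := LinearMap.rTensor_surjective _ hp' w
    obtain ⟨v, hv⟩ := ((rTensor_exact _ hip' hp') (g.rTensor _ y₁ - (Q.d (e + 2)).lTensor P' w₁)).1 (by
      rw [map_sub, rr h2, ← lTensor_comm, hw, sub_self])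
    refine ⟨v, Module.Flat.rTensor_preserves_injective_linearMap i' hi' ?_⟩
    rw [← lTensor_comm, hv, map_sub, dd, sub_zero, rr h1, lTensor_comm, hy₁]
  · intro h y hy
    obtain ⟨y₁, rfl⟩ := LinearMap.rTensor_surjective _ hp y
    rw [lTensor_comm] at hy
    obtain ⟨z, hz⟩ := ((rTensor_exact _ hip hp) _).1 hy
    obtain ⟨v, hv⟩ := h z (Module.Flat.rTensor_preserves_injective_linearMap i hi (by
      rw [map_zero, ← lTensor_comm, hz, dd]))
    obtain ⟨w, hw⟩ := ((Module.Flat.lTensor_exact P' (Q.exact (e + 1))) (g.rTensor _ y₁ - i'.rTensor _ v)).1 (by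
      rw [map_sub, lTensor_comm, ← hz, lTensor_comm, hv, rr h1, sub_self])
    refine ⟨p'.rTensor _ w, ?_⟩
    rw [lTensor_comm, hw, map_sub, (rTensor_exact _ hip' hp').apply_apply_eq_zero, sub_zero, rr h2]

theorem z_zero_of_factor (Q : Ch A) (hip : Function.Exact i p) (hp : Function.Surjective p)
    (hip' : Function.Exact i' p') (hp' : Function.Surjective p') (h1 : i' ∘ₗ f' = g ∘ₗ i) (h2 : p' ∘ₗ g = f ∘ₗ p)
    (r : P →ₗ[A] K') (hr : r ∘ₗ i = f') : Z Q 0 f := fun y hy => by
  obtain ⟨y₁, rfl⟩ := LinearMap.rTensor_surjective _ hp y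
  rw [lTensor_comm] at hy
  obtain ⟨z, hz⟩ := ((rTensor_exact _ hip hp) _).1 hy
  have hr' : r.rTensor (Q.X 0) (i.rTensor _ z) = f'.rTensor _ z := by
    subst hr
    exact (LinearMap.congr_fun (LinearMap.rTensor_comp (Q.X 0) r i) z).symm
  obtain ⟨w, hw⟩ := ((Module.Flat.lTensor_exact P' (Q.exact 0)) (g.rTensor _ y₁ - i'.rTensor _ (r.rTensor _ y₁))).1 (by
    rw [map_sub, lTensor_comm, ← hz, lTensor_comm, lTensor_comm, ← hz, hr', rr h1, sub_self])
  refine ⟨p'.rTensor _ w, ?_⟩
  rw [lTensor_comm, hw, map_sub, (rTensor_exact _ hip' hp').apply_apply_eq_zero, sub_zero, rr h2]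

theorem rTensor_eq_zero_of_z (Q : Ch A) {N : Type u} [AddCommGroup N] [Module A N] (π : Q.X 0 →ₗ[A] N)
    (hπ : Function.Surjective π) (hdπ : Function.Exact (Q.d 0) π) (h : Z Q 0 f)
    (hip : Function.Exact i p) (hp : Function.Surjective p)
    (hi' : Function.Injective i') (hip' : Function.Exact i' p')
    (hp' : Function.Surjective p') (h1 : i' ∘ₗ f' = g ∘ₗ i) (h2 : p' ∘ₗ g = f ∘ₗ p)
    (k : K ⊗[A] N) (hk : i.rTensor N k = 0) : f'.rTensor N k = 0 := by
  obtain ⟨z, rfl⟩ := LinearMap.lTensor_surjective K hπ k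
  obtain ⟨y₁, hy₁⟩ := ((lTensor_exact P hdπ hπ) (i.rTensor _ z)).1 (by rw [lTensor_comm, hk])
  obtain ⟨w, hw⟩ := h (p.rTensor _ y₁) (by rw [lTensor_comm, hy₁, (rTensor_exact _ hip hp).apply_apply_eq_zero])
  obtain ⟨w₁, rfl⟩ := LinearMap.rTensor_surjective _ hp' w
  obtain ⟨v, hv⟩ := ((rTensor_exact _ hip' hp') (g.rTensor _ y₁ - (Q.d 1).lTensor P' w₁)).1 (by
    rw [map_sub, rr h2, ← lTensor_comm, hw, sub_self])
  have e : f'.rTensor _ z = (Q.d 0).lTensor K' v := Module.Flat.rTensor_preserves_injective_linearMap i' hi' (by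
    rw [← lTensor_comm, hv, map_sub, dd, sub_zero, rr h1, lTensor_comm, hy₁])
  rw [← lTensor_comm, e, ← LinearMap.comp_apply, ← LinearMap.lTensor_comp, hdπ.linearMap_comp_eq_zero,
    LinearMap.lTensor_zero, LinearMap.zero_apply]

/-- A pure obstruction vanishes. -/
theorem exists_factor [Module.Finite A K] {n : ℕ} (i : K →ₗ[A] (Fin n → A)) (f' : K →ₗ[A] K')
    (h : ∀ (N : Type u) [AddCommGroup N] [Module A N] (k : K ⊗[A] N), i.rTensor N k = 0 → f'.rTensor N k = 0) :
    ∃ r : (Fin n → A) →ₗ[A] K', r ∘ₗ i = f' := by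
  obtain ⟨m, ρ, hρ⟩ := Module.Finite.exists_fin' A K
  let b : Fin m → K := fun j => ρ (Pi.single j 1)
  let T : (Fin n → A) →ₗ[A] (Fin m → A) := Fintype.linearCombination A fun l j => i (b j) l
  let c := (LinearMap.range T).mkQ
  let k : K ⊗[A] ((Fin m → A) ⧸ LinearMap.range T) := ∑ j, b j ⊗ₜ c (Pi.single j 1)
  have hk : i.rTensor _ k = 0 := by
    simp only [k, map_sum, LinearMap.rTensor_tmul]
    have e : ∀ j, i (b j) = ∑ l, i (b j) l • (Pi.single l 1 : Fin n → A) := fun j => (pi_eq_sum_univ' (i (b j)))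
    rw [Finset.sum_congr rfl fun j _ => by rw [e j, TensorProduct.sum_tmul]]
    rw [Finset.sum_comm]
    refine Finset.sum_eq_zero fun l _ => ?_
    simp only [TensorProduct.smul_tmul, ← map_smul, ← TensorProduct.tmul_sum, ← map_sum]
    have hT : ∑ j, i (b j) l • (Pi.single j 1 : Fin m → A) = T (Pi.single l 1) := by
      rw [Fintype.linearCombination_apply_single, one_smul]
      exact (pi_eq_sum_univ' _).symm
    rw [hT, show c (T (Pi.single l 1)) = 0 from (Submodule.Quotient.mk_eq_zero _).2 (LinearMap.mem_range_self T _),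
      TensorProduct.tmul_zero]
  have h0 := h _ k hk
  let x : K' ⊗[A] (Fin m → A) := ∑ j, f' (b j) ⊗ₜ Pi.single j 1
  obtain ⟨z, hz⟩ := ((lTensor_exact K' (LinearMap.exact_map_mkQ_range T) (Submodule.mkQ_surjective _)) x).1
    (by rw [← h0]; simp [x, k, c, map_sum])
  let v : Fin n → K' := TensorProduct.piScalarRight A A K' (Fin n) z
  refine ⟨Fintype.linearCombination A v, ?_⟩
  have key : ∀ (z : K' ⊗[A] (Fin n → A)) (j : Fin m), TensorProduct.piScalarRight A A K' (Fin m) (T.lTensor K' z) j =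
      ∑ l, i (b j) l • TensorProduct.piScalarRight A A K' (Fin n) z l := fun z j => by
    induction z using TensorProduct.induction_on with
    | zero => simp
    | tmul a s =>
      simp only [LinearMap.lTensor_tmul, TensorProduct.piScalarRight_apply, TensorProduct.piScalarRightHom_tmul]
      simp only [T, Fintype.linearCombination_apply, Finset.sum_apply, Pi.smul_apply, smul_eq_mul, Finset.sum_smul,
        smul_smul, mul_comm]
    | add y z hy hz => simp only [map_add, Pi.add_apply, hy, hz, smul_add, Finset.sum_add_distrib]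
  have hρ' : (Fintype.linearCombination A v ∘ₗ i) ∘ₗ ρ = f' ∘ₗ ρ := (Pi.basisFun A (Fin m)).ext fun j => by
    have e := key z j
    rw [hz] at e
    simp only [Pi.basisFun_apply, LinearMap.comp_apply, Fintype.linearCombination_apply]
    refine e.symm.trans ?_
    simp [x, TensorProduct.piScalarRightHom_tmul, Pi.single_apply, Finset.sum_apply, b]
  exact LinearMap.ext fun y => by
    obtain ⟨y, rfl⟩ := hρ y
    exact congrArg (fun φ => φ y) hρ'

section ext

variable [IsNoetherianRing A]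

omit [IsNoetherianRing A] in
theorem ext_shift {M M' : ModuleCat.{u} A} {S S' : ShortComplex (ModuleCat.{u} A)} (hS : S.ShortExact)
    (hS' : S'.ShortExact) [Projective S.X₂] [Projective S'.X₂] (φ : S ⟶ S') (e : ℕ) :
    E (e + 1) φ.τ₃ ↔ E e φ.τ₁ := by
  constructor
  · intro h N x
    have h' := h N (hS'.extClass.comp x (add_comm 1 (e + 1)))
    rw [← Abelian.Ext.comp_assoc (a₁ := 0) (a₂ := 1) (a₃ := e + 1) _ _ _ (zero_add 1) (add_comm 1 (e + 1)) (by omega),
      ← hS.extClass_naturality hS' φ,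
      Abelian.Ext.comp_assoc (a₁ := 1) (a₂ := 0) (a₃ := e + 1) _ _ _ (add_zero 1) (zero_add _) (by omega)] at h'
    obtain ⟨y, hy⟩ := Abelian.Ext.contravariant_sequence_exact₁ hS N _ _ h'
    rw [← hy, Abelian.Ext.eq_zero_of_projective y, Abelian.Ext.comp_zero]
  · intro h N x
    obtain ⟨y, hy⟩ := Abelian.Ext.contravariant_sequence_exact₃ hS' N x (Abelian.Ext.eq_zero_of_projective _)
      (add_comm 1 (e + 1))
    rw [← hy, ← Abelian.Ext.comp_assoc (a₁ := 0) (a₂ := 1) (a₃ := e + 1) _ _ _ (zero_add 1) (add_comm 1 (e + 1)) (by omega),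
      ← hS.extClass_naturality hS' φ,
      Abelian.Ext.comp_assoc (a₁ := 1) (a₂ := 0) (a₃ := e + 1) _ _ _ (add_zero 1) (zero_add _) (by omega), h N y,
      Abelian.Ext.comp_zero]

omit [IsNoetherianRing A] in
theorem ext_zero {S S' : ShortComplex (ModuleCat.{u} A)} (hS : S.ShortExact)
    (hS' : S'.ShortExact) [Projective S'.X₂] (φ : S ⟶ S') :
    E 0 φ.τ₃ ↔ ∃ r : S.X₂ ⟶ S'.X₁, S.f ≫ r = φ.τ₁ := by
  constructor
  · intro h
    have h' := h S'.X₁ (hS'.extClass.comp (Abelian.Ext.mk₀ (𝟙 _)) (add_zero 1))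
    rw [← Abelian.Ext.comp_assoc (a₁ := 0) (a₂ := 1) (a₃ := 0) _ _ _ (zero_add 1) (add_zero 1) (by omega),
      ← hS.extClass_naturality hS' φ,
      Abelian.Ext.comp_assoc (a₁ := 1) (a₂ := 0) (a₃ := 0) _ _ _ (add_zero 1) (zero_add 0) (by omega),
      Abelian.Ext.mk₀_comp_mk₀, Category.comp_id] at h'
    obtain ⟨y, hy⟩ := Abelian.Ext.contravariant_sequence_exact₁ hS S'.X₁ _ _ h'
    refine ⟨Abelian.Ext.homEquiv₀ y, (Abelian.Ext.homEquiv₀ (X := S.X₁) (Y := S'.X₁)).symm.injective ?_⟩
    show Abelian.Ext.mk₀ _ = Abelian.Ext.mk₀ _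
    rw [← Abelian.Ext.mk₀_comp_mk₀, Abelian.Ext.mk₀_homEquiv₀_apply, hy]
  · rintro ⟨r, hr⟩ N x
    obtain ⟨y, hy⟩ := Abelian.Ext.contravariant_sequence_exact₃ hS' N x (Abelian.Ext.eq_zero_of_projective _)
      (add_zero 1)
    rw [← hy, ← Abelian.Ext.comp_assoc (a₁ := 0) (a₂ := 1) (a₃ := 0) _ _ _ (zero_add 1) (add_zero 1) (by omega),
      ← hS.extClass_naturality hS' φ, ← hr, ← Abelian.Ext.mk₀_comp_mk₀,
      ← Abelian.Ext.comp_assoc (a₁ := 1) (a₂ := 0) (a₃ := 0) _ _ _ (add_zero 1) (zero_add 0) (by omega),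
      hS.extClass_comp, Abelian.Ext.zero_comp, Abelian.Ext.zero_comp]

/-- A presentation of a map. -/
theorem exists_pres (M M' : ModuleCat.{u} A) [Module.Finite A M] (f : M ⟶ M') :
    ∃ (n : ℕ) (K K' P' : ModuleCat.{u} A) (_ : Module.Finite A K) (_ : Projective P') (i : K ⟶ ModuleCat.of A (Fin n → A))
      (p : ModuleCat.of A (Fin n → A) ⟶ M) (w : i ≫ p = 0) (i' : K' ⟶ P') (p' : P' ⟶ M') (w' : i' ≫ p' = 0)
      (g : ModuleCat.of A (Fin n → A) ⟶ P') (f' : K ⟶ K'), (ShortComplex.mk i p w).ShortExact ∧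
        (ShortComplex.mk i' p' w').ShortExact ∧ f' ≫ i' = i ≫ g ∧ g ≫ p' = p ≫ f := by
  obtain ⟨n, p₀, hp⟩ := Module.Finite.exists_fin' A M
  let P := ModuleCat.of A (Fin n → A)
  let p : P ⟶ M := ModuleCat.ofHom p₀
  let P' := ModuleCat.of A (M' →₀ A)
  let p' : P' ⟶ M' := ModuleCat.ofHom (Finsupp.linearCombination A (id : M' → M'))
  haveI : Epi p := (ModuleCat.epi_iff_surjective p).2 hp
  haveI : Epi p' := (ModuleCat.epi_iff_surjective p').2 fun a => ⟨Finsupp.single a 1, (Finsupp.linearCombination_single A 1 a).trans (one_smul A _)⟩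
  haveI : Projective P' := ModuleCat.projective_of_free Finsupp.basisSingleOne
  haveI : Projective P := ModuleCat.projective_of_free (Pi.basisFun A (Fin n))
  haveI : IsNoetherian A P := inferInstanceAs (IsNoetherian A (Fin n → A))
  have hK : Module.Finite A (kernel p : ModuleCat.{u} A) := Module.Finite.of_injective (kernel.ι p).hom
    ((ModuleCat.mono_iff_injective _).1 inferInstance)
  exact ⟨n, kernel p, kernel p', P', hK, inferInstance, kernel.ι p, p, kernel.condition p, kernel.ι p', p',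
    kernel.condition p', Projective.factorThru (p ≫ f) p',
    kernel.lift p' (kernel.ι p ≫ Projective.factorThru (p ≫ f) p') (by
      rw [Category.assoc, Projective.factorThru_comp, ← Category.assoc, kernel.condition, zero_comp]),
    { exact := ShortComplex.exact_kernel p }, { exact := ShortComplex.exact_kernel p' },
    kernel.lift_ι _ _ _, Projective.factorThru_comp _ _⟩

/-- The comparison. -/
theorem e_iff_z : ∀ (e : ℕ) (M M' : ModuleCat.{u} A) [Module.Finite A M] (f : M ⟶ M'),
    E e f ↔ ∀ N : ModuleCat.{u} A, Z (ofRes (projectiveResolution N)) e f.hom := by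
  intro e
  induction e with
  | zero =>
    intro M M' _ f
    obtain ⟨n, K, K', P', _, _, i, p, w, i', p', w', g, f', hS, hS', h1, h2⟩ := exists_pres M M' f
    haveI : Projective (ModuleCat.of A (Fin n → A)) := ModuleCat.projective_of_free (Pi.basisFun A (Fin n))
    haveI : Module.Projective A P' := (IsProjective.iff_projective _).2 ‹_›
    let φ : ShortComplex.mk i p w ⟶ ShortComplex.mk i' p' w' := ShortComplex.homMk f' g f h1 h2
    have hex := (ShortComplex.ShortExact.moduleCat_exact_iff_function_exact _).1 hS.exact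
    have hex' := (ShortComplex.ShortExact.moduleCat_exact_iff_function_exact _).1 hS'.exact
    have hp := (ModuleCat.epi_iff_surjective p).1 hS.epi_g
    have hp' := (ModuleCat.epi_iff_surjective p').1 hS'.epi_g
    have hi' := (ModuleCat.mono_iff_injective i').1 hS'.mono_f
    refine (ext_zero hS hS' φ).trans ⟨?_, fun h => ?_⟩
    · rintro ⟨r, hr⟩ N
      exact z_zero_of_factor (f' := f'.hom) (g := g.hom) _ hex hp hex' hp' (congrArg ModuleCat.Hom.hom h1)
        (congrArg ModuleCat.Hom.hom h2) r.hom (congrArg ModuleCat.Hom.hom hr)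
    · obtain ⟨r, hr⟩ := exists_factor i.hom f'.hom fun N _ _ k hk => by
        let R := projectiveResolution (ModuleCat.of A N)
        exact rTensor_eq_zero_of_z (f' := f'.hom) (g := g.hom) (ofRes R) (R.π.f 0).hom
          ((ModuleCat.epi_iff_surjective (R.π.f 0)).1 inferInstance)
          ((ShortComplex.ShortExact.moduleCat_exact_iff_function_exact _).1
            (ShortComplex.exact_of_g_is_cokernel (ShortComplex.mk _ _ R.complex_d_comp_π_f_zero) R.isColimitCokernelCofork))
          (h (ModuleCat.of A N)) hex hp hi' hex' hp' (congrArg ModuleCat.Hom.hom h1)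
          (congrArg ModuleCat.Hom.hom h2) k hk
      exact ⟨ModuleCat.ofHom r, ModuleCat.hom_ext hr⟩
  | succ e ih =>
    intro M M' _ f
    obtain ⟨n, K, K', P', _, _, i, p, w, i', p', w', g, f', hS, hS', h1, h2⟩ := exists_pres M M' f
    haveI : Projective (ModuleCat.of A (Fin n → A)) := ModuleCat.projective_of_free (Pi.basisFun A (Fin n))
    haveI : Module.Projective A P' := (IsProjective.iff_projective _).2 ‹_›
    let φ : ShortComplex.mk i p w ⟶ ShortComplex.mk i' p' w' := ShortComplex.homMk f' g f h1 h2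
    rw [show E (e + 1) f ↔ E e f' from ext_shift (M := M) (M' := M') hS hS' φ e, ih K K' f']
    exact forall_congr' fun N => (z_succ_iff _ e ((ModuleCat.mono_iff_injective i).1 hS.mono_f)
      ((ShortComplex.ShortExact.moduleCat_exact_iff_function_exact _).1 hS.exact) ((ModuleCat.epi_iff_surjective p).1 hS.epi_g)
      ((ModuleCat.mono_iff_injective i').1 hS'.mono_f)
      ((ShortComplex.ShortExact.moduleCat_exact_iff_function_exact _).1 hS'.exact) ((ModuleCat.epi_iff_surjective p').1 hS'.epi_g)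
      (congrArg ModuleCat.Hom.hom h1) (congrArg ModuleCat.Hom.hom h2)).symm

end ext

/-- The map on `Tor` is zero iff it kills cycles modulo boundaries. -/
theorem tor_map_eq_zero_iff {M M' : ModuleCat.{u} A} (f : M ⟶ M') (N : ModuleCat.{u} A) (e : ℕ) :
    ((CategoryTheory.Tor (ModuleCat.{u} A) (e + 1)).map f).app N = 0 ↔
      Z (ofRes (projectiveResolution N)) e f.hom := by
  let R := projectiveResolution N
  let α := (MonoidalCategory.tensoringLeft (ModuleCat.{u} A)).map f
  let φ := (NatTrans.mapHomologicalComplex α (ComplexShape.down ℕ)).app R.complex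
  have h : ((CategoryTheory.Tor (ModuleCat.{u} A) (e + 1)).map f).app N = 0 ↔
      HomologicalComplex.homologyMap φ (e + 1) = 0 := by
    show (NatTrans.leftDerived α (e + 1)).app N = 0 ↔ _
    rw [ProjectiveResolution.leftDerived_app_eq α R (e + 1), Preadditive.IsIso.comp_left_eq_zero,
      Preadditive.IsIso.comp_right_eq_zero]
    rfl
  rw [h]
  let C := ((((MonoidalCategory.tensoringLeft (ModuleCat.{u} A)).obj M)).mapHomologicalComplex (ComplexShape.down ℕ)).obj R.complex
  let C' := ((((MonoidalCategory.tensoringLeft (ModuleCat.{u} A)).obj M')).mapHomologicalComplex (ComplexShape.down ℕ)).obj R.complex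
  constructor
  · intro h0 y hy
    obtain ⟨c, hc⟩ : ∃ c, (C.iCycles (e + 1)).hom c = y := by
      refine ⟨(C.liftCycles (ModuleCat.ofHom (LinearMap.toSpanSingleton A _ y)) e (by simp) (by
        ext; simp only [ModuleCat.hom_comp, LinearMap.comp_apply]; exact (congrArg _ (one_smul A y)).trans hy)).hom 1, ?_⟩
      rw [← ConcreteCategory.comp_apply]
      erw [HomologicalComplex.liftCycles_i]
      exact one_smul A y
    have e1 := congrArg (fun ψ => ψ.hom c) (HomologicalComplex.homologyπ_naturality φ (e + 1))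
    rw [h0, comp_zero] at e1
    obtain ⟨w, hw⟩ := ((ShortComplex.ShortExact.moduleCat_exact_iff_function_exact _).1
      (ShortComplex.exact_of_g_is_cokernel (ShortComplex.mk _ _ (C'.toCycles_comp_homologyπ (e + 2) (e + 1)))
        (C'.homologyIsCokernel (e + 2) (e + 1) (by simp))) ((HomologicalComplex.cyclesMap φ (e + 1)).hom c)).1 e1.symm
    refine ⟨w, ?_⟩
    have e2 := congrArg (fun ψ => ψ.hom w) (C'.toCycles_i (e + 2) (e + 1))
    have e3 := congrArg (fun ψ => ψ.hom c) (HomologicalComplex.cyclesMap_i φ (e + 1))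
    refine e2.symm.trans ((congrArg (C'.iCycles (e + 1)).hom hw).trans (e3.trans ?_))
    exact congrArg (φ.f (e + 1)).hom hc
  · intro hZ
    rw [← cancel_epi (C.homologyπ (e + 1)), comp_zero]
    ext c
    obtain ⟨w, hw⟩ := hZ ((C.iCycles (e + 1)).hom c) (congrArg (fun ψ => ψ.hom c) (C.iCycles_d (e + 1) e))
    have hcw : (C'.toCycles (e + 2) (e + 1)).hom w = (HomologicalComplex.cyclesMap φ (e + 1)).hom c := by
      refine (ModuleCat.mono_iff_injective (C'.iCycles (e + 1))).1 inferInstance ?_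
      refine (congrArg (fun ψ => ψ.hom w) (C'.toCycles_i (e + 2) (e + 1))).trans (hw.trans ?_)
      exact (congrArg (fun ψ => ψ.hom c) (HomologicalComplex.cyclesMap_i φ (e + 1))).symm
    refine (congrArg (fun ψ => ψ.hom c) (HomologicalComplex.homologyπ_naturality φ (e + 1))).trans ?_
    show (C'.homologyπ (e + 1)).hom ((HomologicalComplex.cyclesMap φ (e + 1)).hom c) = 0
    rw [← hcw]
    exact congrArg (fun ψ => ψ.hom w) (C'.toCycles_comp_homologyπ (e + 2) (e + 1))

end Groth.Agent.CAlgH3.TorExtMap
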