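import Groth.Prelude.Def_DRing2
import Mathlib.RingTheory.Flat.Basic
import Mathlib.CategoryTheory.Abelian.LeftDerived
import Mathlib.Algebra.Homology.ShortComplex.ModuleCat
import Mathlib.LinearAlgebra.TensorProduct.RightExactness

/-! Elements killing the homology of `S ⊗ P` for a complex of flat modules `P`. -/

set_option autoImplicit false
set_option backward.isDefEq.respectTransparency false
universe u

open TensorProduct CategoryTheory CategoryTheory.Limits

namespace Groth.Agent.CAlgH3.TorKill

variable {A : Type u} [CommRing A]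

/-- A chain of flat modules, exact in positive degrees. -/
structure Ch (A : Type u) [CommRing A] where
  X : ℕ → Type u
  [acg : ∀ n, AddCommGroup (X n)]
  [mod : ∀ n, Module A (X n)]
  [flat : ∀ n, Module.Flat A (X n)]
  d : ∀ n, X (n + 1) →ₗ[A] X n
  exact : ∀ n, Function.Exact (d (n + 1)) (d n)

attribute [instance] Ch.acg Ch.mod Ch.flat

/-- `a` kills the `n+1`-st homology of `S ⊗ P`. -/
def Kill (P : Ch A) (a : A) (n : ℕ) (S : Type u) [AddCommGroup S] [Module A S] : Prop :=
  ∀ y : S ⊗[A] P.X (n + 1), (P.d n).lTensor S y = 0 → ∃ w, (P.d (n + 1)).lTensor S w = a • y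

variable {P : Ch A} {n : ℕ} {S S' S'' : Type u} [AddCommGroup S] [Module A S] [AddCommGroup S'] [Module A S']
  [AddCommGroup S''] [Module A S'']

theorem lTensor_comm {M N : Type u} [AddCommGroup M] [Module A M] [AddCommGroup N] [Module A N]
    (φ : M →ₗ[A] N) (f : S →ₗ[A] S') (y : S ⊗[A] M) :
    φ.lTensor S' (f.rTensor M y) = f.rTensor N (φ.lTensor S y) := by
  rw [← LinearMap.comp_apply, ← LinearMap.comp_apply, LinearMap.lTensor_comp_rTensor, LinearMap.rTensor_comp_lTensor]

theorem kill_of_flat [Module.Flat A S] (a : A) : Kill P a n S := fun y hy => by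
  obtain ⟨w, hw⟩ := ((Module.Flat.lTensor_exact S (P.exact n)) y).1 hy
  exact ⟨a • w, by rw [map_smul, hw]⟩

theorem kill_of_smul_eq_zero (a : A) (h : ∀ s : S, a • s = 0) : Kill P a n S := fun y hy => by
  refine ⟨0, ?_⟩
  rw [map_zero]
  symm
  clear hy
  induction y using TensorProduct.induction_on with
  | zero => exact smul_zero a
  | tmul s p => rw [TensorProduct.smul_tmul', h, TensorProduct.zero_tmul]
  | add y z hy hz => rw [smul_add, hy, hz, add_zero]

/-- Quotient: from the middle and, one degree below, the sub. -/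
theorem kill_quotient {a b : A} (f : S' →ₗ[A] S) (g : S →ₗ[A] S'') (hf : Function.Injective f)
    (hfg : Function.Exact f g) (hg : Function.Surjective g) (hS : Kill P b (n + 1) S) (hS' : Kill P a n S') :
    Kill P (b * a) (n + 1) S'' := fun y hy => by
  obtain ⟨y₁, rfl⟩ := LinearMap.rTensor_surjective _ hg y
  rw [lTensor_comm] at hy
  obtain ⟨z, hz⟩ := ((rTensor_exact _ hfg hg) ((P.d (n + 1)).lTensor S y₁)).1 hy
  have hz0 : (P.d n).lTensor S' z = 0 := by
    refine Module.Flat.rTensor_preserves_injective_linearMap f hf ?_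
    rw [map_zero, ← lTensor_comm, hz, ← LinearMap.comp_apply, ← LinearMap.lTensor_comp,
      (P.exact n).linearMap_comp_eq_zero, LinearMap.lTensor_zero, LinearMap.zero_apply]
  obtain ⟨w, hw⟩ := hS' z hz0
  obtain ⟨v, hv⟩ := hS (a • y₁ - f.rTensor _ w) (by
    rw [map_sub, map_smul, lTensor_comm, hw, map_smul, ← hz, sub_self])
  refine ⟨g.rTensor _ v, ?_⟩
  rw [lTensor_comm, hv, smul_sub, map_sub, map_smul, map_smul, map_smul,
    ((rTensor_exact _ hfg hg)).apply_apply_eq_zero, smul_zero, sub_zero, mul_smul]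

/-- Factorisation. -/
theorem Kill.map {a : A} (h : Kill P a n S) (f : S →ₗ[A] S') (y : S ⊗[A] P.X (n + 1))
    (hy : (P.d n).lTensor S y = 0) : ∃ w, (P.d (n + 1)).lTensor S' w = a • f.rTensor _ y := by
  obtain ⟨w, hw⟩ := h y hy
  exact ⟨f.rTensor _ w, by rw [lTensor_comm, hw, map_smul]⟩

theorem Kill.of_equiv {a : A} (h : Kill P a n S) (e : S ≃ₗ[A] S') : Kill P a n S' := fun y hy => by
  obtain ⟨w, hw⟩ := h.map e.toLinearMap (e.symm.toLinearMap.rTensor _ y) (by rw [lTensor_comm, hy, map_zero])
  refine ⟨w, hw.trans ?_⟩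
  rw [← LinearMap.comp_apply, ← LinearMap.rTensor_comp, LinearEquiv.comp_symm, LinearMap.rTensor_id,
    LinearMap.id_apply]

theorem Kill.dvd {a b : A} (h : Kill P a n S) (hab : a ∣ b) : Kill P b n S := fun y hy => by
  obtain ⟨c, rfl⟩ := hab
  obtain ⟨w, hw⟩ := h y hy
  exact ⟨c • w, by rw [map_smul, hw, smul_smul, mul_comm]⟩

/-- A projective resolution as a chain. -/
noncomputable def ofRes {N : ModuleCat.{u} A} (R : ProjectiveResolution N) : Ch A :=
  haveI : ∀ m, Module.Flat A (R.complex.X m) := fun m => by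
    have : Module.Projective A (R.complex.X m) := (IsProjective.iff_projective _).2 (R.projective m)
    infer_instance
  { X := fun m => R.complex.X m
    d := fun m => (R.complex.d (m + 1) m).hom
    exact := fun m => (ShortComplex.ShortExact.moduleCat_exact_iff_function_exact _).1 (R.exact_succ m) }

/-- `x` kills a `Tor` as soon as it kills cycles modulo boundaries. -/
theorem smul_tor_eq_zero (x : A) (S : Type u) [AddCommGroup S] [Module A S] (M : Type u) [AddCommGroup M]
    [Module A M] (n : ℕ)
    (h : Kill (ofRes (projectiveResolution (ModuleCat.of A M))) x n S) (y : DRing.Tor A (n + 1) S M) :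
    x • y = 0 := by
  let R := projectiveResolution (ModuleCat.of A M)
  let F := (MonoidalCategory.tensoringLeft (ModuleCat.{u} A)).obj (ModuleCat.of A S)
  let C := (F.mapHomologicalComplex (ComplexShape.down ℕ)).obj R.complex
  let e : DRing.Tor A (n + 1) S M ≃ₗ[A] C.homology (n + 1) := (R.isoLeftDerivedObj F (n + 1)).toLinearEquiv
  refine e.injective ?_
  rw [map_smul, map_zero]
  obtain ⟨c, hc⟩ := (ModuleCat.epi_iff_surjective (C.homologyπ (n + 1))).1 inferInstance (e y)
  obtain ⟨w, hw⟩ := h ((C.iCycles (n + 1)).hom c) (congrArg (fun φ => φ.hom c) (C.iCycles_d (n + 1) n))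
  have hcw : (C.toCycles (n + 2) (n + 1)).hom w = x • c := by
    refine (ModuleCat.mono_iff_injective (C.iCycles (n + 1))).1 inferInstance ?_
    refine (congrArg (fun φ => φ.hom w) (C.toCycles_i (n + 2) (n + 1))).trans ?_
    rw [map_smul]
    exact hw
  rw [← hc, ← map_smul, ← hcw]
  exact congrArg (fun φ => φ.hom w) (C.toCycles_comp_homologyπ (n + 2) (n + 1))

end Groth.Agent.CAlgH3.TorKill
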