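import Mathlib.CategoryTheory.Monoidal.Tor
import Mathlib.Algebra.Category.ModuleCat.Projective
import Mathlib.Algebra.Category.ModuleCat.Monoidal.Symmetric
import Mathlib.Algebra.Category.ModuleCat.Abelian
import Mathlib.Algebra.Homology.ShortComplex.ModuleCat
import Mathlib.LinearAlgebra.TensorProduct.Quotient
import Mathlib.LinearAlgebra.TensorProduct.RightExactness
import Mathlib.RingTheory.Flat.Basic
import Mathlib.RingTheory.Filtration
import Mathlib.CategoryTheory.Abelian.Projective.Resolution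

/-! The maps `Tor_i(M, R/I^n) → Tor_i(M, R/I^(n-c))` vanish for `M` killed by a fixed power of `I`. -/

set_option autoImplicit false
set_option backward.isDefEq.respectTransparency.types false
universe u

open CategoryTheory CategoryTheory.Limits TensorProduct Function

namespace Groth.Agent.CAlgH3.TorProZero

variable {R : Type u} [CommRing R] (I : Ideal R)

/-- the quotient by a power, as an object -/
abbrev Obj (n : ℕ) : ModuleCat.{u} R := ModuleCat.of R (R ⧸ I ^ n)

/-- the transition map -/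
noncomputable abbrev tr (n n' : ℕ) (h : n' ≤ n) : Obj I n ⟶ Obj I n' :=
  ModuleCat.ofHom (Submodule.mapQ (I ^ n) (I ^ n') LinearMap.id (Ideal.pow_le_pow_right h))

/-- the chosen resolution -/
noncomputable abbrev Res (n : ℕ) : ProjectiveResolution (Obj I n) := projectiveResolution _

/-- terms of the chosen resolution -/
noncomputable abbrev T (n j : ℕ) : Type u := (Res I n).complex.X j

/-- its differential -/
noncomputable abbrev d (n i j : ℕ) : T I n i →ₗ[R] T I n j := ((Res I n).complex.d i j).hom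

/-- its augmentation -/
noncomputable abbrev aug (n : ℕ) : T I n 0 →ₗ[R] (R ⧸ I ^ n) := ((Res I n).π.f 0).hom

/-- chain maps over the transition maps -/
structure Over (n n' : ℕ) where
  le : n' ≤ n
  map : (Res I n).complex ⟶ (Res I n').complex
  comm : map.f 0 ≫ (Res I n').π.f 0 = (Res I n).π.f 0 ≫ tr I n n' le

/-- the lift -/
noncomputable def Over.mk' {n n' : ℕ} (h : n' ≤ n) : Over I n n' :=
  ⟨h, ProjectiveResolution.lift (tr I n n' h) _ _, ProjectiveResolution.lift_commutes_zero _ _ _⟩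

variable {I}

/-- components -/
noncomputable abbrev Over.app {n n' : ℕ} (φ : Over I n n') (j : ℕ) : T I n j →ₗ[R] T I n' j := (φ.map.f j).hom

theorem Over.aug_app {n n' : ℕ} (φ : Over I n n') (x : T I n 0) :
    aug I n' (φ.app 0 x) = (tr I n n' φ.le).hom (aug I n x) :=
  congrArg (fun g => g.hom x) φ.comm

theorem Over.app_d {n n' : ℕ} (φ : Over I n n') (i j : ℕ) :
    d I n' i j ∘ₗ φ.app i = φ.app j ∘ₗ d I n i j :=
  congrArg ModuleCat.Hom.hom (φ.map.comm i j)

/-- composition -/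
noncomputable def Over.comp {a b c : ℕ} (φ : Over I a b) (ψ : Over I b c) : Over I a c where
  le := ψ.le.trans φ.le
  map := φ.map ≫ ψ.map
  comm := by
    refine ModuleCat.hom_ext (LinearMap.ext fun x => ?_)
    show aug I c (ψ.app 0 (φ.app 0 x)) = (tr I a c (ψ.le.trans φ.le)).hom (aug I a x)
    rw [ψ.aug_app, φ.aug_app]
    obtain ⟨r, hr⟩ := Submodule.Quotient.mk_surjective _ (aug I a x)
    rw [← hr]
    rfl

theorem Over.comp_app {a b c : ℕ} (φ : Over I a b) (ψ : Over I b c) (j : ℕ) :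
    (φ.comp ψ).app j = ψ.app j ∘ₗ φ.app j := rfl

theorem aug_surjective (n : ℕ) : Surjective (aug I n) :=
  (ModuleCat.epi_iff_surjective ((Res I n).π.f 0)).1 inferInstance

theorem exact_aug (n : ℕ) : Exact (d I n 1 0) (aug I n) :=
  LinearMap.exact_iff.2 (ShortComplex.exact_of_g_is_cokernel (ShortComplex.mk _ _ (Res I n).complex_d_comp_π_f_zero)
    (Res I n).isColimitCokernelCofork).moduleCat_range_eq_ker.symm

theorem exact_d (n j : ℕ) : Exact (d I n (j + 2) (j + 1)) (d I n (j + 1) j) :=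
  LinearMap.exact_iff.2 ((Res I n).exact_succ j).moduleCat_range_eq_ker.symm

theorem d_comp_d (n j : ℕ) : d I n (j + 1) j ∘ₗ d I n (j + 2) (j + 1) = 0 :=
  congrArg ModuleCat.Hom.hom ((Res I n).complex.d_comp_d _ _ _)

instance projective_T (n j : ℕ) : Module.Projective R (T I n j) := by
  have := (Res I n).projective j
  exact (IsProjective.iff_projective ((Res I n).complex.X j)).2 this

variable [IsNoetherianRing R]

theorem exists_shift_one {L : Type u} [AddCommGroup L] [Module R L] (F : Type u) [AddCommGroup F] [Module R F]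
    [Module.Finite R F] [Module.Flat R F] (q : F →ₗ[R] L) (hq : Surjective q) :
    ∃ c, ∀ (n n' : ℕ) (φ : Over I n n'), n' + c ≤ n → ∀ z : L ⊗[R] T I n 1, (d I n 1 0).lTensor L z = 0 →
      ∃ y, (d I n' 2 1).lTensor L y = (φ.app 1).lTensor L z := by
  let K := LinearMap.ker q
  obtain ⟨c, hc⟩ := I.exists_pow_inf_eq_pow_smul K
  refine ⟨c, fun n n' φ hn z hz => ?_⟩
  obtain ⟨z', rfl⟩ := LinearMap.rTensor_surjective (T I n 1) hq z
  obtain ⟨w, hw⟩ := (rTensor_exact (T I n 0) (LinearMap.exact_subtype_ker_map q) hq ((d I n 1 0).lTensor F z')).1 (by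
    rw [← LinearMap.comp_apply, LinearMap.rTensor_comp_lTensor, ← LinearMap.lTensor_comp_rTensor]; exact hz)
  have h1 : K.subtype.rTensor _ ((aug I n).lTensor K w) = 0 := by
    rw [← LinearMap.comp_apply, LinearMap.rTensor_comp_lTensor, ← LinearMap.lTensor_comp_rTensor,
      LinearMap.comp_apply, hw, ← LinearMap.comp_apply, ← LinearMap.lTensor_comp, (exact_aug n).linearMap_comp_eq_zero,
      LinearMap.lTensor_zero, LinearMap.zero_apply]
  obtain ⟨k, hk⟩ : ∃ k : K, (aug I n).lTensor K w = k ⊗ₜ Ideal.Quotient.mk _ 1 := by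
    induction (aug I n).lTensor K w using TensorProduct.induction_on with
    | zero => exact ⟨0, (zero_tmul _ _).symm⟩
    | tmul a b =>
      obtain ⟨r, rfl⟩ := Ideal.Quotient.mk_surjective b
      refine ⟨r • a, ?_⟩
      rw [smul_tmul]
      congr 1
      show Submodule.Quotient.mk r = r • Submodule.Quotient.mk (1 : R)
      rw [← Submodule.Quotient.mk_smul, smul_eq_mul, mul_one]
    | add a b ha hb =>
      obtain ⟨x, rfl⟩ := ha
      obtain ⟨y, rfl⟩ := hb
      exact ⟨x + y, (add_tmul _ _ _).symm⟩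
  rw [hk, LinearMap.rTensor_tmul] at h1
  have h2 : (k : F) ∈ I ^ n • (⊤ : Submodule R F) := by
    have h3 := congrArg (TensorProduct.tensorQuotEquivQuotSMul F (I ^ n)) h1
    rw [map_zero, TensorProduct.tensorQuotEquivQuotSMul_tmul_mk, one_smul] at h3
    exact (Submodule.Quotient.mk_eq_zero _).1 h3
  have h4 : (k : F) ∈ I ^ n' • K := by
    have hmem : (k : F) ∈ I ^ n • (⊤ : Submodule R F) ⊓ K := ⟨h2, k.2⟩
    rw [hc n (by omega)] at hmem
    exact Submodule.smul_mono (Ideal.pow_le_pow_right (by omega)) inf_le_right hmem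
  have h5 : k ⊗ₜ[R] Ideal.Quotient.mk (I ^ n') 1 = 0 := by
    have : ∀ x, x ∈ I ^ n' • K → ∃ e : x ∈ K, (⟨x, e⟩ : K) ⊗ₜ[R] Ideal.Quotient.mk (I ^ n') 1 = 0 := by
      intro x hx
      induction hx using Submodule.smul_induction_on' with
      | smul a ha x hx =>
        refine ⟨K.smul_mem a hx, ?_⟩
        show (a • (⟨x, hx⟩ : K)) ⊗ₜ[R] _ = 0
        rw [smul_tmul]
        refine (congrArg (fun t => (⟨x, hx⟩ : K) ⊗ₜ[R] t) ?_).trans (tmul_zero _ _)
        rw [Algebra.smul_def, map_one, mul_one]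
        exact Ideal.Quotient.eq_zero_iff_mem.2 ha
      | add x _ y _ hx hy =>
        obtain ⟨ex, hx⟩ := hx
        obtain ⟨ey, hy⟩ := hy
        exact ⟨K.add_mem ex ey, (add_tmul (⟨x, ex⟩ : K) ⟨y, ey⟩ _).trans (by rw [hx, hy, add_zero])⟩
    exact (this _ h4).2
  have h6 : (aug I n').lTensor K ((φ.app 0).lTensor K w) = 0 := by
    have : aug I n' ∘ₗ φ.app 0 = (tr I n n' φ.le).hom ∘ₗ aug I n := LinearMap.ext φ.aug_app
    rw [← LinearMap.comp_apply, ← LinearMap.lTensor_comp, this, LinearMap.lTensor_comp, LinearMap.comp_apply, hk,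
      LinearMap.lTensor_tmul]
    exact h5
  obtain ⟨v, hv⟩ := (lTensor_exact (f := d I n' 1 0) (g := aug I n') K (exact_aug n') (aug_surjective n') _).1 h6
  have h7 : (d I n' 1 0).lTensor F ((φ.app 1).lTensor F z' - K.subtype.rTensor _ v) = 0 := by
    rw [map_sub, ← LinearMap.comp_apply, ← LinearMap.lTensor_comp, φ.app_d, LinearMap.lTensor_comp,
      LinearMap.comp_apply, ← hw, ← LinearMap.comp_apply (LinearMap.lTensor F _), LinearMap.lTensor_comp_rTensor,
      ← LinearMap.rTensor_comp_lTensor, ← LinearMap.comp_apply (LinearMap.lTensor F _) (LinearMap.rTensor _ _),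
      LinearMap.lTensor_comp_rTensor, ← LinearMap.rTensor_comp_lTensor, LinearMap.comp_apply, LinearMap.comp_apply,
      hv, sub_self]
  obtain ⟨y, hy⟩ := (Module.Flat.lTensor_exact F (exact_d n' 0) _).1 h7
  refine ⟨q.rTensor _ y, ?_⟩
  rw [← LinearMap.comp_apply, LinearMap.lTensor_comp_rTensor, ← LinearMap.rTensor_comp_lTensor, LinearMap.comp_apply,
    hy, map_sub, ← LinearMap.comp_apply (q.rTensor _) (LinearMap.lTensor F _), LinearMap.rTensor_comp_lTensor,
    ← LinearMap.lTensor_comp_rTensor, LinearMap.comp_apply, ← LinearMap.comp_apply (q.rTensor _) (K.subtype.rTensor _),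
    ← LinearMap.rTensor_comp, (LinearMap.exact_subtype_ker_map q).linearMap_comp_eq_zero, LinearMap.rTensor_zero,
    LinearMap.zero_apply, sub_zero]

theorem exists_shift : ∀ (j : ℕ) (L : Type u) [AddCommGroup L] [Module R L] [Module.Finite R L],
    ∃ c, ∀ (n n' : ℕ) (φ : Over I n n'), n' + c ≤ n → ∀ z : L ⊗[R] T I n (j + 1), (d I n (j + 1) j).lTensor L z = 0 →
      ∃ y, (d I n' (j + 2) (j + 1)).lTensor L y = (φ.app (j + 1)).lTensor L z := by
  intro j
  induction j with
  | zero =>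
    intro L _ _ _
    obtain ⟨N, q, hq⟩ := Module.Finite.exists_fin' R L
    exact exists_shift_one (Fin N → R) q hq
  | succ j ih =>
    intro L _ _ _
    obtain ⟨N, q, hq⟩ := Module.Finite.exists_fin' R L
    haveI : Module.Finite R (LinearMap.ker q) := Module.Finite.iff_fg.2 (IsNoetherian.noetherian _)
    obtain ⟨c, hc⟩ := ih (LinearMap.ker q)
    refine ⟨c, fun n n' φ hn z hz => ?_⟩
    obtain ⟨z', rfl⟩ := LinearMap.rTensor_surjective _ hq z
    obtain ⟨w, hw⟩ := (rTensor_exact (T I n (j + 1)) (LinearMap.exact_subtype_ker_map q) hq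
      ((d I n (j + 2) (j + 1)).lTensor (Fin N → R) z')).1 (by
      rw [← LinearMap.comp_apply, LinearMap.rTensor_comp_lTensor, ← LinearMap.lTensor_comp_rTensor]; exact hz)
    have hinj : Injective ((LinearMap.ker q).subtype.rTensor (T I n j)) :=
      Module.Flat.rTensor_preserves_injective_linearMap _ Subtype.val_injective
    obtain ⟨v, hv⟩ := hc n n' φ hn w (hinj (by
      rw [map_zero, ← LinearMap.comp_apply, LinearMap.rTensor_comp_lTensor, ← LinearMap.lTensor_comp_rTensor,
        LinearMap.comp_apply, hw, ← LinearMap.comp_apply, ← LinearMap.lTensor_comp, d_comp_d,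
        LinearMap.lTensor_zero, LinearMap.zero_apply]))
    have h7 : (d I n' (j + 2) (j + 1)).lTensor (Fin N → R)
        ((φ.app (j + 2)).lTensor _ z' - (LinearMap.ker q).subtype.rTensor _ v) = 0 := by
      rw [map_sub, ← LinearMap.comp_apply, ← LinearMap.lTensor_comp, φ.app_d, LinearMap.lTensor_comp,
        LinearMap.comp_apply, ← hw, ← LinearMap.comp_apply (LinearMap.lTensor _ _), LinearMap.lTensor_comp_rTensor,
        ← LinearMap.rTensor_comp_lTensor, ← LinearMap.comp_apply (LinearMap.lTensor _ _) (LinearMap.rTensor _ _),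
        LinearMap.lTensor_comp_rTensor, ← LinearMap.rTensor_comp_lTensor, LinearMap.comp_apply, LinearMap.comp_apply,
        hv, sub_self]
    obtain ⟨y, hy⟩ := (Module.Flat.lTensor_exact (Fin N → R) (exact_d n' (j + 1)) _).1 h7
    refine ⟨q.rTensor _ y, ?_⟩
    rw [← LinearMap.comp_apply, LinearMap.lTensor_comp_rTensor, ← LinearMap.rTensor_comp_lTensor, LinearMap.comp_apply,
      hy, map_sub, ← LinearMap.comp_apply (q.rTensor _) (LinearMap.lTensor _ _), LinearMap.rTensor_comp_lTensor,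
      ← LinearMap.lTensor_comp_rTensor, LinearMap.comp_apply,
      ← LinearMap.comp_apply (q.rTensor _) ((LinearMap.ker q).subtype.rTensor _),
      ← LinearMap.rTensor_comp, (LinearMap.exact_subtype_ker_map q).linearMap_comp_eq_zero, LinearMap.rTensor_zero,
      LinearMap.zero_apply, sub_zero]

variable (m : ℕ)

/-- `I^m` times a term -/
noncomputable abbrev S (n j : ℕ) : Submodule R (T I n j) := I ^ m • ⊤

omit [IsNoetherianRing R] in
theorem map_mem {n n' i j : ℕ} (f : T I n i →ₗ[R] T I n' j) {x : T I n i} (hx : x ∈ S m n i) : f x ∈ S m n' j := by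
  have := Submodule.mem_map_of_mem (f := f) hx
  rw [Submodule.map_smul''] at this
  exact Submodule.smul_mono le_rfl le_top this

omit [IsNoetherianRing R] in
theorem mk_tmul_eq_zero_iff {n j : ℕ} (x : T I n j) :
    (Ideal.Quotient.mk (I ^ m) 1) ⊗ₜ[R] x = 0 ↔ x ∈ S m n j := by
  rw [← (TensorProduct.quotTensorEquivQuotSMul (T I n j) (I ^ m)).map_eq_zero_iff]
  have : TensorProduct.quotTensorEquivQuotSMul (T I n j) (I ^ m) (Ideal.Quotient.mk (I ^ m) 1 ⊗ₜ[R] x) =
      Submodule.Quotient.mk x := by simp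
  rw [this, Submodule.Quotient.mk_eq_zero]

theorem exists_shift_mod (j : ℕ) : ∃ c, ∀ (n n' : ℕ) (φ : Over I n n'), n' + c ≤ n → ∀ x : T I n (j + 1),
    d I n (j + 1) j x ∈ S m n j → φ.app (j + 1) x ∈ LinearMap.range (d I n' (j + 2) (j + 1)) ⊔ S m n' (j + 1) := by
  obtain ⟨c, hc⟩ := exists_shift (I := I) j (R ⧸ I ^ m)
  refine ⟨c, fun n n' φ hn x hx => ?_⟩
  obtain ⟨y, hy⟩ := hc n n' φ hn (Ideal.Quotient.mk _ 1 ⊗ₜ x) ((mk_tmul_eq_zero_iff m _).2 hx)
  obtain ⟨y', rfl⟩ : ∃ y', Ideal.Quotient.mk (I ^ m) 1 ⊗ₜ[R] y' = y := by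
    clear hy
    induction y using TensorProduct.induction_on with
    | zero => exact ⟨0, tmul_zero _ _⟩
    | tmul a b =>
      obtain ⟨r, rfl⟩ := Ideal.Quotient.mk_surjective a
      refine ⟨r • b, ?_⟩
      rw [← smul_tmul]
      congr 1
      show r • Submodule.Quotient.mk (1 : R) = Submodule.Quotient.mk r
      rw [← Submodule.Quotient.mk_smul, smul_eq_mul, mul_one]
    | add a b ha hb =>
      obtain ⟨a', rfl⟩ := ha
      obtain ⟨b', rfl⟩ := hb
      exact ⟨a' + b', tmul_add _ _ _⟩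
  rw [LinearMap.lTensor_tmul, LinearMap.lTensor_tmul, eq_comm, ← sub_eq_zero, ← tmul_sub, mk_tmul_eq_zero_iff] at hy
  exact Submodule.mem_sup.2 ⟨_, ⟨y', rfl⟩, _, hy, add_sub_cancel _ _⟩

omit [IsNoetherianRing R] in
theorem exists_lift_mod {n n' i j k : ℕ} (f : T I n i →ₗ[R] T I n' j)
    (hf : ∀ x, f x ∈ LinearMap.range (d I n' k j) ⊔ S m n' j) :
    ∃ h : T I n i →ₗ[R] T I n' k, ∀ x, f x - d I n' k j (h x) ∈ S m n' j := by
  let Φ : (T I n' k × S m n' j) →ₗ[R] ↥(LinearMap.range (d I n' k j) ⊔ S m n' j) :=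
    LinearMap.codRestrict _ ((d I n' k j).coprod (S m n' j).subtype) fun y =>
      Submodule.add_mem_sup ⟨y.1, rfl⟩ y.2.2
  have hΦ : Surjective Φ := fun y => by
    obtain ⟨a, ⟨b, hb⟩, s, hs, e⟩ := Submodule.mem_sup.1 y.2
    exact ⟨(b, ⟨s, hs⟩), Subtype.ext (by simp only [Φ, LinearMap.codRestrict_apply, LinearMap.coprod_apply, hb, Submodule.coe_subtype, e])⟩
  obtain ⟨g, hg⟩ := Module.projective_lifting_property Φ (f.codRestrict _ hf) hΦ
  refine ⟨(LinearMap.fst R _ _).comp g, fun x => ?_⟩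
  have h1 : d I n' k j (g x).1 + ((g x).2 : T I n' j) = f x := congrArg Subtype.val (LinearMap.congr_fun hg x)
  rw [← h1]
  simp

omit [IsNoetherianRing R] in
theorem exists_base : ∃ C, ∀ n n', n' + C ≤ n → ∃ (φ : Over I n n') (h : T I n 0 →ₗ[R] T I n' 1),
    ∀ x : T I n 1, φ.app 0 (d I n 1 0 x) - d I n' 1 0 (h (d I n 1 0 x)) ∈ S m n' 0 := by
  refine ⟨m, fun n n' hn => ?_⟩
  let φ := Over.mk' I (n := n) (n' := n') (by omega)
  obtain ⟨a, ha⟩ := Module.projective_lifting_property (Submodule.mkQ (I ^ m) : R →ₗ[R] R ⧸ I ^ m)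
    ((tr I n m (by omega)).hom ∘ₗ aug I n) (Submodule.mkQ_surjective _)
  obtain ⟨e, he⟩ := aug_surjective n' (Submodule.Quotient.mk (1 : R))
  obtain ⟨h, hh⟩ := exists_lift_mod m (k := 1) (φ.app 0 - a.smulRight e) (fun x => by
    obtain ⟨r, hr⟩ := Submodule.Quotient.mk_surjective _ (aug I n x)
    have h1 : a x - r ∈ I ^ m := by
      have := LinearMap.congr_fun ha x
      simp only [LinearMap.comp_apply, Submodule.mkQ_apply, ← hr] at this
      exact (Submodule.Quotient.eq _).1 this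
    have h2 : aug I n' (φ.app 0 x - r • e) = 0 := by
      rw [map_sub, map_smul, φ.aug_app, ← hr, he, ← Submodule.Quotient.mk_smul, smul_eq_mul, mul_one, sub_eq_zero]
      rfl
    obtain ⟨b, hb⟩ := (exact_aug n' _).1 h2
    refine Submodule.mem_sup.2 ⟨_, ⟨b, rfl⟩, _, Submodule.smul_mem_smul h1 (Submodule.mem_top (x := -e)), ?_⟩
    rw [hb, LinearMap.sub_apply, LinearMap.smulRight_apply, smul_neg, sub_smul]
    abel)
  refine ⟨φ, h, fun x => ?_⟩
  have h1 : a (d I n 1 0 x) ∈ I ^ m := by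
    have := LinearMap.congr_fun ha (d I n 1 0 x)
    simp only [LinearMap.comp_apply, (exact_aug n).apply_apply_eq_zero, map_zero, Submodule.mkQ_apply] at this
    exact (Submodule.Quotient.mk_eq_zero _).1 this
  have h2 := hh (d I n 1 0 x)
  have h3 : a (d I n 1 0 x) • e ∈ S m n' 0 := Submodule.smul_mem_smul h1 Submodule.mem_top
  have := Submodule.add_mem _ h2 h3
  simp only [LinearMap.sub_apply, LinearMap.smulRight_apply] at this
  convert this using 1
  abel

theorem exists_homotopy : ∀ k : ℕ,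
    ∃ C, ∀ n n', n' + C ≤ n → ∃ (φ : Over I n n') (h : T I n k →ₗ[R] T I n' (k + 1)),
      ∀ x : T I n (k + 1), φ.app k (d I n (k + 1) k x) - d I n' (k + 1) k (h (d I n (k + 1) k x)) ∈ S m n' k := by
  intro k
  induction k with
  | zero => exact exists_base m
  | succ k ih =>
    obtain ⟨C, hC⟩ := ih
    obtain ⟨c, hc⟩ := exists_shift_mod (I := I) m k
    refine ⟨C + c, fun n n' hn => ?_⟩
    obtain ⟨φ, h, hφ⟩ := hC n (n' + c) (by omega)
    let ψ := Over.mk' I (n := n' + c) (n' := n') (by omega)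
    obtain ⟨h', hh'⟩ := exists_lift_mod m (k := k + 2) (ψ.app (k + 1) ∘ₗ (φ.app (k + 1) - h ∘ₗ d I n (k + 1) k))
      (fun x => hc _ _ ψ le_rfl _ (by
        have := LinearMap.congr_fun (φ.app_d (k + 1) k) x
        simp only [LinearMap.comp_apply, LinearMap.sub_apply, map_sub] at this ⊢
        rw [this]; exact hφ x))
    refine ⟨φ.comp ψ, h', fun x => ?_⟩
    have h0 : d I n (k + 1) k (d I n (k + 2) (k + 1) x) = 0 := LinearMap.congr_fun (d_comp_d n k) x
    have := hh' (d I n (k + 2) (k + 1) x)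
    simp only [LinearMap.comp_apply, LinearMap.sub_apply, h0, map_zero, sub_zero] at this
    exact this

theorem exists_null (k : ℕ) : ∃ C, ∀ n n', n' + C ≤ n → ∃ (φ : Over I n n')
    (h : T I n (k + 1) →ₗ[R] T I n' (k + 2)) (g : T I n k →ₗ[R] T I n' (k + 1)),
      ∀ x, φ.app (k + 1) x - (d I n' (k + 2) (k + 1) (h x) + g (d I n (k + 1) k x)) ∈ S m n' (k + 1) := by
  obtain ⟨C, hC⟩ := exists_homotopy (I := I) m k
  obtain ⟨c, hc⟩ := exists_shift_mod (I := I) m k
  refine ⟨C + c, fun n n' hn => ?_⟩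
  obtain ⟨φ, h, hφ⟩ := hC n (n' + c) (by omega)
  let ψ := Over.mk' I (n := n' + c) (n' := n') (by omega)
  obtain ⟨h', hh'⟩ := exists_lift_mod m (k := k + 2) (ψ.app (k + 1) ∘ₗ (φ.app (k + 1) - h ∘ₗ d I n (k + 1) k))
    (fun x => hc _ _ ψ le_rfl _ (by
      have := LinearMap.congr_fun (φ.app_d (k + 1) k) x
      simp only [LinearMap.comp_apply, LinearMap.sub_apply, map_sub] at this ⊢
      rw [this]; exact hφ x))
  refine ⟨φ.comp ψ, h', ψ.app (k + 1) ∘ₗ h, fun x => ?_⟩
  have := hh' x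
  simp only [LinearMap.comp_apply, LinearMap.sub_apply, map_sub] at this
  rw [Over.comp_app, LinearMap.comp_apply, LinearMap.comp_apply]
  convert this using 1
  abel

theorem tor_map_eq_zero (k : ℕ) : ∃ c, ∀ (M : Type u) [AddCommGroup M] [Module R M],
    (∀ a ∈ I ^ m, ∀ x : M, a • x = 0) → ∀ n n' : ℕ, n' + c ≤ n → ∀ h : n' ≤ n,
      ((Tor (ModuleCat.{u} R) (k + 1)).obj (ModuleCat.of R M)).map (tr I n n' h) = 0 := by
  obtain ⟨C, hC⟩ := exists_null (I := I) m k
  refine ⟨C, fun M _ _ hM n n' hn hle => ?_⟩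
  obtain ⟨φ, h, g, hφ⟩ := hC n n' hn
  let F := (MonoidalCategory.tensoringLeft (ModuleCat.{u} R)).obj (ModuleCat.of R M)
  show (F.leftDerived (k + 1)).map (tr I n n' hle) = 0
  rw [Functor.leftDerived_map_eq F (k + 1) (tr I n n' hle) (P := Res I n) (Q := Res I n') φ.map (by
    refine HomologicalComplex.to_single_hom_ext ?_
    refine φ.comm.trans ?_
    simp)]
  suffices hz : HomologicalComplex.homologyMap ((F.mapHomologicalComplex _).map φ.map) (k + 1) = 0 by
    rw [show (F.mapHomologicalComplex _ ⋙ HomologicalComplex.homologyFunctor _ _ (k + 1)).map φ.map = 0 from hz,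
      zero_comp, comp_zero]
  set X := (F.mapHomologicalComplex (ComplexShape.down ℕ)).obj (Res I n).complex
  set Y := (F.mapHomologicalComplex (ComplexShape.down ℕ)).obj (Res I n').complex
  set Φ := (F.mapHomologicalComplex (ComplexShape.down ℕ)).map φ.map
  rw [← cancel_epi (X.homologyπ (k + 1)), comp_zero, HomologicalComplex.homologyπ_naturality]
  have key : HomologicalComplex.cyclesMap Φ (k + 1) =
      (X.iCycles (k + 1) ≫ ModuleCat.ofHom (h.lTensor M)) ≫ Y.toCycles (k + 2) (k + 1) := by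
    rw [← cancel_mono (Y.iCycles (k + 1))]
    refine ModuleCat.hom_ext (LinearMap.ext fun z => ?_)
    refine (congrArg (fun t => t.hom z) (HomologicalComplex.cyclesMap_i Φ (k + 1))).trans ?_
    refine Eq.trans ?_ (congrArg (fun t => t.hom (h.lTensor M ((X.iCycles (k + 1)).hom z))) (Y.toCycles_i (k + 2) (k + 1))).symm
    let w : M ⊗[R] T I n (k + 1) := (X.iCycles (k + 1)).hom z
    have hw : (d I n (k + 1) k).lTensor M w = 0 :=
      congrArg (fun t => t.hom z) (X.iCycles_d (k + 1) k)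
    show (φ.app (k + 1)).lTensor M w = (d I n' (k + 2) (k + 1)).lTensor M (h.lTensor M w)
    have hzero : ∀ u : M ⊗[R] T I n (k + 1), (φ.app (k + 1)).lTensor M u =
        ((d I n' (k + 2) (k + 1)).comp h + g.comp (d I n (k + 1) k)).lTensor M u := by
      intro u
      induction u using TensorProduct.induction_on with
      | zero => simp
      | tmul a x =>
        rw [LinearMap.lTensor_tmul, LinearMap.lTensor_tmul, ← sub_eq_zero, ← tmul_sub]
        have hs := hφ x
        simp only [LinearMap.add_apply, LinearMap.comp_apply]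
        exact Submodule.smul_induction_on hs (p := fun y => a ⊗ₜ[R] y = 0)
          (fun r hr y _ => by rw [← smul_tmul, hM r hr, zero_tmul])
          (fun y z hy hz => by rw [tmul_add, hy, hz, add_zero])
      | add u v hu hv => rw [map_add, map_add, hu, hv]
    rw [hzero, LinearMap.lTensor_add, LinearMap.add_apply, LinearMap.lTensor_comp, LinearMap.lTensor_comp,
      LinearMap.comp_apply, LinearMap.comp_apply, hw, map_zero, add_zero]
  exact (congrArg (· ≫ _) key).trans ((Category.assoc _ _ _).trans ((congrArg (_ ≫ ·) (Y.toCycles_comp_homologyπ (k + 2) (k + 1))).trans comp_zero))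

theorem result (i : ℕ) (hi : 0 < i) : ∃ c : ℕ, ∀ (M : Type u) [AddCommGroup M] [Module R M],
    (∀ a ∈ I ^ m, ∀ x : M, a • x = 0) → ∀ n : ℕ, c ≤ n →
      (((Tor (ModuleCat.{u} R) i).obj (ModuleCat.of R M)).map (ModuleCat.ofHom
        (Submodule.mapQ (I ^ n) (I ^ (n - c)) LinearMap.id (Ideal.pow_le_pow_right (Nat.sub_le n c))))) = 0 := by
  obtain ⟨k, rfl⟩ := Nat.exists_eq_succ_of_ne_zero hi.ne'
  obtain ⟨c, hc⟩ := tor_map_eq_zero (I := I) m k
  exact ⟨c, fun M _ _ hM n hn => hc M hM n (n - c) (by omega) (Nat.sub_le _ _)⟩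

end Groth.Agent.CAlgH3.TorProZero
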