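import Groth.Agent.CAlgH3.TorProZero
import Groth.Agent.CAlgH3.PdPolynomial
import Mathlib.RingTheory.Polynomial.Basic
import Mathlib.RingTheory.TensorProduct.Finite
import Mathlib.RingTheory.TensorProduct.Free

/-! `Tor_i(M, R/I^n) → Tor_i(M, R/I^(n-c))` vanishes above the number of generators. -/

set_option autoImplicit false
set_option backward.isDefEq.respectTransparency.types false
universe u

open CategoryTheory CategoryTheory.Limits TensorProduct Function
open Groth.Agent.CommAlg6 (PdLE)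

namespace Groth.Agent.CAlgH3.TorTrunc

open TorProZero

theorem exists_lift_range {R : Type u} [CommRing R] {P X Y : Type u} [AddCommGroup P] [Module R P]
    [Module.Projective R P] [AddCommGroup X] [Module R X] [AddCommGroup Y] [Module R Y]
    (f : X →ₗ[R] Y) (g : P →ₗ[R] Y) (hg : ∀ x, ∃ y, f y = g x) : ∃ h : P →ₗ[R] X, ∀ x, f (h x) = g x := by
  obtain ⟨h, hh⟩ := Module.projective_lifting_property f.rangeRestrict (g.codRestrict (LinearMap.range f) hg)
    f.surjective_rangeRestrict
  exact ⟨h, fun x => congrArg Subtype.val (LinearMap.congr_fun hh x)⟩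

section Resolution

variable {B : Type u} [CommRing B] (J : Ideal B)

theorem pd_range (n : ℕ) : ∀ (j s : ℕ), PdLE B (B ⧸ J ^ n) (j + s + 1) →
    PdLE B (LinearMap.range (d J n (j + 1) j)) s := by
  intro j
  induction j with
  | zero =>
    intro s h
    rw [Nat.zero_add] at h
    exact (CommAlg6.pdLE_congr (LinearEquiv.ofEq _ _ (exact_aug n).linearMap_ker_eq) s).1
      ((CommAlg6.pdLE_succ_iff (aug J n) (aug_surjective n) s).1 h)
  | succ j ih =>
    intro s h
    have h1 := ih (s + 1) (by rwa [show j + (s + 1) + 1 = j + 1 + s + 1 by omega])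
    have h2 := (CommAlg6.pdLE_succ_iff (d J n (j + 1) j).rangeRestrict
      (d J n (j + 1) j).surjective_rangeRestrict s).1 h1
    refine (CommAlg6.pdLE_congr (LinearEquiv.ofEq _ _ ?_) s).1 h2
    rw [LinearMap.ker_rangeRestrict, (exact_d n j).linearMap_ker_eq]

theorem exists_proj (n t : ℕ) (h : PdLE B (B ⧸ J ^ n) t) :
    ∃ π : T J n t →ₗ[B] T J n t, (∀ x, ∃ y, d J n (t + 1) t y = π x) ∧
      ∀ y, π (d J n (t + 1) t y) = d J n (t + 1) t y := by
  cases t with
  | zero =>
    haveI := CommAlg6.pdLE_zero_iff.1 h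
    obtain ⟨σ, hσ⟩ := Module.projective_lifting_property (aug J n) (LinearMap.id) (aug_surjective n)
    refine ⟨LinearMap.id - σ ∘ₗ aug J n, fun x => (exact_aug n _).1 ?_, fun y => ?_⟩
    · have := LinearMap.congr_fun hσ (aug J n x)
      simp only [LinearMap.comp_apply, LinearMap.id_apply] at this
      rw [LinearMap.sub_apply, map_sub, LinearMap.id_apply, LinearMap.comp_apply, this, sub_self]
    · rw [LinearMap.sub_apply, LinearMap.id_apply, LinearMap.comp_apply, (exact_aug n).apply_apply_eq_zero,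
        map_zero, sub_zero]
  | succ t =>
    haveI := CommAlg6.pdLE_zero_iff.1 (pd_range J n t 0 h)
    obtain ⟨σ, hσ⟩ := Module.projective_lifting_property (d J n (t + 1) t).rangeRestrict LinearMap.id
      (d J n (t + 1) t).surjective_rangeRestrict
    refine ⟨LinearMap.id - σ ∘ₗ (d J n (t + 1) t).rangeRestrict, fun x => (exact_d n t _).1 ?_, fun y => ?_⟩
    · have := congrArg Subtype.val (LinearMap.congr_fun hσ ((d J n (t + 1) t).rangeRestrict x))
      simp only [LinearMap.comp_apply, LinearMap.id_apply, LinearMap.codRestrict_apply] at this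
      rw [LinearMap.sub_apply, map_sub, LinearMap.id_apply, LinearMap.comp_apply]
      exact sub_eq_zero.2 this.symm
    · have h0 : (d J n (t + 1) t).rangeRestrict (d J n (t + 2) (t + 1) y) = 0 :=
        Subtype.ext ((exact_d n t).apply_apply_eq_zero y)
      rw [LinearMap.sub_apply, LinearMap.id_apply, LinearMap.comp_apply, h0, map_zero, sub_zero]

theorem exists_split (n t : ℕ) (h : PdLE B (B ⧸ J ^ n) t) :
    ∃ (r : T J n t →ₗ[B] T J n (t + 1)) (w : T J n (t + 1) →ₗ[B] T J n (t + 2)),
      d J n (t + 2) (t + 1) ∘ₗ w + r ∘ₗ d J n (t + 1) t = LinearMap.id := by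
  obtain ⟨π, hπ, hπd⟩ := exists_proj J n t h
  obtain ⟨r, hr⟩ := exists_lift_range (d J n (t + 1) t) π hπ
  obtain ⟨w, hw⟩ := exists_lift_range (d J n (t + 2) (t + 1)) (LinearMap.id - r ∘ₗ d J n (t + 1) t) fun x =>
    (exact_d n t _).1 (by rw [LinearMap.sub_apply, map_sub, LinearMap.id_apply, LinearMap.comp_apply, hr, hπd, sub_self])
  refine ⟨r, w, LinearMap.ext fun x => ?_⟩
  rw [LinearMap.add_apply, LinearMap.comp_apply, hw, LinearMap.sub_apply, sub_add_cancel]

end Resolution

variable {A B : Type u} [CommRing A] [CommRing B] [Algebra B A] (J : Ideal B) (I : Ideal A)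

/-- base changed resolution -/
abbrev C (n j : ℕ) : Type u := A ⊗[B] T J n j

/-- its differential -/
noncomputable abbrev dC (n i j : ℕ) : C (A := A) J n i →ₗ[A] C (A := A) J n j := (d J n i j).baseChange A

/-- base change of a chain map -/
noncomputable abbrev appC {n n' : ℕ} (ψ : Over J n n') (j : ℕ) : C (A := A) J n j →ₗ[A] C (A := A) J n' j :=
  (ψ.app j).baseChange A

theorem exists_tmul_one (hsurj : Function.Surjective (algebraMap B A)) {n j : ℕ} (x : C (A := A) J n j) :
    ∃ p : T J n j, (1 : A) ⊗ₜ[B] p = x := by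
  induction x using TensorProduct.induction_on with
  | zero => exact ⟨0, tmul_zero _ _⟩
  | tmul a p =>
    obtain ⟨b, rfl⟩ := hsurj a
    exact ⟨b • p, by rw [← smul_tmul, Algebra.algebraMap_eq_smul_one]⟩
  | add x y hx hy =>
    obtain ⟨p, rfl⟩ := hx
    obtain ⟨q, rfl⟩ := hy
    exact ⟨p + q, tmul_add _ _ _⟩

theorem appC_dC {n n' : ℕ} (ψ : Over J n n') (i j : ℕ) (x : C (A := A) J n i) :
    dC J n' i j (appC J ψ i x) = appC J ψ j (dC J n i j x) := by
  show ((d J n' i j).baseChange A ∘ₗ (ψ.app i).baseChange A) x = ((ψ.app j).baseChange A ∘ₗ (d J n i j).baseChange A) x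
  rw [← LinearMap.baseChange_comp, ← LinearMap.baseChange_comp, ψ.app_d]

theorem dC_dC (n j : ℕ) (x : C (A := A) J n (j + 2)) : dC J n (j + 1) j (dC J n (j + 2) (j + 1) x) = 0 := by
  show ((d J n (j + 1) j).baseChange A ∘ₗ (d J n (j + 2) (j + 1)).baseChange A) x = 0
  rw [← LinearMap.baseChange_comp, d_comp_d, LinearMap.baseChange_zero, LinearMap.zero_apply]

variable (hJI : J.map (algebraMap B A) = I)

include hJI in
theorem algebraMap_mem (n : ℕ) {b : B} (hb : b ∈ J ^ n) : algebraMap B A b ∈ I ^ n := by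
  rw [← hJI, ← Ideal.map_pow]
  exact Ideal.mem_map_of_mem _ hb

/-- the comparison `B/J^n → A/I^n` -/
noncomputable def cmp (n : ℕ) : (B ⧸ J ^ n) →ₗ[B] (A ⧸ I ^ n) :=
  Submodule.liftQ (J ^ n) ((Ideal.Quotient.mkₐ B (I ^ n)).toLinearMap ∘ₗ Algebra.linearMap B A)
    fun b hb => LinearMap.mem_ker.2 (Ideal.Quotient.eq_zero_iff_mem.2 (algebraMap_mem J I hJI n hb))

/-- augmentation -/
noncomputable def augC (n : ℕ) : C (A := A) J n 0 →ₗ[A] (A ⧸ I ^ n) :=
  ((cmp J I hJI n) ∘ₗ aug J n).liftBaseChange A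

theorem augC_tmul (n : ℕ) (a : A) (p : T J n 0) (b : B) (hb : (Submodule.Quotient.mk b : B ⧸ J ^ n) = aug J n p) :
    augC J I hJI n (a ⊗ₜ[B] p) = a • Ideal.Quotient.mk (I ^ n) (algebraMap B A b) := by
  rw [augC, LinearMap.liftBaseChange_tmul, LinearMap.comp_apply, ← hb]
  rfl

include hJI in
theorem augC_surjective (hsurj : Function.Surjective (algebraMap B A)) (n : ℕ) :
    Function.Surjective (augC J I hJI n) := by
  intro y
  obtain ⟨a, rfl⟩ := Ideal.Quotient.mk_surjective y
  obtain ⟨b, rfl⟩ := hsurj a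
  obtain ⟨p, hp⟩ := aug_surjective (I := J) n (Submodule.Quotient.mk b)
  exact ⟨1 ⊗ₜ p, (augC_tmul J I hJI n 1 p b hp.symm).trans (one_smul A _)⟩

theorem exact_augC (hsurj : Function.Surjective (algebraMap B A)) (n : ℕ) :
    Exact (dC (A := A) J n 1 0) (augC J I hJI n) := by
  intro x
  constructor
  · intro hx
    obtain ⟨p, rfl⟩ := exists_tmul_one J hsurj x
    obtain ⟨b, hb⟩ := Submodule.Quotient.mk_surjective (J ^ n) (aug J n p)
    rw [augC_tmul J I hJI n 1 p b hb, one_smul, Ideal.Quotient.eq_zero_iff_mem, ← hJI, ← Ideal.map_pow,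
      Ideal.mem_map_iff_of_surjective _ hsurj] at hx
    obtain ⟨j, hj, hjb⟩ := hx
    obtain ⟨p1, hp1⟩ := aug_surjective (I := J) n (Submodule.Quotient.mk (1 : B))
    have h0 : aug J n (p - (b - j) • p1) = 0 := by
      rw [map_sub, map_smul, hp1, ← hb, ← Submodule.Quotient.mk_smul, smul_eq_mul, mul_one,
        ← Submodule.Quotient.mk_sub, sub_sub_cancel]
      exact (Submodule.Quotient.mk_eq_zero _).2 hj
    obtain ⟨q, hq⟩ := (exact_aug n _).1 h0
    refine ⟨1 ⊗ₜ q, ?_⟩
    show (1 : A) ⊗ₜ[B] d J n 1 0 q = 1 ⊗ₜ p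
    rw [hq, tmul_sub, ← smul_tmul, ← Algebra.algebraMap_eq_smul_one, map_sub, ← hjb, sub_self, zero_tmul, sub_zero]
  · rintro ⟨y, rfl⟩
    induction y using TensorProduct.induction_on with
    | zero => simp
    | tmul a q =>
      show augC J I hJI n (a ⊗ₜ[B] d J n 1 0 q) = 0
      rw [augC_tmul J I hJI n a _ 0 (by rw [(exact_aug n).apply_apply_eq_zero]; rfl), map_zero, map_zero, smul_zero]
    | add x y hx hy => rw [map_add, map_add, hx, hy, add_zero]

variable [IsNoetherianRing B]

include hJI in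
theorem exists_u (hsurj : Function.Surjective (algebraMap B A)) : ∀ k : ℕ, ∃ K, ∀ n n', n' + K ≤ n →
    ∃ (h : n' ≤ n) (u : ∀ j, T I n j →ₗ[A] C (A := A) J n' j),
      (∀ x, augC J I hJI n' (u 0 x) = (tr I n n' h).hom (aug I n x)) ∧
      ∀ j, j < k → ∀ x, dC J n' (j + 1) j (u (j + 1) x) = u j (d I n (j + 1) j x) := by
  classical
  intro k
  induction k with
  | zero =>
    refine ⟨0, fun n n' hn => ?_⟩
    obtain ⟨u0, hu0⟩ := Module.projective_lifting_property (augC J I hJI n')
      ((tr I n n' (by omega)).hom ∘ₗ aug I n) (augC_surjective J I hJI hsurj n')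
    exact ⟨by omega, Function.update (fun j => 0) 0 u0, fun x => by
      rw [Function.update_self]; exact LinearMap.congr_fun hu0 x, fun j hj => absurd hj (Nat.not_lt_zero j)⟩
  | succ k ih =>
    obtain ⟨K, hK⟩ := ih
    rcases k with _ | k
    · refine ⟨K, fun n n' hn => ?_⟩
      obtain ⟨h, u, hu0, -⟩ := hK n n' hn
      obtain ⟨u1, hu1⟩ := exists_lift_range (dC J n' 1 0) (u 0 ∘ₗ d I n 1 0) fun x =>
        (exact_augC J I hJI hsurj n' _).1 (by
          rw [LinearMap.comp_apply, hu0, (exact_aug n).apply_apply_eq_zero, map_zero])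
      refine ⟨h, Function.update u 1 u1, fun x => ?_, fun j hj x => ?_⟩
      · rw [Function.update_of_ne (by omega)]; exact hu0 x
      · obtain rfl : j = 0 := by omega
        rw [Function.update_self, Function.update_of_ne (by omega)]
        exact hu1 x
    · haveI : Module.Finite B A := Module.Finite.of_surjective (Algebra.linearMap B A) hsurj
      obtain ⟨c, hc⟩ := exists_shift (I := J) k A
      refine ⟨K + c, fun n n' hn => ?_⟩
      obtain ⟨h, u, hu0, hu⟩ := hK n (n' + c) (by omega)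
      let ψ := Over.mk' J (n := n' + c) (n' := n') (by omega)
      obtain ⟨u1, hu1⟩ := exists_lift_range (dC (A := A) J n' (k + 2) (k + 1))
        (appC J ψ (k + 1) ∘ₗ u (k + 1) ∘ₗ d I n (k + 2) (k + 1)) fun x => by
        obtain ⟨y, hy⟩ := hc _ _ ψ le_rfl (u (k + 1) (d I n (k + 2) (k + 1) x)) (by
          refine (congrFun (LinearMap.baseChange_eq_ltensor (f := d J (n' + c) (k + 1) k)).symm _).trans ?_
          rw [hu k (by omega)]
          have h0 : d I n (k + 1) k (d I n (k + 2) (k + 1) x) = 0 := LinearMap.congr_fun (d_comp_d n k) x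
          rw [h0, map_zero])
        exact ⟨y, hy⟩
      refine ⟨by omega, Function.update (fun j => appC J ψ j ∘ₗ u j) (k + 2) u1, fun x => ?_, fun j hj x => ?_⟩
      · rw [Function.update_of_ne (by omega), LinearMap.comp_apply]
        have hnat : ∀ y : C (A := A) J (n' + c) 0, augC J I hJI n' (appC J ψ 0 y) =
            (tr I (n' + c) n' ψ.le).hom (augC J I hJI (n' + c) y) := by
          intro y
          obtain ⟨p, rfl⟩ := exists_tmul_one J hsurj y
          obtain ⟨b, hb⟩ := Submodule.Quotient.mk_surjective (J ^ (n' + c)) (aug J (n' + c) p)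
          show augC J I hJI n' ((1 : A) ⊗ₜ[B] ψ.app 0 p) = _
          rw [augC_tmul J I hJI n' 1 _ b (by rw [ψ.aug_app, ← hb]; rfl), augC_tmul J I hJI _ 1 p b hb, one_smul, one_smul]
          rfl
        rw [hnat, hu0]
        obtain ⟨r, hr⟩ := Submodule.Quotient.mk_surjective (I ^ n) (aug I n x)
        rw [← hr]
        rfl
      · rcases Nat.lt_or_eq_of_le (Nat.lt_succ_iff.1 hj) with hlt | rfl
        · rw [Function.update_of_ne (by omega), Function.update_of_ne (by omega), LinearMap.comp_apply,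
            LinearMap.comp_apply, appC_dC, hu j hlt]
        · rw [Function.update_self, Function.update_of_ne (by omega)]
          exact hu1 x

include hJI in
omit [IsNoetherianRing B] in
theorem exists_v (hsurj : Function.Surjective (algebraMap B A)) (n : ℕ) : ∀ k : ℕ,
    ∃ v : ∀ j, C (A := A) J n j →ₗ[A] T I n j,
      (∀ x, aug I n (v 0 x) = augC J I hJI n x) ∧
      ∀ j, j < k → ∀ x, d I n (j + 1) j (v (j + 1) x) = v j (dC J n (j + 1) j x) := by
  classical
  intro k
  induction k with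
  | zero =>
    obtain ⟨v0, hv0⟩ := Module.projective_lifting_property (aug I n) (augC J I hJI n) (aug_surjective n)
    exact ⟨Function.update (fun j => 0) 0 v0, fun x => by
      rw [Function.update_self]; exact LinearMap.congr_fun hv0 x, fun j hj => absurd hj (Nat.not_lt_zero j)⟩
  | succ k ih =>
    obtain ⟨v, hv0, hv⟩ := ih
    obtain ⟨v1, hv1⟩ := exists_lift_range (d I n (k + 1) k) (v k ∘ₗ dC J n (k + 1) k) fun x => by
      rcases k with _ | k
      · exact (exact_aug n _).1 (by rw [LinearMap.comp_apply, hv0, (exact_augC J I hJI hsurj n).apply_apply_eq_zero])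
      · exact (exact_d n k _).1 (by rw [LinearMap.comp_apply, hv k (by omega), dC_dC, map_zero])
    refine ⟨Function.update v (k + 1) v1, fun x => ?_, fun j hj x => ?_⟩
    · rw [Function.update_of_ne (by omega)]; exact hv0 x
    · rcases Nat.lt_or_eq_of_le (Nat.lt_succ_iff.1 hj) with hlt | rfl
      · rw [Function.update_of_ne (by omega), Function.update_of_ne (by omega), hv j hlt]
      · rw [Function.update_self, Function.update_of_ne (by omega)]
        exact hv1 x

omit [IsNoetherianRing B] in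
theorem exists_homotopy' {n n' : ℕ} (δ : ∀ j, T I n j →ₗ[A] T I n' j) (h0 : ∀ x, aug I n' (δ 0 x) = 0) :
    ∀ k, (∀ j, j < k → ∀ x, d I n' (j + 1) j (δ (j + 1) x) = δ j (d I n (j + 1) j x)) →
      ∃ h : T I n k →ₗ[A] T I n' (k + 1),
        ∀ x, δ k (d I n (k + 1) k x) = d I n' (k + 1) k (h (d I n (k + 1) k x)) := by
  intro k
  induction k with
  | zero =>
    intro _
    obtain ⟨h, hh⟩ := exists_lift_range (d I n' 1 0) (δ 0) fun x => (exact_aug n' _).1 (h0 x)
    exact ⟨h, fun x => (hh _).symm⟩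
  | succ k ih =>
    intro hc
    obtain ⟨h, hh⟩ := ih fun j hj => hc j (by omega)
    obtain ⟨h', hh'⟩ := exists_lift_range (d I n' (k + 2) (k + 1)) (δ (k + 1) - h ∘ₗ d I n (k + 1) k) fun x =>
      (exact_d n' k _).1 (by
        rw [LinearMap.sub_apply, map_sub, hc k (by omega), LinearMap.comp_apply, hh, sub_self])
    refine ⟨h', fun x => ?_⟩
    have hd : d I n (k + 1) k (d I n (k + 2) (k + 1) x) = 0 := LinearMap.congr_fun (d_comp_d n k) x
    rw [hh', LinearMap.sub_apply, LinearMap.comp_apply, hd, map_zero, sub_zero]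

omit [IsNoetherianRing B] in
theorem exists_null' {n n' : ℕ} (δ : ∀ j, T I n j →ₗ[A] T I n' j) (h0 : ∀ x, aug I n' (δ 0 x) = 0) (k : ℕ)
    (hc : ∀ j, j < k + 1 → ∀ x, d I n' (j + 1) j (δ (j + 1) x) = δ j (d I n (j + 1) j x)) :
    ∃ (h : T I n (k + 1) →ₗ[A] T I n' (k + 2)) (g : T I n k →ₗ[A] T I n' (k + 1)),
      δ (k + 1) = d I n' (k + 2) (k + 1) ∘ₗ h + g ∘ₗ d I n (k + 1) k := by
  obtain ⟨g, hg⟩ := exists_homotopy' I δ h0 k fun j hj => hc j (by omega)
  obtain ⟨h, hh⟩ := exists_lift_range (d I n' (k + 2) (k + 1)) (δ (k + 1) - g ∘ₗ d I n (k + 1) k) fun x =>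
    (exact_d n' k _).1 (by rw [LinearMap.sub_apply, map_sub, hc k (by omega), LinearMap.comp_apply, hg, sub_self])
  refine ⟨h, g, LinearMap.ext fun x => ?_⟩
  rw [LinearMap.add_apply, LinearMap.comp_apply, hh, LinearMap.sub_apply, sub_add_cancel]

include hJI in
theorem key (hsurj : Function.Surjective (algebraMap B A)) (t : ℕ) (hpd : ∀ n, PdLE B (B ⧸ J ^ n) t) :
    ∃ c, ∀ n n', n' + c ≤ n → ∀ (φ : Over I n n') (M : Type u) [AddCommGroup M] [Module A M]
      (z : M ⊗[A] T I n (t + 1)), (d I n (t + 1) t).lTensor M z = 0 →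
        ∃ y, (d I n' (t + 2) (t + 1)).lTensor M y = (φ.app (t + 1)).lTensor M z := by
  obtain ⟨K, hK⟩ := exists_u J I hJI hsurj (t + 1)
  refine ⟨K, fun n n' hn φ M _ _ z hz => ?_⟩
  obtain ⟨hle, u, hu0, hu⟩ := hK n n' hn
  obtain ⟨v, hv0, hv⟩ := exists_v J I hJI hsurj n' (t + 2)
  obtain ⟨h, g, hhg⟩ := exists_null' I (fun j => φ.app j - v j ∘ₗ u j) (fun x => by
      rw [LinearMap.sub_apply, map_sub, φ.aug_app, LinearMap.comp_apply, hv0, hu0, sub_self]) t (fun j hj x => by
      simp only [LinearMap.sub_apply, map_sub, LinearMap.comp_apply]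
      rw [hv j (by omega), hu j hj]
      congr 1
      exact LinearMap.congr_fun (φ.app_d (j + 1) j) x)
  obtain ⟨r, w, hrw⟩ := exists_split J n' t (hpd n')
  let r' := r.baseChange A
  let w' := w.baseChange A
  have hid : dC (A := A) J n' (t + 2) (t + 1) ∘ₗ w' + r' ∘ₗ dC (A := A) J n' (t + 1) t = LinearMap.id := by
    rw [← LinearMap.baseChange_comp, ← LinearMap.baseChange_comp, ← LinearMap.baseChange_add, hrw, LinearMap.baseChange_id]
  have hcyc : (dC J n' (t + 1) t).lTensor M ((u (t + 1)).lTensor M z) = 0 := by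
    rw [← LinearMap.comp_apply, ← LinearMap.lTensor_comp,
      show dC J n' (t + 1) t ∘ₗ u (t + 1) = u t ∘ₗ d I n (t + 1) t from LinearMap.ext (hu t (by omega)),
      LinearMap.lTensor_comp, LinearMap.comp_apply, hz, map_zero]
  have hb : (dC J n' (t + 2) (t + 1)).lTensor M (w'.lTensor M ((u (t + 1)).lTensor M z)) = (u (t + 1)).lTensor M z := by
    have := LinearMap.congr_fun (congrArg (LinearMap.lTensor M) hid) ((u (t + 1)).lTensor M z)
    rw [LinearMap.lTensor_add, LinearMap.add_apply, LinearMap.lTensor_comp, LinearMap.lTensor_comp,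
      LinearMap.comp_apply, LinearMap.comp_apply, hcyc, map_zero, add_zero, LinearMap.lTensor_id, LinearMap.id_apply] at this
    exact this
  refine ⟨h.lTensor M z + (v (t + 2)).lTensor M (w'.lTensor M ((u (t + 1)).lTensor M z)), ?_⟩
  have e1 := LinearMap.congr_fun (congrArg (LinearMap.lTensor M) hhg) z
  simp only [LinearMap.lTensor_sub, LinearMap.sub_apply, LinearMap.lTensor_add, LinearMap.add_apply,
    LinearMap.lTensor_comp, LinearMap.comp_apply, hz, map_zero, add_zero] at e1
  rw [map_add, ← e1, ← LinearMap.comp_apply ((d I n' (t + 2) (t + 1)).lTensor M) ((v (t + 2)).lTensor M),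
    ← LinearMap.lTensor_comp,
    show d I n' (t + 2) (t + 1) ∘ₗ v (t + 2) = v (t + 1) ∘ₗ dC J n' (t + 2) (t + 1) from LinearMap.ext (hv (t + 1) (by omega)),
    LinearMap.lTensor_comp, LinearMap.comp_apply, hb, sub_add_cancel]

end Groth.Agent.CAlgH3.TorTrunc

namespace Groth.Agent.CAlgH3.TorTrunc

open TorProZero
open Groth.Agent.CommAlg6 (PdLE)

section Apply

variable {A : Type u} [CommRing A] [IsNoetherianRing A]

theorem exists_key (I : Ideal A) (t : ℕ) (s : Finset A) (hs : I = Ideal.span (s : Set A)) (ht : s.card ≤ t) :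
    ∃ c, ∀ n n', n' + c ≤ n → ∀ (φ : Over I n n') (M : Type u) [AddCommGroup M] [Module A M]
      (z : M ⊗[A] T I n (t + 1)), (d I n (t + 1) t).lTensor M z = 0 →
        ∃ y, (d I n' (t + 2) (t + 1)).lTensor M y = (φ.app (t + 1)).lTensor M z := by
  classical
  let f : Fin t → A := fun i => if h : (i : ℕ) < s.card then s.equivFin.symm ⟨i, h⟩ else 0
  have hf : Ideal.span (Set.range f) = I := by
    rw [hs]
    refine le_antisymm (Ideal.span_le.2 ?_) (Ideal.span_le.2 fun x hx => Ideal.subset_span ?_)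
    · rintro _ ⟨i, rfl⟩
      simp only [f]
      split_ifs with h
      · exact Ideal.subset_span (s.equivFin.symm ⟨i, h⟩).2
      · exact Submodule.zero_mem _
    · refine ⟨⟨s.equivFin ⟨x, hx⟩, lt_of_lt_of_le (Fin.is_lt _) ht⟩, ?_⟩
      simp [f]
  letI : Algebra (MvPolynomial (Fin t) A) A := (MvPolynomial.aeval f : MvPolynomial (Fin t) A →ₐ[A] A).toRingHom.toAlgebra
  refine key (MvPolynomial.idealOfVars (Fin t) A) I ?_ (fun a => ⟨MvPolynomial.C a, MvPolynomial.aeval_C f a⟩) t fun n => ?_
  · rw [MvPolynomial.idealOfVars, Ideal.map_span, ← Set.range_comp, ← hf]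
    congr 1
    refine congrArg Set.range (funext fun i => ?_)
    exact MvPolynomial.aeval_X f i
  · haveI := PdPolynomial.projective_quotient_pow A t n
    exact PdPolynomial.pdLE_mvPolynomial A t _

variable (I : Ideal A) (c : ℕ)

/-- cycles map to boundaries in degree `k + 1` -/
def Vanish (k : ℕ) : Prop :=
  ∀ n n', n' + c ≤ n → ∀ (φ : Over I n n') (M : Type u) [AddCommGroup M] [Module A M]
    (z : M ⊗[A] T I n (k + 1)), (d I n (k + 1) k).lTensor M z = 0 →
      ∃ y, (d I n' (k + 2) (k + 1)).lTensor M y = (φ.app (k + 1)).lTensor M z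

omit [IsNoetherianRing A] in
theorem vanish_aux {k n n' : ℕ} (φ : Over I n n') {M F : Type u} [AddCommGroup M] [Module A M]
    [AddCommGroup F] [Module A F] [Module.Flat A F] (q : F →ₗ[A] M) (hq : Function.Surjective q)
    (hc : ∀ (w : LinearMap.ker q ⊗[A] T I n (k + 1)), (d I n (k + 1) k).lTensor _ w = 0 →
      ∃ y, (d I n' (k + 2) (k + 1)).lTensor _ y = (φ.app (k + 1)).lTensor _ w)
    (z : M ⊗[A] T I n (k + 2)) (hz : (d I n (k + 2) (k + 1)).lTensor M z = 0) :
    ∃ y, (d I n' (k + 3) (k + 2)).lTensor M y = (φ.app (k + 2)).lTensor M z := by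
  obtain ⟨z', rfl⟩ := LinearMap.rTensor_surjective _ hq z
  obtain ⟨w, hw⟩ := (rTensor_exact (T I n (k + 1)) (LinearMap.exact_subtype_ker_map q) hq
    ((d I n (k + 2) (k + 1)).lTensor F z')).1 (by
    rw [← LinearMap.comp_apply, LinearMap.rTensor_comp_lTensor, ← LinearMap.lTensor_comp_rTensor]; exact hz)
  have hinj : Function.Injective ((LinearMap.ker q).subtype.rTensor (T I n k)) :=
    Module.Flat.rTensor_preserves_injective_linearMap _ Subtype.val_injective
  obtain ⟨v, hv⟩ := hc w (hinj (by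
    rw [map_zero, ← LinearMap.comp_apply, LinearMap.rTensor_comp_lTensor, ← LinearMap.lTensor_comp_rTensor,
      LinearMap.comp_apply, hw, ← LinearMap.comp_apply, ← LinearMap.lTensor_comp, d_comp_d,
      LinearMap.lTensor_zero, LinearMap.zero_apply]))
  have h7 : (d I n' (k + 2) (k + 1)).lTensor F ((φ.app (k + 2)).lTensor _ z' - (LinearMap.ker q).subtype.rTensor _ v) = 0 := by
    rw [map_sub, ← LinearMap.comp_apply, ← LinearMap.lTensor_comp, φ.app_d, LinearMap.lTensor_comp,
      LinearMap.comp_apply, ← hw, ← LinearMap.comp_apply (LinearMap.lTensor _ _), LinearMap.lTensor_comp_rTensor,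
      ← LinearMap.rTensor_comp_lTensor, ← LinearMap.comp_apply (LinearMap.lTensor _ _) (LinearMap.rTensor _ _),
      LinearMap.lTensor_comp_rTensor, ← LinearMap.rTensor_comp_lTensor, LinearMap.comp_apply, LinearMap.comp_apply,
      hv, sub_self]
  obtain ⟨y, hy⟩ := (Module.Flat.lTensor_exact F (exact_d n' (k + 1)) _).1 h7
  refine ⟨q.rTensor _ y, ?_⟩
  rw [← LinearMap.comp_apply, LinearMap.lTensor_comp_rTensor, ← LinearMap.rTensor_comp_lTensor, LinearMap.comp_apply,
    hy, map_sub, ← LinearMap.comp_apply (q.rTensor _) (LinearMap.lTensor _ _), LinearMap.rTensor_comp_lTensor,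
    ← LinearMap.lTensor_comp_rTensor, LinearMap.comp_apply,
    ← LinearMap.comp_apply (q.rTensor _) ((LinearMap.ker q).subtype.rTensor _),
    ← LinearMap.rTensor_comp, (LinearMap.exact_subtype_ker_map q).linearMap_comp_eq_zero, LinearMap.rTensor_zero,
    LinearMap.zero_apply, sub_zero]

omit [IsNoetherianRing A] in
theorem Vanish.succ {k : ℕ} (h : Vanish I c k) : Vanish I c (k + 1) := by
  intro n n' hn φ M _ _ z hz
  obtain ⟨F, _, _, _, q, hq⟩ : ∃ (F : Type u) (_ : AddCommGroup F) (_ : Module A F) (_ : Module.Flat A F)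
      (q : F →ₗ[A] M), Function.Surjective q :=
    ⟨M →₀ A, inferInstance, inferInstance, inferInstance, Finsupp.linearCombination A (id : M → M),
      fun m => ⟨Finsupp.single m 1, by simp⟩⟩
  exact vanish_aux I φ q hq (fun w hw => h n n' hn φ _ w hw) z hz

omit [IsNoetherianRing A] in
theorem Vanish.of_le {t k : ℕ} (h : Vanish I c t) (htk : t ≤ k) : Vanish I c k := by
  induction htk with
  | refl => exact h
  | step _ ih => exact ih.succ I c

omit [IsNoetherianRing A] in
theorem tor_map_eq_zero {k : ℕ} (h : Vanish I c k) (M : Type u) [AddCommGroup M] [Module A M] (n n' : ℕ)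
    (hn : n' + c ≤ n) (hle : n' ≤ n) :
    ((Tor (ModuleCat.{u} A) (k + 1)).obj (ModuleCat.of A M)).map (tr I n n' hle) = 0 := by
  let φ := Over.mk' I (n := n) (n' := n') hle
  let F := (MonoidalCategory.tensoringLeft (ModuleCat.{u} A)).obj (ModuleCat.of A M)
  show (F.leftDerived (k + 1)).map (tr I n n' hle) = 0
  rw [Functor.leftDerived_map_eq F (k + 1) (tr I n n' hle) (P := Res I n) (Q := Res I n') φ.map (by
    refine HomologicalComplex.to_single_hom_ext ?_
    refine φ.comm.trans ?_
    simp)]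
  suffices hz : HomologicalComplex.homologyMap ((F.mapHomologicalComplex _).map φ.map) (k + 1) = 0 by
    rw [show (F.mapHomologicalComplex _ ⋙ HomologicalComplex.homologyFunctor _ _ (k + 1)).map φ.map = 0 from hz,
      zero_comp, comp_zero]
  set X := (F.mapHomologicalComplex (ComplexShape.down ℕ)).obj (Res I n).complex
  set Y := (F.mapHomologicalComplex (ComplexShape.down ℕ)).obj (Res I n').complex
  set Φ := (F.mapHomologicalComplex (ComplexShape.down ℕ)).map φ.map
  rw [← cancel_epi (X.homologyπ (k + 1)), comp_zero, HomologicalComplex.homologyπ_naturality]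
  refine ModuleCat.hom_ext (LinearMap.ext fun z => ?_)
  let w : M ⊗[A] T I n (k + 1) := (X.iCycles (k + 1)).hom z
  obtain ⟨y, hy⟩ := h n n' hn φ M w (congrArg (fun t => t.hom z) (X.iCycles_d (k + 1) k))
  have e : (HomologicalComplex.cyclesMap Φ (k + 1)).hom z = (Y.toCycles (k + 2) (k + 1)).hom y := by
    refine (ModuleCat.mono_iff_injective (Y.iCycles (k + 1))).1 inferInstance ?_
    refine (congrArg (fun t => t.hom z) (HomologicalComplex.cyclesMap_i Φ (k + 1))).trans ?_
    refine Eq.trans ?_ (congrArg (fun t => t.hom y) (Y.toCycles_i (k + 2) (k + 1))).symm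
    exact hy.symm
  show (Y.homologyπ (k + 1)).hom ((HomologicalComplex.cyclesMap Φ (k + 1)).hom z) = 0
  rw [e]
  exact congrArg (fun t => t.hom y) (Y.toCycles_comp_homologyπ (k + 2) (k + 1))

omit [IsNoetherianRing A] in
theorem smul_tor_eq_zero {k : ℕ} (h : Vanish I c k) (M : Type u) [AddCommGroup M] [Module A M] (q : ℕ)
    (a : A) (ha : a ∈ I ^ c) (x : ((Tor (ModuleCat.{u} A) (k + 1)).obj (ModuleCat.of A M)).obj (Obj I q)) :
    a • x = 0 := by
  let F := (MonoidalCategory.tensoringLeft (ModuleCat.{u} A)).obj (ModuleCat.of A M)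
  let m : Obj I q ⟶ Obj I (q + c) := ModuleCat.ofHom (Submodule.mapQ (I ^ q) (I ^ (q + c)) (a • LinearMap.id) (fun b hb => by
    show a • b ∈ I ^ (q + c)
    rw [smul_eq_mul, mul_comm, pow_add]
    exact Ideal.mul_mem_mul hb ha))
  let μ := ProjectiveResolution.lift m (Res I q) (Res I (q + c))
  let φ := Over.mk' I (n := q + c) (n' := q) (by omega)
  let μa : ∀ j, T I q j →ₗ[A] T I (q + c) j := fun j => (μ.f j).hom
  have hμd : ∀ i j x, d I (q + c) i j (μa i x) = μa j (d I q i j x) := fun i j x =>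
    congrArg (fun g => g.hom x) (μ.comm i j)
  have hμ0 : ∀ x, aug I (q + c) (μa 0 x) = m.hom (aug I q x) := fun x =>
    congrArg (fun g => g.hom x) (ProjectiveResolution.lift_commutes_zero m (Res I q) (Res I (q + c)))
  obtain ⟨g1, g0, hg⟩ := exists_null' I (fun j => φ.app j ∘ₗ μa j - a • LinearMap.id) (fun x => by
      obtain ⟨r, hr⟩ := Submodule.Quotient.mk_surjective (I ^ q) (aug I q x)
      rw [LinearMap.sub_apply, map_sub, LinearMap.comp_apply, φ.aug_app, hμ0, LinearMap.smul_apply,
        LinearMap.id_apply, map_smul, ← hr, sub_eq_zero]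
      show Submodule.Quotient.mk (a • r) = a • Submodule.Quotient.mk r
      rw [Submodule.Quotient.mk_smul]) k (fun j _ x => by
      simp only [LinearMap.sub_apply, map_sub, LinearMap.comp_apply, LinearMap.smul_apply, LinearMap.id_apply, map_smul]
      rw [show d I q (j + 1) j (φ.app (j + 1) (μa (j + 1) x)) = φ.app j (d I (q + c) (j + 1) j (μa (j + 1) x)) from
        LinearMap.congr_fun (φ.app_d (j + 1) j) _, hμd])
  set X := (F.mapHomologicalComplex (ComplexShape.down ℕ)).obj (Res I q).complex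
  let e := ((Res I q).isoLeftDerivedObj F (k + 1)).toLinearEquiv
  apply e.injective
  refine Eq.trans (e.map_smul a x) (Eq.trans ?_ (map_zero e).symm)
  obtain ⟨z, hz⟩ := (ModuleCat.epi_iff_surjective (X.homologyπ (k + 1))).1 inferInstance (e x)
  rw [← hz]
  let w : M ⊗[A] T I q (k + 1) := (X.iCycles (k + 1)).hom z
  have hw : (d I q (k + 1) k).lTensor M w = 0 := congrArg (fun t => t.hom z) (X.iCycles_d (k + 1) k)
  obtain ⟨y, hy⟩ := h (q + c) q le_rfl φ M ((μa (k + 1)).lTensor M w) (by
    rw [← LinearMap.comp_apply, ← LinearMap.lTensor_comp,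
      show d I (q + c) (k + 1) k ∘ₗ μa (k + 1) = μa k ∘ₗ d I q (k + 1) k from LinearMap.ext (hμd _ _),
      LinearMap.lTensor_comp, LinearMap.comp_apply, hw, map_zero])
  have e1 := LinearMap.congr_fun (congrArg (LinearMap.lTensor M) hg) w
  simp only [LinearMap.lTensor_sub, LinearMap.sub_apply, LinearMap.lTensor_add, LinearMap.add_apply,
    LinearMap.lTensor_comp, LinearMap.comp_apply, hw, map_zero, add_zero, LinearMap.lTensor_smul,
    LinearMap.smul_apply, LinearMap.lTensor_id, LinearMap.id_apply] at e1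
  have e2 : a • z = (X.toCycles (k + 2) (k + 1)).hom (y - g1.lTensor M w) := by
    refine (ModuleCat.mono_iff_injective (X.iCycles (k + 1))).1 inferInstance ?_
    refine Eq.trans ?_ (congrArg (fun t => t.hom (y - g1.lTensor M w)) (X.toCycles_i (k + 2) (k + 1))).symm
    refine ((X.iCycles (k + 1)).hom.map_smul a z).trans ?_
    show a • w = (d I q (k + 2) (k + 1)).lTensor M (y - g1.lTensor M w)
    rw [map_sub, hy, ← e1, sub_sub_cancel]
  refine ((X.homologyπ (k + 1)).hom.map_smul a z).symm.trans ?_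
  rw [e2]
  exact congrArg (fun t => t.hom (y - g1.lTensor M w)) (X.toCycles_comp_homologyπ (k + 2) (k + 1))

end Apply

end Groth.Agent.CAlgH3.TorTrunc
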