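import Mathlib.CategoryTheory.Monoidal.Tor
import Mathlib.Algebra.Category.ModuleCat.Projective
import Mathlib.Algebra.Category.ModuleCat.Monoidal.Symmetric
import Mathlib.Algebra.Category.ModuleCat.Abelian
import Mathlib.Algebra.Homology.ShortComplex.ModuleCat
import Mathlib.Algebra.Module.FinitePresentation
import Mathlib.LinearAlgebra.TensorProduct.Pi
import Mathlib.LinearAlgebra.TensorProduct.RightExactness
import Mathlib.RingTheory.Flat.Basic
import Mathlib.CategoryTheory.Preadditive.Projective.Resolution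
import Mathlib.Algebra.Category.ModuleCat.EnoughInjectives

/-! Maps killed by `Tor₁` factor through free modules. -/

set_option autoImplicit false
set_option backward.isDefEq.respectTransparency.types false
universe u

open CategoryTheory CategoryTheory.Limits TensorProduct Function

namespace Groth.Agent.CAlgH3.TorZeroFactor

variable {R : Type u} [CommRing R]

theorem mem_range_of_homologyMap_eq_zero {C D : ChainComplex (ModuleCat.{u} R) ℕ} (φ : C ⟶ D)
    (h : HomologicalComplex.homologyMap φ 1 = 0) (z : C.X 1) (hz : (C.d 1 0).hom z = 0) :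
    ∃ y : D.X 2, (D.d 2 1).hom y = (φ.f 1).hom z := by
  let k : ModuleCat.of R R ⟶ C.X 1 := ModuleCat.ofHom (LinearMap.toSpanSingleton R _ z)
  have hk : k ≫ C.d 1 0 = 0 := by
    refine ModuleCat.hom_ext (LinearMap.ext_ring ?_)
    simpa [k] using hz
  let l := C.liftCycles k 0 (by simp) hk
  have h0 : (l ≫ HomologicalComplex.cyclesMap φ 1) ≫ D.homologyπ 1 = 0 := by
    rw [Category.assoc, ← HomologicalComplex.homologyπ_naturality, h, comp_zero, comp_zero]
  have hex := ShortComplex.exact_of_g_is_cokernel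
    (ShortComplex.mk (D.toCycles 2 1) (D.homologyπ 1) (D.toCycles_comp_homologyπ 2 1))
    (D.homologyIsCokernel 2 1 (by simp))
  obtain ⟨y, hy⟩ := (ShortComplex.moduleCat_exact_iff _).1 hex _ (congrArg (fun g => g.hom (1 : R)) h0)
  refine ⟨y, ?_⟩
  have e1 := congrArg (D.iCycles 1).hom hy
  have e2 : (l ≫ HomologicalComplex.cyclesMap φ 1) ≫ D.iCycles 1 = k ≫ φ.f 1 := by
    rw [Category.assoc, HomologicalComplex.cyclesMap_i, ← Category.assoc, HomologicalComplex.liftCycles_i]
  have e3 := congrArg (fun g => g.hom (1 : R)) e2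
  have e4 : (D.iCycles 1).hom ((D.toCycles 2 1).hom y) = (D.d 2 1).hom y :=
    congrArg (fun g => g.hom y) (D.toCycles_i 2 1)
  rw [← e4, e1]
  exact e3.trans (by simp [k])

theorem exists_lift {M M' F : Type u} [AddCommGroup M] [Module R M] [Module.FinitePresentation R M]
    [AddCommGroup M'] [Module R M'] [AddCommGroup F] [Module R F] [Module.Flat R F] (α : M →ₗ[R] M')
    (h : ∀ (N : Type u) [AddCommGroup N] [Module R N],
      ((Tor (ModuleCat.{u} R) 1).map (ModuleCat.ofHom α)).app (ModuleCat.of R N) = 0)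
    (q : F →ₗ[R] M') (hq : Surjective q) : ∃ g : M →ₗ[R] F, α = q ∘ₗ g := by
  let P := LinearMap.ker (α.comp (LinearMap.fst R M F) - q.comp (LinearMap.snd R M F))
  have hP : ∀ x : M × F, x ∈ P ↔ α x.1 = q x.2 := fun x => by simp [P, LinearMap.mem_ker, sub_eq_zero]
  let j : LinearMap.ker q →ₗ[R] P := LinearMap.codRestrict P
    ((LinearMap.inr R M F).comp (LinearMap.ker q).subtype) fun k => (hP _).2 (by simp)
  let π : P →ₗ[R] M := (LinearMap.fst R M F).comp P.subtype
  let σ : P →ₗ[R] F := (LinearMap.snd R M F).comp P.subtype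
  have hπ : Surjective π := fun m => by
    obtain ⟨v, hv⟩ := hq (α m)
    exact ⟨⟨(m, v), (hP _).2 hv.symm⟩, rfl⟩
  have hπσ : α ∘ₗ π = q ∘ₗ σ := LinearMap.ext fun x => (hP _).1 x.2
  have hσj : σ ∘ₗ j = (LinearMap.ker q).subtype := rfl
  have hjπ : Exact j π := fun x => ⟨fun hx => ⟨⟨x.1.2, LinearMap.mem_ker.2 ((hP _).1 x.2 ▸ (by
      rw [show x.1.1 = 0 from hx, map_zero]))⟩, Subtype.ext (Prod.ext (show (0 : M) = x.1.1 from hx.symm) rfl)⟩,
    fun ⟨k, hk⟩ => hk ▸ rfl⟩
  have pure : ∀ (N : Type u) [AddCommGroup N] [Module R N], Injective (j.rTensor N) := by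
    intro N _ _
    let Q := projectiveResolution (ModuleCat.of R N)
    have hN := h N
    let β := (MonoidalCategory.tensoringLeft (ModuleCat.{u} R)).map (ModuleCat.ofHom α)
    have hN' : (NatTrans.leftDerived β 1).app (ModuleCat.of R N) = 0 := hN
    rw [Q.leftDerived_app_eq β 1] at hN'
    have hH : HomologicalComplex.homologyMap ((NatTrans.mapHomologicalComplex β _).app Q.complex) 1 = 0 :=
      (cancel_epi (Q.isoLeftDerivedObj ((MonoidalCategory.tensoringLeft (ModuleCat.{u} R)).obj (ModuleCat.of R M)) 1).hom).1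
        ((cancel_mono (Q.isoLeftDerivedObj ((MonoidalCategory.tensoringLeft (ModuleCat.{u} R)).obj (ModuleCat.of R M')) 1).inv).1
          ((Category.assoc _ _ _).trans (hN'.trans ((congrArg (· ≫ _) comp_zero).trans zero_comp).symm)))
    set d₁ := (Q.complex.d 1 0).hom with hd₁
    set d₂ := (Q.complex.d 2 1).hom with hd₂
    let ε : Q.complex.X 0 →ₗ[R] N := (Q.π.f 0).hom
    have hε : Surjective ε := (ModuleCat.epi_iff_surjective (Q.π.f 0)).1 inferInstance
    have hd : LinearMap.range d₁ = LinearMap.ker ε :=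
      (ShortComplex.exact_of_g_is_cokernel (ShortComplex.mk _ _ Q.complex_d_comp_π_f_zero)
        Q.isColimitCokernelCofork).moduleCat_range_eq_ker
    have hdd : d₁ ∘ₗ d₂ = 0 := congrArg ModuleCat.Hom.hom (Q.complex.d_comp_d 2 1 0)
    have hH' : ∀ z : M ⊗[R] Q.complex.X 1, d₁.lTensor M z = 0 →
        ∃ y : M' ⊗[R] Q.complex.X 2, d₂.lTensor M' y = α.rTensor (Q.complex.X 1) z := fun z hz =>
      mem_range_of_homologyMap_eq_zero _ hH z hz
    haveI : Module.Projective R (Q.complex.X 0) := by
      have := Q.projective 0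
      exact (IsProjective.iff_projective (Q.complex.X 0)).2 this
    rw [injective_iff_map_eq_zero]
    intro x hx
    obtain ⟨x', rfl⟩ := LinearMap.lTensor_surjective (LinearMap.ker q) hε x
    have hεd : Exact d₁ ε := LinearMap.exact_iff.2 hd.symm
    have h1 : ε.lTensor P (j.rTensor _ x') = 0 := by
      rw [← LinearMap.comp_apply, LinearMap.lTensor_comp_rTensor, ← LinearMap.rTensor_comp_lTensor]; exact hx
    obtain ⟨z, hz⟩ := (lTensor_exact P hεd hε _).1 h1
    have h2 : d₁.lTensor M (π.rTensor _ z) = 0 := by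
      rw [← LinearMap.comp_apply, LinearMap.lTensor_comp_rTensor, ← LinearMap.rTensor_comp_lTensor,
        LinearMap.comp_apply, hz, ← LinearMap.comp_apply, ← LinearMap.rTensor_comp, hjπ.linearMap_comp_eq_zero,
        LinearMap.rTensor_zero, LinearMap.zero_apply]
    obtain ⟨y, hy⟩ := hH' _ h2
    have h3 : q.rTensor _ (σ.rTensor _ z) = d₂.lTensor M' y := by
      rw [hy, ← LinearMap.comp_apply, ← LinearMap.rTensor_comp, ← hπσ, LinearMap.rTensor_comp, LinearMap.comp_apply]
    obtain ⟨y', rfl⟩ := LinearMap.rTensor_surjective (Q.complex.X 2) hq y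
    have h4 : q.rTensor _ (σ.rTensor _ z - d₂.lTensor _ y') = 0 := by
      rw [map_sub, h3, ← LinearMap.comp_apply (d₂.lTensor M'), LinearMap.lTensor_comp_rTensor,
        ← LinearMap.rTensor_comp_lTensor, LinearMap.comp_apply, sub_self]
    obtain ⟨w, hw⟩ := (rTensor_exact (Q.complex.X 1) (LinearMap.exact_subtype_ker_map q) hq _).1 h4
    have hinj : Injective ((LinearMap.ker q).subtype.rTensor (Q.complex.X 0)) :=
      Module.Flat.rTensor_preserves_injective_linearMap _ Subtype.val_injective
    have h5 : d₁.lTensor _ w = x' := hinj (by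
      rw [← LinearMap.comp_apply, LinearMap.rTensor_comp_lTensor, ← LinearMap.lTensor_comp_rTensor,
        LinearMap.comp_apply, hw, map_sub, ← LinearMap.comp_apply (d₁.lTensor _) (d₂.lTensor _),
        ← LinearMap.lTensor_comp, hdd, LinearMap.lTensor_zero, LinearMap.zero_apply, sub_zero,
        ← LinearMap.comp_apply (d₁.lTensor _), LinearMap.lTensor_comp_rTensor, ← LinearMap.rTensor_comp_lTensor,
        LinearMap.comp_apply, hz, ← LinearMap.comp_apply, ← LinearMap.rTensor_comp, hσj])
    rw [← h5, ← LinearMap.comp_apply, ← LinearMap.lTensor_comp, hεd.linearMap_comp_eq_zero,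
      LinearMap.lTensor_zero, LinearMap.zero_apply]
  obtain ⟨n, m, f, g, hf, hfg⟩ := Module.FinitePresentation.exists_fin' R M
  classical
  choose v hv using fun i : Fin n => hπ (f (Pi.single i 1))
  let V : (Fin n → R) →ₗ[R] P := (Pi.basisFun R (Fin n)).constr R v
  have hV : π ∘ₗ V = f := (Pi.basisFun R (Fin n)).ext fun i => by
    rw [LinearMap.comp_apply, Module.Basis.constr_basis, hv, Pi.basisFun_apply]
  have hk : ∀ i : Fin m, ∃ k, j k = V (g (Pi.single i 1)) := fun i => (hjπ _).1 (by
    rw [← LinearMap.comp_apply, hV]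
    exact hfg.apply_apply_eq_zero _)
  choose k hk using hk
  let T : (Fin n → R) →ₗ[R] (Fin m → R) := LinearMap.pi fun i => ∑ l, g (Pi.single i 1) l • LinearMap.proj l
  have hT : ∀ l i, T (Pi.single l 1) i = g (Pi.single i 1) l := fun l i => by
    simp [T, Pi.single_apply]
  let N := (Fin m → R) ⧸ LinearMap.range T
  let c : (Fin m → R) →ₗ[R] N := Submodule.mkQ _
  have hsum : ∀ a : Fin m → R, a = ∑ i, a i • (Pi.single i 1 : Fin m → R) := pi_eq_sum_univ' 
  have hVg : ∀ i, V (g (Pi.single i 1)) = ∑ l, g (Pi.single i 1) l • v l := fun i => by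
    simp [V, Module.Basis.constr_apply_fintype, Pi.basisFun_equivFun]
  have h1 : j.rTensor N (∑ i, k i ⊗ₜ c (Pi.single i 1)) = 0 := by
    simp only [map_sum, LinearMap.rTensor_tmul, hk, hVg, TensorProduct.sum_tmul, TensorProduct.smul_tmul, ← map_smul]
    rw [Finset.sum_comm]
    refine Finset.sum_eq_zero fun l _ => ?_
    rw [← TensorProduct.tmul_sum, ← map_sum]
    refine (congrArg (fun t => v l ⊗ₜ[R] t) ?_).trans (TensorProduct.tmul_zero _ _)
    refine (Submodule.Quotient.mk_eq_zero _).2 ⟨Pi.single l 1, ?_⟩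
    refine (hsum _).trans (Finset.sum_congr rfl fun i _ => ?_)
    rw [hT]
  have h2 := pure N (h1.trans (map_zero _).symm)
  obtain ⟨s, hs⟩ := (lTensor_exact (LinearMap.ker q) (LinearMap.exact_map_mkQ_range T) (Submodule.mkQ_surjective _)
    (∑ i, k i ⊗ₜ (Pi.single i 1 : Fin m → R))).1 (by simpa only [map_sum, LinearMap.lTensor_tmul] using h2)
  let ev : ∀ a : ℕ, (LinearMap.ker q) ⊗[R] (Fin a → R) →ₗ[R] (Fin a → LinearMap.ker q) := fun a =>
    TensorProduct.piScalarRightHom R R (LinearMap.ker q) (Fin a)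
  have hev : ∀ (a : ℕ) (x : LinearMap.ker q) (b : Fin a → R) (i : Fin a), ev a (x ⊗ₜ b) i = b i • x :=
    fun a x b i => congrFun (TensorProduct.piScalarRightHom_tmul R R _ _ x b) i
  have hTv : ∀ (t : (LinearMap.ker q) ⊗[R] (Fin n → R)) (i : Fin m),
      ev m (T.lTensor _ t) i = ∑ l, g (Pi.single i 1) l • ev n t l := fun t i => by
    induction t using TensorProduct.induction_on with
    | zero => simp
    | tmul x b => simp [hev, T, Finset.sum_smul, smul_smul]
    | add x y hx hy => simp [hx, hy, smul_add, Finset.sum_add_distrib]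
  let K : (Fin n → R) →ₗ[R] P := j.comp ((Pi.basisFun R (Fin n)).constr R (ev n s))
  have hVK : LinearMap.ker f ≤ LinearMap.ker (V - K) := by
    rw [hfg.linearMap_ker_eq, LinearMap.range_le_ker_iff]
    refine (Pi.basisFun R (Fin m)).ext fun i => ?_
    have e1 := congrArg (fun t => ev m t i) hs
    simp only [hTv, map_sum, Finset.sum_apply, hev] at e1
    rw [Finset.sum_eq_single i (fun b _ hb => by rw [Pi.single_eq_of_ne hb.symm, zero_smul]) (fun h => absurd (Finset.mem_univ i) h),
      Pi.single_eq_same, one_smul] at e1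
    rw [Pi.basisFun_apply, LinearMap.comp_apply, LinearMap.sub_apply, LinearMap.zero_apply, sub_eq_zero, ← hk]
    simp only [K, LinearMap.comp_apply, Module.Basis.constr_apply_fintype, Pi.basisFun_equivFun, LinearEquiv.refl_apply]
    rw [e1]
  let sec : M →ₗ[R] P := (Submodule.liftQ (LinearMap.ker f) (V - K) hVK).comp
    (f.quotKerEquivOfSurjective hf).symm.toLinearMap
  refine ⟨σ ∘ₗ sec, LinearMap.ext fun x => ?_⟩
  obtain ⟨a, rfl⟩ := hf x
  have hsec : sec (f a) = V a - K a := by
    have : (f.quotKerEquivOfSurjective hf).symm (f a) = Submodule.Quotient.mk a := by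
      rw [LinearEquiv.symm_apply_eq]; rfl
    simp [sec, this]
  have : π (sec (f a)) = f a := by
    rw [hsec, map_sub, ← LinearMap.comp_apply π V, hV, ← LinearMap.comp_apply π K]
    show f a - (π ∘ₗ j) _ = f a
    rw [hjπ.linearMap_comp_eq_zero, LinearMap.zero_apply, sub_zero]
  exact (congrArg α this).symm.trans (LinearMap.congr_fun hπσ _)

theorem factors {M M' : Type u} [AddCommGroup M] [Module R M] [Module.FinitePresentation R M]
    [AddCommGroup M'] [Module R M'] (α : M →ₗ[R] M')
    (h : ∀ (N : Type u) [AddCommGroup N] [Module R N],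
      ((Tor (ModuleCat.{u} R) 1).map (ModuleCat.ofHom α)).app (ModuleCat.of R N) = 0) :
    ∃ (ι : Type u) (g : M →ₗ[R] (ι →₀ R)) (q : (ι →₀ R) →ₗ[R] M'), α = q ∘ₗ g := by
  obtain ⟨g, hg⟩ := exists_lift α h (Finsupp.linearCombination R (id : M' → M'))
    fun m => ⟨Finsupp.single m 1, by simp⟩
  exact ⟨M', g, _, hg⟩

end Groth.Agent.CAlgH3.TorZeroFactor
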