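import Groth.Agent.LocCoh.Depth
import Groth.Agent.SiteCoh.ExtAdj
import Mathlib

/-! `Ext` out of power torsion modules is insensitive to flat maps which are isomorphisms modulo the ideal. -/

set_option autoImplicit false
set_option backward.isDefEq.respectTransparency.types false
universe u

open CategoryTheory CategoryTheory.Abelian Limits
open scoped TensorProduct

namespace Groth.Agent.CAlgH3.TorsionFlatExt

attribute [local irreducible] CategoryTheory.Abelian.Ext
set_option maxHeartbeats 400000

variable {A : Type u} [CommRing A]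

/-- all `Ext`s from `M` to `X` vanish -/
def Van (M X : Type u) [AddCommGroup M] [Module A M] [AddCommGroup X] [Module A X] : Prop :=
  ∀ n : ℕ, Subsingleton (Ext (ModuleCat.of A M) (ModuleCat.of A X) n)

section general

variable {M X Y : Type u} [AddCommGroup M] [Module A M] [AddCommGroup X] [Module A X]
  [AddCommGroup Y] [Module A Y]

/-- postcomposition -/
noncomputable def post (g : X →ₗ[A] Y) (n : ℕ) :
    Ext (ModuleCat.of A M) (ModuleCat.of A X) n → Ext (ModuleCat.of A M) (ModuleCat.of A Y) n :=
  fun x => x.comp (Ext.mk₀ (ModuleCat.ofHom g)) (add_zero n)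

theorem post_post {Z : Type u} [AddCommGroup Z] [Module A Z] (g : X →ₗ[A] Y) (h : Y →ₗ[A] Z) (n : ℕ)
    (x : Ext (ModuleCat.of A M) (ModuleCat.of A X) n) : post h n (post g n x) = post (h ∘ₗ g) n x := by
  simp only [post, Ext.comp_assoc_of_third_deg_zero, Ext.mk₀_comp_mk₀]
  rfl

theorem seq_of (ι : X →ₗ[A] Y) {Z : Type u} [AddCommGroup Z] [Module A Z] (π : Y →ₗ[A] Z)
    (hι : Function.Injective ι) (hπ : Function.Surjective π) (hex : Function.Exact ι π) :
    ∃ w, (ShortComplex.mk (ModuleCat.ofHom ι) (ModuleCat.ofHom π) w).ShortExact :=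
  ⟨ModuleCat.hom_ext (LinearMap.ext fun x => hex.apply_apply_eq_zero x),
    { exact := (ShortComplex.ShortExact.moduleCat_exact_iff_function_exact _).2 hex
      mono_f := (ModuleCat.mono_iff_injective _).2 hι
      epi_g := (ModuleCat.epi_iff_surjective _).2 hπ }⟩

theorem post_injective_of_injective (ι : X →ₗ[A] Y) {Z : Type u} [AddCommGroup Z] [Module A Z]
    (π : Y →ₗ[A] Z) (hι : Function.Injective ι) (hπ : Function.Surjective π) (hex : Function.Exact ι π)
    (hZ : Van (A := A) M Z) (n : ℕ) : Function.Injective (post (M := M) ι n) := by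
  obtain ⟨w, hS⟩ := seq_of ι π hι hπ hex
  intro x y hxy
  rw [← sub_eq_zero]
  have h0 : (x - y).comp (Ext.mk₀ (ModuleCat.ofHom ι)) (add_zero n) = 0 := by
    simp only [post] at hxy
    rw [sub_eq_add_neg, Ext.add_comp, Ext.neg_comp, hxy, add_neg_cancel]
  cases n with
  | zero =>
    haveI := hS.mono_f
    exact Ext.postcomp_mk₀_injective_of_mono (ModuleCat.of A M) (ModuleCat.ofHom ι)
      (h0.trans (map_zero ((Ext.mk₀ (ModuleCat.ofHom ι)).postcomp (ModuleCat.of A M) (add_zero 0))).symm)
  | succ k =>
    haveI := hZ k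
    obtain ⟨z, hz⟩ := Ext.covariant_sequence_exact₁ _ hS (x - y) h0 (n₀ := k) rfl
    rw [← hz, Subsingleton.elim (α := Ext (ModuleCat.of A M) (ModuleCat.of A Z) k) z 0, Ext.zero_comp]

theorem post_bijective_of_surjective (π : Y →ₗ[A] X) (hπ : Function.Surjective π)
    (hK : Van (A := A) M (LinearMap.ker π)) (n : ℕ) : Function.Bijective (post (M := M) π n) := by
  obtain ⟨w, hS⟩ := seq_of (LinearMap.ker π).subtype π Subtype.val_injective hπ
    (LinearMap.exact_subtype_ker_map π)
  refine ⟨fun x y hxy => ?_, fun x => ?_⟩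
  · rw [← sub_eq_zero]
    have h0 : (x - y).comp (Ext.mk₀ (ModuleCat.ofHom π)) (add_zero n) = 0 := by
      simp only [post] at hxy
      rw [sub_eq_add_neg, Ext.add_comp, Ext.neg_comp, hxy, add_neg_cancel]
    haveI := hK n
    obtain ⟨z, hz⟩ := Ext.covariant_sequence_exact₂ _ hS (x - y) h0
    rw [← hz, Subsingleton.elim (α := Ext (ModuleCat.of A M) (ModuleCat.of A (LinearMap.ker π)) n) z 0, Ext.zero_comp]
  · haveI := hK (n + 1)
    exact Ext.covariant_sequence_exact₃ _ hS x rfl
      (Subsingleton.elim (α := Ext (ModuleCat.of A M) (ModuleCat.of A (LinearMap.ker π)) (n + 1)) _ _)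

theorem van_ker_rangeRestrict (g : X →ₗ[A] Y) (hK : Van (A := A) M (LinearMap.ker g)) :
    Van (A := A) M (LinearMap.ker g.rangeRestrict) := by
  have h := LinearMap.ker_rangeRestrict g
  rw [h]
  exact hK

theorem range_exact (g : X →ₗ[A] Y) :
    Function.Exact (LinearMap.range g).subtype (LinearMap.range g).mkQ :=
  LinearMap.exact_subtype_mkQ (LinearMap.range g)

theorem post_injective_of_coker (g : X →ₗ[A] Y) (hK : Van (A := A) M (LinearMap.ker g))
    (hC : Van (A := A) M (Y ⧸ LinearMap.range g)) (n : ℕ) : Function.Injective (post (M := M) g n) := by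
  intro x y hxy
  refine (post_bijective_of_surjective (M := M) g.rangeRestrict g.surjective_rangeRestrict
    (van_ker_rangeRestrict g hK) n).1 ?_
  refine post_injective_of_injective (M := M) (LinearMap.range g).subtype (LinearMap.range g).mkQ
    Subtype.val_injective (Submodule.mkQ_surjective _) (range_exact g) hC n ?_
  rw [post_post, post_post, LinearMap.subtype_comp_codRestrict]
  exact hxy

theorem post_bijective_of_ker_coker (g : X →ₗ[A] Y) (hK : Van (A := A) M (LinearMap.ker g))
    (hC : Van (A := A) M (Y ⧸ LinearMap.range g)) (n : ℕ) : Function.Bijective (post (M := M) g n) := by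
  refine ⟨post_injective_of_coker g hK hC n, fun y => ?_⟩
  obtain ⟨w, hS⟩ := seq_of (LinearMap.range g).subtype (LinearMap.range g).mkQ Subtype.val_injective
    (Submodule.mkQ_surjective _)
    (fun y => ⟨fun hy => ⟨⟨y, (Submodule.Quotient.mk_eq_zero _).1 hy⟩, rfl⟩,
      fun ⟨z, hz⟩ => hz ▸ (Submodule.Quotient.mk_eq_zero _).2 z.2⟩)
  haveI := hC n
  obtain ⟨z, hz⟩ := Ext.covariant_sequence_exact₂ _ hS y
    (Subsingleton.elim (α := Ext (ModuleCat.of A M) (ModuleCat.of A (Y ⧸ LinearMap.range g)) n) _ _)
  obtain ⟨x, hx⟩ := (post_bijective_of_surjective (M := M) g.rangeRestrict g.surjective_rangeRestrict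
      (van_ker_rangeRestrict g hK) n).2 z
  exact ⟨x, (post_post g.rangeRestrict (LinearMap.range g).subtype n x).symm.trans
    ((congrArg (post (LinearMap.range g).subtype n) hx).trans hz)⟩

theorem van_of_sandwich {f : A} (hf : ∀ m : M, f • m = 0) (g : X →ₗ[A] Y) (h : Y →ₗ[A] X)
    (hgh : h ∘ₗ g = f • LinearMap.id) (hg : ∀ n, Function.Injective (post (M := M) g n))
    (hh : ∀ n, Function.Injective (post (M := M) h n)) : Van (A := A) M X := fun n => by
  refine subsingleton_of_forall_eq 0 fun x => (hh n).comp (hg n) ?_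
  have h0 : post g n (0 : Ext (ModuleCat.of A M) (ModuleCat.of A X) n) = 0 := Ext.zero_comp ..
  show post h n (post g n x) = post h n (post g n 0)
  rw [post_post, h0, hgh]
  refine Eq.trans ?_ (Ext.zero_comp ..).symm
  show x.comp (Ext.mk₀ (ModuleCat.ofHom (f • LinearMap.id))) (add_zero n) = 0
  rw [show ModuleCat.ofHom (f • LinearMap.id : X →ₗ[A] X) = f • 𝟙 (ModuleCat.of A X) from rfl,
    ← Ext.smul_eq_comp_mk₀]
  exact Groth.Agent.LocCoh.ext_smul_eq_zero_left hf x

theorem van_range (g : X →ₗ[A] Y) (hX : Van (A := A) M X) (hK : Van (A := A) M (LinearMap.ker g)) :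
    Van (A := A) M (LinearMap.range g) := fun n => by
  haveI := hX n
  exact ((Equiv.ofBijective _ (post_bijective_of_surjective (M := M) g.rangeRestrict
    g.surjective_rangeRestrict (van_ker_rangeRestrict g hK) n))).symm.subsingleton

end general

section flat

variable {B : Type u} [CommRing B] [Algebra A B]

/-- the unit -/
noncomputable def η (N : Type u) [AddCommGroup N] [Module A N] : N →ₗ[A] B ⊗[A] N :=
  TensorProduct.mk A B N 1

/-- its cokernel -/
abbrev Qc (N : Type u) [AddCommGroup N] [Module A N] : Type u :=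
  (B ⊗[A] N) ⧸ LinearMap.range (η (A := A) (B := B) N)

variable {N N' : Type u} [AddCommGroup N] [Module A N] [AddCommGroup N'] [Module A N']

/-- functoriality of the cokernel -/
noncomputable def qmap (g : N →ₗ[A] N') : Qc (A := A) (B := B) N →ₗ[A] Qc (A := A) (B := B) N' :=
  Submodule.mapQ _ _ (g.lTensor B) (by
    rintro _ ⟨n, rfl⟩
    exact ⟨g n, rfl⟩)

theorem qmap_comp {N'' : Type u} [AddCommGroup N''] [Module A N''] (g : N →ₗ[A] N') (h : N' →ₗ[A] N'') :
    qmap (B := B) h ∘ₗ qmap g = qmap (h ∘ₗ g) :=
  Submodule.linearMap_qext _ (LinearMap.ext fun x => by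
    show Submodule.Quotient.mk (h.lTensor B (g.lTensor B x)) = Submodule.Quotient.mk ((h ∘ₗ g).lTensor B x)
    rw [← LinearMap.lTensor_comp_apply])

theorem qmap_smul (f : A) : qmap (B := B) (f • LinearMap.id : N →ₗ[A] N) = f • LinearMap.id :=
  Submodule.linearMap_qext _ (LinearMap.ext fun x => by
    show Submodule.Quotient.mk ((f • LinearMap.id : N →ₗ[A] N).lTensor B x) = _
    rw [LinearMap.lTensor_smul, LinearMap.lTensor_id]
    rfl)

theorem qmap_surjective {g : N →ₗ[A] N'} (hg : Function.Surjective g) :
    Function.Surjective (qmap (B := B) g) := fun y => by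
  obtain ⟨y, rfl⟩ := Submodule.Quotient.mk_surjective _ y
  obtain ⟨x, rfl⟩ := LinearMap.lTensor_surjective B hg y
  exact ⟨Submodule.Quotient.mk x, rfl⟩

/-- the multiplication -/
noncomputable def μ (N : Type u) [AddCommGroup N] [Module A N] : B ⊗[A] (B ⊗[A] N) →ₗ[A] B ⊗[A] N :=
  (LinearMap.liftBaseChange B (LinearMap.id : B ⊗[A] N →ₗ[A] B ⊗[A] N)).restrictScalars A

theorem μ_η (x : B ⊗[A] N) : μ (A := A) (B := B) N ((η (A := A) (B := B) N).lTensor B x) = x := by
  induction x using TensorProduct.induction_on with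
  | zero => simp
  | tmul b n => simp [μ, η, TensorProduct.smul_tmul']
  | add x y hx hy => rw [map_add, map_add, hx, hy]

theorem μ_natural (g : N →ₗ[A] N') (x : B ⊗[A] (B ⊗[A] N)) :
    μ N' ((g.lTensor B).lTensor B x) = g.lTensor B (μ N x) := by
  induction x using TensorProduct.induction_on with
  | zero => simp
  | tmul b y =>
    induction y using TensorProduct.induction_on with
    | zero => simp
    | tmul c n => simp [μ, TensorProduct.smul_tmul']
    | add y z hy hz => rw [TensorProduct.tmul_add, map_add, map_add, hy, hz, map_add, map_add]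
  | add x y hx hy => rw [map_add, map_add, hx, hy, map_add, map_add]

theorem η_lTensor_natural (g : N →ₗ[A] N') (x : B ⊗[A] N) :
    (η (B := B) N').lTensor B (g.lTensor B x) = (g.lTensor B).lTensor B ((η (B := B) N).lTensor B x) := by
  rw [← LinearMap.lTensor_comp_apply, ← LinearMap.lTensor_comp_apply]
  rfl

/-- killed by base change -/
def Z (X : Type u) [AddCommGroup X] [Module A X] : Prop := ∀ x : B ⊗[A] X, x = 0

variable [Module.Flat A B]

theorem Z.of_injective {X Y : Type u} [AddCommGroup X] [Module A X] [AddCommGroup Y] [Module A Y]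
    (h : Z (A := A) (B := B) Y) (g : X →ₗ[A] Y) (hg : Function.Injective g) : Z (A := A) (B := B) X :=
  fun x => Module.Flat.lTensor_preserves_injective_linearMap (M := B) g hg ((h _).trans (map_zero _).symm)

omit [Module.Flat A B] in
theorem Z.of_surjective {X Y : Type u} [AddCommGroup X] [Module A X] [AddCommGroup Y] [Module A Y]
    (h : Z (A := A) (B := B) X) (g : X →ₗ[A] Y) (hg : Function.Surjective g) : Z (A := A) (B := B) Y :=
  fun y => by
    obtain ⟨x, rfl⟩ := LinearMap.lTensor_surjective B hg y
    rw [h x, map_zero]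

theorem Z_ker_η : Z (A := A) (B := B) (LinearMap.ker (η (A := A) (B := B) N)) := fun x => by
  refine Module.Flat.lTensor_preserves_injective_linearMap (M := B) (LinearMap.ker (η (A := A) (B := B) N)).subtype Subtype.val_injective ?_
  have h0 : η (A := A) (B := B) N ∘ₗ (LinearMap.ker (η (A := A) (B := B) N)).subtype = 0 := LinearMap.ext fun y => y.2
  have h1 : (η (A := A) (B := B) N).lTensor B
      ((LinearMap.ker (η (A := A) (B := B) N)).subtype.lTensor B x) = 0 := by
    rw [← LinearMap.lTensor_comp_apply, h0, LinearMap.lTensor_zero, LinearMap.zero_apply]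
  have h2 := congrArg (μ (A := A) (B := B) N) h1
  rw [μ_η, map_zero] at h2
  exact h2.trans (map_zero _).symm

theorem lTensor_qmap_injective {g : N →ₗ[A] N'} (hg : Function.Injective g) :
    Function.Injective ((qmap (B := B) g).lTensor B) := by
  refine (injective_iff_map_eq_zero _).2 fun x hx => ?_
  obtain ⟨y, rfl⟩ := LinearMap.lTensor_surjective B (Submodule.mkQ_surjective (LinearMap.range (η (A := A) (B := B) N))) x
  set y' := y - (η (B := B) N).lTensor B (μ N y) with hy'
  have hmk : ∀ (M : Type u) [AddCommGroup M] [Module A M] (t : B ⊗[A] M),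
      (LinearMap.range (η (A := A) (B := B) M)).mkQ.lTensor B ((η (B := B) M).lTensor B t) = 0 :=
    fun M _ _ t => by
      rw [← LinearMap.lTensor_comp_apply, show (LinearMap.range (η (A := A) (B := B) M)).mkQ ∘ₗ η (B := B) M = 0 from
        LinearMap.ext fun z => (Submodule.Quotient.mk_eq_zero _).2 ⟨z, rfl⟩, LinearMap.lTensor_zero, LinearMap.zero_apply]
  have e : (LinearMap.range (η (A := A) (B := B) N)).mkQ.lTensor B y' =
      (LinearMap.range (η (A := A) (B := B) N)).mkQ.lTensor B y := by
    rw [hy', map_sub, hmk, sub_zero]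
  have hμ : μ N y' = 0 := by rw [hy', map_sub, μ_η, sub_self]
  rw [← e] at hx ⊢
  suffices (g.lTensor B).lTensor B y' = 0 by
    rw [Module.Flat.lTensor_preserves_injective_linearMap (M := B) _
      (Module.Flat.lTensor_preserves_injective_linearMap (M := B) g hg) (this.trans (map_zero _).symm), map_zero]
  have hx' : (LinearMap.range (η (A := A) (B := B) N')).mkQ.lTensor B ((g.lTensor B).lTensor B y') = 0 := by
    rw [← LinearMap.lTensor_comp_apply] at hx ⊢
    exact hx
  obtain ⟨t, ht⟩ := (lTensor_exact B (LinearMap.exact_map_mkQ_range (η (A := A) (B := B) N'))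
    (Submodule.mkQ_surjective _) _).1 hx'
  have h1 := congrArg (μ N') ht
  rw [μ_η, μ_natural, hμ, map_zero] at h1
  rw [← ht, h1, map_zero]

theorem Z_ker_qmap {g : N →ₗ[A] N'} (hg : Function.Injective g) :
    Z (A := A) (B := B) (LinearMap.ker (qmap (B := B) g)) := fun x => by
  refine Module.Flat.lTensor_preserves_injective_linearMap (M := B) (LinearMap.ker (qmap (A := A) (B := B) g)).subtype Subtype.val_injective ?_
  refine ((lTensor_qmap_injective hg) ?_).trans (map_zero _).symm
  rw [map_zero, ← LinearMap.lTensor_comp_apply,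
    show qmap (B := B) g ∘ₗ (LinearMap.ker (qmap (B := B) g)).subtype = 0 from LinearMap.ext fun y => y.2,
    LinearMap.lTensor_zero, LinearMap.zero_apply]

variable {I : Ideal A} (M : Type u) [AddCommGroup M] [Module A M] (hM : ∀ a ∈ I, ∀ m : M, a • m = 0)
  (s : Finset A) (hs : Ideal.span (s : Set A) = I)
  (hsurj : Function.Surjective ((Ideal.Quotient.mk (I.map (algebraMap A B))).comp (algebraMap A B)))
  (hker : RingHom.ker ((Ideal.Quotient.mk (I.map (algebraMap A B))).comp (algebraMap A B)) = I)

omit [Module.Flat A B] in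
include hsurj in
theorem η_surjective_of_killed {X : Type u} [AddCommGroup X] [Module A X] (hX : ∀ a ∈ I, ∀ x : X, a • x = 0) :
    Function.Surjective (η (A := A) (B := B) X) := fun y => by
  induction y using TensorProduct.induction_on with
  | zero => exact ⟨0, map_zero _⟩
  | add y z hy hz =>
    obtain ⟨a, rfl⟩ := hy
    obtain ⟨b, rfl⟩ := hz
    exact ⟨a + b, map_add _ _ _⟩
  | tmul b x =>
    obtain ⟨a, ha⟩ := hsurj (Ideal.Quotient.mk _ b)
    refine ⟨a • x, ?_⟩
    have hb : b - algebraMap A B a ∈ I.map (algebraMap A B) := Ideal.Quotient.eq.1 ha.symm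
    have h0 : ∀ c ∈ I.map (algebraMap A B), c ⊗ₜ[A] x = 0 := by
      intro c hc
      rw [Ideal.map] at hc
      induction hc using Submodule.span_induction with
      | mem c hc =>
        obtain ⟨i, hi, rfl⟩ := hc
        rw [Algebra.algebraMap_eq_smul_one, TensorProduct.smul_tmul, hX i hi x, TensorProduct.tmul_zero]
      | zero => exact TensorProduct.zero_tmul _ _
      | add c d _ _ hc hd => rw [TensorProduct.add_tmul, hc, hd, add_zero]
      | smul r c _ hc =>
        have h2 := congrArg (fun t : B ⊗[A] X => r • t) hc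
        simpa [TensorProduct.smul_tmul'] using h2
    have h1 := h0 _ hb
    rw [TensorProduct.sub_tmul, sub_eq_zero] at h1
    rw [h1, Algebra.algebraMap_eq_smul_one, TensorProduct.smul_tmul]
    rfl

omit [Module.Flat A B] in
include hsurj hker in
theorem η_injective_of_killed {X : Type u} [AddCommGroup X] [Module A X] (hX : ∀ a ∈ I, ∀ x : X, a • x = 0) :
    Function.Injective (η (A := A) (B := B) X) := by
  let φ : A ⧸ I →ₐ[A] B ⧸ I.map (algebraMap A B) := Ideal.quotientMapₐ _ (Algebra.ofId A B) Ideal.le_comap_map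
  have hφ : Function.Bijective φ := by
    refine ⟨(injective_iff_map_eq_zero φ).2 fun x hx => ?_, fun y => ?_⟩
    · obtain ⟨a, rfl⟩ := Ideal.Quotient.mk_surjective x
      exact Ideal.Quotient.eq_zero_iff_mem.2 (hker.le (RingHom.mem_ker.2 hx))
    · obtain ⟨a, ha⟩ := hsurj y
      exact ⟨Ideal.Quotient.mk I a, ha⟩
  let e := AlgEquiv.ofBijective φ hφ
  let r : B →ₗ[A] A ⧸ I := e.symm.toLinearMap ∘ₗ (Ideal.Quotient.mkₐ A (I.map (algebraMap A B))).toLinearMap
  refine (injective_iff_map_eq_zero _).2 fun x hx => ?_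
  have h1 : r 1 = Submodule.Quotient.mk (1 : A) := by
    show e.symm (1 : B ⧸ I.map (algebraMap A B)) = _
    rw [map_one]; rfl
  have h2 := congrArg (fun t => TensorProduct.quotTensorEquivQuotSMul X I (r.rTensor X t)) hx
  simp only [η, TensorProduct.mk_apply, LinearMap.rTensor_tmul, h1, map_zero] at h2
  erw [TensorProduct.quotTensorEquivQuotSMul_mk_tmul] at h2
  rw [one_smul, Submodule.Quotient.mk_eq_zero] at h2
  have h3 : I • (⊤ : Submodule A X) = ⊥ := eq_bot_iff.2 (Submodule.smul_le.2 fun a ha y _ => hX a ha y)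
  rwa [h3, Submodule.mem_bot] at h2

include hM hs hsurj hker in
theorem van_Z : ∀ (t : Finset A) (X : Type u) [AddCommGroup X] [Module A X], t ⊆ s →
    (∀ g ∈ s, g ∉ t → ∀ x : X, g • x = 0) → Z (A := A) (B := B) X → Van (A := A) M X := by
  classical
  intro t
  induction t using Finset.induction with
  | empty =>
    intro X _ _ _ hX hZ n
    have hk : ∀ a ∈ I, ∀ x : X, a • x = 0 := fun a ha x => by
      rw [← hs] at ha
      induction ha using Submodule.span_induction with
      | mem g hg => exact hX g hg (Finset.notMem_empty g) x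
      | zero => exact zero_smul _ _
      | add a b _ _ ha hb => rw [add_smul, ha, hb, add_zero]
      | smul r a _ ha => rw [smul_eq_mul, mul_smul, ha, smul_zero]
    haveI : Subsingleton X := ⟨fun x y => η_injective_of_killed hsurj hker hk ((hZ _).trans (hZ _).symm)⟩
    haveI : Limits.IsZero (ModuleCat.of A X) := ModuleCat.isZero_of_subsingleton _
    exact subsingleton_of_forall_eq 0 fun e => by
      have h0 : (𝟙 (ModuleCat.of A X)) = 0 := ‹Limits.IsZero (ModuleCat.of A X)›.eq_of_src _ _
      rw [← Ext.comp_mk₀_id e, h0, Ext.mk₀_zero, Ext.comp_zero]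
  | insert f t hft ih =>
    intro X _ _ hts hX hZ
    have hfI : f ∈ I := hs ▸ Ideal.subset_span (hts (Finset.mem_insert_self f t))
    have hts' : t ⊆ s := fun a ha => hts (Finset.mem_insert_of_mem ha)
    let m : X →ₗ[A] X := f • LinearMap.id
    have hkill : ∀ {Y : Type u} [AddCommGroup Y] [Module A Y],
        (∀ g ∈ s, g ∉ insert f t → ∀ y : Y, g • y = 0) → (∀ y : Y, f • y = 0) →
        ∀ g ∈ s, g ∉ t → ∀ y : Y, g • y = 0 := fun h1 h2 g hg hgt y => by
      by_cases hgf : g = f
      · exact hgf ▸ h2 y
      · exact h1 g hg (by simp [hgt, hgf]) y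
    have hK : Van (A := A) M (LinearMap.ker m) := ih _ hts'
      (hkill (fun g hg hgt y => Subtype.ext (hX g hg hgt y.1)) fun y => Subtype.ext y.2)
      (hZ.of_injective (LinearMap.ker m).subtype Subtype.val_injective)
    have hC : Van (A := A) M (X ⧸ LinearMap.range m) := ih _ hts'
      (hkill (fun g hg hgt y => by
          obtain ⟨x, rfl⟩ := Submodule.Quotient.mk_surjective _ y
          rw [← Submodule.Quotient.mk_smul, hX g hg hgt x, Submodule.Quotient.mk_zero])
        fun y => by
          obtain ⟨x, rfl⟩ := Submodule.Quotient.mk_surjective _ y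
          rw [← Submodule.Quotient.mk_smul]
          exact (Submodule.Quotient.mk_eq_zero _).2 ⟨x, rfl⟩)
      (hZ.of_surjective _ (Submodule.mkQ_surjective _))
    exact van_of_sandwich (hM f hfI) m.rangeRestrict (LinearMap.range m).subtype rfl
      (fun n => (post_bijective_of_surjective _ m.surjective_rangeRestrict
        (van_ker_rangeRestrict m hK) n).1)
      (post_injective_of_injective _ (LinearMap.range m).mkQ Subtype.val_injective (Submodule.mkQ_surjective _)
        (fun y => ⟨fun hy => ⟨⟨y, (Submodule.Quotient.mk_eq_zero _).1 hy⟩, rfl⟩,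
          fun ⟨z, hz⟩ => hz ▸ (Submodule.Quotient.mk_eq_zero _).2 z.2⟩) hC)

include hM hs hsurj hker in
theorem van_Qc : ∀ (t : Finset A) (X : Type u) [AddCommGroup X] [Module A X], t ⊆ s →
    (∀ g ∈ s, g ∉ t → ∀ x : X, g • x = 0) → Van (A := A) M (Qc (A := A) (B := B) X) := by
  classical
  have hz : ∀ (Y : Type u) [AddCommGroup Y] [Module A Y], Z (A := A) (B := B) Y → Van (A := A) M Y :=
    fun Y _ _ hY => van_Z M hM s hs hsurj hker s Y subset_rfl (fun g hg hg' => absurd hg hg') hY
  intro t
  induction t using Finset.induction with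
  | empty =>
    intro X _ _ _ hX n
    have hk : ∀ a ∈ I, ∀ x : X, a • x = 0 := fun a ha x => by
      rw [← hs] at ha
      induction ha using Submodule.span_induction with
      | mem g hg => exact hX g hg (Finset.notMem_empty g) x
      | zero => exact zero_smul _ _
      | add a b _ _ ha hb => rw [add_smul, ha, hb, add_zero]
      | smul r a _ ha => rw [smul_eq_mul, mul_smul, ha, smul_zero]
    haveI : Subsingleton (Qc (A := A) (B := B) X) := Submodule.Quotient.subsingleton_iff.2
      (LinearMap.range_eq_top.2 (η_surjective_of_killed hsurj hk))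
    haveI : Limits.IsZero (ModuleCat.of A (Qc (A := A) (B := B) X)) := ModuleCat.isZero_of_subsingleton _
    exact subsingleton_of_forall_eq 0 fun e => by
      have h0 : (𝟙 (ModuleCat.of A (Qc (A := A) (B := B) X))) = 0 :=
        ‹Limits.IsZero (ModuleCat.of A (Qc (A := A) (B := B) X))›.eq_of_src _ _
      rw [← Ext.comp_mk₀_id e, h0, Ext.mk₀_zero, Ext.comp_zero]
  | insert f t hft ih =>
    intro X _ _ hts hX
    have hfI : f ∈ I := hs ▸ Ideal.subset_span (hts (Finset.mem_insert_self f t))
    have hts' : t ⊆ s := fun a ha => hts (Finset.mem_insert_of_mem ha)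
    let m : X →ₗ[A] X := f • LinearMap.id
    have hkill : ∀ {Y : Type u} [AddCommGroup Y] [Module A Y],
        (∀ g ∈ s, g ∉ insert f t → ∀ y : Y, g • y = 0) → (∀ y : Y, f • y = 0) →
        ∀ g ∈ s, g ∉ t → ∀ y : Y, g • y = 0 := fun h1 h2 g hg hgt y => by
      by_cases hgf : g = f
      · exact hgf ▸ h2 y
      · exact h1 g hg (by simp [hgt, hgf]) y
    have hQK : Van (A := A) M (Qc (A := A) (B := B) (LinearMap.ker m)) := ih _ hts'
      (hkill (fun g hg hgt y => Subtype.ext (hX g hg hgt y.1)) fun y => Subtype.ext y.2)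
    have hQC : Van (A := A) M (Qc (A := A) (B := B) (X ⧸ LinearMap.range m)) := ih _ hts'
      (hkill (fun g hg hgt y => by
          obtain ⟨x, rfl⟩ := Submodule.Quotient.mk_surjective _ y
          rw [← Submodule.Quotient.mk_smul, hX g hg hgt x, Submodule.Quotient.mk_zero])
        fun y => by
          obtain ⟨x, rfl⟩ := Submodule.Quotient.mk_surjective _ y
          rw [← Submodule.Quotient.mk_smul]
          exact (Submodule.Quotient.mk_eq_zero _).2 ⟨x, rfl⟩)
    let g : Qc (A := A) (B := B) X →ₗ[A] Qc (A := A) (B := B) (LinearMap.range m) := qmap m.rangeRestrict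
    let h : Qc (A := A) (B := B) (LinearMap.range m) →ₗ[A] Qc (A := A) (B := B) X :=
      qmap (LinearMap.range m).subtype
    refine van_of_sandwich (hM f hfI) g h ?_ (fun n => ?_) fun n => ?_
    · rw [qmap_comp]; exact qmap_smul f
    · -- the kernel is a quotient of the cokernel attached to the kernel
      refine (post_bijective_of_surjective g (qmap_surjective m.surjective_rangeRestrict) ?_ n).1
      have hle : LinearMap.range (qmap (B := B) (LinearMap.ker m).subtype) = LinearMap.ker g := by
        refine le_antisymm ?_ fun x hx => ?_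
        · rintro _ ⟨x, rfl⟩
          show (g ∘ₗ qmap (B := B) (LinearMap.ker m).subtype) x = 0
          rw [qmap_comp, show m.rangeRestrict ∘ₗ (LinearMap.ker m).subtype = 0 from
            LinearMap.ext fun y => Subtype.ext y.2]
          obtain ⟨x, rfl⟩ := Submodule.Quotient.mk_surjective _ x
          show Submodule.Quotient.mk (LinearMap.lTensor B 0 x) = _
          rw [LinearMap.lTensor_zero]; rfl
        · obtain ⟨x, rfl⟩ := Submodule.Quotient.mk_surjective _ x
          obtain ⟨y, hy⟩ := (Submodule.Quotient.mk_eq_zero _).1 hx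
          obtain ⟨z, rfl⟩ := m.surjective_rangeRestrict y
          have hd : m.rangeRestrict.lTensor B (x - η (B := B) X z) = 0 := by
            rw [map_sub, ← hy]; exact sub_self _
          obtain ⟨w, hw⟩ := (lTensor_exact B (by
            intro v
            exact ⟨fun hv => ⟨⟨v, congrArg Subtype.val hv⟩, rfl⟩, fun ⟨v', hv'⟩ => hv' ▸ Subtype.ext v'.2⟩ :
            Function.Exact (LinearMap.ker m).subtype m.rangeRestrict) m.surjective_rangeRestrict _).1 hd
          refine ⟨Submodule.Quotient.mk w, ?_⟩
          show Submodule.Quotient.mk _ = _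
          rw [hw, Submodule.Quotient.eq, sub_sub_cancel_left]
          exact neg_mem ⟨z, rfl⟩
      rw [← hle]
      exact van_range _ hQK (hz _ (Z_ker_qmap Subtype.val_injective))
    · refine post_injective_of_coker h (hz _ (Z_ker_qmap Subtype.val_injective)) ?_ n
      have hle : LinearMap.ker (qmap (B := B) (LinearMap.range m).mkQ) = LinearMap.range h := by
        refine le_antisymm (fun x hx => ?_) ?_
        · obtain ⟨x, rfl⟩ := Submodule.Quotient.mk_surjective _ x
          obtain ⟨y, hy⟩ := (Submodule.Quotient.mk_eq_zero _).1 hx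
          obtain ⟨z, rfl⟩ := Submodule.mkQ_surjective _ y
          have hd : (LinearMap.range m).mkQ.lTensor B (x - η (B := B) X z) = 0 := by
            rw [map_sub, ← hy]; exact sub_self _
          obtain ⟨w, hw⟩ := (lTensor_exact B (LinearMap.exact_subtype_mkQ (LinearMap.range m))
            (Submodule.mkQ_surjective _) _).1 hd
          refine ⟨Submodule.Quotient.mk w, ?_⟩
          show Submodule.Quotient.mk _ = _
          rw [hw, Submodule.Quotient.eq, sub_sub_cancel_left]
          exact neg_mem ⟨z, rfl⟩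
        · rintro _ ⟨x, rfl⟩
          show (qmap (B := B) (LinearMap.range m).mkQ ∘ₗ h) x = 0
          rw [qmap_comp, show (LinearMap.range m).mkQ ∘ₗ (LinearMap.range m).subtype = 0 from
            LinearMap.ext fun y => (Submodule.Quotient.mk_eq_zero _).2 y.2]
          obtain ⟨x, rfl⟩ := Submodule.Quotient.mk_surjective _ x
          show Submodule.Quotient.mk (LinearMap.lTensor B 0 x) = _
          rw [LinearMap.lTensor_zero]; rfl
      intro k
      let e := (Submodule.quotEquivOfEq _ _ hle.symm).trans
        (LinearMap.quotKerEquivOfSurjective _ (qmap_surjective (B := B) (Submodule.mkQ_surjective (LinearMap.range m))))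
      haveI := hQC k
      refine subsingleton_of_forall_eq 0 fun x => ?_
      have h2 : post e.symm.toLinearMap k (post e.toLinearMap k x) = x := by
        rw [post_post, LinearEquiv.symm_comp]
        exact Ext.comp_mk₀_id x
      rw [← h2, Subsingleton.elim (α := Ext (ModuleCat.of A M) (ModuleCat.of A (Qc (A := A) (B := B) (X ⧸ LinearMap.range m))) k)
        (post e.toLinearMap k x) 0]
      exact Ext.zero_comp ..

include hM hs hsurj hker in
theorem van_ker_coker (N : Type u) [AddCommGroup N] [Module A N] :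
    Van (A := A) M (LinearMap.ker (η (A := A) (B := B) N)) ∧ Van (A := A) M (Qc (A := A) (B := B) N) :=
  ⟨van_Z M hM s hs hsurj hker s _ subset_rfl (fun g hg hg' => absurd hg hg') Z_ker_η,
    van_Qc M hM s hs hsurj hker s _ subset_rfl fun g hg hg' => absurd hg hg'⟩

end flat

end Groth.Agent.CAlgH3.TorsionFlatExt
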