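import Groth.Agent.CAlgH3.TorsionFlatExt
import Groth.Agent.LocCoh.Local
import Groth.Prelude.Def_Wider
import Mathlib.Algebra.Category.ModuleCat.Descent
import Mathlib

/-! Flat base change of `Ext` out of power torsion modules, as morphisms in the derived category. -/

set_option autoImplicit false
set_option backward.isDefEq.respectTransparency.types false
universe u

open CategoryTheory CategoryTheory.Abelian Limits
open scoped TensorProduct

namespace Groth.Agent.CAlgH3.TorsionFlatExtMain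

open TorsionFlatExt

attribute [local irreducible] CategoryTheory.Abelian.Ext

variable {A : Type u} [CommRing A]

section union

variable {M : Type u} [AddCommGroup M] [Module A M] (F : ℕ → Submodule A M) (hF : Monotone F)
  (hexh : ∀ m, ∃ k, m ∈ F k)

/-- `Ext^{≥1}` from each step vanishes and maps from the steps extend. -/
def Acyc (Y : Type u) [AddCommGroup Y] [Module A Y] : Prop :=
  (∀ (k n : ℕ), Subsingleton (Ext (ModuleCat.of A (F k)) (ModuleCat.of A Y) (n + 1))) ∧
    ∀ (k : ℕ) (φ : F k →ₗ[A] Y), ∃ ψ : F (k + 1) →ₗ[A] Y, ∀ x (hx : x ∈ F k) (hx' : x ∈ F (k + 1)),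
      ψ ⟨x, hx'⟩ = φ ⟨x, hx⟩

include hF hexh in
theorem glue {Y : Type u} [AddCommGroup Y] [Module A Y] (g : ∀ k, F k →ₗ[A] Y)
    (hg : ∀ k x (hx : x ∈ F k) (hx' : x ∈ F (k + 1)), g (k + 1) ⟨x, hx'⟩ = g k ⟨x, hx⟩) :
    ∃ G : M →ₗ[A] Y, ∀ k (x : F k), G x = g k x := by
  have hgl : ∀ {k l} (h : k ≤ l) x (hx : x ∈ F k), g l ⟨x, hF h hx⟩ = g k ⟨x, hx⟩ := fun {k l} h x hx => by
    induction h with
    | refl => rfl
    | step h ih => exact (hg _ x (hF h hx) _).trans ih
  choose K hK using hexh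
  have key : ∀ x k (hx : x ∈ F k), g (K x) ⟨x, hK x⟩ = g k ⟨x, hx⟩ := fun x k hx =>
    (hgl (le_max_left (K x) k) x (hK x)).symm.trans (hgl (le_max_right (K x) k) x hx)
  refine ⟨{ toFun := fun x => g (K x) ⟨x, hK x⟩, map_add' := fun x y => ?_, map_smul' := fun r x => ?_ },
    fun k x => key x k x.2⟩
  · have hx := hF (le_max_left (K x) (K y)) (hK x)
    have hy := hF (le_max_right (K x) (K y)) (hK y)
    rw [key (x + y) _ (add_mem hx hy), key x _ hx, key y _ hy, ← map_add]
    rfl
  · rw [key (r • x) _ (Submodule.smul_mem _ r (hK x)), RingHom.id_apply, ← map_smul]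
    rfl

include hF hexh in
theorem exists_lift {Y E Z : Type u} [AddCommGroup Y] [Module A Y] [AddCommGroup E] [Module A E]
    [AddCommGroup Z] [Module A Z] (hY : Acyc F Y) (ι : Y →ₗ[A] E) (π : E →ₗ[A] Z)
    (hι : Function.Injective ι) (hπ : Function.Surjective π) (hex : Function.Exact ι π) (φ : M →ₗ[A] Z) :
    ∃ ψ : M →ₗ[A] E, π ∘ₗ ψ = φ := by
  obtain ⟨w, hS⟩ := seq_of ι π hι hπ hex
  have hlift : ∀ k, ∃ g : F k →ₗ[A] E, ∀ x, π (g x) = φ x := fun k => by
    haveI := hY.1 k 0
    obtain ⟨x, hx⟩ := Ext.covariant_sequence_exact₃ (ModuleCat.of A (F k)) hS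
      (Ext.mk₀ (ModuleCat.ofHom (φ ∘ₗ (F k).subtype))) rfl (Subsingleton.elim _ _)
    obtain ⟨g, rfl⟩ := (Ext.mk₀_bijective _ _).2 x
    rw [Ext.mk₀_comp_mk₀] at hx
    exact ⟨g.hom, fun z => LinearMap.congr_fun (congrArg ModuleCat.Hom.hom ((Ext.mk₀_bijective _ _).1 hx)) z⟩
  choose g₀ hg₀ using hlift
  have step : ∀ k (g : F k →ₗ[A] E), (∀ x, π (g x) = φ x) → ∃ g' : F (k + 1) →ₗ[A] E,
      (∀ x, π (g' x) = φ x) ∧ ∀ x (hx : x ∈ F k) (hx' : x ∈ F (k + 1)), g' ⟨x, hx'⟩ = g ⟨x, hx⟩ := fun k g hg => by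
    let d : F k →ₗ[A] E := g - g₀ (k + 1) ∘ₗ Submodule.inclusion (hF (Nat.le_succ k))
    have hd : ∀ x, π (d x) = 0 := fun x => by
      simp only [d, LinearMap.sub_apply, map_sub, hg, LinearMap.comp_apply, hg₀]
      exact sub_self _
    choose y hy using fun x => (hex (d x)).1 (hd x)
    let δ : F k →ₗ[A] Y :=
      { toFun := y
        map_add' := fun a b => hι (by rw [hy, map_add, map_add, hy, hy])
        map_smul' := fun r a => hι (by rw [hy, map_smul, RingHom.id_apply, map_smul, hy]) }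
    obtain ⟨ψ, hψ⟩ := hY.2 k δ
    refine ⟨g₀ (k + 1) + ι ∘ₗ ψ, fun x => ?_, fun x hx hx' => ?_⟩
    · rw [LinearMap.add_apply, map_add, LinearMap.comp_apply, hex.apply_apply_eq_zero, add_zero, hg₀]
    · rw [LinearMap.add_apply, LinearMap.comp_apply, hψ x hx hx', show ι (δ ⟨x, hx⟩) = d ⟨x, hx⟩ from hy _]
      simp only [d, LinearMap.sub_apply, LinearMap.comp_apply]
      exact add_sub_cancel _ _
  choose nx hnx hnx' using step
  let g : ∀ k, {g : F k →ₗ[A] E // ∀ x, π (g x) = φ x} :=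
    fun k => Nat.rec ⟨g₀ 0, hg₀ 0⟩ (fun k g => ⟨nx k g.1 g.2, hnx k g.1 g.2⟩) k
  obtain ⟨G, hG⟩ := glue F hF hexh (fun k => (g k).1) (fun k x hx hx' => hnx' k (g k).1 (g k).2 x hx hx')
  refine ⟨G, LinearMap.ext fun x => ?_⟩
  obtain ⟨k, hk⟩ := hexh x
  exact (congrArg π (hG k ⟨x, hk⟩)).trans ((g k).2 ⟨x, hk⟩)

include hF hexh in
theorem subsingleton_ext_of_acyc : ∀ (n : ℕ) (Y : Type u) [AddCommGroup Y] [Module A Y], Acyc F Y →
    Subsingleton (Ext (ModuleCat.of A M) (ModuleCat.of A Y) (n + 1)) := by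
  intro n
  induction n with
  | zero =>
    intro Y _ _ hY
    let E := Injective.under (ModuleCat.of A Y)
    let ι : Y →ₗ[A] E := (Injective.ι (ModuleCat.of A Y)).hom
    have hι : Function.Injective ι := (ModuleCat.mono_iff_injective (Injective.ι (ModuleCat.of A Y))).1 inferInstance
    obtain ⟨w, hS⟩ := seq_of ι (LinearMap.range ι).mkQ hι (Submodule.mkQ_surjective _) (LinearMap.exact_map_mkQ_range ι)
    haveI : Injective (ShortComplex.mk (ModuleCat.ofHom ι) (ModuleCat.ofHom (LinearMap.range ι).mkQ) w).X₂ :=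
      (inferInstance : Injective E)
    refine subsingleton_of_forall_eq 0 fun e => ?_
    obtain ⟨x, hx⟩ := Ext.covariant_sequence_exact₁ _ hS e (Ext.eq_zero_of_injective _) (n₀ := 0) rfl
    obtain ⟨φ, rfl⟩ := (Ext.mk₀_bijective _ _).2 x
    obtain ⟨ψ, hψ⟩ := exists_lift F hF hexh hY ι _ hι (Submodule.mkQ_surjective _)
      (LinearMap.exact_map_mkQ_range ι) φ.hom
    rw [← hx, show φ = ModuleCat.ofHom ψ ≫ ModuleCat.ofHom (LinearMap.range ι).mkQ from
      ModuleCat.hom_ext hψ.symm, ← Ext.mk₀_comp_mk₀, Ext.comp_assoc _ _ _ (add_zero 0) (zero_add 1) (by omega)]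
    erw [hS.comp_extClass]
    exact Ext.comp_zero ..
  | succ n ih =>
    intro Y _ _ hY
    let E := Injective.under (ModuleCat.of A Y)
    let ι : Y →ₗ[A] E := (Injective.ι (ModuleCat.of A Y)).hom
    have hι : Function.Injective ι := (ModuleCat.mono_iff_injective (Injective.ι (ModuleCat.of A Y))).1 inferInstance
    obtain ⟨w, hS⟩ := seq_of ι (LinearMap.range ι).mkQ hι (Submodule.mkQ_surjective _) (LinearMap.exact_map_mkQ_range ι)
    haveI : Injective (ShortComplex.mk (ModuleCat.ofHom ι) (ModuleCat.ofHom (LinearMap.range ι).mkQ) w).X₂ :=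
      (inferInstance : Injective E)
    have hY' : Acyc F (E ⧸ LinearMap.range ι) := by
      refine ⟨fun k m => subsingleton_of_forall_eq 0 fun e => ?_, fun k φ => ?_⟩
      · haveI := hY.1 k (m + 1)
        obtain ⟨x, hx⟩ := Ext.covariant_sequence_exact₃ (ModuleCat.of A (F k)) hS e (n₁ := m + 1 + 1) rfl
          (Subsingleton.elim _ _)
        rw [← hx, Ext.eq_zero_of_injective x, Ext.zero_comp]
      · haveI := hY.1 k 0
        obtain ⟨x, hx⟩ := Ext.covariant_sequence_exact₃ (ModuleCat.of A (F k)) hS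
          (Ext.mk₀ (ModuleCat.ofHom φ)) (n₁ := 1) rfl (Subsingleton.elim _ _)
        obtain ⟨g, rfl⟩ := (Ext.mk₀_bijective _ _).2 x
        rw [Ext.mk₀_comp_mk₀] at hx
        let i : ModuleCat.of A (F k) ⟶ ModuleCat.of A (F (k + 1)) :=
          ModuleCat.ofHom (Submodule.inclusion (hF (Nat.le_succ k) : F k ≤ F (k + 1)))
        haveI : Mono i := (ModuleCat.mono_iff_injective i).2 (Submodule.inclusion_injective (hF (Nat.le_succ k)))
        refine ⟨(LinearMap.range ι).mkQ ∘ₗ (Injective.factorThru g i).hom, fun x hx₁ hx' => ?_⟩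
        refine (congrArg _ (LinearMap.congr_fun (congrArg ModuleCat.Hom.hom (Injective.comp_factorThru g i)) ⟨x, hx₁⟩)).trans ?_
        exact LinearMap.congr_fun (congrArg ModuleCat.Hom.hom ((Ext.mk₀_bijective _ _).1 hx)) ⟨x, hx₁⟩
    haveI := ih (E ⧸ LinearMap.range ι) hY'
    refine subsingleton_of_forall_eq 0 fun e => ?_
    obtain ⟨x, hx⟩ := Ext.covariant_sequence_exact₁ _ hS e (Ext.eq_zero_of_injective _) (n₀ := n + 1) rfl
    rw [← hx, Subsingleton.elim (α := Ext (ModuleCat.of A M) (ModuleCat.of A (E ⧸ LinearMap.range ι)) (n + 1)) x 0,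
      Ext.zero_comp]

include hF hexh in
theorem van_of_steps (Y : Type u) [AddCommGroup Y] [Module A Y] (h : ∀ k, Van (A := A) (F k) Y) :
    Van (A := A) M Y := fun n => by
  cases n with
  | zero =>
    refine subsingleton_of_forall_eq 0 fun e => ?_
    obtain ⟨φ, rfl⟩ := (Ext.mk₀_bijective _ _).2 e
    have : φ = 0 := ModuleCat.hom_ext (LinearMap.ext fun x => by
      obtain ⟨k, hk⟩ := hexh x
      haveI := h k 0
      have h0 : ModuleCat.ofHom (φ.hom ∘ₗ (F k).subtype) = 0 :=
        (Ext.mk₀_bijective (ModuleCat.of A (F k)) (ModuleCat.of A Y)).1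
          (Subsingleton.elim (α := Ext (ModuleCat.of A (F k)) (ModuleCat.of A Y) 0) _ _)
      exact LinearMap.congr_fun (congrArg ModuleCat.Hom.hom h0) ⟨x, hk⟩)
    rw [this, Ext.mk₀_zero]
  | succ n =>
    exact subsingleton_ext_of_acyc F hF hexh n Y ⟨fun k m => h k (m + 1), fun k φ => ⟨0, fun x hx hx' => by
      haveI := h k 0
      have h0 : ModuleCat.ofHom φ = 0 :=
        (Ext.mk₀_bijective (ModuleCat.of A (F k)) (ModuleCat.of A Y)).1
          (Subsingleton.elim (α := Ext (ModuleCat.of A (F k)) (ModuleCat.of A Y) 0) _ _)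
      exact (LinearMap.congr_fun (congrArg ModuleCat.Hom.hom h0) ⟨x, hx⟩).symm⟩⟩

end union

variable (I : Ideal A) {Y : Type u} [AddCommGroup Y] [Module A Y]

theorem van_of_pow (hY : ∀ (M : Type u) [AddCommGroup M] [Module A M],
    (∀ a ∈ I, ∀ m : M, a • m = 0) → Van (A := A) M Y) : ∀ (k : ℕ) (M : Type u) [AddCommGroup M] [Module A M],
    (∀ a ∈ I ^ k, ∀ m : M, a • m = 0) → Van (A := A) M Y := by
  intro k
  induction k with
  | zero =>
    intro M _ _ hM
    refine hY M fun a _ m => ?_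
    rw [show m = (0 : M) by simpa using hM 1 (by simp) m, smul_zero]
  | succ k ih =>
    intro M _ _ hM n
    let P : Submodule A M := I • ⊤
    obtain ⟨w, hS⟩ := seq_of P.subtype P.mkQ Subtype.val_injective (Submodule.mkQ_surjective _)
      (LinearMap.exact_subtype_mkQ P)
    have hP : ∀ a ∈ I ^ k, ∀ m : P, a • m = 0 := fun a ha m => Subtype.ext <| by
      show a • (m : M) = 0
      refine Submodule.smul_induction_on m.2 (fun i hi x _ => ?_) fun x y hx hy => ?_
      · rw [← mul_smul]; exact hM _ (pow_succ I k ▸ Ideal.mul_mem_mul ha hi) x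
      · rw [smul_add, hx, hy, add_zero]
    have hQ : ∀ a ∈ I, ∀ m : M ⧸ P, a • m = 0 := fun a ha m => by
      obtain ⟨m, rfl⟩ := Submodule.Quotient.mk_surjective P m
      rw [← Submodule.Quotient.mk_smul]
      exact (Submodule.Quotient.mk_eq_zero P).2 (Submodule.smul_mem_smul ha trivial)
    haveI := ih P hP n
    haveI := hY (M ⧸ P) hQ n
    refine subsingleton_of_forall_eq 0 fun e => ?_
    obtain ⟨x, hx⟩ := Ext.contravariant_sequence_exact₂ hS (ModuleCat.of A Y) e
      (Subsingleton.elim (α := Ext (ModuleCat.of A P) (ModuleCat.of A Y) n) _ _)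
    rw [← hx, Subsingleton.elim (α := Ext (ModuleCat.of A (M ⧸ P)) (ModuleCat.of A Y) n) x 0, Ext.comp_zero]

theorem van_of_powerTorsion (M : Type u) [AddCommGroup M] [Module A M] (hM : _root_.LocCoh.IsPowerTorsion I M)
    (hY : ∀ (M : Type u) [AddCommGroup M] [Module A M],
      (∀ a ∈ I, ∀ m : M, a • m = 0) → Van (A := A) M Y) : Van (A := A) M Y := by
  let F : ℕ → Submodule A M := fun k =>
    { carrier := {m | ∀ a ∈ I ^ k, a • m = 0}
      zero_mem' := fun a _ => smul_zero a
      add_mem' := fun {x y} hx hy a ha => by rw [smul_add, hx a ha, hy a ha, add_zero]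
      smul_mem' := fun c x hx a ha => by rw [smul_comm, hx a ha, smul_zero] }
  exact van_of_steps F (fun j k hjk m hm a ha => hm a (Ideal.pow_le_pow_right hjk ha)) (fun m => hM m) Y
    fun k => van_of_pow I hY k (F k) fun a ha m => Subtype.ext (m.2 a ha)

end Groth.Agent.CAlgH3.TorsionFlatExtMain

namespace Groth.Agent.CAlgH3.TorsionFlatExtMain

/-- scalars -/
noncomputable def eB (A B : Type u) [CommRing A] [CommRing B] [Algebra A B] :
    ((ModuleCat.restrictScalars (algebraMap A B)).obj (ModuleCat.of B B)) ≃ₗ[A] B :=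
  { AddEquiv.refl B with map_smul' := fun a b => (Algebra.smul_def a (show B from b)).symm }

set_option backward.isDefEq.respectTransparency false in
set_option backward.defeqAttrib.useBackward true in
/-- the standard comparison with extension of scalars -/
noncomputable def eTen (A B : Type u) [CommRing A] [CommRing B] [Algebra A B] (M : Type u) [AddCommGroup M]
    [Module A M] :
    ((ModuleCat.extendScalars.{u, u, u} (algebraMap A B)).obj (ModuleCat.of A M)) ≅
      ModuleCat.of B (TensorProduct A B M) :=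
  let f := TensorProduct.congr (eB A B) (LinearEquiv.refl A M)
  LinearEquiv.toModuleIso (X₁ := (ModuleCat.extendScalars.{u, u, u} (algebraMap A B)).obj (ModuleCat.of A M))
    (X₂ := ModuleCat.of B (TensorProduct A B M))
    { f.toAddEquiv with
      map_smul' := fun b x => by
        induction x using TensorProduct.induction_on with
        | zero => exact (congrArg f (smul_zero b)).trans ((map_zero f).trans (by
            exact (smul_zero b).symm.trans (congrArg (b • ·) (map_zero f).symm)))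
        | tmul c m => rfl
        | add x y hx hy =>
          exact (congrArg f (smul_add b x y)).trans ((map_add f _ _).trans ((congrArg₂ (· + ·) hx hy).trans
            ((smul_add b _ _).symm.trans (congrArg (b • ·) (map_add f x y).symm)))) }

open TorsionFlatExt
attribute [local irreducible] CategoryTheory.Abelian.Ext
variable {A : Type u} [CommRing A] (I : Ideal A)
variable {B : Type u} [CommRing B] [Algebra A B] [Module.Flat A B]

theorem post_η_bijective (hI : I.FG)
    (hs : Function.Surjective ((Ideal.Quotient.mk (I.map (algebraMap A B))).comp (algebraMap A B)))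
    (hk : RingHom.ker ((Ideal.Quotient.mk (I.map (algebraMap A B))).comp (algebraMap A B)) = I)
    (M N : Type u) [AddCommGroup M] [Module A M] [AddCommGroup N] [Module A N]
    (hM : _root_.LocCoh.IsPowerTorsion I M) (n : ℕ) :
    Function.Bijective (post (M := M) (η (A := A) (B := B) N) n) := by
  obtain ⟨s, hs'⟩ := hI
  exact post_bijective_of_ker_coker _
    (van_of_powerTorsion I M hM fun M' _ _ hM' => (van_ker_coker (B := B) M' hM' s hs' hs hk N).1)
    (van_of_powerTorsion I M hM fun M' _ _ hM' => (van_ker_coker (B := B) M' hM' s hs' hs hk N).2) n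

theorem nonempty_extEquiv (hI : I.FG)
    (hs : Function.Surjective ((Ideal.Quotient.mk (I.map (algebraMap A B))).comp (algebraMap A B)))
    (hk : RingHom.ker ((Ideal.Quotient.mk (I.map (algebraMap A B))).comp (algebraMap A B)) = I)
    (M N : Type u) [AddCommGroup M] [Module A M] [AddCommGroup N] [Module A N]
    (hM : _root_.LocCoh.IsPowerTorsion I M) (n : ℕ) :
    Nonempty (Ext (ModuleCat.of A M) (ModuleCat.of A N) n ≃+
      Ext (ModuleCat.of B (B ⊗[A] M)) (ModuleCat.of B (B ⊗[A] N)) n) := by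
  let g : Ext (ModuleCat.of A M) (ModuleCat.of A N) n →+ Ext (ModuleCat.of A M) (ModuleCat.of A (B ⊗[A] N)) n :=
    (Ext.mk₀ (ModuleCat.ofHom (η (A := A) (B := B) N))).postcomp (ModuleCat.of A M) (add_zero n)
  have e1 : Ext (ModuleCat.of A M) (ModuleCat.of A N) n ≃+ Ext (ModuleCat.of A M) (ModuleCat.of A (B ⊗[A] N)) n :=
    AddEquiv.ofBijective g (post_η_bijective I hI hs hk M N hM n)
  haveI hlim : PreservesFiniteLimits (ModuleCat.extendScalars.{u, u, u} (algebraMap A B)) :=
    ModuleCat.preservesFiniteLimits_extendScalars_of_flat (RingHom.flat_algebraMap_iff.2 inferInstance)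
  haveI hflat : (ModuleCat.extendScalars.{u, u, u} (algebraMap A B)).PreservesMonomorphisms := inferInstance
  haveI : PreservesFiniteColimits (ModuleCat.restrictScalars.{u} (algebraMap A B)) := inferInstance
  obtain ⟨e2⟩ := Groth.Agent.SiteCoh.extAdjEquiv_of_exact (ModuleCat.extendRestrictScalarsAdj.{u, u, u} (algebraMap A B))
    (ModuleCat.of B (B ⊗[A] N)) (ModuleCat.of A M) n
  let E : (B ⊗[A] N) ≃ₗ[A]
      ((ModuleCat.restrictScalars.{u} (algebraMap A B)).obj (ModuleCat.of B (B ⊗[A] N))) :=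
    { AddEquiv.refl (B ⊗[A] N) with map_smul' := fun r x => (algebraMap_smul B r x).symm }
  let ψ : ModuleCat.of A (B ⊗[A] N) ≅ (ModuleCat.restrictScalars.{u} (algebraMap A B)).obj (ModuleCat.of B (B ⊗[A] N)) :=
    LinearEquiv.toModuleIso (X₁ := ModuleCat.of A (B ⊗[A] N))
      (X₂ := (ModuleCat.restrictScalars.{u} (algebraMap A B)).obj (ModuleCat.of B (B ⊗[A] N))) E
  let e3 : Ext (ModuleCat.of A M) (ModuleCat.of A (B ⊗[A] N)) n →+
      Ext (ModuleCat.of A M) ((ModuleCat.restrictScalars.{u} (algebraMap A B)).obj (ModuleCat.of B (B ⊗[A] N))) n :=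
    (Ext.mk₀ ψ.hom).postcomp (ModuleCat.of A M) (add_zero n)
  have h3 : Function.Bijective e3 := Function.bijective_iff_has_inverse.2
    ⟨fun x => x.comp (Ext.mk₀ ψ.inv) (add_zero n), fun x => by
      show (x.comp (Ext.mk₀ ψ.hom) (add_zero n)).comp (Ext.mk₀ ψ.inv) (add_zero n) = x
      rw [Ext.comp_assoc_of_third_deg_zero, Ext.mk₀_comp_mk₀, Iso.hom_inv_id, Ext.comp_mk₀_id], fun x => by
      show (x.comp (Ext.mk₀ ψ.inv) (add_zero n)).comp (Ext.mk₀ ψ.hom) (add_zero n) = x
      rw [Ext.comp_assoc_of_third_deg_zero, Ext.mk₀_comp_mk₀, Iso.inv_hom_id, Ext.comp_mk₀_id]⟩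
  let φ := eTen A B M
  let e4 : Ext ((ModuleCat.extendScalars.{u, u, u} (algebraMap A B)).obj (ModuleCat.of A M)) (ModuleCat.of B (B ⊗[A] N)) n →+
      Ext (ModuleCat.of B (B ⊗[A] M)) (ModuleCat.of B (B ⊗[A] N)) n :=
    (Ext.mk₀ φ.inv).precomp (ModuleCat.of B (B ⊗[A] N)) (zero_add n)
  have h4 : Function.Bijective e4 := Function.bijective_iff_has_inverse.2
    ⟨fun x => (Ext.mk₀ φ.hom).comp x (zero_add n), fun x => by
      show (Ext.mk₀ φ.hom).comp ((Ext.mk₀ φ.inv).comp x (zero_add n)) (zero_add n) = x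
      rw [← Ext.comp_assoc_of_second_deg_zero, Ext.mk₀_comp_mk₀, Iso.hom_inv_id, Ext.mk₀_id_comp], fun x => by
      show (Ext.mk₀ φ.inv).comp ((Ext.mk₀ φ.hom).comp x (zero_add n)) (zero_add n) = x
      rw [← Ext.comp_assoc_of_second_deg_zero, Ext.mk₀_comp_mk₀, Iso.inv_hom_id, Ext.mk₀_id_comp]⟩
  exact ⟨((e1.trans (AddEquiv.ofBijective e3 h3)).trans e2).trans (AddEquiv.ofBijective e4 h4)⟩

attribute [local instance] HasDerivedCategory.standard

theorem subsingleton_hom_neg (R : Type u) [CommRing R] (M N : Type u) [AddCommGroup M] [Module R M]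
    [AddCommGroup N] [Module R N] (i : ℤ) (hi : i < 0) :
    Subsingleton (_root_.Dual.inD R M ⟶ (_root_.Dual.inD R N)⟦i⟧) := by
  refine subsingleton_of_forall_eq 0 fun f => ?_
  haveI : ((_root_.Dual.inD R N)⟦i⟧).IsGE (-i) :=
    DerivedCategory.TStructure.t.isGE_shift _ 0 i (-i) (by omega)
  exact DerivedCategory.TStructure.t.zero_of_isLE_of_isGE f 0 (-i) (by omega) inferInstance inferInstance

theorem main (hI : I.FG)
    (hs : Function.Surjective ((Ideal.Quotient.mk (I.map (algebraMap A B))).comp (algebraMap A B)))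
    (hk : RingHom.ker ((Ideal.Quotient.mk (I.map (algebraMap A B))).comp (algebraMap A B)) = I)
    (M N : Type u) [AddCommGroup M] [Module A M] [AddCommGroup N] [Module A N]
    (hM : _root_.LocCoh.IsPowerTorsion I M) (i : ℤ) :
    Nonempty ((_root_.Dual.inD A M ⟶ (_root_.Dual.inD A N)⟦i⟧) ≃+
      (_root_.Dual.inD B (B ⊗[A] M) ⟶ (_root_.Dual.inD B (B ⊗[A] N))⟦i⟧)) := by
  obtain ⟨n, rfl⟩ | hi : (∃ n : ℕ, (n : ℤ) = i) ∨ i < 0 := by
    rcases lt_or_ge i 0 with h | h
    · exact Or.inr h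
    · exact Or.inl ⟨i.toNat, Int.toNat_of_nonneg h⟩
  · obtain ⟨e⟩ := nonempty_extEquiv I hI hs hk M N hM n
    exact ⟨(Ext.homAddEquiv (X := ModuleCat.of A M) (Y := ModuleCat.of A N) (n := n)).symm.trans
      (e.trans (Ext.homAddEquiv (X := ModuleCat.of B (B ⊗[A] M)) (Y := ModuleCat.of B (B ⊗[A] N)) (n := n)))⟩
  · haveI := subsingleton_hom_neg A M N i hi
    haveI := subsingleton_hom_neg B (B ⊗[A] M) (B ⊗[A] N) i hi
    exact ⟨{ toFun := fun _ => 0, invFun := fun _ => 0, left_inv := fun _ => Subsingleton.elim _ _,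
             right_inv := fun _ => Subsingleton.elim _ _, map_add' := fun _ _ => Subsingleton.elim _ _ }⟩

end Groth.Agent.CAlgH3.TorsionFlatExtMain
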