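import Mathlib

/-!
Kernels of torsion free quotients of rank one modules on reduced rings.
-/

set_option autoImplicit false
set_option linter.style.haveILetI false

universe u

namespace Groth.Agent.CAlgH3.TorsionFreeQuot

variable {R : Type u} [CommRing R]

theorem isField_minimal [IsReduced R] (p : Ideal R) [p.IsPrime] (hp : p ∈ minimalPrimes R) :
    IsField (Localization.AtPrime p) := by
  haveI : Ring.KrullDimLE 0 (Localization.AtPrime p) := by
    rw [Ring.krullDimLE_iff, IsLocalization.AtPrime.ringKrullDim_eq_height p (Localization.AtPrime p),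
      Ideal.height_eq_zero_iff.2 hp]
    simp
  exact Ring.KrullDimLE.isField_of_isReduced

theorem ker_eq_iInf [IsNoetherianRing R] [IsReduced R] {M : Type u} [AddCommGroup M] [Module R M]
    (hrk : ∀ p : PrimeSpectrum R, p.asIdeal ∈ minimalPrimes R →
      Module.finrank (Localization.AtPrime p.asIdeal) (LocalizedModule p.asIdeal.primeCompl M) = 1)
    {Q : Type u} [AddCommGroup Q] [Module R Q] (hQ : associatedPrimes R Q ⊆ minimalPrimes R)
    (g : M →ₗ[R] Q) (hg : Function.Surjective g) :
    LinearMap.ker g = ⨅ p ∈ {p : PrimeSpectrum R | p.asIdeal ∈ minimalPrimes R ∧ p ∈ Module.support R Q},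
      LinearMap.ker (LocalizedModule.mkLinearMap p.asIdeal.primeCompl M) := by
  refine le_antisymm (le_iInf₂ fun p hp x hx => ?_) fun x hx => ?_
  · by_contra hne
    obtain ⟨hmin, hsupp⟩ := hp
    letI := (isField_minimal p.asIdeal hmin).toField
    rw [LinearMap.mem_ker, LocalizedModule.mkLinearMap_apply] at hne
    obtain ⟨m₀, hm₀⟩ := Module.mem_support_iff'.1 hsupp
    obtain ⟨y, rfl⟩ := hg m₀
    obtain ⟨c, hc⟩ := exists_smul_eq_of_finrank_eq_one (hrk p hmin) hne (LocalizedModule.mk y 1)
    obtain ⟨a, s, rfl⟩ := IsLocalization.exists_mk'_eq p.asIdeal.primeCompl c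
    have h1 : algebraMap R (Localization.AtPrime p.asIdeal) a • LocalizedModule.mk x (1 : p.asIdeal.primeCompl) =
        algebraMap R (Localization.AtPrime p.asIdeal) (s : R) • LocalizedModule.mk y 1 := by
      rw [← hc, smul_smul, IsLocalization.mk'_spec' (Localization.AtPrime p.asIdeal) a s]
    rw [algebraMap_smul, algebraMap_smul, LocalizedModule.smul'_mk, LocalizedModule.smul'_mk,
      LocalizedModule.mk_eq] at h1
    obtain ⟨u, hu⟩ := h1
    rw [one_smul, one_smul, Submonoid.smul_def, Submonoid.smul_def] at hu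
    have h2 := congrArg g hu
    rw [map_smul, map_smul, map_smul, map_smul, LinearMap.mem_ker.1 hx, smul_zero, smul_zero] at h2
    refine hm₀ ((u : R) * (s : R)) (u * s).2 ?_
    rw [mul_smul]
    exact h2.symm
  · by_contra hgx
    obtain ⟨P, hP, hle⟩ := exists_le_isAssociatedPrime_of_isNoetherianRing R (g x)
      (fun h => hgx (LinearMap.mem_ker.2 h))
    have hmin : P ∈ minimalPrimes R := hQ hP
    let p : PrimeSpectrum R := ⟨P, hP.isPrime⟩
    haveI : p.asIdeal.IsPrime := hP.isPrime
    have hsupp : p ∈ Module.support R Q := Module.mem_support_iff'.2 ⟨g x, fun r hr h => hr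
      (hle (by rw [Submodule.mem_colon_singleton]; simpa using h))⟩
    have h := (Submodule.mem_iInf _).1 ((Submodule.mem_iInf _).1 hx p) ⟨hmin, hsupp⟩
    rw [LinearMap.mem_ker, LocalizedModule.mkLinearMap_apply, ← LocalizedModule.zero_mk (1 : p.asIdeal.primeCompl),
      LocalizedModule.mk_eq] at h
    obtain ⟨u, hu⟩ := h
    rw [one_smul, smul_zero, smul_zero, Submonoid.smul_def] at hu
    refine u.2 (hle ?_)
    rw [Submodule.mem_colon_singleton]
    simp [← map_smul, hu]

end Groth.Agent.CAlgH3.TorsionFreeQuot
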