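import Groth.Agent.CAlgH3.Factorial
import Groth.Agent.CAlgH3.QuotientLocal
import Groth.Agent.CAlgH3.CMRing
import Groth.Agent.CAlgH3.RegularLocal
import Groth.Agent.CAlgH3.RegularHom
import Groth.Agent.CAlgH.CompleteLocal
import Groth.Agent.CAlgH.PowerSeriesComplete
import Mathlib

/-! The node `R⟦u,v⟧/(uv - Δ)` over a complete regular local ring `R` is factorial iff `Δ` is prime.

`D = R⟦u⟧`, `S = D⟦v⟧`, `A = S/(uv - Δ)`.  -/

universe u

open IsLocalRing

namespace Groth.Agent.CAlgH3.UVDelta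

variable (R : Type u) [CommRing R]

abbrev DD := MvPowerSeries (Fin 1) R

abbrev SS := PowerSeries (DD R)

noncomputable abbrev uu : DD R := MvPowerSeries.X 0

variable {R}

noncomputable abbrev hh (Δ : R) : SS R :=
  PowerSeries.C (uu R) * PowerSeries.X - PowerSeries.C (MvPowerSeries.C Δ)

abbrev AA (Δ : R) := SS R ⧸ Ideal.span {hh Δ}

theorem uu_dvd_iff (f : DD R) : uu R ∣ f ↔ MvPowerSeries.constantCoeff f = 0 := by
  rw [MvPowerSeries.X_dvd_iff, ← MvPowerSeries.coeff_zero_eq_constantCoeff_apply]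
  refine ⟨fun h => h 0 rfl, fun h m hm => ?_⟩
  have : m = 0 := Finsupp.ext fun i => by rw [Subsingleton.elim i 0, hm]; rfl
  rwa [this]

theorem C_dvd_iff {T : Type*} [CommRing T] (a : T) (f : PowerSeries T) :
    PowerSeries.C a ∣ f ↔ ∀ n, a ∣ PowerSeries.coeff n f := by
  constructor
  · rintro ⟨g, rfl⟩ n
    exact ⟨PowerSeries.coeff n g, by rw [PowerSeries.coeff_C_mul]⟩
  · intro h
    choose g hg using h
    exact ⟨PowerSeries.mk g, PowerSeries.ext fun n => by rw [PowerSeries.coeff_C_mul, PowerSeries.coeff_mk, hg n]⟩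

/-- `u = 0`. -/
noncomputable abbrev EE : SS R →+* PowerSeries R :=
  PowerSeries.map (MvPowerSeries.constantCoeff (σ := Fin 1) (R := R))

theorem EE_uu : EE (PowerSeries.C (uu R)) = 0 := by
  rw [PowerSeries.map_C, MvPowerSeries.constantCoeff_X, map_zero]

theorem EE_hh (Δ : R) : EE (hh Δ) = - PowerSeries.C Δ := by
  rw [hh, map_sub, map_mul, EE_uu, zero_mul, zero_sub, PowerSeries.map_C, MvPowerSeries.constantCoeff_C]

theorem uu_dvd_of_EE (f : SS R) (h : EE f = 0) : PowerSeries.C (uu R) ∣ f := by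
  refine (C_dvd_iff _ _).2 fun n => (uu_dvd_iff _).2 ?_
  have := congrArg (PowerSeries.coeff n) h
  rwa [PowerSeries.coeff_map, map_zero] at this

variable [IsRegularLocalRing R]

theorem isDomain_R : IsDomain R := isDomain_of_isRegularLocalRing R

theorem isRegular_DD : IsRegularLocalRing (DD R) := (CAlgH.isRegularLocalRing_mvPowerSeries R 1).1

theorem isRegular_SS : IsRegularLocalRing (SS R) :=
  have := (CAlgH.isRegularLocalRing_mvPowerSeries R 2).1
  IsRegularLocalRing.of_ringEquiv (MvPowerSeries.finSuccEquiv R 1).toRingEquiv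

attribute [local instance] isDomain_R

section

variable {Δ : R}

theorem hh_mem_maximal (hΔ : Δ ∈ maximalIdeal R) : hh Δ ∈ maximalIdeal (SS R) := by
  rw [mem_maximalIdeal, mem_nonunits_iff, PowerSeries.isUnit_iff_constantCoeff, hh, map_sub, map_mul,
    PowerSeries.constantCoeff_X, mul_zero, zero_sub, PowerSeries.constantCoeff_C, IsUnit.neg_iff,
    MvPowerSeries.isUnit_iff_constantCoeff, MvPowerSeries.constantCoeff_C]
  exact hΔ

theorem isLocalRing_AA (hΔ : Δ ∈ maximalIdeal R) : IsLocalRing (AA Δ) :=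
  CAlgH3.isLocalRing_quotient ((Ideal.span_singleton_le_iff_mem _).2 (hh_mem_maximal hΔ))

/-- `u` is a nonzerodivisor on `A`. -/
theorem mem_of_uu_mul_mem (hΔ0 : Δ ≠ 0) {f : SS R} (h : PowerSeries.C (uu R) * f ∈ Ideal.span {hh Δ}) :
    f ∈ Ideal.span {hh Δ} := by
  obtain ⟨g, hg⟩ := Ideal.mem_span_singleton'.1 h
  have h1 : EE g = 0 := by
    have := congrArg EE hg
    rw [map_mul, map_mul, EE_uu, zero_mul, EE_hh, mul_neg, neg_eq_zero, mul_eq_zero] at this
    refine this.resolve_right fun h0 => hΔ0 ?_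
    have := congrArg PowerSeries.constantCoeff h0
    rwa [PowerSeries.constantCoeff_C, map_zero] at this
  obtain ⟨g', rfl⟩ := uu_dvd_of_EE g h1
  have hu : PowerSeries.C (uu R) ≠ 0 := fun h0 => by
    have := congrArg PowerSeries.constantCoeff h0
    rw [PowerSeries.constantCoeff_C, map_zero] at this
    have := congrArg (MvPowerSeries.coeff (Finsupp.single (0 : Fin 1) 1)) this
    rw [MvPowerSeries.coeff_index_single_self_X, map_zero] at this
    exact one_ne_zero this
  exact Ideal.mem_span_singleton'.2 ⟨g', mul_left_cancel₀ hu (by rw [← hg, mul_assoc])⟩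

theorem prime_uu (hΔ0 : Δ ≠ 0) (hΔ : Δ ∈ maximalIdeal R) (hp : Prime Δ) :
    Prime (Ideal.Quotient.mk (Ideal.span {hh Δ}) (PowerSeries.C (uu R))) := by
  have : (Ideal.span {Δ}).IsPrime := (Ideal.span_singleton_prime hΔ0).2 hp
  let E' : SS R →+* PowerSeries (R ⧸ Ideal.span {Δ}) :=
    (PowerSeries.map (Ideal.Quotient.mk (Ideal.span {Δ}))).comp EE
  have hE'h : E' (hh Δ) = 0 := by
    show PowerSeries.map (Ideal.Quotient.mk (Ideal.span {Δ})) (EE (hh Δ)) = 0
    rw [EE_hh, map_neg, PowerSeries.map_C, Ideal.Quotient.mk_singleton_self, map_zero, neg_zero]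
  have hE'u : E' (PowerSeries.C (uu R)) = 0 := by
    show PowerSeries.map (Ideal.Quotient.mk (Ideal.span {Δ})) (EE (PowerSeries.C (uu R))) = 0
    rw [EE_uu, map_zero]
  have key : ∀ f : SS R, E' f = 0 →
      Ideal.Quotient.mk (Ideal.span {hh Δ}) (PowerSeries.C (uu R)) ∣ Ideal.Quotient.mk _ f := by
    intro f hf
    obtain ⟨z, hz⟩ : PowerSeries.C Δ ∣ EE f := by
      refine (C_dvd_iff _ _).2 fun n => Ideal.mem_span_singleton.1 (Ideal.Quotient.eq_zero_iff_mem.1 ?_)
      have := congrArg (PowerSeries.coeff n) hf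
      rwa [show E' f = PowerSeries.map (Ideal.Quotient.mk (Ideal.span {Δ})) (EE f) from rfl, PowerSeries.coeff_map, map_zero] at this
    let z' : SS R := PowerSeries.map MvPowerSeries.C z
    have hz' : EE z' = z := by
      refine PowerSeries.ext fun n => ?_
      simp [z', EE]
    have h0 : EE (f + hh Δ * z') = 0 := by rw [map_add, map_mul, EE_hh, hz', hz]; ring
    obtain ⟨g, hg⟩ := uu_dvd_of_EE _ h0
    refine ⟨Ideal.Quotient.mk _ g, ?_⟩
    rw [← map_mul, ← hg, map_add, map_mul, Ideal.Quotient.mk_singleton_self, zero_mul, add_zero]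
  have key' : ∀ f : SS R, Ideal.Quotient.mk (Ideal.span {hh Δ}) (PowerSeries.C (uu R)) ∣
      Ideal.Quotient.mk _ f → E' f = 0 := by
    rintro f ⟨c, hc⟩
    obtain ⟨c, rfl⟩ := Ideal.Quotient.mk_surjective c
    rw [← map_mul, Ideal.Quotient.mk_eq_mk_iff_sub_mem, Ideal.mem_span_singleton'] at hc
    obtain ⟨d, hd⟩ := hc
    have := congrArg E' hd
    rwa [map_mul, hE'h, mul_zero, map_sub, map_mul, hE'u, zero_mul, sub_zero, eq_comm] at this
  refine ⟨fun h => ?_, fun h => ?_, fun a b => ?_⟩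
  · rw [Ideal.Quotient.eq_zero_iff_mem] at h
    have h1 := mem_of_uu_mul_mem hΔ0 (f := 1) (by rwa [mul_one])
    exact (Ideal.ne_top_iff_one _).1
      (ne_top_of_le_ne_top (maximalIdeal.isMaximal (SS R)).ne_top
        ((Ideal.span_singleton_le_iff_mem _).2 (hh_mem_maximal hΔ))) h1
  · have := key' 1 (h.dvd)
    rw [map_one] at this
    exact one_ne_zero this
  · obtain ⟨a, rfl⟩ := Ideal.Quotient.mk_surjective a
    obtain ⟨b, rfl⟩ := Ideal.Quotient.mk_surjective b
    intro h
    rw [← map_mul] at h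
    have := key' _ h
    rw [map_mul, mul_eq_zero] at this
    exact this.imp (key _) (key _)

theorem uu_nzd (hΔ0 : Δ ≠ 0) (n : ℕ) {x : AA Δ}
    (h : Ideal.Quotient.mk (Ideal.span {hh Δ}) (PowerSeries.C (uu R)) ^ n * x = 0) : x = 0 := by
  induction n with
  | zero => rwa [pow_zero, one_mul] at h
  | succ n ih =>
    refine ih ?_
    obtain ⟨y, hy⟩ := Ideal.Quotient.mk_surjective
      (Ideal.Quotient.mk (Ideal.span {hh Δ}) (PowerSeries.C (uu R)) ^ n * x)
    rw [← hy, Ideal.Quotient.eq_zero_iff_mem]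
    refine mem_of_uu_mul_mem hΔ0 ?_
    rw [← Ideal.Quotient.eq_zero_iff_mem, map_mul, hy, ← mul_assoc, ← pow_succ', h]

theorem exists_eq_uu_pow_mul (hΔ : Δ ∈ maximalIdeal R) (hp : Prime Δ) {x : AA Δ} (hx : x ≠ 0) :
    ∃ n y, x = Ideal.Quotient.mk (Ideal.span {hh Δ}) (PowerSeries.C (uu R)) ^ n * y ∧
      ¬ Ideal.Quotient.mk (Ideal.span {hh Δ}) (PowerSeries.C (uu R)) ∣ y := by
  have := isLocalRing_AA hΔ
  have hu := prime_uu hp.ne_zero hΔ hp
  obtain ⟨N, hN⟩ : ∃ N, ¬ Ideal.Quotient.mk (Ideal.span {hh Δ}) (PowerSeries.C (uu R)) ^ N ∣ x := by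
    by_contra hall
    push_neg at hall
    refine hx ?_
    have h1 : x ∈ ⨅ i : ℕ, (Ideal.span {Ideal.Quotient.mk (Ideal.span {hh Δ}) (PowerSeries.C (uu R))}) ^ i :=
      (Submodule.mem_iInf _).2 fun i => by
        rw [Ideal.span_singleton_pow, Ideal.mem_span_singleton]; exact hall i
    rwa [Ideal.iInf_pow_eq_bot_of_isLocalRing _
      (Ideal.span_singleton_ne_top hu.not_isUnit), Ideal.mem_bot] at h1
  classical
  let M := Nat.find (⟨N, hN⟩ : ∃ N, ¬ Ideal.Quotient.mk (Ideal.span {hh Δ}) (PowerSeries.C (uu R)) ^ N ∣ x)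
  have hM := Nat.find_spec (⟨N, hN⟩ : ∃ N, ¬ Ideal.Quotient.mk (Ideal.span {hh Δ}) (PowerSeries.C (uu R)) ^ N ∣ x)
  obtain ⟨m, hm⟩ : ∃ m, M = m + 1 := Nat.exists_eq_succ_of_ne_zero fun h0 => by
    apply hM; change _ ^ M ∣ x; rw [h0, pow_zero]; exact one_dvd _
  obtain ⟨y, hy⟩ : Ideal.Quotient.mk (Ideal.span {hh Δ}) (PowerSeries.C (uu R)) ^ m ∣ x :=
    not_not.1 (Nat.find_min (⟨N, hN⟩ : ∃ N, ¬ Ideal.Quotient.mk (Ideal.span {hh Δ}) (PowerSeries.C (uu R)) ^ N ∣ x)
      (show m < M by omega))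
  refine ⟨m, y, hy, fun h => hM ?_⟩
  change _ ^ M ∣ x
  rw [hm, hy, pow_succ]
  exact mul_dvd_mul_left _ h

theorem isDomain_AA (hΔ : Δ ∈ maximalIdeal R) (hp : Prime Δ) : IsDomain (AA Δ) := by
  have := isLocalRing_AA hΔ
  have hu := prime_uu hp.ne_zero hΔ hp
  have : NoZeroDivisors (AA Δ) := by
    refine ⟨fun {a b} hab => ?_⟩
    by_contra hne
    push_neg at hne
    obtain ⟨n, a', rfl, ha'⟩ := exists_eq_uu_pow_mul hΔ hp hne.1
    obtain ⟨m, b', rfl, hb'⟩ := exists_eq_uu_pow_mul hΔ hp hne.2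
    have h1 : a' * b' = 0 := uu_nzd hp.ne_zero (n + m) (by rw [← hab]; ring)
    exact (hu.dvd_or_dvd (h1 ▸ dvd_zero _)).elim ha' hb'
  exact NoZeroDivisors.to_isDomain _

/-- Prime ideals minimal over any nonzero element they contain. -/
def Min1 {T : Type*} [CommRing T] (P : Ideal T) : Prop :=
  ∀ q : Ideal T, q.IsPrime → q ≤ P → q ≠ ⊥ → q = P

theorem min1_of_minimalPrimes {T : Type*} [CommRing T] [IsDomain T] [IsNoetherianRing T] {a : T} {P : Ideal T}
    (hP : P ∈ (Ideal.span {a}).minimalPrimes) : Min1 P := by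
  intro q hq hqP hq0
  by_contra hne
  have hPp := hP.1.1
  have h1 : P.height ≤ 1 := Ideal.height_le_one_of_isPrincipal_of_mem_minimalPrimes (Ideal.span {a}) P hP
  have h2 : q.height + 1 ≤ P.height := Ideal.height_add_one_le_of_lt_of_isPrime (lt_of_le_of_ne hqP hne)
  have h3 : (⊥ : Ideal T).height + 1 ≤ q.height :=
    Ideal.height_add_one_le_of_lt_of_isPrime (bot_lt_iff_ne_bot.2 hq0)
  have h4 : (1 : ℕ∞) + 1 ≤ 1 := le_trans (le_trans (add_le_add_left (le_trans le_add_self h3) 1) h2) h1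
  exact absurd h4 (by norm_num)

theorem height_le_one_of_min1 {T : Type*} [CommRing T] [IsDomain T] [IsNoetherianRing T] {P : Ideal T} [P.IsPrime]
    (hP : Min1 P) : P.height ≤ 1 := by
  by_cases h0 : P = ⊥
  · subst h0; rw [Ideal.height_bot]; exact zero_le
  obtain ⟨a, haP, ha0⟩ := Submodule.exists_mem_ne_zero_of_ne_bot h0
  refine Ideal.height_le_one_of_isPrincipal_of_mem_minimalPrimes (Ideal.span {a}) P
    ⟨⟨inferInstance, (Ideal.span_singleton_le_iff_mem _).2 haP⟩, fun q hq hqP => (hP q hq.1 hqP ?_).ge⟩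
  exact fun h => ha0 (by simpa [h] using hq.2 (Ideal.mem_span_singleton_self a))

/-- `u^N · r(v)` comes from `D`. -/
theorem exists_uu_pow_mul (Δ : R) (r : Polynomial (DD R)) :
    ∃ (N : ℕ) (d : DD R), Polynomial.C (uu R) * Polynomial.X - Polynomial.C (MvPowerSeries.C Δ) ∣
      Polynomial.C (uu R) ^ N * r - Polynomial.C d := by
  induction r using Polynomial.induction_on' with
  | add r s hr hs =>
    obtain ⟨N, d, h1⟩ := hr
    obtain ⟨M, e, h2⟩ := hs
    refine ⟨N + M, uu R ^ M * d + uu R ^ N * e, ?_⟩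
    have := dvd_add (h1.mul_left (Polynomial.C (uu R) ^ M)) (h2.mul_left (Polynomial.C (uu R) ^ N))
    convert this using 1
    rw [map_add, map_mul, map_mul, map_pow, map_pow]
    ring
  | monomial n c =>
    refine ⟨n, c * MvPowerSeries.C Δ ^ n, ?_⟩
    have := (sub_dvd_pow_sub_pow (Polynomial.C (uu R) * Polynomial.X) (Polynomial.C (MvPowerSeries.C Δ)) n).mul_left
      (Polynomial.C c)
    convert this using 1
    rw [← Polynomial.C_mul_X_pow_eq_monomial, map_mul, map_pow]
    ring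

end

section

variable [IsAdicComplete (maximalIdeal R) R] {Δ : R}

noncomputable abbrev ph (Δ : R) : Polynomial (DD R) →+* AA Δ :=
  (Ideal.Quotient.mk _).comp (Polynomial.coeToPowerSeries.ringHom)

theorem coe_hP (Δ : R) :
    ((Polynomial.C (uu R) * Polynomial.X - Polynomial.C (MvPowerSeries.C Δ) : Polynomial (DD R)) : SS R) = hh Δ := by
  rw [Polynomial.coe_sub, Polynomial.coe_mul, Polynomial.coe_C, Polynomial.coe_X, Polynomial.coe_C]

/-- A height one prime containing an element with nonzero reduction is principal. -/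
theorem isPrincipal_of_residue_ne_zero (hΔ : Δ ∈ maximalIdeal R) (hp : Prime Δ) (P : Ideal (AA Δ)) [P.IsPrime]
    (hmin : Min1 P) (g : SS R) (hg : PowerSeries.map (residue (DD R)) g ≠ 0)
    (hgP : Ideal.Quotient.mk _ g ∈ P) : P.IsPrincipal := by
  haveI := isDomain_AA hΔ hp
  haveI := isRegular_DD (R := R)
  haveI : IsDomain (DD R) := isDomain_of_isRegularLocalRing _
  haveI := ufm_of_regular (DD R)
  haveI : IsAdicComplete (maximalIdeal (DD R)) (DD R) := CAlgH.isAdicComplete_maximalIdeal_mvPowerSeries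
  set u' := Ideal.Quotient.mk (Ideal.span {hh Δ}) (PowerSeries.C (uu R)) with hu'
  have hu : Prime u' := prime_uu hp.ne_zero hΔ hp
  by_cases huP : u' ∈ P
  · have hspan : (Ideal.span {u'}).IsPrime := (Ideal.span_singleton_prime hu.ne_zero).2 hu
    rw [← hmin _ hspan ((Ideal.span_singleton_le_iff_mem _).2 huP)
      (mt Ideal.span_singleton_eq_bot.1 hu.ne_zero)]
    exact ⟨⟨_, rfl⟩⟩
  obtain ⟨f, w, H⟩ := PowerSeries.exists_isWeierstrassFactorization hg
  have hfP : ph Δ f ∈ P := by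
    rw [H.eq_mul, map_mul] at hgP
    exact ((‹P.IsPrime›).mem_or_mem hgP).resolve_right fun h =>
      (‹P.IsPrime›).ne_top (Ideal.eq_top_of_isUnit_mem _ h (H.isUnit.map _))
  have hf0 : ph Δ f ≠ 0 := by
    intro h0
    obtain ⟨z, hz⟩ := Ideal.mem_span_singleton'.1 (Ideal.Quotient.eq_zero_iff_mem.1 h0)
    have := congrArg (PowerSeries.map ((residue R).comp MvPowerSeries.constantCoeff)) hz
    rw [map_mul, hh, map_sub, map_mul, PowerSeries.map_C, PowerSeries.map_C, RingHom.comp_apply,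
      RingHom.comp_apply, MvPowerSeries.constantCoeff_X, MvPowerSeries.constantCoeff_C, map_zero,
      (residue_eq_zero_iff Δ).2 hΔ, map_zero, zero_mul, sub_zero, mul_zero] at this
    have := congrArg (PowerSeries.coeff f.natDegree) this
    rw [map_zero, PowerSeries.coeff_map, Polynomial.coeToPowerSeries.ringHom_apply, Polynomial.coeff_coe,
      H.isDistinguishedAt.monic.coeff_natDegree, map_one] at this
    exact zero_ne_one this
  -- the polynomial description of `A/(f)`
  let ψ : Polynomial (DD R) →+* AA Δ ⧸ Ideal.span {ph Δ f} := (Ideal.Quotient.mk _).comp (ph Δ)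
  let e := H.isDistinguishedAt.algEquivQuotient
  have he : ∀ r, e (Ideal.Quotient.mk _ r) = Ideal.Quotient.mk _ (r : SS R) := fun r => rfl
  have hsurj : ∀ a : AA Δ, ∃ r, a - ph Δ r ∈ Ideal.span {ph Δ f} := by
    intro a
    obtain ⟨s, rfl⟩ := Ideal.Quotient.mk_surjective a
    obtain ⟨r', hr'⟩ := e.surjective (Ideal.Quotient.mk _ s)
    obtain ⟨r, rfl⟩ := Ideal.Quotient.mk_surjective r'
    rw [he] at hr'
    obtain ⟨q, hq⟩ := Ideal.mem_span_singleton'.1 ((Ideal.Quotient.mk_eq_mk_iff_sub_mem _ _).1 hr'.symm)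
    refine ⟨r, Ideal.mem_span_singleton'.2 ⟨Ideal.Quotient.mk _ q, ?_⟩⟩
    show Ideal.Quotient.mk _ q * Ideal.Quotient.mk _ (f : SS R) =
      Ideal.Quotient.mk _ s - Ideal.Quotient.mk _ (r : SS R)
    rw [← map_mul, ← map_sub, hq]
  have hψ : Function.Surjective ψ := by
    intro a
    obtain ⟨a, rfl⟩ := Ideal.Quotient.mk_surjective a
    obtain ⟨r, hr⟩ := hsurj a
    exact ⟨r, ((Ideal.Quotient.mk_eq_mk_iff_sub_mem _ _).2 hr).symm⟩
  have hker : ∀ r, ψ r = 0 → r ∈ Ideal.span
      {f, Polynomial.C (uu R) * Polynomial.X - Polynomial.C (MvPowerSeries.C Δ)} := by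
    intro r hr
    obtain ⟨b, hb⟩ := Ideal.mem_span_singleton'.1 (Ideal.Quotient.eq_zero_iff_mem.1 hr)
    obtain ⟨b, rfl⟩ := Ideal.Quotient.mk_surjective b
    change Ideal.Quotient.mk _ b * Ideal.Quotient.mk _ (f : SS R) = Ideal.Quotient.mk _ (r : SS R) at hb
    rw [← map_mul, Ideal.Quotient.mk_eq_mk_iff_sub_mem, Ideal.mem_span_singleton'] at hb
    obtain ⟨a, ha⟩ := hb
    obtain ⟨a', ha'⟩ := e.surjective (Ideal.Quotient.mk _ a)
    obtain ⟨a', rfl⟩ := Ideal.Quotient.mk_surjective a'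
    rw [he] at ha'
    obtain ⟨c, hc⟩ := Ideal.mem_span_singleton'.1 ((Ideal.Quotient.mk_eq_mk_iff_sub_mem _ _).1 ha'.symm)
    have h1 : e (Ideal.Quotient.mk _
        (r + a' * (Polynomial.C (uu R) * Polynomial.X - Polynomial.C (MvPowerSeries.C Δ)))) = e 0 := by
      rw [he, map_zero, Ideal.Quotient.eq_zero_iff_mem, Polynomial.coe_add, Polynomial.coe_mul, coe_hP,
        Ideal.mem_span_singleton']
      exact ⟨b - c * hh Δ, by linear_combination (-1 : SS R) * ha - hh Δ * hc⟩
    obtain ⟨d, hd⟩ := Ideal.mem_span_singleton'.1 (Ideal.Quotient.eq_zero_iff_mem.1 (e.injective h1))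
    exact Ideal.mem_span_pair.2 ⟨d, -a', by linear_combination hd⟩
  -- `u^N r = d` in `A`
  let ι : DD R →+* AA Δ := (ph Δ).comp Polynomial.C
  have hιu : ι (uu R) = u' := by
    show Ideal.Quotient.mk _ ((Polynomial.C (uu R) : Polynomial (DD R)) : SS R) = _
    rw [Polynomial.coe_C]
  have hι : ∀ {r : Polynomial (DD R)} {N : ℕ} {d : DD R},
      Polynomial.C (uu R) * Polynomial.X - Polynomial.C (MvPowerSeries.C Δ) ∣
        Polynomial.C (uu R) ^ N * r - Polynomial.C d → u' ^ N * ph Δ r = ι d := by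
    rintro r N d ⟨c, hc⟩
    have := congrArg (ph Δ) hc
    rw [map_mul, map_sub, map_mul, map_pow] at this
    have h0 : ph Δ (Polynomial.C (uu R) * Polynomial.X - Polynomial.C (MvPowerSeries.C Δ)) = 0 := by
      show Ideal.Quotient.mk _ (_ : SS R) = 0
      rw [Polynomial.coeToPowerSeries.ringHom_apply, coe_hP, Ideal.Quotient.mk_singleton_self]
    rw [h0, zero_mul, sub_eq_zero] at this
    rw [← hιu]
    exact this
  let p : Ideal (DD R) := P.comap ι
  have hup : uu R ∉ p := fun h => huP (hιu ▸ h)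
  obtain ⟨N0, d0, hd0⟩ := exists_uu_pow_mul Δ f
  have hd0A := hι hd0
  have hd0p : d0 ∈ p := show ι d0 ∈ P from hd0A ▸ P.mul_mem_left _ hfP
  have hd0ne : d0 ≠ 0 := by
    rintro rfl
    rw [map_zero, mul_eq_zero] at hd0A
    exact hf0 (hd0A.resolve_left (pow_ne_zero _ hu.ne_zero))
  -- `p` is minimal over `d0`
  have hpmin : p ∈ (Ideal.span {d0}).minimalPrimes := by
    refine ⟨⟨Ideal.IsPrime.comap _, (Ideal.span_singleton_le_iff_mem _).2 hd0p⟩, fun q hq hqp => ?_⟩
    haveI := hq.1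
    have huq : uu R ∉ q := fun h => hup (hqp h)
    let κ : DD R →+* FractionRing (DD R ⧸ q) :=
      (algebraMap (DD R ⧸ q) (FractionRing (DD R ⧸ q))).comp (Ideal.Quotient.mk q)
    have hκ : ∀ d, κ d = 0 ↔ d ∈ q := fun d => by
      show algebraMap (DD R ⧸ q) (FractionRing (DD R ⧸ q)) (Ideal.Quotient.mk q d) = 0 ↔ _
      rw [map_eq_zero_iff _ (IsFractionRing.injective _ _), Ideal.Quotient.eq_zero_iff_mem]
    let ev := Polynomial.eval₂RingHom κ (κ (MvPowerSeries.C Δ) / κ (uu R))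
    have hκu : κ (uu R) ≠ 0 := fun h => huq ((hκ _).1 h)
    have hevh : ev (Polynomial.C (uu R) * Polynomial.X - Polynomial.C (MvPowerSeries.C Δ)) = 0 := by
      simp [ev, mul_div_cancel₀ _ hκu]
    have hev : ∀ r N d, Polynomial.C (uu R) * Polynomial.X - Polynomial.C (MvPowerSeries.C Δ) ∣
        Polynomial.C (uu R) ^ N * r - Polynomial.C d → κ (uu R) ^ N * ev r = κ d := by
      rintro r N d ⟨c, hc⟩
      have := congrArg ev hc
      rw [map_mul ev (Polynomial.C (uu R) * Polynomial.X - _), hevh, zero_mul, map_sub, map_mul, map_pow,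
        sub_eq_zero] at this
      simpa [ev] using this
    let q' : Ideal (Polynomial (DD R)) := RingHom.ker ev
    haveI : q'.IsPrime := RingHom.ker_isPrime ev
    have hfq' : f ∈ q' := by
      have := hev f N0 d0 hd0
      rw [(hκ d0).2 (hq.2 (Ideal.mem_span_singleton_self _)), mul_eq_zero] at this
      exact this.resolve_left (pow_ne_zero _ hκu)
    have hkerq : RingHom.ker ψ ≤ q' := fun r hr => by
      refine (Ideal.span_le.2 ?_) (hker r hr)
      rintro x (rfl | rfl)
      · exact hfq'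
      · exact hevh
    have hq'P : ∀ r ∈ q', ph Δ r ∈ P := by
      intro r hr
      obtain ⟨N, d, hd⟩ := exists_uu_pow_mul Δ r
      have h1 := hev r N d hd
      rw [show ev r = 0 from hr, mul_zero, eq_comm, hκ] at h1
      have h2 : u' ^ N * ph Δ r ∈ P := hι hd ▸ hqp h1
      exact ((‹P.IsPrime›).mem_or_mem h2).resolve_left fun h => huP ((‹P.IsPrime›).mem_of_pow_mem N h)
    haveI : (Ideal.map ψ q').IsPrime := Ideal.map_isPrime_of_surjective hψ hkerq
    let P1 : Ideal (AA Δ) := (Ideal.map ψ q').comap (Ideal.Quotient.mk _)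
    have hP1 : P1 ≤ P := by
      intro a ha
      obtain ⟨r, hr, hra⟩ := (Ideal.mem_map_iff_of_surjective ψ hψ).1 ha
      have h1 : a - ph Δ r ∈ Ideal.span {ph Δ f} := (Ideal.Quotient.mk_eq_mk_iff_sub_mem _ _).1 hra.symm
      have h2 := P.add_mem ((Ideal.span_singleton_le_iff_mem _).2 hfP h1) (hq'P r hr)
      rwa [sub_add_cancel] at h2
    have hfP1 : ph Δ f ∈ P1 := by
      show Ideal.Quotient.mk _ (ph Δ f) ∈ Ideal.map ψ q'
      rw [Ideal.Quotient.mk_singleton_self]
      exact zero_mem _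
    have hP1eq : P1 = P := hmin P1 (Ideal.IsPrime.comap _) hP1 fun h => hf0 (Ideal.mem_bot.1 (h ▸ hfP1))
    intro d hd
    have h1 : Polynomial.C d ∈ Ideal.comap ψ (Ideal.map ψ q') := by
      show Ideal.Quotient.mk _ (ι d) ∈ Ideal.map ψ q'
      have : ι d ∈ P1 := hP1eq ▸ hd
      exact this
    rw [Ideal.comap_map_of_surjective _ hψ, ← RingHom.ker_eq_comap_bot, sup_of_le_left hkerq] at h1
    have h2 : ev (Polynomial.C d) = 0 := h1
    rw [show ev (Polynomial.C d) = κ d from Polynomial.eval₂_C _ _, hκ] at h2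
    exact h2
  haveI : p.IsPrime := Ideal.IsPrime.comap _
  obtain ⟨π, hπ⟩ := (isPrincipal_of_height_le_one p
    (Ideal.height_le_one_of_isPrincipal_of_mem_minimalPrimes _ p hpmin)).principal
  have hπ0 : ι π ≠ 0 := by
    intro h0
    obtain ⟨c, hc⟩ := Ideal.mem_span_singleton'.1 ((hπ ▸ hd0p : d0 ∈ Submodule.span (DD R) {π}))
    rw [← hc, map_mul, h0, mul_zero, mul_eq_zero] at hd0A
    exact hf0 (hd0A.resolve_left (pow_ne_zero _ hu.ne_zero))
  obtain ⟨e₁, π', hππ', hndvd⟩ := exists_eq_uu_pow_mul hΔ hp hπ0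
  rw [← hu'] at hππ' hndvd
  have hπ'P : π' ∈ P := by
    have : ι π ∈ P := show π ∈ p by rw [hπ]; exact Submodule.mem_span_singleton_self _
    rw [hππ'] at this
    exact ((‹P.IsPrime›).mem_or_mem this).resolve_left fun h => huP ((‹P.IsPrime›).mem_of_pow_mem _ h)
  have hpoly : ∀ r, ph Δ r ∈ P → ph Δ r ∈ Ideal.span {π'} := by
    intro r hr
    obtain ⟨N, d, hd⟩ := exists_uu_pow_mul Δ r
    have h1 : d ∈ p := show ι d ∈ P from hι hd ▸ P.mul_mem_left _ hr
    rw [hπ, Submodule.mem_span_singleton] at h1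
    obtain ⟨c, rfl⟩ := h1
    have h2 : π' * (u' ^ e₁ * ι c) = u' ^ N * ph Δ r := by
      rw [hι hd, smul_eq_mul, map_mul, hππ']; ring
    obtain ⟨w', hw'⟩ := hu.pow_dvd_of_dvd_mul_left N hndvd ⟨_, h2⟩
    rw [hw'] at h2
    exact Ideal.mem_span_singleton'.2 ⟨w', mul_left_cancel₀ (pow_ne_zero N hu.ne_zero)
      (by rw [← h2]; ring)⟩
  refine ⟨⟨π', le_antisymm (fun a ha => ?_) ((Ideal.span_singleton_le_iff_mem _).2 hπ'P)⟩⟩
  obtain ⟨r, hr⟩ := hsurj a
  obtain ⟨c, hc⟩ := Ideal.mem_span_singleton'.1 hr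
  have hrP : ph Δ r ∈ P := by
    have := P.sub_mem ha (P.mul_mem_left c hfP)
    rwa [hc, sub_sub_cancel] at this
  have := Ideal.add_mem _ (Ideal.mul_mem_left _ c (hpoly f hfP)) (hpoly r hrP)
  rwa [hc, sub_add_cancel] at this

/-- The generic point of the `v`-axis in the closed fibre. -/
noncomputable abbrev Qs : Ideal (SS R) :=
  RingHom.ker (PowerSeries.map ((residue R).comp (MvPowerSeries.constantCoeff (σ := Fin 1) (R := R))))

theorem residue_DD_eq_zero_iff (d : DD R) :
    residue (DD R) d = 0 ↔ residue R (MvPowerSeries.constantCoeff d) = 0 := by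
  rw [residue_eq_zero_iff, residue_eq_zero_iff, mem_maximalIdeal, mem_maximalIdeal, mem_nonunits_iff,
    mem_nonunits_iff, MvPowerSeries.isUnit_iff_constantCoeff]

theorem residue_ne_zero_of_notMem_Qs {g : SS R} (h : g ∉ Qs (R := R)) :
    PowerSeries.map (residue (DD R)) g ≠ 0 := by
  intro h0
  refine h (PowerSeries.ext fun n => ?_)
  have := congrArg (PowerSeries.coeff n) h0
  rw [PowerSeries.coeff_map, map_zero, residue_DD_eq_zero_iff] at this
  rwa [PowerSeries.coeff_map, map_zero, RingHom.comp_apply]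

omit [IsAdicComplete (maximalIdeal R) R] in
theorem hh_mem_Qs (hΔ : Δ ∈ maximalIdeal R) : hh Δ ∈ Qs (R := R) := by
  rw [RingHom.mem_ker, hh, map_sub, map_mul, PowerSeries.map_C, PowerSeries.map_C, RingHom.comp_apply,
    RingHom.comp_apply, MvPowerSeries.constantCoeff_X, MvPowerSeries.constantCoeff_C,
    (residue_eq_zero_iff Δ).2 hΔ, map_zero, map_zero, zero_mul, sub_zero]

/-- `uv - Δ` vanishes to order one along the `v`-axis. -/
theorem notMem_Qs_sq (hΔ : Δ ∈ maximalIdeal R) {s : SS R} (hs : s ∉ Qs (R := R)) :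
    s * hh Δ ∉ Qs (R := R) ^ 2 := by
  intro hmem
  let ρ : DD R →+* DD (ResidueField R) := MvPowerSeries.map (residue R)
  let P := PowerSeries.map ρ
  have hle : (Qs (R := R)).map P ≤ Ideal.span {PowerSeries.C (uu (ResidueField R))} := by
    rw [Ideal.map_le_iff_le_comap]
    intro f hf
    refine Ideal.mem_span_singleton.2 ((C_dvd_iff _ _).2 fun n => (uu_dvd_iff _).2 ?_)
    have := congrArg (PowerSeries.coeff n) hf
    rw [PowerSeries.coeff_map, map_zero, RingHom.comp_apply] at this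
    rw [PowerSeries.coeff_map]
    show MvPowerSeries.constantCoeff (MvPowerSeries.map (residue R) _) = 0
    rw [MvPowerSeries.constantCoeff_map, this]
  have h2 : P (s * hh Δ) ∈ Ideal.span {PowerSeries.C (uu (ResidueField R))} ^ 2 := by
    have := Ideal.mem_map_of_mem P hmem
    rw [Ideal.map_pow] at this
    exact Ideal.pow_right_mono hle 2 this
  rw [Ideal.span_singleton_pow, Ideal.mem_span_singleton] at h2
  obtain ⟨z, hz⟩ := h2
  have hPh : P (hh Δ) = PowerSeries.C (uu (ResidueField R)) * PowerSeries.X := by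
    simp [P, ρ, hh, (residue_eq_zero_iff Δ).2 hΔ]
  rw [map_mul, hPh] at hz
  have hu0 : PowerSeries.C (uu (ResidueField R)) ≠ 0 := fun h0 => by
    have := congrArg PowerSeries.constantCoeff h0
    rw [PowerSeries.constantCoeff_C, map_zero] at this
    have := congrArg (MvPowerSeries.coeff (Finsupp.single (0 : Fin 1) 1)) this
    rw [MvPowerSeries.coeff_index_single_self_X, map_zero] at this
    exact one_ne_zero this
  have h3 : P s * PowerSeries.X = PowerSeries.C (uu (ResidueField R)) * z :=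
    mul_left_cancel₀ hu0 (by linear_combination hz)
  refine hs (PowerSeries.ext fun n => ?_)
  have h4 := congrArg (PowerSeries.coeff (n + 1)) h3
  rw [PowerSeries.coeff_succ_mul_X, PowerSeries.coeff_C_mul] at h4
  have h5 := congrArg MvPowerSeries.constantCoeff h4
  rw [map_mul, MvPowerSeries.constantCoeff_X, zero_mul, PowerSeries.coeff_map] at h5
  rw [show ρ = MvPowerSeries.map (residue R) from rfl, MvPowerSeries.constantCoeff_map] at h5
  rw [PowerSeries.coeff_map, map_zero, RingHom.comp_apply]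
  exact h5

theorem isUFD_AA (hΔ : Δ ∈ maximalIdeal R) (hp : Prime Δ) :
    IsDomain (AA Δ) ∧ UniqueFactorizationMonoid (AA Δ) := by
  haveI hdom := isDomain_AA hΔ hp
  refine ⟨hdom, ?_⟩
  haveI := isLocalRing_AA hΔ
  haveI := isRegular_SS (R := R)
  haveI : IsDomain (SS R) := isDomain_of_isRegularLocalRing _
  have hhQ := hh_mem_Qs (Δ := Δ) hΔ
  haveI hQs : (Qs (R := R)).IsPrime := RingHom.ker_isPrime _
  let Q : Ideal (AA Δ) := (Qs (R := R)).map (Ideal.Quotient.mk (Ideal.span {hh Δ}))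
  have hkQ : RingHom.ker (Ideal.Quotient.mk (Ideal.span {hh Δ})) ≤ Qs (R := R) := by
    rw [Ideal.mk_ker, Ideal.span_singleton_le_iff_mem]; exact hhQ
  haveI : Q.IsPrime := Ideal.map_isPrime_of_surjective Ideal.Quotient.mk_surjective hkQ
  have hQc : Q.comap (Ideal.Quotient.mk (Ideal.span {hh Δ})) = Qs (R := R) := by
    rw [Ideal.comap_map_of_surjective _ Ideal.Quotient.mk_surjective]
    exact sup_of_le_left hkQ
  -- `A_Q` is regular
  haveI hAQ : IsRegularLocalRing (Localization.AtPrime Q) := by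
    let T := Localization.AtPrime (Q.comap (Ideal.Quotient.mk (Ideal.span {hh Δ})))
    haveI : IsRegularLocalRing T := isRegularLocalRing_localization _
    have h1 : algebraMap (SS R) T (hh Δ) ∈ maximalIdeal T := by
      rw [← Localization.AtPrime.map_eq_maximalIdeal]
      exact Ideal.mem_map_of_mem _ (hQc.symm ▸ hhQ)
    have h2 : algebraMap (SS R) T (hh Δ) ∉ maximalIdeal T ^ 2 := by
      intro hmem
      rw [← Localization.AtPrime.map_eq_maximalIdeal, ← Ideal.map_pow,
        IsLocalization.mem_map_algebraMap_iff (Q.comap (Ideal.Quotient.mk (Ideal.span {hh Δ}))).primeCompl] at hmem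
      obtain ⟨⟨⟨x, hx⟩, ⟨s, hs⟩⟩, hxs⟩ := hmem
      rw [← map_mul] at hxs
      have hinj : Function.Injective (algebraMap (SS R) T) :=
        IsLocalization.injective T (M := (Q.comap (Ideal.Quotient.mk (Ideal.span {hh Δ}))).primeCompl)
          (Ideal.primeCompl_le_nonZeroDivisors _)
      have hs' : s ∉ Qs (R := R) := fun h => hs (show s ∈ Q.comap _ from hQc.symm ▸ h)
      refine notMem_Qs_sq hΔ hs' ?_
      rw [mul_comm, hinj hxs, ← hQc]
      exact hx
    haveI := (regular_quotient_of_notMem_sq h1 h2).1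
    obtain ⟨e, -⟩ := exists_quotientLocalEquiv (Ideal.span {hh Δ}) Q
    have hspan : (Ideal.span {hh Δ}).map (algebraMap (SS R) T) = Ideal.span {algebraMap (SS R) T (hh Δ)} := by
      rw [Ideal.map_span, Set.image_singleton]
    refine IsRegularLocalRing.of_ringEquiv (R := T ⧸ Ideal.span {algebraMap (SS R) T (hh Δ)}) ?_
    exact (Ideal.quotEquivOfEq hspan).symm.trans e
  haveI : IsDomain (Localization.AtPrime Q) := isDomain_of_isRegularLocalRing (Localization.AtPrime Q)
  haveI := ufm_of_regular (Localization.AtPrime Q)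
  haveI hCM : _root_.LocCoh.IsCohenMacaulayLocalRing (AA Δ) :=
    (isCohenMacaulayLocalRing_quotient_span_iff (hh_mem_maximal hΔ)
      (IsSMulRegular.of_ne_zero fun h0 => (notMem_Qs_sq hΔ
        (fun h1 : (1 : SS R) ∈ Qs (R := R) => hQs.ne_top ((Ideal.eq_top_iff_one _).2 h1)))
        (by rw [h0, mul_zero]; exact zero_mem _))).2
      (isCohenMacaulayLocalRing_of_regular _)
  -- primes not in `Q`
  have hcase : ∀ P : Ideal (AA Δ), P.IsPrime → Min1 P → ¬ P ≤ Q → P.IsPrincipal := by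
    intro P hP hmin hPQ
    obtain ⟨a, haP, haQ⟩ := SetLike.not_le_iff_exists.1 hPQ
    obtain ⟨g, rfl⟩ := Ideal.Quotient.mk_surjective a
    exact isPrincipal_of_residue_ne_zero hΔ hp P hmin g
      (residue_ne_zero_of_notMem_Qs fun h => haQ (Ideal.mem_map_of_mem _ h)) haP
  rw [UniqueFactorizationMonoid.iff_exists_prime_mem_of_isPrime]
  intro P0 hP00 hP0
  obtain ⟨x, hx, hx0⟩ := Submodule.exists_mem_ne_zero_of_ne_bot hP00
  obtain ⟨P, hPmin, hPle⟩ := Ideal.exists_minimalPrimes_le ((Ideal.span_singleton_le_iff_mem P0).2 hx)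
  haveI := hPmin.1.1
  have hmin : Min1 P := min1_of_minimalPrimes hPmin
  have hP0' : P ≠ ⊥ := fun h => hx0 (by simpa [h] using hPmin.1.2 (Ideal.mem_span_singleton_self x))
  suffices hprin : P.IsPrincipal by
    obtain ⟨π, hπ⟩ := hprin.principal
    have hπ0 : π ≠ 0 := fun h0 => hP0' (by rw [hπ, h0]; exact Submodule.span_zero_singleton _)
    exact ⟨π, hPle (hπ ▸ Submodule.mem_span_singleton_self π),
      (Ideal.span_singleton_prime hπ0).1 ((show P = Ideal.span {π} from hπ) ▸ hPmin.1.1)⟩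
  by_cases hPQ : P ≤ Q
  swap
  · exact hcase P inferInstance hmin hPQ
  -- generators of `P A_Q` in `P`
  have hdisj : Disjoint (Q.primeCompl : Set (AA Δ)) P := Set.disjoint_compl_left_iff_subset.2 hPQ
  haveI : (P.map (algebraMap (AA Δ) (Localization.AtPrime Q))).IsPrime :=
    IsLocalization.isPrime_of_isPrime_disjoint Q.primeCompl _ _ inferInstance hdisj
  have hhmap : (P.map (algebraMap (AA Δ) (Localization.AtPrime Q))).height ≤ 1 := by
    rw [IsLocalization.height_map_of_disjoint Q.primeCompl P hdisj]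
    exact height_le_one_of_min1 hmin
  obtain ⟨γ, hγ⟩ := (isPrincipal_of_height_le_one _ hhmap).principal
  let G : Set (AA Δ) := {a | a ∈ P ∧ ∀ y ∈ P, ∃ s ∉ Q, a ∣ s * y}
  have hG : G.Nonempty := by
    have hγP : γ ∈ P.map (algebraMap (AA Δ) (Localization.AtPrime Q)) :=
      hγ ▸ Submodule.mem_span_singleton_self γ
    obtain ⟨⟨⟨a, ha⟩, ⟨t, ht⟩⟩, hat⟩ := (IsLocalization.mem_map_algebraMap_iff Q.primeCompl _).1 hγP
    refine ⟨a, ha, fun y hy => ?_⟩
    have hy' := Ideal.mem_map_of_mem (algebraMap (AA Δ) (Localization.AtPrime Q)) hy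
    rw [hγ, Submodule.mem_span_singleton] at hy'
    obtain ⟨c, hc⟩ := hy'
    obtain ⟨⟨c₁, ⟨s, hs⟩⟩, hcs⟩ := IsLocalization.surj Q.primeCompl c
    have hinj : Function.Injective (algebraMap (AA Δ) (Localization.AtPrime Q)) :=
      IsLocalization.injective (Localization.AtPrime Q) (M := Q.primeCompl) (Ideal.primeCompl_le_nonZeroDivisors Q)
    refine ⟨s * t, fun h => ((‹Q.IsPrime›).mem_or_mem h).elim hs ht, c₁, hinj ?_⟩
    simp only [smul_eq_mul] at hc
    simp only at hat hcs
    rw [map_mul, map_mul, map_mul, ← hc, ← hat, ← hcs]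
    ring
  obtain ⟨a, ⟨haP, haG⟩, hamin⟩ := (wellFounded_dvdNotUnit (α := AA Δ)).has_min G hG
  have ha0 : a ≠ 0 := by
    rintro rfl
    obtain ⟨y, hy, hy0⟩ := Submodule.exists_mem_ne_zero_of_ne_bot hP0'
    obtain ⟨s, hs, c, hc⟩ := haG y hy
    rw [zero_mul, mul_eq_zero] at hc
    exact hc.elim (fun h => hs (h ▸ zero_mem _)) hy0
  have huniq : ∀ P' ∈ (Ideal.span {a}).minimalPrimes, P' = P := by
    intro P' hP'
    haveI := hP'.1.1
    have hmin' : Min1 P' := min1_of_minimalPrimes hP'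
    have haP' : a ∈ P' := hP'.1.2 (Ideal.mem_span_singleton_self a)
    by_contra hne
    by_cases hP'Q : P' ≤ Q
    · have hle : P ≤ P' := fun y hy => by
        obtain ⟨s, hs, c, hc⟩ := haG y hy
        exact ((‹P'.IsPrime›).mem_or_mem (hc ▸ P'.mul_mem_right c haP' : s * y ∈ P')).resolve_left
          fun h => hs (hP'Q h)
      exact hne (hmin' P inferInstance hle hP0').symm
    · obtain ⟨d, hd⟩ := (hcase P' inferInstance hmin' hP'Q).principal
      have hdP : d ∉ P := fun h => hne (hmin P' inferInstance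
        (by rw [hd]; exact (Submodule.span_singleton_le_iff_mem _ _).2 h)
        (fun h0 => ha0 (by simpa [h0] using haP')))
      rw [hd, Submodule.mem_span_singleton] at haP'
      obtain ⟨a', rfl⟩ := haP'
      rw [smul_eq_mul] at ha0 haP haG hamin
      have hdunit : ¬ IsUnit d := fun h => (‹P'.IsPrime›).ne_top
        (Ideal.eq_top_of_isUnit_mem _ (hd ▸ Submodule.mem_span_singleton_self d) h)
      refine hamin a' ⟨((‹P.IsPrime›).mem_or_mem haP).resolve_right hdP, fun y hy => ?_⟩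
        ⟨left_ne_zero_of_mul ha0, d, hdunit, rfl⟩
      obtain ⟨s, hs, hc⟩ := haG y hy
      exact ⟨s, hs, (dvd_mul_right a' d).trans hc⟩
  refine ⟨⟨a, le_antisymm (fun y hy => ?_) ((Submodule.span_singleton_le_iff_mem _ _).2 haP)⟩⟩
  by_contra hya
  have hym : Ideal.Quotient.mk (Ideal.span {a}) y ≠ 0 := fun h => hya (Ideal.Quotient.eq_zero_iff_mem.1 h)
  obtain ⟨P', hP', hle⟩ := exists_le_isAssociatedPrime_of_isNoetherianRing (AA Δ)
    (Ideal.Quotient.mk (Ideal.span {a}) y) hym
  have hCM' : _root_.LocCoh.IsCohenMacaulayModule (AA Δ) (AA Δ ⧸ Ideal.span {a}) := by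
    have ham : a ∈ maximalIdeal (AA Δ) := IsLocalRing.le_maximalIdeal (Ideal.IsPrime.ne_top ‹P.IsPrime›) haP
    rw [← isCohenMacaulayModule_congr (quotSMulTopSelf a),
      isCohenMacaulayModule_quotSMulTop_iff ham (IsSMulRegular.of_ne_zero ha0)]
    exact (isCohenMacaulayLocalRing_iff _).1 hCM
  haveI := IsAssociatedPrime.isPrime hP'
  have haP' : Ideal.span {a} ≤ P' := by
    have := IsAssociatedPrime.annihilator_le hP'
    rwa [Submodule.annihilator_top, Ideal.annihilator_quotient] at this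
  obtain ⟨q, hq, hqle⟩ := Ideal.exists_minimalPrimes_le haP'
  haveI := hq.1.1
  have hqP' : q = P' := eq_of_le_of_mem_associatedPrimes hCM' hP' (q := ⟨q, inferInstance⟩)
    (by rw [Module.support_eq_zeroLocus, Ideal.annihilator_quotient]; exact hq.1.2) hqle
  obtain ⟨s, hs, hc⟩ := haG y hy
  refine hs (hPQ (huniq q hq ▸ hqP'.symm ▸ hle ?_))
  rw [Submodule.mem_colon_singleton, Submodule.mem_bot]
  show Ideal.Quotient.mk (Ideal.span {a}) (s * y) = 0
  rw [Ideal.Quotient.eq_zero_iff_mem, Ideal.mem_span_singleton]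
  exact hc

omit [IsAdicComplete (maximalIdeal R) R] in
theorem prime_of_ufd (hΔ : Δ ∈ maximalIdeal R) (hdom : IsDomain (AA Δ))
    (hufd : UniqueFactorizationMonoid (AA Δ)) : Prime Δ := by
  haveI := hdom
  haveI := hufd
  haveI := isLocalRing_AA hΔ
  haveI := isRegular_SS (R := R)
  -- `v = 0`, then reduce modulo the maximal ideal of `R`
  let τ : SS R →+* DD (ResidueField R) := (MvPowerSeries.map (residue R)).comp PowerSeries.constantCoeff
  have hτh : τ (hh Δ) = 0 := by simp [τ, hh, (residue_eq_zero_iff Δ).2 hΔ]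
  have hτu : τ (PowerSeries.C (uu R)) = uu (ResidueField R) := by simp [τ]
  have huk : (uu (ResidueField R)) ≠ 0 := fun h => by
    have := congrArg (MvPowerSeries.coeff (Finsupp.single (0 : Fin 1) 1)) h
    rw [MvPowerSeries.coeff_index_single_self_X, map_zero] at this
    exact one_ne_zero this
  set u' := Ideal.Quotient.mk (Ideal.span {hh Δ}) (PowerSeries.C (uu R)) with hu'
  set v' := Ideal.Quotient.mk (Ideal.span {hh Δ}) (PowerSeries.X : SS R) with hv'
  have huv : u' * v' = Ideal.Quotient.mk (Ideal.span {hh Δ}) (PowerSeries.C (MvPowerSeries.C Δ)) := by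
    rw [← map_mul, Ideal.Quotient.mk_eq_mk_iff_sub_mem]
    exact Ideal.mem_span_singleton_self _
  have hu0 : u' ≠ 0 := fun h => by
    obtain ⟨z, hz⟩ := Ideal.mem_span_singleton'.1 (Ideal.Quotient.eq_zero_iff_mem.1 h)
    have := congrArg τ hz
    rw [map_mul, hτh, mul_zero, hτu] at this
    exact huk this.symm
  have hΔ0 : Δ ≠ 0 := by
    intro h0
    subst h0
    rw [map_zero, map_zero, map_zero, mul_eq_zero] at huv
    refine huv.elim hu0 fun h => ?_
    obtain ⟨z, hz⟩ := Ideal.mem_span_singleton'.1 (Ideal.Quotient.eq_zero_iff_mem.1 h)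
    have := congrArg (fun f => MvPowerSeries.constantCoeff (PowerSeries.coeff 1 f))
      hz
    simp [hh, mul_comm z, mul_assoc] at this
  have hirr : Irreducible u' := by
    refine ⟨fun hunit => ?_, fun x y hxy => ?_⟩
    · obtain ⟨w, hw⟩ := isUnit_iff_dvd_one.1 hunit
      obtain ⟨w, rfl⟩ := Ideal.Quotient.mk_surjective w
      rw [← map_mul, ← map_one (Ideal.Quotient.mk _), Ideal.Quotient.mk_eq_mk_iff_sub_mem,
        Ideal.mem_span_singleton'] at hw
      obtain ⟨z, hz⟩ := hw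
      have := congrArg (fun f => MvPowerSeries.constantCoeff (τ f)) hz
      simp [map_mul, map_sub, hτh, hτu] at this
    · by_contra hne
      push_neg at hne
      obtain ⟨x, rfl⟩ := Ideal.Quotient.mk_surjective x
      obtain ⟨y, rfl⟩ := Ideal.Quotient.mk_surjective y
      have hdiv : ∀ z : SS R, ¬ IsUnit (Ideal.Quotient.mk (Ideal.span {hh Δ}) z) → uu (ResidueField R) ∣ τ z := by
        intro z hz
        have hz' : ¬ IsUnit z := fun h => hz (h.map _)
        rw [PowerSeries.isUnit_iff_constantCoeff, MvPowerSeries.isUnit_iff_constantCoeff] at hz'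
        rw [uu_dvd_iff]
        show MvPowerSeries.constantCoeff (MvPowerSeries.map (residue R) _) = 0
        rw [MvPowerSeries.constantCoeff_map, residue_eq_zero_iff]
        exact hz'
      rw [hu', ← map_mul, Ideal.Quotient.mk_eq_mk_iff_sub_mem, Ideal.mem_span_singleton'] at hxy
      obtain ⟨z, hz⟩ := hxy
      have := congrArg τ hz
      rw [map_mul, hτh, mul_zero, map_sub, map_mul, hτu, eq_comm, sub_eq_zero] at this
      obtain ⟨a, ha⟩ := hdiv x hne.1
      obtain ⟨b, hb⟩ := hdiv y hne.2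
      rw [ha, hb] at this
      have h1 : 1 = uu (ResidueField R) * (a * b) := mul_left_cancel₀ huk (by linear_combination this)
      have := congrArg MvPowerSeries.constantCoeff h1
      simp at this
  have hprime : Prime u' := hirr.prime
  refine ⟨hΔ0, hΔ, fun a b hab => ?_⟩
  obtain ⟨c, hc⟩ := hab
  have h1 : u' ∣ Ideal.Quotient.mk (Ideal.span {hh Δ}) (PowerSeries.C (MvPowerSeries.C a)) *
      Ideal.Quotient.mk (Ideal.span {hh Δ}) (PowerSeries.C (MvPowerSeries.C b)) := by
    refine ⟨v' * Ideal.Quotient.mk _ (PowerSeries.C (MvPowerSeries.C c)), ?_⟩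
    rw [← mul_assoc, huv]
    simp only [← map_mul, hc]
  have key : ∀ a : R, u' ∣ Ideal.Quotient.mk (Ideal.span {hh Δ}) (PowerSeries.C (MvPowerSeries.C a)) → Δ ∣ a := by
    rintro a ⟨x, hx⟩
    obtain ⟨x, rfl⟩ := Ideal.Quotient.mk_surjective x
    rw [hu', ← map_mul, Ideal.Quotient.mk_eq_mk_iff_sub_mem, Ideal.mem_span_singleton'] at hx
    obtain ⟨z, hz⟩ := hx
    have := congrArg (fun f => MvPowerSeries.constantCoeff (PowerSeries.constantCoeff f)) hz
    simp only [hh, map_mul, map_sub, PowerSeries.constantCoeff_X, PowerSeries.constantCoeff_C,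
      MvPowerSeries.constantCoeff_C, MvPowerSeries.constantCoeff_X, mul_zero, zero_mul, sub_zero, zero_sub] at this
    exact ⟨- MvPowerSeries.constantCoeff (PowerSeries.constantCoeff z), by rw [map_neg, MvPowerSeries.constantCoeff_C] at this; linear_combination (-1 : R) * this⟩
  exact (hprime.dvd_or_dvd h1).imp (key a) (key b)

theorem main (R : Type u) [CommRing R] [IsRegularLocalRing R] [IsAdicComplete (maximalIdeal R) R]
    (Δ : R) (hΔ : Δ ∈ maximalIdeal R) :
    (IsDomain (MvPowerSeries (Fin 2) R ⧸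
        Ideal.span {(MvPowerSeries.X 0 * MvPowerSeries.X 1 - MvPowerSeries.C Δ : MvPowerSeries (Fin 2) R)}) ∧
      UniqueFactorizationMonoid (MvPowerSeries (Fin 2) R ⧸
        Ideal.span {(MvPowerSeries.X 0 * MvPowerSeries.X 1 - MvPowerSeries.C Δ : MvPowerSeries (Fin 2) R)}))
      ↔ Prime Δ := by
  let e := (MvPowerSeries.finSuccEquiv R 1).toRingEquiv
  have he : e (MvPowerSeries.X 0 * MvPowerSeries.X 1 - MvPowerSeries.C Δ) = hh Δ := by
    show MvPowerSeries.finSuccEquiv R 1 _ = _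
    rw [map_sub, map_mul, MvPowerSeries.finSuccEquiv_X_zero,
      show (1 : Fin 2) = (0 : Fin 1).succ from rfl, MvPowerSeries.finSuccEquiv_X_succ,
      MvPowerSeries.finSuccEquiv_C, mul_comm]
  let E := Ideal.quotientEquiv
    (Ideal.span {(MvPowerSeries.X 0 * MvPowerSeries.X 1 - MvPowerSeries.C Δ : MvPowerSeries (Fin 2) R)})
    (Ideal.span {hh Δ}) e (by rw [Ideal.map_span, Set.image_singleton]; exact congrArg _ (congrArg _ he.symm))
  constructor
  · rintro ⟨h1, h2⟩
    haveI := h1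
    haveI := h2
    haveI : IsDomain (AA Δ) := E.symm.toMulEquiv.isDomain _
    exact prime_of_ufd hΔ ‹_› (E.toMulEquiv.uniqueFactorizationMonoid ‹_›)
  · intro hp
    obtain ⟨h1, h2⟩ := isUFD_AA hΔ hp
    haveI := h1
    haveI : IsDomain (MvPowerSeries (Fin 2) R ⧸
        Ideal.span {(MvPowerSeries.X 0 * MvPowerSeries.X 1 - MvPowerSeries.C Δ : MvPowerSeries (Fin 2) R)}) :=
      E.toMulEquiv.isDomain _
    exact ⟨‹_›, E.symm.toMulEquiv.uniqueFactorizationMonoid h2⟩

end

end Groth.Agent.CAlgH3.UVDelta
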