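import Mathlib

/-!
Valuation subrings of fraction fields of Dedekind domains and of rational function fields.
-/

set_option autoImplicit false

universe u

open IsDedekindDomain

namespace Groth.Agent.CAlgH3.ValSubrings

variable (A K : Type u) [CommRing A] [IsDedekindDomain A] [Field K] [Algebra A K] [IsFractionRing A K]

theorem exists_heightOne (O : ValuationSubring K) (hA : (algebraMap A K).range ≤ O.toSubring) (hO : O ≠ ⊤) :
    ∃ v : HeightOneSpectrum A, O = (v.valuation K).valuationSubring := by
  have hle : ∀ a : A, O.valuation (algebraMap A K a) ≤ 1 := fun a =>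
    (O.valuation_le_one_iff _).2 (hA ⟨a, rfl⟩)
  let P : Ideal A :=
    { carrier := {a | O.valuation (algebraMap A K a) < 1}
      zero_mem' := by simp
      add_mem' := fun {a b} ha hb => by
        show O.valuation (algebraMap A K (a + b)) < 1
        rw [map_add]
        exact lt_of_le_of_lt (O.valuation.map_add _ _) (max_lt ha hb)
      smul_mem' := fun c a ha => by
        show O.valuation (algebraMap A K (c * a)) < 1
        rw [map_mul, map_mul]
        exact lt_of_le_of_lt (mul_le_of_le_one_left' (hle c)) ha }
  have hP : P.IsPrime := by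
    refine ⟨fun h => ?_, fun {a b} hab => ?_⟩
    · have h1 : (1 : A) ∈ P := h ▸ Submodule.mem_top
      change O.valuation (algebraMap A K 1) < 1 at h1
      simp at h1
    · change O.valuation (algebraMap A K (a * b)) < 1 at hab
      rw [map_mul, map_mul] at hab
      by_contra hc
      push_neg at hc
      have ha : O.valuation (algebraMap A K a) = 1 := le_antisymm (hle a) (not_lt.1 hc.1)
      rw [ha, one_mul] at hab
      exact hc.2 hab
  have hP0 : P ≠ ⊥ := by
    intro h
    refine hO (eq_top_iff.2 fun x _ => ?_)
    obtain ⟨a, b, hb, rfl⟩ := IsFractionRing.div_surjective A x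
    have hb0 : b ≠ 0 := nonZeroDivisors.ne_zero hb
    have hb1 : O.valuation (algebraMap A K b) = 1 :=
      le_antisymm (hle b) (not_lt.1 fun hlt => hb0 ((Submodule.eq_bot_iff P).1 h b hlt))
    rw [← O.valuation_le_one_iff, map_div₀, hb1, div_one]
    exact hle a
  let v : HeightOneSpectrum A := ⟨P, hP, hP0⟩
  refine ⟨v, ?_⟩
  rw [← HeightOneSpectrum.valuationSubringAtPrime_eq_valuationSubring]
  refine (ValuationSubring.eq_of_le_of_ne_top _ (fun x hx => ?_) hO).symm
  rw [HeightOneSpectrum.valuationSubringAtPrime_eq_valuationSubring, Valuation.mem_valuationSubring_iff] at hx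
  obtain ⟨a, d, hd⟩ := HeightOneSpectrum.exists_primeCompl_mul_eq_of_integer v x hx
  have hd1 : O.valuation (algebraMap A K (d : A)) = 1 := le_antisymm (hle _) (not_lt.1 d.2)
  rw [← O.valuation_le_one_iff]
  have := congrArg O.valuation hd
  rw [map_mul, hd1, mul_one] at this
  rw [this]
  exact hle a

theorem iff_exists_heightOne (O : ValuationSubring K) :
    ((algebraMap A K).range ≤ O.toSubring ∧ O ≠ ⊤) ↔
      ∃ v : HeightOneSpectrum A, O = (v.valuation K).valuationSubring := by
  refine ⟨fun h => exists_heightOne A K O h.1 h.2, ?_⟩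
  rintro ⟨v, rfl⟩
  refine ⟨?_, ?_⟩
  · rintro _ ⟨a, rfl⟩
    exact v.valuation_le_one a
  · simp only [ne_eq, Valuation.valuationSubring_eq_top_iff, not_not]
    infer_instance

section ratfunc

variable (k : Type u) [Field k]

theorem valuation_polynomial {Γ : Type*} [LinearOrderedCommGroupWithZero Γ] (w : Valuation (RatFunc k) Γ)
    (hC : ∀ c : k, c ≠ 0 → w (RatFunc.C c) = 1) (hX : 1 < w RatFunc.X) :
    ∀ p : Polynomial k, p ≠ 0 → w (algebraMap (Polynomial k) (RatFunc k) p) = w RatFunc.X ^ p.natDegree := by
  intro p
  induction p using Polynomial.recOnHorner with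
  | M0 => exact fun h => absurd rfl h
  | MC p a hp ha ih =>
    intro _
    by_cases h0 : p = 0
    · subst h0
      rw [zero_add, Polynomial.natDegree_C, pow_zero, RatFunc.algebraMap_C]
      exact hC a ha
    · rw [map_add, RatFunc.algebraMap_C]
      have hdeg : 0 < p.natDegree := by
        by_contra h
        rw [Polynomial.eq_C_of_natDegree_eq_zero (by omega : p.natDegree = 0), hp, map_zero] at h0
        exact h0 rfl
      rw [Polynomial.natDegree_add_C, ← ih h0]
      refine w.map_add_eq_of_lt_left ?_
      rw [hC a ha, ih h0]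
      exact one_lt_pow₀ hX hdeg.ne'
  | MX p hp ih =>
    intro _
    rw [map_mul, map_mul, RatFunc.algebraMap_X, ih hp, Polynomial.natDegree_mul_X hp, pow_succ]

variable [DecidableEq (RatFunc k)]

theorem ratFunc_iff (O : ValuationSubring (RatFunc k)) :
    ((algebraMap k (RatFunc k)).range ≤ O.toSubring ∧ O ≠ ⊤) ↔
      ((∃ v : HeightOneSpectrum (Polynomial k), O = (v.valuation (RatFunc k)).valuationSubring) ∨
        O = (RatFunc.inftyValuation k).valuationSubring) := by
  constructor
  · rintro ⟨hk, hO⟩
    have hCle : ∀ c : k, RatFunc.C c ∈ O := fun c => by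
      rw [← RatFunc.algebraMap_eq_C]
      exact hk ⟨c, rfl⟩
    by_cases hX : (RatFunc.X : RatFunc k) ∈ O
    · left
      refine exists_heightOne (Polynomial k) (RatFunc k) O ?_ hO
      rintro _ ⟨p, rfl⟩
      induction p using Polynomial.induction_on with
      | C a => rw [RatFunc.algebraMap_C]; exact hCle a
      | add p q hp hq => rw [map_add]; exact add_mem hp hq
      | monomial n a ih =>
        rw [pow_succ, ← mul_assoc, map_mul, RatFunc.algebraMap_X]
        exact mul_mem ih hX
    · right
      have hX' : 1 < O.valuation RatFunc.X := lt_of_not_ge fun h => hX ((O.valuation_le_one_iff _).1 h)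
      have hC : ∀ c : k, c ≠ 0 → O.valuation (RatFunc.C c) = 1 := fun c hc => by
        refine le_antisymm ((O.valuation_le_one_iff _).2 (hCle c)) ?_
        have h := (O.valuation_le_one_iff _).2 (hCle c⁻¹)
        rw [map_inv₀, map_inv₀] at h
        exact (inv_le_one₀ (zero_lt_iff.2 (by simp [hc]))).1 h
      refine SetLike.ext fun f => ?_
      rw [Valuation.mem_valuationSubring_iff, ← O.valuation_le_one_iff]
      by_cases hf : f = 0
      · simp [hf]
      have hn : f.num ≠ 0 := RatFunc.num_ne_zero hf
      have hd : f.denom ≠ 0 := f.denom_ne_zero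
      conv_lhs => rw [← RatFunc.num_div_denom f, map_div₀, valuation_polynomial k O.valuation hC hX' _ hn,
        valuation_polynomial k O.valuation hC hX' _ hd]
      rw [RatFunc.inftyValuation_apply, RatFunc.inftyValuation_of_nonzero k hf,
        div_le_one₀ (pow_pos (zero_lt_one.trans hX') _), pow_le_pow_iff_right₀ hX', ← WithZero.exp_zero,
        WithZero.exp_le_exp, RatFunc.intDegree]
      omega
  · rintro (h | rfl)
    · obtain ⟨h1, h2⟩ := (iff_exists_heightOne (Polynomial k) (RatFunc k) O).2 h
      refine ⟨fun x hx => ?_, h2⟩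
      obtain ⟨c, rfl⟩ := hx
      exact h1 ⟨Polynomial.C c, (RatFunc.algebraMap_C c).trans (RatFunc.algebraMap_eq_C (K := k) ▸ rfl)⟩
    · refine ⟨?_, fun h => ?_⟩
      · rintro _ ⟨c, rfl⟩
        rw [RatFunc.algebraMap_eq_C]
        show RatFunc.inftyValuation k (RatFunc.C c) ≤ 1
        by_cases hc : c = 0
        · simp [hc]
        · rw [RatFunc.inftyValuation.C k hc]
      · have hX : (RatFunc.X : RatFunc k) ∈ (RatFunc.inftyValuation k).valuationSubring := h ▸ trivial
        rw [Valuation.mem_valuationSubring_iff, RatFunc.inftyValuation.X, ← WithZero.exp_zero, WithZero.exp_le_exp] at hX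
        omega

end ratfunc

end Groth.Agent.CAlgH3.ValSubrings
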