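import Groth.Agent.LocCoh.ConnectednessLemma
import Groth.Agent.LocCoh.ConnDimRing
import Groth.Agent.HenselLib.Unique
import Groth.Agent.DimLib.Algebra
import Groth.Agent.AdicRing.Basic
import Groth.Agent.CAlgH3.RegularLocal
import Mathlib.RingTheory.AdjoinRoot
import Mathlib.RingTheory.Henselian
import Mathlib.FieldTheory.PrimitiveElement
import Mathlib.RingTheory.Etale.Weakly
import Mathlib.RingTheory.Ideal.GoingDown
import Mathlib.RingTheory.RegularLocalRing.Defs

/-!
# Connected punctured spectra for local rings of virtual dimension at least two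

A quotient of a complete regular local ring of dimension `d` by at most `d - 2` elements has connected
punctured spectrum; hence so do the local rings of étale algebras over a ring with such a completion.
-/

set_option autoImplicit false
set_option linter.style.haveILetI false

universe u

open IsLocalRing Polynomial TensorProduct

namespace Groth.Agent.CAlgH3.VdimConn

/-- A nontrivial quotient by fewer than `d - 1` elements has a connected, nonempty punctured spectrum. -/
theorem isConnected_punctured {S R : Type u} [CommRing S] [IsDomain S] [IsNoetherianRing S] [IsLocalRing S]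
    [IsAdicComplete (maximalIdeal S) S] [CommRing R] [IsLocalRing R] {d : ℕ} (hd : ringKrullDim S = d)
    (s : Finset S) (hs : s.card + 2 ≤ d) (π : S →+* R) (hπ : Function.Surjective π)
    (hker : RingHom.ker π = Ideal.span (s : Set S)) :
    IsConnected {P : PrimeSpectrum R | P ≠ closedPoint R} := by
  classical
  haveI : IsNoetherianRing R := isNoetherianRing_of_surjective S R π hπ
  haveI := IsLocalHom.of_surjective π hπ
  have hmax : (maximalIdeal R).comap π = maximalIdeal S := IsLocalRing.maximalIdeal_comap π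
  have hI : Ideal.span (s : Set S) ≠ ⊤ := hker ▸ RingHom.ker_ne_top π
  -- minimal primes are not maximal
  have hmin : ∀ p ∈ minimalPrimes R, p.comap π < maximalIdeal S := by
    intro p hp
    haveI := hp.1.1
    refine lt_of_le_of_ne (IsLocalRing.le_maximalIdeal (Ideal.IsPrime.ne_top (Ideal.comap_isPrime π p))) fun h => ?_
    have hm : p.comap π ∈ (Ideal.span (s : Set S)).minimalPrimes := by
      refine ⟨⟨Ideal.comap_isPrime π p, hker ▸ Ideal.comap_mono bot_le⟩, fun q hq hle => ?_⟩
      have hkq : RingHom.ker π ≤ q := hker ▸ hq.2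
      haveI := hq.1
      haveI : (q.map π).IsPrime := Ideal.map_isPrime_of_surjective hπ hkq
      have : q.map π ≤ p := Ideal.map_le_iff_le_comap.2 hle
      refine (Ideal.comap_mono (hp.2 ⟨inferInstance, bot_le⟩ this)).trans ?_
      rw [Ideal.comap_map_of_surjective' π hπ]
      exact sup_le le_rfl hkq
    haveI : (p.comap π).IsPrime := Ideal.comap_isPrime π p
    have h1 : (p.comap π).height ≤ (s.card : ℕ∞) := by
      refine (Ideal.height_le_spanRank_toENat_of_mem_minimalPrimes _ _ hm).trans ?_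
      refine (Cardinal.toENat_le_natCast (n := s.card)).2 ?_
      exact (Submodule.spanRank_span_le_card _).trans (le_of_eq (by rw [Finset.coe_sort_coe, Cardinal.mk_coe_finset]))
    have h2 : ((p.comap π).height : WithBot ℕ∞) = d := by
      rw [← hd, ← IsLocalRing.maximalIdeal_height_eq_ringKrullDim]; congr 2
    have h3 : ((p.comap π).height : WithBot ℕ∞) ≤ ((s.card : ℕ∞) : WithBot ℕ∞) := WithBot.coe_le_coe.2 h1
    rw [h2] at h3
    exact absurd (show d ≤ s.card by exact_mod_cast h3) (by omega)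
  have hpc : ∀ p (hp : p ∈ minimalPrimes R), (⟨p, hp.1.1⟩ : PrimeSpectrum R) ≠ closedPoint R := fun p hp h => by
    have := hmin p hp
    rw [show p = maximalIdeal R from congrArg PrimeSpectrum.asIdeal h, hmax] at this
    exact lt_irrefl _ this
  refine ⟨?_, ?_⟩
  · obtain ⟨p, hp⟩ := Ideal.nonempty_minimalPrimes (I := (⊥ : Ideal R)) bot_ne_top
    exact ⟨_, hpc p hp⟩
  intro u v hu hv huv hUu hUv
  by_contra hne
  have hfin : (minimalPrimes R).Finite := minimalPrimes.finite_of_isNoetherianRing R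
  let A := hfin.toFinset.filter fun p => ∃ h : p.IsPrime, (⟨p, h⟩ : PrimeSpectrum R) ∈ u
  let B := hfin.toFinset.filter fun p => ∃ h : p.IsPrime, (⟨p, h⟩ : PrimeSpectrum R) ∈ v
  have hdisj : ∀ P : PrimeSpectrum R, P ≠ closedPoint R → P ∈ u → P ∈ v → False :=
    fun P h1 h2 h3 => hne ⟨P, h1, h2, h3⟩
  have hA : A.Nonempty := by
    obtain ⟨P, -, hPu⟩ := hUu
    obtain ⟨p, hp, hpP⟩ := Ideal.exists_minimalPrimes_le (bot_le : (⊥ : Ideal R) ≤ P.asIdeal)
    refine ⟨p, Finset.mem_filter.2 ⟨hfin.mem_toFinset.2 hp, hp.1.1, ?_⟩⟩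
    exact ((PrimeSpectrum.le_iff_specializes ⟨p, hp.1.1⟩ P).1 hpP).mem_open hu hPu
  have hB : B.Nonempty := by
    obtain ⟨P, -, hPv⟩ := hUv
    obtain ⟨p, hp, hpP⟩ := Ideal.exists_minimalPrimes_le (bot_le : (⊥ : Ideal R) ≤ P.asIdeal)
    refine ⟨p, Finset.mem_filter.2 ⟨hfin.mem_toFinset.2 hp, hp.1.1, ?_⟩⟩
    exact ((PrimeSpectrum.le_iff_specializes ⟨p, hp.1.1⟩ P).1 hpP).mem_open hv hPv
  let a := (A.inf id).comap π
  let b := (B.inf id).comap π
  have hbounds : ∀ {C : Finset (Ideal R)}, C.Nonempty → (∀ p ∈ C, p ∈ minimalPrimes R) →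
      (C.inf id).comap π ≤ maximalIdeal S ∧
        ((0 : ℕ) : WithBot ℕ∞) < ringKrullDim (S ⧸ (C.inf id).comap π) := by
    rintro C ⟨p, hp⟩ hC
    have hlt := hmin p (hC p hp)
    haveI := (hC p hp).1.1
    haveI : (p.comap π).IsPrime := Ideal.comap_isPrime π p
    have hle : (C.inf id).comap π ≤ p.comap π := Ideal.comap_mono (Finset.inf_le (f := id) hp)
    refine ⟨hle.trans hlt.le, ?_⟩
    obtain ⟨e, he⟩ := LocCoh.exists_dim_quotient_eq (maximalIdeal S) (maximalIdeal.isMaximal S).ne_top
    have h1 := (CAlgH3.ringKrullDim_quotient_add_one_le hlt).trans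
      (ringKrullDim_le_of_surjective (Ideal.Quotient.factor hle) (Ideal.Quotient.factor_surjective _))
    obtain ⟨f, hf⟩ := LocCoh.exists_dim_quotient_eq _ (ne_top_of_le_ne_top (maximalIdeal.isMaximal S).ne_top
      (hle.trans hlt.le))
    rw [he, hf] at h1
    rw [hf]
    have : e + 1 ≤ f := by exact_mod_cast h1
    exact_mod_cast (show 0 < f by omega)
  obtain ⟨ham, hda⟩ := hbounds hA fun p hp => hfin.mem_toFinset.1 (Finset.mem_filter.1 hp).1
  obtain ⟨hbm, hdb⟩ := hbounds hB fun p hp => hfin.mem_toFinset.1 (Finset.mem_filter.1 hp).1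
  have hab0 : ringKrullDim (S ⧸ (a ⊔ b)) = ((0 : ℕ) : WithBot ℕ∞) := by
    have hne' : a ⊔ b ≠ ⊤ := ne_top_of_le_ne_top (maximalIdeal.isMaximal S).ne_top (sup_le ham hbm)
    haveI : Nontrivial (S ⧸ (a ⊔ b)) := Ideal.Quotient.nontrivial_iff.2 hne'
    haveI : Ring.KrullDimLE 0 (S ⧸ (a ⊔ b)) := Ring.KrullDimLE.mk₀ fun I hIp => by
      let Q := I.comap (Ideal.Quotient.mk (a ⊔ b))
      haveI : Q.IsPrime := Ideal.comap_isPrime _ I
      have hQ : a ⊔ b ≤ Q := (Ideal.mk_ker (I := a ⊔ b)).ge.trans (Ideal.comap_mono bot_le)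
      have hkQ : RingHom.ker π ≤ Q := (le_trans (Ideal.comap_mono bot_le) (le_sup_left (b := b))).trans hQ
      haveI : (Q.map π).IsPrime := Ideal.map_isPrime_of_surjective hπ hkQ
      have hcm : (Q.map π).comap π = Q := by
        rw [Ideal.comap_map_of_surjective' π hπ]; exact sup_eq_left.2 hkQ
      have hAle : A.inf id ≤ Q.map π := by
        rw [← Ideal.map_comap_of_surjective π hπ (A.inf id)]; exact Ideal.map_mono (le_sup_left.trans hQ)
      have hBle : B.inf id ≤ Q.map π := by
        rw [← Ideal.map_comap_of_surjective π hπ (B.inf id)]; exact Ideal.map_mono (le_sup_right.trans hQ)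
      obtain ⟨p, hp, hpQ⟩ := LocCoh.exists_mem_le_of_inf_le inferInstance hAle
      obtain ⟨q, hq, hqQ⟩ := LocCoh.exists_mem_le_of_inf_le inferInstance hBle
      obtain ⟨hp', hpu⟩ := (Finset.mem_filter.1 hp).2
      obtain ⟨hq', hqv⟩ := (Finset.mem_filter.1 hq).2
      have hQm : Q.map π = maximalIdeal R := by
        by_contra h
        let P : PrimeSpectrum R := ⟨Q.map π, inferInstance⟩
        have hP : P ≠ closedPoint R := fun hh => h (congrArg PrimeSpectrum.asIdeal hh)
        rcases huv hP with hPu | hPv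
        · exact hdisj _ (hpc q (hfin.mem_toFinset.1 (Finset.mem_filter.1 hq).1))
            (((PrimeSpectrum.le_iff_specializes ⟨q, hq'⟩ P).1 hqQ).mem_open hu hPu) hqv
        · exact hdisj _ (hpc p (hfin.mem_toFinset.1 (Finset.mem_filter.1 hp).1)) hpu
            (((PrimeSpectrum.le_iff_specializes ⟨p, hp'⟩ P).1 hpQ).mem_open hv hPv)
      haveI : Q.IsMaximal := by
        rw [← hcm, hQm, hmax]; exact maximalIdeal.isMaximal S
      rw [← Ideal.map_comap_of_surjective _ Ideal.Quotient.mk_surjective I]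
      exact (Ideal.map_eq_top_or_isMaximal_of_surjective _ Ideal.Quotient.mk_surjective
        (inferInstanceAs Q.IsMaximal)).resolve_left (by
          rw [Ideal.map_comap_of_surjective _ Ideal.Quotient.mk_surjective I]; exact hIp.ne_top)
    exact le_antisymm (Ring.krullDimLE_iff.1 inferInstance) (by exact_mod_cast ringKrullDim_nonneg_of_nontrivial)
  have hrad : (Ideal.span (s : Set S)).radical = (a ⊓ b).radical := by
    have hinf : (A.inf id) ⊓ (B.inf id) ≤ (⊥ : Ideal R).radical := by
      rw [Ideal.radical_eq_sInf]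
      refine le_sInf ?_
      rintro q ⟨-, hq⟩
      obtain ⟨p, hp, hpq⟩ := Ideal.exists_minimalPrimes_le (bot_le : (⊥ : Ideal R) ≤ q)
      rcases huv (hpc p hp) with h | h
      · exact inf_le_left.trans ((Finset.inf_le (f := id) (Finset.mem_filter.2 ⟨hfin.mem_toFinset.2 hp, hp.1.1, h⟩)).trans hpq)
      · exact inf_le_right.trans ((Finset.inf_le (f := id) (Finset.mem_filter.2 ⟨hfin.mem_toFinset.2 hp, hp.1.1, h⟩)).trans hpq)
    refine le_antisymm (Ideal.radical_mono (hker ▸ le_inf (Ideal.comap_mono bot_le) (Ideal.comap_mono bot_le))) ?_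
    refine Ideal.radical_le_radical_iff.2 fun x hx => ?_
    obtain ⟨n, hn⟩ := hinf (show π x ∈ A.inf id ⊓ B.inf id from ⟨hx.1, hx.2⟩)
    exact ⟨n, hker ▸ (show π (x ^ n) = 0 by rw [map_pow]; exact Ideal.mem_bot.1 hn)⟩
  have hcd : _root_.LocCoh.CdLE S (a ⊓ b) s.card := fun M _ _ i hi => by
    haveI := LocCoh.cdLE_span_finset s M i hi
    obtain ⟨ε⟩ := LocCoh.nonempty_H_equiv_of_radical hrad i M
    exact ε.symm.toEquiv.subsingleton
  have h := LocCoh.connectedness_lemma hd 0 a b s.card
    (ne_top_of_le_ne_top (maximalIdeal.isMaximal S).ne_top ham) (ne_top_of_le_ne_top (maximalIdeal.isMaximal S).ne_top hbm)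
    hab0 (hab0 ▸ lt_min hda hdb) hcd
  omega

end Groth.Agent.CAlgH3.VdimConn
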