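import Groth.Agent.CAlgH3.VdimConn
import Mathlib.RingTheory.Flat.FaithfullyFlat.Algebra
import Mathlib.RingTheory.AdicCompletion.AsTensorProduct
import Mathlib.RingTheory.Unramified.Field
import Groth.Agent.Matlis6.CompletionNoetherian
import Groth.Agent.CommAlg6.CompletionEquidim
import Groth.Agent.FSchLib.Completion

/-!
# Generalizations of points of étale algebras over local rings of virtual dimension at least two
-/

set_option autoImplicit false
set_option linter.style.haveILetI false

universe u

open IsLocalRing Polynomial TensorProduct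

namespace Groth.Agent.CAlgH3.VdimConn

/-- A monic polynomial with irreducible reduction gives a local ring with maximal ideal generated downstairs. -/
theorem exists_isLocalRing_adjoinRoot {R F : Type u} [CommRing R] [IsLocalRing R] [Field F] (φ : R →+* F)
    (hφ : Function.Surjective φ) (P : R[X]) (hP : P.Monic) (hirr : Irreducible (P.map φ)) :
    ∃ _ : IsLocalRing (AdjoinRoot P),
      maximalIdeal (AdjoinRoot P) = (maximalIdeal R).map (AdjoinRoot.of P) := by
  haveI : Fact (Irreducible (P.map φ)) := ⟨hirr⟩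
  haveI : Module.Finite R (AdjoinRoot P) := hP.finite_adjoinRoot
  have hk : RingHom.ker φ = maximalIdeal R :=
    IsLocalRing.eq_maximalIdeal (RingHom.ker_isMaximal_of_surjective φ hφ)
  let I := (maximalIdeal R).map (AdjoinRoot.of P)
  let ρ : AdjoinRoot P →+* AdjoinRoot (P.map φ) :=
    AdjoinRoot.lift ((AdjoinRoot.of (P.map φ)).comp φ) (AdjoinRoot.root _) (by
      rw [← Polynomial.eval₂_map]; exact AdjoinRoot.eval₂_root _)
  have hρ : Function.Surjective ρ := fun e => by
    obtain ⟨G, rfl⟩ := AdjoinRoot.mk_surjective e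
    obtain ⟨G', rfl⟩ := Polynomial.map_surjective φ hφ G
    refine ⟨AdjoinRoot.mk P G', ?_⟩
    rw [AdjoinRoot.lift_mk, ← Polynomial.eval₂_map, ← AdjoinRoot.aeval_eq]
    rfl
  have hker : RingHom.ker ρ ≤ I := by
    intro e he
    obtain ⟨G, rfl⟩ := AdjoinRoot.mk_surjective e
    rw [RingHom.mem_ker, AdjoinRoot.lift_mk, ← Polynomial.eval₂_map] at he
    have hd : P.map φ ∣ G.map φ := by
      rw [← AdjoinRoot.mk_eq_zero, ← AdjoinRoot.aeval_eq]
      exact he
    obtain ⟨H, hH⟩ := hd
    obtain ⟨H', rfl⟩ := Polynomial.map_surjective φ hφ H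
    have h1 : G - P * H' ∈ RingHom.ker (Polynomial.mapRingHom φ) := by
      rw [RingHom.mem_ker, map_sub, map_mul, Polynomial.coe_mapRingHom, hH, sub_self]
    rw [Polynomial.ker_mapRingHom, hk] at h1
    have hle : (maximalIdeal R).map (Polynomial.C : R →+* R[X]) ≤ I.comap (AdjoinRoot.mk P) :=
      Ideal.map_le_iff_le_comap.2 fun r hr => Ideal.mem_map_of_mem (AdjoinRoot.of P) hr
    have h2 : AdjoinRoot.mk P (G - P * H') ∈ I := hle h1
    rwa [map_sub, map_mul, AdjoinRoot.mk_self, zero_mul, sub_zero] at h2
  haveI hM : (RingHom.ker ρ).IsMaximal := RingHom.ker_isMaximal_of_surjective ρ hρ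
  have hall : ∀ N : Ideal (AdjoinRoot P), N.IsMaximal → N = RingHom.ker ρ := fun N hN => by
    refine (hM.eq_of_le hN.ne_top (hker.trans (Ideal.map_le_iff_le_comap.2 ?_))).symm
    exact (IsLocalRing.eq_maximalIdeal
      (Ideal.isMaximal_comap_of_isIntegral_of_isMaximal (R := R) N)).ge
  have hloc : IsLocalRing (AdjoinRoot P) := IsLocalRing.of_unique_max_ideal ⟨_, hM, hall⟩
  refine ⟨hloc, ?_⟩
  have hm := hall _ (maximalIdeal.isMaximal (AdjoinRoot P))
  refine hm.trans (le_antisymm hker (Ideal.map_le_iff_le_comap.2 fun r hr => ?_))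
  show ρ (AdjoinRoot.of P r) = 0
  rw [AdjoinRoot.lift_of, RingHom.comp_apply, show φ r = 0 from hk.ge hr, map_zero]

/-- Maps out of étale algebras into flat algebras are flat. -/
theorem flat_of_etale {A B C : Type u} [CommRing A] [CommRing B] [CommRing C] [Algebra A B] [Algebra A C]
    [Algebra.Etale A B] [Module.Flat A C] [Algebra B C] [IsScalarTower A B C] : Module.Flat B C := by
  let μ : B ⊗[A] C →ₐ[B] C := Algebra.TensorProduct.lift (Algebra.ofId B C) (AlgHom.id A C) fun _ _ => Commute.all _ _
  letI := μ.toRingHom.toAlgebra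
  haveI : IsScalarTower B (B ⊗[A] C) C := IsScalarTower.of_algebraMap_eq fun b => (μ.commutes b).symm
  let ι : C →ₐ[A] B ⊗[A] C := Algebra.TensorProduct.includeRight
  letI := ι.toRingHom.toAlgebra
  haveI : IsScalarTower A C (B ⊗[A] C) := IsScalarTower.of_algebraMap_eq fun a => (ι.commutes a).symm
  haveI : IsScalarTower C (B ⊗[A] C) C := IsScalarTower.of_algebraMap_eq fun c => by
    show c = μ (1 ⊗ₜ c)
    simp [μ]
  haveI : Algebra.Etale C (B ⊗[A] C) := by
    refine Algebra.Etale.of_equiv (A := C ⊗[A] B)
      (AlgEquiv.ofRingEquiv (f := (Algebra.TensorProduct.comm A C B).toRingEquiv) fun c => ?_)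
    rw [Algebra.TensorProduct.algebraMap_apply]
    rfl
  haveI : Algebra.Etale (B ⊗[A] C) C := Algebra.Etale.of_restrictScalars C _ _
  exact Module.Flat.trans B (B ⊗[A] C) C

variable {A : Type u} [CommRing A] [IsNoetherianRing A] [IsLocalRing A]

/-- The generalizations of a point of an étale algebra over the closed point. -/
theorem isConnected_lt {S : Type u} [CommRing S] [IsRegularLocalRing S] [IsAdicComplete (maximalIdeal S) S]
    {d : ℕ} (hd : ringKrullDim S = d) (s : Finset S) (hs : s.card + 2 ≤ d)
    (e : AdicCompletion (maximalIdeal A) A ≃+* S ⧸ Ideal.span (s : Set S))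
    (B : Type u) [CommRing B] [Algebra A B] [Algebra.Etale A B] (Q : Ideal B) [Q.IsPrime]
    (hQ : Q.comap (algebraMap A B) = maximalIdeal A) :
    IsConnected {P : PrimeSpectrum B | P.asIdeal < Q} := by
  classical
  -- the completion
  haveI : IsNoetherianRing (AdicCompletion (maximalIdeal A) A) := Matlis6.isNoetherianRing_adicCompletion _
  haveI := CommAlg6.isLocalHom_completion A
  haveI : Module.Flat A (AdicCompletion (maximalIdeal A) A) := AdicCompletion.flat_of_isNoetherian _
  let R := S ⧸ Ideal.span (s : Set S)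
  haveI : IsLocalRing R := e.isLocalRing
  let qm : S →+* R := Ideal.Quotient.mk _
  let ια : A →+* R := e.toRingHom.comp (algebraMap A (AdicCompletion (maximalIdeal A) A))
  letI : Algebra A R := ια.toAlgebra
  haveI : IsScalarTower A A (AdicCompletion (maximalIdeal A) A) := inferInstance
  haveI : Module.Flat A R := Module.Flat.of_linearEquiv (AlgEquiv.ofRingEquiv (f := e)
    (fun a => (rfl : e (algebraMap A _ a) = algebraMap A R a))).toLinearEquiv.symm
  haveI : IsLocalHom (algebraMap A R) := by
    show IsLocalHom ια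
    haveI : IsLocalHom e.toRingHom := ⟨fun x hx => by simpa using hx.map e.symm.toRingHom⟩
    exact RingHom.isLocalHom_comp _ _
  haveI : IsLocalHom qm := IsLocalHom.of_surjective qm Ideal.Quotient.mk_surjective
  have hmR : (maximalIdeal A).map (algebraMap A R) = maximalIdeal R := by
    have h1 : (maximalIdeal A).map (algebraMap A (AdicCompletion (maximalIdeal A) A)) =
        maximalIdeal (AdicCompletion (maximalIdeal A) A) := AdicCompletion.maximalIdeal_eq_map.symm
    show (maximalIdeal A).map (e.toRingHom.comp _) = _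
    rw [← Ideal.map_map, h1]
    exact map_ringEquiv_maximalIdeal e
  -- residue fields
  let k := ResidueField A
  let κ : k →+* ResidueField R := ResidueField.map (algebraMap A R)
  have hκ : Function.Bijective κ := by
    refine ⟨κ.injective, fun x => ?_⟩
    obtain ⟨r, rfl⟩ := residue_surjective x
    obtain ⟨z, rfl⟩ := e.surjective r
    obtain ⟨a, ha⟩ : ∃ a : A, z - algebraMap A _ a ∈ maximalIdeal (AdicCompletion (maximalIdeal A) A) :=
      by
      obtain ⟨a, ha⟩ := Ideal.Quotient.mk_surjective (AdicCompletion.evalₐ (maximalIdeal A) 1 z)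
      refine ⟨a, ?_⟩
      rw [AdicCompletion.maximalIdeal_eq_map, ← pow_one (Ideal.map _ _),
        ← FSchLib.ker_evalₐ _ (IsNoetherian.noetherian _) 1, RingHom.mem_ker]
      show AdicCompletion.evalₐ (maximalIdeal A) 1 (z - algebraMap A _ a) = 0
      rw [map_sub, AlgHom.commutes, ← ha]
      exact sub_self _
    refine ⟨residue A a, ((Ideal.Quotient.mk_eq_mk_iff_sub_mem _ _).2 ?_).symm⟩
    have h2 := Ideal.mem_map_of_mem e.toRingHom ha
    rw [show (maximalIdeal (AdicCompletion (maximalIdeal A) A)).map e.toRingHom = maximalIdeal R from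
      map_ringEquiv_maximalIdeal e, map_sub] at h2
    exact h2
  let ψ : ResidueField R →+* k := (RingEquiv.ofBijective κ hκ).symm.toRingHom
  have hψκ : ∀ x, ψ (κ x) = x := fun x => (RingEquiv.ofBijective κ hκ).symm_apply_apply x
  -- the residue extension
  let L := Q.ResidueField
  haveI : Q.LiesOver (maximalIdeal A) := ⟨hQ.symm⟩
  let ι₀ : k →+* L := Ideal.Quotient.lift (maximalIdeal A) (algebraMap A L) fun a ha => by
    rw [IsScalarTower.algebraMap_apply A B L, Ideal.algebraMap_residueField_eq_zero]
    exact hQ.ge ha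
  letI : Algebra k L := ι₀.toAlgebra
  haveI : IsScalarTower A k L := IsScalarTower.of_algebraMap_eq fun a => rfl
  haveI : Algebra.FormallyUnramified B L := Algebra.FormallyUnramified.comp B (Localization.AtPrime Q) L
  haveI : Algebra.FormallyUnramified A L := Algebra.FormallyUnramified.comp A B L
  haveI : Algebra.FormallyUnramified k L := Algebra.FormallyUnramified.of_restrictScalars A k L
  haveI : Algebra.EssFiniteType A L := Algebra.EssFiniteType.comp A B L
  haveI : Algebra.EssFiniteType k L := Algebra.EssFiniteType.of_comp A k L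
  haveI : Module.Finite k L := Algebra.FormallyUnramified.finite_of_free k L
  haveI : Algebra.IsSeparable k L := Algebra.FormallyUnramified.isSeparable k L
  obtain ⟨θ, hθ⟩ := Field.exists_primitive_element k L
  have hθi : IsIntegral k θ := IsIntegral.of_finite k θ
  -- the model
  let φ : S →+* k := ψ.comp ((residue R).comp qm)
  have hφ : Function.Surjective φ :=
    (RingEquiv.ofBijective κ hκ).symm.surjective.comp (residue_surjective.comp Ideal.Quotient.mk_surjective)
  obtain ⟨F, hFmap, -, hF⟩ := lifts_and_degree_eq_and_monic (Polynomial.map_surjective φ hφ (minpoly k θ))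
    (minpoly.monic hθi)
  let f : R[X] := F.map qm
  have hf : f.Monic := hF.map qm
  have hfmap : f.map (ψ.comp (residue R)) = minpoly k θ := by rw [Polynomial.map_map]; exact hFmap
  obtain ⟨hlS, hmS⟩ := exists_isLocalRing_adjoinRoot φ hφ F hF (hFmap.symm ▸ minpoly.irreducible hθi)
  obtain ⟨hlC, hmC⟩ := exists_isLocalRing_adjoinRoot (ψ.comp (residue R))
    ((RingEquiv.ofBijective κ hκ).symm.surjective.comp residue_surjective) f hf (hfmap.symm ▸ minpoly.irreducible hθi)
  let S' := AdjoinRoot F
  let C := AdjoinRoot f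
  haveI : IsLocalRing S' := hlS
  haveI : IsLocalRing C := hlC
  haveI : Module.Finite S S' := hF.finite_adjoinRoot
  haveI : Module.Free S S' := hF.free_adjoinRoot
  haveI : Module.Finite R C := hf.finite_adjoinRoot
  haveI : Module.Free R C := hf.free_adjoinRoot
  haveI : IsNoetherianRing S' := isNoetherianRing_of_surjective _ _ (AdjoinRoot.mk F) AdjoinRoot.mk_surjective
  have hinj : Function.Injective (algebraMap S S') :=
    FaithfulSMul.algebraMap_injective S S'
  have hd' : ringKrullDim S' = d := (DimLib.ringKrullDim_eq_of_isIntegral hinj).symm.trans hd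
  haveI : IsRegularLocalRing S' := by
    refine IsRegularLocalRing.of_spanFinrank_maximalIdeal_le S' ?_
    rw [hd', hmS]
    have h1 : (maximalIdeal S).spanFinrank = d := by
      have := IsRegularLocalRing.spanFinrank_maximalIdeal (R := S)
      rw [hd] at this
      exact_mod_cast this
    obtain ⟨t, htc, ht⟩ := Submodule.FG.exists_span_finset_card_eq_spanFinrank (IsNoetherian.noetherian (maximalIdeal S))
    have h2 : ((maximalIdeal S).map (AdjoinRoot.of F)).spanFinrank ≤ d := by
      rw [← h1, ← htc, ← show Ideal.span (t : Set S) = maximalIdeal S from ht, Ideal.map_span]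
      refine (Submodule.spanFinrank_span_le_ncard_of_finite (t.finite_toSet.image _)).trans ?_
      exact (Set.ncard_image_le t.finite_toSet).trans (Set.ncard_coe_finset t).le
    exact_mod_cast h2
  haveI : IsDomain S' := CAlgH3.isDomain_of_isRegularLocalRing S'
  haveI : IsAdicComplete (maximalIdeal S') S' := by
    rw [show maximalIdeal S' = (maximalIdeal S).map (algebraMap S S') from hmS]
    exact (IsAdicComplete.map_algebraMap_iff _ _).2 (AdicRing.isAdicComplete_of_finite _ _)
  haveI : IsAdicComplete (maximalIdeal C) C := by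
    haveI : IsNoetherianRing R := inferInstance
    haveI : IsAdicComplete (maximalIdeal R) R := by
      rw [← IsLocalRing.map_maximalIdeal_of_surjective qm Ideal.Quotient.mk_surjective]
      exact (IsAdicComplete.map_algebraMap_iff (maximalIdeal S) (S := R) R).2
        (AdicRing.isAdicComplete_of_finite _ _)
    rw [show maximalIdeal C = (maximalIdeal R).map (algebraMap R C) from hmC]
    exact (IsAdicComplete.map_algebraMap_iff _ _).2 (AdicRing.isAdicComplete_of_finite _ _)
  let π' : S' →+* C := AdjoinRoot.lift ((AdjoinRoot.of f).comp qm) (AdjoinRoot.root f) (by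
    rw [← Polynomial.eval₂_map]; exact AdjoinRoot.eval₂_root _)
  have hπ'mk : ∀ G, π' (AdjoinRoot.mk F G) = AdjoinRoot.mk f (G.map qm) := fun G => by
    rw [AdjoinRoot.lift_mk, ← Polynomial.eval₂_map, ← AdjoinRoot.aeval_eq]; rfl
  have hπ' : Function.Surjective π' := fun c => by
    obtain ⟨g, rfl⟩ := AdjoinRoot.mk_surjective c
    obtain ⟨G, rfl⟩ := Polynomial.map_surjective qm Ideal.Quotient.mk_surjective g
    exact ⟨_, hπ'mk G⟩
  let s' : Finset S' := s.image (AdjoinRoot.of F)
  have hs' : s'.card + 2 ≤ d := (Nat.add_le_add_right Finset.card_image_le 2).trans hs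
  have hker : RingHom.ker π' = Ideal.span (s' : Set S') := by
    rw [Finset.coe_image, ← Ideal.map_span]
    refine le_antisymm (fun x hx => ?_) (Ideal.map_le_iff_le_comap.2 fun r hr => ?_)
    · obtain ⟨G, rfl⟩ := AdjoinRoot.mk_surjective x
      rw [RingHom.mem_ker, hπ'mk, AdjoinRoot.mk_eq_zero] at hx
      obtain ⟨h, hh⟩ := hx
      obtain ⟨H, rfl⟩ := Polynomial.map_surjective qm Ideal.Quotient.mk_surjective h
      have h1 : G - F * H ∈ RingHom.ker (Polynomial.mapRingHom qm) := by
        rw [RingHom.mem_ker, map_sub, map_mul, Polynomial.coe_mapRingHom, hh, sub_self]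
      rw [Polynomial.ker_mapRingHom, Ideal.mk_ker] at h1
      have hle : (Ideal.span (s : Set S)).map (Polynomial.C : S →+* S[X]) ≤
          ((Ideal.span (s : Set S)).map (AdjoinRoot.of F)).comap (AdjoinRoot.mk F) :=
        Ideal.map_le_iff_le_comap.2 fun r hr => Ideal.mem_map_of_mem (AdjoinRoot.of F) hr
      have h2 : AdjoinRoot.mk F (G - F * H) ∈ (Ideal.span (s : Set S)).map (AdjoinRoot.of F) := hle h1
      rwa [map_sub, map_mul, AdjoinRoot.mk_self, zero_mul, sub_zero] at h2
    · show π' (AdjoinRoot.of F r) = 0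
      rw [AdjoinRoot.lift_of, RingHom.comp_apply, show qm r = 0 from Ideal.Quotient.eq_zero_iff_mem.2 hr, map_zero]
  have hconn := isConnected_punctured hd' s' hs' π' hπ' hker
  -- the map from `B`
  haveI : IsScalarTower A R C := inferInstance
  haveI : Module.Flat A C := Module.Flat.trans A R C
  have h0 : f.eval₂ (ι₀.comp (ψ.comp (residue R))) θ = 0 := by
    rw [← Polynomial.eval₂_map, hfmap]; exact minpoly.aeval k θ
  let χ₀ : C →+* L := AdjoinRoot.lift (ι₀.comp (ψ.comp (residue R))) θ h0
  let χ : C →ₐ[A] L := { χ₀ with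
    commutes' := fun a => by
      show χ₀ (AdjoinRoot.of f (algebraMap A R a)) = _
      rw [AdjoinRoot.lift_of, RingHom.comp_apply, RingHom.comp_apply,
        show residue R (algebraMap A R a) = κ (residue A a) from rfl, hψκ]
      rfl }
  have hχ : Function.Surjective χ := fun x => by
    have : x ∈ Algebra.adjoin k {θ} := by
      rw [← IntermediateField.adjoin_simple_toSubalgebra_of_isAlgebraic hθi.isAlgebraic, hθ]; trivial
    induction this using Algebra.adjoin_induction with
    | mem y hy => exact ⟨AdjoinRoot.root f, by rw [Set.mem_singleton_iff.1 hy]; exact AdjoinRoot.lift_root h0⟩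
    | algebraMap c =>
      obtain ⟨r, hr⟩ := ((RingEquiv.ofBijective κ hκ).symm.surjective.comp residue_surjective) c
      refine ⟨AdjoinRoot.of f r, (AdjoinRoot.lift_of h0).trans ?_⟩
      show ι₀ _ = ι₀ c
      exact congrArg ι₀ hr
    | add y z _ _ hy hz => obtain ⟨a, rfl⟩ := hy; obtain ⟨b, rfl⟩ := hz; exact ⟨a + b, map_add χ a b⟩
    | mul y z _ _ hy hz => obtain ⟨a, rfl⟩ := hy; obtain ⟨b, rfl⟩ := hz; exact ⟨a * b, map_mul χ a b⟩
  have hkχ : RingHom.ker χ.toRingHom = maximalIdeal C :=
    IsLocalRing.eq_maximalIdeal (RingHom.ker_isMaximal_of_surjective _ hχ)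
  let eL := Ideal.quotientKerAlgEquivOfSurjective hχ
  haveI : IsAdicComplete (RingHom.ker χ.toRingHom) C := hkχ ▸ inferInstance
  haveI : HenselianRing C (RingHom.ker χ) := IsAdicComplete.henselianRing C (RingHom.ker χ.toRingHom)
  obtain ⟨τ, hτ, -⟩ := HenselLib.existsUnique_lift (RingHom.ker χ)
    (eL.symm.toAlgHom.comp (IsScalarTower.toAlgHom A B L))
  have hχτ : ∀ b, χ (τ b) = algebraMap B L b := fun b => by
    have h := congrArg eL congr($hτ b)
    simpa [eL] using h
  letI : Algebra B C := τ.toRingHom.toAlgebra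
  haveI : IsScalarTower A B C := IsScalarTower.of_algebraMap_eq fun a => (τ.commutes a).symm
  haveI : Module.Flat B C := flat_of_etale (A := A)
  have hcQ : (maximalIdeal C).comap (algebraMap B C) = Q := by
    rw [← hkχ]
    ext b
    show χ (τ b) = 0 ↔ _
    rw [hχτ, Ideal.algebraMap_residueField_eq_zero]
  have hQC : ∀ P : Ideal C, P.IsPrime → P.comap (algebraMap B C) = Q → P = maximalIdeal C := by
    intro P hP h
    refine le_antisymm (IsLocalRing.le_maximalIdeal hP.ne_top) ?_
    rw [hmC, ← hmR, Ideal.map_map, Ideal.map_le_iff_le_comap]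
    intro a ha
    show algebraMap A C a ∈ P
    rw [IsScalarTower.algebraMap_apply A B C]
    exact h.ge (hQ.ge ha : algebraMap A B a ∈ Q)
  haveI hgd : Algebra.HasGoingDown B C := inferInstance
  have himg : PrimeSpectrum.comap (algebraMap B C) '' {P | P ≠ closedPoint C} = {P : PrimeSpectrum B | P.asIdeal < Q} := by
    ext P
    constructor
    · rintro ⟨P', hP', rfl⟩
      refine lt_of_le_of_ne ((Ideal.comap_mono (IsLocalRing.le_maximalIdeal P'.2.ne_top)).trans hcQ.le) fun h => ?_
      exact hP' (PrimeSpectrum.ext (hQC _ P'.2 h))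
    · intro hP
      haveI : (maximalIdeal C).LiesOver Q := ⟨hcQ.symm⟩
      obtain ⟨P', -, hP'p, hP'l⟩ := Ideal.exists_ideal_le_liesOver_of_le (p := P.asIdeal) (q := Q) (maximalIdeal C) hP.le
      refine ⟨⟨P', hP'p⟩, fun h => ?_, PrimeSpectrum.ext hP'l.over.symm⟩
      refine hP.ne (hP'l.over.trans ?_)
      show P'.comap _ = Q
      rw [show P' = maximalIdeal C from congrArg PrimeSpectrum.asIdeal h, hcQ]
  rw [← himg]
  exact hconn.image _ (PrimeSpectrum.continuous_comap _).continuousOn

end Groth.Agent.CAlgH3.VdimConn
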