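import Mathlib

/-!
Addition in the kernel of Frobenius on Witt vectors is coefficientwise in a favourable case.
-/

set_option autoImplicit false

universe u

open WittVector

namespace Groth.Agent.CAlgH3

variable {p : ℕ} [hp : Fact p.Prime]

/-- The coefficients of `[g] * z`. -/
theorem coeff_teichmuller_mul {A : Type u} [CommRing A] (g : A) (z : WittVector p A) (n : ℕ) :
    (teichmuller p g * z).coeff n = g ^ p ^ n * z.coeff n := by
  let U := MvPolynomial (Option ℕ) ℤ
  let G : U := MvPolynomial.X none
  let Z : WittVector p U := WittVector.mk p fun i => MvPolynomial.X (some i)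
  have key : teichmuller p G * Z = WittVector.mk p fun i => G ^ p ^ i * Z.coeff i := by
    apply map_injective (MvPolynomial.map (Int.castRingHom ℚ))
      (MvPolynomial.map_injective (Int.castRingHom ℚ) Int.cast_injective)
    haveI : Invertible (p : MvPolynomial (Option ℕ) ℚ) :=
      (invertibleOfNonzero (Nat.cast_ne_zero.mpr hp.out.ne_zero : (p : ℚ) ≠ 0)).map
        (algebraMap ℚ (MvPolynomial (Option ℕ) ℚ)) |>.copy _ (map_natCast _ _).symm
    apply (ghostMap.bijective_of_invertible p (MvPolynomial (Option ℕ) ℚ)).1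
    funext m
    rw [map_mul, map_teichmuller, map_mul, Pi.mul_apply]
    rw [ghostMap_apply, ghostMap_apply, ghostMap_apply, ghostComponent_teichmuller,
      ghostComponent_apply, ghostComponent_apply, aeval_wittPolynomial, aeval_wittPolynomial,
      Finset.mul_sum]
    refine Finset.sum_congr rfl fun i hi => ?_
    simp only [map_coeff, Z, WittVector.coeff_mk, map_mul, map_pow]
    rw [mul_pow, ← pow_mul, ← pow_add,
      Nat.add_sub_cancel' (Nat.lt_succ_iff.1 (Finset.mem_range.1 hi))]
    ring
  let f : U →+* A := MvPolynomial.eval₂Hom (Int.castRingHom A) (fun o => o.elim g z.coeff)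
  have hf : WittVector.map f Z = z := by
    ext i
    simp only [Z, f, map_coeff, WittVector.coeff_mk]
    exact MvPolynomial.eval₂Hom_X' _ _ _
  have h1 := congrArg (fun w => (WittVector.map f w).coeff n) key
  simp only [map_mul, map_teichmuller, map_coeff, WittVector.coeff_mk] at h1
  rw [hf] at h1
  simp only [f, G, Z, WittVector.coeff_mk, map_pow] at h1
  rw [MvPolynomial.eval₂Hom_X', MvPolynomial.eval₂Hom_X'] at h1
  exact h1

/-- If all coefficients lie in `(g)` and `g^p = 0` then addition is coefficientwise. -/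
theorem coeff_add_of_dvd {A : Type u} [CommRing A] (g : A) (hg : g ^ p = 0) :
    ∀ (n : ℕ) (a b : WittVector p A), (∀ i, g ∣ a.coeff i) → (∀ i, g ∣ b.coeff i) →
      (a + b).coeff n = a.coeff n + b.coeff n := by
  intro n
  induction n with
  | zero => intro a b _ _; exact add_coeff_zero a b
  | succ n ih =>
    intro a b ha hb
    obtain ⟨u, hu⟩ := ha 0
    obtain ⟨w, hw⟩ := hb 0
    have split : ∀ c : WittVector p A,
        c = teichmuller p (c.coeff 0) + verschiebung (WittVector.mk p fun i => c.coeff (i + 1)) := by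
      intro c
      ext i
      rw [coeff_add_of_disjoint _ _ _ fun j => by
        cases j with
        | zero => exact Or.inr (verschiebung_coeff_zero _)
        | succ j => exact Or.inl (teichmuller_coeff_pos p _ _ j.succ_pos)]
      cases i with
      | zero => rw [teichmuller_coeff_zero, verschiebung_coeff_zero, add_zero]
      | succ i => rw [teichmuller_coeff_pos p _ _ i.succ_pos, verschiebung_coeff_succ, zero_add, WittVector.coeff_mk]
    have hT : teichmuller p (a.coeff 0) + teichmuller p (b.coeff 0) =
        teichmuller p (a.coeff 0 + b.coeff 0) := by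
      rw [hu, hw, map_mul, map_mul, ← mul_add]
      ext i
      rw [coeff_teichmuller_mul]
      cases i with
      | zero => rw [teichmuller_coeff_zero, add_coeff_zero, teichmuller_coeff_zero, teichmuller_coeff_zero]; simp [mul_add]
      | succ i =>
        rw [teichmuller_coeff_pos p _ _ i.succ_pos,
          pow_eq_zero_of_le (Nat.le_self_pow i.succ_ne_zero p) hg, zero_mul]
    set a' := WittVector.mk p fun i => a.coeff (i + 1)
    set b' := WittVector.mk p fun i => b.coeff (i + 1)
    conv_lhs => rw [split a, split b, add_add_add_comm, hT, ← map_add]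
    rw [coeff_add_of_disjoint _ _ _ fun j => by
      cases j with
      | zero => exact Or.inr (verschiebung_coeff_zero _)
      | succ j => exact Or.inl (teichmuller_coeff_pos p _ _ j.succ_pos)]
    rw [teichmuller_coeff_pos p _ _ n.succ_pos, verschiebung_coeff_succ, zero_add,
      ih a' b' (fun i => ha (i + 1)) (fun i => hb (i + 1))]
    rfl

theorem exists_root_kernel_gen (R : Type u) [CommRing R] [IsDomain R] [IsDiscreteValuationRing R]
    (lam : R) : ∃ g : R ⧸ Ideal.span {lam}, g ^ p = 0 ∧
      ∀ x : R ⧸ Ideal.span {lam}, x ^ p = 0 → g ∣ x := by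
  obtain ⟨π, hπ⟩ := IsDiscreteValuationRing.exists_irreducible R
  by_cases h0 : lam = 0
  · subst h0
    refine ⟨0, zero_pow hp.out.ne_zero, fun x hx => ?_⟩
    obtain ⟨r, rfl⟩ := Ideal.Quotient.mk_surjective x
    rw [← map_pow, Ideal.Quotient.eq_zero_iff_mem, Ideal.mem_span_singleton, zero_dvd_iff] at hx
    rw [eq_zero_of_pow_eq_zero hx, map_zero]
  · obtain ⟨v, u, rfl⟩ := IsDiscreteValuationRing.eq_unit_mul_pow_irreducible h0 hπ
    let c := (v + p - 1) / p
    have hp0 : 0 < p := hp.out.pos
    have h3 := Nat.div_add_mod (v + p - 1) p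
    have h4 := Nat.mod_lt (v + p - 1) hp0
    refine ⟨Ideal.Quotient.mk _ (π ^ c), ?_, fun x hx => ?_⟩
    · rw [← map_pow, Ideal.Quotient.eq_zero_iff_mem, Ideal.mem_span_singleton, ← pow_mul,
        Units.mul_left_dvd]
      exact pow_dvd_pow _ (by rw [mul_comm]; simp only [c]; omega)
    · obtain ⟨r, rfl⟩ := Ideal.Quotient.mk_surjective x
      rw [← map_pow, Ideal.Quotient.eq_zero_iff_mem, Ideal.mem_span_singleton, Units.mul_left_dvd] at hx
      by_cases hr : r = 0
      · simp [hr]
      obtain ⟨k, w, rfl⟩ := IsDiscreteValuationRing.eq_unit_mul_pow_irreducible hr hπ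
      rw [mul_pow, ← pow_mul, IsUnit.dvd_mul_left (w.isUnit.pow p),
        pow_dvd_pow_iff hπ.ne_zero hπ.not_isUnit] at hx
      refine map_dvd _ (dvd_mul_of_dvd_right (pow_dvd_pow _ ?_) _)
      have : c < k + 1 := by
        simp only [c]
        rw [Nat.div_lt_iff_lt_mul hp0, Nat.add_mul, one_mul]
        omega
      omega

theorem coeff_add_of_frobenius_eq_zero (R : Type u) [CommRing R] [IsDomain R]
    [IsDiscreteValuationRing R] (lam : R) (hlam : lam ∣ (p : R))
    (a b : WittVector p (R ⧸ Ideal.span {lam})) (ha : WittVector.frobenius a = 0)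
    (hb : WittVector.frobenius b = 0) (n : ℕ) : (a + b).coeff n = a.coeff n + b.coeff n := by
  rcases subsingleton_or_nontrivial (R ⧸ Ideal.span {lam}) with h | h
  · exact Subsingleton.elim _ _
  have hp0 : (p : R ⧸ Ideal.span {lam}) = 0 := by
    rw [← map_natCast (Ideal.Quotient.mk _), Ideal.Quotient.eq_zero_iff_mem, Ideal.mem_span_singleton]
    exact hlam
  haveI : CharP (R ⧸ Ideal.span {lam}) p := (CharP.charP_iff_prime_eq_zero hp.out).2 hp0
  obtain ⟨g, hg, hg'⟩ := exists_root_kernel_gen (p := p) R lam
  refine coeff_add_of_dvd g hg n a b (fun i => hg' _ ?_) (fun i => hg' _ ?_)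
  · rw [← coeff_frobenius_charP, ha, zero_coeff]
  · rw [← coeff_frobenius_charP, hb, zero_coeff]

end Groth.Agent.CAlgH3
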