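import Mathlib
/-! Comparing modules along a map of Zariski pairs with the same completion. -/

set_option autoImplicit false
universe u

open TensorProduct

namespace Groth.Agent.CAlgH3.ZariskiPairApprox

variable {A A' : Type u} [CommRing A] [CommRing A'] [Algebra A A'] {J : Ideal A}
  (hq : ∀ n : ℕ, Function.Bijective
    (Ideal.quotientMap (Ideal.map (algebraMap A A') (J ^ n)) (algebraMap A A') Ideal.le_comap_map))

include hq in
theorem exists_sub_mem (n : ℕ) (s : A') : ∃ r : A, s - algebraMap A A' r ∈ (J ^ n).map (algebraMap A A') := by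
  obtain ⟨z, hz⟩ := (hq n).2 (Ideal.Quotient.mk _ s)
  obtain ⟨r, rfl⟩ := Ideal.Quotient.mk_surjective z
  rw [Ideal.quotientMap_mk, eq_comm, Ideal.Quotient.mk_eq_mk_iff_sub_mem] at hz
  exact ⟨r, hz⟩

include hq in
theorem mem_pow_of_map_mem (n : ℕ) (a : A) (h : algebraMap A A' a ∈ (J ^ n).map (algebraMap A A')) : a ∈ J ^ n := by
  rw [← Ideal.Quotient.eq_zero_iff_mem]
  apply (hq n).1
  rw [Ideal.quotientMap_mk, map_zero, Ideal.Quotient.eq_zero_iff_mem]
  exact h

include hq in
theorem exists_sub_mem_smul {N : Type u} [AddCommGroup N] [Module A N] (n : ℕ) (z : A' ⊗[A] N) :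
    ∃ h : N, z - 1 ⊗ₜ h ∈ (J ^ n).map (algebraMap A A') • (⊤ : Submodule A' (A' ⊗[A] N)) := by
  induction z using TensorProduct.induction_on with
  | zero => exact ⟨0, by simp⟩
  | tmul s m =>
    obtain ⟨r, hr⟩ := exists_sub_mem hq n s
    refine ⟨r • m, ?_⟩
    have : s ⊗ₜ[A] m - 1 ⊗ₜ (r • m) = (s - algebraMap A A' r) • ((1 : A') ⊗ₜ[A] m) := by
      rw [smul_tmul', smul_eq_mul, mul_one, sub_tmul, Algebra.algebraMap_eq_smul_one, smul_tmul]
    rw [this]
    exact Submodule.smul_mem_smul hr trivial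
  | add x y hx hy =>
    obtain ⟨a, ha⟩ := hx
    obtain ⟨b, hb⟩ := hy
    refine ⟨a + b, ?_⟩
    rw [tmul_add, add_sub_add_comm]
    exact add_mem ha hb

include hq in
theorem flat [IsNoetherianRing A] [IsNoetherianRing A'] (hJ' : J.map (algebraMap A A') ≤ Ideal.jacobson ⊥) :
    Module.Flat A A' := by
  rw [Module.Flat.iff_lTensor_injective]
  intro a _
  rw [injective_iff_map_eq_zero]
  intro x hx
  have : Module.Finite A ↥a := Module.Finite.iff_fg.2 (IsNoetherian.noetherian a)
  have key : ∀ n : ℕ, x ∈ J.map (algebraMap A A') ^ n • (⊤ : Submodule A' (A' ⊗[A] ↥a)) := by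
    intro n
    rw [← Ideal.map_pow]
    obtain ⟨k, hk⟩ := Ideal.exists_pow_inf_eq_pow_smul J a
    obtain ⟨b, hb⟩ := exists_sub_mem_smul hq (n + k) x
    have hmono : (J ^ (n + k)).map (algebraMap A A') ≤ (J ^ n).map (algebraMap A A') :=
      Ideal.map_mono (Ideal.pow_le_pow_right (Nat.le_add_right _ _))
    let μ : A' ⊗[A] ↥a →ₗ[A'] A' := ((Algebra.linearMap A A').comp a.subtype).liftBaseChange A'
    have hx' : AlgebraTensorModule.rid A A' A' (AlgebraTensorModule.lTensor A' A' a.subtype x) = 0 := by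
      rw [show AlgebraTensorModule.lTensor A' A' a.subtype x = 0 from hx, map_zero]
    have hμ : μ x = 0 := by
      refine Eq.trans ?_ hx'
      have : μ = (AlgebraTensorModule.rid A A' A').toLinearMap.comp (AlgebraTensorModule.lTensor A' A' a.subtype) :=
        AlgebraTensorModule.curry_injective (LinearMap.ext_ring (LinearMap.ext fun y => by
          simp [μ, Algebra.algebraMap_eq_smul_one]))
      exact LinearMap.congr_fun this x
    have hbJ : (b : A) ∈ J ^ (n + k) := by
      apply mem_pow_of_map_mem hq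
      have h1 : μ (x - 1 ⊗ₜ b) ∈ Submodule.map μ ((J ^ (n + k)).map (algebraMap A A') • ⊤) :=
        Submodule.mem_map_of_mem hb
      rw [Submodule.map_smul''] at h1
      have h2 : μ (x - 1 ⊗ₜ b) ∈ (J ^ (n + k)).map (algebraMap A A') :=
        Submodule.smul_le.2 (fun r hr t _ => Ideal.mul_mem_right t _ hr) h1
      rw [map_sub, hμ, zero_sub, neg_mem_iff] at h2
      simpa [μ] using h2
    have hb' : b ∈ J ^ n • (⊤ : Submodule A ↥a) := by
      have h1 : (b : A) ∈ J ^ (n + k) • (⊤ : Submodule A A) ⊓ a := ⟨by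
        rw [smul_eq_mul, Ideal.mul_top]; exact hbJ, b.2⟩
      rw [hk (n + k) (Nat.le_add_left _ _), Nat.add_sub_cancel] at h1
      have h2 : (b : A) ∈ Submodule.map a.subtype (J ^ n • ⊤) := by
        rw [Submodule.map_smul'', Submodule.map_subtype_top]
        exact Submodule.smul_mono le_rfl inf_le_right h1
      obtain ⟨c, hc, hcb⟩ := h2
      rwa [← Subtype.ext hcb]
    have hone : (1 : A') ⊗ₜ[A] b ∈ (J ^ n).map (algebraMap A A') • (⊤ : Submodule A' (A' ⊗[A] ↥a)) := by
      refine Submodule.smul_induction_on hb' (fun r hr y _ => ?_) (fun y z hy hz => ?_)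
      · rw [tmul_smul, ← algebraMap_smul A' r ((1 : A') ⊗ₜ[A] y)]
        exact Submodule.smul_mem_smul (Ideal.mem_map_of_mem _ hr) trivial
      · rw [tmul_add]; exact add_mem hy hz
    simpa using add_mem (Submodule.smul_mono hmono le_rfl hb) hone
  have hb := Ideal.iInf_pow_smul_eq_bot_of_le_jacobson (M := A' ⊗[A] ↥a) (J.map (algebraMap A A')) hJ'
  rw [← Submodule.mem_bot A', ← hb, Submodule.mem_iInf]
  exact key

/-- If `A' ⊗ M₁ → A' ⊗ M₂` has cokernel supported in `V(J)`, some `M₁ → M₂` has smaller cokernel after base change. -/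
theorem exists_hom [IsNoetherianRing A] [IsNoetherianRing A'] (hq : ∀ n : ℕ, Function.Bijective
      (Ideal.quotientMap (Ideal.map (algebraMap A A') (J ^ n)) (algebraMap A A') Ideal.le_comap_map))
    (hJ' : J.map (algebraMap A A') ≤ Ideal.jacobson ⊥) {M₁ M₂ : Type u} [AddCommGroup M₁] [Module A M₁]
    [Module.Finite A M₁] [AddCommGroup M₂] [Module A M₂] [Module.Finite A M₂]
    (ψ : A' ⊗[A] M₁ →ₗ[A'] A' ⊗[A] M₂)
    (hψ : Module.support A' ((A' ⊗[A] M₂) ⧸ LinearMap.range ψ) ⊆
      PrimeSpectrum.zeroLocus (J.map (algebraMap A A') : Set A')) :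
    ∃ φ : M₁ →ₗ[A] M₂, LinearMap.range ψ ≤ LinearMap.range (φ.baseChange A') := by
  have := flat hq hJ'
  set J' := J.map (algebraMap A A')
  rw [Module.support_eq_zeroLocus, PrimeSpectrum.zeroLocus_subset_zeroLocus_iff] at hψ
  obtain ⟨e, he⟩ := Ideal.exists_pow_le_of_le_radical_of_fg hψ (IsNoetherian.noetherian _)
  have he' : J' ^ e • (⊤ : Submodule A' (A' ⊗[A] M₂)) ≤ LinearMap.range ψ := Submodule.smul_le.2 fun r hr m _ => by
    have := Module.mem_annihilator.1 (he hr) (Submodule.Quotient.mk m)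
    rwa [← Submodule.Quotient.mk_smul, Submodule.Quotient.mk_eq_zero] at this
  have := Module.finitePresentation_of_finite A M₁
  have hbc := Module.FinitePresentation.isBaseChange_map A M₁ M₂ A'
  obtain ⟨z, hz⟩ := hbc.equiv.surjective ψ
  obtain ⟨φ, hφ⟩ := exists_sub_mem_smul hq (e + 1) z
  refine ⟨φ, ?_⟩
  have hmem : ψ - φ.baseChange A' ∈ J' ^ (e + 1) • (⊤ : Submodule A' _) := by
    have h1 := Submodule.mem_map_of_mem (f := hbc.equiv.toLinearMap) hφ
    rw [Submodule.map_smul'', Ideal.map_pow] at h1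
    have h2 : hbc.equiv.toLinearMap (z - 1 ⊗ₜ φ) = ψ - φ.baseChange A' := by
      rw [map_sub]
      simp only [LinearEquiv.coe_coe, hz, IsBaseChange.equiv_tmul, one_smul]
      rfl
    rw [h2] at h1
    exact Submodule.smul_mono le_rfl le_top h1
  have hrange : LinearMap.range ψ ≤ LinearMap.range (φ.baseChange A') ⊔ J' • LinearMap.range ψ := by
    rintro _ ⟨w, rfl⟩
    have h3 : (ψ - φ.baseChange A') w ∈ J' ^ (e + 1) • (⊤ : Submodule A' (A' ⊗[A] M₂)) := by
      refine Submodule.smul_induction_on hmem (fun r hr f _ => ?_) (fun f g hf hg => ?_)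
      · exact Submodule.smul_mem_smul hr trivial
      · exact add_mem hf hg
    rw [pow_succ', ← smul_eq_mul, Submodule.smul_assoc] at h3
    refine Submodule.mem_sup.2 ⟨φ.baseChange A' w, ⟨w, rfl⟩, _, Submodule.smul_mono le_rfl he' h3, ?_⟩
    rw [LinearMap.sub_apply, add_sub_cancel]
  exact Submodule.le_of_le_smul_of_le_jacobson_bot (IsNoetherian.noetherian _) hJ' hrange

end Groth.Agent.CAlgH3.ZariskiPairApprox
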