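import Groth.Agent.CAlgH3.ZariskiPairApprox
import Groth.Agent.CAlgH3.TildeStalkSurj
import Groth.Agent.CAlgH3.SupportAffine
import Groth.Agent.SubAvoid14.Extend
import Groth.Agent.Coherent.SubFTApps
import Groth.Agent.Flatn12.PullbackSections
import Groth.Agent.SplitP1.Split
import Groth.Agent.RefHullLib.Restrict
import Groth.Agent.Props12.TildeFin

/-! Vector bundles on an open of a Zariski pair and on its completion-equivalent extension. -/

set_option autoImplicit false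
set_option backward.isDefEq.respectTransparency.types false
set_option linter.style.haveILetI false
set_option maxHeartbeats 1000000
universe u

open CategoryTheory CategoryTheory.Limits AlgebraicGeometry Opposite TopologicalSpace TensorProduct

namespace Groth.Agent.CAlgH3.ZariskiPairBundles

/-- A faithfully flat base change detects inclusions of submodules. -/
theorem le_of_baseChange {A A' : Type u} [CommRing A] [CommRing A'] [Algebra A A'] [Module.FaithfullyFlat A A']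
    {M N : Type u} [AddCommGroup M] [Module A M] [AddCommGroup N] [Module A N] (φ : M →ₗ[A] N) (n : N)
    (h : (1 : A') ⊗ₜ[A] n ∈ LinearMap.range (φ.baseChange A')) : n ∈ LinearMap.range φ := by
  have hinj := Module.FaithfullyFlat.tensorProduct_mk_injective (A := A) (B := A') (N ⧸ LinearMap.range φ)
  rw [← Submodule.Quotient.mk_eq_zero]
  apply hinj
  rw [map_zero]
  show (1 : A') ⊗ₜ[A] (LinearMap.range φ).mkQ n = 0
  obtain ⟨w, hw⟩ := h
  rw [← LinearMap.baseChange_tmul, ← hw, ← LinearMap.comp_apply, ← LinearMap.baseChange_comp,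
    show (LinearMap.range φ).mkQ.comp φ = 0 from LinearMap.range_le_ker_iff.1 (Submodule.ker_mkQ _).ge,
    LinearMap.baseChange_zero, LinearMap.zero_apply]

theorem faithfullyFlat {A A' : Type u} [CommRing A] [CommRing A'] [Algebra A A'] [IsNoetherianRing A]
    [IsNoetherianRing A'] {J : Ideal A} (hJ : J ≤ Ideal.jacobson ⊥) (hJ' : J.map (algebraMap A A') ≤ Ideal.jacobson ⊥)
    (hq : ∀ n : ℕ, Function.Bijective
      (Ideal.quotientMap (Ideal.map (algebraMap A A') (J ^ n)) (algebraMap A A') Ideal.le_comap_map)) :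
    Module.FaithfullyFlat A A' := by
  have := ZariskiPairApprox.flat hq hJ'
  refine ⟨fun m hm htop => ?_⟩
  have h1 : (1 : A') ∈ m • (⊤ : Submodule A A') := by rw [htop]; trivial
  have key : ∀ z ∈ m • (⊤ : Submodule A A'), ∃ r ∈ m, z - algebraMap A A' r ∈ (J ^ 1).map (algebraMap A A') := by
    intro z hz
    refine Submodule.smul_induction_on hz (fun a ha t _ => ?_) (fun y z hy hz => ?_)
    · obtain ⟨r, hr⟩ := ZariskiPairApprox.exists_sub_mem hq 1 t
      refine ⟨a * r, m.mul_mem_right r ha, ?_⟩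
      rw [map_mul, Algebra.smul_def, ← mul_sub]
      exact Ideal.mul_mem_left _ _ hr
    · obtain ⟨r, hr, h⟩ := hy
      obtain ⟨r', hr', h'⟩ := hz
      exact ⟨r + r', add_mem hr hr', by rw [map_add, add_sub_add_comm]; exact add_mem h h'⟩
  obtain ⟨r, hr, h⟩ := key 1 h1
  rw [← map_one (algebraMap A A'), ← map_sub] at h
  have h2 := ZariskiPairApprox.mem_pow_of_map_mem hq 1 (1 - r) h
  rw [pow_one] at h2
  have h3 : 1 - r ∈ m := (hJ.trans (sInf_le ⟨bot_le, hm⟩)) h2
  exact hm.ne_top ((Ideal.eq_top_iff_one m).2 (by simpa using add_mem h3 hr))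

/-- The algebraic core. -/
theorem exists_model {A A' : Type u} [CommRing A] [CommRing A'] [Algebra A A'] [IsNoetherianRing A]
    [IsNoetherianRing A'] {J I : Ideal A} {c : ℕ} (hc : J ^ c ≤ I) (hJ : J ≤ Ideal.jacobson ⊥)
    (hJ' : J.map (algebraMap A A') ≤ Ideal.jacobson ⊥)
    (hq : ∀ n : ℕ, Function.Bijective
      (Ideal.quotientMap (Ideal.map (algebraMap A A') (J ^ n)) (algebraMap A A') Ideal.le_comap_map))
    (M₁ M₂ N' : Type u) [AddCommGroup M₁] [Module A M₁] [Module.Finite A M₁] [AddCommGroup M₂] [Module A M₂]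
    [Module.Finite A M₂] [AddCommGroup N'] [Module A' N'] (ι : N' →ₗ[A'] A' ⊗[A] M₁) (hι : Function.Injective ι)
    (θ : N' →ₗ[A'] A' ⊗[A] M₂) (a b : ℕ)
    (ha : I.map (algebraMap A A') ^ a • (⊤ : Submodule A' (A' ⊗[A] M₁)) ≤ LinearMap.range ι)
    (hb : I.map (algebraMap A A') ^ b • (⊤ : Submodule A' (A' ⊗[A] M₂)) ≤ LinearMap.range θ) :
    ∃ (φ : ↥(I ^ a • (⊤ : Submodule A M₁)) →ₗ[A] M₂) (e : ℕ), I ^ e • (⊤ : Submodule A M₂) ≤ LinearMap.range φ := by
  have := faithfullyFlat hJ hJ' hq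
  set I' := I.map (algebraMap A A')
  set M₀ := I ^ a • (⊤ : Submodule A M₁)
  have hone : ∀ {N : Type u} [AddCommGroup N] [Module A N] (k : ℕ) (n : N), n ∈ I ^ k • (⊤ : Submodule A N) →
      (1 : A') ⊗ₜ[A] n ∈ I' ^ k • (⊤ : Submodule A' (A' ⊗[A] N)) := by
    intro N _ _ k n hn
    refine Submodule.smul_induction_on hn (fun r hr y _ => ?_) (fun y z hy hz => ?_)
    · rw [tmul_smul, ← algebraMap_smul A' r ((1 : A') ⊗ₜ[A] y)]
      exact Submodule.smul_mem_smul (by rw [← Ideal.map_pow]; exact Ideal.mem_map_of_mem _ hr) trivial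
    · rw [tmul_add]; exact add_mem hy hz
  let j : A' ⊗[A] ↥M₀ →ₗ[A'] A' ⊗[A] M₁ := M₀.subtype.baseChange A'
  have hj : LinearMap.range j ≤ LinearMap.range ι := by
    rintro _ ⟨w, rfl⟩
    induction w using TensorProduct.induction_on with
    | zero => rw [map_zero]; exact zero_mem _
    | add x y hx hy => rw [map_add]; exact add_mem hx hy
    | tmul t m =>
      rw [show j (t ⊗ₜ m) = t • ((1 : A') ⊗ₜ[A] (m : M₁)) by rw [smul_tmul', smul_eq_mul, mul_one]; rfl]
      exact Submodule.smul_mem _ _ (ha (hone a _ m.2))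
  let lift : A' ⊗[A] ↥M₀ →ₗ[A'] N' :=
    (LinearEquiv.ofInjective ι hι).symm.toLinearMap.comp
      (j.codRestrict (LinearMap.range ι) fun w => hj ⟨w, rfl⟩)
  have hlift : ∀ w, ι (lift w) = j w := fun w =>
    congrArg Subtype.val ((LinearEquiv.ofInjective ι hι).apply_symm_apply (⟨j w, hj ⟨w, rfl⟩⟩ : LinearMap.range ι))
  let ψ := θ.comp lift
  have hlr : ∀ n : N', ∀ r ∈ I' ^ a, r • n ∈ LinearMap.range lift := by
    intro n r hr
    have h1 : r • ι n ∈ Submodule.span A' (Set.range fun m : ↥M₀ => (1 : A') ⊗ₜ[A] (m : M₁)) := by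
      generalize ι n = z
      rw [← Ideal.map_pow] at hr
      induction z using TensorProduct.induction_on with
      | zero => rw [smul_zero]; exact zero_mem _
      | add x y hx hy => rw [smul_add]; exact add_mem hx hy
      | tmul t m =>
        induction hr using Submodule.span_induction with
        | mem x hx =>
          obtain ⟨i, hi, rfl⟩ := hx
          rw [algebraMap_smul, ← tmul_smul, show t ⊗ₜ[A] (i • m) = t • ((1 : A') ⊗ₜ[A] (i • m)) by
            rw [smul_tmul', smul_eq_mul, mul_one]]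
          exact Submodule.smul_mem _ _ (Submodule.subset_span
            ⟨⟨i • m, Submodule.smul_mem_smul hi trivial⟩, rfl⟩)
        | zero => rw [zero_smul]; exact zero_mem _
        | add x y _ _ hx hy => rw [add_smul]; exact add_mem hx hy
        | smul s x _ hx => rw [smul_assoc]; exact Submodule.smul_mem _ _ hx
    have h2 : Submodule.span A' (Set.range fun m : ↥M₀ => (1 : A') ⊗ₜ[A] (m : M₁)) ≤ LinearMap.range j :=
      Submodule.span_le.2 (by rintro _ ⟨m, rfl⟩; exact ⟨1 ⊗ₜ m, rfl⟩)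
    obtain ⟨w, hw⟩ := h2 h1
    exact ⟨w, hι (by rw [hlift, hw, map_smul])⟩
  have hψ : I' ^ (a + b) • (⊤ : Submodule A' (A' ⊗[A] M₂)) ≤ LinearMap.range ψ := by
    rw [pow_add, ← smul_eq_mul, Submodule.smul_assoc]
    refine Submodule.smul_le.2 fun r hr m hm => ?_
    obtain ⟨n, rfl⟩ := hb hm
    obtain ⟨w, hw⟩ := hlr n r hr
    exact ⟨w, by rw [LinearMap.comp_apply, hw, map_smul]⟩
  have hsupp : Module.support A' ((A' ⊗[A] M₂) ⧸ LinearMap.range ψ) ⊆
      PrimeSpectrum.zeroLocus (J.map (algebraMap A A') : Set A') := by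
    rw [Module.support_eq_zeroLocus, PrimeSpectrum.zeroLocus_subset_zeroLocus_iff]
    intro x hx
    have hxc : x ^ (c * (a + b)) ∈ I' ^ (a + b) := by
      rw [pow_mul]
      refine Ideal.pow_mem_pow ?_ _
      have := Ideal.pow_mem_pow hx c
      rw [← Ideal.map_pow] at this
      exact Ideal.map_mono hc this
    refine ⟨c * (a + b), Module.mem_annihilator.2 fun q => ?_⟩
    obtain ⟨m, rfl⟩ := Submodule.Quotient.mk_surjective _ q
    rw [← Submodule.Quotient.mk_smul, Submodule.Quotient.mk_eq_zero]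
    exact hψ (Submodule.smul_mem_smul hxc trivial)
  obtain ⟨φ, hφ⟩ := ZariskiPairApprox.exists_hom hq hJ' ψ hsupp
  exact ⟨φ, a + b, fun n hn => le_of_baseChange φ n (hφ (hψ (hone _ n hn)))⟩

theorem exists_basis_stalk {X : Scheme.{u}} (U : X.Opens) (G : X.Modules) {n : ℕ} {E : (U : Scheme.{u}).Modules}
    (hE : FlatMod.IsFinLocFreeOfRank n E) (e : G.restrict U.ι ≅ E) {z : X} (hz : z ∈ U) :
    Nonempty (Module.Basis (Fin n) (X.presheaf.stalk z) (G.presheaf.stalk z)) := by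
  obtain ⟨b⟩ := SplitP1.nonempty_basis_stalk hE ⟨z, hz⟩
  obtain ⟨φ, s, hs, -⟩ := RefHullLib.exists_semilinear_restrict U.ι G ⟨z, hz⟩
  let l := ((DerSch.stalkFunctor (U : Scheme.{u}) ⟨z, hz⟩).mapIso e).toLinearEquiv
  let T : G.presheaf.stalk z ≃+ (Fin n → X.presheaf.stalk z) :=
    (s.trans (l.toAddEquiv.trans b.equivFun.toAddEquiv)).trans
      (AddEquiv.piCongrRight fun _ => φ.symm.toAddEquiv)
  refine ⟨Module.Basis.ofEquivFun { T with map_smul' := fun r v => ?_ }⟩
  funext i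
  show φ.symm (b.equivFun (l (s (r • v))) i) =
    HMul.hMul (α := X.presheaf.stalk z) (β := X.presheaf.stalk z) r (φ.symm (b.equivFun (l (s v)) i))
  rw [show s (r • v) = φ r • s v from hs r v]
  erw [map_smul, map_smul]
  rw [Pi.smul_apply, smul_eq_mul, map_mul, φ.symm_apply_apply]
  rfl

theorem finite_sections {R : CommRingCat.{u}} [IsNoetherianRing R] (G : (Spec R).Modules) (hG : Coh.IsCoh G) :
    Module.Finite R ↥((modulesSpecToSheaf.obj G).presheaf.obj (op ⊤)) := by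
  haveI := ((Coherent.isCoh_iff_finite_sections G).1 hG).2 ⊤ (isAffineOpen_top _)
  haveI : Module.Finite R Γ(Spec R, ⊤) :=
    Module.Finite.of_surjective (Algebra.linearMap R Γ(Spec R, ⊤)) Props12.bijective_algebraMap_top.2
  exact (Module.Finite.trans Γ(Spec R, ⊤) Γ(G, ⊤) : Module.Finite R Γ(G, ⊤))

theorem isCoh_tilde {R : CommRingCat.{u}} [IsNoetherianRing R] (M : ModuleCat.{u} R) [Module.Finite R M] :
    Coh.IsCoh (tilde M) := ⟨inferInstance, (Props12.isFT_tilde_iff M).2 inferInstance⟩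

theorem exists_extension {R : CommRingCat.{u}} [IsNoetherianRing R] (U : (Spec R).Opens) {n : ℕ}
    (E : (U : Scheme.{u}).Modules) (hE : FlatMod.IsFinLocFreeOfRank n E) :
    ∃ M : ModuleCat.{u} R, Module.Finite R M ∧ Nonempty ((tilde M).restrict U.ι ≅ E) := by
  haveI : IsLocallyNoetherian (U : Scheme.{u}) := inferInstance
  have hc := SplitP1.isCoh_of_rank hE
  haveI := hc.1
  obtain ⟨G, hG, hGft, ⟨e⟩⟩ := Coherent.exists_finiteType_extension_module
    (fun x => ⟨⊤, trivial, inferInstance⟩) U E hc.2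
  haveI : IsIso G.fromTildeΓ := (isQuasicoherent_iff_isIso_fromTildeΓ _).1 hG
  exact ⟨(modulesSpecToSheaf.obj G).presheaf.obj (op ⊤), finite_sections G ⟨hG, hGft⟩,
    ⟨(Scheme.Modules.restrictFunctor U.ι).mapIso (asIso G.fromTildeΓ) ≪≫ e⟩⟩

theorem nonempty_comparison {R R' : CommRingCat.{u}} (f : R ⟶ R') (U : (Spec R).Opens) (M : ModuleCat.{u} R)
    (E : (U : Scheme.{u}).Modules) (e : (tilde M).restrict U.ι ≅ E) :
    Nonempty ((tilde ((ModuleCat.extendScalars f.hom).obj M)).restrict ((Spec.map f) ⁻¹ᵁ U).ι ≅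
      (Scheme.Modules.pullback (Spec.map f ∣_ U)).obj E) :=
  ⟨(Scheme.Modules.restrictFunctor ((Spec.map f) ⁻¹ᵁ U).ι).mapIso ((Flatn12.tildePullbackIso f).app M).symm ≪≫
      (Scheme.Modules.restrictFunctorIsoPullback ((Spec.map f) ⁻¹ᵁ U).ι).app _ ≪≫
      (Scheme.Modules.pullbackComp ((Spec.map f) ⁻¹ᵁ U).ι (Spec.map f)).app (tilde M) ≪≫
      (Scheme.Modules.pullbackCongr (morphismRestrict_ι (Spec.map f) U).symm).app (tilde M) ≪≫
      ((Scheme.Modules.pullbackComp (Spec.map f ∣_ U) U.ι).app (tilde M)).symm ≪≫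
      (Scheme.Modules.pullback (Spec.map f ∣_ U)).mapIso
        (((Scheme.Modules.restrictFunctorIsoPullback U.ι).app (tilde M)).symm ≪≫ e)⟩

theorem exists_roof {R : CommRingCat.{u}} [IsNoetherianRing R] (M₁ M₂ : ModuleCat.{u} R) [Module.Finite R M₁]
    [Module.Finite R M₂] (U : (Spec R).Opens) (I : Ideal R) (hI : ∀ y : Spec R, ¬ I ≤ y.asIdeal → y ∈ U)
    (φ₀ : (tilde M₁).restrict U.ι ≅ (tilde M₂).restrict U.ι) :
    ∃ (N : ModuleCat.{u} R) (ιm : N ⟶ M₁) (θm : N ⟶ M₂), Function.Injective ιm ∧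
      ∃ a b : ℕ, I ^ a • (⊤ : Submodule R M₁) ≤ LinearMap.range ιm.hom ∧
        I ^ b • (⊤ : Submodule R M₂) ≤ LinearMap.range θm.hom := by
  obtain ⟨F', ι, θ, hmono, hF', hιiso, hθ⟩ :=
    SubAvoid14.exists_hom_extension (tilde M₁) (tilde M₂) (isCoh_tilde M₁) (isCoh_tilde M₂) U φ₀.hom
  haveI : IsIso F'.fromTildeΓ := (isQuasicoherent_iff_isIso_fromTildeΓ _).1 hF'.1
  let N : ModuleCat.{u} R := (modulesSpecToSheaf.obj F').presheaf.obj (op ⊤)
  let ιm : N ⟶ M₁ := (tilde.functor R).preimage (F'.fromTildeΓ ≫ ι)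
  let θm : N ⟶ M₂ := (tilde.functor R).preimage (F'.fromTildeΓ ≫ θ)
  have hιm : tilde.map ιm = F'.fromTildeΓ ≫ ι := (tilde.functor R).map_preimage _
  have hθm : tilde.map θm = F'.fromTildeΓ ≫ θ := (tilde.functor R).map_preimage _
  haveI : Mono ιm := by
    haveI : Mono ((tilde.functor R).map ιm) := by
      show Mono (tilde.map ιm)
      rw [hιm]; exact mono_comp _ _
    exact (tilde.functor R).mono_of_mono_map inferInstance
  haveI : IsIso ((Scheme.Modules.restrictFunctor U.ι).map θ) := by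
    rw [hθ]; infer_instance
  have hsι : ∀ y : Spec R, ¬ I ≤ y.asIdeal →
      Function.Surjective ((DerSch.stalkFunctor (Spec R) y).map (tilde.map ιm)) := fun y hy => by
    rw [hιm, Functor.map_comp]
    exact (SubAvoid14.bijective_of_isIso_restrict ι U (z := y) (hI y hy)).2.comp
      (ConcreteCategory.bijective_of_isIso ((DerSch.stalkFunctor (Spec R) y).map F'.fromTildeΓ)).2
  have hsθ : ∀ y : Spec R, ¬ I ≤ y.asIdeal →
      Function.Surjective ((DerSch.stalkFunctor (Spec R) y).map (tilde.map θm)) := fun y hy => by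
    rw [hθm, Functor.map_comp]
    exact (SubAvoid14.bijective_of_isIso_restrict θ U (z := y) (hI y hy)).2.comp
      (ConcreteCategory.bijective_of_isIso ((DerSch.stalkFunctor (Spec R) y).map F'.fromTildeΓ)).2
  obtain ⟨a, ha⟩ := TildeStalkSurj.exists_pow_smul_le ιm I hsι
  obtain ⟨b, hb⟩ := TildeStalkSurj.exists_pow_smul_le θm I hsθ
  exact ⟨N, ιm, θm, (ModuleCat.mono_iff_injective ιm).1 inferInstance, a, b, ha, hb⟩

theorem nonempty_iso_of_hom {R : CommRingCat.{u}} [IsNoetherianRing R] (U : (Spec R).Opens) (I : Ideal R)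
    (hnot : ∀ z ∈ U, ¬ I ≤ z.asIdeal) {n : ℕ}
    {E₁ E₂ : (U : Scheme.{u}).Modules} (h₁ : FlatMod.IsFinLocFreeOfRank n E₁) (h₂ : FlatMod.IsFinLocFreeOfRank n E₂)
    {M₀ M₁ M₂ : ModuleCat.{u} R} (e₁ : (tilde M₁).restrict U.ι ≅ E₁) (e₂ : (tilde M₂).restrict U.ι ≅ E₂)
    (i : M₀ ⟶ M₁) (hinj : Function.Injective i) (a : ℕ) (ha : I ^ a • (⊤ : Submodule R M₁) ≤ LinearMap.range i.hom)
    (hm : M₀ ⟶ M₂) (e : ℕ) (he : I ^ e • (⊤ : Submodule R M₂) ≤ LinearMap.range hm.hom) :
    Nonempty (E₁ ≅ E₂) := by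
  have hi : ∀ z ∈ U, Function.Bijective ((DerSch.stalkFunctor (Spec R) z).map (tilde.map i)) := fun z hz =>
    ⟨TildeStalkSurj.injective_stalk i z hinj,
      TildeStalkSurj.surjective_of_pow_smul_le i z I (e := a) ha (hnot z hz)⟩
  have hh : ∀ z ∈ U, Function.Bijective ((DerSch.stalkFunctor (Spec R) z).map (tilde.map hm)) := by
    intro z hz
    have hs := TildeStalkSurj.surjective_of_pow_smul_le hm z I (e := e) he (hnot z hz)
    obtain ⟨b₁⟩ := exists_basis_stalk U (tilde M₁) h₁ e₁ hz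
    obtain ⟨b₂⟩ := exists_basis_stalk U (tilde M₂) h₂ e₂ hz
    let l : (tilde M₀).presheaf.stalk z →ₗ[(Spec R).presheaf.stalk z] (tilde M₂).presheaf.stalk z :=
      Algz.stalkMapₗ (tilde.map hm) z
    let li := LinearEquiv.ofBijective (Algz.stalkMapₗ (tilde.map i) z) (hi z hz)
    let eq : (tilde M₀).presheaf.stalk z ≃ₗ[(Spec R).presheaf.stalk z] (tilde M₂).presheaf.stalk z :=
      li ≪≫ₗ b₁.equiv b₂ (Equiv.refl _)
    haveI : Module.Finite ((Spec R).presheaf.stalk z) ((tilde M₀).presheaf.stalk z) :=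
      Module.Finite.equiv (li ≪≫ₗ b₁.equivFun).symm
    refine ⟨fun x y hxy => ?_, hs⟩
    have hinj : Function.Injective (eq.symm.toLinearMap.comp l) :=
      OrzechProperty.injective_of_surjective_endomorphism _ (eq.symm.surjective.comp hs)
    exact hinj (congrArg eq.symm hxy)
  haveI := SubAvoid14.isIso_restrict_of_bijective (tilde.map i) U hi
  haveI := SubAvoid14.isIso_restrict_of_bijective (tilde.map hm) U hh
  exact ⟨e₁.symm ≪≫ (asIso ((Scheme.Modules.restrictFunctor U.ι).map (tilde.map i))).symm ≪≫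
    asIso ((Scheme.Modules.restrictFunctor U.ι).map (tilde.map hm)) ≪≫ e₂⟩

theorem main (A A' : Type u) [CommRing A] [CommRing A']
    [IsNoetherianRing A] [IsNoetherianRing A'] (φ : A →+* A') (J : Ideal A)
    (hJ : J ≤ (⊥ : Ideal A).jacobson) (hJ' : J.map φ ≤ (⊥ : Ideal A').jacobson)
    (hq : ∀ n : ℕ, Function.Bijective (Ideal.quotientMap (Ideal.map φ (J ^ n)) φ Ideal.le_comap_map))
    (U : (Spec (CommRingCat.of A)).Opens)
    (hU : ∀ p : PrimeSpectrum A, ¬ J ≤ p.asIdeal → p ∈ U)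
    (n : ℕ) (E₁ E₂ : (U : Scheme.{u}).Modules)
    (h₁ : FlatMod.IsFinLocFreeOfRank n E₁) (h₂ : FlatMod.IsFinLocFreeOfRank n E₂)
    (hiso : Nonempty ((Scheme.Modules.pullback ((Spec.map (CommRingCat.ofHom φ)) ∣_ U)).obj E₁ ≅
      (Scheme.Modules.pullback ((Spec.map (CommRingCat.ofHom φ)) ∣_ U)).obj E₂)) :
    Nonempty (E₁ ≅ E₂) := by
  obtain ⟨e₀⟩ := hiso
  letI := φ.toAlgebra
  let R := CommRingCat.of A
  let R' := CommRingCat.of A'
  let f : R ⟶ R' := CommRingCat.ofHom φ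
  let g := Spec.map f
  haveI : IsNoetherianRing R := inferInstanceAs (IsNoetherianRing A)
  haveI : IsNoetherianRing R' := inferInstanceAs (IsNoetherianRing A')
  obtain ⟨M₁, hM₁, ⟨e₁⟩⟩ := exists_extension U E₁ h₁
  obtain ⟨M₂, hM₂, ⟨e₂⟩⟩ := exists_extension U E₂ h₂
  let U' := g ⁻¹ᵁ U
  obtain ⟨c₁⟩ := nonempty_comparison f U M₁ E₁ e₁
  obtain ⟨c₂⟩ := nonempty_comparison f U M₂ E₂ e₂
  let M₁' : ModuleCat.{u} R' := (ModuleCat.extendScalars f.hom).obj M₁
  let M₂' : ModuleCat.{u} R' := (ModuleCat.extendScalars f.hom).obj M₂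
  haveI : Module.Finite R' M₁' := inferInstanceAs (Module.Finite A' (A' ⊗[A] M₁))
  haveI : Module.Finite R' M₂' := inferInstanceAs (Module.Finite A' (A' ⊗[A] M₂))
  haveI : IsNoetherianRing R' := inferInstance
  let I : Ideal A := SupportAffine.idealC U
  have hI' : ∀ y : Spec R', ¬ I.map φ ≤ y.asIdeal → y ∈ Spec.map f ⁻¹ᵁ U := by
    intro y hy
    by_contra h
    apply hy
    rw [Ideal.map_le_iff_le_comap]
    exact (SupportAffine.le_iff_notMem U (PrimeSpectrum.comap φ y)).2 h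
  obtain ⟨c, hc⟩ := Ideal.exists_pow_le_of_le_radical_of_fg (I := J) (J := I) (by
    refine le_trans ?_ Ideal.le_radical
    intro x hx
    refine (PrimeSpectrum.mem_vanishingIdeal _ _).2 fun p hp => ?_
    by_contra hxp
    exact hp (hU p fun h => hxp (h hx))) (IsNoetherian.noetherian _)
  obtain ⟨N, ιm, θm, hιinj, a, b, ha, hb⟩ :=
    exists_roof M₁' M₂' (Spec.map f ⁻¹ᵁ U) (I.map φ) hI' (c₁ ≪≫ e₀ ≪≫ c₂.symm)
  obtain ⟨h, e, he⟩ := exists_model hc hJ hJ' hq M₁ M₂ N ιm.hom hιinj θm.hom a b ha hb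
  exact nonempty_iso_of_hom U I (fun z hz h' => (SupportAffine.le_iff_notMem U z).1 h' hz) h₁ h₂ e₁ e₂
    (ModuleCat.ofHom (I ^ a • (⊤ : Submodule A M₁)).subtype) Subtype.val_injective a
    (by rw [ModuleCat.hom_ofHom, Submodule.range_subtype]) (ModuleCat.ofHom h) e he

end Groth.Agent.CAlgH3.ZariskiPairBundles
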